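import Mathlib

set_option autoImplicit false
set_option linter.unusedSectionVars false

/-! # Counting Klein four-subgroups through pairs of commuting involutions -/

namespace Cfsg.Agent.Helper13.KleinCount

variable {G : Type*} [Group G]

/-- the four-group generated by two commuting involutions -/
def kleinOf (x y : G) (hx : x * x = 1) (hy : y * y = 1) (hxy : x * y = y * x) : Subgroup G where
  carrier := {1, x, y, x * y}
  one_mem' := Or.inl rfl
  mul_mem' := by
    have e1 : x * (x * y) = y := by rw [← mul_assoc, hx, one_mul]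
    have e2 : y * x = x * y := hxy.symm
    have e3 : y * (x * y) = x := by rw [← mul_assoc, e2, mul_assoc, hy, mul_one]
    have e4 : x * y * x = y := by rw [mul_assoc, e2, e1]
    have e5 : x * y * y = x := by rw [mul_assoc, hy, mul_one]
    have e6 : x * y * (x * y) = 1 := by rw [mul_assoc, e3, hx]
    intro a b ha hb
    simp only [Set.mem_insert_iff, Set.mem_singleton_iff] at ha hb ⊢
    rcases ha with rfl | rfl | rfl | rfl <;> rcases hb with rfl | rfl | rfl | rfl
    · left; rw [one_mul]
    · right; left; rw [one_mul]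
    · right; right; left; rw [one_mul]
    · right; right; right; rw [one_mul]
    · right; left; rw [mul_one]
    · left; exact hx
    · right; right; right; rfl
    · right; right; left; exact e1
    · right; right; left; rw [mul_one]
    · right; right; right; exact e2
    · left; exact hy
    · right; left; exact e3
    · right; right; right; rw [mul_one]
    · right; right; left; exact e4
    · right; left; exact e5
    · left; exact e6
  inv_mem' := by
    have e2 : y * x = x * y := hxy.symm
    have e3 : y * (x * y) = x := by rw [← mul_assoc, e2, mul_assoc, hy, mul_one]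
    have e6 : x * y * (x * y) = 1 := by rw [mul_assoc, e3, hx]
    intro a ha
    simp only [Set.mem_insert_iff, Set.mem_singleton_iff] at ha ⊢
    rcases ha with rfl | rfl | rfl | rfl
    · left; exact inv_one
    · right; left; exact inv_eq_of_mul_eq_one_right hx
    · right; right; left; exact inv_eq_of_mul_eq_one_right hy
    · right; right; right; exact inv_eq_of_mul_eq_one_right e6

theorem mem_kleinOf {x y : G} {hx : x * x = 1} {hy : y * y = 1} {hxy : x * y = y * x} {z : G} :
    z ∈ kleinOf x y hx hy hxy ↔ z = 1 ∨ z = x ∨ z = y ∨ z = x * y := Iff.rfl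

theorem card_kleinOf {x y : G} (hx : x * x = 1) (hy : y * y = 1) (hxy : x * y = y * x)
    (hx1 : x ≠ 1) (hy1 : y ≠ 1) (hne : x ≠ y) : Nat.card (kleinOf x y hx hy hxy) = 4 := by
  classical
  have h1 : ((kleinOf x y hx hy hxy : Subgroup G) : Set G) = ↑({1, x, y, x * y} : Finset G) := by
    ext z
    simp only [Finset.coe_insert, Finset.coe_singleton]
    rfl
  have h2 : Nat.card (kleinOf x y hx hy hxy) = ((kleinOf x y hx hy hxy : Subgroup G) : Set G).ncard :=
    Nat.card_coe_set_eq _
  rw [h2, h1, Set.ncard_coe_finset]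
  have n1 : x ≠ x * y := by
    intro h
    apply hy1
    have : x * 1 = x * y := by rw [mul_one]; exact h
    exact (mul_left_cancel this).symm
  have n2 : y ≠ x * y := by
    intro h
    apply hx1
    have : 1 * y = x * y := by rw [one_mul]; exact h
    exact (mul_right_cancel this).symm
  have n3 : (1 : G) ≠ x * y := by
    intro h
    apply hne
    have : x * x = x * y := by rw [hx]; exact h
    exact mul_left_cancel this
  rw [Finset.card_insert_of_notMem, Finset.card_insert_of_notMem, Finset.card_insert_of_notMem,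
    Finset.card_singleton]
  · simp only [Finset.mem_singleton]; exact n2
  · simp only [Finset.mem_insert, Finset.mem_singleton, not_or]; exact ⟨hne, n1⟩
  · simp only [Finset.mem_insert, Finset.mem_singleton, not_or]; exact ⟨hx1.symm, hy1.symm, n3⟩

theorem isKleinFour_kleinOf {x y : G} (hx : x * x = 1) (hy : y * y = 1) (hxy : x * y = y * x)
    (hx1 : x ≠ 1) (hy1 : y ≠ 1) (hne : x ≠ y) : IsKleinFour (kleinOf x y hx hy hxy) where
  card_four := card_kleinOf hx hy hxy hx1 hy1 hne
  exponent_two := by
    have e2 : y * x = x * y := hxy.symm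
    have e3 : y * (x * y) = x := by rw [← mul_assoc, e2, mul_assoc, hy, mul_one]
    have e6 : x * y * (x * y) = 1 := by rw [mul_assoc, e3, hx]
    have h1 : Monoid.exponent (kleinOf x y hx hy hxy) ∣ 2 := by
      apply Monoid.exponent_dvd_of_forall_pow_eq_one
      rintro ⟨g, hg⟩
      apply Subtype.ext
      rw [pow_two]
      change g * g = 1
      rcases mem_kleinOf.1 hg with rfl | rfl | rfl | rfl
      · exact one_mul 1
      · exact hx
      · exact hy
      · exact e6
    have h2 : Monoid.exponent (kleinOf x y hx hy hxy) ≠ 1 := by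
      intro h
      rw [Monoid.exp_eq_one_iff] at h
      apply hx1
      have hx' : x ∈ kleinOf x y hx hy hxy := mem_kleinOf.2 (Or.inr (Or.inl rfl))
      have := h.elim (⟨x, hx'⟩ : kleinOf x y hx hy hxy) 1
      exact congrArg Subtype.val this
    rcases (Nat.dvd_prime Nat.prime_two).1 h1 with h | h
    · exact absurd h h2
    · exact h

/-- facts about two distinct non-identity elements of a four-group -/
theorem klein_facts (V : Subgroup G) [hV : IsKleinFour V] {x y : G} (hxV : x ∈ V) (hyV : y ∈ V) :
    x * x = 1 ∧ y * y = 1 ∧ x * y = y * x := by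
  refine ⟨?_, ?_, ?_⟩
  · exact congrArg Subtype.val (IsKleinFour.mul_self (⟨x, hxV⟩ : V))
  · exact congrArg Subtype.val (IsKleinFour.mul_self (⟨y, hyV⟩ : V))
  · exact congrArg Subtype.val
      (mul_comm_of_exponent_two (IsKleinFour.exponent_two (G := V)) (⟨x, hxV⟩ : V) ⟨y, hyV⟩)

theorem eq_kleinOf (V : Subgroup G) [hV : IsKleinFour V] {x y : G} (hxV : x ∈ V) (hyV : y ∈ V)
    (hx1 : x ≠ 1) (hy1 : y ≠ 1) (hne : x ≠ y) :
    V = kleinOf x y (klein_facts V hxV hyV).1 (klein_facts V hxV hyV).2.1
      (klein_facts V hxV hyV).2.2 := by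
  obtain ⟨hx, hy, hxy⟩ := klein_facts V hxV hyV
  have hfin : Finite V := Nat.finite_of_card_ne_zero (by rw [IsKleinFour.card_four]; norm_num)
  symm
  apply Subgroup.eq_of_le_of_card_ge
  · intro z hz
    rcases mem_kleinOf.1 hz with rfl | rfl | rfl | rfl
    · exact V.one_mem
    · exact hxV
    · exact hyV
    · exact V.mul_mem hxV hyV
  · rw [card_kleinOf hx hy hxy hx1 hy1 hne, IsKleinFour.card_four]

theorem closure_pair_eq {x y : G} (hx : x * x = 1) (hy : y * y = 1) (hxy : x * y = y * x) :
    Subgroup.closure {x, y} = kleinOf x y hx hy hxy := by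
  apply le_antisymm
  · rw [Subgroup.closure_le]
    intro z hz
    rcases hz with rfl | rfl
    · exact mem_kleinOf.2 (Or.inr (Or.inl rfl))
    · exact mem_kleinOf.2 (Or.inr (Or.inr (Or.inl rfl)))
  · intro z hz
    have hxc : x ∈ Subgroup.closure ({x, y} : Set G) := Subgroup.subset_closure (by simp)
    have hyc : y ∈ Subgroup.closure ({x, y} : Set G) := Subgroup.subset_closure (by simp)
    rcases mem_kleinOf.1 hz with rfl | rfl | rfl | rfl
    · exact Subgroup.one_mem _
    · exact hxc
    · exact hyc
    · exact Subgroup.mul_mem _ hxc hyc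

/-- the number of ordered pairs of distinct commuting involutions is six times the number of
four-subgroups -/
theorem card_pairs (G : Type*) [Group G] [Finite G] :
    Nat.card {p : G × G // p.1 ≠ 1 ∧ p.2 ≠ 1 ∧ p.1 ≠ p.2 ∧ p.1 * p.1 = 1 ∧ p.2 * p.2 = 1 ∧
      p.1 * p.2 = p.2 * p.1} = 6 * Nat.card {V : Subgroup G // IsKleinFour V} := by
  classical
  haveI := Fintype.ofFinite G
  rw [Nat.card_eq_fintype_card, Nat.card_eq_fintype_card, Fintype.card_subtype,
    Fintype.card_subtype]
  set T := Finset.univ.filter (fun p : G × G => p.1 ≠ 1 ∧ p.2 ≠ 1 ∧ p.1 ≠ p.2 ∧ p.1 * p.1 = 1 ∧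
    p.2 * p.2 = 1 ∧ p.1 * p.2 = p.2 * p.1) with hT
  set KF := Finset.univ.filter (fun V : Subgroup G => IsKleinFour V) with hKF
  have hmap : ∀ p ∈ T, Subgroup.closure ({p.1, p.2} : Set G) ∈ KF := by
    intro p hp
    rw [hT, Finset.mem_filter] at hp
    obtain ⟨-, h1, h2, h3, h4, h5, h6⟩ := hp
    rw [hKF, Finset.mem_filter, closure_pair_eq h4 h5 h6]
    exact ⟨Finset.mem_univ _, isKleinFour_kleinOf h4 h5 h6 h1 h2 h3⟩
  rw [Finset.card_eq_sum_card_fiberwise hmap]
  have hfib : ∀ V ∈ KF, (T.filter (fun p => Subgroup.closure ({p.1, p.2} : Set G) = V)).card = 6 := by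
    intro V hV
    rw [hKF, Finset.mem_filter] at hV
    haveI : IsKleinFour V := hV.2
    have hS : ((Finset.univ.filter (fun z : G => z ∈ V)).erase 1).card = 3 := by
      rw [Finset.card_erase_of_mem (by simp [V.one_mem])]
      have : (Finset.univ.filter (fun z : G => z ∈ V)).card = 4 := by
        rw [← IsKleinFour.card_four (G := V), Nat.card_eq_fintype_card, Fintype.card_subtype]
      rw [this]
    have heq : T.filter (fun p => Subgroup.closure ({p.1, p.2} : Set G) = V) =
        ((Finset.univ.filter (fun z : G => z ∈ V)).erase 1).offDiag := by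
      ext p
      simp only [hT, Finset.mem_filter, Finset.mem_offDiag, Finset.mem_erase, Finset.mem_univ,
        true_and]
      constructor
      · rintro ⟨⟨h1, h2, h3, h4, h5, h6⟩, hcl⟩
        have hx : p.1 ∈ V := by rw [← hcl]; exact Subgroup.subset_closure (by simp)
        have hy : p.2 ∈ V := by rw [← hcl]; exact Subgroup.subset_closure (by simp)
        exact ⟨⟨h1, hx⟩, ⟨h2, hy⟩, h3⟩
      · rintro ⟨⟨h1, hx⟩, ⟨h2, hy⟩, h3⟩
        obtain ⟨h4, h5, h6⟩ := klein_facts V hx hy
        refine ⟨⟨h1, h2, h3, h4, h5, h6⟩, ?_⟩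
        rw [closure_pair_eq h4 h5 h6]
        exact (eq_kleinOf V hx hy h1 h2 h3).symm
    rw [heq, Finset.offDiag_card, hS]
  rw [Finset.sum_congr rfl hfib, Finset.sum_const, smul_eq_mul, mul_comm]

end Cfsg.Agent.Helper13.KleinCount
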