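import Mathlib
import Cfsg.Prelude.Def_Blocks
import Cfsg.Agent.Lib.Helper24.CharCentral
import Cfsg.Agent.Lib.Helper24.CharComplete

/-!
# S0996 piece CC (helper10's skeleton; proof by helper13): class multiplication constants
-/

set_option autoImplicit false
set_option linter.unusedSectionVars false
set_option linter.unusedVariables false

namespace Cfsg.Agent.Helper10.BR996

open scoped ComplexConjugate
open Cfsg Cfsg.Agent.Helper24

universe u

variable {G : Type u} [Group G] [Fintype G] [Fintype (IrrCharacter G)]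

namespace CC

theorem fwd {x y z c₁ c₂ : G} (hc : (c₁ * x * c₁⁻¹) * (c₂ * y * c₂⁻¹) = z) :
    c₁⁻¹ * z * c₁⁻¹⁻¹ = x * ((c₁⁻¹ * c₂) * y * (c₁⁻¹ * c₂)⁻¹) := by
  subst hc; group

theorem bwd {x y z w c : G} (hc : c * z * c⁻¹ = x * (w * y * w⁻¹)) :
    (c⁻¹ * x * c⁻¹⁻¹) * ((c⁻¹ * w) * y * (c⁻¹ * w)⁻¹) = z := by
  have : z = c⁻¹ * (c * z * c⁻¹) * c := by group
  rw [this, hc]; group

/-- the bijection behind the class multiplication constants -/
def pairEquiv (x y z : G) :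
    {c : G × G // (c.1 * x * c.1⁻¹) * (c.2 * y * c.2⁻¹) = z} ≃
      (Σ w : G, {c : G // c * z * c⁻¹ = x * (w * y * w⁻¹)}) where
  toFun c := ⟨c.1.1⁻¹ * c.1.2, ⟨c.1.1⁻¹, fwd c.2⟩⟩
  invFun s := ⟨(s.2.1⁻¹, s.2.1⁻¹ * s.1), bwd s.2.2⟩
  left_inv := by
    rintro ⟨⟨c₁, c₂⟩, hc⟩
    apply Subtype.ext
    simp
  right_inv := by
    rintro ⟨w, ⟨c, hc⟩⟩
    apply Sigma.subtype_ext
    · simp
    · simp

end CC

/-- PIECE CLASSCONST: the class multiplication constants. -/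
theorem class_const (x y z : G) :
    (Nat.card {c : G × G // (c.1 * x * c.1⁻¹) * (c.2 * y * c.2⁻¹) = z} : ℂ) =
      (Nat.card G : ℂ) * ∑ χ : IrrCharacter G,
        (χ : G → ℂ) x * (χ : G → ℂ) y * conj ((χ : G → ℂ) z) / (χ : G → ℂ) 1 := by
  classical
  have hne : ∀ χ : IrrCharacter G, (χ : G → ℂ) 1 ≠ 0 := by
    intro χ
    obtain ⟨n, hn, hn1⟩ := irr_one_eq χ.2
    rw [hn1]; exact_mod_cast hn.ne'
  have h1 : ∀ χ : IrrCharacter G, (Nat.card G : ℂ) *
      ((χ : G → ℂ) x * (χ : G → ℂ) y * conj ((χ : G → ℂ) z) / (χ : G → ℂ) 1) =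
      ∑ w : G, (χ : G → ℂ) (x * (w * y * w⁻¹)) * conj ((χ : G → ℂ) z) := by
    intro χ
    rw [← Finset.sum_mul, sum_char_mul_conj χ.2 x y]
    have := hne χ
    field_simp
  rw [Finset.mul_sum]
  simp only [h1]
  rw [Finset.sum_comm]
  simp only [second_orthogonality]
  rw [← Nat.cast_sum]
  congr 1
  rw [← Nat.card_sigma]
  exact Nat.card_congr (CC.pairEquiv x y z)

end Cfsg.Agent.Helper10.BR996
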