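import Mathlib
import Cfsg.Agent.Lib.Lead.TwCount
import Cfsg.Agent.Lib.Lead.ChevOrder
import Cfsg.Agent.Lib.Lead.ChevHCard

/-!
# Definitions for the centralizer of an involution of the diagonal subgroup `H` of a Chevalley group (odd characteristic)

`s = T(c) ∈ H` with all character values `χ_r(s) = ±1`, recorded by the Boolean vector `chiB` (`true` for `-1`).
The centralizer of `s` is the fixed-point group of the `Twist` "conjugation by `s`", and its order is
`|H| q^{N_s} ∑_{w ∈ Stab_W(chiB)} q^{ℓ_s(w)}`.
-/

set_option autoImplicit false
set_option linter.unusedSectionVars false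
set_option linter.unusedVariables false

namespace Cfsg.Agent.Helper13.OInv

open Cfsg Cfsg.Lie Cfsg.Agent.Lead.Chev Cfsg.Agent.Lead.Tw

/-- the word fixes the sign vector -/
def ChiFix (D : ChevalleyDatum) (chiB : ℕ → Bool) (w : List ℕ) : Prop :=
  ∀ r < D.nroots, chiB (reflWord D w r) = chiB r

/-- the action fixes the sign vector -/
def ChiFixF (D : ChevalleyDatum) (chiB : ℕ → Bool) (f : Fin D.nroots → Fin D.nroots) : Prop :=
  ∀ r : Fin D.nroots, chiB (f r).val = chiB r.val

/-- the number of positive roots with trivial sign made negative by `f` -/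
def nNegChi (D : ChevalleyDatum) (chiB : ℕ → Bool) (f : Fin D.nroots → Fin D.nroots) : ℕ :=
  (Finset.univ.filter fun r : Fin D.nroots =>
    D.IsPosRoot r.val ∧ D.IsNegRoot (f r).val ∧ chiB r.val = false).card

/-- the positive roots with trivial sign made negative by the word -/
def negSetChi (D : ChevalleyDatum) (chiB : ℕ → Bool) (w : List ℕ) : Finset ℕ :=
  (negSet D w).filter fun r => chiB r = false

/-- the number of positive roots with trivial sign -/
def nPosChi (D : ChevalleyDatum) (chiB : ℕ → Bool) : ℕ :=
  ((Finset.range D.nroots).filter fun r => D.IsPosRoot r ∧ chiB r = false).card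

open Classical in
/-- the actions of the Weyl group fixing the sign vector -/
noncomputable def weylSetChi (D : ChevalleyDatum) (chiB : ℕ → Bool) : Finset (Fin D.nroots → Fin D.nroots) :=
  (weylSet D Set.univ).filter fun f => ChiFixF D chiB f

open Classical in
/-- the `K`-positive actions fixing the sign vector -/
noncomputable def weylSetPosChi (D : ChevalleyDatum) (K : Set ℕ) (chiB : ℕ → Bool) :
    Finset (Fin D.nroots → Fin D.nroots) :=
  (weylSetPos D Set.univ K).filter fun f => ChiFixF D chiB f

/-- the closed set of the positive roots with trivial sign -/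
def psiChi (D : ChevalleyDatum) (chiB : ℕ → Bool) (Ψ : ℕ → Bool) : ℕ → Bool := fun r => Ψ r && !chiB r

/-- the sign vector of a list -/
def chiOf (chiL : List Bool) : ℕ → Bool := fun r => chiL.getD r false

/-- computable test that a word fixes the sign vector -/
def chiFixP (D : ChevalleyDatum) (Ws : List ℕ) (chiL : List Bool) (x : List ℕ) : Bool :=
  (List.range D.nroots).all fun r => chiL.getD (reflWordP Ws x r) false == chiL.getD r false

/-- computable relative length -/
def nNegChiP (D : ChevalleyDatum) (Ws : List ℕ) (chiL : List Bool) (x : List ℕ) : ℕ :=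
  ((List.range' (D.nroots / 2) (D.nroots / 2)).filter
    fun r => decide (reflWordP Ws x r < D.nroots / 2) && !(chiL.getD r false)).length

/-- the sign vector of the diagonal element `T(c)` with `c i = -1` for `i ∈ I` and `c i = 1` otherwise -/
def chiList (D : ChevalleyDatum) (I : List ℕ) : List Bool :=
  (List.range D.nroots).map fun r => decide ((I.map fun i => D.cartan i r).sum % 2 ≠ 0)

/-- the parameters `c i = -1` for `i ∈ I`, `1` otherwise -/
def signC (F : Type*) [Field F] (I : List ℕ) : ℕ → F := fun i => if i ∈ I then -1 else 1

end Cfsg.Agent.Helper13.OInv
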