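import Mathlib

set_option autoImplicit false

namespace Cfsg.Agent.Helper13

open Module QuadraticMap Matrix

section
variable {F : Type*} [Field F] {ι : Type*} [Fintype ι] [DecidableEq ι]

/-- the quadratic form `v ↦ vᵀ M v` -/
noncomputable def matQ (M : Matrix ι ι F) : QuadraticForm F (ι → F) :=
  (Matrix.toBilin' M).toQuadraticMap

theorem matQ_apply (M : Matrix ι ι F) (v : ι → F) : matQ M v = v ⬝ᵥ (M *ᵥ v) := by
  unfold matQ
  rw [LinearMap.BilinMap.toQuadraticMap_apply, Matrix.toBilin'_apply']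

theorem matQ_apply_sum (M : Matrix ι ι F) (v : ι → F) : matQ M v = ∑ i, ∑ j, v i * M i j * v j := by
  rw [matQ_apply]
  simp only [dotProduct, mulVec, Finset.mul_sum, mul_assoc]

theorem polar_matQ (M : Matrix ι ι F) (u v : ι → F) :
    polar (matQ M) u v = u ⬝ᵥ ((M + Mᵀ) *ᵥ v) := by
  unfold matQ
  rw [LinearMap.BilinMap.polar_toQuadraticMap, Matrix.toBilin'_apply', Matrix.toBilin'_apply',
    Matrix.add_mulVec, dotProduct_add]
  congr 1
  rw [Matrix.dotProduct_mulVec v, ← Matrix.mulVec_transpose, dotProduct_comm]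

theorem polar_matQ_single (M : Matrix ι ι F) (k l : ι) :
    polar (matQ M) (Pi.single k 1) (Pi.single l 1) = M k l + M l k := by
  rw [polar_matQ]
  simp [Matrix.mulVec_single_one, Matrix.add_apply]

theorem matQ_single (M : Matrix ι ι F) (k : ι) : matQ M (Pi.single k 1) = M k k := by
  rw [matQ_apply]
  simp [Matrix.mulVec_single_one]

theorem gram_matQ (M : Matrix ι ι F) :
    (Matrix.of fun k l => polar (matQ M) (Pi.basisFun F ι k) (Pi.basisFun F ι l)) = M + Mᵀ := by
  ext k l
  simp only [Matrix.of_apply, Pi.basisFun_apply, polar_matQ_single, Matrix.add_apply,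
    Matrix.transpose_apply]

theorem matQ_nondeg (M : Matrix ι ι F) (h : (M + Mᵀ).det ≠ 0) :
    (polarBilin (matQ M)).Nondegenerate := by
  apply (LinearMap.BilinForm.nondegenerate_iff_det_ne_zero (B := polarBilin (matQ M)) (Pi.basisFun F ι)).mpr
  have : LinearMap.BilinForm.toMatrix (Pi.basisFun F ι) (polarBilin (matQ M)) = M + Mᵀ := by
    rw [← gram_matQ]
    ext k l
    simp
  rw [this]
  exact h

end

end Cfsg.Agent.Helper13

namespace Cfsg.Agent.Helper13

open Module QuadraticMap Matrix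

section hyp
variable {F : Type*} [Field F] {m : ℕ}

/-- the hyperbolic Gram block `[[0, 1], [1, 0]]` -/
def hypBlock (m : ℕ) (F : Type*) [Field F] : Matrix (Fin m ⊕ Fin m) (Fin m ⊕ Fin m) F :=
  fromBlocks 0 1 1 0

/-- upper triangular matrix of `Σ x_i y_i` -/
def plusMat (m : ℕ) (F : Type*) [Field F] : Matrix (Fin m ⊕ Fin m) (Fin m ⊕ Fin m) F :=
  fromBlocks 0 1 0 0

theorem plusMat_add_transpose : plusMat m F + (plusMat m F)ᵀ = hypBlock m F := by
  unfold plusMat hypBlock
  rw [fromBlocks_transpose, fromBlocks_add]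
  simp

theorem hypBlock_det : (hypBlock m F).det = (-1) ^ m := by
  have h1 : (fromBlocks 1 1 0 1 : Matrix (Fin m ⊕ Fin m) (Fin m ⊕ Fin m) F) * hypBlock m F
      = fromBlocks 1 1 1 0 := by
    unfold hypBlock
    rw [fromBlocks_multiply]
    simp
  have h2 := congrArg Matrix.det h1
  rw [det_mul, det_fromBlocks_zero₂₁, det_one, one_mul, one_mul, det_fromBlocks_one₁₁] at h2
  rw [h2]
  simp [Matrix.det_neg]

theorem matQ_plusMat (v : Fin m ⊕ Fin m → F) :
    matQ (plusMat m F) v = ∑ i : Fin m, v (Sum.inl i) * v (Sum.inr i) := by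
  rw [matQ_apply_sum]
  simp [plusMat, Fintype.sum_sum_type, Matrix.one_apply, Finset.sum_ite_eq]

theorem isSquare_mul_sq_iff (a b : F) (hb : b ≠ 0) : IsSquare (b ^ 2 * a) ↔ IsSquare a := by
  constructor
  · rintro ⟨r, hr⟩
    refine ⟨r / b, ?_⟩
    field_simp
    linear_combination hr
  · rintro ⟨r, hr⟩
    exact ⟨b * r, by rw [hr]; ring⟩

end hyp

end Cfsg.Agent.Helper13

namespace Cfsg.Agent.Helper13

section nonsq
variable {F : Type*} [Field F] [Fintype F] [DecidableEq F]

theorem isSquare_mul_nonsquare {x ν : F} (hx : x ≠ 0) (hν : ¬ IsSquare ν) :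
    IsSquare (x * ν) ↔ ¬ IsSquare x := by
  have hν0 : ν ≠ 0 := by
    intro h; apply hν; rw [h]; exact ⟨0, by ring⟩
  rw [← quadraticChar_one_iff_isSquare (mul_ne_zero hx hν0), map_mul,
    quadraticChar_neg_one_iff_not_isSquare.mpr hν, ← quadraticChar_neg_one_iff_not_isSquare]
  constructor
  · intro h
    linarith
  · intro h
    rw [h]; norm_num

end nonsq

end Cfsg.Agent.Helper13

namespace Cfsg.Agent.Helper13

open Module QuadraticMap Matrix

section ell
variable {F : Type*} [Field F] {k : ℕ}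

/-- upper triangular matrix of `Σ x_i y_i + z₁² + a z₁ z₂ + c z₂²` -/
def minusMat (k : ℕ) (a c : F) : Matrix ((Fin k ⊕ Fin k) ⊕ Fin 2) ((Fin k ⊕ Fin k) ⊕ Fin 2) F :=
  fromBlocks (plusMat k F) 0 0 !![1, a; 0, c]

theorem minusMat_add_transpose (a c : F) :
    minusMat k a c + (minusMat k a c)ᵀ = fromBlocks (hypBlock k F) 0 0 !![2, a; a, 2 * c] := by
  unfold minusMat
  rw [fromBlocks_transpose, fromBlocks_add, plusMat_add_transpose]
  congr 1
  · simp
  · simp
  · ext i j
    fin_cases i <;> fin_cases j <;> simp [two_mul, one_add_one_eq_two]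

theorem minusMat_det (a c : F) :
    (minusMat k a c + (minusMat k a c)ᵀ).det = (-1) ^ k * (4 * c - a ^ 2) := by
  rw [minusMat_add_transpose, det_fromBlocks_zero₂₁, hypBlock_det, Matrix.det_fin_two_of]
  ring

theorem matQ_minusMat (a c : F) (v : (Fin k ⊕ Fin k) ⊕ Fin 2 → F) :
    matQ (minusMat k a c) v = (∑ i : Fin k, v (Sum.inl (Sum.inl i)) * v (Sum.inl (Sum.inr i)))
      + (v (Sum.inr 0) ^ 2 + a * v (Sum.inr 0) * v (Sum.inr 1) + c * v (Sum.inr 1) ^ 2) := by
  rw [matQ_apply_sum]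
  simp [minusMat, plusMat, Fintype.sum_sum_type, Matrix.one_apply, Finset.sum_ite_eq, Fin.sum_univ_two]
  ring

end ell

end Cfsg.Agent.Helper13
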