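import Mathlib

set_option autoImplicit false

namespace Cfsg.Agent.Helper13

open Module QuadraticMap Polynomial

universe u v

section
variable {F : Type u} [Field F] [Fintype F]

theorem card_odd_of_two_ne_zero (h2 : (2 : F) ≠ 0) : Fintype.card F % 2 = 1 := by
  apply FiniteField.odd_card_of_char_ne_two
  intro h
  haveI : CharP F 2 := ringChar.of_eq h
  exact h2 CharTwo.two_eq_zero

/-- binary forms over finite fields of odd order represent one -/
theorem exists_binary_one (h2 : (2 : F) ≠ 0) (a b : F) (ha : a ≠ 0) (hb : b ≠ 0) :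
    ∃ x y : F, a * x ^ 2 + b * y ^ 2 = 1 := by
  have hf : degree (C a * X ^ 2 : F[X]) = 2 := by
    rw [degree_C_mul_X_pow 2 ha]; rfl
  have hg : degree (C b * X ^ 2 - C 1 : F[X]) = 2 := by
    rw [degree_sub_eq_left_of_degree_lt, degree_C_mul_X_pow 2 hb]; rfl
    rw [degree_C_mul_X_pow 2 hb]
    exact lt_of_le_of_lt degree_C_le (by norm_num)
  obtain ⟨x, y, hxy⟩ := FiniteField.exists_root_sum_quadratic hf hg (card_odd_of_two_ne_zero h2)
  refine ⟨x, y, ?_⟩
  simp only [eval_mul, eval_C, eval_pow, eval_X, eval_sub, eval_one] at hxy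
  linear_combination hxy

variable {V : Type v} [AddCommGroup V] [Module F V] [FiniteDimensional F V]

theorem exists_repr_one (h2 : (2 : F) ≠ 0) (Q : QuadraticForm F V)
    (hQ : (polarBilin Q).Nondegenerate) (hdim : 2 ≤ finrank F V) : ∃ v : V, Q v = 1 := by
  letI : Invertible (2 : F) := invertibleOfNonzero h2
  have hsymm : LinearMap.BilinForm.IsSymm (polarBilin Q) := ⟨fun x y => polar_comm Q x y⟩
  obtain ⟨b, hb⟩ := LinearMap.BilinForm.exists_orthogonal_basis (LinearMap.BilinForm.isSymm_iff.mp hsymm)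
  have hne : ∀ i, Q (b i) ≠ 0 := by
    intro i h0
    have := hb.not_isOrtho_basis_self_of_separatingLeft hQ.1 i
    apply this
    show polar Q (b i) (b i) = 0
    rw [polar_self, h0, smul_zero]
  set i0 : Fin (finrank F V) := ⟨0, by omega⟩ with hi0
  set i1 : Fin (finrank F V) := ⟨1, by omega⟩ with hi1
  have h01 : i0 ≠ i1 := by
    intro h
    have := congrArg Fin.val h
    simp [hi0, hi1] at this
  obtain ⟨x, y, hxy⟩ := exists_binary_one h2 (Q (b i0)) (Q (b i1)) (hne i0) (hne i1)
  refine ⟨x • b i0 + y • b i1, ?_⟩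
  have horth : polar Q (b i0) (b i1) = 0 := hb h01
  rw [QuadraticMap.map_add Q, QuadraticMap.map_smul, QuadraticMap.map_smul, polar_smul_left,
    polar_smul_right, horth]
  simp only [smul_eq_mul, mul_zero, add_zero]
  linear_combination hxy

omit [Fintype F] [FiniteDimensional F V] in
theorem polarBilin_comp_subtype (Q : QuadraticForm F V) (W : Submodule F V) :
    polarBilin (Q.comp W.subtype) = LinearMap.BilinForm.restrict (polarBilin Q) W := by
  ext u w
  simp [polar]

theorem exists_normal_basis (h2 : (2 : F) ≠ 0) (n : ℕ) :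
    ∀ (V : Type v) [AddCommGroup V] [Module F V] [FiniteDimensional F V] (Q : QuadraticForm F V),
      (polarBilin Q).Nondegenerate → finrank F V = n →
      ∃ b : Module.Basis (Fin n) F V, (∀ i j, i ≠ j → polar Q (b i) (b j) = 0) ∧
        (∀ i : Fin n, (i : ℕ) + 1 < n → Q (b i) = 1) := by
  induction n with
  | zero =>
    intro V _ _ _ Q hQ hV
    exact ⟨_root_.basisOfFinrankZero hV, fun i => i.elim0, fun i => i.elim0⟩
  | succ d ih =>
    intro V _ _ _ Q hQ hV
    rcases Nat.eq_zero_or_pos d with hd | hd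
    · subst hd
      refine ⟨Module.finBasisOfFinrankEq F V hV, ?_, ?_⟩
      · intro i j hij
        exact (hij (by rw [Fin.ext_iff]; omega)).elim
      · intro i hi
        omega
    · obtain ⟨x, hx⟩ := exists_repr_one h2 Q hQ (by omega)
      set B : LinearMap.BilinForm F V := polarBilin Q with hBdef
      have hsymm : B.IsSymm := ⟨fun x y => polar_comm Q x y⟩
      have hxne : B x x ≠ 0 := by
        show polar Q x x ≠ 0
        rw [polar_self, hx, nsmul_eq_mul, mul_one]
        exact_mod_cast h2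
      have hcompl := LinearMap.BilinForm.isCompl_span_singleton_orthogonal hxne
      have hdimW : finrank F (B.orthogonal (F ∙ x)) = d := by
        have h1 := Submodule.finrank_add_eq_of_isCompl hcompl
        rw [finrank_span_singleton (LinearMap.BilinForm.ne_zero_of_not_isOrtho_self x hxne), hV] at h1
        omega
      have hWnd : (B.restrict (B.orthogonal (F ∙ x))).Nondegenerate :=
        LinearMap.BilinForm.restrict_nondegenerate_orthogonal_spanSingleton B hQ hsymm.isRefl hxne
      have hWnd' : (polarBilin (Q.comp (B.orthogonal (F ∙ x)).subtype)).Nondegenerate := by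
        rw [polarBilin_comp_subtype]; exact hWnd
      obtain ⟨v', hv'1, hv'2⟩ := ih (B.orthogonal (F ∙ x)) (Q.comp (B.orthogonal (F ∙ x)).subtype)
        hWnd' hdimW
      let b := Module.Basis.mkFinCons x v'
        (by
          rintro c y hy hc
          rw [add_eq_zero_iff_neg_eq] at hc
          rw [← hc, Submodule.neg_mem_iff] at hy
          have := hcompl.disjoint
          rw [Submodule.disjoint_def] at this
          have := this (c • x) (Submodule.smul_mem _ _ <| Submodule.mem_span_singleton_self _) hy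
          exact (smul_eq_zero.1 this).resolve_right fun h => hxne <| h.symm ▸ map_zero _)
        (by
          intro y
          refine ⟨-B x y / B x x, fun z hz => ?_⟩
          obtain ⟨c, rfl⟩ := Submodule.mem_span_singleton.1 hz
          show B (c • x) (y + (-B x y / B x x) • x) = 0
          rw [map_smul, LinearMap.smul_apply, map_add, map_smul, smul_eq_mul, smul_eq_mul,
            div_mul_cancel₀ _ hxne, add_neg_cancel, mul_zero])
      have hb : (b : Fin (d + 1) → V) = Fin.cons x (fun i => (v' i : V)) := by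
        rw [Module.Basis.coe_mkFinCons]; rfl
      refine ⟨b, ?_, ?_⟩
      · intro i j
        rw [hb]
        refine Fin.cases ?_ (fun i => ?_) i <;> refine Fin.cases ?_ (fun j => ?_) j <;>
          simp only [Fin.cons_zero, Fin.cons_succ]
        · intro h; exact (h rfl).elim
        · intro _
          exact (v' j).prop x (Submodule.mem_span_singleton_self x)
        · intro _
          rw [polar_comm]
          exact (v' i).prop x (Submodule.mem_span_singleton_self x)
        · intro hij
          have := hv'1 i j (fun h => hij (by rw [h]))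
          simpa [polar] using this
      · intro i
        rw [hb]
        refine Fin.cases ?_ (fun i => ?_) i <;> simp only [Fin.cons_zero, Fin.cons_succ]
        · intro _; exact hx
        · intro hi
          have := hv'2 i (by simpa using hi)
          simpa using this

end

section gram
variable {F : Type u} [Field F] {ι : Type*} [Fintype ι] [DecidableEq ι]
variable {V : Type v} [AddCommGroup V] [Module F V]

/-- Change of basis for the Gram determinant of the polar form. -/
theorem gram_det_basis (Q : QuadraticForm F V) (b c : Module.Basis ι F V) :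
    (Matrix.of fun i j => polar Q (c i) (c j)).det =
      (b.toMatrix c).det ^ 2 * (Matrix.of fun i j => polar Q (b i) (b j)).det := by
  have h := LinearMap.BilinForm.toMatrix_mul_basis_toMatrix (b := b) c (polarBilin Q)
  have hb : LinearMap.BilinForm.toMatrix b (polarBilin Q) = Matrix.of fun i j => polar Q (b i) (b j) := by
    ext i j; simp
  have hc : LinearMap.BilinForm.toMatrix c (polarBilin Q) = Matrix.of fun i j => polar Q (c i) (c j) := by
    ext i j; simp
  rw [hb, hc] at h
  rw [← h, Matrix.det_mul, Matrix.det_mul, Matrix.det_transpose]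
  ring

/-- Gram determinant in an orthogonal basis. -/
theorem gram_det_orth (Q : QuadraticForm F V) (c : Module.Basis ι F V)
    (horth : ∀ i j, i ≠ j → polar Q (c i) (c j) = 0) :
    (Matrix.of fun i j => polar Q (c i) (c j)).det = ∏ i, (2 * Q (c i)) := by
  have : (Matrix.of fun i j => polar Q (c i) (c j)) = Matrix.diagonal fun i => 2 * Q (c i) := by
    ext i j
    by_cases hij : i = j
    · subst hij
      simp [polar_self]
    · simp [hij, horth i j hij]
  rw [this, Matrix.det_diagonal]

/-- value of a quadratic form on an orthogonal basis expansion -/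
theorem apply_sum_orth (Q : QuadraticForm F V)
    (b : Module.Basis ι F V) (hb : ∀ i j, i ≠ j → polar Q (b i) (b j) = 0) (w : ι → F) :
    Q (∑ i, w i • b i) = ∑ i, w i * w i * Q (b i) := by
  classical
  have hgen : ∀ s : Finset ι, Q (∑ i ∈ s, w i • b i) = ∑ i ∈ s, w i * w i * Q (b i) := by
    intro s
    induction s using Finset.induction_on with
    | empty => simp
    | insert a s ha ih =>
      rw [Finset.sum_insert ha, Finset.sum_insert ha, QuadraticMap.map_add Q, ih,
        QuadraticMap.map_smul, smul_eq_mul]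
      have : polar Q (w a • b a) (∑ i ∈ s, w i • b i) = 0 := by
        rw [polar_smul_left]
        have h0 : polar Q (b a) (∑ i ∈ s, w i • b i) = 0 := by
          have hlin : polar Q (b a) (∑ i ∈ s, w i • b i) = ∑ i ∈ s, polar Q (b a) (w i • b i) :=
            map_sum (polarBilin Q (b a)) (fun i => w i • b i) s
          rw [hlin]
          apply Finset.sum_eq_zero
          intro i hi
          rw [polar_smul_right, hb a i (fun h => ha (h ▸ hi)), smul_zero]
        rw [h0, smul_zero]
      rw [this, add_zero]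
  exact hgen Finset.univ

/-- two orthogonal bases with the same values give an isometry -/
theorem isometry_of_bases {V₂ : Type*} [AddCommGroup V₂] [Module F V₂]
    (Q₁ : QuadraticForm F V) (Q₂ : QuadraticForm F V₂)
    (b₁ : Module.Basis ι F V) (b₂ : Module.Basis ι F V₂)
    (h₁ : ∀ i j, i ≠ j → polar Q₁ (b₁ i) (b₁ j) = 0)
    (h₂ : ∀ i j, i ≠ j → polar Q₂ (b₂ i) (b₂ j) = 0)
    (h : ∀ i, Q₁ (b₁ i) = Q₂ (b₂ i)) (v : V) :
    Q₂ ((b₁.equiv b₂ (Equiv.refl ι)) v) = Q₁ v := by
  have hv : v = ∑ i, (b₁.repr v i) • b₁ i := (b₁.sum_repr v).symm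
  conv_rhs => rw [hv]
  have hgv : (b₁.equiv b₂ (Equiv.refl ι)) v = ∑ i, (b₁.repr v i) • b₂ i := by
    conv_lhs => rw [hv]
    rw [map_sum]
    apply Finset.sum_congr rfl
    intro i _
    rw [map_smul, Module.Basis.equiv_apply]
    rfl
  rw [hgv, apply_sum_orth Q₂ b₂ h₂, apply_sum_orth Q₁ b₁ h₁]
  apply Finset.sum_congr rfl
  intro i _
  rw [h i]

theorem gram_det_ne_zero (Q : QuadraticForm F V) (c : Module.Basis ι F V)
    (hQ : (polarBilin Q).Nondegenerate) :
    (Matrix.of fun i j => polar Q (c i) (c j)).det ≠ 0 := by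
  have h := (LinearMap.BilinForm.nondegenerate_iff_det_ne_zero (B := polarBilin Q) c).mp hQ
  have hc : LinearMap.BilinForm.toMatrix c (polarBilin Q) = Matrix.of fun i j => polar Q (c i) (c j) := by
    ext i j; simp
  rwa [hc] at h

end gram

section classify
variable {F : Type u} [Field F] [Fintype F]

/-- standard Gram matrix -/
noncomputable def stdGram {n : ℕ} (Q : QuadraticForm F (Fin n → F)) : Matrix (Fin n) (Fin n) F :=
  Matrix.of fun i j => polar Q (Pi.single i 1) (Pi.single j 1)

theorem stdGram_eq {n : ℕ} (Q : QuadraticForm F (Fin n → F)) :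
    stdGram Q = Matrix.of fun i j => polar Q (Pi.basisFun F (Fin n) i) (Pi.basisFun F (Fin n) j) := by
  ext i j
  simp [stdGram, Pi.basisFun_apply]

/-- isometric forms have discriminants in the same square class -/
theorem disc_of_equiv {n : ℕ} (Q₁ Q₂ : QuadraticForm F (Fin n → F))
    (g : (Fin n → F) ≃ₗ[F] (Fin n → F)) (hg : ∀ v, Q₂ (g v) = Q₁ v) :
    IsSquare ((stdGram Q₁).det * (stdGram Q₂).det) := by
  set std := Pi.basisFun F (Fin n)
  set c := std.map g with hc
  have h1 := gram_det_basis Q₂ std c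
  have h2 : (Matrix.of fun i j => polar Q₂ (c i) (c j)) = stdGram Q₁ := by
    rw [stdGram_eq]
    ext i j
    simp only [Matrix.of_apply, hc, Module.Basis.map_apply, polar, ← map_add, hg]
    rfl
  rw [h2, ← stdGram_eq] at h1
  rw [h1]
  exact ⟨(std.toMatrix c).det * (stdGram Q₂).det, by ring⟩

omit [Fintype F] in
theorem prod_normal {m : ℕ} {W : Type*} [AddCommGroup W] [Module F W] (Q : QuadraticForm F W)
    (c : Module.Basis (Fin (m + 1)) F W)
    (hu : ∀ i : Fin (m + 1), (i : ℕ) + 1 < m + 1 → Q (c i) = 1) :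
    ∏ i, (2 * Q (c i)) = 2 ^ (m + 1) * Q (c (Fin.last m)) := by
  rw [Fin.prod_univ_castSucc]
  have : ∀ i : Fin m, 2 * Q (c (Fin.castSucc i)) = 2 := by
    intro i
    rw [hu (Fin.castSucc i) (by simp), mul_one]
  simp only [this, Finset.prod_const, Finset.card_univ, Fintype.card_fin]
  ring

/-- General form: two nondegenerate forms on spaces with `Fin n`-indexed bases whose Gram
determinants differ by a square are isometric. -/
theorem equiv_of_disc_gen (h2 : (2 : F) ≠ 0) {n : ℕ} {V₁ : Type*} {V₂ : Type*}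
    [AddCommGroup V₁] [Module F V₁] [AddCommGroup V₂] [Module F V₂]
    (Q₁ : QuadraticForm F V₁) (Q₂ : QuadraticForm F V₂)
    (h₁ : (polarBilin Q₁).Nondegenerate) (h₂ : (polarBilin Q₂).Nondegenerate)
    (s₁ : Module.Basis (Fin n) F V₁) (s₂ : Module.Basis (Fin n) F V₂)
    (hsq : IsSquare ((Matrix.of fun i j => polar Q₁ (s₁ i) (s₁ j)).det *
      (Matrix.of fun i j => polar Q₂ (s₂ i) (s₂ j)).det)) :
    ∃ g : V₁ ≃ₗ[F] V₂, ∀ v, Q₂ (g v) = Q₁ v := by
  haveI : FiniteDimensional F V₁ := Module.Finite.of_basis s₁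
  haveI : FiniteDimensional F V₂ := Module.Finite.of_basis s₂
  have hfr₁ : finrank F V₁ = n := by rw [Module.finrank_eq_card_basis s₁, Fintype.card_fin]
  have hfr₂ : finrank F V₂ = n := by rw [Module.finrank_eq_card_basis s₂, Fintype.card_fin]
  obtain ⟨c₁, o₁, u₁⟩ := exists_normal_basis h2 n V₁ Q₁ h₁ hfr₁
  obtain ⟨c₂, o₂, u₂⟩ := exists_normal_basis h2 n V₂ Q₂ h₂ hfr₂
  cases n with
  | zero =>
    exact ⟨c₁.equiv c₂ (Equiv.refl _), isometry_of_bases Q₁ Q₂ c₁ c₂ o₁ o₂ (fun i => i.elim0)⟩
  | succ m =>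
    have e1 := gram_det_basis Q₁ s₁ c₁
    have e2 := gram_det_basis Q₂ s₂ c₂
    rw [gram_det_orth Q₁ c₁ o₁] at e1
    rw [gram_det_orth Q₂ c₂ o₂] at e2
    rw [prod_normal Q₁ c₁ u₁] at e1
    rw [prod_normal Q₂ c₂ u₂] at e2
    set d₁ := Q₁ (c₁ (Fin.last m)) with hd₁
    set d₂ := Q₂ (c₂ (Fin.last m)) with hd₂
    set G₁ := (Matrix.of fun i j => polar Q₁ (s₁ i) (s₁ j)).det with hG₁def
    set G₂ := (Matrix.of fun i j => polar Q₂ (s₂ i) (s₂ j)).det with hG₂def
    have hG₁ : G₁ ≠ 0 := gram_det_ne_zero Q₁ s₁ h₁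
    have hG₂ : G₂ ≠ 0 := gram_det_ne_zero Q₂ s₂ h₂
    have hP₁ : (s₁.toMatrix c₁).det ≠ 0 := by
      have := Module.Basis.invertibleToMatrix s₁ c₁
      exact (Matrix.isUnit_det_of_invertible _).ne_zero
    have hP₂ : (s₂.toMatrix c₂).det ≠ 0 := by
      have := Module.Basis.invertibleToMatrix s₂ c₂
      exact (Matrix.isUnit_det_of_invertible _).ne_zero
    have h2pow : (2 : F) ^ (m + 1) ≠ 0 := pow_ne_zero _ h2
    have hd₁ne : d₁ ≠ 0 := by
      intro h0
      rw [h0, mul_zero] at e1
      exact mul_ne_zero (pow_ne_zero 2 hP₁) hG₁ e1.symm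
    have hd₂ne : d₂ ≠ 0 := by
      intro h0
      rw [h0, mul_zero] at e2
      exact mul_ne_zero (pow_ne_zero 2 hP₂) hG₂ e2.symm
    obtain ⟨r, hr⟩ := hsq
    set s := (s₁.toMatrix c₁).det * (s₂.toMatrix c₂).det * r / 2 ^ (m + 1) with hs
    have hs2 : d₁ * d₂ = s * s := by
      rw [hs]
      field_simp
      have : (2 : F) ^ (m + 1) * d₁ * (2 ^ (m + 1) * d₂) =
          ((s₁.toMatrix c₁).det ^ 2 * G₁) * ((s₂.toMatrix c₂).det ^ 2 * G₂) := by
        rw [e1, e2]
      have h3 : G₁ * G₂ = r * r := hr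
      linear_combination this + ((s₁.toMatrix c₁).det ^ 2 * (s₂.toMatrix c₂).det ^ 2) * h3
    set t := s / d₂ with ht
    have htd : t * t * d₂ = d₁ := by
      rw [ht]; field_simp; linear_combination -hs2
    have htne : t ≠ 0 := by
      intro h0
      rw [h0] at htd
      apply hd₁ne
      rw [← htd]; ring
    set w : Fin (m + 1) → F := fun i => if i = Fin.last m then t else 1 with hw
    have hwu : ∀ i, IsUnit (w i) := by
      intro i
      simp only [hw]
      split_ifs
      · exact isUnit_iff_ne_zero.mpr htne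
      · exact isUnit_one
    set c₂' := c₂.isUnitSMul hwu with hc₂'
    have hc₂'a : ∀ i, c₂' i = w i • c₂ i := fun i => Module.Basis.isUnitSMul_apply hwu i
    have o₂' : ∀ i j, i ≠ j → polar Q₂ (c₂' i) (c₂' j) = 0 := by
      intro i j hij
      rw [hc₂'a, hc₂'a, polar_smul_left, polar_smul_right, o₂ i j hij, smul_zero, smul_zero]
    refine ⟨c₁.equiv c₂' (Equiv.refl _), isometry_of_bases Q₁ Q₂ c₁ c₂' o₁ o₂' ?_⟩
    intro i
    rw [hc₂'a, QuadraticMap.map_smul, smul_eq_mul]
    by_cases hi : i = Fin.last m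
    · subst hi
      simp only [hw, if_true]
      rw [← hd₂, ← hd₁, htd]
    · have hlt : (i : ℕ) + 1 < m + 1 := by
        have := Fin.val_lt_last hi
        omega
      simp only [hw, if_neg hi]
      rw [u₁ i hlt, u₂ i hlt]; ring

theorem equiv_of_disc (h2 : (2 : F) ≠ 0) {n : ℕ} (Q₁ Q₂ : QuadraticForm F (Fin n → F))
    (h₁ : (polarBilin Q₁).Nondegenerate) (h₂ : (polarBilin Q₂).Nondegenerate)
    (hsq : IsSquare ((stdGram Q₁).det * (stdGram Q₂).det)) :
    ∃ g : (Fin n → F) ≃ₗ[F] (Fin n → F), ∀ v, Q₂ (g v) = Q₁ v := by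
  rw [stdGram_eq, stdGram_eq] at hsq
  exact equiv_of_disc_gen h2 Q₁ Q₂ h₁ h₂ (Pi.basisFun F (Fin n)) (Pi.basisFun F (Fin n)) hsq

omit [Fintype F] in
theorem gram_det_reindex {ι κ : Type*} [Fintype ι] [DecidableEq ι] [Fintype κ] [DecidableEq κ]
    {W : Type*} [AddCommGroup W] [Module F W] (Q : QuadraticForm F W)
    (c : Module.Basis ι F W) (e : ι ≃ κ) :
    (Matrix.of fun i j => polar Q ((c.reindex e) i) ((c.reindex e) j)).det =
      (Matrix.of fun i j => polar Q (c i) (c j)).det := by
  have : (Matrix.of fun i j => polar Q ((c.reindex e) i) ((c.reindex e) j)) =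
      (Matrix.of fun i j => polar Q (c i) (c j)).submatrix e.symm e.symm := by
    ext i j
    simp [Module.Basis.reindex_apply]
  rw [this, Matrix.det_submatrix_equiv_self]

/-- version with arbitrary index types -/
theorem equiv_of_disc_idx (h2 : (2 : F) ≠ 0) {ι₁ ι₂ : Type*} [Fintype ι₁] [DecidableEq ι₁]
    [Fintype ι₂] [DecidableEq ι₂] {V₁ : Type*} {V₂ : Type*}
    [AddCommGroup V₁] [Module F V₁] [AddCommGroup V₂] [Module F V₂]
    (Q₁ : QuadraticForm F V₁) (Q₂ : QuadraticForm F V₂)
    (h₁ : (polarBilin Q₁).Nondegenerate) (h₂ : (polarBilin Q₂).Nondegenerate)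
    (s₁ : Module.Basis ι₁ F V₁) (s₂ : Module.Basis ι₂ F V₂)
    (hcard : Fintype.card ι₁ = Fintype.card ι₂)
    (hsq : IsSquare ((Matrix.of fun i j => polar Q₁ (s₁ i) (s₁ j)).det *
      (Matrix.of fun i j => polar Q₂ (s₂ i) (s₂ j)).det)) :
    ∃ g : V₁ ≃ₗ[F] V₂, ∀ v, Q₂ (g v) = Q₁ v := by
  set e₁ : ι₁ ≃ Fin (Fintype.card ι₁) := Fintype.equivFin ι₁
  set e₂ : ι₂ ≃ Fin (Fintype.card ι₁) := Fintype.equivFinOfCardEq hcard.symm
  apply equiv_of_disc_gen h2 Q₁ Q₂ h₁ h₂ (s₁.reindex e₁) (s₂.reindex e₂)
  rw [gram_det_reindex, gram_det_reindex]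
  exact hsq

end classify

section alt
open Matrix

/-- In characteristic two, a symmetric matrix of odd size with zero diagonal has determinant zero. -/
theorem det_symm_zero_diag_odd {R : Type*} [CommRing R] [CharP R 2] {ι : Type*} [Fintype ι]
    [DecidableEq ι] (G : Matrix ι ι R) (hs : ∀ i j, G i j = G j i) (hd : ∀ i, G i i = 0)
    (hodd : Odd (Fintype.card ι)) : G.det = 0 := by
  rw [Matrix.det_apply]
  apply Finset.sum_ninvolution (fun σ => σ⁻¹)
  · intro σ
    have h1 : ∏ i, G (σ⁻¹ i) i = ∏ i, G (σ i) i := by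
      rw [← Equiv.prod_comp σ (fun i => G (σ⁻¹ i) i)]
      apply Finset.prod_congr rfl
      intro i _
      rw [Equiv.Perm.inv_def, Equiv.symm_apply_apply, hs]
    rw [Equiv.Perm.sign_inv, h1, ← two_smul ℕ]
    have : (2 : ℕ) • (Equiv.Perm.sign σ • ∏ i, G (σ i) i) = ((2 : ℕ) : R) * (Equiv.Perm.sign σ • ∏ i, G (σ i) i) := by
      rw [nsmul_eq_mul]
    rw [this, CharP.cast_eq_zero R 2, zero_mul]
  · intro σ hne hinv
    apply hne
    -- σ is an involution on an odd set, hence has a fixed point
    have hσ2 : σ ^ 2 ^ 1 = 1 := by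
      rw [pow_one, pow_two]
      calc σ * σ = σ⁻¹ * σ := by rw [hinv]
        _ = 1 := inv_mul_cancel σ
    have : Fact (Nat.Prime 2) := ⟨Nat.prime_two⟩
    have hmod := Equiv.Perm.card_compl_support_modEq (p := 2) (n := 1) hσ2
    have hpos : 0 < σ.supportᶜ.card := by
      rcases hodd with ⟨k, hk⟩
      have := hmod
      unfold Nat.ModEq at this
      omega
    obtain ⟨i, hi⟩ := Finset.card_pos.mp hpos
    have hfix : σ i = i := by
      rw [Finset.mem_compl, Equiv.Perm.mem_support, not_not] at hi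
      exact hi
    have : ∏ j, G (σ j) j = 0 := Finset.prod_eq_zero (Finset.mem_univ i) (by rw [hfix, hd])
    rw [this, smul_zero]
  · intro σ; exact Finset.mem_univ _
  · intro σ; exact inv_inv σ

end alt

end Cfsg.Agent.Helper13
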