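import Mathlib
import Cfsg.Agent.Lib.Helper10.MannDefs
import Cfsg.Agent.Lib.Helper21.ThreeSubgroups

/-!
# S4009 (Mann's bound), piece MANN-ITER (helper13): commutator calculus for `mIter`
-/

set_option autoImplicit false

namespace Cfsg.Agent.Helper10.Mann

open scoped commutatorElement

variable {G : Type*} [Group G]

instance mIter_normal (M : Subgroup G) [M.Normal] (j : ℕ) : (mIter M j).Normal := by
  induction j with
  | zero => exact (inferInstance : M.Normal)
  | succ j ih =>
    rw [mIter_succ]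
    exact Subgroup.commutator_normal _ _

theorem mIter_succ_le (M : Subgroup G) [M.Normal] (j : ℕ) : mIter M (j + 1) ≤ mIter M j := by
  rw [mIter_succ]
  exact Subgroup.commutator_le_left _ _

theorem mIter_antitone (M : Subgroup G) [M.Normal] : Antitone (mIter M) :=
  antitone_nat_of_succ_le (mIter_succ_le M)

theorem mIter_mono {M M' : Subgroup G} (h : M ≤ M') (j : ℕ) : mIter M j ≤ mIter M' j := by
  induction j with
  | zero => exact h
  | succ j ih =>
    rw [mIter_succ, mIter_succ]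
    exact Subgroup.commutator_mono ih le_rfl

theorem mIter_add (M : Subgroup G) (i j : ℕ) : mIter (mIter M i) j = mIter M (i + j) := by
  induction j with
  | zero => rfl
  | succ j ih =>
    rw [mIter_succ, ih, ← add_assoc, mIter_succ]

theorem mIter_lcs (i j : ℕ) :
    mIter ((⊤ : Subgroup G).lowerCentralSeries i) j = (⊤ : Subgroup G).lowerCentralSeries (i + j) := by
  induction j with
  | zero => rfl
  | succ j ih =>
    rw [mIter_succ, ih, ← add_assoc, Subgroup.lowerCentralSeries_succ]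

/-- `[M, γ_{j+1}(G)] ≤ [M, G, ..., G]` (`j+1` copies). -/
theorem comm_lcs_le (M : Subgroup G) [M.Normal] (j : ℕ) :
    ⁅M, (⊤ : Subgroup G).lowerCentralSeries j⁆ ≤ mIter M (j + 1) := by
  induction j generalizing M with
  | zero =>
    rw [Subgroup.lowerCentralSeries_zero]
    exact le_rfl
  | succ j ih =>
    -- `T = mIter M (j + 2)`
    have hT : (mIter M (j + 1 + 1)).Normal := mIter_normal M _
    rw [Subgroup.lowerCentralSeries_succ, Subgroup.commutator_comm]
    -- goal: ⁅⁅lcs j, ⊤⁆, M⁆ ≤ T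
    apply Cfsg.Agent.Helper21.three_subgroups_normal (A := (⊤ : Subgroup G).lowerCentralSeries j)
      (B := ⊤) (C := M)
    · -- ⁅⁅⊤, M⁆, lcs j⁆ ≤ T
      have hn : (⁅M, (⊤ : Subgroup G)⁆).Normal := Subgroup.commutator_normal _ _
      have h1 := ih ⁅M, (⊤ : Subgroup G)⁆
      have h2 : mIter ⁅M, (⊤ : Subgroup G)⁆ (j + 1) = mIter M (j + 1 + 1) := by
        have := mIter_add M 1 (j + 1)
        rw [show mIter M 1 = ⁅M, (⊤ : Subgroup G)⁆ from rfl] at this
        rw [this, add_comm 1 (j + 1)]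
      rw [Subgroup.commutator_comm (⊤ : Subgroup G) M]
      rw [h2] at h1
      exact h1
    · -- ⁅⁅M, lcs j⁆, ⊤⁆ ≤ T
      have h1 := ih M
      calc ⁅⁅M, (⊤ : Subgroup G).lowerCentralSeries j⁆, (⊤ : Subgroup G)⁆
          ≤ ⁅mIter M (j + 1), (⊤ : Subgroup G)⁆ := Subgroup.commutator_mono h1 le_rfl
        _ = mIter M (j + 1 + 1) := rfl

theorem lcs_comm_lcs_le (i j : ℕ) :
    ⁅(⊤ : Subgroup G).lowerCentralSeries i, (⊤ : Subgroup G).lowerCentralSeries j⁆ ≤
      (⊤ : Subgroup G).lowerCentralSeries (i + j + 1) := by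
  have h := comm_lcs_le ((⊤ : Subgroup G).lowerCentralSeries i) j
  rw [mIter_lcs, ← add_assoc] at h
  exact h

theorem comm_sup_le (H A B : Subgroup G) [H.Normal] [A.Normal] [B.Normal] :
    ⁅H, A ⊔ B⁆ ≤ ⁅H, A⁆ ⊔ ⁅H, B⁆ := by
  have hT : (⁅H, A⁆ ⊔ ⁅H, B⁆).Normal := inferInstance
  rw [Subgroup.commutator_le]
  intro h hh x hx
  rw [Subgroup.mem_sup_of_normal_left] at hx
  obtain ⟨a, ha, b, hb, rfl⟩ := hx
  have e : ⁅h, a * b⁆ = ⁅h, a⁆ * (a * ⁅h, b⁆ * a⁻¹) := by
    simp only [commutatorElement_def]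
    group
  rw [e]
  apply Subgroup.mul_mem
  · exact Subgroup.mem_sup_left (Subgroup.commutator_mem_commutator hh ha)
  · apply hT.conj_mem
    exact Subgroup.mem_sup_right (Subgroup.commutator_mem_commutator hh hb)

end Cfsg.Agent.Helper10.Mann
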