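import Mathlib
import Cfsg.Agent.Lib.Helper13.QuadFinite
import Cfsg.Agent.Lib.Helper13.MatQuad

set_option autoImplicit false

namespace Cfsg.Agent.Helper13

open Module QuadraticMap

universe u v

section
variable {F : Type u} [Field F]
variable {V : Type v} [AddCommGroup V] [Module F V]

theorem nondeg_of_polar (Q : QuadraticForm F V)
    (h : ∀ x, (∀ y, polar Q x y = 0) → x = 0) : (polarBilin Q).Nondegenerate := by
  refine ⟨fun x hx => h x hx, fun y hy => h y fun x => ?_⟩
  rw [polar_comm]; exact hy x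

theorem exists_polar_ne_zero (Q : QuadraticForm F V) (hQ : (polarBilin Q).Nondegenerate)
    {v : V} (hv : v ≠ 0) : ∃ u, polar Q v u ≠ 0 := by
  by_contra hcon
  push Not at hcon
  exact hv (hQ.1 v hcon)

/-- a nonzero singular vector in a nondegenerate space has a hyperbolic partner -/
theorem exists_hyp_partner (Q : QuadraticForm F V) (hQ : (polarBilin Q).Nondegenerate)
    {v : V} (hv : v ≠ 0) (hQv : Q v = 0) : ∃ f, Q f = 0 ∧ polar Q v f = 1 := by
  obtain ⟨u₁, h1⟩ : ∃ u₁, polar Q v u₁ = 1 := by
    obtain ⟨u, hu⟩ := exists_polar_ne_zero Q hQ hv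
    exact ⟨(polar Q v u)⁻¹ • u, by rw [polar_smul_right, smul_eq_mul, inv_mul_cancel₀ hu]⟩
  refine ⟨u₁ - Q u₁ • v, ?_, ?_⟩
  · rw [sub_eq_add_neg, QuadraticMap.map_add Q, QuadraticMap.map_neg, QuadraticMap.map_smul, hQv,
      polar_neg_right, polar_smul_right, polar_comm, h1]
    simp
  · rw [polar_sub_right, polar_smul_right, polar_self, hQv, h1]
    simp

end

section finite
variable {F : Type u} [Field F] [Fintype F]
variable {V : Type v} [AddCommGroup V] [Module F V] [FiniteDimensional F V]

omit [Fintype F] in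
/-- the kernel of `polar v ·` for `v ≠ 0` has codimension one -/
theorem finrank_ker_polar (Q : QuadraticForm F V) (hQ : (polarBilin Q).Nondegenerate)
    {v : V} (hv : v ≠ 0) : finrank F (LinearMap.ker (polarBilin Q v)) + 1 = finrank F V := by
  have hsurj : LinearMap.range (polarBilin Q v) = ⊤ := by
    obtain ⟨u, hu⟩ := exists_polar_ne_zero Q hQ hv
    rw [LinearMap.range_eq_top]
    intro a
    refine ⟨(a * (polar Q v u)⁻¹) • u, ?_⟩
    show polar Q v ((a * (polar Q v u)⁻¹) • u) = a
    rw [polar_smul_right, smul_eq_mul, mul_assoc, inv_mul_cancel₀ hu, mul_one]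
  have := LinearMap.finrank_range_add_finrank_ker (polarBilin Q v)
  rw [hsurj, finrank_top, finrank_self] at this
  omega

omit [Fintype F] in
theorem exists_ne_zero_of_finrank_pos {W : Submodule F V} (h : 0 < finrank F W) :
    ∃ w ∈ W, w ≠ 0 := by
  obtain ⟨⟨w, hw⟩, hw0⟩ := Module.finrank_pos_iff_exists_ne_zero.mp h
  exact ⟨w, hw, fun h0 => hw0 (Subtype.ext h0)⟩

omit [Fintype F] [FiniteDimensional F V] in
theorem exists_mem_not_mem_span (W : Submodule F V) (e : V) (h : 2 ≤ finrank F W) :
    ∃ w ∈ W, w ∉ Submodule.span F {e} := by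
  by_contra hcon
  push Not at hcon
  have hle : W ≤ Submodule.span F {e} := hcon
  have h1 := Submodule.finrank_mono hle
  have h2 : finrank F (Submodule.span F {e}) ≤ 1 := by
    by_cases he : e = 0
    · rw [he, Submodule.span_zero_singleton, finrank_bot]; omega
    · rw [finrank_span_singleton he]
  omega

/-- singular vectors exist in dimension at least three over a finite field (characteristic two) -/
theorem exists_singular_char_two (h2 : (2 : F) = 0) (Q : QuadraticForm F V)
    (hQ : (polarBilin Q).Nondegenerate) (hdim : 3 ≤ finrank F V) : ∃ v, v ≠ 0 ∧ Q v = 0 := by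
  have hpos : 0 < finrank F V := by omega
  obtain ⟨e, he⟩ := Module.finrank_pos_iff_exists_ne_zero.mp hpos
  by_cases hQe : Q e = 0
  · exact ⟨e, he, hQe⟩
  have hK := finrank_ker_polar Q hQ he
  obtain ⟨w, hwK, hwe⟩ := exists_mem_not_mem_span (LinearMap.ker (polarBilin Q e)) e (by omega)
  have hpew : polar Q e w = 0 := hwK
  have hw0 : w ≠ 0 := fun h => hwe (h ▸ Submodule.zero_mem _)
  by_cases hQw : Q w = 0
  · exact ⟨w, hw0, hQw⟩
  have hchar : ringChar F = 2 :=
    CharP.ringChar_of_prime_eq_zero Nat.prime_two (by exact_mod_cast h2)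
  obtain ⟨c, hc⟩ := FiniteField.isSquare_of_char_two hchar (Q e / Q w)
  have hc0 : c ≠ 0 := by
    rintro rfl
    rw [mul_zero] at hc
    exact div_ne_zero hQe hQw hc
  refine ⟨e + c • w, ?_, ?_⟩
  · intro h0
    apply hwe
    have : w = (-c⁻¹) • e := by
      have h1 : c • w = -e := eq_neg_of_add_eq_zero_right h0
      rw [neg_smul, ← smul_neg, ← h1, smul_smul, inv_mul_cancel₀ hc0, one_smul]
    rw [this]
    exact Submodule.smul_mem _ _ (Submodule.mem_span_singleton_self e)
  · rw [QuadraticMap.map_add Q, QuadraticMap.map_smul, polar_smul_right, hpew, smul_zero, add_zero,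
      smul_eq_mul, ← hc, div_mul_cancel₀ _ hQw, ← two_mul, h2, zero_mul]

/-- singular vectors exist in dimension at least three over a finite field (odd characteristic) -/
theorem exists_singular_odd (h2 : (2 : F) ≠ 0) (Q : QuadraticForm F V)
    (hQ : (polarBilin Q).Nondegenerate) (hdim : 3 ≤ finrank F V) : ∃ v, v ≠ 0 ∧ Q v = 0 := by
  by_contra hcon
  push Not at hcon
  have hpos : 0 < finrank F V := by omega
  obtain ⟨e₁, he₁⟩ := Module.finrank_pos_iff_exists_ne_zero.mp hpos
  have hK₁ := finrank_ker_polar Q hQ he₁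
  obtain ⟨e₂, he₂K, he₂⟩ := exists_ne_zero_of_finrank_pos
    (W := LinearMap.ker (polarBilin Q e₁)) (by omega)
  have hK₂ := finrank_ker_polar Q hQ he₂
  have hinf := Submodule.finrank_sup_add_finrank_inf_eq (LinearMap.ker (polarBilin Q e₁))
    (LinearMap.ker (polarBilin Q e₂))
  have hsup := Submodule.finrank_le (LinearMap.ker (polarBilin Q e₁) ⊔ LinearMap.ker (polarBilin Q e₂))
  obtain ⟨e₃, he₃K, he₃⟩ := exists_ne_zero_of_finrank_pos
    (W := LinearMap.ker (polarBilin Q e₁) ⊓ LinearMap.ker (polarBilin Q e₂)) (by omega)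
  have p12 : polar Q e₁ e₂ = 0 := he₂K
  have p13 : polar Q e₁ e₃ = 0 := he₃K.1
  have p23 : polar Q e₂ e₃ = 0 := he₃K.2
  have a1 := hcon e₁ he₁
  have a2 := hcon e₂ he₂
  have a3 := hcon e₃ he₃
  obtain ⟨x, y, hxy⟩ := exists_binary_one h2 (-(Q e₁) / Q e₃) (-(Q e₂) / Q e₃)
    (div_ne_zero (neg_ne_zero.mpr a1) a3) (div_ne_zero (neg_ne_zero.mpr a2) a3)
  have hQv : Q (x • e₁ + y • e₂ + e₃) = 0 := by
    rw [QuadraticMap.map_add Q, QuadraticMap.map_add Q, QuadraticMap.map_smul, QuadraticMap.map_smul,
      polar_add_left, polar_smul_left, polar_smul_left, polar_smul_left, polar_smul_right, p12, p13,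
      p23]
    simp only [smul_eq_mul, mul_zero, add_zero]
    field_simp at hxy
    linear_combination (-1 : F) * hxy
  have hv0 : x • e₁ + y • e₂ + e₃ ≠ 0 := by
    intro h0
    have : polar Q (x • e₁ + y • e₂ + e₃) e₃ = 0 := by rw [h0]; simp [polar]
    rw [polar_add_left, polar_add_left, polar_smul_left, polar_smul_left, p13, p23, polar_self] at this
    simp only [smul_eq_mul, mul_zero, add_zero, zero_add] at this
    rw [two_nsmul, ← two_mul] at this
    rcases mul_eq_zero.mp this with h | h
    · exact h2 h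
    · exact a3 h
  exact hcon _ hv0 hQv

theorem exists_singular (Q : QuadraticForm F V)
    (hQ : (polarBilin Q).Nondegenerate) (hdim : 3 ≤ finrank F V) : ∃ v, v ≠ 0 ∧ Q v = 0 := by
  by_cases h2 : (2 : F) = 0
  · exact exists_singular_char_two h2 Q hQ hdim
  · exact exists_singular_odd h2 Q hQ hdim

/-- the orthogonal complement of a hyperbolic pair -/
def hypCompl (Q : QuadraticForm F V) (v f : V) : Submodule F V :=
  LinearMap.ker (polarBilin Q v) ⊓ LinearMap.ker (polarBilin Q f)

omit [Fintype F] [FiniteDimensional F V] in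
theorem mem_hypCompl (Q : QuadraticForm F V) (v f w : V) :
    w ∈ hypCompl Q v f ↔ polar Q v w = 0 ∧ polar Q f w = 0 := Iff.rfl

omit [Fintype F] in
theorem finrank_hypCompl (Q : QuadraticForm F V) {v f : V} (hv : Q v = 0) (hf : Q f = 0)
    (hvf : polar Q v f = 1) : finrank F (hypCompl Q v f) + 2 = finrank F V := by
  have hker : LinearMap.ker ((polarBilin Q v).prod (polarBilin Q f)) = hypCompl Q v f :=
    LinearMap.ker_prod _ _
  have hsurj : LinearMap.range ((polarBilin Q v).prod (polarBilin Q f)) = ⊤ := by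
    rw [LinearMap.range_eq_top]
    rintro ⟨a, b⟩
    refine ⟨a • f + b • v, ?_⟩
    show (polar Q v (a • f + b • v), polar Q f (a • f + b • v)) = (a, b)
    rw [polar_add_right, polar_add_right, polar_smul_right, polar_smul_right, polar_smul_right,
      polar_smul_right, polar_self, polar_self, hv, hf, hvf, polar_comm, hvf]
    simp
  have := LinearMap.finrank_range_add_finrank_ker ((polarBilin Q v).prod (polarBilin Q f))
  rw [hsurj, finrank_top, hker, Module.finrank_prod, finrank_self] at this
  omega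

omit [Fintype F] [FiniteDimensional F V] in
theorem nondeg_hypCompl (Q : QuadraticForm F V) (hQ : (polarBilin Q).Nondegenerate) {v f : V}
    (hv : Q v = 0) (hf : Q f = 0) (hvf : polar Q v f = 1) :
    (polarBilin (Q.comp (hypCompl Q v f).subtype)).Nondegenerate := by
  apply nondeg_of_polar
  rintro ⟨w, hw⟩ hwall
  have hw' := (mem_hypCompl Q v f w).mp hw
  have hall : ∀ w' ∈ hypCompl Q v f, polar Q w w' = 0 := by
    intro w' hw'
    have := hwall ⟨w', hw'⟩
    simpa [polar] using this
  have : w = 0 := by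
    apply hQ.1 w
    intro u
    show polar Q w u = 0
    have hfv : polar Q f v = 1 := by rw [polar_comm]; exact hvf
    have hu' : u - polar Q f u • v - polar Q v u • f ∈ hypCompl Q v f := by
      rw [mem_hypCompl]
      constructor
      · rw [polar_sub_right, polar_sub_right, polar_smul_right, polar_smul_right, polar_self, hv, hvf]
        simp
      · rw [polar_sub_right, polar_sub_right, polar_smul_right, polar_smul_right, polar_self, hf, hfv]
        simp
    have h1 := hall _ hu'
    rw [polar_sub_right, polar_sub_right, polar_smul_right, polar_smul_right, polar_comm Q w v,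
      polar_comm Q w f, hw'.1, hw'.2] at h1
    simpa using h1
  exact Subtype.ext this

/-- an anisotropic plane over a finite field represents one -/
theorem exists_one_of_plane (Q : QuadraticForm F V) (hQ : (polarBilin Q).Nondegenerate)
    (hdim : finrank F V = 2) (haniso : ∀ v, v ≠ 0 → Q v ≠ 0) : ∃ x, Q x = 1 := by
  by_cases h2 : (2 : F) = 0
  · have hpos : 0 < finrank F V := by omega
    obtain ⟨e, he⟩ := Module.finrank_pos_iff_exists_ne_zero.mp hpos
    have hchar : ringChar F = 2 :=
      CharP.ringChar_of_prime_eq_zero Nat.prime_two (by exact_mod_cast h2)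
    obtain ⟨c, hc⟩ := FiniteField.isSquare_of_char_two hchar (Q e)
    have hQe := haniso e he
    have hc0 : c ≠ 0 := by
      rintro rfl
      rw [mul_zero] at hc
      exact hQe hc
    refine ⟨c⁻¹ • e, ?_⟩
    rw [QuadraticMap.map_smul, hc, smul_eq_mul]
    field_simp
  · exact exists_repr_one h2 Q hQ (by omega)

/-- normal form of a nondegenerate plane over a finite field -/
theorem plane_normal_form (Q : QuadraticForm F V) (hQ : (polarBilin Q).Nondegenerate)
    (hdim : finrank F V = 2) :
    ∃ x y, polar Q x y = 1 ∧ ((Q x = 0 ∧ Q y = 0) ∨ (Q x = 1 ∧ ∀ t : F, t ^ 2 + t + Q y ≠ 0)) := by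
  by_cases hiso : ∃ v, v ≠ 0 ∧ Q v = 0
  · obtain ⟨v, hv, hQv⟩ := hiso
    obtain ⟨f, hf, hvf⟩ := exists_hyp_partner Q hQ hv hQv
    exact ⟨v, f, hvf, Or.inl ⟨hQv, hf⟩⟩
  · push Not at hiso
    obtain ⟨x, hx⟩ := exists_one_of_plane Q hQ hdim hiso
    have hx0 : x ≠ 0 := by
      rintro rfl
      rw [QuadraticMap.map_zero] at hx
      exact zero_ne_one hx
    obtain ⟨y₁, hy₁⟩ : ∃ y₁, polar Q x y₁ = 1 := by
      obtain ⟨u, hu⟩ := exists_polar_ne_zero Q hQ hx0
      exact ⟨(polar Q x u)⁻¹ • u, by rw [polar_smul_right, smul_eq_mul, inv_mul_cancel₀ hu]⟩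
    obtain ⟨y, hy, hyx⟩ : ∃ y, polar Q x y = 1 ∧ y ∉ Submodule.span F {x} := by
      by_cases hmem : y₁ ∈ Submodule.span F {x}
      · obtain ⟨c, rfl⟩ := Submodule.mem_span_singleton.mp hmem
        have hxx : polar Q x x ≠ 0 := by
          intro h0
          rw [polar_smul_right, h0, smul_zero] at hy₁
          exact zero_ne_one hy₁
        have hK := finrank_ker_polar Q hQ hx0
        obtain ⟨w, hwK, hw0⟩ := exists_ne_zero_of_finrank_pos
          (W := LinearMap.ker (polarBilin Q x)) (by omega)
        have hxw : polar Q x w = 0 := hwK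
        have hwx : w ∉ Submodule.span F {x} := by
          intro hw
          obtain ⟨d, rfl⟩ := Submodule.mem_span_singleton.mp hw
          rw [polar_smul_right, smul_eq_mul] at hxw
          rcases mul_eq_zero.mp hxw with h | h
          · exact hw0 (by rw [h, zero_smul])
          · exact hxx h
        refine ⟨c • x + w, by rw [polar_add_right, hy₁, hxw, add_zero], ?_⟩
        intro hmem2
        apply hwx
        have : w = (c • x + w) - c • x := by abel
        rw [this]
        exact Submodule.sub_mem _ hmem2 hmem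
      · exact ⟨y₁, hy₁, hmem⟩
    refine ⟨x, y, hy, Or.inr ⟨hx, ?_⟩⟩
    intro t ht
    have hQt : Q (t • x + y) = 0 := by
      rw [QuadraticMap.map_add Q, QuadraticMap.map_smul, polar_smul_left, hx, hy]
      simp only [smul_eq_mul, mul_one]
      linear_combination ht
    have h0 : t • x + y = 0 := by
      by_contra hne
      exact hiso _ hne hQt
    apply hyx
    have : y = (-t) • x := by
      rw [neg_smul]; exact eq_neg_of_add_eq_zero_right h0
    rw [this]
    exact Submodule.smul_mem _ _ (Submodule.mem_span_singleton_self x)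

/-- hyperbolic family -/
def HypFam {W : Type*} [AddCommGroup W] [Module F W] (Q : QuadraticForm F W) {k : ℕ}
    (e f : Fin k → W) : Prop :=
  (∀ i, Q (e i) = 0 ∧ Q (f i) = 0) ∧ (∀ i j, polar Q (e i) (f j) = if i = j then 1 else 0) ∧
  (∀ i j, polar Q (e i) (e j) = 0 ∧ polar Q (f i) (f j) = 0)

/-- Witt-type decomposition: `k` hyperbolic planes plus a plane in normal form -/
theorem hyp_decomp (k : ℕ) : ∀ (V : Type v) [AddCommGroup V] [Module F V] [FiniteDimensional F V]
    (Q : QuadraticForm F V), (polarBilin Q).Nondegenerate → finrank F V = 2 * k + 2 →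
    ∃ (e f : Fin k → V) (x y : V), HypFam Q e f ∧
      (∀ i, polar Q (e i) x = 0 ∧ polar Q (f i) x = 0 ∧ polar Q (e i) y = 0 ∧ polar Q (f i) y = 0) ∧
      polar Q x y = 1 ∧ ((Q x = 0 ∧ Q y = 0) ∨ (Q x = 1 ∧ ∀ t : F, t ^ 2 + t + Q y ≠ 0)) := by
  induction k with
  | zero =>
    intro V _ _ _ Q hQ hdim
    obtain ⟨x, y, hxy, h⟩ := plane_normal_form Q hQ (by omega)
    exact ⟨Fin.elim0, Fin.elim0, x, y, ⟨fun i => i.elim0, fun i => i.elim0, fun i => i.elim0⟩,
      fun i => i.elim0, hxy, h⟩
  | succ k ih =>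
    intro V _ _ _ Q hQ hdim
    obtain ⟨v, hv0, hQv⟩ := exists_singular Q hQ (by omega)
    obtain ⟨f₀, hQf, hvf⟩ := exists_hyp_partner Q hQ hv0 hQv
    have hfv : polar Q f₀ v = 1 := by rw [polar_comm]; exact hvf
    have hW := finrank_hypCompl Q hQv hQf hvf
    have hWnd := nondeg_hypCompl Q hQ hQv hQf hvf
    obtain ⟨e', f', x', y', ⟨h1, h2, h3⟩, h4, h5, h6⟩ :=
      ih (hypCompl Q v f₀) (Q.comp (hypCompl Q v f₀).subtype) hWnd (by omega)
    have hpol : ∀ a b : hypCompl Q v f₀,
        polar (Q.comp (hypCompl Q v f₀).subtype) a b = polar Q (a : V) (b : V) := by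
      intro a b; simp [polar]
    have hvW : ∀ w : hypCompl Q v f₀, polar Q v (w : V) = 0 := fun w => w.2.1
    have hfW : ∀ w : hypCompl Q v f₀, polar Q f₀ (w : V) = 0 := fun w => w.2.2
    have hWv : ∀ w : hypCompl Q v f₀, polar Q (w : V) v = 0 := fun w => by
      rw [polar_comm]; exact hvW w
    have hWf : ∀ w : hypCompl Q v f₀, polar Q (w : V) f₀ = 0 := fun w => by
      rw [polar_comm]; exact hfW w
    have hvv : polar Q v v = 0 := by rw [polar_self, hQv, smul_zero]
    have hff : polar Q f₀ f₀ = 0 := by rw [polar_self, hQf, smul_zero]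
    refine ⟨Fin.cons v (fun i => (e' i : V)), Fin.cons f₀ (fun i => (f' i : V)), (x' : V), (y' : V),
      ⟨?_, ?_, ?_⟩, ?_, ?_, ?_⟩
    · intro i
      refine Fin.cases ?_ (fun i => ?_) i
      · simp only [Fin.cons_zero]; exact ⟨hQv, hQf⟩
      · simp only [Fin.cons_succ]; exact h1 i
    · intro i j
      refine Fin.cases ?_ (fun i => ?_) i <;> refine Fin.cases ?_ (fun j => ?_) j
      · simp only [Fin.cons_zero]; simpa using hvf
      · simp only [Fin.cons_zero, Fin.cons_succ]
        rw [hvW, if_neg (Fin.succ_ne_zero j).symm]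
      · simp only [Fin.cons_zero, Fin.cons_succ]
        rw [hWf, if_neg (Fin.succ_ne_zero i)]
      · simp only [Fin.cons_succ]
        rw [← hpol, h2 i j]
        simp only [Fin.succ_inj]
    · intro i j
      refine Fin.cases ?_ (fun i => ?_) i <;> refine Fin.cases ?_ (fun j => ?_) j
      · simp only [Fin.cons_zero]; exact ⟨hvv, hff⟩
      · simp only [Fin.cons_zero, Fin.cons_succ]; exact ⟨hvW _, hfW _⟩
      · simp only [Fin.cons_zero, Fin.cons_succ]; exact ⟨hWv _, hWf _⟩
      · simp only [Fin.cons_succ]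
        rw [← hpol, ← hpol]; exact h3 i j
    · intro i
      refine Fin.cases ?_ (fun i => ?_) i
      · simp only [Fin.cons_zero]; exact ⟨hvW _, hfW _, hvW _, hfW _⟩
      · simp only [Fin.cons_succ]
        rw [← hpol, ← hpol, ← hpol, ← hpol]; exact h4 i
    · rw [← hpol]; exact h5
    · exact h6

omit [Fintype F] in
theorem HypFam.cons {W : Type*} [AddCommGroup W] [Module F W] {Q : QuadraticForm F W} {k : ℕ}
    {e f : Fin k → W} (h : HypFam Q e f) {x y : W} (hx : Q x = 0) (hy : Q y = 0)
    (hxy : polar Q x y = 1)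
    (horth : ∀ i, polar Q (e i) x = 0 ∧ polar Q (f i) x = 0 ∧ polar Q (e i) y = 0 ∧
      polar Q (f i) y = 0) :
    HypFam Q (Fin.cons x e : Fin (k + 1) → W) (Fin.cons y f : Fin (k + 1) → W) := by
  obtain ⟨h1, h2, h3⟩ := h
  have hxx : polar Q x x = 0 := by rw [polar_self, hx, smul_zero]
  have hyy : polar Q y y = 0 := by rw [polar_self, hy, smul_zero]
  refine ⟨?_, ?_, ?_⟩
  · intro i
    refine Fin.cases ?_ (fun i => ?_) i
    · simp only [Fin.cons_zero]; exact ⟨hx, hy⟩
    · simp only [Fin.cons_succ]; exact h1 i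
  · intro i j
    refine Fin.cases ?_ (fun i => ?_) i <;> refine Fin.cases ?_ (fun j => ?_) j
    · simp only [Fin.cons_zero]; simpa using hxy
    · simp only [Fin.cons_zero, Fin.cons_succ]
      rw [polar_comm, (horth j).2.1, if_neg (Fin.succ_ne_zero j).symm]
    · simp only [Fin.cons_zero, Fin.cons_succ]
      rw [(horth i).2.2.1, if_neg (Fin.succ_ne_zero i)]
    · simp only [Fin.cons_succ]
      rw [h2 i j]
      simp only [Fin.succ_inj]
  · intro i j
    refine Fin.cases ?_ (fun i => ?_) i <;> refine Fin.cases ?_ (fun j => ?_) j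
    · simp only [Fin.cons_zero]; exact ⟨hxx, hyy⟩
    · simp only [Fin.cons_zero, Fin.cons_succ]
      exact ⟨by rw [polar_comm]; exact (horth j).1, by rw [polar_comm]; exact (horth j).2.2.2⟩
    · simp only [Fin.cons_zero, Fin.cons_succ]; exact ⟨(horth i).1, (horth i).2.2.2⟩
    · simp only [Fin.cons_succ]; exact h3 i j

omit [Fintype F] [FiniteDimensional F V] in
/-- a family with invertible Gram matrix and the right cardinality is a basis -/
theorem exists_basis_of_gram {ι : Type*} [Fintype ι] [DecidableEq ι] [Nonempty ι]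
    (Q : QuadraticForm F V) (w : ι → V)
    (hG : (Matrix.of fun i j => polar Q (w i) (w j)).det ≠ 0)
    (hcard : Fintype.card ι = finrank F V) : ∃ b : Module.Basis ι F V, ⇑b = w := by
  have hli : LinearIndependent F w := by
    rw [Fintype.linearIndependent_iff]
    intro g hg
    have hvm : Matrix.vecMul g (Matrix.of fun i j => polar Q (w i) (w j)) = 0 := by
      ext j
      have := congrArg (fun u => polarBilin Q u (w j)) hg
      simp only [map_sum, map_smul, LinearMap.sum_apply, LinearMap.smul_apply, map_zero,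
        LinearMap.zero_apply, polarBilin_apply_apply, smul_eq_mul] at this
      simpa [Matrix.vecMul, dotProduct] using this
    have := Matrix.eq_zero_of_vecMul_eq_zero hG hvm
    intro i
    exact congrFun this i
  exact ⟨basisOfLinearIndependentOfCardEqFinrank hli hcard,
    coe_basisOfLinearIndependentOfCardEqFinrank hli hcard⟩

end finite

end Cfsg.Agent.Helper13
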