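import Mathlib
import Cfsg.Prelude.Def_Classical

set_option autoImplicit false
set_option linter.unusedSectionVars false

/-! # Transferring a linear action preserving a function to a hom into an isometry group -/

namespace Cfsg.Agent.Helper13

open Matrix

section
variable {κ : Type} [Fintype κ] [DecidableEq κ] {F : Type*} [Field F]

theorem mem_isometryGroup_iff (Q : (κ → F) → F) (g : GL κ F) :
    g ∈ Cfsg.isometryGroup F Q ↔ ∀ u, Q ((g : Matrix κ κ F) *ᵥ u) = Q u := by
  constructor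
  · intro h u
    exact h u 0
  · intro h u v
    exact h u

variable {G : Type*} [Group G] {V : Type*} [AddCommGroup V] [Module F V]

/-- the matrix of a transported endomorphism -/
noncomputable def transMat (ρ : G → V →ₗ[F] V) (e : V ≃ₗ[F] (κ → F)) (g : G) : Matrix κ κ F :=
  LinearMap.toMatrix' ((e : V →ₗ[F] (κ → F)) ∘ₗ ρ g ∘ₗ (e.symm : (κ → F) →ₗ[F] V))

theorem transMat_mulVec (ρ : G → V →ₗ[F] V) (e : V ≃ₗ[F] (κ → F)) (g : G) (w : κ → F) :
    transMat ρ e g *ᵥ w = e (ρ g (e.symm w)) := by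
  unfold transMat
  rw [LinearMap.toMatrix'_mulVec]
  rfl

theorem transMat_one (ρ : G → V →ₗ[F] V) (h1 : ∀ v, ρ 1 v = v) (e : V ≃ₗ[F] (κ → F)) :
    transMat ρ e 1 = 1 := by
  unfold transMat
  rw [← LinearMap.toMatrix'_id]
  congr 1
  refine LinearMap.ext fun w => ?_
  simp [h1]

theorem transMat_mul (ρ : G → V →ₗ[F] V) (hmul : ∀ g h v, ρ (g * h) v = ρ g (ρ h v))
    (e : V ≃ₗ[F] (κ → F)) (g h : G) :
    transMat ρ e (g * h) = transMat ρ e g * transMat ρ e h := by
  unfold transMat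
  rw [← LinearMap.toMatrix'_comp]
  congr 1
  refine LinearMap.ext fun w => ?_
  simp [hmul]

/-- the transported element of `GL` -/
noncomputable def transGL (ρ : G → V →ₗ[F] V) (h1 : ∀ v, ρ 1 v = v)
    (hmul : ∀ g h v, ρ (g * h) v = ρ g (ρ h v)) (e : V ≃ₗ[F] (κ → F)) (g : G) : GL κ F :=
  ⟨transMat ρ e g, transMat ρ e g⁻¹,
    by rw [← transMat_mul ρ hmul, mul_inv_cancel, transMat_one ρ h1],
    by rw [← transMat_mul ρ hmul, inv_mul_cancel, transMat_one ρ h1]⟩

/-- a linear action preserving `q ∘ e` gives a hom to the isometry group of `q` -/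
theorem exists_hom_isometry (ρ : G → V →ₗ[F] V) (h1 : ∀ v, ρ 1 v = v)
    (hmul : ∀ g h v, ρ (g * h) v = ρ g (ρ h v)) (e : V ≃ₗ[F] (κ → F)) (q : (κ → F) → F)
    (hq : ∀ g v, q (e (ρ g v)) = q (e v)) :
    ∃ φ : G →* Cfsg.isometryGroup F q,
      ∀ g w, ((φ g : GL κ F) : Matrix κ κ F) *ᵥ w = e (ρ g (e.symm w)) := by
  have hmem : ∀ g, transGL ρ h1 hmul e g ∈ Cfsg.isometryGroup F q := by
    intro g
    rw [mem_isometryGroup_iff]
    intro u
    change q (transMat ρ e g *ᵥ u) = q u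
    rw [transMat_mulVec, hq, LinearEquiv.apply_symm_apply]
  refine ⟨MonoidHom.mk' (fun g => ⟨transGL ρ h1 hmul e g, hmem g⟩) ?_, ?_⟩
  · intro g h
    apply Subtype.ext
    apply Units.ext
    exact transMat_mul ρ hmul e g h
  · intro g w
    exact transMat_mulVec ρ e g w

/-- faithfulness transfers -/
theorem injective_of_faithful (ρ : G → V →ₗ[F] V) (e : V ≃ₗ[F] (κ → F)) {H : Type*} [Group H]
    (ψ : H →* GL κ F) (φ : G →* H)
    (hφ : ∀ g w, ((ψ (φ g) : GL κ F) : Matrix κ κ F) *ᵥ w = e (ρ g (e.symm w)))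
    (hfaith : ∀ g, (∀ v, ρ g v = v) → g = 1) : Function.Injective φ := by
  rw [injective_iff_map_eq_one]
  intro g hg
  apply hfaith
  intro v
  have h := hφ g (e v)
  rw [hg, map_one, Units.val_one, Matrix.one_mulVec, LinearEquiv.symm_apply_apply] at h
  exact (e.injective h).symm

end

end Cfsg.Agent.Helper13
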