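import Mathlib
import Cfsg.Agent.Lib.Helper6.UniDefs
import Cfsg.Agent.Lib.Helper6.ChevLLevi
import Cfsg.Agent.Lib.Helper17.ChevSt2
import Cfsg.Agent.Lib.Lead.ChevBruhat2
import Cfsg.Agent.Lib.Lead.ChevUw

/-!
# S2314, piece UNI-WJ: a word in `J` making all the fundamental roots of `J` negative
-/

set_option autoImplicit false
set_option linter.unusedSectionVars false
set_option linter.unusedVariables false

namespace Cfsg.Agent.Helper6.Uni

open Cfsg Cfsg.Lie Cfsg.Agent.Lead.Chev Cfsg.Agent.Helper6.ChevL Cfsg.Agent.Helper17.ChevSt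
  Cfsg.Agent.Helper2.WordLen Cfsg.Agent.Helper2.BN Cfsg.Agent.Helper17.BNCox

variable {F : Type*} [Field F] {D : ChevalleyDatum} (hF : ChevFacts D F)

include hF

/-- appending a letter `j` with `w(α_j)` not negative strictly increases the number of positive
roots made negative. -/
theorem uniwj_card_lt (w : List ℕ) (hw : ∀ i ∈ w, i < D.rank) (j : ℕ) (hj : j < D.rank)
    (hnot : ¬ D.IsNegRoot (reflWord D w (D.simple j))) :
    (negSet D w).card < (negSet D (w ++ [j])).card := by
  have hlt : reflWord D w (D.simple j) < D.nroots :=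
    reflWord_lt D (etaOf D) hF.facts w hw _ (hF.simple_lt j hj)
  have hpos : D.IsPosRoot (reflWord D w (D.simple j)) :=
    (hF.sign.pos_or_neg _ hlt).resolve_right hnot
  have hw' : ∀ i ∈ w ++ [j], i < D.rank := by
    intro i hi
    rcases List.mem_append.1 hi with h | h
    · exact hw i h
    · rw [List.mem_singleton] at h; rw [h]; exact hj
  have hneg : D.IsNegRoot (reflWord D (w ++ [j]) (D.simple j)) := by
    rw [reflWord_snoc, reflectRoot_simple,
      reflWord_neg D (etaOf D) hF.facts w hw _ (hF.simple_lt j hj)]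
    exact hF.sign.neg_of_pos _ hpos
  have h1 := hF.card_negSet_snoc_lt (w ++ [j]) hw' j hj hneg
  have h2 : negSet D (w ++ [j] ++ [j]) = negSet D w := by
    ext r
    rw [mem_negSet, mem_negSet]
    refine and_congr_right fun hr => ?_
    rw [reflWord_snoc, reflWord_snoc, (hF.facts j hj).winv r hr.1]
  rw [h2] at h1
  exact h1

/-- PIECE UNI-WJ: a word in `J` making all fundamental roots of `J` negative (maximise `(negSet D w).card`
over the words in `J`; `card_negSet_snoc_lt` and `winv` give strict growth when some `w(α_j)` is positive). -/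
theorem exists_wJ (J : Set ℕ) :
    ∃ w : List ℕ, (∀ i ∈ w, i ∈ J ∧ i < D.rank) ∧
      ∀ j ∈ J, j < D.rank → D.IsNegRoot (reflWord D w (D.simple j)) := by
  by_contra hcon
  push_neg at hcon
  have key : ∀ n : ℕ, ∃ w : List ℕ, (∀ i ∈ w, i ∈ J ∧ i < D.rank) ∧ n ≤ (negSet D w).card := by
    intro n
    induction n with
    | zero => exact ⟨[], fun i hi => absurd hi (List.not_mem_nil), Nat.zero_le _⟩
    | succ n ih =>
      obtain ⟨w, hw, hn⟩ := ih
      obtain ⟨j, hjJ, hj, hnot⟩ := hcon w hw
      refine ⟨w ++ [j], ?_, ?_⟩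
      · intro i hi
        rcases List.mem_append.1 hi with h | h
        · exact hw i h
        · rw [List.mem_singleton] at h; rw [h]; exact ⟨hjJ, hj⟩
      · have := uniwj_card_lt hF w (fun i hi => (hw i hi).2) j hj hnot
        omega
  obtain ⟨w, -, hn⟩ := key (D.nroots + 1)
  have hle : (negSet D w).card ≤ D.nroots := by
    unfold negSet
    calc _ ≤ (Finset.range D.nroots).card := Finset.card_filter_le _ _
      _ = D.nroots := Finset.card_range _
  omega

end Cfsg.Agent.Helper6.Uni
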