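import Mathlib

/-!
# The (B, N)-pair of the special unitary group, part 0 (helper13)

The special unitary group `WSU n φ` of the Witt form `h(u, v) = ∑ a, u a * φ (v (rev a))` (antidiagonal
Gram matrix `Kmat`), its upper triangular subgroup `bor`, monomial subgroup `mon`, diagonal subgroup `tor`.
-/

set_option autoImplicit false
set_option linter.unusedSectionVars false
set_option linter.unusedVariables false

namespace Cfsg.Agent.Helper13.SuBN

open Matrix

variable {n : ℕ} {F : Type*} [Field F] {φ : F →+* F}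

/-- the antidiagonal matrix -/
def Kmat (n : ℕ) (F : Type*) [Field F] : Matrix (Fin n) (Fin n) F :=
  Matrix.of fun a b => if b = Fin.rev a then (1 : F) else 0

theorem Kmat_apply (a b : Fin n) : Kmat n F a b = if b = Fin.rev a then 1 else 0 := rfl

theorem Kmat_mul_apply (M : Matrix (Fin n) (Fin n) F) (a b : Fin n) :
    (Kmat n F * M) a b = M (Fin.rev a) b := by
  rw [Matrix.mul_apply, Finset.sum_eq_single (Fin.rev a)]
  · rw [Kmat_apply, if_pos rfl, one_mul]
  · intro c _ hc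
    rw [Kmat_apply, if_neg hc, zero_mul]
  · intro h; exact absurd (Finset.mem_univ _) h

theorem mul_Kmat_apply (M : Matrix (Fin n) (Fin n) F) (a b : Fin n) :
    (M * Kmat n F) a b = M a (Fin.rev b) := by
  rw [Matrix.mul_apply, Finset.sum_eq_single (Fin.rev b)]
  · rw [Kmat_apply, Fin.rev_rev, if_pos rfl, mul_one]
  · intro c _ hc
    rw [Kmat_apply, if_neg, mul_zero]
    intro e
    apply hc
    rw [e, Fin.rev_rev]
  · intro h; exact absurd (Finset.mem_univ _) h

theorem Kmat_mul_self : Kmat n F * Kmat n F = 1 := by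
  ext a b
  rw [Kmat_mul_apply, Kmat_apply, Fin.rev_rev, Matrix.one_apply]
  by_cases h : a = b
  · rw [if_pos h, if_pos h.symm]
  · rw [if_neg h, if_neg (fun e => h e.symm)]

/-- the special unitary group of the Witt form -/
def WSU (n : ℕ) {F : Type*} [Field F] (φ : F →+* F) :
    Subgroup (Matrix.SpecialLinearGroup (Fin n) F) where
  carrier := {g | g.1ᵀ * Kmat n F * g.1.map φ = Kmat n F ∧
    g.1 * Kmat n F * (g.1.map φ)ᵀ = Kmat n F}
  one_mem' := by
    constructor
    · show (1 : Matrix (Fin n) (Fin n) F)ᵀ * Kmat n F * (1 : Matrix (Fin n) (Fin n) F).map φ = _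
      rw [Matrix.transpose_one, Matrix.one_mul, Matrix.map_one _ (map_zero φ) (map_one φ),
        Matrix.mul_one]
    · show (1 : Matrix (Fin n) (Fin n) F) * Kmat n F *
        ((1 : Matrix (Fin n) (Fin n) F).map φ)ᵀ = _
      rw [Matrix.map_one _ (map_zero φ) (map_one φ), Matrix.transpose_one, Matrix.one_mul,
        Matrix.mul_one]
  mul_mem' := by
    rintro g h ⟨hg1, hg2⟩ ⟨hh1, hh2⟩
    constructor
    · show (g.1 * h.1)ᵀ * Kmat n F * (g.1 * h.1).map φ = _
      rw [Matrix.transpose_mul, Matrix.map_mul]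
      calc h.1ᵀ * g.1ᵀ * Kmat n F * (g.1.map φ * h.1.map φ)
          = h.1ᵀ * (g.1ᵀ * Kmat n F * g.1.map φ) * h.1.map φ := by
            simp only [Matrix.mul_assoc]
        _ = Kmat n F := by rw [hg1, hh1]
    · show (g.1 * h.1) * Kmat n F * ((g.1 * h.1).map φ)ᵀ = _
      rw [Matrix.map_mul, Matrix.transpose_mul]
      calc g.1 * h.1 * Kmat n F * ((h.1.map φ)ᵀ * (g.1.map φ)ᵀ)
          = g.1 * (h.1 * Kmat n F * (h.1.map φ)ᵀ) * (g.1.map φ)ᵀ := by
            simp only [Matrix.mul_assoc]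
        _ = Kmat n F := by rw [hh2, hg2]
  inv_mem' := by
    rintro g ⟨hg1, hg2⟩
    have e1 : g.1 * (g⁻¹).1 = 1 := by
      rw [← Matrix.SpecialLinearGroup.coe_mul, mul_inv_cancel, Matrix.SpecialLinearGroup.coe_one]
    have e2 : (g⁻¹).1 * g.1 = 1 := by
      rw [← Matrix.SpecialLinearGroup.coe_mul, inv_mul_cancel, Matrix.SpecialLinearGroup.coe_one]
    have e1φ : g.1.map φ * (g⁻¹).1.map φ = 1 := by
      rw [← Matrix.map_mul, e1, Matrix.map_one _ (map_zero φ) (map_one φ)]
    have e2φ : (g⁻¹).1.map φ * g.1.map φ = 1 := by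
      rw [← Matrix.map_mul, e2, Matrix.map_one _ (map_zero φ) (map_one φ)]
    constructor
    · calc (g⁻¹).1ᵀ * Kmat n F * (g⁻¹).1.map φ
          = (g⁻¹).1ᵀ * (g.1ᵀ * Kmat n F * g.1.map φ) * (g⁻¹).1.map φ := by rw [hg1]
        _ = (g.1 * (g⁻¹).1)ᵀ * Kmat n F * (g.1.map φ * (g⁻¹).1.map φ) := by
            rw [Matrix.transpose_mul]
            simp only [Matrix.mul_assoc]
        _ = Kmat n F := by rw [e1, e1φ, Matrix.transpose_one, Matrix.one_mul, Matrix.mul_one]
    · calc (g⁻¹).1 * Kmat n F * ((g⁻¹).1.map φ)ᵀ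
          = (g⁻¹).1 * (g.1 * Kmat n F * (g.1.map φ)ᵀ) * ((g⁻¹).1.map φ)ᵀ := by rw [hg2]
        _ = ((g⁻¹).1 * g.1) * Kmat n F * ((g⁻¹).1.map φ * g.1.map φ)ᵀ := by
            rw [Matrix.transpose_mul]
            simp only [Matrix.mul_assoc]
        _ = Kmat n F := by rw [e2, e2φ, Matrix.transpose_one, Matrix.one_mul, Matrix.mul_one]

/-- the matrix of an element -/
def mt (g : WSU n φ) : Matrix (Fin n) (Fin n) F := g.1.1

theorem mt_mul (g h : WSU n φ) : mt (g * h) = mt g * mt h := rfl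

theorem mt_one : mt (1 : WSU n φ) = 1 := rfl

theorem mt_injective : Function.Injective (mt : WSU n φ → Matrix (Fin n) (Fin n) F) := by
  intro g h e
  apply Subtype.ext
  apply Subtype.ext
  exact e

theorem mt_inv_mul (g : WSU n φ) : mt g⁻¹ * mt g = 1 := by
  rw [← mt_mul, inv_mul_cancel, mt_one]

theorem mt_mul_inv (g : WSU n φ) : mt g * mt g⁻¹ = 1 := by
  rw [← mt_mul, mul_inv_cancel, mt_one]

theorem mt_det (g : WSU n φ) : (mt g).det = 1 := g.1.2

/-- the entries of the inverse of a unitary matrix -/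
theorem inv_apply (g : WSU n φ) (a b : Fin n) :
    mt g⁻¹ a b = φ (mt g (Fin.rev b) (Fin.rev a)) := by
  have h2 : mt g * Kmat n F * ((mt g).map φ)ᵀ = Kmat n F := g.2.2
  have h3 : mt g * (Kmat n F * ((mt g).map φ)ᵀ * Kmat n F) = 1 := by
    rw [← Matrix.mul_assoc, ← Matrix.mul_assoc, h2, Kmat_mul_self]
  have h4 : mt g⁻¹ = Kmat n F * ((mt g).map φ)ᵀ * Kmat n F := by
    calc mt g⁻¹ = mt g⁻¹ * (mt g * (Kmat n F * ((mt g).map φ)ᵀ * Kmat n F)) := by
          rw [h3, Matrix.mul_one]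
      _ = Kmat n F * ((mt g).map φ)ᵀ * Kmat n F := by
          rw [← Matrix.mul_assoc (mt g⁻¹), mt_inv_mul, Matrix.one_mul]
  rw [h4, mul_Kmat_apply, Kmat_mul_apply, Matrix.transpose_apply, Matrix.map_apply]

/-- the basis vectors -/
def ev (a : Fin n) : Fin n → F := Pi.single a 1

theorem ev_apply (a i : Fin n) : (ev a : Fin n → F) i = if i = a then 1 else 0 := by
  unfold ev
  rw [Pi.single_apply]

theorem ev_ne {a q : Fin n} (h : q ≠ a) : (ev q : Fin n → F) a = 0 := by
  rw [ev_apply, if_neg (fun e => h e.symm)]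

theorem ev_self (a : Fin n) : (ev a : Fin n → F) a = 1 := by
  rw [ev_apply, if_pos rfl]

theorem mulVec_ev (M : Matrix (Fin n) (Fin n) F) (q p : Fin n) :
    (M *ᵥ (ev q : Fin n → F)) p = M p q := by
  unfold ev
  rw [Matrix.mulVec_single_one]
  rfl

theorem ext_mulVec {g h : WSU n φ} (H : ∀ q, mt g *ᵥ (ev q : Fin n → F) = mt h *ᵥ ev q) : g = h := by
  apply mt_injective
  ext p q
  rw [← mulVec_ev (mt g) q p, ← mulVec_ev (mt h) q p, H]

/-! ### the upper triangular subgroup -/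

/-- the upper triangular subgroup -/
def bor (n : ℕ) {F : Type*} [Field F] (φ : F →+* F) : Subgroup (WSU n φ) where
  carrier := {g | ∀ a b : Fin n, b < a → mt g a b = 0}
  one_mem' := by
    intro a b hab
    exact Matrix.one_apply_ne (ne_of_gt hab)
  mul_mem' := by
    intro g h hg hh a b hab
    rw [mt_mul, Matrix.mul_apply]
    apply Finset.sum_eq_zero
    intro c _
    by_cases hc : c < a
    · rw [hg a c hc, zero_mul]
    · rw [hh c b (lt_of_lt_of_le hab (not_lt.1 hc)), mul_zero]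
  inv_mem' := by
    intro g hg a b hab
    rw [inv_apply, hg _ _ (Fin.rev_lt_rev.2 hab), map_zero]

theorem mem_bor_iff (g : WSU n φ) : g ∈ bor n φ ↔ ∀ a b : Fin n, b < a → mt g a b = 0 := Iff.rfl

/-! ### monomial matrices -/

/-- `g` is monomial with permutation `π`: the only non-zero entry of the column `b` is in the row `π b` -/
def IsMon (g : Matrix (Fin n) (Fin n) F) (π : Equiv.Perm (Fin n)) : Prop :=
  ∀ a b, a ≠ π b → g a b = 0

theorem isMon_one : IsMon (1 : Matrix (Fin n) (Fin n) F) 1 := by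
  intro a b hab
  exact Matrix.one_apply_ne hab

theorem IsMon.mul {g h : Matrix (Fin n) (Fin n) F} {π ρ : Equiv.Perm (Fin n)}
    (hg : IsMon g π) (hh : IsMon h ρ) : IsMon (g * h) (π * ρ) := by
  intro a b hab
  rw [Matrix.mul_apply]
  apply Finset.sum_eq_zero
  intro c _
  by_cases hc : c = ρ b
  · rw [hg a c (by rw [hc]; exact hab), zero_mul]
  · rw [hh c b hc, mul_zero]

theorem IsMon.inv {g : WSU n φ} {π : Equiv.Perm (Fin n)}
    (hπ : ∀ a, π (Fin.rev a) = Fin.rev (π a)) (hg : IsMon (mt g) π) :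
    IsMon (mt g⁻¹) π⁻¹ := by
  intro a b hab
  rw [inv_apply, hg, map_zero]
  intro e
  apply hab
  rw [hπ, Fin.rev_inj] at e
  rw [e]
  simp

/-- left multiplication by a monomial matrix -/
theorem IsMon.mul_apply {N : Matrix (Fin n) (Fin n) F} {π : Equiv.Perm (Fin n)} (hn : IsMon N π)
    (M : Matrix (Fin n) (Fin n) F) (a b : Fin n) :
    (N * M) a b = N a (π⁻¹ a) * M (π⁻¹ a) b := by
  rw [Matrix.mul_apply, Finset.sum_eq_single (π⁻¹ a)]
  · intro c _ hc
    rw [hn a c, zero_mul]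
    intro e
    apply hc
    rw [e]
    simp
  · intro h; exact absurd (Finset.mem_univ _) h

/-- right multiplication by a monomial matrix -/
theorem IsMon.apply_mul {N : Matrix (Fin n) (Fin n) F} {π : Equiv.Perm (Fin n)} (hn : IsMon N π)
    (M : Matrix (Fin n) (Fin n) F) (a b : Fin n) :
    (M * N) a b = M a (π b) * N (π b) b := by
  rw [Matrix.mul_apply, Finset.sum_eq_single (π b)]
  · intro c _ hc
    rw [hn c b hc, mul_zero]
  · intro h; exact absurd (Finset.mem_univ _) h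

/-- the non-zero entries of a monomial unitary matrix -/
theorem IsMon.apply_ne_zero {g : WSU n φ} {π : Equiv.Perm (Fin n)}
    (hg : IsMon (mt g) π) (b : Fin n) : mt g (π b) b ≠ 0 := by
  intro h0
  have h1 := congrFun (congrFun (mt_inv_mul g) b) b
  rw [hg.apply_mul, h0, mul_zero, Matrix.one_apply_eq] at h1
  exact zero_ne_one h1

/-- the permutation of a monomial unitary matrix is unique -/
theorem IsMon.unique {g : WSU n φ} {π ρ : Equiv.Perm (Fin n)}
    (hg : IsMon (mt g) π) (hg' : IsMon (mt g) ρ) : π = ρ := by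
  ext b
  by_contra h
  exact hg.apply_ne_zero b (hg' _ _ (fun e => h (by rw [e])))

/-- the permutation of a monomial unitary matrix commutes with `Fin.rev` -/
theorem IsMon.comm_rev {g : WSU n φ} {π : Equiv.Perm (Fin n)}
    (hg : IsMon (mt g) π) (a : Fin n) : π (Fin.rev a) = Fin.rev (π a) := by
  have h1 := congrFun (congrFun (mt_inv_mul g) a) a
  rw [hg.apply_mul, Matrix.one_apply_eq, inv_apply] at h1
  by_contra h
  have h2 : mt g (Fin.rev (π a)) (Fin.rev a) = 0 := hg _ _ (fun e => h e.symm)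
  rw [h2, map_zero, zero_mul] at h1
  exact zero_ne_one h1

/-- the monomial subgroup -/
def mon (n : ℕ) {F : Type*} [Field F] (φ : F →+* F) : Subgroup (WSU n φ) where
  carrier := {g | ∃ π : Equiv.Perm (Fin n), IsMon (mt g) π}
  one_mem' := ⟨1, isMon_one⟩
  mul_mem' := by
    rintro g h ⟨π, hg⟩ ⟨ρ, hh⟩
    exact ⟨π * ρ, hg.mul hh⟩
  inv_mem' := by
    rintro g ⟨π, hg⟩
    exact ⟨π⁻¹, IsMon.inv hg.comm_rev hg⟩

theorem mem_mon_iff (g : WSU n φ) : g ∈ mon n φ ↔ ∃ π : Equiv.Perm (Fin n), IsMon (mt g) π :=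
  Iff.rfl

theorem IsMon.inv' {g : WSU n φ} {π : Equiv.Perm (Fin n)} (hg : IsMon (mt g) π) :
    IsMon (mt g⁻¹) π⁻¹ :=
  IsMon.inv hg.comm_rev hg

/-- a monomial matrix with trivial permutation is upper triangular -/
theorem mem_bor_of_isMon_one {g : WSU n φ} (hg : IsMon (mt g) 1) : g ∈ bor n φ := by
  intro a b hab
  apply hg
  intro e
  rw [Equiv.Perm.one_apply] at e
  rw [e] at hab
  exact lt_irrefl _ hab

/-- a permutation that does not increase the positions is trivial -/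
theorem perm_eq_one_of_le (π : Equiv.Perm (Fin n)) (h : ∀ b, π b ≤ b) : π = 1 := by
  have hsum : ∑ b, ((π b : Fin n) : ℕ) = ∑ b : Fin n, (b : ℕ) :=
    Equiv.sum_comp π (fun b : Fin n => (b : ℕ))
  have h2 := (Finset.sum_eq_sum_iff_of_le (fun b _ => Fin.le_def.1 (h b))).1 hsum
  ext b
  rw [Equiv.Perm.one_apply]
  exact h2 b (Finset.mem_univ b)

/-- an upper triangular monomial matrix has trivial permutation -/
theorem perm_eq_one_of_mem_bor {g : WSU n φ} {π : Equiv.Perm (Fin n)}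
    (hg : IsMon (mt g) π) (hB : g ∈ bor n φ) : π = 1 := by
  apply perm_eq_one_of_le
  intro b
  by_contra hlt
  exact hg.apply_ne_zero b (hB _ _ (not_le.1 hlt))

/-- conjugating by a monomial matrix: the entries -/
theorem conj_apply {N : WSU n φ} {π : Equiv.Perm (Fin n)} (hn : IsMon (mt N) π) (g : WSU n φ)
    (a b : Fin n) :
    mt (N * g * N⁻¹) a b = mt N a (π⁻¹ a) * mt g (π⁻¹ a) (π⁻¹ b) * mt N⁻¹ (π⁻¹ b) b := by
  rw [mt_mul, mt_mul, hn.inv'.apply_mul, hn.mul_apply]

/-- conjugating by the inverse of a monomial matrix: the entries -/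
theorem conj_inv_apply {N : WSU n φ} {π : Equiv.Perm (Fin n)} (hn : IsMon (mt N) π) (g : WSU n φ)
    (a b : Fin n) :
    mt (N⁻¹ * g * N) a b = mt N⁻¹ a (π a) * mt g (π a) (π b) * mt N (π b) b := by
  have h := conj_apply hn.inv' g a b
  rw [inv_inv, inv_inv] at h
  exact h

/-- `B ⊓ N` is normalised by `N` -/
theorem conj_mem_bor_of_mon {N t : WSU n φ} (hn : N ∈ mon n φ) (ht : t ∈ bor n φ ⊓ mon n φ) :
    N * t * N⁻¹ ∈ bor n φ := by
  obtain ⟨π, hπ⟩ := hn
  obtain ⟨htB, ρ, hρ⟩ := ht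
  have h1 : ρ = 1 := perm_eq_one_of_mem_bor hρ htB
  subst h1
  apply mem_bor_of_isMon_one
  have := (hπ.mul hρ).mul hπ.inv'
  rw [mul_one, mul_inv_cancel] at this
  exact this

/-- the diagonal subgroup -/
def tor (n : ℕ) {F : Type*} [Field F] (φ : F →+* F) : Subgroup (WSU n φ) where
  carrier := {g | IsMon (mt g) 1}
  one_mem' := isMon_one
  mul_mem' := by
    intro g h hg hh
    have := IsMon.mul hg hh
    rwa [mul_one] at this
  inv_mem' := by
    intro g hg
    have := IsMon.inv' hg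
    rwa [inv_one] at this

theorem mem_tor_iff (g : WSU n φ) : g ∈ tor n φ ↔ IsMon (mt g) 1 := Iff.rfl

theorem mem_tor_iff' (g : WSU n φ) : g ∈ tor n φ ↔ ∀ a b, a ≠ b → mt g a b = 0 := Iff.rfl

theorem tor_le_bor : tor n φ ≤ bor n φ := fun _ hg => mem_bor_of_isMon_one hg

theorem tor_le_mon : tor n φ ≤ mon n φ := fun _ hg => ⟨1, hg⟩

theorem tor_eq_inf : tor n φ = bor n φ ⊓ mon n φ := by
  apply le_antisymm
  · exact le_inf tor_le_bor tor_le_mon
  · rintro g ⟨hB, π, hπ⟩
    have h1 : π = 1 := perm_eq_one_of_mem_bor hπ hB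
    subst h1
    exact hπ

theorem mul_apply_diag {g h : WSU n φ} (hg : g ∈ bor n φ) (hh : h ∈ bor n φ) (a : Fin n) :
    mt (g * h) a a = mt g a a * mt h a a := by
  rw [mt_mul, Matrix.mul_apply, Finset.sum_eq_single a]
  · intro r _ hr
    rcases lt_or_gt_of_ne hr with h1 | h1
    · rw [hg a r h1, zero_mul]
    · rw [hh r a h1, mul_zero]
  · intro h; exact absurd (Finset.mem_univ _) h

theorem diag_ne_zero {g : WSU n φ} (hg : g ∈ bor n φ) (a : Fin n) : mt g a a ≠ 0 := by
  intro h0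
  have h1 := mul_apply_diag hg ((bor n φ).inv_mem hg) a
  rw [mul_inv_cancel, mt_one, Matrix.one_apply_eq, h0, zero_mul] at h1
  exact one_ne_zero h1

/-- the upper unitriangular subgroup -/
def unip (n : ℕ) {F : Type*} [Field F] (φ : F →+* F) : Subgroup (WSU n φ) where
  carrier := {g | g ∈ bor n φ ∧ ∀ a, mt g a a = 1}
  one_mem' := ⟨(bor n φ).one_mem, fun a => Matrix.one_apply_eq a⟩
  mul_mem' := by
    rintro g h ⟨hg, hg1⟩ ⟨hh, hh1⟩
    refine ⟨(bor n φ).mul_mem hg hh, fun a => ?_⟩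
    rw [mul_apply_diag hg hh, hg1, hh1, mul_one]
  inv_mem' := by
    rintro g ⟨hg, hg1⟩
    refine ⟨(bor n φ).inv_mem hg, fun a => ?_⟩
    rw [inv_apply, hg1, map_one]

theorem mem_unip_iff (g : WSU n φ) :
    g ∈ unip n φ ↔ g ∈ bor n φ ∧ ∀ a, mt g a a = 1 := Iff.rfl

theorem unip_le_bor : unip n φ ≤ bor n φ := fun _ hg => hg.1

end Cfsg.Agent.Helper13.SuBN
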