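import Mathlib
import Cfsg.Agent.Lib.Helper13.SuBN0

/-!
# The (B, N)-pair of the special unitary group, part 1 (helper13)

The adjoint `dag`, the constructor `mkW`, the root elements `Tm` (short), `Lm` (long), `Mm` (the root
elements of the non-reduced simple root when `n` is odd).
-/

set_option autoImplicit false
set_option linter.unusedSectionVars false
set_option linter.unusedVariables false

namespace Cfsg.Agent.Helper13.SuBN

open Matrix

variable {n : ℕ} {F : Type*} [Field F] {φ : F →+* F}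

/-! ### the adjoint -/

/-- the adjoint with respect to the Witt form -/
def dag (φ : F →+* F) (M : Matrix (Fin n) (Fin n) F) : Matrix (Fin n) (Fin n) F :=
  Matrix.of fun p q => φ (M (Fin.rev q) (Fin.rev p))

theorem dag_apply (M : Matrix (Fin n) (Fin n) F) (p q : Fin n) :
    dag φ M p q = φ (M (Fin.rev q) (Fin.rev p)) := rfl

theorem dag_eq (M : Matrix (Fin n) (Fin n) F) :
    dag φ M = Kmat n F * (M.map φ)ᵀ * Kmat n F := by
  ext p q
  rw [mul_Kmat_apply, Kmat_mul_apply, Matrix.transpose_apply, Matrix.map_apply, dag_apply]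

theorem dag_mul (A B : Matrix (Fin n) (Fin n) F) : dag φ (A * B) = dag φ B * dag φ A := by
  ext p q
  rw [dag_apply, Matrix.mul_apply, map_sum, Matrix.mul_apply]
  apply Fintype.sum_equiv Fin.revPerm
  intro c
  rw [dag_apply, dag_apply, map_mul, Fin.revPerm_apply, Fin.rev_rev, mul_comm]

theorem dag_one : dag φ (1 : Matrix (Fin n) (Fin n) F) = 1 := by
  ext p q
  rw [dag_apply, Matrix.one_apply, Matrix.one_apply]
  by_cases h : p = q
  · rw [if_pos h, if_pos (by rw [h]), map_one]
  · rw [if_neg h, if_neg (fun e => h (Fin.rev_inj.1 e).symm), map_zero]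

theorem dag_add (A B : Matrix (Fin n) (Fin n) F) : dag φ (A + B) = dag φ A + dag φ B := by
  ext p q
  rw [dag_apply, Matrix.add_apply, Matrix.add_apply, map_add, dag_apply, dag_apply]

theorem dag_sub (A B : Matrix (Fin n) (Fin n) F) : dag φ (A - B) = dag φ A - dag φ B := by
  ext p q
  rw [dag_apply, Matrix.sub_apply, Matrix.sub_apply, map_sub, dag_apply, dag_apply]

theorem dag_single (a b : Fin n) (t : F) :
    dag φ (Matrix.single a b t) = Matrix.single (Fin.rev b) (Fin.rev a) (φ t) := by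
  ext p q
  rw [dag_apply, Matrix.single_apply, Matrix.single_apply]
  by_cases h : a = Fin.rev q ∧ b = Fin.rev p
  · rw [if_pos h, if_pos]
    exact ⟨by rw [h.2, Fin.rev_rev], by rw [h.1, Fin.rev_rev]⟩
  · rw [if_neg h, if_neg, map_zero]
    rintro ⟨h1, h2⟩
    apply h
    exact ⟨by rw [← h2, Fin.rev_rev], by rw [← h1, Fin.rev_rev]⟩

theorem mem_WSU_iff (g : Matrix.SpecialLinearGroup (Fin n) F) :
    g ∈ WSU n φ ↔ dag φ g.1 * g.1 = 1 := by
  have hK : (Kmat n F)ᵀ = Kmat n F := by
    ext a b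
    rw [Matrix.transpose_apply, Kmat_apply, Kmat_apply]
    by_cases h : a = Fin.rev b
    · rw [if_pos h, if_pos (by rw [h, Fin.rev_rev])]
    · rw [if_neg h, if_neg (fun e => h (by rw [e, Fin.rev_rev]))]
  constructor
  · rintro ⟨h1, h2⟩
    rw [dag_eq]
    have h3 := congrArg Matrix.transpose h1
    rw [Matrix.transpose_mul, Matrix.transpose_mul, Matrix.transpose_transpose, hK] at h3
    calc Kmat n F * (g.1.map φ)ᵀ * Kmat n F * g.1
        = Kmat n F * ((g.1.map φ)ᵀ * (Kmat n F * g.1)) := by simp only [Matrix.mul_assoc]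
      _ = 1 := by rw [h3, Kmat_mul_self]
  · intro h
    have h' : g.1 * dag φ g.1 = 1 := mul_eq_one_comm.1 h
    rw [dag_eq] at h h'
    constructor
    · have h3 : (g.1.map φ)ᵀ * (Kmat n F * g.1) = Kmat n F := by
        calc (g.1.map φ)ᵀ * (Kmat n F * g.1)
            = Kmat n F * (Kmat n F * (g.1.map φ)ᵀ * Kmat n F * g.1) := by
              simp only [← Matrix.mul_assoc, Kmat_mul_self, Matrix.one_mul]
          _ = Kmat n F := by rw [h, Matrix.mul_one]
      have h4 := congrArg Matrix.transpose h3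
      rw [Matrix.transpose_mul, Matrix.transpose_mul, Matrix.transpose_transpose, hK] at h4
      exact h4
    · calc g.1 * Kmat n F * (g.1.map φ)ᵀ
          = g.1 * (Kmat n F * (g.1.map φ)ᵀ * Kmat n F) * Kmat n F := by
            simp only [Matrix.mul_assoc, Kmat_mul_self, Matrix.mul_one]
        _ = Kmat n F := by rw [h', Matrix.one_mul]

/-- the constructor of unitary matrices -/
def mkW (M : Matrix (Fin n) (Fin n) F) (hdet : M.det = 1) (h : dag φ M * M = 1) : WSU n φ :=
  ⟨⟨M, hdet⟩, (mem_WSU_iff _).2 h⟩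

theorem mt_mkW (M : Matrix (Fin n) (Fin n) F) (hdet : M.det = 1) (h : dag φ M * M = 1) :
    mt (mkW M hdet h) = M := rfl

theorem dag_mt (g : WSU n φ) : dag φ (mt g) = mt g⁻¹ := by
  ext p q
  rw [dag_apply, inv_apply]

theorem mul_apply_col (g h : WSU n φ) (a b : Fin n) :
    mt (g * h) a b = (mt g *ᵥ (mt h *ᵥ (ev b : Fin n → F))) a := by
  rw [mulVec_mulVec, mulVec_ev, mt_mul]

theorem isMon_of_mulVec {M : Matrix (Fin n) (Fin n) F} {π : Equiv.Perm (Fin n)} (c : Fin n → F)
    (h : ∀ q, M *ᵥ (ev q : Fin n → F) = c q • ev (π q)) : IsMon M π := by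
  intro a b hab
  rw [← mulVec_ev M b a, h, Pi.smul_apply, ev_ne (fun e => hab e.symm), smul_zero]

theorem single_mulVec' (a b : Fin n) (t : F) (x : Fin n → F) :
    Matrix.single a b t *ᵥ x = (t * x b) • (ev a : Fin n → F) :=
  Matrix.single_mulVec_eq a b t x

theorem single_mul_single_ne' {i j k l : Fin n} (h : j ≠ k) (c d : F) :
    Matrix.single i j c * Matrix.single k l d = 0 :=
  Matrix.single_mul_single_of_ne c i j k h d

/-! ### the short root elements -/

/-- the matrix of a short root element -/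
def TmM (φ : F →+* F) (a b : Fin n) (t : F) : Matrix (Fin n) (Fin n) F :=
  1 + Matrix.single a b t - Matrix.single (Fin.rev b) (Fin.rev a) (φ t)

theorem TmM_mulVec (a b : Fin n) (t : F) (x : Fin n → F) :
    TmM φ a b t *ᵥ x = x + (t * x b) • (ev a : Fin n → F) -
      (φ t * x (Fin.rev a)) • (ev (Fin.rev b) : Fin n → F) := by
  unfold TmM
  rw [Matrix.sub_mulVec, Matrix.add_mulVec, Matrix.one_mulVec, single_mulVec', single_mulVec']

theorem TmM_det {a b : Fin n} (hab : a ≠ b) (hb : b ≠ Fin.rev b) (t : F) :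
    (TmM φ a b t).det = 1 := by
  have e : TmM φ a b t = Matrix.transvection a b t *
      Matrix.transvection (Fin.rev b) (Fin.rev a) (-φ t) := by
    unfold TmM Matrix.transvection
    rw [mul_add, mul_one, add_mul, one_mul, single_mul_single_ne' hb, add_zero,
      ← Matrix.single_neg, sub_eq_add_neg]
  rw [e, Matrix.det_mul, Matrix.det_transvection_of_ne _ _ hab,
    Matrix.det_transvection_of_ne _ _ (fun e => hab (Fin.rev_inj.1 e).symm), one_mul]

theorem TmM_dag (hφφ : ∀ x, φ (φ x) = x) {a b : Fin n} (hab : a ≠ b) (ha : a ≠ Fin.rev a)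
    (hb : b ≠ Fin.rev b) (t : F) : dag φ (TmM φ a b t) * TmM φ a b t = 1 := by
  have e : dag φ (TmM φ a b t) = 1 + Matrix.single (Fin.rev b) (Fin.rev a) (φ t) -
      Matrix.single a b t := by
    unfold TmM
    rw [dag_sub, dag_add, dag_one, dag_single, dag_single, Fin.rev_rev, Fin.rev_rev, hφφ]
  rw [e]
  unfold TmM
  set Y := Matrix.single a b t with hY
  set Z := Matrix.single (Fin.rev b) (Fin.rev a) (φ t) with hZ
  have h1 : Y * Y = 0 := single_mul_single_ne' hab.symm _ _
  have h2 : Z * Z = 0 :=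
    single_mul_single_ne' (fun e => hab (Fin.rev_inj.1 e)) _ _
  have h3 : Z * Y = 0 := single_mul_single_ne' ha.symm _ _
  have h4 : Y * Z = 0 := single_mul_single_ne' hb _ _
  calc (1 + Z - Y) * (1 + Y - Z) = 1 + (Z * Y - Z * Z - Y * Y + Y * Z) := by noncomm_ring
    _ = 1 := by rw [h1, h2, h3, h4]; simp

open Classical in
/-- the short root elements -/
noncomputable def Tm (φ : F →+* F) (a b : Fin n) (t : F) : WSU n φ :=
  if h : (∀ x, φ (φ x) = x) ∧ a ≠ b ∧ a ≠ Fin.rev a ∧ b ≠ Fin.rev b then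
    mkW (TmM φ a b t) (TmM_det h.2.1 h.2.2.2 t) (TmM_dag h.1 h.2.1 h.2.2.1 h.2.2.2 t)
  else 1

theorem Tm_coe (hφφ : ∀ x, φ (φ x) = x) {a b : Fin n} (hab : a ≠ b) (ha : a ≠ Fin.rev a)
    (hb : b ≠ Fin.rev b) (t : F) : mt (Tm φ a b t) = TmM φ a b t := by
  unfold Tm
  rw [dif_pos ⟨hφφ, hab, ha, hb⟩, mt_mkW]

/-! ### the long root elements -/

/-- the matrix of a long root element -/
def LmM (a : Fin n) (t : F) : Matrix (Fin n) (Fin n) F :=
  1 + Matrix.single a (Fin.rev a) t

theorem LmM_mulVec (a : Fin n) (t : F) (x : Fin n → F) :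
    LmM a t *ᵥ x = x + (t * x (Fin.rev a)) • (ev a : Fin n → F) := by
  unfold LmM
  rw [Matrix.add_mulVec, Matrix.one_mulVec, single_mulVec']

theorem LmM_det {a : Fin n} (ha : a ≠ Fin.rev a) (t : F) : (LmM a t).det = 1 :=
  Matrix.det_transvection_of_ne _ _ ha t

theorem LmM_dag {a : Fin n} (ha : a ≠ Fin.rev a) {t : F} (ht : t + φ t = 0) :
    dag φ (LmM a t) * LmM a t = 1 := by
  have e : dag φ (LmM a t) = 1 + Matrix.single a (Fin.rev a) (φ t) := by
    unfold LmM
    rw [dag_add, dag_one, dag_single, Fin.rev_rev]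
  rw [e]
  unfold LmM
  have h1 : Matrix.single a (Fin.rev a) (φ t) * Matrix.single a (Fin.rev a) t = 0 :=
    single_mul_single_ne' ha.symm _ _
  rw [mul_add, mul_one, add_mul, one_mul, h1, add_zero, add_assoc, ← Matrix.single_add,
    add_comm (φ t), ht, Matrix.single_zero, add_zero]

open Classical in
/-- the long root elements -/
noncomputable def Lm (φ : F →+* F) (a : Fin n) (t : F) : WSU n φ :=
  if h : a ≠ Fin.rev a ∧ t + φ t = 0 then mkW (LmM a t) (LmM_det h.1 t) (LmM_dag h.1 h.2) else 1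

theorem Lm_coe {a : Fin n} (ha : a ≠ Fin.rev a) {t : F} (ht : t + φ t = 0) :
    mt (Lm φ a t) = LmM a t := by
  unfold Lm
  rw [dif_pos ⟨ha, ht⟩, mt_mkW]

/-! ### the root elements of the non-reduced root -/

/-- the matrix of a root element of the non-reduced root (`c` is the middle index) -/
def MmM (φ : F →+* F) (a c : Fin n) (u v : F) : Matrix (Fin n) (Fin n) F :=
  1 + Matrix.single a c u - Matrix.single c (Fin.rev a) (φ u) + Matrix.single a (Fin.rev a) v

theorem MmM_mulVec (a c : Fin n) (u v : F) (x : Fin n → F) :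
    MmM φ a c u v *ᵥ x = x + (u * x c) • (ev a : Fin n → F) -
      (φ u * x (Fin.rev a)) • (ev c : Fin n → F) + (v * x (Fin.rev a)) • (ev a : Fin n → F) := by
  unfold MmM
  rw [Matrix.add_mulVec, Matrix.sub_mulVec, Matrix.add_mulVec, Matrix.one_mulVec, single_mulVec',
    single_mulVec', single_mulVec']

theorem MmM_det {a c : Fin n} (hac : a ≠ c) (ha : a ≠ Fin.rev a) (hc : c ≠ Fin.rev a) (u v : F) :
    (MmM φ a c u v).det = 1 := by
  have e : MmM φ a c u v = Matrix.transvection a c u *
      Matrix.transvection c (Fin.rev a) (-φ u) *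
      Matrix.transvection a (Fin.rev a) (v + u * φ u) := by
    unfold MmM Matrix.transvection
    have h1 : Matrix.single a c u * Matrix.single c (Fin.rev a) (-φ u) =
        Matrix.single a (Fin.rev a) (-(u * φ u)) := by
      rw [Matrix.single_mul_single_same, mul_neg]
    have h2 : Matrix.single a c u * Matrix.single a (Fin.rev a) (v + u * φ u) = 0 :=
      single_mul_single_ne' hac.symm _ _
    have h3 : Matrix.single c (Fin.rev a) (-φ u) * Matrix.single a (Fin.rev a) (v + u * φ u) = 0 :=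
      single_mul_single_ne' ha.symm _ _
    have h4 : Matrix.single a (Fin.rev a) (-(u * φ u)) *
        Matrix.single a (Fin.rev a) (v + u * φ u) = 0 :=
      single_mul_single_ne' ha.symm _ _
    have e1 : (1 + Matrix.single a c u) * (1 + Matrix.single c (Fin.rev a) (-φ u)) =
        1 + Matrix.single a c u + Matrix.single c (Fin.rev a) (-φ u) +
          Matrix.single a (Fin.rev a) (-(u * φ u)) := by
      rw [mul_add, mul_one, add_mul, one_mul, h1]
      abel
    rw [e1, mul_add, mul_one, add_mul, add_mul, add_mul, one_mul, h2, h3, h4, add_zero, add_zero,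
      add_zero, Matrix.single_add, ← Matrix.single_neg, ← Matrix.single_neg]
    abel
  rw [e, Matrix.det_mul, Matrix.det_mul, Matrix.det_transvection_of_ne _ _ hac,
    Matrix.det_transvection_of_ne _ _ hc, Matrix.det_transvection_of_ne _ _ ha, one_mul, one_mul]

theorem MmM_dag (hφφ : ∀ x, φ (φ x) = x) {a c : Fin n} (hac : a ≠ c) (ha : a ≠ Fin.rev a)
    (hc : c = Fin.rev c) {u v : F} (huv : v + φ v + u * φ u = 0) :
    dag φ (MmM φ a c u v) * MmM φ a c u v = 1 := by
  have hc' : c ≠ Fin.rev a := by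
    intro e
    apply hac
    rw [hc] at e
    exact (Fin.rev_inj.1 e).symm
  have e : dag φ (MmM φ a c u v) = 1 + Matrix.single c (Fin.rev a) (φ u) -
      Matrix.single a c u + Matrix.single a (Fin.rev a) (φ v) := by
    unfold MmM
    rw [dag_add, dag_sub, dag_add, dag_one, dag_single, dag_single, dag_single, Fin.rev_rev, ← hc,
      hφφ]
  rw [e]
  unfold MmM
  set X1 := Matrix.single a c u with hX1
  set X2 := Matrix.single c (Fin.rev a) (φ u) with hX2
  set X3 := Matrix.single a (Fin.rev a) v with hX3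
  set X4 := Matrix.single a (Fin.rev a) (φ v) with hX4
  have p1 : X2 * X1 = 0 := single_mul_single_ne' ha.symm _ _
  have p2 : X2 * X2 = 0 := single_mul_single_ne' hc'.symm _ _
  have p3 : X2 * X3 = 0 := single_mul_single_ne' ha.symm _ _
  have p4 : X1 * X1 = 0 := single_mul_single_ne' hac.symm _ _
  have p5 : X1 * X2 = Matrix.single a (Fin.rev a) (u * φ u) := Matrix.single_mul_single_same _ _ _ _ _
  have p6 : X1 * X3 = 0 := single_mul_single_ne' hac.symm _ _
  have p7 : X4 * X1 = 0 := single_mul_single_ne' ha.symm _ _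
  have p8 : X4 * X2 = 0 := single_mul_single_ne' hc'.symm _ _
  have p9 : X4 * X3 = 0 := single_mul_single_ne' ha.symm _ _
  calc (1 + X2 - X1 + X4) * (1 + X1 - X2 + X3)
      = 1 + (X3 + X4 + X1 * X2) + (X2 * X1 - X2 * X2 + X2 * X3 - X1 * X1 - X1 * X3 + X4 * X1
        - X4 * X2 + X4 * X3) := by noncomm_ring
    _ = 1 := by
      rw [p1, p2, p3, p4, p5, p6, p7, p8, p9, hX3, hX4, ← Matrix.single_add, ← Matrix.single_add,
        huv, Matrix.single_zero]
      simp

open Classical in
/-- the root elements of the non-reduced root -/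
noncomputable def Mm (φ : F →+* F) (a c : Fin n) (u v : F) : WSU n φ :=
  if h : (∀ x, φ (φ x) = x) ∧ a ≠ c ∧ a ≠ Fin.rev a ∧ c = Fin.rev c ∧ v + φ v + u * φ u = 0 then
    mkW (MmM φ a c u v)
      (MmM_det h.2.1 h.2.2.1 (by
        intro e
        apply h.2.1
        rw [h.2.2.2.1] at e
        exact (Fin.rev_inj.1 e).symm) u v)
      (MmM_dag h.1 h.2.1 h.2.2.1 h.2.2.2.1 h.2.2.2.2)
  else 1

theorem Mm_coe (hφφ : ∀ x, φ (φ x) = x) {a c : Fin n} (hac : a ≠ c) (ha : a ≠ Fin.rev a)
    (hc : c = Fin.rev c) {u v : F} (huv : v + φ v + u * φ u = 0) :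
    mt (Mm φ a c u v) = MmM φ a c u v := by
  unfold Mm
  rw [dif_pos ⟨hφφ, hac, ha, hc, huv⟩, mt_mkW]

end Cfsg.Agent.Helper13.SuBN
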