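import Mathlib

/-!
# The (B, N)-pair of the special unitary group: the permutations of the simple reflections (helper13)

The Weyl group of `SU_n` is the group of the permutations of `Fin n` commuting with `Fin.rev`; the simple
reflections are `pr n i` for `i : Fin (n / 2)`.
-/

set_option autoImplicit false

namespace Cfsg.Agent.Helper13.SuBN

variable {n : ℕ}

/-- the permutation of a short root reflection -/
def piS (a b : Fin n) : Equiv.Perm (Fin n) :=
  Equiv.swap a b * Equiv.swap (Fin.rev a) (Fin.rev b)

/-- the permutation of a long root reflection -/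
def piL (a : Fin n) : Equiv.Perm (Fin n) := Equiv.swap a (Fin.rev a)

/-- the first index of the simple root `i` -/
def ix (n : ℕ) (i : Fin (n / 2)) : Fin n := ⟨i.val, by have := i.2; omega⟩

/-- the second index of the simple root `i` when it is short -/
def ix' (n : ℕ) (i : Fin (n / 2)) (h : i.val + 1 < n / 2) : Fin n := ⟨i.val + 1, by omega⟩

/-- the permutation of the simple reflection `i` -/
def pr (n : ℕ) (i : Fin (n / 2)) : Equiv.Perm (Fin n) :=
  if h : i.val + 1 < n / 2 then piS (ix n i) (ix' n i h) else piL (ix n i)

theorem pr_short {i : Fin (n / 2)} (h : i.val + 1 < n / 2) : pr n i = piS (ix n i) (ix' n i h) := by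
  unfold pr
  rw [dif_pos h]

theorem pr_long {i : Fin (n / 2)} (h : ¬ i.val + 1 < n / 2) : pr n i = piL (ix n i) := by
  unfold pr
  rw [dif_neg h]

end Cfsg.Agent.Helper13.SuBN
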