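import Mathlib
import Cfsg.Agent.Lib.Helper13.SuBN1
import Cfsg.Agent.Lib.Helper13.SuBNPerm

/-!
# The (B, N)-pair of the special unitary group, part 2 (helper13)

Root elements on basis vectors, the monomial elements `wS` and `wL`, conjugation criteria.
-/

set_option autoImplicit false
set_option linter.unusedSectionVars false
set_option linter.unusedVariables false

namespace Cfsg.Agent.Helper13.SuBN

open Matrix

variable {n : ℕ} {F : Type*} [Field F] {φ : F →+* F}

/-! ### general lemmas -/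

theorem rev_ne_of_ne {a b : Fin n} (h : a ≠ b) : Fin.rev a ≠ Fin.rev b :=
  fun e => h (Fin.rev_inj.1 e)

theorem ne_rev_symm {a b : Fin n} (h : a ≠ Fin.rev b) : b ≠ Fin.rev a := by
  intro e
  apply h
  rw [e, Fin.rev_rev]

/-- conjugating by the inverse of a monomial element -/
theorem conj_inv_mem_bor {N g : WSU n φ} {π : Equiv.Perm (Fin n)} (hN : IsMon (mt N) π)
    (h : ∀ p q, q < p → mt g (π p) (π q) = 0) : N⁻¹ * g * N ∈ bor n φ := by
  intro p q hpq
  rw [conj_inv_apply hN, h p q hpq, mul_zero, zero_mul]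

/-- conjugating an upper triangular matrix by a monomial one -/
theorem conj_mem_bor {N g : WSU n φ} {π : Equiv.Perm (Fin n)} (hN : IsMon (mt N) π)
    (hg : g ∈ bor n φ) (h : ∀ p q, q < p → π⁻¹ p < π⁻¹ q → mt g (π⁻¹ p) (π⁻¹ q) = 0) :
    N * g * N⁻¹ ∈ bor n φ := by
  intro p q hpq
  rw [conj_apply hN]
  have h0 : mt g (π⁻¹ p) (π⁻¹ q) = 0 := by
    by_cases h1 : π⁻¹ q < π⁻¹ p
    · exact hg _ _ h1
    · have hne : π⁻¹ p ≠ π⁻¹ q := by
        intro e
        have := π⁻¹.injective e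
        rw [this] at hpq
        exact lt_irrefl _ hpq
      exact h p q hpq (lt_of_le_of_ne (not_lt.1 h1) hne)
  rw [h0, mul_zero, zero_mul]

theorem mul_apply_adj {g h : WSU n φ} (hg : g ∈ bor n φ) (hh : h ∈ bor n φ) {u v : Fin n}
    (huv : v.val = u.val + 1) : mt (g * h) u v = mt g u u * mt h u v + mt g u v * mt h v v := by
  have hne : u ≠ v := fun e => by rw [e] at huv; omega
  rw [mt_mul, Matrix.mul_apply, Finset.sum_eq_add u v hne]
  · intro r _ hr
    by_cases h1 : r < u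
    · rw [hg u r h1, zero_mul]
    · have h2 : r.val ≠ u.val := fun e => hr.1 (Fin.ext e)
      have h3 : r.val ≠ v.val := fun e => hr.2 (Fin.ext e)
      have h4 : v < r := by
        rw [Fin.lt_def] at h1 ⊢
        omega
      rw [hh r v h4, mul_zero]
  · intro h; exact absurd (Finset.mem_univ _) h
  · intro h; exact absurd (Finset.mem_univ _) h

/-- the symmetric zero of an upper triangular unitary matrix -/
theorem extra_zero {g : WSU n φ} (hg : g ∈ bor n φ) {a b : Fin n} (hab : b.val = a.val + 1)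
    (h0 : mt g a b = 0) : mt g (Fin.rev b) (Fin.rev a) = 0 := by
  have hk : (Fin.rev a).val = (Fin.rev b).val + 1 := by
    rw [Fin.val_rev, Fin.val_rev]
    have := b.2
    omega
  have hne : Fin.rev b ≠ Fin.rev a := fun e => by rw [e] at hk; omega
  have h1 := mul_apply_adj hg ((bor n φ).inv_mem hg) hk
  rw [mul_inv_cancel, mt_one, Matrix.one_apply_ne hne, inv_apply g (Fin.rev b) (Fin.rev a),
    Fin.rev_rev, Fin.rev_rev, h0, map_zero, mul_zero, zero_add] at h1
  rcases mul_eq_zero.1 h1.symm with h2 | h2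
  · exact h2
  · exact absurd h2 (diag_ne_zero ((bor n φ).inv_mem hg) _)

/-- the rows of a unitary matrix are isotropic -/
theorem row_isotropic (g : WSU n φ) {a : Fin n} (ha : a ≠ Fin.rev a) :
    ∑ q, mt g a (Fin.rev q) * φ (mt g a q) = 0 := by
  have h2 : mt g * Kmat n F * ((mt g).map φ)ᵀ = Kmat n F := g.2.2
  have h3 := congrFun (congrFun h2 a) a
  rw [Matrix.mul_apply, Kmat_apply, if_neg ha] at h3
  rw [← h3]
  apply Finset.sum_congr rfl
  intro q _
  rw [mul_Kmat_apply, Matrix.transpose_apply, Matrix.map_apply]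

/-! ### short root elements -/

section short

variable (hφφ : ∀ x, φ (φ x) = x) {a b : Fin n} (hab : a ≠ b) (hab' : a ≠ Fin.rev b)
  (ha : a ≠ Fin.rev a) (hb : b ≠ Fin.rev b)

include hφφ hab ha hb in
theorem Tm_mulVec (t : F) (x : Fin n → F) :
    mt (Tm φ a b t) *ᵥ x = x + (t * x b) • (ev a : Fin n → F) -
      (φ t * x (Fin.rev a)) • (ev (Fin.rev b) : Fin n → F) := by
  rw [Tm_coe hφφ hab ha hb, TmM_mulVec]

include hφφ hab ha hb in
theorem Tm_ev_of_ne (t : F) {q : Fin n} (h1 : q ≠ b) (h2 : q ≠ Fin.rev a) :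
    mt (Tm φ a b t) *ᵥ (ev q : Fin n → F) = ev q := by
  rw [Tm_mulVec hφφ hab ha hb, ev_ne h1, ev_ne h2]
  simp

include hφφ hab hab' ha hb in
theorem Tm_ev_b (t : F) :
    mt (Tm φ a b t) *ᵥ (ev b : Fin n → F) = ev b + t • ev a := by
  rw [Tm_mulVec hφφ hab ha hb, ev_self, ev_ne (ne_rev_symm hab')]
  simp

include hφφ hab hab' ha hb in
theorem Tm_ev_ra (t : F) :
    mt (Tm φ a b t) *ᵥ (ev (Fin.rev a) : Fin n → F) = ev (Fin.rev a) - φ t • ev (Fin.rev b) := by
  rw [Tm_mulVec hφφ hab ha hb, ev_self, ev_ne (ne_rev_symm hab').symm]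
  simp

include hφφ hab ha hb in
theorem Tm_add (t u : F) : Tm φ a b t * Tm φ a b u = Tm φ a b (t + u) := by
  apply mt_injective
  rw [mt_mul, Tm_coe hφφ hab ha hb, Tm_coe hφφ hab ha hb, Tm_coe hφφ hab ha hb]
  unfold TmM
  set Y := Matrix.single a b t with hY
  set Z := Matrix.single (Fin.rev b) (Fin.rev a) (φ t) with hZ
  set Y' := Matrix.single a b u with hY'
  set Z' := Matrix.single (Fin.rev b) (Fin.rev a) (φ u) with hZ'
  have h1 : Y * Y' = 0 := single_mul_single_ne' hab.symm _ _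
  have h2 : Z * Z' = 0 := single_mul_single_ne' (rev_ne_of_ne hab) _ _
  have h3 : Z * Y' = 0 := single_mul_single_ne' ha.symm _ _
  have h4 : Y * Z' = 0 := single_mul_single_ne' hb _ _
  rw [map_add, Matrix.single_add, Matrix.single_add, ← hY, ← hY', ← hZ, ← hZ']
  calc (1 + Y - Z) * (1 + Y' - Z')
      = 1 + (Y + Y') - (Z + Z') + (Y * Y' - Y * Z' - Z * Y' + Z * Z') := by noncomm_ring
    _ = 1 + (Y + Y') - (Z + Z') := by rw [h1, h2, h3, h4]; simp

include hφφ hab ha hb in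
theorem Tm_zero : Tm φ a b (0 : F) = 1 := by
  have := Tm_add hφφ hab ha hb (0 : F) 0
  rw [add_zero] at this
  exact mul_eq_left.1 this

include hφφ hab ha hb in
theorem Tm_inv (t : F) : (Tm φ a b t)⁻¹ = Tm φ a b (-t) := by
  rw [inv_eq_iff_mul_eq_one, Tm_add hφφ hab ha hb, add_neg_cancel, Tm_zero hφφ hab ha hb]

/-- the entries of a short root element -/
theorem TmM_apply_of_ne (t : F) {u v : Fin n} (h1 : u ≠ v) (h2 : ¬ (u = a ∧ v = b))
    (h3 : ¬ (u = Fin.rev b ∧ v = Fin.rev a)) : TmM φ a b t u v = 0 := by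
  unfold TmM
  rw [Matrix.sub_apply, Matrix.add_apply, Matrix.one_apply_ne h1, Matrix.single_apply,
    Matrix.single_apply, if_neg (fun h => h2 ⟨h.1.symm, h.2.symm⟩),
    if_neg (fun h => h3 ⟨h.1.symm, h.2.symm⟩)]
  ring

include hφφ hab ha hb in
theorem Tm_mem_bor (h : a < b) (t : F) : Tm φ a b t ∈ bor n φ := by
  intro p q hpq
  rw [Tm_coe hφφ hab ha hb]
  apply TmM_apply_of_ne
  · intro e; rw [e] at hpq; exact lt_irrefl _ hpq
  · rintro ⟨rfl, rfl⟩; exact lt_asymm h hpq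
  · rintro ⟨rfl, rfl⟩
    rw [Fin.rev_lt_rev] at hpq
    exact lt_asymm h hpq

include hφφ hab ha hb in
/-- conjugating a short root element by a monomial element -/
theorem conj_Tm_mem_bor {N : WSU n φ} {π : Equiv.Perm (Fin n)} (hN : IsMon (mt N) π)
    (h : π⁻¹ a < π⁻¹ b) (t : F) : N⁻¹ * Tm φ a b t * N ∈ bor n φ := by
  apply conj_inv_mem_bor hN
  intro p q hpq
  rw [Tm_coe hφφ hab ha hb]
  have hne : π p ≠ π q := by
    intro e
    have := π.injective e
    rw [this] at hpq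
    exact lt_irrefl _ hpq
  apply TmM_apply_of_ne t hne
  · rintro ⟨e1, e2⟩
    have h1 : π⁻¹ a = p := by rw [← e1]; simp
    have h2 : π⁻¹ b = q := by rw [← e2]; simp
    rw [h1, h2] at h
    exact lt_asymm h hpq
  · rintro ⟨e1, e2⟩
    have hc := hN.inv'.comm_rev
    have h1 : Fin.rev (π⁻¹ b) = p := by rw [← hc, ← e1]; simp
    have h2 : Fin.rev (π⁻¹ a) = q := by rw [← hc, ← e2]; simp
    rw [← h1, ← h2, Fin.rev_lt_rev] at hpq
    exact lt_asymm h hpq

/-- the element `w(c) = x(c) y(-c⁻¹) x(c)` of a short root -/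
noncomputable def wS (φ : F →+* F) (a b : Fin n) (c : F) : WSU n φ :=
  Tm φ a b c * Tm φ b a (-c⁻¹) * Tm φ a b c

include hab hab' ha hb in
theorem piS_a : piS a b a = b := by
  unfold piS
  rw [Equiv.Perm.mul_apply, Equiv.swap_apply_of_ne_of_ne ha hab', Equiv.swap_apply_left]

include hab hab' ha hb in
theorem piS_b : piS a b b = a := by
  unfold piS
  rw [Equiv.Perm.mul_apply, Equiv.swap_apply_of_ne_of_ne (ne_rev_symm hab') hb,
    Equiv.swap_apply_right]

include hab hab' ha hb in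
theorem piS_ra : piS a b (Fin.rev a) = Fin.rev b := by
  unfold piS
  rw [Equiv.Perm.mul_apply, Equiv.swap_apply_left,
    Equiv.swap_apply_of_ne_of_ne hab'.symm hb.symm]

include hab hab' ha hb in
theorem piS_rb : piS a b (Fin.rev b) = Fin.rev a := by
  unfold piS
  rw [Equiv.Perm.mul_apply, Equiv.swap_apply_right,
    Equiv.swap_apply_of_ne_of_ne ha.symm (ne_rev_symm hab').symm]

theorem piS_of_ne {q : Fin n} (h1 : q ≠ a) (h2 : q ≠ b) (h3 : q ≠ Fin.rev a) (h4 : q ≠ Fin.rev b) :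
    piS a b q = q := by
  unfold piS
  rw [Equiv.Perm.mul_apply, Equiv.swap_apply_of_ne_of_ne h3 h4, Equiv.swap_apply_of_ne_of_ne h1 h2]

include hab hab' ha hb in
theorem piS_mul_self : piS a b * piS a b = 1 := by
  unfold piS
  have hd : (Equiv.swap a b).Disjoint (Equiv.swap (Fin.rev a) (Fin.rev b)) := by
    intro x
    by_cases h1 : x = a
    · right
      rw [h1]
      exact Equiv.swap_apply_of_ne_of_ne ha hab'
    by_cases h2 : x = b
    · right
      rw [h2]
      exact Equiv.swap_apply_of_ne_of_ne (ne_rev_symm hab') hb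
    · left
      exact Equiv.swap_apply_of_ne_of_ne h1 h2
  rw [hd.commute.symm.mul_mul_mul_comm, Equiv.swap_mul_self, Equiv.swap_mul_self, mul_one]

include hab hab' ha hb in
theorem piS_inv : (piS a b)⁻¹ = piS a b := by
  rw [inv_eq_iff_mul_eq_one]
  exact piS_mul_self hab hab' ha hb

include hφφ hab hab' ha hb in
theorem wS_isMon {c : F} (hc : c ≠ 0) : IsMon (mt (wS φ a b c)) (piS a b) := by
  have hba : b ≠ a := hab.symm
  have hba' : b ≠ Fin.rev a := ne_rev_symm hab'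
  have e1 : Fin.rev a ≠ a := ha.symm
  have e2 : Fin.rev a ≠ Fin.rev b := rev_ne_of_ne hab
  have e3 : Fin.rev b ≠ b := hb.symm
  have e4 : Fin.rev b ≠ Fin.rev a := rev_ne_of_ne hba
  have hφc : φ c ≠ 0 := by
    intro h0
    apply hc
    rw [← hφφ c, h0, map_zero]
  have Xa : mt (Tm φ a b c) *ᵥ (ev a : Fin n → F) = ev a :=
    Tm_ev_of_ne hφφ hab ha hb c hab ha
  have Xb := Tm_ev_b hφφ hab hab' ha hb c
  have Xra := Tm_ev_ra hφφ hab hab' ha hb c
  have Xrb : mt (Tm φ a b c) *ᵥ (ev (Fin.rev b) : Fin n → F) = ev (Fin.rev b) :=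
    Tm_ev_of_ne hφφ hab ha hb c e3 e4
  have Yb : mt (Tm φ b a (-c⁻¹)) *ᵥ (ev b : Fin n → F) = ev b :=
    Tm_ev_of_ne hφφ hba hb ha _ hba hb
  have Ya := Tm_ev_b hφφ hba hba' hb ha (-c⁻¹)
  have Yrb := Tm_ev_ra hφφ hba hba' hb ha (-c⁻¹)
  have Yra : mt (Tm φ b a (-c⁻¹)) *ᵥ (ev (Fin.rev a) : Fin n → F) = ev (Fin.rev a) :=
    Tm_ev_of_ne hφφ hba hb ha _ e1 e2
  rw [map_neg, map_inv₀] at Yrb
  unfold wS
  rw [mt_mul, mt_mul]
  apply isMon_of_mulVec (fun q => if q = a then -c⁻¹ else if q = b then c else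
    if q = Fin.rev a then -φ c else if q = Fin.rev b then (φ c)⁻¹ else 1)
  intro q
  rw [← mulVec_mulVec, ← mulVec_mulVec]
  by_cases h1 : q = a
  · rw [h1, piS_a hab hab' ha hb, if_pos rfl]
    simp only [mulVec_add, mulVec_sub, mulVec_smul, Xa, Xb, Ya, Yb]
    ext p
    simp only [Pi.add_apply, Pi.smul_apply, smul_eq_mul]
    field_simp
    ring
  by_cases h2 : q = b
  · rw [h2, piS_b hab hab' ha hb, if_neg hba, if_pos rfl]
    simp only [mulVec_add, mulVec_sub, mulVec_smul, Xa, Xb, Ya, Yb]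
    ext p
    simp only [Pi.add_apply, Pi.smul_apply, smul_eq_mul]
    field_simp
    ring
  by_cases h3 : q = Fin.rev a
  · rw [h3, piS_ra hab hab' ha hb, if_neg e1, if_neg hba'.symm, if_pos rfl]
    simp only [mulVec_add, mulVec_sub, mulVec_smul, Xra, Xrb, Yra, Yrb]
    ext p
    simp only [Pi.add_apply, Pi.sub_apply, Pi.smul_apply, smul_eq_mul]
    field_simp
    ring
  by_cases h4 : q = Fin.rev b
  · rw [h4, piS_rb hab hab' ha hb, if_neg hab'.symm, if_neg e3, if_neg e4, if_pos rfl]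
    simp only [mulVec_add, mulVec_sub, mulVec_smul, Xra, Xrb, Yra, Yrb]
    ext p
    simp only [Pi.add_apply, Pi.sub_apply, Pi.smul_apply, smul_eq_mul]
    field_simp
    ring
  · rw [piS_of_ne h1 h2 h3 h4, if_neg h1, if_neg h2, if_neg h3, if_neg h4,
      Tm_ev_of_ne hφφ hab ha hb c h2 h3, Tm_ev_of_ne hφφ hba hb ha _ h1 h4,
      Tm_ev_of_ne hφφ hab ha hb c h2 h3, one_smul]

end short

/-! ### long root elements -/

section long

variable {a : Fin n} (ha : a ≠ Fin.rev a)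

include ha in
theorem Lm_mulVec {t : F} (ht : t + φ t = 0) (x : Fin n → F) :
    mt (Lm φ a t) *ᵥ x = x + (t * x (Fin.rev a)) • (ev a : Fin n → F) := by
  rw [Lm_coe ha ht, LmM_mulVec]

include ha in
theorem Lm_ev_of_ne {t : F} (ht : t + φ t = 0) {q : Fin n} (h : q ≠ Fin.rev a) :
    mt (Lm φ a t) *ᵥ (ev q : Fin n → F) = ev q := by
  rw [Lm_mulVec ha ht, ev_ne h]
  simp

include ha in
theorem Lm_ev_ra {t : F} (ht : t + φ t = 0) :
    mt (Lm φ a t) *ᵥ (ev (Fin.rev a) : Fin n → F) = ev (Fin.rev a) + t • ev a := by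
  rw [Lm_mulVec ha ht, ev_self]
  simp

include ha in
theorem Lm_add {t u : F} (ht : t + φ t = 0) (hu : u + φ u = 0) :
    Lm φ a t * Lm φ a u = Lm φ a (t + u) := by
  have htu : (t + u) + φ (t + u) = 0 := by
    rw [map_add]
    linear_combination ht + hu
  apply mt_injective
  rw [mt_mul, Lm_coe ha ht, Lm_coe ha hu, Lm_coe ha htu]
  unfold LmM
  have h1 : Matrix.single a (Fin.rev a) t * Matrix.single a (Fin.rev a) u = 0 :=
    single_mul_single_ne' ha.symm _ _
  rw [mul_add, mul_one, add_mul, one_mul, h1, add_zero, Matrix.single_add, add_assoc]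

theorem trace_zero_zero : (0 : F) + φ 0 = 0 := by rw [map_zero, add_zero]

theorem trace_zero_neg {t : F} (ht : t + φ t = 0) : -t + φ (-t) = 0 := by
  rw [map_neg]
  linear_combination -ht

theorem trace_zero_inv {t : F} (ht : t + φ t = 0) : t⁻¹ + φ t⁻¹ = 0 := by
  by_cases h0 : t = 0
  · rw [h0, _root_.inv_zero, map_zero, add_zero]
  have h1 : φ t = -t := by linear_combination ht
  rw [map_inv₀, h1]
  field_simp
  ring

include ha in
theorem Lm_zero : Lm φ a (0 : F) = 1 := by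
  have := Lm_add (φ := φ) ha trace_zero_zero trace_zero_zero
  rw [add_zero] at this
  exact mul_eq_left.1 this

include ha in
theorem Lm_inv {t : F} (ht : t + φ t = 0) : (Lm φ a t)⁻¹ = Lm φ a (-t) := by
  rw [inv_eq_iff_mul_eq_one, Lm_add ha ht (trace_zero_neg ht), add_neg_cancel, Lm_zero ha]

/-- the entries of a long root element -/
theorem LmM_apply_of_ne (t : F) {u v : Fin n} (h1 : u ≠ v) (h2 : ¬ (u = a ∧ v = Fin.rev a)) :
    LmM a t u v = 0 := by
  unfold LmM
  rw [Matrix.add_apply, Matrix.one_apply_ne h1, Matrix.single_apply,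
    if_neg (fun h => h2 ⟨h.1.symm, h.2.symm⟩)]
  ring

include ha in
theorem Lm_mem_bor (h : a < Fin.rev a) {t : F} (ht : t + φ t = 0) : Lm φ a t ∈ bor n φ := by
  intro p q hpq
  rw [Lm_coe ha ht]
  apply LmM_apply_of_ne
  · intro e; rw [e] at hpq; exact lt_irrefl _ hpq
  · rintro ⟨rfl, rfl⟩; exact lt_asymm h hpq

include ha in
/-- conjugating a long root element by a monomial element -/
theorem conj_Lm_mem_bor {N : WSU n φ} {π : Equiv.Perm (Fin n)} (hN : IsMon (mt N) π)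
    (h : π⁻¹ a < π⁻¹ (Fin.rev a)) {t : F} (ht : t + φ t = 0) :
    N⁻¹ * Lm φ a t * N ∈ bor n φ := by
  apply conj_inv_mem_bor hN
  intro p q hpq
  rw [Lm_coe ha ht]
  have hne : π p ≠ π q := by
    intro e
    have := π.injective e
    rw [this] at hpq
    exact lt_irrefl _ hpq
  apply LmM_apply_of_ne t hne
  rintro ⟨e1, e2⟩
  have h1 : π⁻¹ a = p := by rw [← e1]; simp
  have h2 : π⁻¹ (Fin.rev a) = q := by rw [← e2]; simp
  rw [h1, h2] at h
  exact lt_asymm h hpq

/-- the element `w(c) = x(c) y(-c⁻¹) x(c)` of a long root -/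
noncomputable def wL (φ : F →+* F) (a : Fin n) (c : F) : WSU n φ :=
  Lm φ a c * Lm φ (Fin.rev a) (-c⁻¹) * Lm φ a c

theorem piL_mul_self (a : Fin n) : piL a * piL a = 1 := Equiv.swap_mul_self _ _

theorem piL_inv (a : Fin n) : (piL a)⁻¹ = piL a := by
  rw [inv_eq_iff_mul_eq_one]
  exact piL_mul_self a

include ha in
theorem wL_isMon {c : F} (hc : c ≠ 0) (hc' : c + φ c = 0) : IsMon (mt (wL φ a c)) (piL a) := by
  have e1 : Fin.rev (Fin.rev a) = a := Fin.rev_rev a
  have hra : Fin.rev a ≠ Fin.rev (Fin.rev a) := by rw [e1]; exact ha.symm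
  have hc2 : -c⁻¹ + φ (-c⁻¹) = 0 := trace_zero_neg (trace_zero_inv hc')
  have Xa : mt (Lm φ a c) *ᵥ (ev a : Fin n → F) = ev a := Lm_ev_of_ne ha hc' ha
  have Xra := Lm_ev_ra ha hc'
  have Ya : mt (Lm φ (Fin.rev a) (-c⁻¹)) *ᵥ (ev a : Fin n → F) = ev a + (-c⁻¹) • ev (Fin.rev a) := by
    have h := Lm_ev_ra hra hc2
    rwa [e1] at h
  have Yra : mt (Lm φ (Fin.rev a) (-c⁻¹)) *ᵥ (ev (Fin.rev a) : Fin n → F) = ev (Fin.rev a) := by
    apply Lm_ev_of_ne hra hc2
    rw [e1]
    exact ha.symm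
  unfold wL piL
  rw [mt_mul, mt_mul]
  apply isMon_of_mulVec (fun q => if q = a then -c⁻¹ else if q = Fin.rev a then c else 1)
  intro q
  rw [← mulVec_mulVec, ← mulVec_mulVec]
  by_cases h1 : q = a
  · rw [h1, Equiv.swap_apply_left, if_pos rfl]
    simp only [mulVec_add, mulVec_sub, mulVec_smul, Xa, Xra, Ya, Yra]
    ext p
    simp only [Pi.add_apply, Pi.smul_apply, smul_eq_mul]
    field_simp
    ring
  by_cases h2 : q = Fin.rev a
  · rw [h2, Equiv.swap_apply_right, if_neg ha.symm, if_pos rfl]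
    simp only [mulVec_add, mulVec_sub, mulVec_smul, Xa, Xra, Ya, Yra]
    ext p
    simp only [Pi.add_apply, Pi.smul_apply, smul_eq_mul]
    field_simp
    ring
  · have h3 : q ≠ Fin.rev (Fin.rev a) := by rw [e1]; exact h1
    rw [Equiv.swap_apply_of_ne_of_ne h1 h2, if_neg h1, if_neg h2, Lm_ev_of_ne ha hc' h2,
      Lm_ev_of_ne hra hc2 h3, Lm_ev_of_ne ha hc' h2, one_smul]

end long

end Cfsg.Agent.Helper13.SuBN
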