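import Mathlib
import Cfsg.Prelude
import Cfsg.Agent.Lib.Helper17.BNCox3

/-!
# S4613, the uniform (B, N)-pair route (helper13): definitions

`SylOpp p G`: the opposition structure on the Sylow `p`-subgroups (two Sylow subgroups are
*opposite* when they intersect trivially): there is a non-trivial Sylow subgroup, a Sylow
subgroup acts transitively on its opposites, and any two Sylow subgroups have a common opposite.

`Data P p`: the data of a split (B, N)-pair of characteristic `p` on a group `H`, in the form in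
which the Steinberg character files provide it.
-/

set_option autoImplicit false

namespace Cfsg.Agent.Helper13.SylO

open Cfsg Cfsg.Agent.Helper2.WordLen Cfsg.Agent.Helper2.BN Cfsg.Agent.Helper17.BNCox

/-- the opposition structure on the Sylow `p`-subgroups of `G` -/
def SylOpp (p : ℕ) (G : Type*) [Group G] : Prop :=
  (∃ U : Sylow p G, (U : Subgroup G) ≠ ⊥) ∧
  (∀ U W W' : Sylow p G, (U : Subgroup G) ⊓ (W : Subgroup G) = ⊥ →
    (U : Subgroup G) ⊓ (W' : Subgroup G) = ⊥ →
    ∃ u ∈ (U : Subgroup G), ∀ x : G, x ∈ (W' : Subgroup G) ↔ u⁻¹ * x * u ∈ (W : Subgroup G)) ∧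
  (∀ W W' : Sylow p G, ∃ E : Sylow p G, (E : Subgroup G) ⊓ (W : Subgroup G) = ⊥ ∧
    (E : Subgroup G) ⊓ (W' : Subgroup G) = ⊥)

/-- a split (B, N)-pair of characteristic `p`: `B = U ⋊ T` with `U` a normal `p`-subgroup of `B`, `T` a
`p'`-group, `B ∩ n₀ B n₀⁻¹ = T` for a representative `n₀` of the longest element, and no generator
normalizes `U` -/
structure Data {H : Type*} [Group H] (P : Cfsg.BNPair H) (p : ℕ) where
  /-- the unipotent radical of `B` -/
  U : Subgroup H
  /-- the torus -/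
  T : Subgroup H
  /-- a representative of the longest element -/
  n₀ : P.N
  hUB : U ≤ P.B
  hTB : T ≤ P.B
  hUn : ∀ b ∈ P.B, ∀ u ∈ U, b * u * b⁻¹ ∈ U
  hUp : IsPGroup p U
  hcard : Nat.card P.B = Nat.card T * Nat.card U
  hTp : ¬ p ∣ Nat.card T
  hS : P.S.Nonempty
  hs : ∀ s ∈ P.S, ∃ u ∈ U, s * u * s⁻¹ ∉ P.B
  hT : ∀ x ∈ P.B, x ∈ T ↔ (n₀ : H)⁻¹ * x * n₀ ∈ P.B
  hn₀ : ∀ t : P.S, ℓ P (π P n₀ * σ P t) < ℓ P (π P n₀)

/-- `g U g⁻¹` is opposite to `U` -/
def Data.Opp {H : Type*} [Group H] {P : Cfsg.BNPair H} {p : ℕ} (D : Data P p) (g : H) : Prop :=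
  ∀ x ∈ D.U, g⁻¹ * x * g ∈ D.U → x = 1

end Cfsg.Agent.Helper13.SylO
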