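import Mathlib
import Cfsg.Agent.Lib.Helper13.KleinCount
import Cfsg.Agent.S0228

set_option autoImplicit false

/-!
# Recognising `A₄` inside a group from a four-group and an element of order three permuting it
-/

namespace Cfsg.Agent.Helper13.A4Recog

open Cfsg.Agent.Helper13.KleinCount
open scoped Pointwise

section
variable {G : Type*} [Group G]

/-- the order of a product `T V` with `T` normalising `V` and coprime orders -/
theorem card_sup_of_le_normalizer (T V : Subgroup G) [Finite T] [Finite V]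
    (hTV : T ≤ Subgroup.normalizer (V : Set G)) (hcop : (Nat.card T).Coprime (Nat.card V)) :
    Nat.card (T ⊔ V : Subgroup G) = Nat.card T * Nat.card V := by
  have hset : ((T ⊔ V : Subgroup G) : Set G) = (T : Set G) * (V : Set G) :=
    Subgroup.coe_mul_of_left_le_normalizer_right T V hTV
  have hbot : T ⊓ V = ⊥ := Subgroup.inf_eq_bot_of_coprime hcop
  let f : T × V → (T ⊔ V : Subgroup G) := fun p =>
    ⟨(p.1 : G) * (p.2 : G), by
      have : (p.1 : G) * (p.2 : G) ∈ ((T ⊔ V : Subgroup G) : Set G) := by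
        rw [hset]
        exact Set.mul_mem_mul p.1.2 p.2.2
      exact this⟩
  have hf : Function.Bijective f := by
    constructor
    · rintro ⟨t₁, v₁⟩ ⟨t₂, v₂⟩ h
      have h' : (t₁ : G) * (v₁ : G) = (t₂ : G) * (v₂ : G) := congrArg Subtype.val h
      have h1 : (t₂ : G)⁻¹ * (t₁ : G) = (v₂ : G) * (v₁ : G)⁻¹ := by
        rw [inv_mul_eq_iff_eq_mul, ← mul_assoc, ← h', mul_assoc, mul_inv_cancel, mul_one]
      have h2 : (t₂ : G)⁻¹ * (t₁ : G) ∈ T ⊓ V := by
        refine ⟨T.mul_mem (T.inv_mem t₂.2) t₁.2, ?_⟩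
        rw [h1]
        exact V.mul_mem v₂.2 (V.inv_mem v₁.2)
      rw [hbot, Subgroup.mem_bot] at h2
      have h3 : (t₁ : G) = t₂ := by
        rw [inv_mul_eq_one] at h2
        exact h2.symm
      have h4 : (v₁ : G) = v₂ := by
        rw [h3] at h'
        exact mul_left_cancel h'
      exact Prod.ext (Subtype.ext h3) (Subtype.ext h4)
    · rintro ⟨z, hz⟩
      have hz' : z ∈ ((T ⊔ V : Subgroup G) : Set G) := hz
      rw [hset] at hz'
      obtain ⟨t, ht, v, hv, rfl⟩ := hz'
      exact ⟨(⟨t, ht⟩, ⟨v, hv⟩), rfl⟩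
  rw [← Nat.card_prod]
  exact (Nat.card_congr (Equiv.ofBijective f hf)).symm

/-- elements of a product `T V` -/
theorem exists_mul_of_mem_sup (T V : Subgroup G) (hTV : T ≤ Subgroup.normalizer (V : Set G))
    {z : G} (hz : z ∈ T ⊔ V) : ∃ t ∈ T, ∃ v ∈ V, z = t * v := by
  have hset : ((T ⊔ V : Subgroup G) : Set G) = (T : Set G) * (V : Set G) :=
    Subgroup.coe_mul_of_left_le_normalizer_right T V hTV
  have hz' : z ∈ ((T ⊔ V : Subgroup G) : Set G) := hz
  rw [hset] at hz'
  obtain ⟨t, ht, v, hv, rfl⟩ := hz'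
  exact ⟨t, ht, v, hv, rfl⟩

/-- a four-group with an element of order three permuting its involutions cyclically generates a
copy of `A₄` -/
theorem exists_A4 (x y g : G) (hx : x * x = 1) (hy : y * y = 1) (hxy : x * y = y * x)
    (hx1 : x ≠ 1) (hy1 : y ≠ 1) (hne : x ≠ y) (hg3 : g ^ 3 = 1) (hgx : g * x * g⁻¹ = y)
    (hgy : g * y * g⁻¹ = x * y) :
    ∃ H : Subgroup G, Nonempty (H ≃* alternatingGroup (Fin 4)) := by
  set V := kleinOf x y hx hy hxy with hV
  set T := Subgroup.zpowers g with hT
  have hVcard : Nat.card V = 4 := card_kleinOf hx hy hxy hx1 hy1 hne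
  have hg1 : g ≠ 1 := by
    rintro rfl
    apply hne
    rw [← hgx]
    group
  have hgord : orderOf g = 3 := orderOf_eq_prime hg3 hg1
  have hTcard : Nat.card T = 3 := by rw [hT, Nat.card_zpowers, hgord]
  haveI : Finite V := Nat.finite_of_card_ne_zero (by rw [hVcard]; norm_num)
  haveI : Finite T := Nat.finite_of_card_ne_zero (by rw [hTcard]; norm_num)
  have hgxy : g * (x * y) * g⁻¹ = x := by
    have : g * (x * y) * g⁻¹ = (g * x * g⁻¹) * (g * y * g⁻¹) := by group
    rw [this, hgx, hgy, ← mul_assoc, ← hxy, mul_assoc, hy, mul_one]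
  -- conjugation by `g` maps `V` into itself
  have hconj : ∀ v ∈ V, g * v * g⁻¹ ∈ V := by
    intro v hv
    rw [hV, mem_kleinOf] at hv ⊢
    rcases hv with rfl | rfl | rfl | rfl
    · left; group
    · right; right; left; exact hgx
    · right; right; right; exact hgy
    · right; left; exact hgxy
  have hgN : g ∈ Subgroup.normalizer (V : Set G) := by
    rw [Subgroup.mem_normalizer_iff]
    intro v
    refine ⟨hconj v, fun h => ?_⟩
    have h1 := hconj _ (hconj _ h)
    have h2 : g * (g * (g * v * g⁻¹) * g⁻¹) * g⁻¹ = v := by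
      have e3 : g * g * g = 1 := by rw [← hg3, pow_succ, pow_two]
      have : g * (g * (g * v * g⁻¹) * g⁻¹) * g⁻¹ = (g * g * g) * v * (g * g * g)⁻¹ := by
        simp only [mul_assoc, mul_inv_rev]
      rw [this, e3, one_mul, inv_one, mul_one]
    rw [h2] at h1
    exact h1
  have hTN : T ≤ Subgroup.normalizer (V : Set G) := by
    rw [hT, Subgroup.zpowers_le]
    exact hgN
  set H := T ⊔ V with hH
  have hHcard : Nat.card H = 12 := by
    rw [hH, card_sup_of_le_normalizer T V hTN (by rw [hTcard, hVcard]; norm_num), hTcard, hVcard]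
  haveI : Finite H := Nat.finite_of_card_ne_zero (by rw [hHcard]; norm_num)
  have hgH : g ∈ H := (le_sup_left : T ≤ H) (Subgroup.mem_zpowers g)
  refine ⟨H, Cfsg.Agent.S0228.result hHcard ?_⟩
  intro z hz hzc
  -- `z` lies in `V`
  obtain ⟨t, ht, v, hv, hzt⟩ := exists_mul_of_mem_sup T V hTN z.2
  have hz2 : (z : G) * (z : G) = 1 := by
    have h1 : z ^ 2 = 1 := by rw [← hz]; exact pow_orderOf_eq_one z
    have h2 := congrArg Subtype.val h1
    rw [pow_two] at h2
    exact h2
  have htV : t * t ∈ V := by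
    -- `z² = t² (t⁻¹ v t) v`
    have h1 : t⁻¹ * v * t ∈ V := by
      have htn : t⁻¹ ∈ Subgroup.normalizer (V : Set G) := (Subgroup.normalizer _).inv_mem (hTN ht)
      have := (Subgroup.mem_normalizer_iff.1 htn v).1 hv
      rwa [inv_inv] at this
    have h2 : t * t = ((t⁻¹ * v * t) * v)⁻¹ := by
      rw [eq_inv_iff_mul_eq_one]
      have : t * t * (t⁻¹ * v * t * v) = (t * v) * (t * v) := by group
      rw [this, ← hzt]
      exact hz2
    rw [h2]
    exact V.inv_mem (V.mul_mem h1 hv)
  have hbot : T ⊓ V = ⊥ :=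
    Subgroup.inf_eq_bot_of_coprime (by rw [hTcard, hVcard]; norm_num)
  have htt : t * t = 1 := by
    have : t * t ∈ T ⊓ V := ⟨T.mul_mem ht ht, htV⟩
    rwa [hbot, Subgroup.mem_bot] at this
  have ht3 : t ^ 3 = 1 := by
    have h1 : (⟨t, ht⟩ : T) ^ Nat.card T = 1 := pow_card_eq_one'
    rw [hTcard] at h1
    exact congrArg Subtype.val h1
  have ht1 : t = 1 := by
    have : t ^ 3 = t * t * t := by rw [pow_succ, pow_two]
    rw [this, htt, one_mul] at ht3
    exact ht3
  have hzV : (z : G) ∈ V := by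
    rw [hzt, ht1, one_mul]
    exact hv
  have hz1 : (z : G) ≠ 1 := by
    intro h
    have : z = 1 := Subtype.ext h
    rw [this, orderOf_one] at hz
    norm_num at hz
  -- `z` commutes with `g`
  have hzg : g * (z : G) * g⁻¹ = (z : G) := by
    have h1 := Subgroup.mem_center_iff.1 hzc ⟨g, hgH⟩
    have h2 : g * (z : G) = (z : G) * g := congrArg Subtype.val h1
    rw [h2, mul_inv_cancel_right]
  rw [hV, mem_kleinOf] at hzV
  rcases hzV with h | h | h | h
  · exact hz1 h
  · rw [h, hgx] at hzg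
    exact hne hzg.symm
  · rw [h, hgy] at hzg
    apply hx1
    have : x * y = 1 * y := by rw [hzg, one_mul]
    exact mul_right_cancel this
  · rw [h, hgxy] at hzg
    apply hy1
    have : x * 1 = x * y := by rw [mul_one]; exact hzg
    exact (mul_left_cancel this).symm

end

end Cfsg.Agent.Helper13.A4Recog
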