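import Mathlib

set_option autoImplicit false

/-!
# Point count of the conic `a² + t a b + b² = 1` over a finite field of characteristic two

`conic_count`: `#{(a,b) | a² + tab + b² = 1} + #{r | r² + tr + 1 = 0} = q + 1`.
-/

namespace Cfsg.Agent.Helper13

open Finset

section
variable {F : Type*} [Field F] [Fintype F] [DecidableEq F]

/-- The binary quadratic form `a² + t a b + b²`. -/
def conicQ (t : F) (p : F × F) : F := p.1 * p.1 + t * p.1 * p.2 + p.2 * p.2

omit [Fintype F] [DecidableEq F] in
theorem conicQ_smul (t d : F) (p : F × F) :
    conicQ t (d * p.1, d * p.2) = d * d * conicQ t p := by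
  simp only [conicQ]; ring

/-- fibres over non-zero squares have the same size as the fibre over `1` -/
theorem card_fiber_sq (t d : F) (hd : d ≠ 0) :
    (univ.filter (fun p : F × F => conicQ t p = d * d)).card =
      (univ.filter (fun p : F × F => conicQ t p = 1)).card := by
  symm
  refine Finset.card_bij (fun p _ => (d * p.1, d * p.2)) ?_ ?_ ?_
  · intro p hp
    simp only [mem_filter, mem_univ, true_and] at hp ⊢
    rw [conicQ_smul, hp, mul_one]
  · intro p _ p' _ h
    simp only [Prod.mk.injEq] at h
    exact Prod.ext (mul_left_cancel₀ hd h.1) (mul_left_cancel₀ hd h.2)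
  · intro p hp
    simp only [mem_filter, mem_univ, true_and] at hp
    refine ⟨(d⁻¹ * p.1, d⁻¹ * p.2), ?_, ?_⟩
    · simp only [mem_filter, mem_univ, true_and]
      rw [conicQ_smul, hp]
      field_simp
    · simp only [← mul_assoc, mul_inv_cancel₀ hd, one_mul]

/-- the zero fibre: the origin plus a punctured line for every root -/
theorem card_fiber_zero (t : F) :
    (univ.filter (fun p : F × F => conicQ t p = 0)).card =
      1 + (Fintype.card F - 1) * (univ.filter (fun r : F => r * r + t * r + 1 = 0)).card := by
  classical
  have hsplit : (univ.filter (fun p : F × F => conicQ t p = 0)) =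
      insert ((0 : F), (0 : F))
        (((univ.filter (fun r : F => r * r + t * r + 1 = 0)) ×ˢ (univ.filter (fun b : F => b ≠ 0))).image
          (fun rb => (rb.1 * rb.2, rb.2))) := by
    ext p
    simp only [mem_filter, mem_univ, true_and, mem_insert, mem_image, mem_product, Prod.exists]
    constructor
    · intro hp
      by_cases hb : p.2 = 0
      · left
        have : p.1 * p.1 = 0 := by
          simp only [conicQ, hb, mul_zero, add_zero] at hp; exact hp
        have h1 : p.1 = 0 := by simpa using this
        exact Prod.ext h1 hb
      · right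
        refine ⟨p.1 / p.2, p.2, ⟨?_, hb⟩, ?_⟩
        · simp only [conicQ] at hp
          field_simp
          linear_combination hp
        · ext
          · simp only; field_simp
          · rfl
    · rintro (rfl | ⟨r, b, ⟨hr, hb⟩, rfl⟩)
      · simp [conicQ]
      · simp only [conicQ]
        linear_combination b * b * hr
  rw [hsplit, card_insert_of_notMem, card_image_of_injOn, card_product, add_comm]
  · congr 1
    rw [mul_comm]
    congr 1
    rw [filter_ne' univ (0 : F), card_erase_of_mem (mem_univ _), card_univ]
  · rintro ⟨r, b⟩ hrb ⟨r', b'⟩ hrb' h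
    simp only [coe_product, Set.mem_prod, mem_coe, mem_filter, mem_univ, true_and] at hrb hrb'
    simp only [Prod.mk.injEq] at h
    obtain ⟨h1, rfl⟩ := h
    exact Prod.ext (mul_right_cancel₀ hrb.2 h1) rfl
  · simp only [mem_image, mem_product, mem_filter, mem_univ, true_and, Prod.exists, not_exists, not_and]
    rintro r b ⟨_, hb⟩ h
    simp only [Prod.mk.injEq] at h
    exact hb h.2

variable [CharP F 2]

/-- **Conic count in characteristic two.** -/
theorem conic_count (t : F) :
    (univ.filter (fun p : F × F => conicQ t p = 1)).card +
      (univ.filter (fun r : F => r * r + t * r + 1 = 0)).card = Fintype.card F + 1 := by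
  classical
  set q := Fintype.card F with hq
  set N := (univ.filter (fun p : F × F => conicQ t p = 1)).card with hN
  set R := (univ.filter (fun r : F => r * r + t * r + 1 = 0)).card with hR
  have hchar : ringChar F = 2 := ringChar.eq F 2
  -- total count
  have htot : q * q = ∑ c : F, (univ.filter (fun p : F × F => conicQ t p = c)).card := by
    have := Finset.card_eq_sum_card_fiberwise (f := conicQ t) (s := (univ : Finset (F × F)))
      (t := (univ : Finset F)) (fun _ _ => mem_univ _)
    rw [card_univ, Fintype.card_prod] at this
    simpa using this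
  have hfib : ∀ c : F, c ≠ 0 → (univ.filter (fun p : F × F => conicQ t p = c)).card = N := by
    intro c hc
    obtain ⟨d, rfl⟩ := FiniteField.isSquare_of_char_two hchar c
    have hd : d ≠ 0 := by rintro rfl; simp at hc
    exact card_fiber_sq t d hd
  have hsum : ∑ c : F, (univ.filter (fun p : F × F => conicQ t p = c)).card
      = (1 + (q - 1) * R) + (q - 1) * N := by
    rw [← Finset.add_sum_erase univ _ (mem_univ (0 : F)), card_fiber_zero]
    congr 1
    rw [Finset.sum_congr rfl (fun c hc => hfib c (ne_of_mem_erase hc)), sum_const,
      card_erase_of_mem (mem_univ _), card_univ, smul_eq_mul]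
  have hq2 : 2 ≤ q := Fintype.one_lt_card
  rw [hsum] at htot
  obtain ⟨m, hm⟩ : ∃ m, q = m + 1 := ⟨q - 1, by omega⟩
  have hm1 : 1 ≤ m := by omega
  rw [hm] at htot ⊢
  simp only [Nat.add_sub_cancel] at htot
  have : m * (N + R) = m * (m + 2) := by nlinarith
  have := Nat.eq_of_mul_eq_mul_left (by omega) this
  omega

end

end Cfsg.Agent.Helper13
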