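import Mathlib
import Cfsg.Agent.Lib.Helper13.ConicCount

set_option autoImplicit false

/-!
# Point count of the conic `a² + t a b + b² = 1` over a finite field of odd characteristic
-/

namespace Cfsg.Agent.Helper13

open Finset

section
variable {F : Type*} [Field F]

/-- multiplication of `a + bω`, where `ω² = tω - 1` -/
def conicMul (t : F) (p p' : F × F) : F × F :=
  (p.1 * p'.1 - p.2 * p'.2, p.1 * p'.2 + p'.1 * p.2 + t * p.2 * p'.2)

/-- conjugate of `a + bω` -/
def conicConj (t : F) (p : F × F) : F × F := (p.1 + t * p.2, -p.2)

theorem conicQ_mul (t : F) (p p' : F × F) :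
    conicQ t (conicMul t p p') = conicQ t p * conicQ t p' := by
  simp only [conicQ, conicMul]; ring

theorem conicQ_conj (t : F) (p : F × F) : conicQ t (conicConj t p) = conicQ t p := by
  simp only [conicQ, conicConj]; ring

theorem conicMul_conj_mul (t : F) (p p' : F × F) :
    conicMul t (conicConj t p) (conicMul t p p') = (conicQ t p * p'.1, conicQ t p * p'.2) := by
  simp only [conicQ, conicMul, conicConj]
  ext <;> simp only <;> ring

theorem conicMul_mul_conj (t : F) (p p' : F × F) :
    conicMul t p (conicMul t (conicConj t p) p') = (conicQ t p * p'.1, conicQ t p * p'.2) := by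
  simp only [conicQ, conicMul, conicConj]
  ext <;> simp only <;> ring

end

section
variable {F : Type*} [Field F] [Fintype F] [DecidableEq F]

/-- all fibres over represented non-zero values have the same size -/
theorem card_fiber_of_rep (t c : F) (p₀ : F × F) (hc : c ≠ 0) (h₀ : conicQ t p₀ = c) :
    (univ.filter (fun p : F × F => conicQ t p = c)).card =
      (univ.filter (fun p : F × F => conicQ t p = 1)).card := by
  symm
  refine Finset.card_nbij' (fun p => conicMul t p₀ p)
    (fun p => (c⁻¹ * (conicMul t (conicConj t p₀) p).1, c⁻¹ * (conicMul t (conicConj t p₀) p).2))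
    ?_ ?_ ?_ ?_
  · intro p hp
    simp only [coe_filter, mem_univ, true_and, Set.mem_ofPred_eq] at hp ⊢
    rw [conicQ_mul, h₀, hp, mul_one]
  · intro p hp
    simp only [coe_filter, mem_univ, true_and, Set.mem_ofPred_eq] at hp ⊢
    rw [conicQ_smul, conicQ_mul, conicQ_conj, h₀, hp]
    field_simp
  · intro p _
    simp only
    rw [conicMul_conj_mul, h₀]
    ext <;> simp only <;> field_simp
  · intro p _
    simp only
    have h1 : conicMul t p₀ (c⁻¹ * (conicMul t (conicConj t p₀) p).1,
        c⁻¹ * (conicMul t (conicConj t p₀) p).2) =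
        (c⁻¹ * (conicMul t p₀ (conicMul t (conicConj t p₀) p)).1,
          c⁻¹ * (conicMul t p₀ (conicMul t (conicConj t p₀) p)).2) := by
      simp only [conicMul]
      ext <;> simp only <;> ring
    rw [h1, conicMul_mul_conj, h₀]
    ext <;> simp only <;> field_simp

omit [DecidableEq F] in
/-- universality of the non-degenerate form -/
theorem exists_conicQ_eq (hF : ringChar F ≠ 2) (t : F) (ht : t ^ 2 ≠ 4) (c : F) :
    ∃ p : F × F, conicQ t p = c := by
  have h2 : (2 : F) ≠ 0 := Ring.two_ne_zero hF
  have h4 : (4 : F) ≠ 0 := by
    have : (4 : F) = 2 * 2 := by norm_num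
    rw [this]; exact mul_ne_zero h2 h2
  have hδ : (4 - t ^ 2) / 4 ≠ 0 := by
    apply div_ne_zero _ h4
    intro h
    apply ht
    linear_combination -h
  open Polynomial in
  have hf : degree (X ^ 2 - C c : F[X]) = 2 := by
    rw [degree_X_pow_sub_C (by norm_num)]; rfl
  open Polynomial in
  have hg : degree (C ((4 - t ^ 2) / 4) * X ^ 2 : F[X]) = 2 := by
    rw [degree_C_mul_X_pow 2 hδ]; rfl
  obtain ⟨x, y, hxy⟩ := FiniteField.exists_root_sum_quadratic hf hg
    (FiniteField.odd_card_of_char_ne_two hF)
  simp only [Polynomial.eval_mul, Polynomial.eval_C, Polynomial.eval_pow, Polynomial.eval_X,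
    Polynomial.eval_sub] at hxy
  refine ⟨(x - t * y / 2, y), ?_⟩
  simp only [conicQ]
  field_simp
  field_simp at hxy
  linear_combination hxy

/-- **Conic count in odd characteristic** (non-degenerate case). -/
theorem conic_count_odd (hF : ringChar F ≠ 2) (t : F) (ht : t ^ 2 ≠ 4) :
    (univ.filter (fun p : F × F => conicQ t p = 1)).card +
      (univ.filter (fun r : F => r * r + t * r + 1 = 0)).card = Fintype.card F + 1 := by
  classical
  set q := Fintype.card F with hq
  set N := (univ.filter (fun p : F × F => conicQ t p = 1)).card with hN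
  set R := (univ.filter (fun r : F => r * r + t * r + 1 = 0)).card with hR
  have htot : q * q = ∑ c : F, (univ.filter (fun p : F × F => conicQ t p = c)).card := by
    have := Finset.card_eq_sum_card_fiberwise (f := conicQ t) (s := (univ : Finset (F × F)))
      (t := (univ : Finset F)) (fun _ _ => mem_univ _)
    rw [card_univ, Fintype.card_prod] at this
    simpa using this
  have hfib : ∀ c : F, c ≠ 0 → (univ.filter (fun p : F × F => conicQ t p = c)).card = N := by
    intro c hc
    obtain ⟨p₀, h₀⟩ := exists_conicQ_eq hF t ht c
    exact card_fiber_of_rep t c p₀ hc h₀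
  have hsum : ∑ c : F, (univ.filter (fun p : F × F => conicQ t p = c)).card
      = (1 + (q - 1) * R) + (q - 1) * N := by
    rw [← Finset.add_sum_erase univ _ (mem_univ (0 : F)), card_fiber_zero]
    congr 1
    rw [Finset.sum_congr rfl (fun c hc => hfib c (ne_of_mem_erase hc)), sum_const,
      card_erase_of_mem (mem_univ _), card_univ, smul_eq_mul]
  have hq2 : 2 ≤ q := Fintype.one_lt_card
  rw [hsum] at htot
  obtain ⟨m, hm⟩ : ∃ m, q = m + 1 := ⟨q - 1, by omega⟩
  have hm1 : 1 ≤ m := by omega
  rw [hm] at htot ⊢
  simp only [Nat.add_sub_cancel] at htot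
  have : m * (N + R) = m * (m + 2) := by nlinarith
  have := Nat.eq_of_mul_eq_mul_left (by omega) this
  omega

/-- in the non-degenerate case the quadratic has no or two roots -/
theorem card_roots_zero_or_two (t : F) (ht : t ^ 2 ≠ 4) :
    (univ.filter (fun r : F => r * r + t * r + 1 = 0)).card = 0 ∨
      (univ.filter (fun r : F => r * r + t * r + 1 = 0)).card = 2 := by
  by_cases h : ∃ r₁ : F, r₁ * r₁ + t * r₁ + 1 = 0
  · right
    obtain ⟨r₁, h₁⟩ := h
    have hne : r₁ ≠ -t - r₁ := by
      intro h
      apply ht
      have : t = -2 * r₁ := by linear_combination h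
      rw [this] at h₁
      rw [this]
      linear_combination -4 * h₁
    have heq : (univ.filter (fun r : F => r * r + t * r + 1 = 0)) = {r₁, -t - r₁} := by
      ext r
      simp only [mem_filter, mem_univ, true_and, mem_insert, mem_singleton]
      constructor
      · intro hr
        have : (r - r₁) * (r - (-t - r₁)) = 0 := by
          linear_combination hr - h₁
        rcases mul_eq_zero.1 this with h | h
        · left; exact sub_eq_zero.1 h
        · right; exact sub_eq_zero.1 h
      · rintro (rfl | rfl)
        · exact h₁
        · linear_combination h₁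
    rw [heq, card_pair hne]
  · left
    rw [card_eq_zero, filter_eq_empty_iff]
    intro r _ hr
    exact h ⟨r, hr⟩

/-- the degenerate conics `(a ± b)² = 1` -/
theorem card_conic_degenerate (hF : ringChar F ≠ 2) (t : F) (ht : t ^ 2 = 4) :
    (univ.filter (fun p : F × F => conicQ t p = 1)).card = 2 * Fintype.card F := by
  have h2 : (2 : F) ≠ 0 := Ring.two_ne_zero hF
  have h11 : (1 : F) ≠ -1 := by
    intro h
    apply h2
    linear_combination h
  -- write t = 2e with e² = 1
  set e := t / 2 with he
  have hte : t = 2 * e := by rw [he]; field_simp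
  have he2 : e * e = 1 := by
    rw [he]
    field_simp
    linear_combination ht
  have heq : (univ.filter (fun p : F × F => conicQ t p = 1)) =
      ((univ : Finset F) ×ˢ ({1, -1} : Finset F)).image (fun bs => (bs.2 - e * bs.1, bs.1)) := by
    ext p
    simp only [mem_filter, mem_univ, true_and, mem_image, mem_product, mem_insert, mem_singleton,
      Prod.exists]
    constructor
    · intro hp
      refine ⟨p.2, p.1 + e * p.2, ?_, ?_⟩
      · have : (p.1 + e * p.2 - 1) * (p.1 + e * p.2 + 1) = 0 := by
          simp only [conicQ, hte] at hp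
          linear_combination hp + (p.2 * p.2) * he2
        rcases mul_eq_zero.1 this with h | h
        · left; linear_combination h
        · right; linear_combination h
      · ext <;> simp
    · rintro ⟨b, s, hs, rfl⟩
      simp only [conicQ, hte]
      rcases hs with rfl | rfl
      · linear_combination (-(b * b)) * he2
      · linear_combination (-(b * b)) * he2
  rw [heq, card_image_of_injOn, card_product, card_univ, card_pair h11, mul_comm]
  rintro ⟨b, s⟩ _ ⟨b', s'⟩ _ h
  simp only [Prod.mk.injEq] at h
  obtain ⟨h1, rfl⟩ := h
  have : s = s' := by linear_combination h1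
  rw [this]

/-- every non-zero `r` is a root of exactly one `r² + t r + 1` -/
theorem sum_card_roots :
    ∑ t : F, (univ.filter (fun r : F => r * r + t * r + 1 = 0)).card = Fintype.card F - 1 := by
  have h1 := Finset.card_eq_sum_card_fiberwise (f := fun r : F => -(r * r + 1) / r)
    (s := (univ.filter (fun r : F => r ≠ 0))) (t := (univ : Finset F)) (fun _ _ => mem_univ _)
  rw [filter_ne' univ (0 : F), card_erase_of_mem (mem_univ _), card_univ] at h1
  rw [h1]
  apply Finset.sum_congr rfl
  intro t _
  congr 1
  ext r
  simp only [mem_filter, mem_univ, true_and, and_true, mem_erase, ne_eq]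
  constructor
  · intro hr
    have hr0 : r ≠ 0 := by
      rintro rfl
      simp at hr
    refine ⟨hr0, ?_⟩
    rw [div_eq_iff hr0]
    linear_combination -hr
  · rintro ⟨hr0, h⟩
    rw [div_eq_iff hr0] at h
    linear_combination -h

end

end Cfsg.Agent.Helper13
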