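import Mathlib
import Cfsg.Agent.S2508

set_option autoImplicit false
set_option linter.unusedSectionVars false

/-! # Elements of trace zero (order four) in `SL₂(q)`, `q` odd -/

namespace Cfsg.Agent.Helper13.SL2TZ

open Matrix Cfsg.Agent.Helper12 Cfsg.Agent.S2508

section field
variable {F : Type*} [Field F]

theorem mul_self_eq_neg_one_of_trace (g : SpecialLinearGroup (Fin 2) F)
    (ht : (g : Matrix (Fin 2) (Fin 2) F).trace = 0) : g * g = -1 := by
  have hd := g.det_coe
  rw [Matrix.det_fin_two] at hd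
  rw [Matrix.trace_fin_two] at ht
  apply Subtype.ext
  rw [Matrix.SpecialLinearGroup.coe_mul, Matrix.SpecialLinearGroup.coe_neg,
    Matrix.SpecialLinearGroup.coe_one]
  ext i j
  fin_cases i <;> fin_cases j <;>
    simp only [Matrix.mul_apply, Fin.sum_univ_two, Fin.zero_eta, Fin.mk_one, Matrix.neg_apply,
      Matrix.one_apply_eq, Matrix.one_apply_ne, ne_eq, zero_ne_one, one_ne_zero,
      not_false_eq_true, neg_zero]
  · linear_combination (g : Matrix (Fin 2) (Fin 2) F) 0 0 * ht - hd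
  · linear_combination (g : Matrix (Fin 2) (Fin 2) F) 0 1 * ht
  · linear_combination (g : Matrix (Fin 2) (Fin 2) F) 1 0 * ht
  · linear_combination (g : Matrix (Fin 2) (Fin 2) F) 1 1 * ht - hd

theorem entries_of_mul_self (g : SpecialLinearGroup (Fin 2) F) (M : Matrix (Fin 2) (Fin 2) F)
    (h : ((g * g : SpecialLinearGroup (Fin 2) F) : Matrix (Fin 2) (Fin 2) F) = M) :
    (g : Matrix (Fin 2) (Fin 2) F) 0 0 * (g : Matrix (Fin 2) (Fin 2) F) 0 0 +
        (g : Matrix (Fin 2) (Fin 2) F) 0 1 * (g : Matrix (Fin 2) (Fin 2) F) 1 0 = M 0 0 ∧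
    (g : Matrix (Fin 2) (Fin 2) F) 0 0 * (g : Matrix (Fin 2) (Fin 2) F) 0 1 +
        (g : Matrix (Fin 2) (Fin 2) F) 0 1 * (g : Matrix (Fin 2) (Fin 2) F) 1 1 = M 0 1 ∧
    (g : Matrix (Fin 2) (Fin 2) F) 1 0 * (g : Matrix (Fin 2) (Fin 2) F) 0 0 +
        (g : Matrix (Fin 2) (Fin 2) F) 1 1 * (g : Matrix (Fin 2) (Fin 2) F) 1 0 = M 1 0 ∧
    (g : Matrix (Fin 2) (Fin 2) F) 1 0 * (g : Matrix (Fin 2) (Fin 2) F) 0 1 +
        (g : Matrix (Fin 2) (Fin 2) F) 1 1 * (g : Matrix (Fin 2) (Fin 2) F) 1 1 = M 1 1 := by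
  rw [Matrix.SpecialLinearGroup.coe_mul] at h
  refine ⟨?_, ?_, ?_, ?_⟩
  · rw [← h, Matrix.mul_apply, Fin.sum_univ_two]
  · rw [← h, Matrix.mul_apply, Fin.sum_univ_two]
  · rw [← h, Matrix.mul_apply, Fin.sum_univ_two]
  · rw [← h, Matrix.mul_apply, Fin.sum_univ_two]

theorem trace_of_mul_self_eq_neg_one (hF : ringChar F ≠ 2) (g : SpecialLinearGroup (Fin 2) F)
    (h : g * g = -1) : (g : Matrix (Fin 2) (Fin 2) F).trace = 0 := by
  have h2 : (2 : F) ≠ 0 := Ring.two_ne_zero hF
  have hd := g.det_coe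
  rw [Matrix.det_fin_two] at hd
  obtain ⟨e00, e01, e10, e11⟩ := entries_of_mul_self g (-1) (by rw [h]; rfl)
  simp only [Matrix.neg_apply, Matrix.one_apply_eq, Matrix.one_apply_ne, ne_eq, zero_ne_one,
    one_ne_zero, not_false_eq_true, neg_zero] at e00 e01 e10 e11
  rw [Matrix.trace_fin_two]
  by_contra hne
  have hb : (g : Matrix (Fin 2) (Fin 2) F) 0 1 = 0 := by
    have : (g : Matrix (Fin 2) (Fin 2) F) 0 1 *
        ((g : Matrix (Fin 2) (Fin 2) F) 0 0 + (g : Matrix (Fin 2) (Fin 2) F) 1 1) = 0 := by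
      linear_combination e01
    rcases mul_eq_zero.1 this with h | h
    · exact h
    · exact absurd h hne
  have hc : (g : Matrix (Fin 2) (Fin 2) F) 1 0 = 0 := by
    have : (g : Matrix (Fin 2) (Fin 2) F) 1 0 *
        ((g : Matrix (Fin 2) (Fin 2) F) 0 0 + (g : Matrix (Fin 2) (Fin 2) F) 1 1) = 0 := by
      linear_combination e10
    rcases mul_eq_zero.1 this with h | h
    · exact h
    · exact absurd h hne
  rw [hb, hc] at e00 e11 hd
  have h3 : ((g : Matrix (Fin 2) (Fin 2) F) 0 0 - (g : Matrix (Fin 2) (Fin 2) F) 1 1) *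
      ((g : Matrix (Fin 2) (Fin 2) F) 0 0 + (g : Matrix (Fin 2) (Fin 2) F) 1 1) = 0 := by
    linear_combination e00 - e11
  rcases mul_eq_zero.1 h3 with h4 | h4
  · have h5 : (g : Matrix (Fin 2) (Fin 2) F) 0 0 = (g : Matrix (Fin 2) (Fin 2) F) 1 1 :=
      sub_eq_zero.1 h4
    rw [← h5] at hd
    apply h2
    linear_combination e00 - hd
  · exact hne h4

theorem eq_one_or_neg_one_of_mul_self (hF : ringChar F ≠ 2) (g : SpecialLinearGroup (Fin 2) F)
    (h : g * g = 1) : g = 1 ∨ g = -1 := by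
  have h2 : (2 : F) ≠ 0 := Ring.two_ne_zero hF
  have hd := g.det_coe
  rw [Matrix.det_fin_two] at hd
  obtain ⟨e00, e01, e10, e11⟩ := entries_of_mul_self g 1 (by rw [h]; rfl)
  simp only [Matrix.one_apply_eq, Matrix.one_apply_ne, ne_eq, zero_ne_one,
    one_ne_zero, not_false_eq_true] at e00 e01 e10 e11
  have hne : (g : Matrix (Fin 2) (Fin 2) F) 0 0 + (g : Matrix (Fin 2) (Fin 2) F) 1 1 ≠ 0 := by
    intro h0
    apply h2
    linear_combination (g : Matrix (Fin 2) (Fin 2) F) 0 0 * h0 - e00 - hd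
  have hb : (g : Matrix (Fin 2) (Fin 2) F) 0 1 = 0 := by
    have : (g : Matrix (Fin 2) (Fin 2) F) 0 1 *
        ((g : Matrix (Fin 2) (Fin 2) F) 0 0 + (g : Matrix (Fin 2) (Fin 2) F) 1 1) = 0 := by
      linear_combination e01
    rcases mul_eq_zero.1 this with h | h
    · exact h
    · exact absurd h hne
  have hc : (g : Matrix (Fin 2) (Fin 2) F) 1 0 = 0 := by
    have : (g : Matrix (Fin 2) (Fin 2) F) 1 0 *
        ((g : Matrix (Fin 2) (Fin 2) F) 0 0 + (g : Matrix (Fin 2) (Fin 2) F) 1 1) = 0 := by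
      linear_combination e10
    rcases mul_eq_zero.1 this with h | h
    · exact h
    · exact absurd h hne
  rw [hb, hc] at e00 e11 hd
  have h00 : ((g : Matrix (Fin 2) (Fin 2) F) 0 0 - 1) * ((g : Matrix (Fin 2) (Fin 2) F) 0 0 + 1) = 0 := by
    linear_combination e00
  have hda : (g : Matrix (Fin 2) (Fin 2) F) 1 1 = (g : Matrix (Fin 2) (Fin 2) F) 0 0 := by
    linear_combination (g : Matrix (Fin 2) (Fin 2) F) 0 0 * hd - (g : Matrix (Fin 2) (Fin 2) F) 1 1 * e00
  rcases mul_eq_zero.1 h00 with h4 | h4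
  · left
    have ha : (g : Matrix (Fin 2) (Fin 2) F) 0 0 = 1 := sub_eq_zero.1 h4
    apply Subtype.ext
    rw [Matrix.SpecialLinearGroup.coe_one]
    ext i j
    fin_cases i <;> fin_cases j <;> simp [hb, hc, ha, hda]
  · right
    have ha : (g : Matrix (Fin 2) (Fin 2) F) 0 0 = -1 := eq_neg_of_add_eq_zero_left h4
    apply Subtype.ext
    rw [Matrix.SpecialLinearGroup.coe_neg, Matrix.SpecialLinearGroup.coe_one]
    ext i j
    fin_cases i <;> fin_cases j <;> simp [hb, hc, ha, hda]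

theorem not_scalar_of_trace_zero (hF : ringChar F ≠ 2) (g : SpecialLinearGroup (Fin 2) F)
    (ht : (g : Matrix (Fin 2) (Fin 2) F).trace = 0) :
    ¬ IsScalar2 (g : Matrix (Fin 2) (Fin 2) F) := by
  have h2 : (2 : F) ≠ 0 := Ring.two_ne_zero hF
  rintro ⟨h01, h10, h00⟩
  have hd := g.2
  rw [Matrix.det_fin_two, h01, h10] at hd
  rw [Matrix.trace_fin_two, ← h00] at ht
  have : (g : Matrix (Fin 2) (Fin 2) F) 0 0 = 0 := by
    have : 2 * (g : Matrix (Fin 2) (Fin 2) F) 0 0 = 0 := by linear_combination ht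
    rcases mul_eq_zero.1 this with h | h
    · exact absurd h h2
    · exact h
  rw [← h00, this] at hd
  simp at hd

theorem neg_one_ne_one (hF : ringChar F ≠ 2) : (-1 : SpecialLinearGroup (Fin 2) F) ≠ 1 := by
  intro h
  exact neg_ne_self hF 1 h.symm

end field

section finite
variable {F : Type*} [Field F] [Fintype F]

theorem isConj_of_trace_zero (hF : ringChar F ≠ 2) (g h : SpecialLinearGroup (Fin 2) F)
    (hg : (g : Matrix (Fin 2) (Fin 2) F).trace = 0) (hh : (h : Matrix (Fin 2) (Fin 2) F).trace = 0) :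
    IsConj g h := by
  have h2 : (2 : F) ≠ 0 := Ring.two_ne_zero hF
  have h4 : (4 : F) ≠ 0 := by
    have : (4 : F) = 2 * 2 := by norm_num
    rw [this]; exact mul_ne_zero h2 h2
  rw [SL2_isConj_iff hF g h (not_scalar_of_trace_zero hF g hg) (not_scalar_of_trace_zero hF h hh)]
  refine ⟨by rw [hg, hh], ?_⟩
  have r1 : Rep1 g := rep1_of_trace_sq_ne hF g (by rw [hg]; simpa using h4.symm)
  have r2 : Rep1 h := rep1_of_trace_sq_ne hF h (by rw [hh]; simpa using h4.symm)
  exact ⟨fun _ => r2, fun _ => r1⟩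

end finite

section subgroups
variable {F : Type*} [Field F]

theorem pow_four_eq_one (g : SpecialLinearGroup (Fin 2) F) (hgg : g * g = -1) : g ^ 4 = 1 := by
  have : g ^ 4 = (g * g) * (g * g) := by
    simp only [pow_succ, pow_zero, one_mul, mul_assoc]
  rw [this, hgg, neg_mul_neg, mul_one]

/-- elements of the cyclic group generated by an element of trace zero -/
theorem mem_zpowers_cases (g : SpecialLinearGroup (Fin 2) F) (hgg : g * g = -1)
    (y : SpecialLinearGroup (Fin 2) F) (hy : y ∈ Subgroup.zpowers g) :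
    y = 1 ∨ y = g ∨ y = -1 ∨ y = -g := by
  obtain ⟨k, rfl⟩ := Subgroup.mem_zpowers_iff.1 hy
  have h4 : g ^ (4 : ℤ) = 1 := by
    have := pow_four_eq_one g hgg
    rw [← zpow_natCast] at this
    exact this
  have hk : g ^ k = g ^ (k % 4) := by
    conv_lhs => rw [← Int.emod_add_mul_ediv k 4]
    rw [_root_.zpow_add, _root_.zpow_mul, h4, _root_.one_zpow, mul_one]
  have h0 := Int.emod_nonneg k (by norm_num : (4 : ℤ) ≠ 0)
  have h1 := Int.emod_lt_of_pos k (by norm_num : (0 : ℤ) < 4)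
  rw [hk]
  generalize k % 4 = r at h0 h1
  interval_cases r
  · left; exact zpow_zero g
  · right; left; exact zpow_one g
  · right; right; left
    rw [show (2 : ℤ) = ((2 : ℕ) : ℤ) from rfl, zpow_natCast, pow_two, hgg]
  · right; right; right
    rw [show (3 : ℤ) = ((3 : ℕ) : ℤ) from rfl, zpow_natCast, pow_succ, pow_two, hgg, neg_mul, one_mul]

theorem neg_mem_zpowers (g : SpecialLinearGroup (Fin 2) F) (hgg : g * g = -1) :
    -g ∈ Subgroup.zpowers g := by
  have : -g = g ^ 3 := by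
    rw [pow_succ, pow_two, hgg, neg_mul, one_mul]
  rw [this]
  exact Subgroup.pow_mem _ (Subgroup.mem_zpowers g) 3

theorem neg_eq_inv (g : SpecialLinearGroup (Fin 2) F) (hgg : g * g = -1) : -g = g⁻¹ := by
  rw [eq_inv_iff_mul_eq_one, neg_mul, hgg, neg_neg]

theorem orderOf_eq_four (hF : ringChar F ≠ 2) (g : SpecialLinearGroup (Fin 2) F)
    (hgg : g * g = -1) : orderOf g = 4 := by
  have h := orderOf_eq_prime_pow (x := g) (p := 2) (n := 1)
    (by rw [pow_one, pow_two, hgg]; exact neg_one_ne_one hF)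
    (by exact pow_four_eq_one g hgg)
  exact h

/-- a subgroup of order four is generated by an element of trace zero -/
theorem exists_gen_of_card_four (hF : ringChar F ≠ 2) (A : Subgroup (SpecialLinearGroup (Fin 2) F))
    (hA : Nat.card A = 4) :
    ∃ g ∈ A, (g : Matrix (Fin 2) (Fin 2) F).trace = 0 ∧ g * g = -1 ∧ A = Subgroup.zpowers g := by
  haveI : Finite A := Nat.finite_of_card_ne_zero (by rw [hA]; norm_num)
  obtain ⟨g, hgA, hg1, hg2⟩ : ∃ g ∈ A, g ≠ 1 ∧ g ≠ -1 := by
    by_contra hcon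
    push Not at hcon
    have hsub : (A : Set (SpecialLinearGroup (Fin 2) F)) ⊆ {1, -1} := by
      intro x hx
      by_cases h1 : x = 1
      · left; exact h1
      · right; exact hcon x hx h1
    have h1 := Set.ncard_le_ncard hsub (Set.toFinite _)
    have h2 : ({1, -1} : Set (SpecialLinearGroup (Fin 2) F)).ncard ≤ 2 := by
      refine (Set.ncard_insert_le _ _).trans ?_
      rw [Set.ncard_singleton]
    have h3 : (A : Set (SpecialLinearGroup (Fin 2) F)).ncard = 4 := by
      rw [← hA]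
      exact (Nat.card_coe_set_eq _).symm
    omega
  have hg4 : g ^ 4 = 1 := by
    have := pow_card_eq_one' (G := A) (x := ⟨g, hgA⟩)
    rw [hA] at this
    exact congrArg Subtype.val this
  have hgg : g * g = -1 := by
    have h1 : (g * g) * (g * g) = 1 := by
      rw [← hg4]
      simp only [pow_succ, pow_zero, one_mul, mul_assoc]
    rcases eq_one_or_neg_one_of_mul_self hF (g * g) h1 with h | h
    · rcases eq_one_or_neg_one_of_mul_self hF g h with h' | h'
      · exact absurd h' hg1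
      · exact absurd h' hg2
    · exact h
  refine ⟨g, hgA, trace_of_mul_self_eq_neg_one hF g hgg, hgg, ?_⟩
  symm
  apply Subgroup.eq_of_le_of_card_ge
  · rw [Subgroup.zpowers_le]; exact hgA
  · rw [hA, Nat.card_zpowers, orderOf_eq_four hF g hgg]

end subgroups

end Cfsg.Agent.Helper13.SL2TZ
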