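import Mathlib

set_option autoImplicit false

namespace Cfsg.Agent.Helper13

theorem padicValNat_two_pow_mul_odd (k m : ℕ) (hm : Odd m) : padicValNat 2 (2 ^ k * m) = k := by
  have hm0 : m ≠ 0 := (Odd.pos hm).ne'
  rw [padicValNat.mul (pow_ne_zero _ two_ne_zero) hm0, padicValNat.prime_pow,
    padicValNat.eq_zero_of_not_dvd (Nat.two_dvd_ne_zero.mpr (Nat.odd_iff.mp hm)), add_zero]

/-- if `o ∣ 2n` but `o ∤ n` then the full 2-part of `2n` divides `o` -/
theorem two_pow_dvd_of_dvd_two_mul {o n : ℕ} (hn : n ≠ 0) (h1 : o ∣ 2 * n) (h2 : ¬ o ∣ n) :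
    2 ^ (padicValNat 2 n + 1) ∣ o := by
  obtain ⟨k, hk⟩ := h1
  have hk_odd : Odd k := by
    rw [← Nat.not_even_iff_odd]
    rintro ⟨k', rfl⟩
    apply h2
    refine ⟨k', ?_⟩
    have : 2 * n = 2 * (o * k') := by rw [hk]; ring
    exact Nat.eq_of_mul_eq_mul_left (by norm_num) this
  have ho0 : o ≠ 0 := by
    rintro rfl
    rw [zero_mul] at hk
    exact hn (by omega)
  have hk0 : k ≠ 0 := (Odd.pos hk_odd).ne'
  have hv : padicValNat 2 (2 * n) = padicValNat 2 o + padicValNat 2 k := by
    rw [hk, padicValNat.mul ho0 hk0]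
  rw [padicValNat.mul two_ne_zero hn, padicValNat_self,
    padicValNat.eq_zero_of_not_dvd (Nat.two_dvd_ne_zero.mpr (Nat.odd_iff.mp hk_odd)), add_zero] at hv
  have : padicValNat 2 n + 1 = padicValNat 2 o := by omega
  rw [this]
  exact pow_padicValNat_dvd

section field
variable {F : Type*} [Field F] [Fintype F]

theorem ringChar_ne_two_of_odd_card (hq : Odd (Fintype.card F)) : ringChar F ≠ 2 := by
  intro h
  have := FiniteField.even_card_of_char_two h
  rw [Nat.odd_iff] at hq
  omega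

theorem neg_one_ne_one_of_odd_card (hq : Odd (Fintype.card F)) : (-1 : F) ≠ 1 := by
  intro h
  apply ringChar_ne_two_of_odd_card hq
  have h2 : (2 : F) = 0 := by
    have : (1 : F) + 1 = 0 := by
      nth_rewrite 1 [← h]; ring
    rw [← this]; norm_num
  exact CharP.ringChar_of_prime_eq_zero Nat.prime_two (by exact_mod_cast h2)

theorem three_le_card_of_odd (hq : Odd (Fintype.card F)) : 3 ≤ Fintype.card F := by
  have := Fintype.one_lt_card (α := F)
  rw [Nat.odd_iff] at hq
  omega

/-- `-1` is an `n`-th power in a finite field of odd order `q` iff `v₂(n) < v₂(q-1)` -/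
theorem exists_pow_eq_neg_one_iff (hq : Odd (Fintype.card F)) {n : ℕ} (hn : n ≠ 0) :
    (∃ c : F, c ≠ 0 ∧ c ^ n = -1) ↔ padicValNat 2 n < padicValNat 2 (Fintype.card F - 1) := by
  have h3 := three_le_card_of_odd hq
  have hN0 : Fintype.card F - 1 ≠ 0 := by omega
  have hneg := neg_one_ne_one_of_odd_card hq
  constructor
  · rintro ⟨c, hc0, hc⟩
    have h1 : orderOf c ∣ 2 * n := by
      apply orderOf_dvd_of_pow_eq_one
      rw [mul_comm, pow_mul, hc]; norm_num
    have h2 : ¬ orderOf c ∣ n := by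
      intro h
      rw [orderOf_dvd_iff_pow_eq_one, hc] at h
      exact hneg h
    have h4 := two_pow_dvd_of_dvd_two_mul hn h1 h2
    have h5 : orderOf c ∣ Fintype.card F - 1 :=
      orderOf_dvd_of_pow_eq_one (FiniteField.pow_card_sub_one_eq_one c hc0)
    have h6 := (padicValNat_dvd_iff_le hN0).mp (dvd_trans h4 h5)
    omega
  · intro hlt
    classical
    obtain ⟨ζ, hζ⟩ := IsCyclic.exists_generator (α := Fˣ)
    have hord : orderOf ζ = Fintype.card F - 1 := by
      rw [orderOf_eq_card_of_forall_mem_zpowers hζ, Nat.card_eq_fintype_card, Fintype.card_units]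
    obtain ⟨k, n', hn'odd, hn'⟩ := Nat.exists_eq_two_pow_mul_odd hn
    have hka : padicValNat 2 n = k := by rw [hn', padicValNat_two_pow_mul_odd k n' hn'odd]
    rw [hka] at hlt
    have hdvd : 2 ^ (k + 1) ∣ Fintype.card F - 1 := (padicValNat_dvd_iff_le hN0).mpr (by omega)
    obtain ⟨M, hM⟩ := hdvd
    have hM0 : M ≠ 0 := by rintro rfl; rw [mul_zero] at hM; exact hN0 hM
    set t : Fˣ := (ζ ^ M) ^ (2 ^ k) with ht
    have ht2 : t ^ 2 = 1 := by
      rw [ht, ← pow_mul, ← pow_mul]
      have : M * (2 ^ k * 2) = orderOf ζ := by rw [hord, hM, pow_succ]; ring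
      rw [this, pow_orderOf_eq_one]
    have ht1 : t ≠ 1 := by
      intro h
      rw [ht, ← pow_mul] at h
      have := orderOf_dvd_of_pow_eq_one h
      rw [hord, hM] at this
      have hpos : 0 < M * 2 ^ k := Nat.mul_pos (Nat.pos_of_ne_zero hM0) (by positivity)
      have hlt : M * 2 ^ k < 2 ^ (k + 1) * M := by
        rw [pow_succ]
        nlinarith
      exact absurd (Nat.le_of_dvd hpos this) (not_le.mpr hlt)
    have htF : (t : F) = -1 := by
      have h1 : (t : F) ^ 2 = 1 := by rw [← Units.val_pow_eq_pow_val, ht2, Units.val_one]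
      have h2 : (t : F) ≠ 1 := fun h => ht1 (Units.ext h)
      have h3 : ((t : F) - 1) * ((t : F) + 1) = 0 := by ring_nf; rw [h1]; ring
      rcases mul_eq_zero.mp h3 with h | h
      · exact absurd (sub_eq_zero.mp h) h2
      · exact eq_neg_of_add_eq_zero_left h
    refine ⟨((ζ ^ M : Fˣ) : F), Units.ne_zero _, ?_⟩
    rw [hn', pow_mul, ← Units.val_pow_eq_pow_val, ← ht, htF, Odd.neg_one_pow hn'odd]

end field

end Cfsg.Agent.Helper13
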