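import Mathlib
import Cfsg.Agent.S0809
import Cfsg.Agent.Lib.Helper2.CardSL

set_option autoImplicit false
set_option linter.unusedSectionVars false

/-! # Involutions of `PSL₂(q)`, `q` odd, and their centralisers -/

namespace Cfsg.Agent.Helper13.PSL2Invol

open Matrix Cfsg.Agent.Helper12 Cfsg.Agent.Helper13 Cfsg.Agent.Helper13.SL2TZ Cfsg.Agent.S2508
  Cfsg.Agent.S0809

section
variable {F : Type*} [Field F] [Fintype F]

/-- the projection `SL₂ → PSL₂` -/
def pr : SpecialLinearGroup (Fin 2) F →* ProjectiveSpecialLinearGroup (Fin 2) F :=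
  QuotientGroup.mk' (Subgroup.center (SpecialLinearGroup (Fin 2) F))

theorem pr_surjective : Function.Surjective (pr (F := F)) := QuotientGroup.mk'_surjective _

theorem pr_eq_one_iff (z : SpecialLinearGroup (Fin 2) F) : pr z = 1 ↔ z = 1 ∨ z = -1 := by
  unfold pr
  rw [QuotientGroup.mk'_apply, QuotientGroup.eq_one_iff]
  constructor
  · exact center_cases z
  · rintro (rfl | rfl)
    · exact Subgroup.one_mem _
    · exact neg_one_mem_center

theorem pr_neg (z : SpecialLinearGroup (Fin 2) F) : pr (-z) = pr z := by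
  have : -z = z * (-1) := by rw [mul_neg, mul_one]
  rw [this, map_mul, (pr_eq_one_iff (-1)).2 (Or.inr rfl), mul_one]

theorem pr_eq_iff (z w : SpecialLinearGroup (Fin 2) F) : pr z = pr w ↔ w = z ∨ w = -z := by
  constructor
  · intro h
    have h1 : pr (z⁻¹ * w) = 1 := by rw [map_mul, map_inv, h, inv_mul_cancel]
    rcases (pr_eq_one_iff _).1 h1 with h2 | h2
    · left
      have : w = z * (z⁻¹ * w) := by group
      rw [this, h2, mul_one]
    · right
      have : w = z * (z⁻¹ * w) := by group
      rw [this, h2, mul_neg, mul_one]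
  · rintro (rfl | rfl)
    · rfl
    · exact (pr_neg z).symm

theorem exists_lift_invol (hF : ringChar F ≠ 2) (x : ProjectiveSpecialLinearGroup (Fin 2) F)
    (hx1 : x ≠ 1) (hxx : x * x = 1) :
    ∃ a : SpecialLinearGroup (Fin 2) F, pr a = x ∧ (a : Matrix (Fin 2) (Fin 2) F).trace = 0 := by
  obtain ⟨a, rfl⟩ := pr_surjective x
  refine ⟨a, rfl, ?_⟩
  apply trace_of_mul_self_eq_neg_one hF
  rw [← map_mul, pr_eq_one_iff] at hxx
  rcases hxx with h1 | h1
  · exfalso
    apply hx1
    rw [pr_eq_one_iff]
    exact eq_one_or_neg_one_of_mul_self hF a h1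
  · exact h1

theorem trace_ne_of_center (hF : ringChar F ≠ 2) (b : SpecialLinearGroup (Fin 2) F)
    (hb : (b : Matrix (Fin 2) (Fin 2) F).trace = 0) : pr b ≠ 1 := by
  intro h
  rcases (pr_eq_one_iff b).1 h with rfl | rfl
  · exact trace_one_ne hF hb
  · exact trace_neg_one_ne hF hb

/-- an element of trace zero commuting with another one is its multiple by a sign -/
theorem torus_fact (hF : ringChar F ≠ 2) (a b : SpecialLinearGroup (Fin 2) F)
    (ha : (a : Matrix (Fin 2) (Fin 2) F).trace = 0) (hb : (b : Matrix (Fin 2) (Fin 2) F).trace = 0)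
    (hc : b * a = a * b) : b = a ∨ b = -a := by
  have h2 : (2 : F) ≠ 0 := Ring.two_ne_zero hF
  have hc' : (b : Matrix (Fin 2) (Fin 2) F) * (a : Matrix (Fin 2) (Fin 2) F) =
      (a : Matrix (Fin 2) (Fin 2) F) * (b : Matrix (Fin 2) (Fin 2) F) := by
    rw [← Matrix.SpecialLinearGroup.coe_mul, ← Matrix.SpecialLinearGroup.coe_mul, hc]
  obtain ⟨x, y, hxy⟩ := (commute_iff_exists_smul _ _ (not_scalar_of_trace_zero hF a ha)).1 hc'
  have hx : x = 0 := by
    have h1 := congrArg Matrix.trace hxy
    rw [hb, Matrix.trace_add, Matrix.trace_smul, Matrix.trace_smul, ha, Matrix.trace_one] at h1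
    simp only [Fintype.card_fin, smul_eq_mul, mul_zero, add_zero] at h1
    have : x * 2 = 0 := by rw [h1]; push_cast; ring
    rcases mul_eq_zero.1 this with h | h
    · exact h
    · exact absurd h h2
  rw [hx, zero_smul, zero_add] at hxy
  have hy : y * y = 1 := by
    have h1 := congrArg Matrix.det hxy
    rw [b.det_coe, Matrix.det_smul, a.det_coe, Fintype.card_fin, mul_one] at h1
    rw [← pow_two]; exact h1.symm
  have hy' : (y - 1) * (y + 1) = 0 := by linear_combination hy
  rcases mul_eq_zero.1 hy' with h | h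
  · left
    apply Subtype.ext
    rw [hxy, sub_eq_zero.1 h, one_smul]
  · right
    apply Subtype.ext
    rw [hxy, eq_neg_of_add_eq_zero_left h, Matrix.SpecialLinearGroup.coe_neg, neg_smul, one_smul]

end

section counting
variable {F : Type*} [Field F] [Fintype F]

open scoped Classical in
/-- the elements anticommuting with `a` -/
noncomputable def anti (a : SpecialLinearGroup (Fin 2) F) : Finset (SpecialLinearGroup (Fin 2) F) :=
  Finset.univ.filter (fun b => b * a = -(a * b))

open scoped Classical in
/-- the involutions other than `x` commuting with `x` -/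
noncomputable def Rset (x : ProjectiveSpecialLinearGroup (Fin 2) F) :
    Finset (ProjectiveSpecialLinearGroup (Fin 2) F) :=
  Finset.univ.filter (fun y => y ≠ 1 ∧ y ≠ x ∧ y * y = 1 ∧ x * y = y * x)

theorem mem_anti (a b : SpecialLinearGroup (Fin 2) F) : b ∈ anti a ↔ b * a = -(a * b) := by
  classical
  unfold anti
  rw [Finset.mem_filter]
  exact ⟨fun h => h.2, fun h => ⟨Finset.mem_univ _, h⟩⟩

theorem mem_Rset (x y : ProjectiveSpecialLinearGroup (Fin 2) F) :
    y ∈ Rset x ↔ y ≠ 1 ∧ y ≠ x ∧ y * y = 1 ∧ x * y = y * x := by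
  classical
  unfold Rset
  rw [Finset.mem_filter]
  exact ⟨fun h => h.2, fun h => ⟨Finset.mem_univ _, h⟩⟩

theorem anti_symm {a b : SpecialLinearGroup (Fin 2) F} (h : b * a = -(a * b)) :
    a * b = -(b * a) := by
  rw [h, neg_neg]

theorem trace_of_anti (hF : ringChar F ≠ 2) {a b : SpecialLinearGroup (Fin 2) F}
    (h : b * a = -(a * b)) : (b : Matrix (Fin 2) (Fin 2) F).trace = 0 :=
  trace_eq_zero_of_anti hF b a (anti_symm h)

theorem neg_mem_anti {a b : SpecialLinearGroup (Fin 2) F} (h : b ∈ anti a) : -b ∈ anti a := by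
  rw [mem_anti] at h ⊢
  rw [neg_mul, h, mul_neg]

theorem pr_mem_Rset (hF : ringChar F ≠ 2) (a b : SpecialLinearGroup (Fin 2) F)
    (hb : b ∈ anti a) : pr b ∈ Rset (pr a) := by
  rw [mem_anti] at hb
  have htb := trace_of_anti hF hb
  rw [mem_Rset]
  refine ⟨trace_ne_of_center hF b htb, ?_, ?_, ?_⟩
  · intro h
    have h1 : b * a = a * b := by
      rcases (pr_eq_iff b a).1 h with h2 | h2
      · have : b = a := by rw [h2]
        rw [this]
      · have : b = -a := by rw [h2, neg_neg]
        rw [this, neg_mul, mul_neg]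
    rw [h1] at hb
    exact neg_ne_self hF _ hb
  · rw [← map_mul, mul_self_eq_neg_one_of_trace b htb, pr_neg, map_one]
  · rw [← map_mul, ← map_mul, anti_symm hb, pr_neg]

theorem card_anti_eq_two_mul (hF : ringChar F ≠ 2) (a : SpecialLinearGroup (Fin 2) F)
    (ha : (a : Matrix (Fin 2) (Fin 2) F).trace = 0) :
    (anti a).card = 2 * (Rset (pr a)).card := by
  classical
  rw [Finset.card_eq_sum_card_fiberwise (f := pr) (t := Rset (pr a))
    (fun b hb => pr_mem_Rset hF a b hb)]
  have hfib : ∀ y ∈ Rset (pr a), ((anti a).filter (fun b => pr b = y)).card = 2 := by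
    intro y hy
    rw [mem_Rset] at hy
    obtain ⟨hy1, hyx, hyy, hcomm⟩ := hy
    obtain ⟨b₀, rfl, htb⟩ := exists_lift_invol hF y hy1 hyy
    have hb₀ : b₀ ∈ anti a := by
      rw [mem_anti]
      rw [← map_mul, ← map_mul] at hcomm
      rcases (pr_eq_iff (a * b₀) (b₀ * a)).1 hcomm with h | h
      · exfalso
        apply hyx
        rcases torus_fact hF a b₀ ha htb h with h1 | h1
        · rw [h1]
        · rw [h1, pr_neg]
      · exact h
    have heq : (anti a).filter (fun b => pr b = pr b₀) = {b₀, -b₀} := by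
      ext b
      rw [Finset.mem_filter, Finset.mem_insert, Finset.mem_singleton]
      constructor
      · rintro ⟨-, h⟩
        exact (pr_eq_iff b₀ b).1 h.symm
      · rintro (rfl | rfl)
        · exact ⟨hb₀, rfl⟩
        · exact ⟨neg_mem_anti hb₀, pr_neg b₀⟩
    rw [heq, Finset.card_insert_of_notMem, Finset.card_singleton]
    rw [Finset.mem_singleton]
    exact neg_ne_self hF b₀
  rw [Finset.sum_congr rfl hfib, Finset.sum_const, smul_eq_mul, mul_comm]

theorem card_anti_eq_card_centralizer (hF : ringChar F ≠ 2) (a : SpecialLinearGroup (Fin 2) F)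
    (ha : (a : Matrix (Fin 2) (Fin 2) F).trace = 0) :
    (anti a).card = Nat.card (Subgroup.centralizer ({a} : Set (SpecialLinearGroup (Fin 2) F))) := by
  classical
  have h1 := card_Kg hF a ha
  have hK : Nat.card (Kg a) = (Finset.univ.filter (fun b => b ∈ Kg a)).card := by
    rw [Nat.card_eq_fintype_card, Fintype.card_subtype]
  have hC : Nat.card (Subgroup.centralizer ({a} : Set (SpecialLinearGroup (Fin 2) F))) =
      (Finset.univ.filter (fun b => b ∈
        Subgroup.centralizer ({a} : Set (SpecialLinearGroup (Fin 2) F)))).card := by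
    rw [Nat.card_eq_fintype_card, Fintype.card_subtype]
  have hunion : Finset.univ.filter (fun b => b ∈ Kg a) =
      Finset.univ.filter (fun b => b ∈
        Subgroup.centralizer ({a} : Set (SpecialLinearGroup (Fin 2) F))) ∪ anti a := by
    ext b
    rw [Finset.mem_union, Finset.mem_filter, Finset.mem_filter, mem_anti, mem_Kg,
      Subgroup.mem_centralizer_singleton_iff]
    simp only [Finset.mem_univ, true_and]
  have hdisj : Disjoint (Finset.univ.filter (fun b => b ∈
        Subgroup.centralizer ({a} : Set (SpecialLinearGroup (Fin 2) F)))) (anti a) := by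
    rw [Finset.disjoint_left]
    intro b hb hb'
    rw [Finset.mem_filter, Subgroup.mem_centralizer_singleton_iff] at hb
    rw [mem_anti, ← hb.2] at hb'
    exact neg_ne_self hF _ hb'
  rw [hK, hunion, Finset.card_union_of_disjoint hdisj, ← hC] at h1
  omega

theorem card_center_two (hodd : Odd (Fintype.card F)) :
    Nat.card (Subgroup.center (SpecialLinearGroup (Fin 2) F)) = 2 := by
  rw [Cfsg.Agent.Helper2.card_center_SL 2 (by norm_num)]
  obtain ⟨k, hk⟩ := hodd
  rw [hk]
  have : 2 * k + 1 - 1 = 2 * k := by omega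
  rw [this]
  exact Nat.gcd_mul_right_right k 2

theorem card_centralizer_pr (hF : ringChar F ≠ 2) (hodd : Odd (Fintype.card F))
    (a : SpecialLinearGroup (Fin 2) F) (ha : (a : Matrix (Fin 2) (Fin 2) F).trace = 0) :
    Nat.card (Subgroup.centralizer ({pr a} : Set (ProjectiveSpecialLinearGroup (Fin 2) F))) =
      Nat.card (Subgroup.centralizer ({a} : Set (SpecialLinearGroup (Fin 2) F))) := by
  have h1 := card_Kg hF a ha
  have h2 : (Kg a).index = (Subgroup.centralizer
      ({pr a} : Set (ProjectiveSpecialLinearGroup (Fin 2) F))).index :=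
    Subgroup.index_comap_of_surjective _ (QuotientGroup.mk'_surjective _)
  have h3 := (Kg a).index_mul_card
  have h4 := (Subgroup.centralizer
      ({pr a} : Set (ProjectiveSpecialLinearGroup (Fin 2) F))).index_mul_card
  have h5 := Subgroup.card_eq_card_quotient_mul_card_subgroup
    (Subgroup.center (SpecialLinearGroup (Fin 2) F))
  rw [card_center_two hodd] at h5
  have h6 : Nat.card (SpecialLinearGroup (Fin 2) F ⧸ Subgroup.center (SpecialLinearGroup (Fin 2) F))
      = Nat.card (ProjectiveSpecialLinearGroup (Fin 2) F) := rfl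
  rw [h6] at h5
  have h7 : (Kg a).index ≠ 0 := Subgroup.index_ne_zero_of_finite
  rw [h2] at h3 h7
  have h8 : (Subgroup.centralizer
      ({pr a} : Set (ProjectiveSpecialLinearGroup (Fin 2) F))).index * Nat.card (Kg a) =
      (Subgroup.centralizer ({pr a} : Set (ProjectiveSpecialLinearGroup (Fin 2) F))).index *
      (2 * Nat.card (Subgroup.centralizer
      ({pr a} : Set (ProjectiveSpecialLinearGroup (Fin 2) F)))) := by
    rw [h3, h5, ← h4]; ring
  have h9 := Nat.eq_of_mul_eq_mul_left (Nat.pos_of_ne_zero h7) h8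
  omega

/-- half of the centraliser of an involution consists of other involutions -/
theorem two_mul_card_Rset (hF : ringChar F ≠ 2) (hodd : Odd (Fintype.card F))
    (x : ProjectiveSpecialLinearGroup (Fin 2) F) (hx1 : x ≠ 1) (hxx : x * x = 1) :
    2 * (Rset x).card =
      Nat.card (Subgroup.centralizer ({x} : Set (ProjectiveSpecialLinearGroup (Fin 2) F))) := by
  obtain ⟨a, rfl, ha⟩ := exists_lift_invol hF x hx1 hxx
  rw [← card_anti_eq_two_mul hF a ha, card_anti_eq_card_centralizer hF a ha,
    card_centralizer_pr hF hodd a ha]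

end counting

end Cfsg.Agent.Helper13.PSL2Invol
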