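import Mathlib
import Cfsg.Agent.Lib.Helper13.PSL2Invol

set_option autoImplicit false
set_option linter.unusedSectionVars false

/-! # The torus centralising an element of trace zero in `SL₂`, and quaternion pairs -/

namespace Cfsg.Agent.Helper13.SL2Torus

open Matrix Cfsg.Agent.Helper12 Cfsg.Agent.Helper13 Cfsg.Agent.Helper13.SL2TZ Cfsg.Agent.S2508
  Cfsg.Agent.Helper13.PSL2Invol

section
variable {F : Type*} [Field F]

theorem coe_mul_self_of_trace (a : SpecialLinearGroup (Fin 2) F)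
    (ha : (a : Matrix (Fin 2) (Fin 2) F).trace = 0) :
    (a : Matrix (Fin 2) (Fin 2) F) * (a : Matrix (Fin 2) (Fin 2) F) = -1 := by
  have := mul_self_eq_neg_one_of_trace a ha
  have h := congrArg (fun z : SpecialLinearGroup (Fin 2) F => (z : Matrix (Fin 2) (Fin 2) F)) this
  simpa using h

/-- elements of the centraliser are `s + t a` with `s² + t² = 1` -/
theorem cent_form (hF : ringChar F ≠ 2) (a d : SpecialLinearGroup (Fin 2) F)
    (ha : (a : Matrix (Fin 2) (Fin 2) F).trace = 0) (hd : d * a = a * d) :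
    ∃ s t : F, (d : Matrix (Fin 2) (Fin 2) F) =
      s • (1 : Matrix (Fin 2) (Fin 2) F) + t • (a : Matrix (Fin 2) (Fin 2) F) ∧ s * s + t * t = 1 := by
  have hd' : (d : Matrix (Fin 2) (Fin 2) F) * (a : Matrix (Fin 2) (Fin 2) F) =
      (a : Matrix (Fin 2) (Fin 2) F) * (d : Matrix (Fin 2) (Fin 2) F) := by
    rw [← Matrix.SpecialLinearGroup.coe_mul, ← Matrix.SpecialLinearGroup.coe_mul, hd]
  obtain ⟨s, t, hst⟩ := (commute_iff_exists_smul _ _ (not_scalar_of_trace_zero hF a ha)).1 hd'
  refine ⟨s, t, hst, ?_⟩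
  have h1 := d.det_coe
  have h2 := a.det_coe
  rw [hst, Matrix.det_fin_two] at h1
  rw [Matrix.det_fin_two] at h2
  rw [Matrix.trace_fin_two] at ha
  simp only [Matrix.add_apply, Matrix.smul_apply, Matrix.one_apply_eq, Matrix.one_apply_ne,
    smul_eq_mul, ne_eq, zero_ne_one, one_ne_zero, not_false_eq_true, mul_one, mul_zero,
    zero_add] at h1
  linear_combination h1 - s * t * ha - t * t * h2

theorem cent_comm (hF : ringChar F ≠ 2) (a d d' : SpecialLinearGroup (Fin 2) F)
    (ha : (a : Matrix (Fin 2) (Fin 2) F).trace = 0) (hd : d * a = a * d) (hd' : d' * a = a * d') :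
    d * d' = d' * d := by
  obtain ⟨s, t, hst, -⟩ := cent_form hF a d ha hd
  obtain ⟨s', t', hst', -⟩ := cent_form hF a d' ha hd'
  apply Subtype.ext
  rw [Matrix.SpecialLinearGroup.coe_mul, Matrix.SpecialLinearGroup.coe_mul, hst, hst']
  simp only [Matrix.add_mul, Matrix.mul_add, Matrix.smul_mul, Matrix.mul_smul, Matrix.one_mul,
    Matrix.mul_one, smul_add, smul_smul]
  rw [mul_comm s' s, mul_comm t' t, mul_comm s' t, mul_comm t' s]
  abel

/-- an element of the torus is inverted by every anticommuting element -/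
theorem conj_anti (hF : ringChar F ≠ 2) (a b d : SpecialLinearGroup (Fin 2) F)
    (ha : (a : Matrix (Fin 2) (Fin 2) F).trace = 0) (hb : b * a = -(a * b)) (hd : d * a = a * d) :
    d * b * d = b := by
  obtain ⟨s, t, hst, hdet⟩ := cent_form hF a d ha hd
  have hAA := coe_mul_self_of_trace a ha
  have hBA : (b : Matrix (Fin 2) (Fin 2) F) * (a : Matrix (Fin 2) (Fin 2) F) =
      -((a : Matrix (Fin 2) (Fin 2) F) * (b : Matrix (Fin 2) (Fin 2) F)) := by
    have h := congrArg (fun z : SpecialLinearGroup (Fin 2) F => (z : Matrix (Fin 2) (Fin 2) F)) hb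
    simpa using h
  have hABA : (a : Matrix (Fin 2) (Fin 2) F) * (b : Matrix (Fin 2) (Fin 2) F) *
      (a : Matrix (Fin 2) (Fin 2) F) = (b : Matrix (Fin 2) (Fin 2) F) := by
    rw [Matrix.mul_assoc, hBA, Matrix.mul_neg, ← Matrix.mul_assoc, hAA, Matrix.neg_mul,
      Matrix.one_mul, neg_neg]
  apply Subtype.ext
  rw [Matrix.SpecialLinearGroup.coe_mul, Matrix.SpecialLinearGroup.coe_mul, hst]
  simp only [Matrix.add_mul, Matrix.mul_add, Matrix.smul_mul, Matrix.mul_smul, Matrix.one_mul,
    Matrix.mul_one, smul_add, smul_smul]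
  rw [hABA, hBA]
  have : (s * s) • (b : Matrix (Fin 2) (Fin 2) F) + (s * t) • ((a : Matrix (Fin 2) (Fin 2) F) *
      (b : Matrix (Fin 2) (Fin 2) F)) + ((t * s) • -((a : Matrix (Fin 2) (Fin 2) F) *
      (b : Matrix (Fin 2) (Fin 2) F)) + (t * t) • (b : Matrix (Fin 2) (Fin 2) F)) =
      (s * s + t * t) • (b : Matrix (Fin 2) (Fin 2) F) := by
    rw [add_smul, smul_neg, mul_comm t s]
    abel
  rw [this, hdet, one_smul]

end

section
variable {F : Type*} [Field F]

theorem coe_anti {a b : SpecialLinearGroup (Fin 2) F} (hb : b * a = -(a * b)) :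
    (b : Matrix (Fin 2) (Fin 2) F) * (a : Matrix (Fin 2) (Fin 2) F) =
      -((a : Matrix (Fin 2) (Fin 2) F) * (b : Matrix (Fin 2) (Fin 2) F)) := by
  have h := congrArg (fun z : SpecialLinearGroup (Fin 2) F => (z : Matrix (Fin 2) (Fin 2) F)) hb
  simpa using h

theorem smul_one_add_smul_eq_zero (A : Matrix (Fin 2) (Fin 2) F) (hA : ¬ IsScalar2 A) (x y : F)
    (h : x • (1 : Matrix (Fin 2) (Fin 2) F) + y • A = 0) : x = 0 ∧ y = 0 := by
  have e00 := congrFun (congrFun h 0) 0
  have e01 := congrFun (congrFun h 0) 1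
  have e10 := congrFun (congrFun h 1) 0
  have e11 := congrFun (congrFun h 1) 1
  simp only [Matrix.add_apply, Matrix.smul_apply, Matrix.one_apply_eq, Matrix.one_apply_ne,
    smul_eq_mul, ne_eq, zero_ne_one, one_ne_zero, not_false_eq_true, mul_one, mul_zero,
    zero_add, Matrix.zero_apply] at e00 e01 e10 e11
  have hy : y = 0 := by
    by_contra hy
    apply hA
    refine ⟨?_, ?_, ?_⟩
    · rcases mul_eq_zero.1 e01 with h1 | h1
      · exact absurd h1 hy
      · exact h1
    · rcases mul_eq_zero.1 e10 with h1 | h1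
      · exact absurd h1 hy
      · exact h1
    · have : y * (A 0 0 - A 1 1) = 0 := by linear_combination e00 - e11
      rcases mul_eq_zero.1 this with h1 | h1
      · exact absurd h1 hy
      · exact sub_eq_zero.1 h1
  refine ⟨?_, hy⟩
  rw [hy] at e00
  linear_combination e00

/-- if `2` is a square, an element of trace zero is a square in its centraliser -/
theorem exists_sqrt_of_two (hF : ringChar F ≠ 2) (a : SpecialLinearGroup (Fin 2) F)
    (ha : (a : Matrix (Fin 2) (Fin 2) F).trace = 0) (ρ : F) (hρ : ρ * ρ = 2) :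
    ∃ d : SpecialLinearGroup (Fin 2) F, d * a = a * d ∧ d * d = a := by
  have h2 : (2 : F) ≠ 0 := Ring.two_ne_zero hF
  have hρ0 : ρ ≠ 0 := by
    rintro rfl
    apply h2
    rw [← hρ, mul_zero]
  have hAA := coe_mul_self_of_trace a ha
  have hdet : (ρ⁻¹ • (1 + (a : Matrix (Fin 2) (Fin 2) F))).det = 1 := by
    rw [Matrix.det_smul, det_one_add2, ha, a.det_coe, Fintype.card_fin]
    field_simp
    linear_combination -hρ
  set d : SpecialLinearGroup (Fin 2) F := ⟨ρ⁻¹ • (1 + (a : Matrix (Fin 2) (Fin 2) F)), hdet⟩ with hd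
  have hdc : (d : Matrix (Fin 2) (Fin 2) F) = ρ⁻¹ • (1 + (a : Matrix (Fin 2) (Fin 2) F)) := rfl
  refine ⟨d, ?_, ?_⟩
  · apply Subtype.ext
    rw [Matrix.SpecialLinearGroup.coe_mul, Matrix.SpecialLinearGroup.coe_mul, hdc]
    rw [Matrix.smul_mul, Matrix.mul_smul, Matrix.add_mul, Matrix.mul_add, Matrix.one_mul,
      Matrix.mul_one]
  · apply Subtype.ext
    rw [Matrix.SpecialLinearGroup.coe_mul, hdc]
    rw [Matrix.smul_mul, Matrix.mul_smul, smul_smul, Matrix.add_mul, Matrix.mul_add,
      Matrix.mul_add, Matrix.one_mul, Matrix.mul_one, Matrix.one_mul, hAA]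
    have h1 : (1 + (a : Matrix (Fin 2) (Fin 2) F) + ((a : Matrix (Fin 2) (Fin 2) F) + -1)) =
        (2 : F) • (a : Matrix (Fin 2) (Fin 2) F) := by
      rw [two_smul]; abel
    rw [h1, smul_smul]
    have h3 : ρ⁻¹ * ρ⁻¹ * 2 = 1 := by
      field_simp
      linear_combination -hρ
    rw [h3, one_smul]

/-- conversely, if an element of trace zero is a square in its centraliser then `2` is a square -/
theorem isSquare_two_of_sqrt (hF : ringChar F ≠ 2) (a d : SpecialLinearGroup (Fin 2) F)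
    (ha : (a : Matrix (Fin 2) (Fin 2) F).trace = 0) (hd : d * a = a * d) (hdd : d * d = a) :
    IsSquare (2 : F) := by
  have h2 : (2 : F) ≠ 0 := Ring.two_ne_zero hF
  obtain ⟨s, t, hst, hdet⟩ := cent_form hF a d ha hd
  have hAA := coe_mul_self_of_trace a ha
  have h1 : (d : Matrix (Fin 2) (Fin 2) F) * (d : Matrix (Fin 2) (Fin 2) F) =
      (a : Matrix (Fin 2) (Fin 2) F) := by
    rw [← Matrix.SpecialLinearGroup.coe_mul, hdd]
  rw [hst] at h1
  simp only [Matrix.add_mul, Matrix.mul_add, Matrix.smul_mul, Matrix.mul_smul, Matrix.one_mul,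
    Matrix.mul_one, smul_add, smul_smul, hAA] at h1
  have h3 : (s * s - t * t) • (1 : Matrix (Fin 2) (Fin 2) F) +
      (2 * s * t - 1) • (a : Matrix (Fin 2) (Fin 2) F) = 0 := by
    have : (s * s - t * t) • (1 : Matrix (Fin 2) (Fin 2) F) +
        (2 * s * t - 1) • (a : Matrix (Fin 2) (Fin 2) F) =
        ((s * s) • (1 : Matrix (Fin 2) (Fin 2) F) + (s * t) • (a : Matrix (Fin 2) (Fin 2) F) +
        ((t * s) • (a : Matrix (Fin 2) (Fin 2) F) + (t * t) • (-1 : Matrix (Fin 2) (Fin 2) F))) -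
        (a : Matrix (Fin 2) (Fin 2) F) := by
      rw [sub_smul, sub_smul, one_smul, smul_neg, mul_comm t s,
        show (2 * s * t) = s * t + s * t by ring, add_smul]
      abel
    rw [this, h1, sub_self]
  obtain ⟨e1, e2⟩ := smul_one_add_smul_eq_zero _ (not_scalar_of_trace_zero hF a ha) _ _ h3
  have hs : 2 * (s * s) = 1 := by linear_combination hdet + e1
  have hs0 : s ≠ 0 := by
    rintro rfl
    simp at hs
  refine ⟨s⁻¹, ?_⟩
  field_simp
  linear_combination hs

/-- swapping the two members of a quaternion pair when `2` is a square -/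
theorem exists_swap (hF : ringChar F ≠ 2) (x y : SpecialLinearGroup (Fin 2) F)
    (hx : (x : Matrix (Fin 2) (Fin 2) F).trace = 0) (hy : y * x = -(x * y)) (ρ : F)
    (hρ : ρ * ρ = 2) :
    ∃ t : SpecialLinearGroup (Fin 2) F, t * x = y * t ∧ t * y = x * t := by
  have h2 : (2 : F) ≠ 0 := Ring.two_ne_zero hF
  have hρ0 : ρ ≠ 0 := by
    rintro rfl
    apply h2
    rw [← hρ, mul_zero]
  have hty : (y : Matrix (Fin 2) (Fin 2) F).trace = 0 :=
    trace_eq_zero_of_anti hF y x (by rw [hy, neg_neg])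
  have hXX := coe_mul_self_of_trace x hx
  have hYY := coe_mul_self_of_trace y hty
  have hYX := coe_anti hy
  set X := (x : Matrix (Fin 2) (Fin 2) F) with hX
  set Y := (y : Matrix (Fin 2) (Fin 2) F) with hY
  have hNN : (X + Y) * (X + Y) = (-2 : F) • (1 : Matrix (Fin 2) (Fin 2) F) := by
    rw [Matrix.add_mul, Matrix.mul_add, Matrix.mul_add, hXX, hYY, hYX, neg_smul, two_smul]
    abel
  have hdetN : (X + Y).det = 2 := by
    have h1 := sq_eq2 (X + Y)
    rw [hNN, Matrix.trace_add, hx, hty, add_zero, zero_smul, zero_sub] at h1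
    have h3 := congrFun (congrFun h1 0) 0
    simp only [Matrix.smul_apply, Matrix.one_apply_eq, smul_eq_mul, mul_one, Matrix.neg_apply] at h3
    linear_combination h3
  have hdet : (ρ⁻¹ • (X + Y)).det = 1 := by
    rw [Matrix.det_smul, hdetN, Fintype.card_fin]
    field_simp
    linear_combination -hρ
  set t : SpecialLinearGroup (Fin 2) F := ⟨ρ⁻¹ • (X + Y), hdet⟩ with ht
  have htc : (t : Matrix (Fin 2) (Fin 2) F) = ρ⁻¹ • (X + Y) := rfl
  refine ⟨t, ?_, ?_⟩
  · apply Subtype.ext
    rw [Matrix.SpecialLinearGroup.coe_mul, Matrix.SpecialLinearGroup.coe_mul, htc]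
    rw [Matrix.smul_mul, Matrix.mul_smul, Matrix.add_mul, Matrix.mul_add, hXX, hYY]
    congr 1
    abel
  · apply Subtype.ext
    rw [Matrix.SpecialLinearGroup.coe_mul, Matrix.SpecialLinearGroup.coe_mul, htc]
    rw [Matrix.smul_mul, Matrix.mul_smul, Matrix.add_mul, Matrix.mul_add, hXX, hYY]
    congr 1
    abel

theorem inv_anti {a b : SpecialLinearGroup (Fin 2) F} (hb : b * a = -(a * b)) :
    b⁻¹ * a = -(a * b⁻¹) := by
  have h1 : a * b = -(b * a) := by rw [hb, neg_neg]
  calc b⁻¹ * a = b⁻¹ * (a * b) * b⁻¹ := by group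
    _ = -(a * b⁻¹) := by
        rw [h1, mul_neg, neg_mul]
        congr 1
        group

/-- two anticommuting elements differ by an element of the centraliser -/
theorem anti_torsor {a b b' : SpecialLinearGroup (Fin 2) F} (hb : b * a = -(a * b))
    (hb' : b' * a = -(a * b')) : (b' * b⁻¹) * a = a * (b' * b⁻¹) := by
  rw [mul_assoc, inv_anti hb, mul_neg, ← mul_assoc, hb', neg_mul, neg_neg, mul_assoc]

theorem mul_anti {a b c : SpecialLinearGroup (Fin 2) F} (hb : b * a = -(a * b))
    (hc : c * a = a * c) : (c * b) * a = -(a * (c * b)) := by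
  rw [mul_assoc, hb, mul_neg, ← mul_assoc, hc, mul_assoc]

end

end Cfsg.Agent.Helper13.SL2Torus
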