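import Mathlib

set_option autoImplicit false
set_option linter.unusedSectionVars false

/-! # Squares in a finite commutative subgroup with a unique involution have index two -/

namespace Cfsg.Agent.Helper13

/-- In a finite commutative subgroup `C` whose only elements of square one are `1` and `z ≠ 1`,
the squares have index two: there is a non-square, and two non-squares differ by a square. -/
theorem squares_index_two {G : Type*} [Group G] (C : Subgroup G) [Finite C]
    (hcomm : ∀ x ∈ C, ∀ y ∈ C, x * y = y * x) (z : G) (hzC : z ∈ C) (hz1 : z ≠ 1)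
    (hzz : z * z = 1) (hinv : ∀ d ∈ C, d * d = 1 → d = 1 ∨ d = z) :
    (∃ c ∈ C, ¬ ∃ d ∈ C, d * d = c) ∧
    (∀ c ∈ C, ∀ c' ∈ C, (¬ ∃ d ∈ C, d * d = c) → (¬ ∃ d ∈ C, d * d = c') →
      ∃ d ∈ C, c' = d * d * c) := by
  classical
  letI : CommGroup C :=
    { (inferInstance : Group C) with
      mul_comm := fun x y => Subtype.ext (hcomm x.1 x.2 y.1 y.2) }
  let φ : C →* C := powMonoidHom 2
  have hφ : ∀ d : C, φ d = d * d := fun d => pow_two d
  have hker : Nat.card φ.ker = 2 := by
    have h1 : (φ.ker : Set C) = {1, ⟨z, hzC⟩} := by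
      ext d
      simp only [SetLike.mem_coe, MonoidHom.mem_ker, hφ, Set.mem_insert_iff, Set.mem_singleton_iff]
      constructor
      · intro h
        have h' : (d : G) * (d : G) = 1 := congrArg Subtype.val h
        rcases hinv d.1 d.2 h' with h2 | h2
        · left; exact Subtype.ext h2
        · right; exact Subtype.ext h2
      · rintro (rfl | rfl)
        · exact one_mul 1
        · exact Subtype.ext hzz
    have h2 : Nat.card φ.ker = (φ.ker : Set C).ncard := Nat.card_coe_set_eq _
    rw [h2, h1, Set.ncard_pair]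
    intro h
    exact hz1 (congrArg Subtype.val h).symm
  have hidx : φ.range.index = 2 := by
    have h1 := Subgroup.index_ker φ
    have h2 := φ.ker.index_mul_card
    have h3 := φ.range.index_mul_card
    rw [hker, h1] at h2
    have hpos : 0 < Nat.card φ.range := Nat.card_pos
    have h4 : φ.range.index * Nat.card φ.range = 2 * Nat.card φ.range := by
      rw [h3, ← h2]; ring
    exact Nat.eq_of_mul_eq_mul_right hpos h4
  have hmem : ∀ c : C, c ∈ φ.range ↔ ∃ d ∈ C, d * d = (c : G) := by
    intro c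
    constructor
    · rintro ⟨d, hd⟩
      refine ⟨d.1, d.2, ?_⟩
      rw [← hd, hφ]
      rfl
    · rintro ⟨d, hdC, hd⟩
      refine ⟨⟨d, hdC⟩, ?_⟩
      rw [hφ]
      exact Subtype.ext hd
  constructor
  · have hne : φ.range ≠ ⊤ := by
      intro h
      rw [← Subgroup.index_eq_one, hidx] at h
      norm_num at h
    obtain ⟨c, -, hc⟩ := SetLike.exists_of_lt (lt_top_iff_ne_top.2 hne)
    exact ⟨c.1, c.2, fun h => hc ((hmem c).2 h)⟩
  · intro c hc c' hc' hn hn'
    have h1 : (⟨c, hc⟩ : C) ∉ φ.range := fun h => hn ((hmem _).1 h)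
    have h2 : (⟨c', hc'⟩ : C) ∉ φ.range := fun h => hn' ((hmem _).1 h)
    have h3 : (⟨c, hc⟩ : C)⁻¹ ∉ φ.range := fun h => h1 (by simpa using φ.range.inv_mem h)
    have h4 : (⟨c', hc'⟩ : C) * (⟨c, hc⟩ : C)⁻¹ ∈ φ.range := by
      rw [Subgroup.mul_mem_iff_of_index_two hidx]
      exact ⟨fun h => absurd h h2, fun h => absurd h h3⟩
    obtain ⟨d, hdC, hd⟩ := (hmem _).1 h4
    refine ⟨d, hdC, ?_⟩
    rw [hd]
    simp

end Cfsg.Agent.Helper13
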