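import Mathlib
import Cfsg.Agent.Lib.Helper13.SL2Torus
import Cfsg.Agent.Lib.Helper13.KleinCount
import Cfsg.Agent.Lib.Helper13.SquareIndex

set_option autoImplicit false
set_option linter.unusedSectionVars false

/-! # Klein four-subgroups of `PSL₂(q)` through quaternion pairs in `SL₂(q)` -/

namespace Cfsg.Agent.Helper13.PSL2Klein

open Matrix Cfsg.Agent.Helper12 Cfsg.Agent.Helper13 Cfsg.Agent.Helper13.SL2TZ Cfsg.Agent.S2508
  Cfsg.Agent.Helper13.PSL2Invol Cfsg.Agent.Helper13.SL2Torus Cfsg.Agent.Helper13.KleinCount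

section
variable {F : Type*} [Field F] [Fintype F]

/-- conjugacy of subgroups, in the form used by the statements -/
def ConjS {G : Type*} [Group G] (V W : Subgroup G) : Prop :=
  ∃ g : G, W = V.map (MulAut.conj g).toMonoidHom

theorem ConjS.refl {G : Type*} [Group G] (V : Subgroup G) : ConjS V V := by
  refine ⟨1, ?_⟩
  rw [map_one]
  exact (Subgroup.map_id V).symm

theorem ConjS.trans {G : Type*} [Group G] {U V W : Subgroup G} (h1 : ConjS U V) (h2 : ConjS V W) :
    ConjS U W := by
  obtain ⟨g, rfl⟩ := h1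
  obtain ⟨h, rfl⟩ := h2
  refine ⟨h * g, ?_⟩
  rw [Subgroup.map_map, map_mul]
  rfl

theorem ConjS.symm {G : Type*} [Group G] {V W : Subgroup G} (h : ConjS V W) : ConjS W V := by
  obtain ⟨g, rfl⟩ := h
  refine ⟨g⁻¹, ?_⟩
  rw [Subgroup.map_map]
  have : (MulAut.conj g⁻¹).toMonoidHom.comp (MulAut.conj g).toMonoidHom = MonoidHom.id _ := by
    ext x
    simp [MulAut.conj_apply]
    group
  rw [this, Subgroup.map_id]

/-- the subgroup of `PSL₂` generated by the images of two elements -/
def KV (a b : SpecialLinearGroup (Fin 2) F) : Subgroup (ProjectiveSpecialLinearGroup (Fin 2) F) :=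
  Subgroup.closure {pr a, pr b}

theorem KV_conj (s a b : SpecialLinearGroup (Fin 2) F) :
    (KV a b).map (MulAut.conj (pr s)).toMonoidHom = KV (s * a * s⁻¹) (s * b * s⁻¹) := by
  unfold KV
  rw [MonoidHom.map_closure, Set.image_pair]
  simp only [MulEquiv.coe_toMonoidHom, MulAut.conj_apply, map_mul, map_inv]

theorem conjS_KV (s a b : SpecialLinearGroup (Fin 2) F) :
    ConjS (KV a b) (KV (s * a * s⁻¹) (s * b * s⁻¹)) := ⟨pr s, (KV_conj s a b).symm⟩

theorem KV_comm (a b : SpecialLinearGroup (Fin 2) F) : KV a b = KV b a := by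
  unfold KV
  rw [Set.pair_comm]

theorem KV_neg_right (a b : SpecialLinearGroup (Fin 2) F) : KV a (-b) = KV a b := by
  unfold KV
  rw [pr_neg]

theorem KV_neg_left (a b : SpecialLinearGroup (Fin 2) F) : KV (-a) b = KV a b := by
  unfold KV
  rw [pr_neg]

theorem KV_mul_right (a b : SpecialLinearGroup (Fin 2) F) : KV a (a * b) = KV a b := by
  unfold KV
  apply le_antisymm
  · rw [Subgroup.closure_le]
    intro z hz
    have ha : pr a ∈ Subgroup.closure ({pr a, pr b} : Set _) := Subgroup.subset_closure (by simp)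
    have hb : pr b ∈ Subgroup.closure ({pr a, pr b} : Set _) := Subgroup.subset_closure (by simp)
    rcases hz with rfl | rfl
    · exact ha
    · rw [map_mul]; exact Subgroup.mul_mem _ ha hb
  · rw [Subgroup.closure_le]
    intro z hz
    have ha : pr a ∈ Subgroup.closure ({pr a, pr (a * b)} : Set _) :=
      Subgroup.subset_closure (by simp)
    have hb : pr (a * b) ∈ Subgroup.closure ({pr a, pr (a * b)} : Set _) :=
      Subgroup.subset_closure (by simp)
    rcases hz with rfl | rfl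
    · exact ha
    · have : pr b = (pr a)⁻¹ * pr (a * b) := by rw [map_mul]; group
      rw [this]
      exact Subgroup.mul_mem _ (Subgroup.inv_mem _ ha) hb

/-- a quaternion pair -/
def QP (a b : SpecialLinearGroup (Fin 2) F) : Prop :=
  (a : Matrix (Fin 2) (Fin 2) F).trace = 0 ∧ b * a = -(a * b)

theorem QP.facts (hF : ringChar F ≠ 2) {a b : SpecialLinearGroup (Fin 2) F} (h : QP a b) :
    pr a ≠ 1 ∧ pr b ≠ 1 ∧ pr a ≠ pr b ∧ pr a * pr a = 1 ∧ pr b * pr b = 1 ∧
      pr a * pr b = pr b * pr a := by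
  have hb := pr_mem_Rset hF a b ((mem_anti a b).2 h.2)
  rw [mem_Rset] at hb
  refine ⟨trace_ne_of_center hF a h.1, hb.1, fun h' => hb.2.1 h'.symm, ?_, hb.2.2.1, hb.2.2.2⟩
  rw [← map_mul, mul_self_eq_neg_one_of_trace a h.1, pr_neg, map_one]

theorem KV_eq_kleinOf (hF : ringChar F ≠ 2) {a b : SpecialLinearGroup (Fin 2) F} (h : QP a b) :
    KV a b = kleinOf (pr a) (pr b) (h.facts hF).2.2.2.1 (h.facts hF).2.2.2.2.1
      (h.facts hF).2.2.2.2.2 :=
  closure_pair_eq _ _ _

theorem isKleinFour_KV (hF : ringChar F ≠ 2) {a b : SpecialLinearGroup (Fin 2) F} (h : QP a b) :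
    IsKleinFour (KV a b) := by
  rw [KV_eq_kleinOf hF h]
  obtain ⟨h1, h2, h3, h4, h5, h6⟩ := h.facts hF
  exact isKleinFour_kleinOf h4 h5 h6 h1 h2 h3

theorem mem_KV_iff (hF : ringChar F ≠ 2) {a b : SpecialLinearGroup (Fin 2) F} (h : QP a b)
    (z : ProjectiveSpecialLinearGroup (Fin 2) F) :
    z ∈ KV a b ↔ z = 1 ∨ z = pr a ∨ z = pr b ∨ z = pr (a * b) := by
  rw [KV_eq_kleinOf hF h, mem_kleinOf, map_mul]

/-- every four-subgroup comes from a quaternion pair -/
theorem exists_QP (hF : ringChar F ≠ 2) (V : Subgroup (ProjectiveSpecialLinearGroup (Fin 2) F))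
    [hV : IsKleinFour V] : ∃ a b, QP a b ∧ V = KV a b := by
  classical
  -- two distinct non-identity elements
  have hcard : Nat.card V = 4 := IsKleinFour.card_four
  haveI : Finite V := Nat.finite_of_card_ne_zero (by rw [hcard]; norm_num)
  haveI := Fintype.ofFinite V
  have h4 : Fintype.card V = 4 := by rw [← Nat.card_eq_fintype_card]; exact hcard
  obtain ⟨x, hx1⟩ : ∃ x : V, x ≠ 1 := by
    have : 1 < Fintype.card V := by omega
    exact Fintype.exists_ne_of_one_lt_card this 1
  obtain ⟨y, hy1, hyx⟩ : ∃ y : V, y ≠ 1 ∧ y ≠ x := by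
    by_contra hcon
    push Not at hcon
    have hsub : (Finset.univ : Finset V) ⊆ {1, x} := by
      intro y _
      by_cases h : y = 1
      · simp [h]
      · simp [hcon y h]
    have := Finset.card_le_card hsub
    rw [Finset.card_univ, h4] at this
    have h2 : ({1, x} : Finset V).card ≤ 2 := Finset.card_le_two
    omega
  have hx1' : (x : ProjectiveSpecialLinearGroup (Fin 2) F) ≠ 1 := fun h => hx1 (Subtype.ext h)
  have hy1' : (y : ProjectiveSpecialLinearGroup (Fin 2) F) ≠ 1 := fun h => hy1 (Subtype.ext h)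
  have hxy' : (x : ProjectiveSpecialLinearGroup (Fin 2) F) ≠ y := fun h => hyx (Subtype.ext h.symm)
  obtain ⟨hxx, hyy, hcomm⟩ := klein_facts V x.2 y.2
  obtain ⟨a, hax, hta⟩ := exists_lift_invol hF _ hx1' hxx
  obtain ⟨b, hby, htb⟩ := exists_lift_invol hF _ hy1' hyy
  have hanti : b * a = -(a * b) := by
    rw [← hax, ← hby, ← map_mul, ← map_mul] at hcomm
    rcases (pr_eq_iff (a * b) (b * a)).1 hcomm with h | h
    · exfalso
      apply hxy'
      rw [← hax, ← hby]
      rcases torus_fact hF a b hta htb h with h1 | h1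
      · rw [h1]
      · rw [h1, pr_neg]
    · exact h
  refine ⟨a, b, ⟨hta, hanti⟩, ?_⟩
  have e := eq_kleinOf V x.2 y.2 hx1' hy1' hxy'
  rw [e]
  unfold KV
  rw [hax, hby]
  exact (closure_pair_eq _ _ _).symm

end

end Cfsg.Agent.Helper13.PSL2Klein
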