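import Mathlib
import Cfsg.Agent.Lib.Helper13.A4Recog
import Cfsg.Agent.Lib.Helper13.PSL2Klein

set_option autoImplicit false
set_option linter.unusedSectionVars false

namespace Cfsg.Agent.Helper13.PSL2Char2

open Matrix Cfsg.Agent.Helper13 Cfsg.Agent.Helper13.PSL2Invol Cfsg.Agent.Helper13.SL2Torus

section char2
variable {F : Type*} [Field F] [Fintype F] [CharP F 2]

theorem neg_eq_self (z : SpecialLinearGroup (Fin 2) F) : -z = z := by
  apply Subtype.ext
  rw [Matrix.SpecialLinearGroup.coe_neg]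
  ext i j
  rw [Matrix.neg_apply]
  exact CharTwo.neg_eq _

theorem pr_injective : Function.Injective (pr (F := F)) := by
  intro z w h
  rcases (pr_eq_iff z w).1 h with h1 | h1
  · exact h1.symm
  · rw [h1, neg_eq_self]

/-- upper unitriangular matrices -/
def uMat (s : F) : SpecialLinearGroup (Fin 2) F :=
  ⟨!![1, s; 0, 1], by rw [Matrix.det_fin_two_of]; ring⟩

/-- diagonal matrices -/
def dMat (w w' : F) (h : w * w' = 1) : SpecialLinearGroup (Fin 2) F :=
  ⟨!![w, 0; 0, w'], by rw [Matrix.det_fin_two_of]; linear_combination h⟩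

theorem uMat_mul (s s' : F) : uMat s * uMat s' = uMat (s + s') := by
  apply Subtype.ext
  rw [Matrix.SpecialLinearGroup.coe_mul]
  ext i j
  fin_cases i <;> fin_cases j <;> simp [uMat, Matrix.mul_apply, Fin.sum_univ_two, add_comm]

theorem uMat_zero : uMat (0 : F) = 1 := by
  apply Subtype.ext
  ext i j
  fin_cases i <;> fin_cases j <;> simp [uMat]

theorem uMat_mul_self (s : F) : uMat s * uMat s = 1 := by
  rw [uMat_mul, CharTwo.add_self_eq_zero, uMat_zero]

theorem uMat_ne_one {s : F} (hs : s ≠ 0) : uMat s ≠ 1 := by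
  intro h
  have h1 := congrArg (fun z : SpecialLinearGroup (Fin 2) F => (z : Matrix (Fin 2) (Fin 2) F) 0 1) h
  simp [uMat] at h1
  exact hs h1

theorem uMat_injective : Function.Injective (uMat (F := F)) := by
  intro s s' h
  have h1 := congrArg (fun z : SpecialLinearGroup (Fin 2) F => (z : Matrix (Fin 2) (Fin 2) F) 0 1) h
  simpa [uMat] using h1

theorem dMat_conj (w w' : F) (h : w * w' = 1) (s : F) :
    dMat w w' h * uMat s = uMat (w * w * s) * dMat w w' h := by
  apply Subtype.ext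
  rw [Matrix.SpecialLinearGroup.coe_mul, Matrix.SpecialLinearGroup.coe_mul]
  ext i j
  fin_cases i <;> fin_cases j <;> simp [uMat, dMat, Matrix.mul_apply, Fin.sum_univ_two]
  linear_combination (-(w * s)) * h

theorem dMat_pow_three (w w' : F) (h : w * w' = 1) (hw : w ^ 3 = 1) : dMat w w' h ^ 3 = 1 := by
  have hw' : w' ^ 3 = 1 := by
    have : (w * w') ^ 3 = 1 := by rw [h, one_pow]
    rw [mul_pow, hw, one_mul] at this
    exact this
  apply Subtype.ext
  rw [Matrix.SpecialLinearGroup.coe_pow]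
  have e : ∀ n : ℕ, (!![w, 0; 0, w'] : Matrix (Fin 2) (Fin 2) F) ^ n = !![w ^ n, 0; 0, w' ^ n] := by
    intro n
    induction n with
    | zero =>
      ext i j
      fin_cases i <;> fin_cases j <;> simp
    | succ n ih =>
      rw [pow_succ, ih]
      ext i j
      fin_cases i <;> fin_cases j <;> simp [Matrix.mul_apply, Fin.sum_univ_two, pow_succ]
  show (!![w, 0; 0, w'] : Matrix (Fin 2) (Fin 2) F) ^ 3 = _
  rw [e, hw, hw']
  ext i j
  fin_cases i <;> fin_cases j <;> simp

/-- in characteristic two, a primitive cube root of unity gives a copy of `A₄` -/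
theorem exists_A4_of_cube_root (w : F) (hw3 : w ^ 3 = 1) (hw1 : w ≠ 1) :
    ∃ H : Subgroup (ProjectiveSpecialLinearGroup (Fin 2) F),
      Nonempty (H ≃* alternatingGroup (Fin 4)) := by
  have hw0 : w ≠ 0 := by
    rintro rfl
    norm_num at hw3
  have hww : w * (w * w) = 1 := by rw [← hw3]; ring
  -- `1 + w + w² = 0`
  have hsum : 1 + w + w * w = 0 := by
    have h1 : (w - 1) * (1 + w + w * w) = 0 := by
      have : (w - 1) * (1 + w + w * w) = w ^ 3 - 1 := by ring
      rw [this, hw3, sub_self]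
    rcases mul_eq_zero.1 h1 with h2 | h2
    · exact absurd (sub_eq_zero.1 h2) hw1
    · exact h2
  have hw2 : w * w ≠ 1 := by
    intro h
    apply hw1
    rw [← hww, h, mul_one]
  have hw20 : w * w ≠ 0 := mul_ne_zero hw0 hw0
  set d := dMat w (w * w) hww with hd
  refine A4Recog.exists_A4 (pr (uMat 1)) (pr (uMat (w * w))) (pr d) ?_ ?_ ?_ ?_ ?_ ?_ ?_ ?_ ?_
  · rw [← map_mul, uMat_mul_self, map_one]
  · rw [← map_mul, uMat_mul_self, map_one]
  · rw [← map_mul, ← map_mul, uMat_mul, uMat_mul, add_comm]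
  · intro h
    rw [← map_one pr] at h
    exact uMat_ne_one one_ne_zero (pr_injective h)
  · intro h
    rw [← map_one pr] at h
    exact uMat_ne_one hw20 (pr_injective h)
  · intro h
    exact hw2 (uMat_injective (pr_injective h)).symm
  · rw [← map_pow, hd, dMat_pow_three w (w * w) hww hw3, map_one]
  · rw [← map_mul, hd, dMat_conj, map_mul, mul_inv_cancel_right, mul_one]
  · rw [← map_mul, hd, dMat_conj, map_mul, mul_inv_cancel_right, ← map_mul, uMat_mul]
    congr 2
    -- `w² w² = w = 1 + w²`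
    have : w * w * (w * w) = w := by
      calc w * w * (w * w) = w * (w * (w * w)) := by ring
        _ = w := by rw [hww, mul_one]
    rw [this]
    have h2 : w = -(1 + w * w) := by linear_combination hsum
    rw [CharTwo.neg_eq] at h2
    exact h2

/-- the kernel of a nonzero square-zero `2 × 2` matrix is a line -/
theorem ker_line (N : Matrix (Fin 2) (Fin 2) F) (hN0 : N ≠ 0) (hNN : N * N = 0)
    (v : Fin 2 → F) (hv : v ≠ 0) (hNv : N *ᵥ v = 0) (w : Fin 2 → F) (hNw : N *ᵥ w = 0) :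
    ∃ c : F, w = c • v := by
  set f := Matrix.toLin' N with hf
  have hrk : LinearMap.range f ≤ LinearMap.ker f := by
    rintro _ ⟨z, rfl⟩
    rw [LinearMap.mem_ker, hf, Matrix.toLin'_apply, Matrix.toLin'_apply, Matrix.mulVec_mulVec,
      hNN, Matrix.zero_mulVec]
  have hsum := LinearMap.finrank_range_add_finrank_ker f
  rw [Module.finrank_fin_fun] at hsum
  have hr : LinearMap.range f ≠ ⊥ := by
    intro h
    apply hN0
    have h0 : f = 0 := LinearMap.range_eq_bot.1 h
    apply Matrix.toLin'.injective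
    rw [map_zero]
    exact h0
  have hr1 : 1 ≤ Module.finrank F (LinearMap.range f) :=
    Nat.one_le_iff_ne_zero.2 (fun h0 => hr (Submodule.finrank_eq_zero.1 h0))
  have hle := Submodule.finrank_mono hrk
  have hk : Module.finrank F (LinearMap.ker f) = 1 := by omega
  have hvk : v ∈ LinearMap.ker f := by
    rw [LinearMap.mem_ker, hf, Matrix.toLin'_apply]
    exact hNv
  have hwk : w ∈ LinearMap.ker f := by
    rw [LinearMap.mem_ker, hf, Matrix.toLin'_apply]
    exact hNw
  have hvne : (⟨v, hvk⟩ : LinearMap.ker f) ≠ 0 := by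
    intro h
    exact hv (congrArg Subtype.val h)
  obtain ⟨c, hc⟩ := (finrank_eq_one_iff_of_nonzero' (⟨v, hvk⟩ : LinearMap.ker f) hvne).1 hk
    ⟨w, hwk⟩
  exact ⟨c, (congrArg Subtype.val hc).symm⟩

theorem two_smul_matrix (M : Matrix (Fin 2) (Fin 2) F) : M + M = 0 := by
  ext i j
  rw [Matrix.add_apply, Matrix.zero_apply]
  exact CharTwo.add_self_eq_zero _

/-- an involution of `SL₂` in characteristic two is `1 + N` with `N² = 0` -/
theorem sub_one_sq {a : SpecialLinearGroup (Fin 2) F} (ha : a * a = 1) :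
    ((a : Matrix (Fin 2) (Fin 2) F) - 1) * ((a : Matrix (Fin 2) (Fin 2) F) - 1) = 0 := by
  have h1 : (a : Matrix (Fin 2) (Fin 2) F) * (a : Matrix (Fin 2) (Fin 2) F) = 1 := by
    rw [← Matrix.SpecialLinearGroup.coe_mul, ha, Matrix.SpecialLinearGroup.coe_one]
  have h2 := two_smul_matrix (1 - (a : Matrix (Fin 2) (Fin 2) F))
  rw [sub_mul, mul_sub, h1, mul_one, one_mul]
  rw [← h2]
  abel

theorem sub_one_ne_zero {a : SpecialLinearGroup (Fin 2) F} (ha : a ≠ 1) :
    ((a : Matrix (Fin 2) (Fin 2) F) - 1) ≠ 0 := by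
  intro h
  apply ha
  apply Subtype.ext
  rw [Matrix.SpecialLinearGroup.coe_one]
  exact sub_eq_zero.1 h

/-- the core of the non-existence of `A₄` -/
theorem no_triple (hno : ∀ w : F, w ^ 3 = 1 → w = 1) (a b t : SpecialLinearGroup (Fin 2) F)
    (ha1 : a ≠ 1) (ha : a * a = 1) (hb1 : b ≠ 1) (hb : b * b = 1) (hab : a * b = b * a)
    (ht3 : t ^ 3 = 1) (ht1 : t ≠ 1) (hta : t * a = b * t) : False := by
  set A : Matrix (Fin 2) (Fin 2) F := (a : Matrix (Fin 2) (Fin 2) F) with hA
  set B : Matrix (Fin 2) (Fin 2) F := (b : Matrix (Fin 2) (Fin 2) F) with hB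
  set T : Matrix (Fin 2) (Fin 2) F := (t : Matrix (Fin 2) (Fin 2) F) with hT
  have hNA0 : A - 1 ≠ 0 := sub_one_ne_zero ha1
  have hNA2 : (A - 1) * (A - 1) = 0 := sub_one_sq ha
  have hNB0 : B - 1 ≠ 0 := sub_one_ne_zero hb1
  have hNB2 : (B - 1) * (B - 1) = 0 := sub_one_sq hb
  have hAB : A * B = B * A := by
    rw [hA, hB, ← Matrix.SpecialLinearGroup.coe_mul, ← Matrix.SpecialLinearGroup.coe_mul, hab]
  have hBB : B * B = 1 := by
    rw [hB, ← Matrix.SpecialLinearGroup.coe_mul, hb, Matrix.SpecialLinearGroup.coe_one]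
  have hTA : T * A = B * T := by
    rw [hT, hA, hB, ← Matrix.SpecialLinearGroup.coe_mul, ← Matrix.SpecialLinearGroup.coe_mul, hta]
  have hT3 : T * T * T = 1 := by
    have : T ^ 3 = 1 := by
      rw [hT, ← Matrix.SpecialLinearGroup.coe_pow, ht3, Matrix.SpecialLinearGroup.coe_one]
    rw [← this, pow_succ, pow_two]
  -- a nonzero vector in the image of `A - 1`
  obtain ⟨j, hj⟩ : ∃ j : Fin 2, (A - 1) *ᵥ (Pi.single j 1) ≠ 0 := by
    by_contra hcon
    push Not at hcon
    apply hNA0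
    ext i j
    have := congrFun (hcon j) i
    rw [Matrix.mulVec_single_one] at this
    exact this
  set v : Fin 2 → F := (A - 1) *ᵥ (Pi.single j 1) with hv
  have hNAv : (A - 1) *ᵥ v = 0 := by
    rw [hv, Matrix.mulVec_mulVec, hNA2, Matrix.zero_mulVec]
  have hfix : ∀ (C : Matrix (Fin 2) (Fin 2) F) (w : Fin 2 → F), (C - 1) *ᵥ w = 0 ↔ C *ᵥ w = w := by
    intro C w
    rw [Matrix.sub_mulVec, Matrix.one_mulVec, sub_eq_zero]
  have hAv : A *ᵥ v = v := (hfix A v).1 hNAv
  -- `B v` is a multiple of `v`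
  have h1 : (A - 1) *ᵥ (B *ᵥ v) = 0 := by
    rw [hfix, Matrix.mulVec_mulVec, hAB, ← Matrix.mulVec_mulVec, hAv]
  obtain ⟨c, hc⟩ := ker_line (A - 1) hNA0 hNA2 v hj hNAv _ h1
  obtain ⟨i, hi⟩ : ∃ i, v i ≠ 0 := by
    by_contra hcon
    push Not at hcon
    exact hj (funext hcon)
  have hc1 : c = 1 := by
    have h2 : B *ᵥ (B *ᵥ v) = v := by
      rw [Matrix.mulVec_mulVec, hBB, Matrix.one_mulVec]
    rw [hc, Matrix.mulVec_smul, hc, smul_smul] at h2
    have h3 := congrFun h2 i
    rw [Pi.smul_apply, smul_eq_mul] at h3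
    have h4 : c * c = 1 := by
      have : (c * c - 1) * v i = 0 := by linear_combination h3
      rcases mul_eq_zero.1 this with h5 | h5
      · exact sub_eq_zero.1 h5
      · exact absurd h5 hi
    have h5 : (c - 1) * (c - 1) = 0 := by
      have : (c - 1) * (c - 1) = c * c - (c + c) + 1 := by ring
      rw [this, h4, CharTwo.add_self_eq_zero, sub_zero, CharTwo.add_self_eq_zero]
    exact sub_eq_zero.1 (mul_self_eq_zero.1 h5)
  have hBv : B *ᵥ v = v := by rw [hc, hc1, one_smul]
  have hNBv : (B - 1) *ᵥ v = 0 := (hfix B v).2 hBv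
  -- `T v` is fixed by `B`
  have h2 : (B - 1) *ᵥ (T *ᵥ v) = 0 := by
    rw [hfix, Matrix.mulVec_mulVec, ← hTA, ← Matrix.mulVec_mulVec, hAv]
  obtain ⟨l, hl⟩ := ker_line (B - 1) hNB0 hNB2 v hj hNBv _ h2
  have hl1 : l = 1 := by
    apply hno
    have h3 : (T * T * T) *ᵥ v = v := by rw [hT3, Matrix.one_mulVec]
    rw [← Matrix.mulVec_mulVec, ← Matrix.mulVec_mulVec, hl, Matrix.mulVec_smul, hl, smul_smul,
      Matrix.mulVec_smul, hl, smul_smul] at h3
    have h4 := congrFun h3 i
    rw [Pi.smul_apply, smul_eq_mul] at h4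
    have : (l ^ 3 - 1) * v i = 0 := by linear_combination h4
    rcases mul_eq_zero.1 this with h5 | h5
    · exact sub_eq_zero.1 h5
    · exact absurd h5 hi
  have hTv : (T - 1) *ᵥ v = 0 := by
    rw [hfix, hl, hl1, one_smul]
  have hdet : (T - 1).det = 0 := Matrix.exists_mulVec_eq_zero_iff.1 ⟨v, hj, hTv⟩
  have htr : T.trace = 0 := by
    have hd := t.det_coe
    rw [Matrix.det_fin_two] at hd hdet
    rw [Matrix.trace_fin_two]
    simp only [Matrix.sub_apply, Matrix.one_apply_eq, Matrix.one_apply_ne, ne_eq, zero_ne_one,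
      one_ne_zero, not_false_eq_true, sub_zero] at hdet
    have h2 : (2 : F) = 0 := CharTwo.two_eq_zero
    linear_combination hd - hdet + h2
  have htt : t * t = 1 := by
    rw [Cfsg.Agent.Helper13.SL2TZ.mul_self_eq_neg_one_of_trace t htr, neg_eq_self]
  apply ht1
  have : t ^ 3 = t * t * t := by rw [pow_succ, pow_two]
  rw [this, htt, one_mul] at ht3
  exact ht3

/-- no copy of `A₄` when the field has no primitive cube root of unity (characteristic two) -/
theorem no_A4 (hno : ∀ w : F, w ^ 3 = 1 → w = 1)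
    (H : Subgroup (ProjectiveSpecialLinearGroup (Fin 2) F))
    (e : H ≃* alternatingGroup (Fin 4)) : False := by
  obtain ⟨a₀, b₀, t₀, h1, h2, h3, h4, h5, h6, h7, h8⟩ :
      ∃ a b t : alternatingGroup (Fin 4), a ≠ 1 ∧ a * a = 1 ∧ b ≠ 1 ∧ b * b = 1 ∧ a * b = b * a ∧
        t ^ 3 = 1 ∧ t ≠ 1 ∧ t * a = b * t := by
    refine ⟨⟨Equiv.swap 0 1 * Equiv.swap 2 3, Equiv.Perm.mem_alternatingGroup.2 (by decide)⟩,
      ⟨Equiv.swap 0 3 * Equiv.swap 1 2, Equiv.Perm.mem_alternatingGroup.2 (by decide)⟩,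
      ⟨Equiv.swap 0 1 * Equiv.swap 1 2, Equiv.Perm.mem_alternatingGroup.2 (by decide)⟩, ?_⟩
    simp only [ne_eq, ← Subtype.coe_inj, Subgroup.coe_mul, Subgroup.coe_one, Subgroup.coe_pow]
    decide
  -- transport to `PSL₂` and lift to `SL₂`
  have key : ∀ z : alternatingGroup (Fin 4), ∃ z' : SpecialLinearGroup (Fin 2) F,
      pr z' = ((e.symm z : H) : ProjectiveSpecialLinearGroup (Fin 2) F) := fun z =>
    pr_surjective _
  obtain ⟨a, ha⟩ := key a₀
  obtain ⟨b, hb⟩ := key b₀
  obtain ⟨t, ht⟩ := key t₀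
  have hinj := pr_injective (F := F)
  have tr1 : ∀ {z w : alternatingGroup (Fin 4)} {z' w' : SpecialLinearGroup (Fin 2) F},
      pr z' = ((e.symm z : H) : ProjectiveSpecialLinearGroup (Fin 2) F) →
      pr w' = ((e.symm w : H) : ProjectiveSpecialLinearGroup (Fin 2) F) →
      pr (z' * w') = ((e.symm (z * w) : H) : ProjectiveSpecialLinearGroup (Fin 2) F) := by
    intro z w z' w' hz hw
    rw [map_mul, map_mul, hz, hw]
    rfl
  have one1 : pr (1 : SpecialLinearGroup (Fin 2) F)
      = ((e.symm 1 : H) : ProjectiveSpecialLinearGroup (Fin 2) F) := by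
    rw [map_one, map_one]
    rfl
  have inj2 : ∀ {z w : alternatingGroup (Fin 4)} {z' w' : SpecialLinearGroup (Fin 2) F},
      pr z' = ((e.symm z : H) : ProjectiveSpecialLinearGroup (Fin 2) F) →
      pr w' = ((e.symm w : H) : ProjectiveSpecialLinearGroup (Fin 2) F) → (z' = w' ↔ z = w) := by
    intro z w z' w' hz hw
    constructor
    · intro h
      rw [h, hw] at hz
      exact (e.symm.injective (Subtype.ext hz)).symm
    · intro h
      apply hinj
      rw [hz, hw, h]
  apply no_triple hno a b t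
  · exact fun h => h1 ((inj2 ha one1).1 h)
  · exact (inj2 (tr1 ha ha) one1).2 h2
  · exact fun h => h3 ((inj2 hb one1).1 h)
  · exact (inj2 (tr1 hb hb) one1).2 h4
  · exact (inj2 (tr1 ha hb) (tr1 hb ha)).2 h5
  · have : t ^ 3 = t * t * t := by rw [pow_succ, pow_two]
    rw [this]
    have h6' : t₀ * t₀ * t₀ = 1 := by rw [← h6, pow_succ, pow_two]
    exact (inj2 (tr1 (tr1 ht ht) ht) one1).2 h6'
  · exact fun h => h7 ((inj2 ht one1).1 h)
  · exact (inj2 (tr1 ht ha) (tr1 hb ht)).2 h8

/-- in characteristic two `SL₂` has no element of order four -/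
theorem sq_eq_one_of_pow_four (g : SpecialLinearGroup (Fin 2) F) (hg : g ^ 4 = 1) : g ^ 2 = 1 := by
  set M : Matrix (Fin 2) (Fin 2) F := (g : Matrix (Fin 2) (Fin 2) F) with hM
  have hCH := Matrix.aeval_self_charpoly M
  rw [Matrix.charpoly_fin_two, map_add, map_sub, map_pow, map_mul, Polynomial.aeval_X,
    Polynomial.aeval_C, Polynomial.aeval_C, g.det_coe, map_one, pow_two,
    Algebra.algebraMap_eq_smul_one, Matrix.smul_mul, Matrix.one_mul] at hCH
  -- `M² = τ M + 1`
  have h1 : M * M = M.trace • M + 1 := by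
    have h2 : M * M = M.trace • M - 1 := by
      rw [eq_sub_iff_add_eq, ← sub_eq_zero]
      rw [← hCH]
      abel
    rw [h2, sub_eq_add_neg]
    congr 1
    ext i j
    rw [Matrix.neg_apply]
    exact CharTwo.neg_eq _
  have hM4 : M * M * (M * M) = 1 := by
    have : M ^ 4 = 1 := by
      rw [hM, ← Matrix.SpecialLinearGroup.coe_pow, hg, Matrix.SpecialLinearGroup.coe_one]
    rw [← this]
    simp only [pow_succ, pow_zero, one_mul, mul_assoc]
  -- expand the fourth power
  have h3 : (M.trace • M + 1) * (M.trace • M + 1) = (M.trace * M.trace) • (M * M) + 1 := by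
    simp only [Matrix.add_mul, Matrix.mul_add, Matrix.smul_mul, Matrix.mul_smul,
      Matrix.one_mul, Matrix.mul_one]
    have : M.trace • M + (M.trace • M + 1) = 1 := by
      rw [← add_assoc, two_smul_matrix, zero_add]
    rw [smul_add, smul_smul, add_assoc, this]
  rw [h1] at hM4
  rw [hM4] at h3
  have h4 : (M.trace * M.trace) • (M * M) = 0 := by
    have : (1 : Matrix (Fin 2) (Fin 2) F) + 0 = (M.trace * M.trace) • (M * M) + 1 := by
      rw [add_zero]; exact h3
    rw [add_comm _ (1 : Matrix (Fin 2) (Fin 2) F)] at this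
    exact (add_left_cancel this).symm
  have hMM0 : M * M ≠ 0 := by
    intro h0
    have hd : (M * M).det = 1 := by rw [Matrix.det_mul, g.det_coe, one_mul]
    rw [h0, Matrix.det_zero] at hd
    exact zero_ne_one hd
  have ht : M.trace = 0 := by
    rcases smul_eq_zero.1 h4 with h5 | h5
    · exact mul_self_eq_zero.1 h5
    · exact absurd h5 hMM0
  rw [pow_two, Cfsg.Agent.Helper13.SL2TZ.mul_self_eq_neg_one_of_trace g ht, neg_eq_self]

/-- no copy of `S₄` in characteristic two -/
theorem no_S4 (H : Subgroup (ProjectiveSpecialLinearGroup (Fin 2) F))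
    (e : H ≃* Equiv.Perm (Fin 4)) : False := by
  obtain ⟨σ, h4, h2⟩ : ∃ s : Equiv.Perm (Fin 4), s ^ 4 = 1 ∧ s ^ 2 ≠ 1 := by
    refine ⟨Equiv.swap 0 1 * Equiv.swap 1 2 * Equiv.swap 2 3, ?_⟩
    decide
  obtain ⟨g, hg⟩ := pr_surjective ((e.symm σ : H) : ProjectiveSpecialLinearGroup (Fin 2) F)
  have hg4 : g ^ 4 = 1 := by
    apply pr_injective (F := F)
    rw [map_pow, hg, map_one, ← Subgroup.coe_pow, ← map_pow, h4, map_one]
    rfl
  have hg2 := sq_eq_one_of_pow_four g hg4
  apply h2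
  have h5 : ((e.symm (σ ^ 2) : H) : ProjectiveSpecialLinearGroup (Fin 2) F) = 1 := by
    rw [map_pow, Subgroup.coe_pow, ← hg, ← map_pow, hg2, map_one]
  have h6 : e.symm (σ ^ 2) = 1 := Subtype.ext h5
  rw [← map_one e.symm] at h6
  exact e.symm.injective h6

end char2

end Cfsg.Agent.Helper13.PSL2Char2
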