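import Mathlib

set_option autoImplicit false

namespace Cfsg.Agent.Helper13.Quat

section
variable {R : Type*} [Ring R] {A B : R}

theorem quat_MA (hAA : A * A = -1) (hBB : B * B = -1) (hBA : B * A = -(A * B)) :
    (1 + A + B + A * B) * A = B * (1 + A + B + A * B) := by
  have hABA : A * B * A = B := by
    rw [mul_assoc, hBA, mul_neg, ← mul_assoc, hAA, neg_mul, one_mul, neg_neg]
  have hBAB : B * (A * B) = A := by
    rw [← mul_assoc, hBA, neg_mul, mul_assoc, hBB, mul_neg, mul_one, neg_neg]
  simp only [add_mul, mul_add, one_mul, mul_one, hAA, hBB, hBA, hABA, hBAB]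
  abel

theorem quat_MB (hAA : A * A = -1) (hBB : B * B = -1) (hBA : B * A = -(A * B)) :
    (1 + A + B + A * B) * B = (A * B) * (1 + A + B + A * B) := by
  have hABA : A * B * A = B := by
    rw [mul_assoc, hBA, mul_neg, ← mul_assoc, hAA, neg_mul, one_mul, neg_neg]
  have hABB : A * B * B = -A := by
    rw [mul_assoc, hBB, mul_neg, mul_one]
  have hABAB : A * B * (A * B) = -1 := by
    rw [← mul_assoc, hABA, hBB]
  simp only [add_mul, mul_add, one_mul, mul_one, hAA, hBB, hBA, hABA, hABB, hABAB]
  abel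

theorem quat_MM (hAA : A * A = -1) (hBB : B * B = -1) (hBA : B * A = -(A * B)) :
    (1 + A + B + A * B) * (1 + A + B + A * B) = 2 * (1 + A + B + A * B) - 4 := by
  have hABA : A * B * A = B := by
    rw [mul_assoc, hBA, mul_neg, ← mul_assoc, hAA, neg_mul, one_mul, neg_neg]
  have hABB : A * B * B = -A := by
    rw [mul_assoc, hBB, mul_neg, mul_one]
  have hABAB : A * B * (A * B) = -1 := by
    rw [← mul_assoc, hABA, hBB]
  have hAAB : A * (A * B) = -B := by
    rw [← mul_assoc, hAA, neg_mul, one_mul]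
  have hBAB : B * (A * B) = A := by
    rw [← mul_assoc, hBA, neg_mul, mul_assoc, hBB, mul_neg, mul_one, neg_neg]
  simp only [add_mul, mul_add, one_mul, mul_one, hAA, hBB, hBA, hABA, hABB, hABAB, hAAB, hBAB]
  have e2 : (2 : R) = 1 + 1 := by norm_num
  have e4 : (4 : R) = 1 + 1 + 1 + 1 := by norm_num
  rw [e2, e4]
  simp only [add_mul, one_mul]
  abel

end

end Cfsg.Agent.Helper13.Quat
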