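import Mathlib
import Cfsg.Agent.Lib.Helper13.QuatIdent
import Cfsg.Agent.Lib.Helper13.A4Recog
import Cfsg.Agent.Lib.Helper13.PSL2Klein

set_option autoImplicit false
set_option linter.unusedSectionVars false

namespace Cfsg.Agent.Helper13.PSL2A4

open Matrix Cfsg.Agent.Helper12 Cfsg.Agent.Helper13 Cfsg.Agent.Helper13.SL2TZ Cfsg.Agent.S2508
  Cfsg.Agent.Helper13.PSL2Invol Cfsg.Agent.Helper13.SL2Torus Cfsg.Agent.Helper13.KleinCount
  Cfsg.Agent.Helper13.PSL2Klein Cfsg.Agent.Helper13.Quat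

section odd
variable {F : Type*} [Field F] [Fintype F]

/-- the element of order three normalising the four-group of a quaternion pair -/
theorem exists_three (hF : ringChar F ≠ 2) {a b : SpecialLinearGroup (Fin 2) F} (h : QP a b) :
    ∃ t : SpecialLinearGroup (Fin 2) F, t * a = b * t ∧ t * b = (a * b) * t ∧ t ^ 3 = -1 := by
  have h2 : (2 : F) ≠ 0 := Ring.two_ne_zero hF
  set A : Matrix (Fin 2) (Fin 2) F := (a : Matrix (Fin 2) (Fin 2) F) with hA
  set B : Matrix (Fin 2) (Fin 2) F := (b : Matrix (Fin 2) (Fin 2) F) with hB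
  have htb : B.trace = 0 := trace_of_anti hF h.2
  have hAA : A * A = -1 := coe_mul_self_of_trace a h.1
  have hBB : B * B = -1 := coe_mul_self_of_trace b htb
  have hBA : B * A = -(A * B) := coe_anti h.2
  set M : Matrix (Fin 2) (Fin 2) F := 1 + A + B + A * B with hM
  have hMA : M * A = B * M := quat_MA hAA hBB hBA
  have hMB : M * B = (A * B) * M := quat_MB hAA hBB hBA
  have hMM : M * M = (2 : F) • M - (4 : F) • (1 : Matrix (Fin 2) (Fin 2) F) := by
    have h0 : M * M = 2 * M - 4 := quat_MM hAA hBB hBA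
    have e2 : (2 : Matrix (Fin 2) (Fin 2) F) * M = (2 : F) • M := by
      rw [two_mul, two_smul]
    have e4 : (4 : Matrix (Fin 2) (Fin 2) F) = (4 : F) • (1 : Matrix (Fin 2) (Fin 2) F) := by
      have : (4 : Matrix (Fin 2) (Fin 2) F) = 1 + 1 + 1 + 1 := by norm_num
      rw [this]
      have : (4 : F) = 1 + 1 + 1 + 1 := by norm_num
      rw [this, add_smul, add_smul, add_smul, one_smul]
    rw [h0, e2, e4]
  have htAB : (A * B).trace = 0 := by
    have h1 : (B * A).trace = (A * B).trace := Matrix.trace_mul_comm B A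
    rw [hBA, Matrix.trace_neg] at h1
    have h3 : (2 : F) * (A * B).trace = 0 := by linear_combination -h1
    rcases mul_eq_zero.1 h3 with h4 | h4
    · exact absurd h4 h2
    · exact h4
  have htM : M.trace = 2 := by
    rw [hM, Matrix.trace_add, Matrix.trace_add, Matrix.trace_add, Matrix.trace_one, h.1, htb,
      htAB]
    simp
  have hdetM : M.det = 4 := by
    have hCH := Matrix.aeval_self_charpoly M
    rw [Matrix.charpoly_fin_two, map_add, map_sub, map_pow, map_mul, Polynomial.aeval_X,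
      Polynomial.aeval_C, Polynomial.aeval_C, pow_two, hMM, htM] at hCH
    have h00 := congrFun (congrFun hCH 0) 0
    simp only [Matrix.add_apply, Matrix.sub_apply, Matrix.zero_apply, Algebra.algebraMap_eq_smul_one,
      Matrix.smul_apply, Matrix.one_apply_eq, smul_eq_mul, mul_one, Matrix.mul_apply,
      Fin.sum_univ_two, Matrix.one_apply_ne, ne_eq, zero_ne_one, not_false_eq_true, mul_zero,
      add_zero] at h00
    linear_combination h00
  have hdet : ((2 : F)⁻¹ • M).det = 1 := by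
    rw [Matrix.det_smul, Fintype.card_fin, hdetM]
    field_simp
    norm_num
  set t : SpecialLinearGroup (Fin 2) F := ⟨(2 : F)⁻¹ • M, hdet⟩ with ht
  have htc : (t : Matrix (Fin 2) (Fin 2) F) = (2 : F)⁻¹ • M := rfl
  refine ⟨t, ?_, ?_, ?_⟩
  · apply Subtype.ext
    rw [Matrix.SpecialLinearGroup.coe_mul, Matrix.SpecialLinearGroup.coe_mul, htc]
    show (2 : F)⁻¹ • M * A = B * (2 : F)⁻¹ • M
    rw [Matrix.smul_mul, Matrix.mul_smul, hMA]
  · apply Subtype.ext
    rw [Matrix.SpecialLinearGroup.coe_mul, Matrix.SpecialLinearGroup.coe_mul,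
      Matrix.SpecialLinearGroup.coe_mul, htc]
    show (2 : F)⁻¹ • M * B = (A * B) * (2 : F)⁻¹ • M
    rw [Matrix.smul_mul, Matrix.mul_smul, hMB]
  · apply Subtype.ext
    rw [Matrix.SpecialLinearGroup.coe_pow, Matrix.SpecialLinearGroup.coe_neg,
      Matrix.SpecialLinearGroup.coe_one, htc]
    have e1 : ((2 : F)⁻¹ • M) * ((2 : F)⁻¹ • M) = (2 : F)⁻¹ • M - 1 := by
      rw [Matrix.smul_mul, Matrix.mul_smul, hMM, smul_smul, smul_sub, smul_smul, smul_smul]
      have c1 : (2 : F)⁻¹ * 2⁻¹ * 2 = 2⁻¹ := by field_simp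
      have c2 : (2 : F)⁻¹ * 2⁻¹ * 4 = 1 := by field_simp; norm_num
      rw [c1, c2, one_smul]
    rw [pow_succ, pow_two, e1, sub_mul, e1, one_mul]
    abel

/-- `PSL₂(q)`, `q` odd, contains `A₄` -/
theorem exists_A4_odd (hF : ringChar F ≠ 2) :
    ∃ H : Subgroup (ProjectiveSpecialLinearGroup (Fin 2) F),
      Nonempty (H ≃* alternatingGroup (Fin 4)) := by
  set a : SpecialLinearGroup (Fin 2) F := compO 0 with ha
  have hta : (a : Matrix (Fin 2) (Fin 2) F).trace = 0 := compO_trace 0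
  obtain ⟨b, hb⟩ := exists_anti hF a hta
  have hqp : QP a b := ⟨hta, hb⟩
  obtain ⟨h1, h2, h3, h4, h5, h6⟩ := hqp.facts hF
  obtain ⟨t, hta', htb', ht3⟩ := exists_three hF hqp
  refine A4Recog.exists_A4 (pr a) (pr b) (pr t) h4 h5 h6 h1 h2 h3 ?_ ?_ ?_
  · rw [← map_pow, ht3, pr_neg, map_one]
  · rw [← map_mul, hta', map_mul, mul_inv_cancel_right]
  · rw [← map_mul, htb', map_mul, mul_inv_cancel_right, map_mul]

end odd

end Cfsg.Agent.Helper13.PSL2A4
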