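import Mathlib
import Cfsg.Agent.Lib.Helper13.KleinCount
import Cfsg.Agent.S1012

set_option autoImplicit false

/-!
# Recognising `S₄` as the normaliser of a self-centralising four-group
-/

namespace Cfsg.Agent.Helper13.S4Recog

open Cfsg.Agent.Helper13.KleinCount

theorem perm3_sq_or_cube : ∀ τ : Equiv.Perm (Fin 3), τ ^ 2 = 1 ∨ τ ^ 3 = 1 := by decide

theorem perm3_fix : ∀ (τ : Equiv.Perm (Fin 3)) (i : Fin 3), τ i = i → τ ^ 3 = 1 → τ = 1 := by decide

section
variable {G : Type*} [Group G]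

theorem mem_normalizer_of_perm (V : Subgroup G) (g : G) (h1 : ∀ v ∈ V, g * v * g⁻¹ ∈ V)
    (h2 : ∀ v ∈ V, ∃ u ∈ V, g * u * g⁻¹ = v) : g ∈ Subgroup.normalizer (V : Set G) := by
  rw [Subgroup.mem_normalizer_iff]
  intro h
  refine ⟨h1 h, fun hh => ?_⟩
  obtain ⟨u, hu, hu'⟩ := h2 _ hh
  have : u = h := by
    have h3 : g * u = g * h := mul_right_cancel hu'
    exact mul_left_cancel h3
  rw [← this]
  exact hu

variable (x y : G) (hx : x * x = 1) (hy : y * y = 1) (hxy : x * y = y * x)

/-- the three involutions of the four-group -/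
def Inv3 : Type _ := {v : G // v ∈ kleinOf x y hx hy hxy ∧ v ≠ 1}

/-- the normaliser acts on the involutions -/
def conjAct (n : Subgroup.normalizer ((kleinOf x y hx hy hxy : Subgroup G) : Set G))
    (v : Inv3 x y hx hy hxy) : Inv3 x y hx hy hxy :=
  ⟨(n : G) * v.1 * (n : G)⁻¹, (Subgroup.mem_normalizer_iff.1 n.2 v.1).1 v.2.1, by
    intro h
    apply v.2.2
    have h1 : (n : G) * v.1 = (n : G) := by
      rw [mul_inv_eq_one] at h
      exact h
    have h2 : (n : G) * v.1 = (n : G) * 1 := by rw [h1, mul_one]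
    exact mul_left_cancel h2⟩

instance : MulAction (Subgroup.normalizer ((kleinOf x y hx hy hxy : Subgroup G) : Set G))
    (Inv3 x y hx hy hxy) where
  smul := conjAct x y hx hy hxy
  one_smul v := by
    apply Subtype.ext
    show ((1 : Subgroup.normalizer ((kleinOf x y hx hy hxy : Subgroup G) : Set G)) : G) * v.1 *
      ((1 : Subgroup.normalizer ((kleinOf x y hx hy hxy : Subgroup G) : Set G)) : G)⁻¹ = v.1
    rw [Subgroup.coe_one, one_mul, inv_one, mul_one]
  mul_smul a b v := by
    apply Subtype.ext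
    show ((a * b : Subgroup.normalizer ((kleinOf x y hx hy hxy : Subgroup G) : Set G)) : G) * v.1 *
      ((a * b : Subgroup.normalizer ((kleinOf x y hx hy hxy : Subgroup G) : Set G)) : G)⁻¹
      = (a : G) * ((b : G) * v.1 * (b : G)⁻¹) * (a : G)⁻¹
    rw [Subgroup.coe_mul, mul_inv_rev]
    simp only [mul_assoc]

theorem smul_val (n : Subgroup.normalizer ((kleinOf x y hx hy hxy : Subgroup G) : Set G))
    (v : Inv3 x y hx hy hxy) : (n • v).1 = (n : G) * v.1 * (n : G)⁻¹ := rfl

end

section transport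
variable {I : Type*} [Fintype I]

theorem perm_sq_or_cube (hI : Fintype.card I = 3) (π : Equiv.Perm I) : π ^ 2 = 1 ∨ π ^ 3 = 1 := by
  let e : I ≃ Fin 3 := Fintype.equivFinOfCardEq hI
  let E : Equiv.Perm I ≃* Equiv.Perm (Fin 3) := e.permCongrHom
  rcases perm3_sq_or_cube (E π) with h | h
  · left
    rw [← map_pow] at h
    exact (map_eq_one_iff E E.injective).1 h
  · right
    rw [← map_pow] at h
    exact (map_eq_one_iff E E.injective).1 h

theorem perm_fix (hI : Fintype.card I = 3) (π : Equiv.Perm I) (v : I) (hv : π v = v)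
    (h3 : π ^ 3 = 1) : π = 1 := by
  let e : I ≃ Fin 3 := Fintype.equivFinOfCardEq hI
  let E : Equiv.Perm I ≃* Equiv.Perm (Fin 3) := e.permCongrHom
  have h1 : E π (e v) = e v := by
    show e.permCongr π (e v) = e v
    rw [Equiv.permCongr_apply, Equiv.symm_apply_apply, hv]
  have h2 : (E π) ^ 3 = 1 := by rw [← map_pow, h3, map_one]
  exact (map_eq_one_iff E E.injective).1 (perm3_fix (E π) (e v) h1 h2)

end transport

section main
variable {G : Type*} [Group G]

/-- the normaliser of a self-centralising four-group whose involutions are permuted by an element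
of order three and swapped by another element is `S₄` -/
theorem exists_S4 (x y g s : G) (hx : x * x = 1) (hy : y * y = 1) (hxy : x * y = y * x)
    (hx1 : x ≠ 1) (hy1 : y ≠ 1) (hne : x ≠ y) (hg3 : g ^ 3 = 1) (hgx : g * x * g⁻¹ = y)
    (hgy : g * y * g⁻¹ = x * y) (hsx : s * x * s⁻¹ = x) (hsy : s * y * s⁻¹ = x * y)
    (hC : ∀ c : G, c * x = x * c → c * y = y * c → c ∈ kleinOf x y hx hy hxy) :
    ∃ H : Subgroup G, Nonempty (H ≃* Equiv.Perm (Fin 4)) := by
  classical
  set V := kleinOf x y hx hy hxy with hV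
  set N := Subgroup.normalizer (V : Set G) with hN
  have hVcard : Nat.card V = 4 := card_kleinOf hx hy hxy hx1 hy1 hne
  have hxy1 : x * y ≠ 1 := by
    intro h
    apply hne
    have : x * y = y * y := by rw [h, hy]
    exact mul_right_cancel this
  have hxxy : x ≠ x * y := by
    intro h
    apply hy1
    have : x * 1 = x * y := by rw [mul_one]; exact h
    exact (mul_left_cancel this).symm
  have hyxy : y ≠ x * y := by
    intro h
    apply hx1
    have : 1 * y = x * y := by rw [one_mul]; exact h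
    exact (mul_right_cancel this).symm
  have hgxy : g * (x * y) * g⁻¹ = x := by
    have : g * (x * y) * g⁻¹ = (g * x * g⁻¹) * (g * y * g⁻¹) := by group
    rw [this, hgx, hgy, ← mul_assoc, ← hxy, mul_assoc, hy, mul_one]
  have hsxy : s * (x * y) * s⁻¹ = y := by
    have : s * (x * y) * s⁻¹ = (s * x * s⁻¹) * (s * y * s⁻¹) := by group
    rw [this, hsx, hsy, ← mul_assoc, hx, one_mul]
  have h1V : (1 : G) ∈ V := V.one_mem
  have hxV : x ∈ V := mem_kleinOf.2 (Or.inr (Or.inl rfl))
  have hyV : y ∈ V := mem_kleinOf.2 (Or.inr (Or.inr (Or.inl rfl)))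
  have hxyV : x * y ∈ V := mem_kleinOf.2 (Or.inr (Or.inr (Or.inr rfl)))
  have hconj1 : ∀ c : G, c * 1 * c⁻¹ = 1 := fun c => by group
  have hgN : g ∈ N := by
    apply mem_normalizer_of_perm
    · intro v hv
      rcases mem_kleinOf.1 hv with h | h | h | h
      · rw [h, hconj1]; exact h1V
      · rw [h, hgx]; exact hyV
      · rw [h, hgy]; exact hxyV
      · rw [h, hgxy]; exact hxV
    · intro v hv
      rcases mem_kleinOf.1 hv with h | h | h | h
      · exact ⟨1, h1V, by rw [h]; exact hconj1 g⟩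
      · exact ⟨x * y, hxyV, by rw [h]; exact hgxy⟩
      · exact ⟨x, hxV, by rw [h]; exact hgx⟩
      · exact ⟨y, hyV, by rw [h]; exact hgy⟩
  have hsN : s ∈ N := by
    apply mem_normalizer_of_perm
    · intro v hv
      rcases mem_kleinOf.1 hv with h | h | h | h
      · rw [h, hconj1]; exact h1V
      · rw [h, hsx]; exact hxV
      · rw [h, hsy]; exact hxyV
      · rw [h, hsxy]; exact hyV
    · intro v hv
      rcases mem_kleinOf.1 hv with h | h | h | h
      · exact ⟨1, h1V, by rw [h]; exact hconj1 s⟩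
      · exact ⟨x, hxV, by rw [h]; exact hsx⟩
      · exact ⟨x * y, hxyV, by rw [h]; exact hsxy⟩
      · exact ⟨y, hyV, by rw [h]; exact hsy⟩
  -- the three points
  let px : Inv3 x y hx hy hxy := ⟨x, hxV, hx1⟩
  let py : Inv3 x y hx hy hxy := ⟨y, hyV, hy1⟩
  let pxy : Inv3 x y hx hy hxy := ⟨x * y, hxyV, hxy1⟩
  have hcases : ∀ v : Inv3 x y hx hy hxy, v = px ∨ v = py ∨ v = pxy := by
    intro v
    rcases mem_kleinOf.1 v.2.1 with h | h | h | h
    · exact absurd h v.2.2
    · exact Or.inl (Subtype.ext h)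
    · exact Or.inr (Or.inl (Subtype.ext h))
    · exact Or.inr (Or.inr (Subtype.ext h))
  let pt : Fin 3 → Inv3 x y hx hy hxy := ![px, py, pxy]
  have hpt : Function.Bijective pt := by
    constructor
    · intro i j hij
      have hv := congrArg Subtype.val hij
      fin_cases i <;> fin_cases j <;> first | rfl | (exfalso; simp [pt] at hv; first | exact hne hv | exact hne hv.symm | exact hxxy hv | exact hxxy hv.symm | exact hyxy hv | exact hyxy hv.symm)
    · intro v
      rcases hcases v with rfl | rfl | rfl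
      · exact ⟨0, rfl⟩
      · exact ⟨1, rfl⟩
      · exact ⟨2, rfl⟩
  let e : Fin 3 ≃ Inv3 x y hx hy hxy := Equiv.ofBijective pt hpt
  haveI : Fintype (Inv3 x y hx hy hxy) := Fintype.ofEquiv (Fin 3) e
  have hcardI : Fintype.card (Inv3 x y hx hy hxy) = 3 := by
    rw [Fintype.card_congr e.symm, Fintype.card_fin]
  set φ : N →* Equiv.Perm (Inv3 x y hx hy hxy) := MulAction.toPermHom N (Inv3 x y hx hy hxy)
    with hφdef
  have hφ : ∀ (n : N) (v : Inv3 x y hx hy hxy), (φ n v).1 = (n : G) * v.1 * (n : G)⁻¹ :=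
    fun n v => rfl
  -- elements of `V` commute with `x` and `y`
  have hVx : ∀ u ∈ V, u * x = x * u := by
    intro u hu
    rcases mem_kleinOf.1 hu with h | h | h | h
    · rw [h, one_mul, mul_one]
    · rw [h]
    · rw [h]; exact hxy.symm
    · rw [h, mul_assoc, ← hxy, ← mul_assoc]
  have hVy : ∀ u ∈ V, u * y = y * u := by
    intro u hu
    rcases mem_kleinOf.1 hu with h | h | h | h
    · rw [h, one_mul, mul_one]
    · rw [h]; exact hxy
    · rw [h]
    · rw [h, ← mul_assoc, ← hxy]
  have hker : ∀ n : N, n ∈ φ.ker ↔ (n : G) ∈ V := by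
    intro n
    rw [MonoidHom.mem_ker]
    constructor
    · intro h
      apply hC
      · have h1 : (φ n px).1 = px.1 := by rw [h]; rfl
        rw [hφ] at h1
        exact mul_inv_eq_iff_eq_mul.1 h1
      · have h1 : (φ n py).1 = py.1 := by rw [h]; rfl
        rw [hφ] at h1
        exact mul_inv_eq_iff_eq_mul.1 h1
    · intro h
      apply Equiv.ext
      intro v
      apply Subtype.ext
      rw [hφ]
      show (n : G) * v.1 * (n : G)⁻¹ = v.1
      rw [mul_inv_eq_iff_eq_mul]
      rcases hcases v with rfl | rfl | rfl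
      · exact hVx _ h
      · exact hVy _ h
      · show (n : G) * (x * y) = x * y * (n : G)
        rw [← mul_assoc, hVx _ h, mul_assoc, hVy _ h, mul_assoc]
  have hVN : V ≤ N := Subgroup.le_normalizer
  have hkercard : Nat.card φ.ker = 4 := by
    have h1 : φ.ker = V.subgroupOf N := by
      ext n
      rw [hker, Subgroup.mem_subgroupOf]
    rw [h1, Nat.card_congr (Subgroup.subgroupOfEquivOfLe hVN).toEquiv, hVcard]
  -- the images of `g` and `s`
  set g' : N := ⟨g, hgN⟩ with hg'
  set s' : N := ⟨s, hsN⟩ with hs'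
  have hg'3 : φ g' ^ 3 = 1 := by
    rw [← map_pow]
    have : g' ^ 3 = 1 := Subtype.ext (by rw [Subgroup.coe_pow]; exact hg3)
    rw [this, map_one]
  have hg'1 : φ g' ≠ 1 := by
    intro h
    have h1 : (φ g' px).1 = px.1 := by rw [h]; rfl
    rw [hφ] at h1
    exact hne (h1.symm.trans hgx)
  have hs'2 : φ s' ^ 2 = 1 := by
    apply Equiv.ext
    intro v
    apply Subtype.ext
    rw [pow_two, Equiv.Perm.mul_apply, hφ, hφ]
    show s * (s * v.1 * s⁻¹) * s⁻¹ = v.1
    rcases hcases v with rfl | rfl | rfl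
    · show s * (s * x * s⁻¹) * s⁻¹ = x
      rw [hsx, hsx]
    · show s * (s * y * s⁻¹) * s⁻¹ = y
      rw [hsy, hsxy]
    · show s * (s * (x * y) * s⁻¹) * s⁻¹ = x * y
      rw [hsxy, hsy]
  have hs'1 : φ s' ≠ 1 := by
    intro h
    have h1 : (φ s' py).1 = py.1 := by rw [h]; rfl
    rw [hφ] at h1
    exact hyxy (h1.symm.trans hsy)
  have hordg : orderOf (φ g') = 3 := orderOf_eq_prime hg'3 hg'1
  have hords : orderOf (φ s') = 2 := orderOf_eq_prime hs'2 hs'1
  have hpermcard : Nat.card (Equiv.Perm (Inv3 x y hx hy hxy)) = 6 := by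
    rw [Nat.card_eq_fintype_card, Fintype.card_perm, hcardI]
    rfl
  have hrange : Nat.card φ.range = 6 := by
    apply Nat.dvd_antisymm
    · rw [← hpermcard]
      exact Subgroup.card_subgroup_dvd_card _
    · have h3 : 3 ∣ Nat.card φ.range := by
        have := orderOf_dvd_natCard (⟨φ g', MonoidHom.mem_range.2 ⟨g', rfl⟩⟩ : φ.range)
        rwa [Subgroup.orderOf_mk, hordg] at this
      have h2 : 2 ∣ Nat.card φ.range := by
        have := orderOf_dvd_natCard (⟨φ s', MonoidHom.mem_range.2 ⟨s', rfl⟩⟩ : φ.range)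
        rwa [Subgroup.orderOf_mk, hords] at this
      exact Nat.Coprime.mul_dvd_of_dvd_of_dvd (by norm_num) h2 h3
  have hNcard : Nat.card N = 24 := by
    have h1 := Subgroup.card_mul_index φ.ker
    rw [Subgroup.index_ker, hkercard, hrange] at h1
    rw [← h1]
  haveI : Finite N := Nat.finite_of_card_ne_zero (by rw [hNcard]; norm_num)
  refine ⟨N, Cfsg.Agent.S1012.result hNcard ?_⟩
  intro n hn6
  have hn6' : n ^ 6 = 1 := by rw [← hn6]; exact pow_orderOf_eq_one n
  -- `n²` is not in `V`
  have hn2 : φ n ^ 2 ≠ 1 := by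
    intro h
    rw [← map_pow] at h
    have h1 : ((n ^ 2 : N) : G) ∈ V := (hker _).1 (MonoidHom.mem_ker.2 h)
    -- elements of `V` square to one
    have h2 : ((n ^ 2 : N) : G) * ((n ^ 2 : N) : G) = 1 := by
      rcases mem_kleinOf.1 h1 with h | h | h | h
      · rw [h, one_mul]
      · rw [h, hx]
      · rw [h, hy]
      · rw [h, mul_assoc, ← mul_assoc y, ← hxy, mul_assoc, hy, mul_one, hx]
    have h3 : n ^ 4 = 1 := by
      apply Subtype.ext
      have : (n ^ 4 : N) = n ^ 2 * n ^ 2 := by rw [← pow_add]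
      rw [this, Subgroup.coe_mul, h2]
      rfl
    have h4 : orderOf n ∣ 4 := orderOf_dvd_of_pow_eq_one h3
    rw [hn6] at h4
    norm_num at h4
  have hn3 : φ n ^ 3 = 1 := by
    rcases perm_sq_or_cube hcardI (φ n) with h | h
    · exact absurd h hn2
    · exact h
  -- `n³` is an involution of `V` fixed by `n`
  have hm : ((n ^ 3 : N) : G) ∈ V := by
    apply (hker _).1
    rw [MonoidHom.mem_ker, map_pow]
    exact hn3
  have hm1 : ((n ^ 3 : N) : G) ≠ 1 := by
    intro h
    have h3 : n ^ 3 = 1 := Subtype.ext h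
    have h4 : orderOf n ∣ 3 := orderOf_dvd_of_pow_eq_one h3
    rw [hn6] at h4
    norm_num at h4
  let pm : Inv3 x y hx hy hxy := ⟨((n ^ 3 : N) : G), hm, hm1⟩
  have hfix : φ n pm = pm := by
    apply Subtype.ext
    rw [hφ]
    show (n : G) * ((n ^ 3 : N) : G) * (n : G)⁻¹ = ((n ^ 3 : N) : G)
    rw [Subgroup.coe_pow, mul_inv_eq_iff_eq_mul, ← pow_succ', ← pow_succ]
  have hone := perm_fix hcardI (φ n) pm hfix hn3
  apply hn2
  rw [hone, one_pow]

end main

end Cfsg.Agent.Helper13.S4Recog
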