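import Mathlib
import Cfsg.Agent.Lib.Helper13.PSL2A4
import Cfsg.Agent.Lib.Helper13.S4Recog

set_option autoImplicit false
set_option linter.unusedSectionVars false

namespace Cfsg.Agent.Helper13.PSL2S4

open Matrix Cfsg.Agent.Helper12 Cfsg.Agent.Helper13 Cfsg.Agent.Helper13.SL2TZ Cfsg.Agent.S2508
  Cfsg.Agent.Helper13.PSL2Invol Cfsg.Agent.Helper13.SL2Torus Cfsg.Agent.Helper13.KleinCount
  Cfsg.Agent.Helper13.PSL2Klein Cfsg.Agent.Helper13.Quat

section
variable {F : Type*} [Field F] [Fintype F]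

/-- an element commuting with both members of a quaternion pair is central -/
theorem comm_both (hF : ringChar F ≠ 2) {a b : SpecialLinearGroup (Fin 2) F} (h : QP a b)
    (c : SpecialLinearGroup (Fin 2) F) (hca : c * a = a * c) (hcb : c * b = b * c) :
    c = 1 ∨ c = -1 := by
  have h2 : (2 : F) ≠ 0 := Ring.two_ne_zero hF
  obtain ⟨s, t, hst, hdet⟩ := cent_form hF a c h.1 hca
  set A : Matrix (Fin 2) (Fin 2) F := (a : Matrix (Fin 2) (Fin 2) F) with hA
  set B : Matrix (Fin 2) (Fin 2) F := (b : Matrix (Fin 2) (Fin 2) F) with hB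
  have htb : B.trace = 0 := trace_of_anti hF h.2
  have hAA : A * A = -1 := coe_mul_self_of_trace a h.1
  have hBB : B * B = -1 := coe_mul_self_of_trace b htb
  have hBA : B * A = -(A * B) := coe_anti h.2
  have hCB : (c : Matrix (Fin 2) (Fin 2) F) * B = B * (c : Matrix (Fin 2) (Fin 2) F) := by
    rw [hB, ← Matrix.SpecialLinearGroup.coe_mul, ← Matrix.SpecialLinearGroup.coe_mul, hcb]
  rw [hst] at hCB
  simp only [Matrix.add_mul, Matrix.mul_add, Matrix.smul_mul, Matrix.mul_smul, Matrix.one_mul,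
    Matrix.mul_one, hBA, smul_neg] at hCB
  -- `2 t A B = 0`
  have h3 : (2 * t) • (A * B) = 0 := by
    have : t • (A * B) = -(t • (A * B)) := add_left_cancel hCB
    rw [mul_smul, two_smul]
    nth_rewrite 1 [this]
    exact neg_add_cancel _
  have hAB0 : A * B ≠ 0 := by
    intro h0
    have : A * B * (A * B) = -1 := by
      calc A * B * (A * B) = A * (B * A) * B := by simp only [Matrix.mul_assoc]
        _ = -(A * A * (B * B)) := by
            rw [hBA]
            simp only [Matrix.mul_neg, Matrix.neg_mul, Matrix.mul_assoc]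
        _ = -1 := by rw [hAA, hBB]; simp
    rw [h0, Matrix.zero_mul] at this
    have h00 := congrFun (congrFun this 0) 0
    simp at h00
  have ht : t = 0 := by
    rcases smul_eq_zero.1 h3 with h4 | h4
    · rcases mul_eq_zero.1 h4 with h5 | h5
      · exact absurd h5 h2
      · exact h5
    · exact absurd h4 hAB0
  rw [ht, mul_zero, add_zero] at hdet
  rw [ht, zero_smul, add_zero] at hst
  have hs : s = 1 ∨ s = -1 := mul_self_eq_one_iff.1 hdet
  rcases hs with rfl | rfl
  · left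
    apply Subtype.ext
    rw [hst, one_smul, Matrix.SpecialLinearGroup.coe_one]
  · right
    apply Subtype.ext
    rw [hst, Matrix.SpecialLinearGroup.coe_neg, Matrix.SpecialLinearGroup.coe_one, neg_smul,
      one_smul]

theorem comm_or_anti {c a : SpecialLinearGroup (Fin 2) F} (h : pr c * pr a = pr a * pr c) :
    c * a = a * c ∨ c * a = -(a * c) := by
  rw [← map_mul, ← map_mul, pr_eq_iff] at h
  rcases h with h | h
  · exact Or.inl h.symm
  · right
    rw [h, neg_neg]

/-- the centraliser of the four-group of a quaternion pair is the four-group -/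
theorem centralizer_mem (hF : ringChar F ≠ 2) {a b : SpecialLinearGroup (Fin 2) F} (h : QP a b)
    (c : SpecialLinearGroup (Fin 2) F) (hca : pr c * pr a = pr a * pr c)
    (hcb : pr c * pr b = pr b * pr c) :
    pr c = 1 ∨ pr c = pr a ∨ pr c = pr b ∨ pr c = pr a * pr b := by
  have hab : a * b = -(b * a) := anti_symm h.2
  -- stage one: make `c` commute with `a`
  obtain ⟨c₁, hc₁a, hc₁, hc₁b⟩ : ∃ c₁ : SpecialLinearGroup (Fin 2) F, c₁ * a = a * c₁ ∧
      (pr c = pr c₁ ∨ pr c = pr c₁ * pr b) ∧ (c₁ * b = b * c₁ ∨ c₁ * b = -(b * c₁)) := by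
    rcases comm_or_anti hca with h1 | h1
    · exact ⟨c, h1, Or.inl rfl, comm_or_anti hcb⟩
    · refine ⟨c * b⁻¹, anti_torsor h.2 h1, Or.inr ?_, ?_⟩
      · rw [← map_mul, inv_mul_cancel_right]
      · rcases comm_or_anti hcb with h2 | h2
        · left
          rw [inv_mul_cancel_right, ← mul_assoc, ← h2, mul_inv_cancel_right]
        · right
          rw [inv_mul_cancel_right, ← mul_assoc, ← neg_mul, ← h2, mul_inv_cancel_right]
  -- stage two: make it commute with `b` as well
  obtain ⟨c₂, hc₂a, hc₂b, hc₂⟩ : ∃ c₂ : SpecialLinearGroup (Fin 2) F, c₂ * a = a * c₂ ∧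
      c₂ * b = b * c₂ ∧ (pr c₁ = pr c₂ ∨ pr c₁ = pr c₂ * pr a) := by
    rcases hc₁b with h1 | h1
    · exact ⟨c₁, hc₁a, h1, Or.inl rfl⟩
    · refine ⟨c₁ * a⁻¹, ?_, anti_torsor hab h1, Or.inr ?_⟩
      · rw [inv_mul_cancel_right, ← mul_assoc, ← hc₁a, mul_inv_cancel_right]
      · rw [← map_mul, inv_mul_cancel_right]
  have hone : pr c₂ = 1 := by
    rcases comm_both hF h c₂ hc₂a hc₂b with h1 | h1
    · rw [h1, map_one]
    · rw [h1, pr_neg, map_one]
  obtain ⟨-, -, -, -, -, hcomm⟩ := h.facts hF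
  rcases hc₁ with h1 | h1 <;> rcases hc₂ with h2 | h2
  · left; rw [h1, h2, hone]
  · right; left; rw [h1, h2, hone, one_mul]
  · right; right; left; rw [h1, h2, hone, one_mul]
  · right; right; right; rw [h1, h2, hone, one_mul]

/-- `PSL₂(q)` contains `S₄` when `2` is a square in the field of odd order -/
theorem exists_S4_of_sqrt_two (hF : ringChar F ≠ 2) (ρ : F) (hρ : ρ * ρ = 2) :
    ∃ H : Subgroup (ProjectiveSpecialLinearGroup (Fin 2) F),
      Nonempty (H ≃* Equiv.Perm (Fin 4)) := by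
  set a : SpecialLinearGroup (Fin 2) F := compO 0 with ha
  have hta : (a : Matrix (Fin 2) (Fin 2) F).trace = 0 := compO_trace 0
  obtain ⟨b, hb⟩ := exists_anti hF a hta
  have hqp : QP a b := ⟨hta, hb⟩
  obtain ⟨h1, h2, h3, h4, h5, h6⟩ := hqp.facts hF
  obtain ⟨t, hta', htb', ht3⟩ := PSL2A4.exists_three hF hqp
  obtain ⟨d, hda, hdd⟩ := exists_sqrt_of_two hF a hta ρ hρ
  have hdbd : d * b * d = b := conj_anti hF a b d hta hb hda
  have haa : a * a = -1 := mul_self_eq_neg_one_of_trace a hta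
  refine S4Recog.exists_S4 (pr a) (pr b) (pr t) (pr d) h4 h5 h6 h1 h2 h3 ?_ ?_ ?_ ?_ ?_ ?_
  · rw [← map_pow, ht3, pr_neg, map_one]
  · rw [← map_mul, hta', map_mul, mul_inv_cancel_right]
  · rw [← map_mul, htb', map_mul, mul_inv_cancel_right, map_mul]
  · rw [← map_mul, hda, map_mul, mul_inv_cancel_right]
  · -- `d b d⁻¹ = b d⁻² = b a⁻¹ = -(b a) = a b`
    rw [mul_inv_eq_iff_eq_mul, ← map_mul, ← map_mul, ← map_mul]
    have e1 : d * b = b * d⁻¹ := by
      rw [eq_mul_inv_iff_mul_eq]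
      exact hdbd
    have e2 : d⁻¹ = -(a * d) := by
      rw [inv_eq_iff_mul_eq_one, mul_neg, ← mul_assoc, hda, mul_assoc, hdd, haa, neg_neg]
    have e3 : d * b = a * b * d := by
      rw [e1, e2, mul_neg, ← mul_assoc, hb, neg_mul, neg_neg]
    rw [e3]
  · intro c hcx hcy
    obtain ⟨c', rfl⟩ := pr_surjective c
    rw [mem_kleinOf]
    exact centralizer_mem hF hqp c' hcx hcy

end

end Cfsg.Agent.Helper13.PSL2S4
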