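import Mathlib
import Cfsg.Agent.Lib.Helper11.G2TTab

/-!
# S2371 piece COREW1 (helper11's skeleton; proof by helper13)

A Weyl group element `w` with `χ (w v) = χ v ^ q` for a nontrivial character `χ` of order `r`
(`r` a good prime for `q`) is a rotation by `±120°`, and `χ` is regular.
-/

set_option autoImplicit false

namespace Cfsg.Agent.Helper11.G2T

/-- classification of the twelve Weyl group elements by trace and determinant of their matrix on `a, b` -/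
theorem g2tcorew1_class : ∀ L ∈ wActs,
    (L = rot2 ∨ L = rot4) ∨
    (rcA (L.getD 7 0) + rcB (L.getD 6 0) = 2 ∧
      rcA (L.getD 7 0) * rcB (L.getD 6 0) - rcB (L.getD 7 0) * rcA (L.getD 6 0) = 1) ∨
    (rcA (L.getD 7 0) + rcB (L.getD 6 0) = 0 ∧
      rcA (L.getD 7 0) * rcB (L.getD 6 0) - rcB (L.getD 7 0) * rcA (L.getD 6 0) = -1) ∨
    (rcA (L.getD 7 0) + rcB (L.getD 6 0) = -2 ∧
      rcA (L.getD 7 0) * rcB (L.getD 6 0) - rcB (L.getD 7 0) * rcA (L.getD 6 0) = 1) ∨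
    (rcA (L.getD 7 0) + rcB (L.getD 6 0) = 1 ∧
      rcA (L.getD 7 0) * rcB (L.getD 6 0) - rcB (L.getD 7 0) * rcA (L.getD 6 0) = 1) := by
  decide

theorem g2tcorew1_det2 : ∀ v < 12,
    (rcA v * rcB (rot2.getD v 0) - rcB v * rcA (rot2.getD v 0) = 1 ∨
     rcA v * rcB (rot2.getD v 0) - rcB v * rcA (rot2.getD v 0) = -1 ∨
     rcA v * rcB (rot2.getD v 0) - rcB v * rcA (rot2.getD v 0) = 3 ∨
     rcA v * rcB (rot2.getD v 0) - rcB v * rcA (rot2.getD v 0) = -3) := by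
  decide

theorem g2tcorew1_det4 : ∀ v < 12,
    (rcA v * rcB (rot4.getD v 0) - rcB v * rcA (rot4.getD v 0) = 1 ∨
     rcA v * rcB (rot4.getD v 0) - rcB v * rcA (rot4.getD v 0) = -1 ∨
     rcA v * rcB (rot4.getD v 0) - rcB v * rcA (rot4.getD v 0) = 3 ∨
     rcA v * rcB (rot4.getD v 0) - rcB v * rcA (rot4.getD v 0) = -3) := by
  decide

/-- elimination: two multiplicative relations give `ξ ^ det = η ^ det = 1` -/
theorem g2tcorew1_elim {K : Type*} [Field K] (ξ η : Kˣ) (a b c d : ℤ) (h1 : ξ ^ a * η ^ b = 1)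
    (h2 : ξ ^ c * η ^ d = 1) : ξ ^ (a * d - b * c) = 1 ∧ η ^ (a * d - b * c) = 1 := by
  have e1 : ξ ^ a = (η ^ b)⁻¹ := eq_inv_of_mul_eq_one_left h1
  have e2 : ξ ^ c = (η ^ d)⁻¹ := eq_inv_of_mul_eq_one_left h2
  have f1 : η ^ b = (ξ ^ a)⁻¹ := eq_inv_of_mul_eq_one_right h1
  have f2 : η ^ d = (ξ ^ c)⁻¹ := eq_inv_of_mul_eq_one_right h2
  constructor
  · have h3 : ξ ^ (a * d) = ξ ^ (b * c) := by
      rw [zpow_mul, e1, mul_comm b c, zpow_mul ξ c b, e2, inv_zpow, inv_zpow, ← zpow_mul, ← zpow_mul,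
        mul_comm d b]
    rw [zpow_sub, h3, mul_inv_cancel]
  · have h3 : η ^ (a * d) = η ^ (b * c) := by
      rw [mul_comm a d, zpow_mul η d a, f2, zpow_mul η b c, f1, inv_zpow, inv_zpow, ← zpow_mul,
        ← zpow_mul, mul_comm c a]
    rw [zpow_sub, h3, mul_inv_cancel]

theorem g2tcorew1_eq_one {K : Type*} [Field K] {ξ : Kˣ} {r : ℕ} (hr : r.Prime) (hξ : ξ ^ r = 1)
    {d : ℤ} (hd : ξ ^ d = 1) (hnd : ¬ (r : ℤ) ∣ d) : ξ = 1 := by
  have h1 : orderOf ξ ∣ r := orderOf_dvd_of_pow_eq_one hξ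
  rcases (Nat.dvd_prime hr).1 h1 with h | h
  · exact orderOf_eq_one_iff.1 h
  · exfalso
    apply hnd
    rw [← h]
    exact orderOf_dvd_iff_zpow_eq_one.2 hd

theorem g2tcorew1_cop (q r : ℕ) (h : GoodPrime q r) :
    ¬ (r : ℤ) ∣ (q : ℤ) - 1 ∧ ¬ (r : ℤ) ∣ (q : ℤ) + 1 ∧ ¬ (r : ℤ) ∣ (q : ℤ) ^ 2 - q + 1 := by
  have hm : (r : ℤ) ∣ (q : ℤ) ^ 2 + q + 1 := by exact_mod_cast Int.natCast_dvd_natCast.2 h.dvd
  have hr1 : ¬ (r : ℤ) ∣ 1 := by
    intro h1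
    have : r ∣ 1 := by exact_mod_cast h1
    exact h.prime.one_lt.ne' (Nat.dvd_one.1 this)
  refine ⟨?_, ?_, ?_⟩
  · intro h1
    have h3 : (r : ℤ) ∣ 3 := by
      have e : (3 : ℤ) = ((q : ℤ) ^ 2 + q + 1) - ((q : ℤ) - 1) * ((q : ℤ) + 2) := by ring
      rw [e]; exact dvd_sub hm (Dvd.dvd.mul_right h1 _)
    have : r ∣ 3 := by exact_mod_cast h3
    rcases (Nat.dvd_prime Nat.prime_three).1 this with h' | h'
    · exact h.prime.one_lt.ne' h'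
    · exact h.ne3 h'
  · intro h1
    apply hr1
    have e : (1 : ℤ) = ((q : ℤ) ^ 2 + q + 1) - ((q : ℤ) + 1) * (q : ℤ) := by ring
    rw [e]; exact dvd_sub hm (Dvd.dvd.mul_right h1 _)
  · intro h1
    have h2q : (r : ℤ) ∣ 2 * (q : ℤ) := by
      have e : 2 * (q : ℤ) = ((q : ℤ) ^ 2 + q + 1) - ((q : ℤ) ^ 2 - q + 1) := by ring
      rw [e]; exact dvd_sub hm h1
    have hp : Prime (r : ℤ) := Nat.prime_iff_prime_int.1 h.prime
    rcases hp.dvd_mul.1 h2q with h2 | hq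
    · have : r ∣ 2 := by exact_mod_cast h2
      rcases (Nat.dvd_prime Nat.prime_two).1 this with h' | h'
      · exact h.prime.one_lt.ne' h'
      · exact h.ne2 h'
    · apply hr1
      have e : (1 : ℤ) = ((q : ℤ) ^ 2 + q + 1) - (q : ℤ) * ((q : ℤ) + 1) := by ring
      rw [e]; exact dvd_sub hm (Dvd.dvd.mul_right hq _)

theorem g2tcorew1_chi7 {K : Type*} [Field K] (ξ η : Kˣ) : chiXY ξ η 7 = ξ := by
  show ξ ^ (1 : ℤ) * η ^ (0 : ℤ) = ξ
  rw [zpow_one, zpow_zero, mul_one]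

theorem g2tcorew1_chi6 {K : Type*} [Field K] (ξ η : Kˣ) : chiXY ξ η 6 = η := by
  show ξ ^ (0 : ℤ) * η ^ (1 : ℤ) = η
  rw [zpow_one, zpow_zero, one_mul]

theorem corew1 {K : Type*} [Field K] (q r : ℕ) (hr : GoodPrime q r) (ξ η : Kˣ) (hξ : ξ ^ r = 1)
    (hη : η ^ r = 1) (hne : ¬ (ξ = 1 ∧ η = 1)) (L : List ℕ) (hL : L ∈ wActs)
    (h : ∀ v < 12, chiXY ξ η (L.getD v 0) = chiXY ξ η v ^ q) :
    (L = rot2 ∨ L = rot4) ∧ ∀ v < 12, chiXY ξ η v ≠ 1 := by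
  obtain ⟨hc1, hc2, hc3⟩ := g2tcorew1_cop q r hr
  have hp : Prime (r : ℤ) := Nat.prime_iff_prime_int.1 hr.prime
  have h7 := h 7 (by norm_num)
  have h6 := h 6 (by norm_num)
  rw [g2tcorew1_chi7] at h7
  rw [g2tcorew1_chi6] at h6
  -- the two relations
  have r1 : ξ ^ (rcA (L.getD 7 0) - (q : ℤ)) * η ^ (rcB (L.getD 7 0)) = 1 := by
    have h7' : ξ ^ rcA (L.getD 7 0) * η ^ rcB (L.getD 7 0) = ξ ^ q := h7
    rw [zpow_sub, zpow_natCast, mul_right_comm, h7', mul_inv_cancel]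
  have r2 : ξ ^ (rcA (L.getD 6 0)) * η ^ (rcB (L.getD 6 0) - (q : ℤ)) = 1 := by
    have h6' : ξ ^ rcA (L.getD 6 0) * η ^ rcB (L.getD 6 0) = η ^ q := h6
    rw [zpow_sub, zpow_natCast, ← mul_assoc, h6', mul_inv_cancel]
  obtain ⟨k1, k2⟩ := g2tcorew1_elim ξ η _ _ _ _ r1 r2
  have hd : ∀ tr det : ℤ, rcA (L.getD 7 0) + rcB (L.getD 6 0) = tr →
      rcA (L.getD 7 0) * rcB (L.getD 6 0) - rcB (L.getD 7 0) * rcA (L.getD 6 0) = det →
      (rcA (L.getD 7 0) - (q : ℤ)) * (rcB (L.getD 6 0) - (q : ℤ)) -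
        rcB (L.getD 7 0) * rcA (L.getD 6 0) = (q : ℤ) ^ 2 - tr * q + det := by
    intro tr det h1 h2
    rw [← h1, ← h2]; ring
  have hbad : ∀ D : ℤ, (rcA (L.getD 7 0) - (q : ℤ)) * (rcB (L.getD 6 0) - (q : ℤ)) -
        rcB (L.getD 7 0) * rcA (L.getD 6 0) = D → ¬ (r : ℤ) ∣ D → False := by
    intro D hD hnd
    rw [hD] at k1 k2
    exact hne ⟨g2tcorew1_eq_one hr.prime hξ k1 hnd, g2tcorew1_eq_one hr.prime hη k2 hnd⟩
  have hrot : L = rot2 ∨ L = rot4 := by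
    rcases g2tcorew1_class L hL with h0 | ⟨ht, hdet⟩ | ⟨ht, hdet⟩ | ⟨ht, hdet⟩ | ⟨ht, hdet⟩
    · exact h0
    · exfalso
      refine hbad _ (hd _ _ ht hdet) ?_
      have e : (q : ℤ) ^ 2 - 2 * q + 1 = ((q : ℤ) - 1) * ((q : ℤ) - 1) := by ring
      rw [e]
      intro hdv
      rcases hp.dvd_mul.1 hdv with h' | h' <;> exact hc1 h'
    · exfalso
      refine hbad _ (hd _ _ ht hdet) ?_
      have e : (q : ℤ) ^ 2 - 0 * q + -1 = ((q : ℤ) - 1) * ((q : ℤ) + 1) := by ring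
      rw [e]
      intro hdv
      rcases hp.dvd_mul.1 hdv with h' | h'
      · exact hc1 h'
      · exact hc2 h'
    · exfalso
      refine hbad _ (hd _ _ ht hdet) ?_
      have e : (q : ℤ) ^ 2 - -2 * q + 1 = ((q : ℤ) + 1) * ((q : ℤ) + 1) := by ring
      rw [e]
      intro hdv
      rcases hp.dvd_mul.1 hdv with h' | h' <;> exact hc2 h'
    · exfalso
      refine hbad _ (hd _ _ ht hdet) ?_
      have e : (q : ℤ) ^ 2 - 1 * q + 1 = (q : ℤ) ^ 2 - q + 1 := by ring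
      rw [e]
      exact hc3
  refine ⟨hrot, ?_⟩
  intro v hv hχ
  have hχ' : chiXY ξ η (L.getD v 0) = 1 := by rw [h v hv, hχ, one_pow]
  obtain ⟨m1, m2⟩ := g2tcorew1_elim ξ η (rcA v) (rcB v) (rcA (L.getD v 0)) (rcB (L.getD v 0)) hχ hχ'
  have hD : ¬ (r : ℤ) ∣ rcA v * rcB (L.getD v 0) - rcB v * rcA (L.getD v 0) := by
    have hcases : (rcA v * rcB (L.getD v 0) - rcB v * rcA (L.getD v 0) = 1 ∨
        rcA v * rcB (L.getD v 0) - rcB v * rcA (L.getD v 0) = -1 ∨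
        rcA v * rcB (L.getD v 0) - rcB v * rcA (L.getD v 0) = 3 ∨
        rcA v * rcB (L.getD v 0) - rcB v * rcA (L.getD v 0) = -3) := by
      rcases hrot with rfl | rfl
      · exact g2tcorew1_det2 v hv
      · exact g2tcorew1_det4 v hv
    have hr1 : ¬ r ∣ 1 := fun h1 => hr.prime.one_lt.ne' (Nat.dvd_one.1 h1)
    have hr3 : ¬ r ∣ 3 := by
      intro h3
      rcases (Nat.dvd_prime Nat.prime_three).1 h3 with h' | h'
      · exact hr.prime.one_lt.ne' h'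
      · exact hr.ne3 h'
    intro hdv
    have hdv' := Int.natAbs_dvd_natAbs.2 hdv
    rw [Int.natAbs_natCast] at hdv'
    rcases hcases with e | e | e | e <;> rw [e] at hdv'
    · exact hr1 hdv'
    · exact hr1 hdv'
    · exact hr3 hdv'
    · exact hr3 hdv'
  exact hne ⟨g2tcorew1_eq_one hr.prime hξ m1 hD, g2tcorew1_eq_one hr.prime hη m2 hD⟩

end Cfsg.Agent.Helper11.G2T
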