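import Mathlib
import Cfsg.Agent.Lib.Helper11.G2TTab

/-!
# S2371 piece COREW3 (helper11's skeleton; proof by helper13)

Fixed-point equations of the twisted torus: `χ ∘ rot = χ ^ q` iff `η = ξ ^ (q - 1)` (resp. `ξ ^ (-q - 2)`)
and `ξ ^ (q² + q + 1) = 1`.
-/

set_option autoImplicit false

namespace Cfsg.Agent.Helper11.G2T

theorem g2tcorew3_rot2_lin : ∀ v < 12, rcA (rot2.getD v 0) = rcA v - 3 * rcB v ∧
    rcB (rot2.getD v 0) = rcA v - 2 * rcB v := by decide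

theorem g2tcorew3_rot4_lin : ∀ v < 12, rcA (rot4.getD v 0) = -2 * rcA v + 3 * rcB v ∧
    rcB (rot4.getD v 0) = -rcA v + rcB v := by decide

theorem g2tcorew3_zpow_eq {K : Type*} [Field K] {ξ : Kˣ} {m : ℕ} (hm : ξ ^ m = 1) (e₁ e₂ k : ℤ)
    (h : e₁ = e₂ + k * m) : ξ ^ e₁ = ξ ^ e₂ := by
  rw [h, zpow_add, zpow_mul', zpow_natCast, hm, one_zpow, mul_one]

/-- `χ v` as a power of `ξ` when `η = ξ ^ c` -/
theorem g2tcorew3_chi {K : Type*} [Field K] (ξ : Kˣ) (c : ℤ) (v : ℕ) :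
    chiXY ξ (ξ ^ c) v = ξ ^ (rcA v + c * rcB v) := by
  unfold chiXY
  rw [← zpow_mul, ← zpow_add]

theorem corew3_rot2 {K : Type*} [Field K] (q : ℕ) (ξ η : Kˣ) :
    (∀ v < 12, chiXY ξ η (rot2.getD v 0) = chiXY ξ η v ^ q) ↔
      (η = ξ ^ ((q : ℤ) - 1) ∧ ξ ^ (q ^ 2 + q + 1) = 1) := by
  constructor
  · intro h
    have h7 := h 7 (by norm_num)
    have h6 := h 6 (by norm_num)
    have e7 : chiXY ξ η (rot2.getD 7 0) = ξ * η := by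
      show ξ ^ (1 : ℤ) * η ^ (1 : ℤ) = ξ * η
      rw [zpow_one, zpow_one]
    have e7' : chiXY ξ η 7 = ξ := by
      show ξ ^ (1 : ℤ) * η ^ (0 : ℤ) = ξ
      rw [zpow_one, zpow_zero, mul_one]
    have e6 : chiXY ξ η (rot2.getD 6 0) = ξ ^ (-3 : ℤ) * η ^ (-2 : ℤ) := rfl
    have e6' : chiXY ξ η 6 = η := by
      show ξ ^ (0 : ℤ) * η ^ (1 : ℤ) = η
      rw [zpow_one, zpow_zero, one_mul]
    rw [e7, e7'] at h7
    rw [e6, e6'] at h6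
    have hη : η = ξ ^ ((q : ℤ) - 1) := by
      rw [zpow_sub, zpow_one, zpow_natCast, ← h7]
      rw [mul_comm ξ η, mul_inv_cancel_right]
    refine ⟨hη, ?_⟩
    rw [hη] at h6
    rw [← zpow_mul, ← zpow_add, ← zpow_natCast, ← zpow_mul] at h6
    -- ξ ^ (-3 + (q-1) * -2) = ξ ^ ((q-1) * q)
    have h1 : ξ ^ (((q : ℤ) - 1) * q - (-3 + ((q : ℤ) - 1) * -2)) = 1 := by
      rw [zpow_sub, ← h6, mul_inv_cancel]
    have h2 : ((q : ℤ) - 1) * q - (-3 + ((q : ℤ) - 1) * -2) = ((q ^ 2 + q + 1 : ℕ) : ℤ) := by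
      push_cast; ring
    rw [h2, zpow_natCast] at h1
    exact h1
  · rintro ⟨hη, hm⟩ v hv
    obtain ⟨hA, hB⟩ := g2tcorew3_rot2_lin v hv
    rw [hη, g2tcorew3_chi, g2tcorew3_chi, ← zpow_natCast, ← zpow_mul, hA, hB]
    apply g2tcorew3_zpow_eq hm _ _ (-rcB v)
    push_cast; ring

theorem corew3_rot4 {K : Type*} [Field K] (q : ℕ) (ξ η : Kˣ) :
    (∀ v < 12, chiXY ξ η (rot4.getD v 0) = chiXY ξ η v ^ q) ↔
      (η = ξ ^ (-(q : ℤ) - 2) ∧ ξ ^ (q ^ 2 + q + 1) = 1) := by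
  constructor
  · intro h
    have h7 := h 7 (by norm_num)
    have h6 := h 6 (by norm_num)
    have e7 : chiXY ξ η (rot4.getD 7 0) = ξ ^ (-2 : ℤ) * η ^ (-1 : ℤ) := rfl
    have e7' : chiXY ξ η 7 = ξ := by
      show ξ ^ (1 : ℤ) * η ^ (0 : ℤ) = ξ
      rw [zpow_one, zpow_zero, mul_one]
    have e6 : chiXY ξ η (rot4.getD 6 0) = ξ ^ (3 : ℤ) * η := by
      show ξ ^ (3 : ℤ) * η ^ (1 : ℤ) = ξ ^ (3 : ℤ) * η
      rw [zpow_one]
    have e6' : chiXY ξ η 6 = η := by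
      show ξ ^ (0 : ℤ) * η ^ (1 : ℤ) = η
      rw [zpow_one, zpow_zero, one_mul]
    rw [e7, e7'] at h7
    rw [e6, e6'] at h6
    have hη : η = ξ ^ (-(q : ℤ) - 2) := by
      have h7' : η ^ (-1 : ℤ) = ξ ^ ((q : ℤ) + 2) := by
        rw [zpow_add, zpow_natCast, ← h7]
        rw [mul_comm (ξ ^ (-2 : ℤ)), mul_assoc, ← zpow_add]
        norm_num
      have : η = (η ^ (-1 : ℤ)) ^ (-1 : ℤ) := by rw [← zpow_mul]; norm_num
      rw [this, h7', ← zpow_mul]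
      congr 1; ring
    refine ⟨hη, ?_⟩
    rw [hη] at h6
    rw [← zpow_add, ← zpow_natCast, ← zpow_mul] at h6
    have h1 : ξ ^ ((3 + (-(q : ℤ) - 2)) - (-(q : ℤ) - 2) * q) = 1 := by
      rw [zpow_sub, h6, mul_inv_cancel]
    have h2 : (3 + (-(q : ℤ) - 2)) - (-(q : ℤ) - 2) * q = ((q ^ 2 + q + 1 : ℕ) : ℤ) := by
      push_cast; ring
    rw [h2, zpow_natCast] at h1
    exact h1
  · rintro ⟨hη, hm⟩ v hv
    obtain ⟨hA, hB⟩ := g2tcorew3_rot4_lin v hv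
    rw [hη, g2tcorew3_chi, g2tcorew3_chi, ← zpow_natCast, ← zpow_mul, hA, hB]
    apply g2tcorew3_zpow_eq hm _ _ (rcB v)
    push_cast; ring

end Cfsg.Agent.Helper11.G2T
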