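import Mathlib
import Cfsg.Agent.Lib.Helper13.Hyperbolic

set_option autoImplicit false

namespace Cfsg.Agent.Helper13

open Module LinearMap

section glue
variable {F V V' : Type*} [Field F] [AddCommGroup V] [Module F V] [AddCommGroup V'] [Module F V']

/-- glue linear equivalences along complementary decompositions -/
theorem exists_glue (A B : Submodule F V) (A' B' : Submodule F V') (h : IsCompl A B)
    (h' : IsCompl A' B') (eA : A ≃ₗ[F] A') (eB : B ≃ₗ[F] B') :
    ∃ e : V ≃ₗ[F] V', (∀ a : A, e a = eA a) ∧ (∀ b : B, e b = eB b) := by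
  refine ⟨(Submodule.prodEquivOfIsCompl A B h).symm.trans
    ((eA.prodCongr eB).trans (Submodule.prodEquivOfIsCompl A' B' h')), ?_, ?_⟩
  · intro a
    show (Submodule.prodEquivOfIsCompl A' B' h') ((eA.prodCongr eB)
        ((Submodule.prodEquivOfIsCompl A B h).symm a)) = _
    rw [Submodule.prodEquivOfIsCompl_symm_apply_left A B h a]
    simp
  · intro b
    show (Submodule.prodEquivOfIsCompl A' B' h') ((eA.prodCongr eB)
        ((Submodule.prodEquivOfIsCompl A B h).symm b)) = _
    rw [Submodule.prodEquivOfIsCompl_symm_apply_right A B h b]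
    simp

/-- equivalence of lines matching the generators -/
theorem exists_span_equiv {v : V} {v' : V'} (hv : v ≠ 0) (hv' : v' ≠ 0) :
    ∃ e : (Submodule.span F {v}) ≃ₗ[F] (Submodule.span F {v'}),
      ∀ (hmem : v ∈ Submodule.span F {v}), ((e ⟨v, hmem⟩ : Submodule.span F {v'}) : V') = v' := by
  refine ⟨(LinearEquiv.toSpanNonzeroSingleton F V v hv).symm.trans
    (LinearEquiv.toSpanNonzeroSingleton F V' v' hv'), ?_⟩
  intro hmem
  have h1 : (LinearEquiv.toSpanNonzeroSingleton F V v hv).symm ⟨v, hmem⟩ = 1 := by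
    rw [LinearEquiv.symm_apply_eq, LinearEquiv.toSpanNonzeroSingleton_one]
  show ((LinearEquiv.toSpanNonzeroSingleton F V' v' hv')
    ((LinearEquiv.toSpanNonzeroSingleton F V v hv).symm ⟨v, hmem⟩) : V') = v'
  rw [h1, LinearEquiv.toSpanNonzeroSingleton_one]

end glue

section data
variable {F V : Type*} [Field F] [AddCommGroup V] [Module F V] [FiniteDimensional F V]

/-- a rank-one endomorphism of square zero is `x ↦ φ x • v` with `φ v = 0` -/
theorem rank_one_data (T : Module.End F V) (hrk : finrank F (range T) = 1) (hsq : T * T = 0) :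
    ∃ (v : V) (φ : Module.Dual F V) (u : V), v ≠ 0 ∧ φ u = 1 ∧ φ v = 0 ∧ ∀ x, T x = φ x • v := by
  obtain ⟨⟨v, hvr⟩, hv0, hspan⟩ := finrank_eq_one_iff'.mp hrk
  have hv : v ≠ 0 := fun h => hv0 (Subtype.ext h)
  obtain ⟨u, hu⟩ := hvr
  have hbot : v ∉ (⊥ : Submodule F V) := by simpa using hv
  obtain ⟨ψ₀, hψ₀, -⟩ := Submodule.exists_le_ker_of_notMem hbot
  set ψ : Module.Dual F V := (ψ₀ v)⁻¹ • ψ₀ with hψ
  have hψv : ψ v = 1 := by
    rw [hψ, LinearMap.smul_apply, smul_eq_mul, inv_mul_cancel₀ hψ₀]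
  have hT : ∀ x, T x = ψ (T x) • v := by
    intro x
    obtain ⟨c, hc⟩ := hspan ⟨T x, ⟨x, rfl⟩⟩
    have hc' : c • v = T x := congrArg Subtype.val hc
    rw [← hc', map_smul, hψv, smul_eq_mul, mul_one]
  refine ⟨v, ψ ∘ₗ T, u, hv, ?_, ?_, ?_⟩
  · rw [LinearMap.comp_apply, hu, hψv]
  · rw [LinearMap.comp_apply, ← hu, ← Module.End.mul_apply, hsq, LinearMap.zero_apply, map_zero]
  · intro x
    rw [LinearMap.comp_apply]
    exact hT x

omit [FiniteDimensional F V] in
theorem isCompl_ker_span (φ : Module.Dual F V) (u : V) (hu : φ u = 1) :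
    IsCompl (LinearMap.ker φ) (Submodule.span F {u}) := by
  apply IsCompl.of_eq
  · rw [eq_bot_iff]
    rintro x ⟨hx1, hx2⟩
    obtain ⟨c, rfl⟩ := Submodule.mem_span_singleton.mp hx2
    rw [SetLike.mem_coe, LinearMap.mem_ker, map_smul, hu, smul_eq_mul, mul_one] at hx1
    rw [hx1, zero_smul]
    exact Submodule.zero_mem _
  · rw [eq_top_iff]
    intro x _
    have : x = (x - φ x • u) + φ x • u := by abel
    rw [this]
    apply Submodule.add_mem_sup
    · rw [LinearMap.mem_ker, map_sub, map_smul, hu, smul_eq_mul, mul_one, sub_self]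
    · exact Submodule.smul_mem _ _ (Submodule.mem_span_singleton_self u)

theorem finrank_ker_dual (φ : Module.Dual F V) (u : V) (hu : φ u = 1) :
    finrank F (LinearMap.ker φ) + 1 = finrank F V := by
  have hsurj : LinearMap.range φ = ⊤ := by
    rw [LinearMap.range_eq_top]
    intro a
    exact ⟨a • u, by rw [map_smul, hu, smul_eq_mul, mul_one]⟩
  have := LinearMap.finrank_range_add_finrank_ker φ
  rw [hsurj, finrank_top, finrank_self] at this
  omega

end data

section conj
variable {F V : Type*} [Field F] [AddCommGroup V] [Module F V] [FiniteDimensional F V]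

/-- `GL(V)` is transitive on pairs (nonzero vector, functional killing it and taking value one somewhere) -/
theorem exists_intertwiner (v : V) (φ : Module.Dual F V) (u : V) (hv : v ≠ 0) (hu : φ u = 1)
    (hφv : φ v = 0) (v' : V) (φ' : Module.Dual F V) (u' : V) (hv' : v' ≠ 0) (hu' : φ' u' = 1)
    (hφv' : φ' v' = 0) : ∃ g : V ≃ₗ[F] V, g v = v' ∧ ∀ x, φ' (g x) = φ x := by
  -- inside the kernels
  set W := LinearMap.ker φ with hW
  set W' := LinearMap.ker φ' with hW'
  have hvW : v ∈ W := hφv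
  have hvW' : v' ∈ W' := hφv'
  have hvW0 : (⟨v, hvW⟩ : W) ≠ 0 := fun h => hv (congrArg Subtype.val h)
  have hvW0' : (⟨v', hvW'⟩ : W') ≠ 0 := fun h => hv' (congrArg Subtype.val h)
  obtain ⟨C, hC⟩ := Submodule.exists_isCompl (Submodule.span F {(⟨v, hvW⟩ : W)})
  obtain ⟨C', hC'⟩ := Submodule.exists_isCompl (Submodule.span F {(⟨v', hvW'⟩ : W')})
  have d1 := Submodule.finrank_add_eq_of_isCompl hC
  have d1' := Submodule.finrank_add_eq_of_isCompl hC'
  have d2 : finrank F W + 1 = finrank F V := finrank_ker_dual φ u hu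
  have d2' : finrank F W' + 1 = finrank F V := finrank_ker_dual φ' u' hu'
  have d3 : finrank F (Submodule.span F {(⟨v, hvW⟩ : W)}) = 1 := finrank_span_singleton hvW0
  have d3' : finrank F (Submodule.span F {(⟨v', hvW'⟩ : W')}) = 1 := finrank_span_singleton hvW0'
  have hCC : finrank F C = finrank F C' := by omega
  obtain ⟨eA, heA⟩ := exists_span_equiv (F := F) hvW0 hvW0'
  obtain ⟨gW, hgW1, -⟩ := exists_glue _ C _ C' hC hC' eA (LinearEquiv.ofFinrankEq _ _ hCC)
  have hgWv : gW ⟨v, hvW⟩ = ⟨v', hvW'⟩ := by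
    have := hgW1 ⟨⟨v, hvW⟩, Submodule.mem_span_singleton_self _⟩
    rw [this]
    exact heA (Submodule.mem_span_singleton_self _)
  -- the complements spanned by u, u'
  have hu0 : u ≠ 0 := by rintro rfl; rw [map_zero] at hu; exact zero_ne_one hu
  have hu0' : u' ≠ 0 := by rintro rfl; rw [map_zero] at hu'; exact zero_ne_one hu'
  obtain ⟨eU, heU⟩ := exists_span_equiv (F := F) hu0 hu0'
  obtain ⟨g, hg1, hg2⟩ := exists_glue W (Submodule.span F {u}) W' (Submodule.span F {u'})
    (isCompl_ker_span φ u hu) (isCompl_ker_span φ' u' hu') gW eU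
  have hgu : g u = u' := by
    have := hg2 ⟨u, Submodule.mem_span_singleton_self u⟩
    rw [this]
    exact heU (Submodule.mem_span_singleton_self u)
  refine ⟨g, ?_, ?_⟩
  · have := hg1 ⟨v, hvW⟩
    rw [this, hgWv]
  · intro x
    have hx : x = (x - φ x • u) + φ x • u := by abel
    have hxW : x - φ x • u ∈ W := by
      rw [hW, LinearMap.mem_ker, map_sub, map_smul, hu, smul_eq_mul, mul_one, sub_self]
    have h1 : g (x - φ x • u) = (gW ⟨x - φ x • u, hxW⟩ : V) := hg1 ⟨_, hxW⟩
    have h2 : φ' (g (x - φ x • u)) = 0 := by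
      rw [h1]; exact (gW ⟨x - φ x • u, hxW⟩).2
    have h3 : g x = g (x - φ x • u) + φ x • g u := by
      rw [← map_smul, ← map_add, ← hx]
    rw [h3, map_add, h2, zero_add, map_smul, hgu, hu', smul_eq_mul, mul_one]

/-- a map of prescribed determinant fixing `v` and `φ` -/
theorem exists_commuting_dilation (hdim : 3 ≤ finrank F V) (v : V) (φ : Module.Dual F V) (u : V)
    (hu : φ u = 1) (d : F) :
    ∃ c : V →ₗ[F] V, LinearMap.det c = d ∧ c v = v ∧ ∀ x, φ (c x) = φ x := by
  have d2 := finrank_ker_dual φ u hu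
  obtain ⟨z, hzW, hzv⟩ := exists_mem_not_mem_span (LinearMap.ker φ) v (by omega)
  obtain ⟨ψ₀, hψ₀z, hψ₀v⟩ := Submodule.exists_le_ker_of_notMem hzv
  have hψ₀v' : ψ₀ v = 0 := hψ₀v (Submodule.mem_span_singleton_self v)
  set ψ : Module.Dual F V := ((d - 1) * (ψ₀ z)⁻¹) • ψ₀ with hψ
  refine ⟨LinearMap.transvection ψ z, ?_, ?_, ?_⟩
  · rw [LinearMap.transvection.det, hψ, LinearMap.smul_apply, smul_eq_mul, mul_assoc,
      inv_mul_cancel₀ hψ₀z, mul_one]
    ring
  · rw [LinearMap.transvection.apply, hψ, LinearMap.smul_apply, hψ₀v', smul_zero, zero_smul, add_zero]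
  · intro x
    have hz0 : φ z = 0 := hzW
    rw [LinearMap.transvection.apply, map_add, map_smul, hz0, smul_zero, add_zero]

/-- two rank-one square-zero endomorphisms in dimension at least three are intertwined by a map
of determinant one -/
theorem exists_det_one_intertwiner (hdim : 3 ≤ finrank F V) (T T' : Module.End F V)
    (hrk : finrank F (range T) = 1) (hsq : T * T = 0)
    (hrk' : finrank F (range T') = 1) (hsq' : T' * T' = 0) :
    ∃ h : V →ₗ[F] V, LinearMap.det h = 1 ∧ h ∘ₗ T = T' ∘ₗ h := by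
  obtain ⟨v, φ, u, hv, hu, hφv, hT⟩ := rank_one_data T hrk hsq
  obtain ⟨v', φ', u', hv', hu', hφv', hT'⟩ := rank_one_data T' hrk' hsq'
  obtain ⟨g, hgv, hgφ⟩ := exists_intertwiner v φ u hv hu hφv v' φ' u' hv' hu' hφv'
  have hdg : LinearMap.det (g : V →ₗ[F] V) ≠ 0 := (LinearEquiv.isUnit_det' g).ne_zero
  obtain ⟨c, hcdet, hcv, hcφ⟩ := exists_commuting_dilation hdim v φ u hu
    (LinearMap.det (g : V →ₗ[F] V))⁻¹
  refine ⟨(g : V →ₗ[F] V) ∘ₗ c, ?_, ?_⟩
  · rw [LinearMap.det_comp, hcdet, mul_inv_cancel₀ hdg]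
  · ext x
    simp only [LinearMap.comp_apply, LinearEquiv.coe_coe]
    rw [hT, hT', map_smul, map_smul, hcv, hgv, hgφ, hcφ]

end conj

end Cfsg.Agent.Helper13
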