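import Mathlib
import Cfsg.Agent.Lib.Helper20.SchDefs

/-!
# S4395, piece SCH-QUOT: an irreducible `F_p[T]`-module is `F_p[X]/I`, `I` maximal
-/

set_option autoImplicit false

namespace Cfsg.Agent.Helper20.Sch

universe u

variable {p q : ℕ} [Fact p.Prime] [Fact q.Prime]

section moduleiso

open Polynomial in
/-- additive version: a `ZMod p`-module with an irreducible additive endomorphism -/
theorem sch_quot_aux {M : Type*} [AddCommGroup M] [Module (ZMod p) M] [Nontrivial M] (T : M →+ M)
    (hirr : ∀ S : AddSubgroup M, (∀ x ∈ S, T x ∈ S) → S = ⊥ ∨ S = ⊤) :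
    ∃ I : Ideal (Polynomial (ZMod p)), I.IsMaximal ∧
      ∃ ψ : (Polynomial (ZMod p) ⧸ I) ≃+ M,
        ∀ f, ψ (Ideal.Quotient.mk I Polynomial.X * f) = T (ψ f) := by
  classical
  let Tl : M →ₗ[ZMod p] M := AddMonoidHom.toZModLinearMap p T
  have hTl : ∀ x : M, Tl x = T x := fun x => rfl
  -- the `F_p[X]`-module
  have hsimple : IsSimpleModule (ZMod p)[X] (Module.AEval' Tl) := by
    haveI : Nontrivial (Module.AEval' Tl) := (Module.AEval'.of Tl).symm.toEquiv.nontrivial
    refine { eq_bot_or_eq_top := fun N => ?_ }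
    let H : AddSubgroup M :=
      { carrier := {x | Module.AEval'.of Tl x ∈ N}
        zero_mem' := by
          show Module.AEval'.of Tl 0 ∈ N
          rw [map_zero]
          exact N.zero_mem
        add_mem' := by
          intro x y hx hy
          show Module.AEval'.of Tl (x + y) ∈ N
          rw [map_add]
          exact N.add_mem hx hy
        neg_mem' := by
          intro x hx
          show Module.AEval'.of Tl (-x) ∈ N
          rw [map_neg]
          exact N.neg_mem hx }
    have hH : ∀ x, x ∈ H ↔ Module.AEval'.of Tl x ∈ N := fun x => Iff.rfl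
    have hHinv : ∀ x ∈ H, T x ∈ H := by
      intro x hx
      rw [hH] at hx ⊢
      have := N.smul_mem (X : (ZMod p)[X]) hx
      rw [Module.AEval'.X_smul_of] at this
      exact this
    have hmem : ∀ m : Module.AEval' Tl, m ∈ N ↔ (Module.AEval'.of Tl).symm m ∈ H := by
      intro m
      rw [hH]
      simp
    rcases hirr H hHinv with h | h
    · left
      rw [eq_bot_iff]
      intro m hm
      rw [hmem, h, AddSubgroup.mem_bot] at hm
      rw [Submodule.mem_bot]
      exact (LinearEquiv.map_eq_zero_iff _).1 hm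
    · right
      rw [eq_top_iff]
      intro m _
      rw [hmem, h]
      exact AddSubgroup.mem_top _
  obtain ⟨I, hI, ⟨e⟩⟩ := isSimpleModule_iff_quot_maximal.1 hsimple
  refine ⟨I, hI, (e.symm.toAddEquiv).trans (Module.AEval'.of Tl).symm.toAddEquiv, ?_⟩
  intro f
  have h1 : Ideal.Quotient.mk I X * f = (X : (ZMod p)[X]) • f := by
    obtain ⟨g, rfl⟩ := Ideal.Quotient.mk_surjective f
    rw [← map_mul]
    rfl
  rw [h1]
  show (Module.AEval'.of Tl).symm (e.symm ((X : (ZMod p)[X]) • f)) = _
  rw [map_smul, Module.AEval'.of_symm_X_smul, hTl]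
  rfl

/-- SCH-QUOT : an irreducible `F_p[T]`-module is `F_p[X]/I`, `I` maximal. -/
theorem exists_quot_iso (A : Type*) [CommGroup A] [Finite A] [Nontrivial A]
    (hexp : ∀ x : A, x ^ p = 1) (T : MulAut A)
    (hirr : ∀ H : Subgroup A, (∀ x ∈ H, T x ∈ H) → H = ⊥ ∨ H = ⊤) :
    ∃ I : Ideal (Polynomial (ZMod p)), I.IsMaximal ∧
      ∃ ψ : (Polynomial (ZMod p) ⧸ I) ≃+ Additive A,
        ∀ f, ψ (Ideal.Quotient.mk I Polynomial.X * f) = Additive.ofMul (T (ψ f).toMul) := by
  have hmod : ∀ x : Additive A, p • x = 0 := by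
    intro x
    induction x using Additive.rec with
    | ofMul x => rw [← ofMul_pow, hexp]; rfl
  have hirr' : ∀ S : AddSubgroup (Additive A),
      (∀ x ∈ S, (MonoidHom.toAdditive T.toMonoidHom) x ∈ S) → S = ⊥ ∨ S = ⊤ := by
    intro S hS
    rcases hirr (AddSubgroup.toSubgroup' S) (fun x hx => hS (Additive.ofMul x) hx) with h | h
    · left
      rw [eq_bot_iff]
      intro x hx
      have : x.toMul ∈ AddSubgroup.toSubgroup' S := hx
      rw [h, Subgroup.mem_bot] at this
      rw [AddSubgroup.mem_bot, ← ofMul_toMul x, this]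
      rfl
    · right
      rw [eq_top_iff]
      intro x _
      have : x.toMul ∈ AddSubgroup.toSubgroup' S := by rw [h]; exact Subgroup.mem_top _
      exact this
  obtain ⟨I, hI, ψ, hψ⟩ := @sch_quot_aux p _ (Additive A) _ (AddCommGroup.zmodModule hmod) _
    (MonoidHom.toAdditive T.toMonoidHom) hirr'
  exact ⟨I, hI, ψ, fun f => hψ f⟩

end moduleiso

end Cfsg.Agent.Helper20.Sch
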