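import Mathlib
import Cfsg.Agent.Lib.Helper13.InvNDefs
import Cfsg.Agent.Lib.Helper15.InvNCELLUPre
import Cfsg.Agent.Lib.Helper15.InvNMAXPre
import Cfsg.Agent.Lib.Helper15.InvNINVOL
import Cfsg.Agent.Lib.Helper15.InvNLONGJ
import Cfsg.Agent.Lib.Helper15.InvNSTEP3
import Cfsg.Agent.Lib.Helper17.InvNCONDM
import Cfsg.Agent.Lib.Helper19.InvNFORM
import Cfsg.Agent.Lib.Helper6.InvNLEN
import Cfsg.Agent.Lib.Helper6.InvNROOTS
import Cfsg.Agent.Lib.Helper6.InvNJWORD
import Cfsg.Agent.Lib.Helper15.InvNSTEP1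
import Cfsg.Agent.Lib.Helper18.InvNMIRROR

/-!
Part A of the involution theorem, assembled: every element of square 1 of a Chevalley group is conjugate to an element
`h n_w` of the monomial subgroup, where `w` acts as an involution on the roots and fixes or makes negative every
fundamental root.
-/

set_option autoImplicit false
set_option linter.unusedSectionVars false
set_option linter.unusedVariables false

namespace Cfsg.Agent.Helper13.InvN

open Cfsg Cfsg.Lie Cfsg.Agent.Lead.Chev Cfsg.Agent.Helper6.ChevL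

variable {F : Type*} [Field F] {D : ChevalleyDatum} (hF : ChevFacts D F) (hS : CorSize D) (hI : CorInj D)
include hF hS hI

/-- `H` normalises `U_p` -/
theorem asm_diag_conj_posExcept (p : ℕ) (k : GL D.Idx F) (hk : k ∈ D.diagonalSubgroup F) (u : GL D.Idx F)
    (hu : u ∈ posExcept D F p) : k * u * k⁻¹ ∈ posExcept D F p := by
  have hle : posExcept D F p ≤ (posExcept D F p).comap (MulAut.conj k).toMonoidHom := by
    unfold posExcept
    rw [Subgroup.closure_le]
    rintro x ⟨s, t, hs, hsp, hx⟩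
    refine Subgroup.mem_comap.2 ?_
    obtain ⟨c, _, hc⟩ := hF.diagonal_conj_xGL k hk s hs.1
    have hxe : x = xGL D hF.xadd s t := Units.ext hx
    rw [MulEquiv.coe_toMonoidHom, MulAut.conj_apply, hxe, hc]
    exact Subgroup.subset_closure ⟨s, _, hs, hsp, rfl⟩
  exact hle hu

/-- an element of the form `v h n_w` lies in the cell of `w` -/
theorem asm_good_cell (t : GL D.Idx F) (w : List ℕ) (v h : GL D.Idx F) (hG : Good hF t w v h) :
    InCell hF t w := by
  obtain ⟨e, hv, hh, -⟩ := hG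
  exact ⟨v * h, mul_mem (posUnipotent_le_borel D hv) (diagonal_le_borel D hh), 1, one_mem _, by rw [e, mul_one]⟩

theorem asm_good_mem (t : GL D.Idx F) (w : List ℕ) (hw : WOK D w) (v h : GL D.Idx F) (hG : Good hF t w v h) :
    t ∈ D.group F := by
  obtain ⟨e, hv, hh, -⟩ := hG
  rw [e]
  exact mul_mem (mul_mem (hF.posUnipotent_le_group hv) (hF.diagonal_le_group hh)) (nWordGL_mem_group D hF.xadd w)

/-- maximality passes to conjugates lying in the same cell -/
theorem asm_max_conj (t : GL D.Idx F) (w : List ℕ) (hmax : IsMaxCell hF t w) (c : GL D.Idx F)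
    (hc : c ∈ D.group F) (hcell : InCell hF (c * t * c⁻¹) w) : IsMaxCell hF (c * t * c⁻¹) w := by
  refine ⟨hcell, ?_⟩
  intro c' hc' w' hw' h'
  apply hmax.2 (c' * c) (mul_mem hc' hc) w' hw'
  have e : c' * c * t * (c' * c)⁻¹ = c' * (c * t * c⁻¹) * c'⁻¹ := by group
  rw [e]
  exact h'

/-- ASM (1) -/
theorem coord_zero_left (t : GL D.Idx F) (ht : t ∈ D.group F) (htt : t * t = 1) (w : List ℕ) (hw : WOK D w)
    (hmax : IsMaxCell hF t w) (v h : GL D.Idx F) (hG : Good hF t w v h)
    (i : ℕ) (hi : i < D.rank) (hfix : reflWord D w (D.simple i) = D.simple i) :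
    v ∈ posExcept D F (D.simple i) := by
  obtain ⟨v', hv', a, hva⟩ := (hF.mem_posUnipotent_iff i hi v).1 hG.2.1
  by_cases ha : a = 0
  · rw [hva, ha, xGL_zero, mul_one]
    exact hv'
  · exfalso
    have hcell := step_cell hF hS hI t w hw v h hG i hi hfix v' hv' a ha hva
    have hle := hmax.2 (nGL D hF.xadd (D.simple i)) (nGL_mem_group D hF.xadd _) (i :: w) (WOK.cons hi hw) hcell
    have hrev := (invol_of_sq hF hS hI t htt w hw hmax.1).2 (D.simple i) (hF.simple_lt i hi)
    have hpos : D.IsPosRoot (reflWord D w.reverse (D.simple i)) := by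
      rw [hrev, hfix]
      exact hF.simple_pos i hi
    have hlt := len_cons_lt hF hS hI w hw i hi hpos
    omega

theorem coord_zero (t : GL D.Idx F) (ht : t ∈ D.group F) (htt : t * t = 1) (w : List ℕ) (hw : WOK D w)
    (hmax : IsMaxCell hF t w) (v h : GL D.Idx F) (hG : Good hF t w v h)
    (i : ℕ) (hi : i < D.rank) (hfix : reflWord D w (D.simple i) = D.simple i) :
    v ∈ posExcept D F (D.simple i) ∧
      (nWordGL D hF.xadd w)⁻¹ * v * nWordGL D hF.xadd w ∈ posExcept D F (D.simple i) := by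
  refine ⟨coord_zero_left hF hS hI t ht htt w hw hmax v h hG i hi hfix, ?_⟩
  have hinv := (invol_of_sq hF hS hI t htt w hw hmax.1).1
  obtain ⟨k, hk, h', hG'⟩ := good_mirror hF hS hI t htt w hw hinv v h hG
  have h1 := coord_zero_left hF hS hI t ht htt w hw hmax _ h' hG' i hi hfix
  have h2 := asm_diag_conj_posExcept hF hS hI (D.simple i) k⁻¹ (inv_mem hk) _ h1
  have e : k⁻¹ * (k * ((nWordGL D hF.xadd w)⁻¹ * v⁻¹ * nWordGL D hF.xadd w) * k⁻¹) * k⁻¹⁻¹ =
      ((nWordGL D hF.xadd w)⁻¹ * v * nWordGL D hF.xadd w)⁻¹ := by group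
  rw [e] at h2
  exact (Subgroup.inv_mem_iff _).1 h2

/-- ASM (2) -/
theorem good_word (t : GL D.Idx F) (ht : t ∈ D.group F) (htt : t * t = 1) (w : List ℕ) (hw : WOK D w)
    (hmax : IsMaxCell hF t w) (c : List ℕ) (hc : WOK D c) (hcJ : ∀ i ∈ c, i ∈ fixJ D w) :
    ∀ (v h : GL D.Idx F), Good hF t w v h →
      ∃ h', Good hF (nWordGL D hF.xadd c * t * (nWordGL D hF.xadd c)⁻¹) w
        (nWordGL D hF.xadd c * v * (nWordGL D hF.xadd c)⁻¹) h' := by
  induction c with
  | nil =>
    intro v h hG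
    refine ⟨h, ?_⟩
    simpa [nWordGL_nil] using hG
  | cons i c ih =>
    intro v h hG
    have hc' : WOK D c := fun j hj => hc j (List.mem_cons_of_mem _ hj)
    have hi : i < D.rank := hc i List.mem_cons_self
    obtain ⟨h1, hG1⟩ := ih hc' (fun j hj => hcJ j (List.mem_cons_of_mem _ hj)) v h hG
    have hfix : reflWord D w (D.simple i) = D.simple i := (hcJ i List.mem_cons_self).2
    set t1 := nWordGL D hF.xadd c * t * (nWordGL D hF.xadd c)⁻¹ with ht1
    have hcG : nWordGL D hF.xadd c ∈ D.group F := nWordGL_mem_group D hF.xadd c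
    have ht1G : t1 ∈ D.group F := mul_mem (mul_mem hcG ht) (inv_mem hcG)
    have ht1sq : t1 * t1 = 1 := by
      have : t1 * t1 = nWordGL D hF.xadd c * (t * t) * (nWordGL D hF.xadd c)⁻¹ := by rw [ht1]; group
      rw [this, htt]
      group
    have hmax1 : IsMaxCell hF t1 w :=
      asm_max_conj hF hS hI t w hmax _ hcG (asm_good_cell hF hS hI t1 w _ h1 hG1)
    obtain ⟨hz1, hz2⟩ := coord_zero hF hS hI t1 ht1G ht1sq w hw hmax1 _ h1 hG1 i hi hfix
    obtain ⟨h2, hG2⟩ := good_conj hF hS hI t1 w hw _ h1 hG1 i hi hfix hz1 hz2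
    refine ⟨h2, ?_⟩
    have e1 : nWordGL D hF.xadd (i :: c) * t * (nWordGL D hF.xadd (i :: c))⁻¹ =
        nGL D hF.xadd (D.simple i) * t1 * (nGL D hF.xadd (D.simple i))⁻¹ := by
      rw [nWordGL_cons, ht1]; group
    have e2 : nWordGL D hF.xadd (i :: c) * v * (nWordGL D hF.xadd (i :: c))⁻¹ =
        nGL D hF.xadd (D.simple i) * (nWordGL D hF.xadd c * v * (nWordGL D hF.xadd c)⁻¹) *
          (nGL D hF.xadd (D.simple i))⁻¹ := by
      rw [nWordGL_cons]; group
    rw [e1, e2]
    exact hG2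

/-- a word making every positive root negative conjugates `U` into `U⁻` -/
theorem asm_conj_neg (y : List ℕ) (hy : WOK D y)
    (hneg : ∀ r, D.IsPosRoot r → D.IsNegRoot (reflWord D y r)) (u : GL D.Idx F) (hu : u ∈ D.posUnipotent F) :
    nWordGL D hF.xadd y * u * (nWordGL D hF.xadd y)⁻¹ ∈ D.negUnipotent F := by
  have hle : D.posUnipotent F ≤ (D.negUnipotent F).comap (MulAut.conj (nWordGL D hF.xadd y)).toMonoidHom := by
    unfold ChevalleyDatum.posUnipotent
    rw [Subgroup.closure_le]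
    rintro x ⟨r, t, hr, hx⟩
    refine Subgroup.mem_comap.2 ?_
    have hxe : x = xGL D hF.xadd r t := Units.ext hx
    rw [MulEquiv.coe_toMonoidHom, MulAut.conj_apply, hxe,
      nWordGL_conj D hF.xadd (etaOf D) hF.nsimple y hy r hr.1]
    exact Subgroup.subset_closure ⟨_, _, hneg r hr, rfl⟩
  exact hle hu

/-- ASM (3) -/
theorem v_eq_one (t : GL D.Idx F) (ht : t ∈ D.group F) (htt : t * t = 1) (w : List ℕ) (hw : WOK D w)
    (hmax : IsMaxCell hF t w) (v h : GL D.Idx F) (hG : Good hF t w v h) : v = 1 := by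
  have hinv := (invol_of_sq hF hS hI t htt w hw hmax.1).1
  have hM := condM_of_max hF hS hI t ht htt w hw hmax
  obtain ⟨c, hc, hcJ, hcneg⟩ := exists_longJ hF hS hI (fixJ D w)
  obtain ⟨h', hG'⟩ := good_word hF hS hI t ht htt w hw hmax c hc hcJ v h hG
  have hy : WOK D (c ++ w) := hc.append hw
  have hneg : ∀ r, D.IsPosRoot r → D.IsNegRoot (reflWord D (c ++ w) r) := by
    intro r hr
    rw [reflWord_append]
    by_cases hrJ : D.InRootSub (fixJ D w) r
    · rw [fix_sub hF hS hI w hw hinv hM r hrJ]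
      exact jword_neg hF hS hI (fixJ D w) c hc hcJ hcneg r hr hrJ
    · obtain ⟨h1, h2⟩ := neg_out hF hS hI w hw hinv hM r hr hrJ
      exact jword_out hF hS hI (fixJ D w) c hc hcJ _ h1 h2
  have h1 := asm_conj_neg hF hS hI (c ++ w) hy hneg _ hG.2.2.2
  have e : nWordGL D hF.xadd (c ++ w) * ((nWordGL D hF.xadd w)⁻¹ * v * nWordGL D hF.xadd w) *
      (nWordGL D hF.xadd (c ++ w))⁻¹ = nWordGL D hF.xadd c * v * (nWordGL D hF.xadd c)⁻¹ := by
    rw [nWordGL_append]; group
  rw [e] at h1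
  have h2 : nWordGL D hF.xadd c * v * (nWordGL D hF.xadd c)⁻¹ ∈ D.borelSubgroup F ⊓ D.negUnipotent F :=
    ⟨posUnipotent_le_borel D hG'.2.1, h1⟩
  rw [hF.borel_inf_negUnipotent, Subgroup.mem_bot] at h2
  calc v = (nWordGL D hF.xadd c)⁻¹ * (nWordGL D hF.xadd c * v * (nWordGL D hF.xadd c)⁻¹) *
        nWordGL D hF.xadd c := by group
    _ = 1 := by rw [h2]; group

/-- MAIN (Part A): every element of square 1 is conjugate to an element `h n_w` of `N`, where `w` acts as an involution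
on the roots and fixes or makes negative every fundamental root. -/
theorem conj_into_N (g : GL D.Idx F) (hg : g ∈ D.group F) (hgg : g * g = 1) :
    ∃ c ∈ D.group F, ∃ w, WOK D w ∧ Invol D w ∧ CondM D w ∧
      ∃ h ∈ D.diagonalSubgroup F, c * g * c⁻¹ = h * nWordGL D hF.xadd w := by
  obtain ⟨c, hc, w, hw, hmax⟩ := invol_exists_max hF hS hI g hg
  set t0 := c * g * c⁻¹ with ht0
  have ht0G : t0 ∈ D.group F := mul_mem (mul_mem hc hg) (inv_mem hc)
  have ht0sq : t0 * t0 = 1 := by
    have : t0 * t0 = c * (g * g) * c⁻¹ := by rw [ht0]; group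
    rw [this, hgg]; group
  obtain ⟨u, hu, v, h', hG⟩ := good_form hF hS hI t0 ht0G ht0sq w hw hmax.1
  have huG : u ∈ D.group F := hF.posUnipotent_le_group hu
  set t := u * t0 * u⁻¹ with ht
  have htG : t ∈ D.group F := mul_mem (mul_mem huG ht0G) (inv_mem huG)
  have htsq : t * t = 1 := by
    have : t * t = u * (t0 * t0) * u⁻¹ := by rw [ht]; group
    rw [this, ht0sq]; group
  have hmaxt : IsMaxCell hF t w := asm_max_conj hF hS hI t0 w hmax u huG (asm_good_cell hF hS hI t w v h' hG)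
  have hv1 := v_eq_one hF hS hI t htG htsq w hw hmaxt v h' hG
  refine ⟨u * c, mul_mem huG hc, w, hw, (invol_of_sq hF hS hI t htsq w hw hmaxt.1).1,
    condM_of_max hF hS hI t htG htsq w hw hmaxt, h', hG.2.2.1, ?_⟩
  have e : u * c * g * (u * c)⁻¹ = t := by rw [ht, ht0]; group
  rw [e, hG.1, hv1, one_mul]

end Cfsg.Agent.Helper13.InvN
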