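import Mathlib
import Cfsg.Agent.Lib.Helper13.InvNDefsB

/-!
The per-type tables for Part C of the involution theorem, and their Boolean check.
-/

set_option autoImplicit false
set_option linter.unusedSectionVars false
set_option linter.unusedVariables false

namespace Cfsg.Agent.Helper13.InvN

open Cfsg Cfsg.Lie Cfsg.Agent.Lead.Chev

/-- the entry of a subset `J` of the fundamental roots: the longest word of `W_J`, and a frame for `w₀ w_J` when this
element fixes `J` pointwise -/
structure JEntry where
  wJ : List ℕ
  frame : Option Frame

/-- the table of a type: the longest word, and the entries of the subsets `J = {j | m.testBit j}`, `m < 2 ^ rank`,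
in the order of `m` -/
structure Table where
  w0 : List ℕ
  entries : List JEntry

/-- the candidate action `(w₀ w_J)⁻¹` -/
def candWord (w0 wJ : List ℕ) : List ℕ := w0.reverse ++ wJ.reverse

/-- the check of one entry -/
def entryChk (D : ChevalleyDatum) (w0 : List ℕ) (m : ℕ) (e : JEntry) : Bool :=
  (e.wJ.all fun j => decide (j < D.rank) && m.testBit j) &&
  ((List.range D.rank).all fun j => !m.testBit j || decide (D.IsNegRoot (reflWord D e.wJ (D.simple j)))) &&
  (match e.frame with
   | none => (List.range D.rank).any fun j =>
       m.testBit j != decide (reflWord D (candWord w0 e.wJ) (D.simple j) = D.simple j)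
   | some S => frameOK D S && (List.range D.rank).all fun k =>
       decide (reflWord D (frameWord S) (D.simple k) = reflWord D (candWord w0 e.wJ) (D.simple k)))

/-- the check of a table -/
def tableChk (D : ChevalleyDatum) (T : Table) : Bool :=
  (T.w0.all fun j => decide (j < D.rank)) &&
  ((List.range D.rank).all fun j => decide (D.IsNegRoot (reflWord D T.w0 (D.simple j)))) &&
  decide (T.entries.length = 2 ^ D.rank) &&
  (T.entries.zipIdx.all fun p => entryChk D T.w0 p.2 p.1)

/-- the frames of a table -/
def Table.frames (T : Table) : List Frame := T.entries.filterMap fun e => e.frame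

end Cfsg.Agent.Helper13.InvN
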