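import Mathlib
import Cfsg.Agent.Lib.Helper13.InvNDefsC
import Cfsg.Prelude.Def_ChevE6

/-! GENERATED (scratch/inv/gentab.py): the table of type E6 for the involution theorem. -/

set_option autoImplicit false

namespace Cfsg.Agent.Helper13.InvN

open Cfsg Cfsg.Lie

/-- the table of type E6: 64 subsets, 6 of them with a frame -/
def tabE6 : Table where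
  w0 := [0, 1, 2, 0, 3, 1, 2, 0, 3, 2, 4, 3, 1, 2, 0, 3, 2, 4, 3, 1, 5, 4, 3, 1, 2, 0, 3, 2, 4, 3, 1, 5, 4, 3, 2, 0]
  entries := [
  ⟨[], some [([1, 3, 4, 5, 2, 3, 4, 1, 3, 2], 0), ([5, 4, 3, 2], 0), ([4, 3], 2), ([], 3)]⟩,
  ⟨[0], none⟩,
  ⟨[1], some [([4, 5, 2, 3, 4, 1, 3, 2], 0), ([5, 3, 4, 1, 3, 2], 0), ([3, 4, 2, 3], 1)]⟩,
  ⟨[0, 1], none⟩,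
  ⟨[2], none⟩,
  ⟨[0, 2, 0], none⟩,
  ⟨[1, 2], none⟩,
  ⟨[0, 1, 2, 0], none⟩,
  ⟨[3], some [([1, 3, 4, 5, 2, 3, 4, 1, 3, 2], 0), ([5, 4, 3, 2], 0), ([4, 3], 2)]⟩,
  ⟨[0, 3], none⟩,
  ⟨[1, 3, 1], none⟩,
  ⟨[0, 1, 3, 1], none⟩,
  ⟨[2, 3, 2], none⟩,
  ⟨[0, 2, 0, 3, 2, 0], none⟩,
  ⟨[1, 2, 3, 1, 2, 3], none⟩,
  ⟨[0, 1, 2, 0, 3, 1, 2, 0, 3, 2], none⟩,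
  ⟨[4], none⟩,
  ⟨[0, 4], none⟩,
  ⟨[1, 4], none⟩,
  ⟨[0, 1, 4], none⟩,
  ⟨[2, 4], none⟩,
  ⟨[0, 2, 0, 4], none⟩,
  ⟨[1, 2, 4], none⟩,
  ⟨[0, 1, 2, 0, 4], none⟩,
  ⟨[3, 4, 3], none⟩,
  ⟨[0, 3, 4, 3], none⟩,
  ⟨[1, 3, 1, 4, 3, 1], none⟩,
  ⟨[0, 1, 3, 1, 4, 3, 1], none⟩,
  ⟨[2, 3, 2, 4, 3, 2], some [([1, 3, 4, 5, 2, 3, 4, 1, 3, 2], 0), ([5, 4, 3, 2], 0)]⟩,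
  ⟨[0, 2, 0, 3, 2, 0, 4, 3, 2, 0], none⟩,
  ⟨[1, 2, 3, 1, 2, 3, 4, 3, 1, 2, 3, 4], none⟩,
  ⟨[0, 1, 2, 0, 3, 1, 2, 0, 3, 2, 4, 3, 1, 2, 0, 3, 2, 4, 3, 1], none⟩,
  ⟨[5], none⟩,
  ⟨[0, 5], none⟩,
  ⟨[1, 5], none⟩,
  ⟨[0, 1, 5], none⟩,
  ⟨[2, 5], none⟩,
  ⟨[0, 2, 0, 5], none⟩,
  ⟨[1, 2, 5], none⟩,
  ⟨[0, 1, 2, 0, 5], none⟩,
  ⟨[3, 5], none⟩,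
  ⟨[0, 3, 5], none⟩,
  ⟨[1, 3, 1, 5], none⟩,
  ⟨[0, 1, 3, 1, 5], none⟩,
  ⟨[2, 3, 2, 5], none⟩,
  ⟨[0, 2, 0, 3, 2, 0, 5], none⟩,
  ⟨[1, 2, 3, 1, 2, 3, 5], none⟩,
  ⟨[0, 1, 2, 0, 3, 1, 2, 0, 3, 2, 5], none⟩,
  ⟨[4, 5, 4], none⟩,
  ⟨[0, 4, 5, 4], none⟩,
  ⟨[1, 4, 5, 4], none⟩,
  ⟨[0, 1, 4, 5, 4], none⟩,
  ⟨[2, 4, 5, 4], none⟩,
  ⟨[0, 2, 0, 4, 5, 4], none⟩,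
  ⟨[1, 2, 4, 5, 4], none⟩,
  ⟨[0, 1, 2, 0, 4, 5, 4], none⟩,
  ⟨[3, 4, 3, 5, 4, 3], none⟩,
  ⟨[0, 3, 4, 3, 5, 4, 3], none⟩,
  ⟨[1, 3, 1, 4, 3, 1, 5, 4, 3, 1], none⟩,
  ⟨[0, 1, 3, 1, 4, 3, 1, 5, 4, 3, 1], none⟩,
  ⟨[2, 3, 2, 4, 3, 2, 5, 4, 3, 2], none⟩,
  ⟨[0, 2, 0, 3, 2, 0, 4, 3, 2, 0, 5, 4, 3, 2, 0], some [([1, 3, 4, 5, 2, 3, 4, 1, 3, 2], 0)]⟩,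
  ⟨[1, 2, 3, 1, 2, 3, 4, 3, 1, 2, 3, 4, 5, 4, 3, 1, 2, 3, 4, 5], none⟩,
  ⟨[0, 1, 2, 0, 3, 1, 2, 0, 3, 2, 4, 3, 1, 2, 0, 3, 2, 4, 3, 1, 5, 4, 3, 1, 2, 0, 3, 2, 4, 3, 1, 5, 4, 3, 2, 0], some []⟩]

end Cfsg.Agent.Helper13.InvN
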