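import Mathlib
import Cfsg.Agent.Lib.Helper13.IsomTransfer

set_option autoImplicit false
set_option linter.unusedSectionVars false

/-! # Transport of isometry groups along a ring isomorphism of the base field -/

namespace Cfsg.Agent.Helper13

open Matrix

section
variable {κ : Type} [Fintype κ] [DecidableEq κ] {F K : Type*} [Field F] [Field K]

/-- the hom on isometry groups induced by a compatible ring hom -/
def isomMapHom (e : F ≃+* K) (QF : (κ → F) → F) (QK : (κ → K) → K)
    (hQ : ∀ u : κ → F, QK (fun i => e (u i)) = e (QF u)) :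
    Cfsg.isometryGroup F QF →* Cfsg.isometryGroup K QK :=
  ((Matrix.GeneralLinearGroup.map (e : F →+* K)).comp (Subgroup.subtype _)).codRestrict _ (by
    intro g
    rw [mem_isometryGroup_iff]
    intro w
    have hw : w = fun i => e ((fun j => e.symm (w j)) i) := by
      funext i; simp
    set u : κ → F := fun j => e.symm (w j) with hu
    have h1 : ((Matrix.GeneralLinearGroup.map (e : F →+* K)) (g : GL κ F) : Matrix κ κ K) *ᵥ w =
        fun i => e ((((g : GL κ F) : Matrix κ κ F) *ᵥ u) i) := by
      funext i
      have := RingHom.map_mulVec (e : F →+* K) ((g : GL κ F) : Matrix κ κ F) u i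
      rw [RingEquiv.coe_toRingHom] at this
      rw [this, hw]
      rfl
    change QK (((Matrix.GeneralLinearGroup.map (e : F →+* K)) (g : GL κ F) : Matrix κ κ K) *ᵥ w) =
      QK w
    rw [h1, hQ, (mem_isometryGroup_iff QF (g : GL κ F)).1 g.2 u, ← hQ, ← hw])

theorem isomMapHom_apply (e : F ≃+* K) (QF : (κ → F) → F) (QK : (κ → K) → K)
    (hQ : ∀ u : κ → F, QK (fun i => e (u i)) = e (QF u)) (g : Cfsg.isometryGroup F QF) (i j : κ) :
    ((isomMapHom e QF QK hQ g : GL κ K) : Matrix κ κ K) i j =
      e (((g : GL κ F) : Matrix κ κ F) i j) := rfl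

/-- the isomorphism of isometry groups induced by a compatible ring isomorphism -/
def isomMapEquiv (e : F ≃+* K) (QF : (κ → F) → F) (QK : (κ → K) → K)
    (hQ : ∀ u : κ → F, QK (fun i => e (u i)) = e (QF u)) :
    Cfsg.isometryGroup F QF ≃* Cfsg.isometryGroup K QK :=
  have hQ' : ∀ w : κ → K, QF (fun i => e.symm (w i)) = e.symm (QK w) := by
    intro w
    apply e.injective
    rw [← hQ, RingEquiv.apply_symm_apply]
    congr 1
    funext i
    simp
  { toFun := isomMapHom e QF QK hQ
    invFun := isomMapHom e.symm QK QF hQ'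
    left_inv := by
      intro g
      apply Subtype.ext
      apply Units.ext
      ext i j
      rw [isomMapHom_apply, isomMapHom_apply, RingEquiv.symm_apply_apply]
    right_inv := by
      intro g
      apply Subtype.ext
      apply Units.ext
      ext i j
      rw [isomMapHom_apply, isomMapHom_apply, RingEquiv.apply_symm_apply]
    map_mul' := map_mul _ }

theorem quadFormPlus_map (e : F ≃+* K) (m : ℕ) (u : Fin m ⊕ Fin m → F) :
    Cfsg.quadFormPlus m K (fun i => e (u i)) = e (Cfsg.quadFormPlus m F u) := by
  unfold Cfsg.quadFormPlus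
  rw [map_sum]
  exact Finset.sum_congr rfl fun i _ => (map_mul e _ _).symm

theorem quadFormMinus_map (e : F ≃+* K) (m : ℕ) (a b : F) (u : (Fin m ⊕ Fin m) ⊕ Fin 2 → F) :
    Cfsg.quadFormMinus m K (e a) (e b) (fun i => e (u i)) = e (Cfsg.quadFormMinus m F a b u) := by
  unfold Cfsg.quadFormMinus
  rw [map_add, map_sum, map_add, map_add, map_mul, map_mul, map_mul, map_pow, map_pow]
  congr 1
  exact Finset.sum_congr rfl fun i _ => (map_mul e _ _).symm

end

end Cfsg.Agent.Helper13
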