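import Mathlib
import Cfsg.Prelude.Def_Classical

set_option autoImplicit false
set_option linter.unusedSectionVars false

/-! # Upper bounds for group orders by stabiliser chains; the vector action of `GL` -/

namespace Cfsg.Agent.Helper13

open Matrix

/-- one step of the stabiliser chain -/
theorem card_le_mul_stabilizer {G α : Type*} [Group G] [Finite G] [MulAction G α] [DecidableEq α]
    (x : α) (S : Finset α) (h : ∀ g : G, g • x ∈ S) :
    Nat.card G ≤ S.card * Nat.card (MulAction.stabilizer G x) := by
  have h1 := MulAction.index_stabilizer G x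
  have h2 := (MulAction.stabilizer G x).index_mul_card
  have h3 : (MulAction.orbit G x).ncard ≤ S.card := by
    rw [← Set.ncard_coe_finset S]
    apply Set.ncard_le_ncard _ (Finset.finite_toSet S)
    rintro _ ⟨g, rfl⟩
    exact h g
  rw [← h2, h1]
  exact Nat.mul_le_mul_right _ h3

/-- one step of the chain of pointwise stabilisers -/
theorem card_fixing_le {G α : Type*} [Group G] [Finite G] [MulAction G α] [DecidableEq α]
    (s : Set α) (x : α) (S : Finset α) (h : ∀ g ∈ fixingSubgroup G s, g • x ∈ S) :
    Nat.card (fixingSubgroup G s) ≤ S.card * Nat.card (fixingSubgroup G (insert x s)) := by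
  have h1 := card_le_mul_stabilizer (G := fixingSubgroup G s) x S (fun g => h g.1 g.2)
  have h2 : Nat.card (MulAction.stabilizer (fixingSubgroup G s) x) =
      Nat.card (fixingSubgroup G (insert x s)) := by
    refine Nat.card_congr
      { toFun := fun g => ⟨g.1.1, ?_⟩
        invFun := fun k => ⟨⟨k.1, ?_⟩, ?_⟩
        left_inv := fun g => rfl
        right_inv := fun k => rfl }
    · rw [mem_fixingSubgroup_iff]
      intro y hy
      rcases hy with rfl | hy
      · exact g.2
      · exact (mem_fixingSubgroup_iff G).1 g.1.2 y hy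
    · rw [mem_fixingSubgroup_iff]
      intro y hy
      exact (mem_fixingSubgroup_iff G).1 k.2 y (Set.mem_insert_of_mem _ hy)
    · exact (mem_fixingSubgroup_iff G).1 k.2 x (Set.mem_insert _ _)
  rw [h2] at h1
  exact h1

theorem card_fixing_empty {G α : Type*} [Group G] [MulAction G α] :
    Nat.card (fixingSubgroup G (∅ : Set α)) = Nat.card G := by
  have : fixingSubgroup G (∅ : Set α) = ⊤ := by
    ext g
    simp [mem_fixingSubgroup_iff]
  rw [this]
  exact Nat.card_congr Subgroup.topEquiv.toEquiv

section
variable {κ : Type} [Fintype κ] [DecidableEq κ] {F : Type*} [Field F]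

/-- the natural action of `GL` on column vectors -/
instance glVecAction : MulAction (GL κ F) (κ → F) where
  smul g v := (g : Matrix κ κ F) *ᵥ v
  one_smul v := Matrix.one_mulVec v
  mul_smul g h v := by
    change ((g * h : GL κ F) : Matrix κ κ F) *ᵥ v =
      (g : Matrix κ κ F) *ᵥ ((h : Matrix κ κ F) *ᵥ v)
    rw [Units.val_mul, Matrix.mulVec_mulVec]

theorem gl_smul_def (g : GL κ F) (v : κ → F) : g • v = (g : Matrix κ κ F) *ᵥ v := rfl

theorem gl_smul_add (g : GL κ F) (u v : κ → F) : g • (u + v) = g • u + g • v := by
  rw [gl_smul_def, gl_smul_def, gl_smul_def, Matrix.mulVec_add]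

theorem gl_smul_zero (g : GL κ F) : g • (0 : κ → F) = 0 := by
  rw [gl_smul_def, Matrix.mulVec_zero]

theorem gl_smul_ne_zero (g : GL κ F) {v : κ → F} (hv : v ≠ 0) : g • v ≠ 0 := by
  intro h
  apply hv
  have := congrArg (fun w => g⁻¹ • w) h
  simp only [inv_smul_smul, gl_smul_zero] at this
  exact this

theorem isom_smul (Q : (κ → F) → F) (g : Cfsg.isometryGroup F Q) (u : κ → F) :
    Q ((g : GL κ F) • u) = Q u := g.2 u 0

/-- an element of `GL` fixing all the standard basis vectors is trivial -/
theorem gl_eq_one_of_fix (g : GL κ F) (h : ∀ i, g • (Pi.single i 1 : κ → F) = Pi.single i 1) :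
    g = 1 := by
  apply Units.ext
  ext i j
  have := congrFun (h j) i
  rw [gl_smul_def, Matrix.mulVec_single_one] at this
  rw [Units.val_one, Matrix.one_apply, ← Pi.single_apply]
  exact this

end

end Cfsg.Agent.Helper13
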