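import Mathlib
import Cfsg.Agent.Lib.Helper13.StabChain

set_option autoImplicit false
set_option linter.unusedSectionVars false

/-! # The order of `O⁺₆(2)` is at most `8!` -/

namespace Cfsg.Agent.Helper13.O6Plus

open Matrix

abbrev I6 := Fin 3 ⊕ Fin 3
abbrev V6 := I6 → ZMod 2
abbrev Q6 : V6 → ZMod 2 := Cfsg.quadFormPlus 3 (ZMod 2)
abbrev O6 : Subgroup (GL I6 (ZMod 2)) := Cfsg.isometryGroup (ZMod 2) (Cfsg.quadFormPlus 3 (ZMod 2))

/-- the polar form -/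
def B6 (u v : V6) : ZMod 2 := Q6 (u + v) + Q6 u + Q6 v

def e6 (i : Fin 3) : V6 := Pi.single (Sum.inl i) 1
def f6 (i : Fin 3) : V6 := Pi.single (Sum.inr i) 1

theorem Q6_smul (g : O6) (u : V6) : Q6 (g • u) = Q6 u := isom_smul _ g u

theorem B6_smul (g : O6) (u v : V6) : B6 (g • u) (g • v) = B6 u v := by
  unfold B6
  have h : g • u + g • v = g • (u + v) := (gl_smul_add (g : GL I6 (ZMod 2)) u v).symm
  rw [h, Q6_smul, Q6_smul, Q6_smul]

theorem B6_fix {s : Set V6} {g : O6} (hg : g ∈ fixingSubgroup O6 s) {c : V6} (hc : c ∈ s) (u : V6) :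
    B6 c (g • u) = B6 c u := by
  have h := (mem_fixingSubgroup_iff O6).1 hg c hc
  nth_rewrite 1 [← h]
  exact B6_smul g c u

theorem smul_ne_zero' (g : O6) {v : V6} (hv : v ≠ 0) : g • v ≠ 0 :=
  gl_smul_ne_zero (g : GL I6 (ZMod 2)) hv

def T₁ : Finset V6 := Finset.univ.filter (fun u => Q6 u = 0 ∧ u ≠ 0)
def T₂ : Finset V6 := Finset.univ.filter (fun u => Q6 u = 0 ∧ B6 (e6 0) u = 1)
def T₃ : Finset V6 :=
  Finset.univ.filter (fun u => Q6 u = 0 ∧ u ≠ 0 ∧ B6 (e6 0) u = 0 ∧ B6 (f6 0) u = 0)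
def T₄ : Finset V6 :=
  Finset.univ.filter (fun u => Q6 u = 0 ∧ B6 (e6 0) u = 0 ∧ B6 (f6 0) u = 0 ∧ B6 (e6 1) u = 1)
def T₅ : Finset V6 :=
  Finset.univ.filter (fun u => Q6 u = 0 ∧ u ≠ 0 ∧ B6 (e6 0) u = 0 ∧ B6 (f6 0) u = 0 ∧
    B6 (e6 1) u = 0 ∧ B6 (f6 1) u = 0)
def T₆ : Finset V6 :=
  Finset.univ.filter (fun u => Q6 u = 0 ∧ B6 (e6 0) u = 0 ∧ B6 (f6 0) u = 0 ∧
    B6 (e6 1) u = 0 ∧ B6 (f6 1) u = 0 ∧ B6 (e6 2) u = 1)

set_option maxRecDepth 1000000 in
theorem card_T₁ : T₁.card = 35 := by decide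
set_option maxRecDepth 1000000 in
theorem card_T₂ : T₂.card = 16 := by decide
set_option maxRecDepth 1000000 in
theorem card_T₃ : T₃.card = 9 := by decide
set_option maxRecDepth 1000000 in
theorem card_T₄ : T₄.card = 4 := by decide
set_option maxRecDepth 1000000 in
theorem card_T₅ : T₅.card = 2 := by decide
set_option maxRecDepth 1000000 in
theorem card_T₆ : T₆.card = 1 := by decide

set_option maxRecDepth 1000000 in
theorem base_facts :
    (∀ i, Q6 (e6 i) = 0 ∧ Q6 (f6 i) = 0 ∧ e6 i ≠ 0 ∧ f6 i ≠ 0) ∧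
    (∀ i j, B6 (e6 i) (e6 j) = 0 ∧ B6 (f6 i) (f6 j) = 0 ∧
      B6 (e6 i) (f6 j) = (if i = j then 1 else 0) ∧ B6 (f6 i) (e6 j) = (if i = j then 1 else 0)) := by
  decide

theorem card_O6_le : Nat.card O6 ≤ 40320 := by
  obtain ⟨hb1, hb2⟩ := base_facts
  have e1 := card_fixing_le (G := O6) (∅ : Set V6) (e6 0) T₁ (by
    intro g _
    simp only [T₁, Finset.mem_filter, Finset.mem_univ, true_and]
    exact ⟨by rw [Q6_smul, (hb1 0).1], smul_ne_zero' g (hb1 0).2.2.1⟩)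
  have e2 := card_fixing_le (G := O6) ({e6 0} : Set V6) (f6 0) T₂ (by
    intro g hg
    simp only [T₂, Finset.mem_filter, Finset.mem_univ, true_and]
    refine ⟨by rw [Q6_smul, (hb1 0).2.1], ?_⟩
    rw [B6_fix hg (by simp), (hb2 0 0).2.2.1]; rfl)
  have e3 := card_fixing_le (G := O6) ({f6 0, e6 0} : Set V6) (e6 1) T₃ (by
    intro g hg
    simp only [T₃, Finset.mem_filter, Finset.mem_univ, true_and]
    refine ⟨by rw [Q6_smul, (hb1 1).1], smul_ne_zero' g (hb1 1).2.2.1, ?_, ?_⟩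
    · rw [B6_fix hg (by simp), (hb2 0 1).1]
    · rw [B6_fix hg (by simp), (hb2 0 1).2.2.2]; rfl)
  have e4 := card_fixing_le (G := O6) ({e6 1, f6 0, e6 0} : Set V6) (f6 1) T₄ (by
    intro g hg
    simp only [T₄, Finset.mem_filter, Finset.mem_univ, true_and]
    refine ⟨by rw [Q6_smul, (hb1 1).2.1], ?_, ?_, ?_⟩
    · rw [B6_fix hg (by simp), (hb2 0 1).2.2.1]; rfl
    · rw [B6_fix hg (by simp), (hb2 0 1).2.1]
    · rw [B6_fix hg (by simp), (hb2 1 1).2.2.1]; rfl)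
  have e5 := card_fixing_le (G := O6) ({f6 1, e6 1, f6 0, e6 0} : Set V6) (e6 2) T₅ (by
    intro g hg
    simp only [T₅, Finset.mem_filter, Finset.mem_univ, true_and]
    refine ⟨by rw [Q6_smul, (hb1 2).1], smul_ne_zero' g (hb1 2).2.2.1, ?_, ?_, ?_, ?_⟩
    · rw [B6_fix hg (by simp), (hb2 0 2).1]
    · rw [B6_fix hg (by simp), (hb2 0 2).2.2.2]; rfl
    · rw [B6_fix hg (by simp), (hb2 1 2).1]
    · rw [B6_fix hg (by simp), (hb2 1 2).2.2.2]; rfl)
  have e6' := card_fixing_le (G := O6) ({e6 2, f6 1, e6 1, f6 0, e6 0} : Set V6) (f6 2) T₆ (by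
    intro g hg
    simp only [T₆, Finset.mem_filter, Finset.mem_univ, true_and]
    refine ⟨by rw [Q6_smul, (hb1 2).2.1], ?_, ?_, ?_, ?_, ?_⟩
    · rw [B6_fix hg (by simp), (hb2 0 2).2.2.1]; rfl
    · rw [B6_fix hg (by simp), (hb2 0 2).2.1]
    · rw [B6_fix hg (by simp), (hb2 1 2).2.2.1]; rfl
    · rw [B6_fix hg (by simp), (hb2 1 2).2.1]
    · rw [B6_fix hg (by simp), (hb2 2 2).2.2.1]; rfl)
  have e7 : Nat.card (fixingSubgroup O6 ({f6 2, e6 2, f6 1, e6 1, f6 0, e6 0} : Set V6)) ≤ 1 := by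
    rw [Finite.card_le_one_iff_subsingleton]
    have key : ∀ g : fixingSubgroup O6 ({f6 2, e6 2, f6 1, e6 1, f6 0, e6 0} : Set V6),
        g = 1 := by
      intro g
      have hfix := (mem_fixingSubgroup_iff O6).1 g.2
      apply Subtype.ext
      apply Subtype.ext
      apply gl_eq_one_of_fix
      rintro (i | i)
      · have : (Pi.single (Sum.inl i) 1 : V6) = e6 i := rfl
        rw [this]
        apply hfix
        fin_cases i <;> simp
      · have : (Pi.single (Sum.inr i) 1 : V6) = f6 i := rfl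
        rw [this]
        apply hfix
        fin_cases i <;> simp
    exact ⟨fun a b => by rw [key a, key b]⟩
  rw [card_fixing_empty] at e1
  rw [card_T₁] at e1
  rw [card_T₂] at e2
  rw [card_T₃] at e3
  rw [card_T₄] at e4
  rw [card_T₅] at e5
  rw [card_T₆] at e6'
  rw [insert_empty_eq] at e1
  calc Nat.card O6 ≤ 35 * (16 * (9 * (4 * (2 * (1 * 1))))) := by
        refine e1.trans (Nat.mul_le_mul_left _ (e2.trans (Nat.mul_le_mul_left _
          (e3.trans (Nat.mul_le_mul_left _ (e4.trans (Nat.mul_le_mul_left _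
            (e5.trans (Nat.mul_le_mul_left _ (e6'.trans (Nat.mul_le_mul_left _ e7)))))))))))
    _ = 40320 := by norm_num

end Cfsg.Agent.Helper13.O6Plus
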