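import Mathlib
import Cfsg.Agent.Lib.Helper13.Hyperbolic

set_option autoImplicit false

namespace Cfsg.Agent.Helper13

open QuadraticMap

/-- the sign character on `ZMod 2` -/
def chi2 (a : ZMod 2) : ℤ := if a = 0 then 1 else -1

theorem chi2_add (a b : ZMod 2) : chi2 (a + b) = chi2 a * chi2 b := by
  revert a b; decide

@[simp] theorem chi2_zero : chi2 0 = 1 := rfl
@[simp] theorem chi2_one : chi2 1 = -1 := rfl

theorem chi2_mul_self (a : ZMod 2) : chi2 a * chi2 a = 1 := by
  revert a; decide

theorem zmod2_add_self (a : ZMod 2) : a + a = 0 := by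
  revert a; decide

theorem zmod2_eq_one_of_ne_zero {a : ZMod 2} (h : a ≠ 0) : a = 1 := by
  revert a; decide

section
variable {V : Type*} [AddCommGroup V] [Fintype V]

/-- orthogonality for a nontrivial additive character -/
theorem sum_chi2_additive (l : V → ZMod 2) (hadd : ∀ u v, l (u + v) = l u + l v)
    (u₀ : V) (hu₀ : l u₀ = 1) : ∑ v, chi2 (l v) = 0 := by
  have h1 : ∑ v, chi2 (l v) = ∑ v, chi2 (l (v + u₀)) :=
    (Fintype.sum_equiv (Equiv.addRight u₀) _ _ (fun v => rfl)).symm
  have h2 : ∑ v, chi2 (l (v + u₀)) = - ∑ v, chi2 (l v) := by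
    rw [← Finset.sum_neg_distrib]
    refine Finset.sum_congr rfl fun v _ => ?_
    rw [hadd, chi2_add, hu₀, chi2_one]; ring
  linarith

variable [Module (ZMod 2) V]

/-- the character sum of a quadratic function -/
def charSum (q : V → ZMod 2) : ℤ := ∑ v, chi2 (q v)

/-- the square of the character sum of a function polarizing to a nondegenerate form is `|V|` -/
theorem charSum_sq (Q0 : QuadraticForm (ZMod 2) V) (hnd : (polarBilin Q0).Nondegenerate)
    (q : V → ZMod 2) (hq : ∀ u v, q (u + v) = q u + q v + polar Q0 u v) :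
    charSum q ^ 2 = Fintype.card V := by
  classical
  have hq0 : q 0 = 0 := by
    have := hq 0 0
    simp only [add_zero, polar_zero_left] at this
    have h2 := zmod2_add_self (q 0)
    rw [← this] at h2
    exact h2
  unfold charSum
  rw [pow_two, Finset.sum_mul_sum]
  have h1 : ∀ u, ∑ v, chi2 (q u) * chi2 (q v) = ∑ s, chi2 (q s) * chi2 (polar Q0 s u) := by
    intro u
    rw [← Fintype.sum_equiv (Equiv.addRight u) (fun s => chi2 (q u) * chi2 (q (s + u)))
      (fun v => chi2 (q u) * chi2 (q v)) (fun s => rfl)]
    refine Finset.sum_congr rfl fun s _ => ?_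
    rw [hq s u, ← chi2_add, ← chi2_add]
    congr 1
    have := zmod2_add_self (q u)
    calc q u + (q s + q u + polar Q0 s u) = (q u + q u) + (q s + polar Q0 s u) := by ring
      _ = q s + polar Q0 s u := by rw [this, zero_add]
  simp_rw [h1]
  rw [Finset.sum_comm]
  simp_rw [← Finset.mul_sum]
  rw [Finset.sum_eq_single 0]
  · rw [hq0, chi2_zero, one_mul]
    simp [polar_zero_left]
  · intro s _ hs
    obtain ⟨u₀, hu₀⟩ := exists_polar_ne_zero Q0 hnd hs
    rw [sum_chi2_additive (fun u => polar Q0 s u) (fun u v => polar_add_right _ _ _ _) u₀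
      (zmod2_eq_one_of_ne_zero hu₀), mul_zero]
  · intro h; exact absurd (Finset.mem_univ 0) h

theorem charSum_ne_zero [Nonempty V] (Q0 : QuadraticForm (ZMod 2) V)
    (hnd : (polarBilin Q0).Nondegenerate)
    (q : V → ZMod 2) (hq : ∀ u v, q (u + v) = q u + q v + polar Q0 u v) : charSum q ≠ 0 := by
  intro h
  have := charSum_sq Q0 hnd q hq
  rw [h] at this
  have hpos : 0 < Fintype.card V := Fintype.card_pos
  simp at this
  omega

end

section singular
variable {F : Type*} [Field F] {V : Type*} [AddCommGroup V] [Module F V] [FiniteDimensional F V]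

omit [FiniteDimensional F V] in
theorem le_orthogonal_of_totally_singular (Q : QuadraticForm F V) (U : Submodule F V)
    (hU : ∀ u ∈ U, Q u = 0) : U ≤ LinearMap.BilinForm.orthogonal (polarBilin Q) U := by
  intro v hv
  rw [LinearMap.BilinForm.mem_orthogonal_iff]
  intro u hu
  show polar Q u v = 0
  rw [polar, hU _ (U.add_mem hu hv), hU u hu, hU v hv]; ring

/-- a totally singular subspace has at most half the dimension -/
theorem finrank_le_of_totally_singular (Q : QuadraticForm F V)
    (hnd : (polarBilin Q).Nondegenerate) (U : Submodule F V) (hU : ∀ u ∈ U, Q u = 0) :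
    2 * Module.finrank F U ≤ Module.finrank F V := by
  have h1 := Submodule.finrank_mono (le_orthogonal_of_totally_singular Q U hU)
  have h2 := LinearMap.BilinForm.finrank_orthogonal hnd U
  have h3 := Submodule.finrank_le U
  omega

theorem orthogonal_eq_of_lagrangian (Q : QuadraticForm F V)
    (hnd : (polarBilin Q).Nondegenerate) (U : Submodule F V) (hU : ∀ u ∈ U, Q u = 0)
    (hdim : 2 * Module.finrank F U = Module.finrank F V) :
    LinearMap.BilinForm.orthogonal (polarBilin Q) U = U := by
  symm
  apply Submodule.eq_of_le_of_finrank_eq (le_orthogonal_of_totally_singular Q U hU)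
  have h2 := LinearMap.BilinForm.finrank_orthogonal hnd U
  omega

end singular

section lagrangian
variable {V : Type*} [AddCommGroup V] [Fintype V] [Module (ZMod 2) V]

/-- the character sum of a form with a Lagrangian (totally singular of half dimension) is `|U|` -/
theorem charSum_eq_card_of_lagrangian (Q : QuadraticForm (ZMod 2) V)
    (hnd : (polarBilin Q).Nondegenerate) (U : Submodule (ZMod 2) V) (hU : ∀ u ∈ U, Q u = 0)
    (hdim : 2 * Module.finrank (ZMod 2) U = Module.finrank (ZMod 2) V) :
    charSum (⇑Q) = Nat.card U := by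
  classical
  have horth := orthogonal_eq_of_lagrangian Q hnd U hU hdim
  -- inner sums
  have hT : ∀ v : V, ∑ u : U, chi2 (polar Q v (u : V)) = if v ∈ U then (Fintype.card U : ℤ) else 0 := by
    intro v
    split_ifs with hv
    · have : ∀ u : U, chi2 (polar Q v (u : V)) = 1 := by
        intro u
        have h0 : polar Q v (u : V) = 0 := by
          rw [polar, hU _ (U.add_mem hv u.2), hU v hv, hU _ u.2]; ring
        rw [h0, chi2_zero]
      simp [this]
    · have hv' : v ∉ LinearMap.BilinForm.orthogonal (polarBilin Q) U := by rw [horth]; exact hv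
      rw [LinearMap.BilinForm.mem_orthogonal_iff] at hv'
      push Not at hv'
      obtain ⟨u₀, hu₀U, hu₀⟩ := hv'
      have hu₀' : polar Q v u₀ = 1 := by
        apply zmod2_eq_one_of_ne_zero
        rw [polar_comm]; exact hu₀
      exact sum_chi2_additive (V := U) (fun u => polar Q v (u : V))
        (fun a b => by simp [polar_add_right]) ⟨u₀, hu₀U⟩ hu₀'
  have h1 : (Fintype.card U : ℤ) * charSum (⇑Q) = (Fintype.card U : ℤ) * (Fintype.card U : ℤ) := by
    have e1 : (Fintype.card U : ℤ) * charSum (⇑Q) = ∑ u : U, ∑ v : V, chi2 (Q (v + u)) := by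
      unfold charSum
      rw [← Finset.card_univ, ← nsmul_eq_mul, ← Finset.sum_const]
      refine Finset.sum_congr rfl fun u _ => ?_
      exact (Fintype.sum_equiv (Equiv.addRight (u : V)) _ _ (fun v => rfl)).symm
    rw [e1, Finset.sum_comm]
    have e2 : ∀ v : V, ∑ u : U, chi2 (Q (v + u)) = chi2 (Q v) * ∑ u : U, chi2 (polar Q v (u : V)) := by
      intro v
      rw [Finset.mul_sum]
      refine Finset.sum_congr rfl fun u _ => ?_
      have : Q (v + u) = Q v + polar Q v (u : V) := by
        rw [polar, hU _ u.2]; ring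
      rw [this, chi2_add]
    simp_rw [e2, hT]
    have e3 : ∀ v : V, chi2 (Q v) * (if v ∈ U then (Fintype.card U : ℤ) else 0)
        = if v ∈ U then (Fintype.card U : ℤ) else 0 := by
      intro v
      split_ifs with hv
      · rw [hU v hv, chi2_zero, one_mul]
      · rw [mul_zero]
    simp_rw [e3]
    rw [Finset.sum_ite, Finset.sum_const_zero, add_zero, Finset.sum_const, nsmul_eq_mul]
    congr 1
    rw [Fintype.card_subtype]
  have hpos : (Fintype.card U : ℤ) ≠ 0 := by
    have : 0 < Fintype.card U := Fintype.card_pos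
    exact_mod_cast this.ne'
  rw [Nat.card_eq_fintype_card]
  exact mul_left_cancel₀ hpos h1

end lagrangian

section product

/-- character sums are multiplicative over orthogonal sums -/
theorem charSum_sum_elim {α β : Type*} [Fintype α] [Fintype β] [DecidableEq α] [DecidableEq β]
    (q₁ : (α → ZMod 2) → ZMod 2) (q₂ : (β → ZMod 2) → ZMod 2) :
    charSum (fun v : α ⊕ β → ZMod 2 => q₁ (v ∘ Sum.inl) + q₂ (v ∘ Sum.inr)) =
      charSum q₁ * charSum q₂ := by
  unfold charSum
  rw [Finset.sum_mul_sum, ← Fintype.sum_prod_type']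
  refine Fintype.sum_equiv (Equiv.sumArrowEquivProdArrow α β (ZMod 2)) _ _ fun v => ?_
  rw [chi2_add]
  rfl

end product

end Cfsg.Agent.Helper13
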