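import Mathlib
import Cfsg.Agent.Lib.Helper13.MatQuad
import Cfsg.Agent.Lib.Helper13.F2Quad

set_option autoImplicit false

namespace Cfsg.Agent.Helper13

open Module QuadraticMap Matrix

section
variable {F : Type*} [Field F] {ι : Type*} [Fintype ι] [DecidableEq ι]
variable {V : Type*} [AddCommGroup V] [Module F V]

/-- quadratic forms agreeing on a basis (values and polars) are equal -/
theorem quad_ext_basis (Q Q' : QuadraticForm F V) (b : Module.Basis ι F V)
    (h1 : ∀ i, Q (b i) = Q' (b i))
    (h2 : ∀ i j, i ≠ j → polar Q (b i) (b j) = polar Q' (b i) (b j)) : Q = Q' := by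
  classical
  let _ : LinearOrder ι := LinearOrder.lift' (Fintype.equivFin ι) (Fintype.equivFin ι).injective
  have hB : Q.toBilin b = Q'.toBilin b := by
    refine b.ext fun i => b.ext fun j => ?_
    rw [QuadraticMap.toBilin_apply, QuadraticMap.toBilin_apply, h1]
    by_cases hij : i = j
    · rw [if_pos hij, if_pos hij]
    · rw [if_neg hij, if_neg hij, h2 i j hij]
  have e1 := toQuadraticMap_toBilin Q b
  have e2 := toQuadraticMap_toBilin Q' b
  rw [← e1, ← e2, hB]

/-- a quadratic form is `matQ M` in the coordinates of a basis with the right Gram data -/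
theorem equivFun_basis (b : Module.Basis ι F V) (i : ι) : b.equivFun (b i) = Pi.single i 1 := by
  funext j
  rw [Module.Basis.equivFun_self, Pi.single_apply]
  simp only [eq_comm]

/-- a quadratic form is `matQ M` in the coordinates of a basis with the right Gram data -/
theorem eq_matQ_of_basis (Q : QuadraticForm F V) (b : Module.Basis ι F V) (M : Matrix ι ι F)
    (hdiag : ∀ i, Q (b i) = M i i)
    (hoff : ∀ i j, i ≠ j → polar Q (b i) (b j) = M i j + M j i) :
    ∀ v, Q v = matQ M (b.equivFun v) := by
  have h : Q = (matQ M).comp (b.equivFun : V →ₗ[F] (ι → F)) := by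
    apply quad_ext_basis _ _ b
    · intro i
      rw [QuadraticMap.comp_apply, hdiag]
      show M i i = matQ M (b.equivFun (b i))
      rw [equivFun_basis, matQ_single]
    · intro i j hij
      rw [hoff i j hij]
      have : polar (⇑((matQ M).comp (b.equivFun : V →ₗ[F] (ι → F)))) (b i) (b j)
          = polar (⇑(matQ M)) (b.equivFun (b i)) (b.equivFun (b j)) := by
        simp [polar]
      rw [this, equivFun_basis, equivFun_basis, polar_matQ_single]
  intro v
  rw [h]
  rfl

end

section count
variable {V : Type*} [Fintype V]

/-- counting zeros through the character sum -/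
theorem two_mul_card_zeros [AddCommGroup V] [Module (ZMod 2) V] [DecidableEq V] (q : V → ZMod 2) :
    2 * (Fintype.card {v // q v = 0} : ℤ) = Fintype.card V + charSum q := by
  classical
  unfold charSum chi2
  rw [Finset.sum_ite, Finset.sum_const, Finset.sum_const, Fintype.card_subtype]
  have := Finset.card_filter_add_card_filter_not (s := (Finset.univ : Finset V)) (fun v => q v = 0)
  rw [Finset.card_univ] at this
  simp only [nsmul_eq_mul, mul_one, mul_neg]
  rw [← this]
  push_cast
  ring

end count

end Cfsg.Agent.Helper13
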