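import Mathlib
import Cfsg.Agent.Lib.Helper13.QuadBasis
import Cfsg.Agent.S2616
import Cfsg.Agent.S2564
import Cfsg.Agent.S2562

set_option autoImplicit false

/-! # Type (plus / minus) of a nondegenerate quadratic form over `F_2` via its character sum -/

namespace Cfsg.Agent.Helper13

open QuadraticMap Module Matrix Cfsg.Agent.S2564 Cfsg.Agent.S2562

theorem zmod2_cases' : ∀ a : ZMod 2, a = 0 ∨ a = 1 := by decide

theorem plus_or_minus_gen {V : Type*} [AddCommGroup V] [Module (ZMod 2) V]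
    [FiniteDimensional (ZMod 2) V] (m : ℕ) (hm : 1 ≤ m) (hV : finrank (ZMod 2) V = 2 * m)
    (Q : QuadraticForm (ZMod 2) V) (hQ : (polarBilin Q).Nondegenerate) :
    (∃ g : V ≃ₗ[ZMod 2] (Fin m ⊕ Fin m → ZMod 2), ∀ v, Q v = Qp m (g v)) ∨
    (∃ g : V ≃ₗ[ZMod 2] ((Fin (m - 1) ⊕ Fin (m - 1)) ⊕ Fin 2 → ZMod 2),
      ∀ v, Q v = Qm (m - 1) (g v)) := by
  rcases Cfsg.Agent.S2616.result (F := ZMod 2) (V := V) hm hV Q hQ with
    ⟨b, h1, h2, h3⟩ | ⟨b, ζ, hζ, h1, h2, h3, h4, h5, h6, h7⟩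
  · left
    refine ⟨b.equivFun, ?_⟩
    intro v
    refine eq_matQ_of_basis Q b (plusMat m (ZMod 2)) ?_ ?_ v
    · rintro (i | i)
      · rw [(h1 i).1]; simp [plusMat]
      · rw [(h1 i).2]; simp [plusMat]
    · rintro (i | i) (j | j) hij
      · rw [(h3 i j).1]; simp [plusMat]
      · rw [h2 i j]; simp [plusMat, Matrix.one_apply]
      · rw [polar_comm, h2 j i]; simp [plusMat, Matrix.one_apply]
      · rw [(h3 i j).2]; simp [plusMat]
  · right
    have hζ1 : ζ = 1 := by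
      rcases zmod2_cases' ζ with h | h
      · exfalso; apply hζ 0; rw [h]; simp
      · exact h
    refine ⟨b.equivFun, ?_⟩
    intro v
    refine eq_matQ_of_basis Q b (minusMat (m - 1) (1 : ZMod 2) 1) ?_ ?_ v
    · rintro ((i | i) | i)
      · rw [(h1 i).1]; simp [minusMat, plusMat]
      · rw [(h1 i).2]; simp [minusMat, plusMat]
      · fin_cases i
        · rw [show ((⟨0, by norm_num⟩ : Fin 2)) = 0 from rfl, h5]; simp [minusMat]
        · rw [show ((⟨1, by norm_num⟩ : Fin 2)) = 1 from rfl, h7, hζ1]; simp [minusMat]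
    · rintro ((i | i) | i) ((j | j) | j) hij
      · rw [(h3 i j).1]; simp [minusMat, plusMat]
      · rw [h2 i j]; simp [minusMat, plusMat, Matrix.one_apply]
      · rw [(h4 i j).1]; simp [minusMat]
      · rw [polar_comm, h2 j i]; simp [minusMat, plusMat, Matrix.one_apply]
      · rw [(h3 i j).2]; simp [minusMat, plusMat]
      · rw [(h4 i j).2]; simp [minusMat]
      · rw [polar_comm, (h4 j i).1]; simp [minusMat]
      · rw [polar_comm, (h4 j i).2]; simp [minusMat]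
      · fin_cases i <;> fin_cases j
        · exact absurd rfl hij
        · show polar Q (b (Sum.inr 0)) (b (Sum.inr 1)) = _
          rw [h6]; simp [minusMat]
        · show polar Q (b (Sum.inr 1)) (b (Sum.inr 0)) = _
          rw [polar_comm, h6]; simp [minusMat]
        · exact absurd rfl hij

theorem charSum_comp' {V W : Type*} [Fintype V] [Fintype W] [AddCommGroup V] [AddCommGroup W]
    [Module (ZMod 2) V] [Module (ZMod 2) W] (g : V ≃ₗ[ZMod 2] W) (q : W → ZMod 2) :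
    charSum (fun v => q (g v)) = charSum q := by
  unfold charSum
  exact Fintype.sum_equiv g.toEquiv _ _ (fun v => rfl)

/-- the type is read off from the sign of the character sum -/
theorem type_of_charSum {V : Type*} [AddCommGroup V] [Module (ZMod 2) V] [Fintype V]
    [FiniteDimensional (ZMod 2) V] (m : ℕ) (hm : 1 ≤ m) (hV : finrank (ZMod 2) V = 2 * m)
    (Q : QuadraticForm (ZMod 2) V) (hQ : (polarBilin Q).Nondegenerate) :
    (0 < charSum (⇑Q) → ∃ g : V ≃ₗ[ZMod 2] (Fin m ⊕ Fin m → ZMod 2),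
      ∀ v, Q v = Cfsg.quadFormPlus m (ZMod 2) (g v)) ∧
    (charSum (⇑Q) < 0 → ∃ g : V ≃ₗ[ZMod 2] ((Fin (m - 1) ⊕ Fin (m - 1)) ⊕ Fin 2 → ZMod 2),
      ∀ v, Q v = Cfsg.quadFormMinus (m - 1) (ZMod 2) 1 1 (g v)) := by
  have hp : ∀ g : V ≃ₗ[ZMod 2] (Fin m ⊕ Fin m → ZMod 2), (∀ v, Q v = Qp m (g v)) →
      charSum (⇑Q) = 2 ^ m := by
    intro g hg
    have : (⇑Q) = fun v => (Qp m) (g v) := funext hg
    rw [this, charSum_comp' g (⇑(Qp m)), charSum_Qp]
  have hmn : ∀ g : V ≃ₗ[ZMod 2] ((Fin (m - 1) ⊕ Fin (m - 1)) ⊕ Fin 2 → ZMod 2),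
      (∀ v, Q v = Qm (m - 1) (g v)) → charSum (⇑Q) = -(2 ^ (m - 1 + 1)) := by
    intro g hg
    have : (⇑Q) = fun v => (Qm (m - 1)) (g v) := funext hg
    rw [this, charSum_comp' g (⇑(Qm (m - 1))), charSum_Qm]
  have h3 : (0 : ℤ) < 2 ^ m := by positivity
  have h4 : (0 : ℤ) < 2 ^ (m - 1 + 1) := by positivity
  rcases plus_or_minus_gen m hm hV Q hQ with ⟨g, hg⟩ | ⟨g, hg⟩
  · refine ⟨fun _ => ⟨g, fun v => by rw [hg v, Qp_eq]⟩, fun h => ?_⟩
    rw [hp g hg] at h
    linarith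
  · refine ⟨fun h => ?_, fun _ => ⟨g, fun v => by rw [hg v, Qm_eq]⟩⟩
    rw [hmn g hg] at h
    linarith

end Cfsg.Agent.Helper13
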