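import Mathlib
import Cfsg.Agent.Lib.Helper13.F2Quad

set_option autoImplicit false
set_option linter.unusedSectionVars false

/-! # The even-weight permutation module modulo the all-ones vector, over `F_2`

Points are `ι ⊕ Fin 2`; the module `E/⟨1⟩` is realised on `ι → ZMod 2`. -/

namespace Cfsg.Agent.Helper13.PermMod

open Equiv

variable {ι : Type*} [Fintype ι] [DecidableEq ι]

/-- the points -/
abbrev Pt (ι : Type*) := ι ⊕ Fin 2
/-- the permutation module -/
abbrev W (ι : Type*) := Pt ι → ZMod 2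
/-- the model of `E/⟨1⟩` -/
abbrev V (ι : Type*) := ι → ZMod 2

theorem z2_add_self (a : ZMod 2) : a + a = 0 := by
  revert a; decide

/-- the sum of the coordinates -/
def tot : W ι →ₗ[ZMod 2] ZMod 2 where
  toFun x := ∑ p, x p
  map_add' x y := by simp only [Pi.add_apply, Finset.sum_add_distrib]
  map_smul' c x := by simp only [Pi.smul_apply, smul_eq_mul, RingHom.id_apply, Finset.mul_sum]

theorem tot_apply (x : W ι) : tot x = ∑ p, x p := rfl

/-- the section `E/⟨1⟩ → E` -/
def emb : V ι →ₗ[ZMod 2] W ι where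
  toFun y := Sum.elim y ![∑ j, y j, 0]
  map_add' y y' := by
    funext p
    rcases p with j | i
    · rfl
    · fin_cases i
      · simp [Finset.sum_add_distrib]
      · simp
  map_smul' c y := by
    funext p
    rcases p with j | i
    · rfl
    · fin_cases i
      · simp [Finset.mul_sum]
      · simp

@[simp] theorem emb_inl (y : V ι) (j : ι) : emb y (Sum.inl j) = y j := rfl
@[simp] theorem emb_inr_zero (y : V ι) : emb y (Sum.inr 0) = ∑ j, y j := rfl
@[simp] theorem emb_inr_one (y : V ι) : emb y (Sum.inr 1) = 0 := rfl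

/-- the projection `W → E/⟨1⟩` (only meaningful on `E`) -/
def proj : W ι →ₗ[ZMod 2] V ι where
  toFun x j := x (Sum.inl j) + x (Sum.inr 1)
  map_add' x y := by
    funext j
    simp only [Pi.add_apply]
    ring
  map_smul' c x := by
    funext j
    simp only [Pi.smul_apply, smul_eq_mul, RingHom.id_apply]
    ring

@[simp] theorem proj_apply (x : W ι) (j : ι) : proj x j = x (Sum.inl j) + x (Sum.inr 1) := rfl

theorem proj_emb (y : V ι) : proj (emb y) = y := by
  funext j
  simp

theorem tot_emb (y : V ι) : tot (emb y) = 0 := by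
  rw [tot_apply, Fintype.sum_sum_type, Fin.sum_univ_two]
  simp only [emb_inl, emb_inr_zero, emb_inr_one, add_zero]
  exact z2_add_self _

/-- the constant vector -/
def const (c : ZMod 2) : W ι := fun _ => c

theorem proj_const (c : ZMod 2) : proj (const c : W ι) = 0 := by
  funext j
  simp [const, z2_add_self]

theorem tot_const (c : ZMod 2) : tot (const c : W ι) = (Fintype.card (Pt ι) : ZMod 2) * c := by
  simp [tot_apply, const]

theorem card_Pt : Fintype.card (Pt ι) = Fintype.card ι + 2 := by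
  simp

theorem emb_proj (hι : Even (Fintype.card ι)) (x : W ι) (hx : tot x = 0) :
    emb (proj x) = x + const (x (Sum.inr 1)) := by
  have hc : (Fintype.card ι : ZMod 2) = 0 := by
    rw [ZMod.natCast_eq_zero_iff]
    exact hι.two_dvd
  have hx' : ∑ j, x (Sum.inl j) = x (Sum.inr 0) + x (Sum.inr 1) := by
    rw [tot_apply, Fintype.sum_sum_type, Fin.sum_univ_two] at hx
    have h1 := z2_add_self (x (Sum.inr 0) + x (Sum.inr 1))
    linear_combination hx - h1
  funext p
  rcases p with j | i
  · simp [const]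
  · fin_cases i
    · simp [const, Finset.sum_add_distrib, hx', hc]
    · simp [const, z2_add_self]

/-- the permutation action -/
def perm (σ : Perm (Pt ι)) : W ι →ₗ[ZMod 2] W ι :=
  LinearMap.funLeft (ZMod 2) (ZMod 2) σ.symm

@[simp] theorem perm_apply (σ : Perm (Pt ι)) (x : W ι) (p : Pt ι) : perm σ x p = x (σ.symm p) := rfl

theorem perm_mul (σ τ : Perm (Pt ι)) (x : W ι) : perm (σ * τ) x = perm σ (perm τ x) := by
  funext p
  simp [Perm.mul_def]

theorem perm_one (x : W ι) : perm (1 : Perm (Pt ι)) x = x := by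
  funext p
  rfl

theorem perm_const (σ : Perm (Pt ι)) (c : ZMod 2) : perm σ (const c : W ι) = const c := rfl

theorem tot_perm (σ : Perm (Pt ι)) (x : W ι) : tot (perm σ x) = tot x := by
  rw [tot_apply, tot_apply]
  exact Equiv.sum_comp σ.symm x

/-- the action on `E/⟨1⟩` -/
def rho (σ : Perm (Pt ι)) : V ι →ₗ[ZMod 2] V ι := proj ∘ₗ perm σ ∘ₗ emb

theorem rho_apply (σ : Perm (Pt ι)) (y : V ι) : rho σ y = proj (perm σ (emb y)) := rfl

theorem emb_rho (hι : Even (Fintype.card ι)) (σ : Perm (Pt ι)) (y : V ι) :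
    ∃ c, emb (rho σ y) = perm σ (emb y) + const c := by
  refine ⟨_, emb_proj hι _ ?_⟩
  change tot (perm σ (emb y)) = 0
  rw [tot_perm, tot_emb]

theorem rho_one (y : V ι) : rho (1 : Perm (Pt ι)) y = y := by
  rw [rho_apply, perm_one, proj_emb]

theorem rho_mul (hι : Even (Fintype.card ι)) (σ τ : Perm (Pt ι)) (y : V ι) :
    rho (σ * τ) y = rho σ (rho τ y) := by
  obtain ⟨c, hc⟩ := emb_rho hι τ y
  rw [rho_apply σ, hc, map_add, map_add, perm_const, proj_const, add_zero, ← perm_mul]
  rfl

/-! ### The bilinear form -/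

open Matrix

theorem dot_perm (σ : Perm (Pt ι)) (x x' : W ι) : perm σ x ⬝ᵥ perm σ x' = x ⬝ᵥ x' := by
  unfold dotProduct
  exact Equiv.sum_comp σ.symm (fun p => x p * x' p)

theorem dot_const (c : ZMod 2) (x : W ι) : x ⬝ᵥ const c = c * tot x := by
  unfold dotProduct
  rw [tot_apply, Finset.mul_sum]
  exact Finset.sum_congr rfl fun p _ => mul_comm _ _

theorem const_dot (c : ZMod 2) (x : W ι) : const c ⬝ᵥ x = c * tot x := by
  rw [dotProduct_comm, dot_const]

theorem card_Pt_zero (hι : Even (Fintype.card ι)) : (Fintype.card (Pt ι) : ZMod 2) = 0 := by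
  rw [ZMod.natCast_eq_zero_iff, card_Pt]
  exact (Nat.dvd_add_right hι.two_dvd).2 dvd_rfl

/-- the alternating form on `E/⟨1⟩` -/
def bform : V ι →ₗ[ZMod 2] V ι →ₗ[ZMod 2] ZMod 2 :=
  LinearMap.mk₂ (ZMod 2) (fun y y' => emb y ⬝ᵥ emb y')
    (fun y₁ y₂ y' => by rw [map_add, add_dotProduct])
    (fun c y y' => by rw [map_smul, smul_dotProduct])
    (fun y y₁ y₂ => by rw [map_add, dotProduct_add])
    (fun c y y' => by rw [map_smul, dotProduct_smul])

theorem bform_apply (y y' : V ι) : bform y y' = emb y ⬝ᵥ emb y' := rfl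

theorem bform_eq (y y' : V ι) : bform y y' = y ⬝ᵥ y' + (∑ j, y j) * (∑ j, y' j) := by
  rw [bform_apply]
  unfold dotProduct
  rw [Fintype.sum_sum_type, Fin.sum_univ_two]
  simp

theorem bform_rho (hι : Even (Fintype.card ι)) (σ : Perm (Pt ι)) (y y' : V ι) :
    bform (rho σ y) (rho σ y') = bform y y' := by
  obtain ⟨c, hc⟩ := emb_rho hι σ y
  obtain ⟨c', hc'⟩ := emb_rho hι σ y'
  rw [bform_apply, bform_apply, hc, hc', add_dotProduct, dotProduct_add, dotProduct_add, dot_perm,
    dot_const, const_dot, const_dot, tot_perm, tot_perm, tot_emb, tot_emb, tot_const,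
    card_Pt_zero hι]
  ring

theorem bform_self (y : V ι) : bform y y = 0 := by
  rw [bform_eq]
  have h : y ⬝ᵥ y = ∑ j, y j := by
    unfold dotProduct
    refine Finset.sum_congr rfl fun j _ => ?_
    generalize y j = a
    revert a; decide
  rw [h]
  generalize ∑ j, y j = a
  revert a; decide

theorem bform_nondeg (hι : Even (Fintype.card ι)) (y : V ι) (h : ∀ y', bform y y' = 0) : y = 0 := by
  have hc : (Fintype.card ι : ZMod 2) = 0 := by
    rw [ZMod.natCast_eq_zero_iff]
    exact hι.two_dvd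
  have h1 : ∀ j, y j = ∑ i, y i := by
    intro j
    have h2 := h (Pi.single j 1)
    rw [bform_eq, dotProduct_single_one, Finset.sum_pi_single', if_pos (Finset.mem_univ _),
      mul_one] at h2
    have h3 := z2_add_self (∑ i, y i)
    linear_combination h2 - h3
  have h2 : ∑ i, y i = 0 := by
    have : ∑ i, y i = ∑ _i : ι, ∑ i, y i := Finset.sum_congr rfl fun j _ => h1 j
    rw [this, Finset.sum_const, Finset.card_univ, nsmul_eq_mul, hc, zero_mul]
  funext j
  rw [h1 j, h2]
  rfl

/-! ### The quadratic form -/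

/-- lift `ZMod 2 → ZMod 4` -/
def lift4 (a : ZMod 2) : ZMod 4 := if a = 0 then 0 else 1

/-- the weight modulo four -/
def wt4 (x : W ι) : ZMod 4 := ∑ p, lift4 (x p)

/-- halving an even residue modulo four -/
def half (t : ZMod 4) : ZMod 2 := if t = 2 ∨ t = 3 then 1 else 0

/-- reduction modulo two -/
def red : ZMod 4 →+* ZMod 2 where
  toFun t := if t = 0 ∨ t = 2 then 0 else 1
  map_one' := by decide
  map_mul' := by decide
  map_zero' := by decide
  map_add' := by decide

theorem red_lift4 : ∀ a, red (lift4 a) = a := by decide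
theorem lift4_add : ∀ a b, lift4 (a + b) = lift4 a + lift4 b - 2 * (lift4 a * lift4 b) := by decide
theorem half_key : ∀ a b c : ZMod 4, red a = 0 → red b = 0 →
    half (a + b - 2 * c) = half a + half b + red c := by decide

/-- the quadratic function `wt/2` on even-weight vectors -/
def qW (x : W ι) : ZMod 2 := half (wt4 x)

theorem red_wt4 (x : W ι) : red (wt4 x) = tot x := by
  rw [wt4, map_sum, tot_apply]
  exact Finset.sum_congr rfl fun p _ => red_lift4 _

theorem wt4_add (x x' : W ι) :
    wt4 (x + x') = wt4 x + wt4 x' - 2 * ∑ p, lift4 (x p) * lift4 (x' p) := by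
  unfold wt4
  rw [Finset.mul_sum, ← Finset.sum_add_distrib, ← Finset.sum_sub_distrib]
  exact Finset.sum_congr rfl fun p _ => lift4_add _ _

theorem red_cross (x x' : W ι) : red (∑ p, lift4 (x p) * lift4 (x' p)) = x ⬝ᵥ x' := by
  rw [map_sum]
  unfold dotProduct
  refine Finset.sum_congr rfl fun p _ => ?_
  rw [map_mul, red_lift4, red_lift4]

theorem qW_add (x x' : W ι) (hx : tot x = 0) (hx' : tot x' = 0) :
    qW (x + x') = qW x + qW x' + x ⬝ᵥ x' := by
  unfold qW
  rw [wt4_add, half_key _ _ _ (by rw [red_wt4, hx]) (by rw [red_wt4, hx']), red_cross]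

theorem wt4_perm (σ : Perm (Pt ι)) (x : W ι) : wt4 (perm σ x) = wt4 x := by
  unfold wt4
  exact Equiv.sum_comp σ.symm (fun p => lift4 (x p))

theorem qW_perm (σ : Perm (Pt ι)) (x : W ι) : qW (perm σ x) = qW x := by
  unfold qW
  rw [wt4_perm]

theorem qW_const (h4 : 4 ∣ Fintype.card (Pt ι)) (c : ZMod 2) : qW (const c : W ι) = 0 := by
  have h0 : ((Fintype.card (Pt ι) : ℕ) : ZMod 4) = 0 := by
    rw [ZMod.natCast_eq_zero_iff]; exact h4
  unfold qW wt4 const
  rw [Finset.sum_const, Finset.card_univ, nsmul_eq_mul, h0, zero_mul]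
  decide

theorem tot_const_zero (h4 : 4 ∣ Fintype.card (Pt ι)) (c : ZMod 2) : tot (const c : W ι) = 0 := by
  rw [tot_const]
  have : ((Fintype.card (Pt ι) : ℕ) : ZMod 2) = 0 := by
    rw [ZMod.natCast_eq_zero_iff]; exact dvd_trans (by norm_num) h4
  rw [this, zero_mul]

theorem qW_add_const (h4 : 4 ∣ Fintype.card (Pt ι)) (x : W ι) (hx : tot x = 0) (c : ZMod 2) :
    qW (x + const c) = qW x := by
  rw [qW_add _ _ hx (tot_const_zero h4 c), qW_const h4, dot_const, hx]
  ring

theorem qW_zero : qW (0 : W ι) = 0 := by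
  unfold qW wt4
  simp only [Pi.zero_apply]
  rw [Finset.sum_const, Finset.card_univ, nsmul_eq_mul]
  have : lift4 0 = 0 := by decide
  rw [this, mul_zero]
  decide

/-- the quadratic form on `E/⟨1⟩` -/
def qV (ι : Type*) [Fintype ι] [DecidableEq ι] : QuadraticForm (ZMod 2) (V ι) where
  toFun y := qW (emb y)
  toFun_smul a y := by
    have ha : a = 0 ∨ a = 1 := by revert a; decide
    rcases ha with rfl | rfl
    · simp [qW_zero]
    · simp
  exists_companion' := ⟨bform, fun y y' => by
    rw [map_add, qW_add _ _ (tot_emb y) (tot_emb y')]; rfl⟩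

theorem qV_apply (y : V ι) : qV ι y = qW (emb y) := rfl

theorem polar_qV (y y' : V ι) : QuadraticMap.polar (qV ι) y y' = bform y y' := by
  unfold QuadraticMap.polar
  rw [qV_apply, qV_apply, qV_apply, map_add, qW_add _ _ (tot_emb y) (tot_emb y'), bform_apply]
  ring

theorem even_of_four_dvd (h4 : 4 ∣ Fintype.card (Pt ι)) : Even (Fintype.card ι) := by
  rw [card_Pt] at h4
  rw [Nat.even_iff]
  omega

theorem qV_rho (h4 : 4 ∣ Fintype.card (Pt ι)) (σ : Perm (Pt ι)) (y : V ι) :
    qV ι (rho σ y) = qV ι y := by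
  obtain ⟨c, hc⟩ := emb_rho (even_of_four_dvd h4) σ y
  rw [qV_apply, qV_apply, hc, qW_add_const h4 _ (by rw [tot_perm, tot_emb]), qW_perm]

theorem qV_nondeg (hι : Even (Fintype.card ι)) :
    (QuadraticMap.polarBilin (qV ι)).Nondegenerate := by
  refine ⟨fun y hy => bform_nondeg hι y fun y' => ?_, fun y hy => bform_nondeg hι y fun y' => ?_⟩
  · rw [← polar_qV]; exact hy y'
  · rw [← polar_qV, QuadraticMap.polar_comm]; exact hy y'

/-! ### The character sum -/

/-- powers of the imaginary unit -/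
def ipow (t : ZMod 4) : GaussianInt :=
  if t = 0 then 1 else if t = 1 then ⟨0, 1⟩ else if t = 2 then -1 else ⟨0, -1⟩

theorem ipow_add : ∀ a b : ZMod 4, ipow (a + b) = ipow a * ipow b := by decide

theorem ipow_zero : ipow 0 = 1 := by decide

theorem ipow_sum {α : Type*} (s : Finset α) (f : α → ZMod 4) :
    ipow (∑ p ∈ s, f p) = ∏ p ∈ s, ipow (f p) := by
  classical
  induction s using Finset.induction_on with
  | empty => simp [ipow_zero]
  | insert a s ha ih => rw [Finset.sum_insert ha, Finset.prod_insert ha, ipow_add, ih]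

theorem re_ipow : ∀ t : ZMod 4, (ipow t).re = if red t = 0 then chi2 (half t) else 0 := by decide

theorem sum_ipow_lift4 : ∑ a : ZMod 2, ipow (lift4 a) = ⟨1, 1⟩ := by decide

theorem sum_ipow_wt4 : ∑ x : W ι, ipow (wt4 x) = (⟨1, 1⟩ : GaussianInt) ^ Fintype.card (Pt ι) := by
  have h1 : ∀ x : W ι, ipow (wt4 x) = ∏ p, ipow (lift4 (x p)) := fun x => ipow_sum _ _
  rw [Finset.sum_congr rfl fun x _ => h1 x,
    ← Fintype.prod_sum (fun (_ : Pt ι) (a : ZMod 2) => ipow (lift4 a))]
  rw [Finset.prod_congr rfl fun p _ => sum_ipow_lift4, Finset.prod_const, Finset.card_univ]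

theorem re_sum {α : Type*} (s : Finset α) (f : α → GaussianInt) :
    (∑ x ∈ s, f x).re = ∑ x ∈ s, (f x).re := by
  classical
  induction s using Finset.induction_on with
  | empty => simp
  | insert a s ha ih => rw [Finset.sum_insert ha, Finset.sum_insert ha, Zsqrtd.re_add, ih]

theorem one_add_i_pow_four : (⟨1, 1⟩ : GaussianInt) ^ 4 = ((-4 : ℤ) : GaussianInt) := by decide

theorem sum_re_eq (k : ℕ) (hN : Fintype.card (Pt ι) = 4 * k) :
    ∑ x : W ι, (if tot x = 0 then chi2 (qW x) else 0) = (-4) ^ k := by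
  have h1 : ∀ x : W ι, (if tot x = 0 then chi2 (qW x) else 0) = (ipow (wt4 x)).re := by
    intro x
    rw [re_ipow, red_wt4]
    rfl
  rw [Finset.sum_congr rfl fun x _ => h1 x]
  have h2 : ∑ x : W ι, (ipow (wt4 x)).re = (∑ x : W ι, ipow (wt4 x)).re := (re_sum _ _).symm
  rw [h2, sum_ipow_wt4, hN, pow_mul, one_add_i_pow_four, ← Int.cast_pow, Zsqrtd.re_intCast]

theorem two_mul_charSum (k : ℕ) (hN : Fintype.card (Pt ι) = 4 * k) :
    2 * charSum (⇑(qV ι)) = (-4) ^ k := by
  classical
  have h4 : 4 ∣ Fintype.card (Pt ι) := ⟨k, hN⟩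
  have hι := even_of_four_dvd h4
  rw [← sum_re_eq k hN, ← Finset.sum_filter]
  have h1 : ∑ x ∈ Finset.univ.filter (fun x : W ι => tot x = 0), chi2 (qW x) =
      ∑ yc : V ι × ZMod 2, chi2 (qW (emb yc.1 + const yc.2)) := by
    refine Finset.sum_nbij' (fun x => (proj x, x (Sum.inr 1))) (fun yc => emb yc.1 + const yc.2)
      ?_ ?_ ?_ ?_ ?_
    · intro x _; exact Finset.mem_univ _
    · intro yc _
      rw [Finset.mem_filter]
      refine ⟨Finset.mem_univ _, ?_⟩
      rw [map_add, tot_emb, tot_const_zero h4, add_zero]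
    · intro x hx
      rw [Finset.mem_filter] at hx
      change emb (proj x) + const (x (Sum.inr 1)) = x
      rw [emb_proj hι x hx.2, add_assoc]
      have : (const (x (Sum.inr 1)) : W ι) + const (x (Sum.inr 1)) = 0 := by
        funext p; exact z2_add_self _
      rw [this, add_zero]
    · intro yc _
      change (proj (emb yc.1 + const yc.2), (emb yc.1 + const yc.2 : W ι) (Sum.inr 1)) = yc
      rw [map_add, proj_emb, proj_const, add_zero]
      ext
      · rfl
      · simp [const]
    · intro x hx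
      rw [Finset.mem_filter] at hx
      change chi2 (qW x) = chi2 (qW (emb (proj x) + const (x (Sum.inr 1))))
      rw [emb_proj hι x hx.2, add_assoc]
      have : (const (x (Sum.inr 1)) : W ι) + const (x (Sum.inr 1)) = 0 := by
        funext p; exact z2_add_self _
      rw [this, add_zero]
  rw [h1, Fintype.sum_prod_type]
  have h2 : ∀ y : V ι, ∑ c : ZMod 2, chi2 (qW (emb y + const c)) = 2 * chi2 (qV ι y) := by
    intro y
    rw [Finset.sum_congr rfl fun c _ => by rw [qW_add_const h4 _ (tot_emb y)], Finset.sum_const,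
      Finset.card_univ, ZMod.card, qV_apply]
    simp
  rw [Finset.sum_congr rfl fun y _ => h2 y, ← Finset.mul_sum]
  rfl

/-! ### Faithfulness -/

theorem exists_notMem (s : Finset (Pt ι)) (h : s.card < Fintype.card (Pt ι)) : ∃ r, r ∉ s := by
  rw [← Finset.card_univ] at h
  obtain ⟨r, _, hr⟩ := Finset.exists_mem_notMem_of_card_lt_card h
  exact ⟨r, hr⟩

theorem eq_const_of_proj_eq_zero (hι : Even (Fintype.card ι)) (u : W ι) (hu : tot u = 0)
    (h : proj u = 0) : u = const (u (Sum.inr 1)) := by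
  have h1 := emb_proj hι u hu
  rw [h, map_zero] at h1
  funext p
  have h2 := congrFun h1 p
  simp only [Pi.zero_apply, Pi.add_apply] at h2
  have h3 := z2_add_self (const (u (Sum.inr 1)) p : ZMod 2)
  linear_combination -h2 - h3

theorem rho_faithful (hι : Even (Fintype.card ι)) (h5 : 5 ≤ Fintype.card (Pt ι))
    (σ : Perm (Pt ι)) (h : ∀ y, rho σ y = y) : σ = 1 := by
  classical
  by_contra hσ
  obtain ⟨p, hp⟩ : ∃ p, σ p ≠ p := by
    by_contra hcon
    push Not at hcon
    exact hσ (Equiv.ext hcon)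
  obtain ⟨r, hr⟩ := exists_notMem ({p, σ p} : Finset (Pt ι))
    (lt_of_le_of_lt (Finset.card_le_two) (by omega))
  obtain ⟨s, hs⟩ := exists_notMem ({p, r, σ p, σ r} : Finset (Pt ι))
    (lt_of_le_of_lt (Finset.card_le_four) (by omega))
  simp only [Finset.mem_insert, Finset.mem_singleton, not_or] at hr hs
  obtain ⟨hr1, hr2⟩ := hr
  obtain ⟨hs1, hs2, hs3, hs4⟩ := hs
  set x : W ι := Pi.single p 1 + Pi.single r 1 with hx
  have hxp : ∀ t, t ≠ p → t ≠ r → x t = 0 := by
    intro t h1 h2
    simp [hx, Pi.single_apply, h1, h2]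
  have hxpp : x p = 1 := by
    simp [hx, Pi.single_apply, Ne.symm hr1]
  have htot : tot x = 0 := by
    rw [hx, map_add, tot_apply, tot_apply, Finset.sum_pi_single', Finset.sum_pi_single',
      if_pos (Finset.mem_univ _), if_pos (Finset.mem_univ _)]
    decide
  obtain ⟨c, hc⟩ : ∃ c, emb (proj x) = x + const c := ⟨_, emb_proj hι x htot⟩
  have h1 := h (proj x)
  rw [rho_apply, hc, map_add, map_add, perm_const, proj_const, add_zero] at h1
  have h2 : proj (perm σ x + x) = 0 := by
    rw [map_add, h1]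
    funext j
    exact z2_add_self _
  have h3 := eq_const_of_proj_eq_zero hι _ (by rw [map_add, tot_perm, htot, add_zero]) h2
  have e1 := congrFun h3 (σ p)
  have e2 := congrFun h3 s
  simp only [Pi.add_apply, perm_apply, Equiv.symm_apply_apply, const] at e1 e2
  rw [hxpp, hxp (σ p) hp (Ne.symm hr2)] at e1
  rw [hxp s hs1 hs2, hxp (σ.symm s)
    (fun h => hs3 (by rw [← h, Equiv.apply_symm_apply]))
    (fun h => hs4 (by rw [← h, Equiv.apply_symm_apply]))] at e2
  rw [← e2] at e1
  revert e1
  decide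

end Cfsg.Agent.Helper13.PermMod
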