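import Mathlib
import Cfsg.Agent.Lib.Helper13.PermMod
import Cfsg.Agent.Lib.Helper13.IsomTransfer
import Cfsg.Agent.Lib.Helper13.F2Type

set_option autoImplicit false
set_option linter.unusedSectionVars false

/-! # Embedding symmetric groups into orthogonal groups over `F_2` -/

namespace Cfsg.Agent.Helper13.PermMod

open Equiv Module Matrix

variable {ι : Type*} [Fintype ι] [DecidableEq ι]

theorem finrank_V : finrank (ZMod 2) (V ι) = Fintype.card ι :=
  Module.finrank_fintype_fun_eq_card (ZMod 2)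

/-- the orthogonal embedding, plus type -/
theorem exists_hom_plus (k m : ℕ) (hN : Fintype.card (Pt ι) = 4 * k) (hk : Even k)
    (hm : Fintype.card ι = 2 * m) (hm1 : 1 ≤ m) (h5 : 5 ≤ Fintype.card (Pt ι)) :
    ∃ φ : Perm (Pt ι) →* Cfsg.isometryGroup (ZMod 2) (Cfsg.quadFormPlus m (ZMod 2)),
      Function.Injective φ := by
  have h4 : 4 ∣ Fintype.card (Pt ι) := ⟨k, hN⟩
  have hι := even_of_four_dvd h4 (ι := ι)
  have hcs := two_mul_charSum k hN (ι := ι)
  have hpos : 0 < charSum (⇑(qV ι)) := by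
    have : (0 : ℤ) < (-4) ^ k := hk.pow_pos (by norm_num)
    omega
  obtain ⟨g, hg⟩ := (type_of_charSum m hm1 (finrank_V.trans hm) (qV ι) (qV_nondeg hι)).1 hpos
  obtain ⟨φ, hφ⟩ := exists_hom_isometry (G := Perm (Pt ι)) (fun σ => rho σ) rho_one
    (fun σ τ y => rho_mul hι σ τ y) g (Cfsg.quadFormPlus m (ZMod 2))
    (fun σ y => by rw [← hg, ← hg, qV_rho h4])
  refine ⟨φ, ?_⟩
  exact injective_of_faithful (fun σ => rho σ) g (Subgroup.subtype _) φ hφ
    (fun σ h => rho_faithful hι h5 σ h)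

/-- the orthogonal embedding, minus type -/
theorem exists_hom_minus (k m : ℕ) (hN : Fintype.card (Pt ι) = 4 * k) (hk : Odd k)
    (hm : Fintype.card ι = 2 * m) (hm1 : 1 ≤ m) (h5 : 5 ≤ Fintype.card (Pt ι)) :
    ∃ φ : Perm (Pt ι) →* Cfsg.isometryGroup (ZMod 2) (Cfsg.quadFormMinus (m - 1) (ZMod 2) 1 1),
      Function.Injective φ := by
  have h4 : 4 ∣ Fintype.card (Pt ι) := ⟨k, hN⟩
  have hι := even_of_four_dvd h4 (ι := ι)
  have hcs := two_mul_charSum k hN (ι := ι)
  have hneg : charSum (⇑(qV ι)) < 0 := by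
    have : (-4 : ℤ) ^ k < 0 := hk.pow_neg (by norm_num)
    omega
  obtain ⟨g, hg⟩ := (type_of_charSum m hm1 (finrank_V.trans hm) (qV ι) (qV_nondeg hι)).2 hneg
  obtain ⟨φ, hφ⟩ := exists_hom_isometry (G := Perm (Pt ι)) (fun σ => rho σ) rho_one
    (fun σ τ y => rho_mul hι σ τ y) g (Cfsg.quadFormMinus (m - 1) (ZMod 2) 1 1)
    (fun σ y => by rw [← hg, ← hg, qV_rho h4])
  refine ⟨φ, ?_⟩
  exact injective_of_faithful (fun σ => rho σ) g (Subgroup.subtype _) φ hφ
    (fun σ h => rho_faithful hι h5 σ h)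

end Cfsg.Agent.Helper13.PermMod
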