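import Mathlib
import Cfsg.Agent.Lib.Helper6.ChevLSL2
import Cfsg.Agent.Lib.Helper11.G2TDefs

/-!
# S4278 / S4279 (`G₂(q)`, `q` odd: involutions): definitions

`z = h_{3a+2b}(-1)`; `L_long = ⟨X_{±(3a+2b)}⟩`, `L_short = ⟨X_{±a}⟩` (roots `11, 0` and `7, 4`), the images of
`SL₂(F)` under helper6's rank-one homomorphisms; `K = L_long L_short`; `C = K T`.
-/

set_option autoImplicit false

namespace Cfsg.Agent.Helper13.G2I

open Cfsg Cfsg.Lie Cfsg.Agent.Lead.Chev Cfsg.Agent.Helper11.G2T Cfsg.Agent.Helper6.SL2Hom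
  Cfsg.Agent.Helper6.ChevL Matrix

variable (F : Type*) [Field F]

/-- the root element `x_r(t)` of `G₂(F)` in `GL` -/
noncomputable abbrev X (r : ℕ) (t : F) : GL chevG2.Idx F := xGL chevG2 (g2F F).xadd r t

theorem neg11 : chevG2.neg 11 = 0 := by decide
theorem neg7 : chevG2.neg 7 = 4 := by decide

/-- the rank-one relations for the long root `3a+2b` (index `11`, negative `0`) -/
theorem rkL : RankOne (X F 11) (X F 0) := by
  have := rankOne_root (g2F F) diag2_G2 11 (by decide)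
  rwa [neg11] at this

/-- the rank-one relations for the short root `a` (index `7`, negative `4`) -/
theorem rkS : RankOne (X F 7) (X F 4) := by
  have := rankOne_root (g2F F) diag2_G2 7 (by decide)
  rwa [neg7] at this

/-- `SL₂(F) → ⟨X_{11}, X_0⟩` -/
noncomputable def phiL : SpecialLinearGroup (Fin 2) F →* GL chevG2.Idx F := (rkL F).hom

/-- `SL₂(F) → ⟨X_7, X_4⟩` -/
noncomputable def phiS : SpecialLinearGroup (Fin 2) F →* GL chevG2.Idx F := (rkS F).hom

/-- the involution `z = h_{3a+2b}(-1)` -/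
noncomputable def zI : GL chevG2.Idx F := hGLt chevG2 (g2F F).xadd 11 (-1)

/-- the involution `z' = h_b(-1)` -/
noncomputable def zP : GL chevG2.Idx F := hGLt chevG2 (g2F F).xadd 6 (-1)

/-- the involution `z'' = h_{3a+b}(-1)` -/
noncomputable def zPP : GL chevG2.Idx F := hGLt chevG2 (g2F F).xadd 10 (-1)

/-- the subgroups `L_long`, `L_short`, `K = L_long ⊔ L_short`, `T`, `G`, `C = K ⊔ T` -/
noncomputable def LL : Subgroup (GL chevG2.Idx F) := (phiL F).range
noncomputable def LS : Subgroup (GL chevG2.Idx F) := (phiS F).range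
noncomputable def KK : Subgroup (GL chevG2.Idx F) := LL F ⊔ LS F
abbrev TT : Subgroup (GL chevG2.Idx F) := chevG2.diagonalSubgroup F
abbrev GG : Subgroup (GL chevG2.Idx F) := chevG2.group F
noncomputable def CC : Subgroup (GL chevG2.Idx F) := KK F ⊔ TT F

/-- the Weyl-type involution `m = n_{11} n_7` -/
noncomputable def mI : GL chevG2.Idx F := phiL F (nS F) * phiS F (nS F)

/-- conjugation of `SL₂` by `diag(-1, 1)` -/
def sconj (A : SpecialLinearGroup (Fin 2) F) : SpecialLinearGroup (Fin 2) F :=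
  ⟨!![A 0 0, -A 0 1; -A 1 0, A 1 1], by
    have := A.2
    rw [Matrix.det_fin_two] at this
    rw [Matrix.det_fin_two_of]
    linear_combination this⟩

/-- `G`-conjugacy in `GL` -/
def CJ (u v : GL chevG2.Idx F) : Prop := ∃ g ∈ GG F, g * u * g⁻¹ = v

/-- the conclusion of S4279 -/
def InvCent {G : Type*} [Group G] (F : Type*) [Field F] (N : ℕ) (t : G) : Prop :=
  Nat.card (Subgroup.centralizer ({t} : Set G)) = N ∧
    ∃ L₁ L₂ : Subgroup G, Nonempty (L₁ ≃* SpecialLinearGroup (Fin 2) F) ∧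
      Nonempty (L₂ ≃* SpecialLinearGroup (Fin 2) F) ∧ (∀ x ∈ L₁, ∀ y ∈ L₂, x * y = y * x) ∧
      L₁ ⊓ L₂ = Subgroup.zpowers t ∧ L₁ ⊔ L₂ ≤ Subgroup.centralizer ({t} : Set G) ∧
      (L₁ ⊔ L₂).relIndex (Subgroup.centralizer ({t} : Set G)) = 2

end Cfsg.Agent.Helper13.G2I
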