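import Mathlib
import Cfsg.Agent.Lib.Helper13.G2IDefs
import Cfsg.Agent.Lib.Helper13.G2TCHIA
import Cfsg.Agent.Lib.Helper16.G2TCHIB

/-!
# S4278 / S4279 piece BASE1B : the diagonal entries of `h_r(s)`, the involutions of `T`
-/

set_option autoImplicit false

namespace Cfsg.Agent.Helper13.G2I

open Cfsg Cfsg.Lie Cfsg.Agent.Lead.Chev Cfsg.Agent.Helper11.G2T Cfsg.Agent.Helper6.SL2Hom
  Cfsg.Agent.Helper6.ChevL Matrix

variable {F : Type*} [Field F]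

/-- `ev (h_r(s)) v = s ^ (c₀ A₀ᵥ + c₁ A₁ᵥ)` with `(c₀, c₁)` the coroot coordinates of `r` -/
theorem base1b_ev_hGLt (r : ℕ) (hr : r < 12) (s : F) (hs : s ≠ 0) (v : ℕ) (hv : v < 12) :
    ev (hGLt chevG2 (g2F F).xadd r s) v =
      (s ^ ((chevG2.coroot.getD r #[]).getD 0 0)) ^ chevG2.cartan 0 v *
        (s ^ ((chevG2.coroot.getD r #[]).getD 1 0)) ^ chevG2.cartan 1 v := by
  have hh : ((hGLt chevG2 (g2F F).xadd r s : GL chevG2.Idx F) : Matrix chevG2.Idx chevG2.Idx F) =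
      Tmat chevG2 (fun i => s ^ ((chevG2.coroot.getD r #[]).getD i 0)) := by
    rw [hGLt_val, hMat_eq_Tmat chevG2 (g2F F).hall r hr s hs]
  rw [g2tchib_ev_Tmat _ _ hh v hv, g2tchib_chi]

theorem cor11 : (chevG2.coroot.getD 11 #[]).getD 0 0 = 1 ∧ (chevG2.coroot.getD 11 #[]).getD 1 0 = 2 := by decide
theorem cor7 : (chevG2.coroot.getD 7 #[]).getD 0 0 = 1 ∧ (chevG2.coroot.getD 7 #[]).getD 1 0 = 0 := by decide
theorem cor6 : (chevG2.coroot.getD 6 #[]).getD 0 0 = 0 ∧ (chevG2.coroot.getD 6 #[]).getD 1 0 = 1 := by decide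
theorem cor10 : (chevG2.coroot.getD 10 #[]).getD 0 0 = 1 ∧ (chevG2.coroot.getD 10 #[]).getD 1 0 = 1 := by decide
theorem cart76 : chevG2.cartan 0 7 = 2 ∧ chevG2.cartan 1 7 = -1 ∧ chevG2.cartan 0 6 = -3 ∧ chevG2.cartan 1 6 = 2 := by
  decide

/-- normalisation of integer powers with literal exponents -/
theorem base1b_zp (s : F) : s ^ (2 : ℤ) = s ^ 2 ∧ s ^ (3 : ℤ) = s ^ 3 ∧ s ^ (1 : ℤ) = s ∧ s ^ (0 : ℤ) = 1 ∧
    s ^ (-1 : ℤ) = s⁻¹ ∧ s ^ (-2 : ℤ) = (s ^ 2)⁻¹ ∧ s ^ (-3 : ℤ) = (s ^ 3)⁻¹ := by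
  refine ⟨?_, ?_, ?_, ?_, ?_, ?_, ?_⟩
  · exact zpow_ofNat s 2
  · exact zpow_ofNat s 3
  · exact _root_.zpow_one s
  · exact _root_.zpow_zero s
  · exact _root_.zpow_neg_one s
  · rw [_root_.zpow_neg]; exact congrArg _ (zpow_ofNat s 2)
  · rw [_root_.zpow_neg]; exact congrArg _ (zpow_ofNat s 3)

theorem ev_h11 (s : F) (hs : s ≠ 0) :
    ev (hGLt chevG2 (g2F F).xadd 11 s) 7 = 1 ∧ ev (hGLt chevG2 (g2F F).xadd 11 s) 6 = s := by
  obtain ⟨c0, c1⟩ := cor11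
  obtain ⟨a, b, c, d⟩ := cart76
  constructor
  · rw [base1b_ev_hGLt 11 (by norm_num) s hs 7 (by norm_num), c0, c1, a, b]
    simp only [(base1b_zp _).1, (base1b_zp _).2.2.1, (base1b_zp _).2.2.2.2.1]
    field_simp
  · rw [base1b_ev_hGLt 11 (by norm_num) s hs 6 (by norm_num), c0, c1, c, d]
    simp only [(base1b_zp _).1, (base1b_zp _).2.2.1, (base1b_zp _).2.2.2.2.2.2]
    field_simp

theorem ev_h7 (s : F) (hs : s ≠ 0) :
    ev (hGLt chevG2 (g2F F).xadd 7 s) 7 = s ^ 2 ∧ ev (hGLt chevG2 (g2F F).xadd 7 s) 6 = (s ^ 3)⁻¹ := by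
  obtain ⟨c0, c1⟩ := cor7
  obtain ⟨a, b, c, d⟩ := cart76
  constructor
  · rw [base1b_ev_hGLt 7 (by norm_num) s hs 7 (by norm_num), c0, c1, a, b]
    simp only [(base1b_zp _).1, (base1b_zp _).2.2.1, (base1b_zp _).2.2.2.1, (base1b_zp _).2.2.2.2.1]
    simp
  · rw [base1b_ev_hGLt 7 (by norm_num) s hs 6 (by norm_num), c0, c1, c, d]
    simp only [(base1b_zp _).1, (base1b_zp _).2.2.1, (base1b_zp _).2.2.2.1, (base1b_zp _).2.2.2.2.2.2]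
    simp

theorem ev_h6 (s : F) (hs : s ≠ 0) :
    ev (hGLt chevG2 (g2F F).xadd 6 s) 7 = s⁻¹ ∧ ev (hGLt chevG2 (g2F F).xadd 6 s) 6 = s ^ 2 := by
  obtain ⟨c0, c1⟩ := cor6
  obtain ⟨a, b, c, d⟩ := cart76
  constructor
  · rw [base1b_ev_hGLt 6 (by norm_num) s hs 7 (by norm_num), c0, c1, a, b]
    simp only [(base1b_zp _).1, (base1b_zp _).2.2.1, (base1b_zp _).2.2.2.1, (base1b_zp _).2.2.2.2.1]
    simp
  · rw [base1b_ev_hGLt 6 (by norm_num) s hs 6 (by norm_num), c0, c1, c, d]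
    simp only [(base1b_zp _).1, (base1b_zp _).2.2.1, (base1b_zp _).2.2.2.1, (base1b_zp _).2.2.2.2.2.2]
    simp

theorem ev_h10 (s : F) (hs : s ≠ 0) :
    ev (hGLt chevG2 (g2F F).xadd 10 s) 7 = s ∧ ev (hGLt chevG2 (g2F F).xadd 10 s) 6 = s⁻¹ := by
  obtain ⟨c0, c1⟩ := cor10
  obtain ⟨a, b, c, d⟩ := cart76
  constructor
  · rw [base1b_ev_hGLt 10 (by norm_num) s hs 7 (by norm_num), c0, c1, a, b]
    simp only [(base1b_zp _).1, (base1b_zp _).2.2.1, (base1b_zp _).2.2.2.2.1]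
    field_simp
  · rw [base1b_ev_hGLt 10 (by norm_num) s hs 6 (by norm_num), c0, c1, c, d]
    simp only [(base1b_zp _).1, (base1b_zp _).2.2.1, (base1b_zp _).2.2.2.2.2.2]
    field_simp

theorem zI_mem : zI F ∈ TT F := hGLt_mem_diagonal chevG2 (g2F F).xadd 11 (by decide) (-1) (by simp)
theorem zP_mem : zP F ∈ TT F := hGLt_mem_diagonal chevG2 (g2F F).xadd 6 (by decide) (-1) (by simp)
theorem zPP_mem : zPP F ∈ TT F := hGLt_mem_diagonal chevG2 (g2F F).xadd 10 (by decide) (-1) (by simp)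

theorem rc_vals : rcA 11 = 3 ∧ rcB 11 = 2 ∧ rcA 0 = -3 ∧ rcB 0 = -2 ∧ rcA 4 = -1 ∧ rcB 4 = 0 := by decide

theorem ev_11 (h : GL chevG2.Idx F) (hh : h ∈ TT F) : ev h 11 = ev h 7 ^ 3 * ev h 6 ^ 2 := by
  obtain ⟨a, b, _, _, _, _⟩ := rc_vals
  rw [ev_rc h hh 11 (by norm_num), a, b, (base1b_zp _).1, (base1b_zp _).2.1]

theorem ev_0 (h : GL chevG2.Idx F) (hh : h ∈ TT F) : ev h 0 = (ev h 11)⁻¹ := by
  obtain ⟨_, _, a, b, _, _⟩ := rc_vals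
  rw [ev_11 h hh, ev_rc h hh 0 (by norm_num), a, b, mul_inv, (base1b_zp _).2.2.2.2.2.2,
    (base1b_zp _).2.2.2.2.2.1]

theorem ev_4 (h : GL chevG2.Idx F) (hh : h ∈ TT F) : ev h 4 = (ev h 7)⁻¹ := by
  obtain ⟨_, _, _, _, a, b⟩ := rc_vals
  rw [ev_rc h hh 4 (by norm_num), a, b, (base1b_zp _).2.2.2.2.1, (base1b_zp _).2.2.2.1, mul_one]

theorem ev_zI_76 : ev (zI F) 7 = 1 ∧ ev (zI F) 6 = -1 := ev_h11 (-1) (by simp)

theorem rcB_even : ∀ v < 12, (v ∈ [0, 4, 7, 11] → Even (rcB v)) ∧ (v ∉ [0, 4, 7, 11] → Odd (rcB v)) := by decide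

theorem ev_zI (v : ℕ) (hv : v < 12) : ev (zI F) v = if v ∈ [0, 4, 7, 11] then 1 else -1 := by
  obtain ⟨h7, h6⟩ := ev_zI_76 (F := F)
  rw [ev_rc (zI F) zI_mem v hv, h7, h6, _root_.one_zpow, one_mul]
  obtain ⟨he, ho⟩ := rcB_even v hv
  split_ifs with h
  · exact (he h).neg_one_zpow
  · exact (ho h).neg_one_zpow

theorem zI_sq : zI F * zI F = 1 := by
  have hm : zI F * zI F ∈ TT F := mul_mem zI_mem zI_mem
  obtain ⟨h7, h6⟩ := ev_zI_76 (F := F)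
  apply eq_one_of_ev _ hm
  · rw [ev_mul _ _ zI_mem zI_mem, h7, mul_one]
  · rw [ev_mul _ _ zI_mem zI_mem, h6]
    ring

theorem zI_ne_one (h2 : (2 : F) ≠ 0) : zI F ≠ 1 := by
  intro h
  have h6 := (ev_zI_76 (F := F)).2
  rw [h, ev_one] at h6
  apply h2
  linear_combination h6

end Cfsg.Agent.Helper13.G2I
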