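import Mathlib
import Cfsg.Agent.Lib.Helper13.G2I_BASE1B
import Cfsg.Agent.Lib.Helper11.G2TAsm

/-!
# S4278 / S4279 piece BASE1A : values of `phiL`, `phiS` on the generators, the Weyl element and the diagonal
-/

set_option autoImplicit false

namespace Cfsg.Agent.Helper13.G2I

open Cfsg Cfsg.Lie Cfsg.Agent.Lead.Chev Cfsg.Agent.Helper11.G2T Cfsg.Agent.Helper6.SL2Hom
  Cfsg.Agent.Helper6.ChevL Matrix

variable {F : Type*} [Field F]

theorem phiL_xS (t : F) : phiL F (xS t) = X F 11 t := (rkL F).hom_xS t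
theorem phiL_yS (t : F) : phiL F (yS t) = X F 0 t := (rkL F).hom_yS t
theorem phiS_xS (t : F) : phiS F (xS t) = X F 7 t := (rkS F).hom_xS t
theorem phiS_yS (t : F) : phiS F (yS t) = X F 4 t := (rkS F).hom_yS t

theorem phiL_nS : phiL F (nS F) = nGL chevG2 (g2F F).xadd 11 := by
  have h1 : phiL F (nS F) = nn (X F 11) (X F 0) := (rkL F).hom_nS
  have h2 := nn_eq (g2F F) 11
  rw [neg11] at h2
  rw [h1]
  exact h2

theorem phiS_nS : phiS F (nS F) = nGL chevG2 (g2F F).xadd 7 := by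
  have h1 : phiS F (nS F) = nn (X F 7) (X F 4) := (rkS F).hom_nS
  have h2 := nn_eq (g2F F) 7
  rw [neg7] at h2
  rw [h1]
  exact h2

theorem base1a_phi_diag {G : Type*} [Group G] {Xf Yf : F → G} (h : RankOne Xf Yf) (s : F)
    (A : SpecialLinearGroup (Fin 2) F) (h00 : A 0 0 = s) (h01 : A 0 1 = 0) (h10 : A 1 0 = 0) :
    h.hom A = hh Xf Yf s := by
  show phi Xf Yf A = _
  unfold phi
  rw [if_pos h10, h00, h01, mul_zero, h.x_zero, one_mul]

theorem phiL_diag (s : F) (hs : s ≠ 0) (A : SpecialLinearGroup (Fin 2) F) (h00 : A 0 0 = s) (h01 : A 0 1 = 0)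
    (h10 : A 1 0 = 0) : phiL F A = hGLt chevG2 (g2F F).xadd 11 s := by
  have h1 : phiL F A = hh (X F 11) (X F 0) s := base1a_phi_diag (rkL F) s A h00 h01 h10
  have h2 := hh_eq (g2F F) 11 s
  rw [neg11] at h2
  rw [h1]
  exact h2

theorem phiS_diag (s : F) (hs : s ≠ 0) (A : SpecialLinearGroup (Fin 2) F) (h00 : A 0 0 = s) (h01 : A 0 1 = 0)
    (h10 : A 1 0 = 0) : phiS F A = hGLt chevG2 (g2F F).xadd 7 s := by
  have h1 : phiS F A = hh (X F 7) (X F 4) s := base1a_phi_diag (rkS F) s A h00 h01 h10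
  have h2 := hh_eq (g2F F) 7 s
  rw [neg7] at h2
  rw [h1]
  exact h2

theorem phiL_neg_one : phiL F (-1) = zI F := by
  unfold zI
  apply phiL_diag (-1) (by simp) <;> simp

theorem phiS_neg_one : phiS F (-1) = zI F := by
  have h1 : phiS F (-1) = hGLt chevG2 (g2F F).xadd 7 (-1) := by
    apply phiS_diag (-1) (by simp) <;> simp
  rw [h1]
  have hm : hGLt chevG2 (g2F F).xadd 7 (-1 : F) ∈ TT F :=
    hGLt_mem_diagonal chevG2 (g2F F).xadd 7 (by decide) (-1) (by simp)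
  obtain ⟨a7, a6⟩ := ev_h7 (-1 : F) (by simp)
  obtain ⟨b7, b6⟩ := ev_zI_76 (F := F)
  apply asm_eq_of_ev _ _ hm zI_mem
  · rw [a7, b7]; norm_num
  · rw [a6, b6]; norm_num

end Cfsg.Agent.Helper13.G2I
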