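import Mathlib
import Cfsg.Agent.Lib.Helper13.G2I_BASE1A
import Cfsg.Agent.Lib.Helper6.G2InvB

/-!
# S4278 / S4279 piece CENTU : the centralizer of `z` in `U` is `X_7 X_{11} ⊆ K`
-/

set_option autoImplicit false

namespace Cfsg.Agent.Helper13.G2I

open Cfsg Cfsg.Lie Cfsg.Agent.Lead.Chev Cfsg.Agent.Helper11.G2T Cfsg.Agent.Helper6.SL2Hom
  Cfsg.Agent.Helper6.ChevL Matrix

variable {F : Type*} [Field F]

theorem centu_conj6 {G : Type*} [Group G] (z x1 x2 x3 x4 x5 x6 : G) :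
    z * (x1 * (x2 * (x3 * (x4 * (x5 * x6))))) * z⁻¹ =
      (z * x1 * z⁻¹) * ((z * x2 * z⁻¹) * ((z * x3 * z⁻¹) * ((z * x4 * z⁻¹) * ((z * x5 * z⁻¹) * (z * x6 * z⁻¹))))) := by
  group

theorem centu_eq_zero (h2 : (2 : F) ≠ 0) (p : F) (h : p = -1 * p) : p = 0 := by
  have : (2 : F) * p = 0 := by linear_combination h
  rcases mul_eq_zero.1 this with h | h
  · exact absurd h h2
  · exact h

theorem centU (h2 : (2 : F) ≠ 0) (u : GL chevG2.Idx F) (hu : u ∈ chevG2.posUnipotent F)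
    (e : zI F * u * (zI F)⁻¹ = u) : u ∈ KK F := by
  obtain ⟨p, s, a, b, c, d, rfl⟩ := Cfsg.Agent.Helper6.G2Inv.exists_NF (g2F F) u hu
  have hz := zI_mem (F := F)
  have e' : Cfsg.Agent.Helper6.G2Inv.NF (g2F F) (ev (zI F) 6 * p) (ev (zI F) 7 * s) (ev (zI F) 8 * a)
      (ev (zI F) 9 * b) (ev (zI F) 10 * c) (ev (zI F) 11 * d) =
      Cfsg.Agent.Helper6.G2Inv.NF (g2F F) p s a b c d := by
    rw [← e]
    unfold Cfsg.Agent.Helper6.G2Inv.NF
    rw [centu_conj6, ev_conj _ hz 6 (by norm_num), ev_conj _ hz 7 (by norm_num), ev_conj _ hz 8 (by norm_num),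
      ev_conj _ hz 9 (by norm_num), ev_conj _ hz 10 (by norm_num), ev_conj _ hz 11 (by norm_num)]
  obtain ⟨e6, e7, e8, e9, e10, e11⟩ := Cfsg.Agent.Helper6.G2Inv.NF_inj (g2F F) _ _ _ _ _ _ _ _ _ _ _ _ e'
  rw [ev_zI 6 (by norm_num), if_neg (by decide)] at e6
  rw [ev_zI 8 (by norm_num), if_neg (by decide)] at e8
  rw [ev_zI 9 (by norm_num), if_neg (by decide)] at e9
  rw [ev_zI 10 (by norm_num), if_neg (by decide)] at e10
  have hp := centu_eq_zero h2 p e6.symm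
  have ha := centu_eq_zero h2 a e8.symm
  have hb := centu_eq_zero h2 b e9.symm
  have hc := centu_eq_zero h2 c e10.symm
  subst hp ha hb hc
  unfold Cfsg.Agent.Helper6.G2Inv.NF
  rw [xGL_zero, xGL_zero, xGL_zero, xGL_zero, one_mul, one_mul, one_mul, one_mul]
  have h7 : xGL chevG2 (g2F F).xadd 7 s ∈ KK F := by
    apply Subgroup.mem_sup_right
    exact ⟨xS s, phiS_xS s⟩
  have h11 : xGL chevG2 (g2F F).xadd 11 d ∈ KK F := by
    apply Subgroup.mem_sup_left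
    exact ⟨xS d, phiL_xS d⟩
  exact mul_mem h7 h11

end Cfsg.Agent.Helper13.G2I
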