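import Mathlib
import Cfsg.Agent.Lib.Helper12.LSLDefs
import Cfsg.Agent.Lib.Helper13.Transv

/-!
# S2332, piece CONJ: the transvections `1 + v φᵀ` of `SL ι F`, `|ι| ≥ 3`, are conjugate (helper13)
-/

set_option autoImplicit false

namespace Cfsg.Agent.Helper12.LSL

open Matrix Cfsg.Agent.Helper12 Cfsg.Agent.Helper13 Module LinearMap

variable {F : Type*} [Field F] {ι : Type*} [Fintype ι] [DecidableEq ι]

theorem conj_rank_one (v φ : ι → F) (hv : v ≠ 0) (hφ : φ ≠ 0) (hvφ : φ ⬝ᵥ v = 0) :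
    finrank F (range (Matrix.toLin' (vecMulVec v φ))) = 1 ∧
      (Matrix.toLin' (vecMulVec v φ) : Module.End F (ι → F)) *
        Matrix.toLin' (vecMulVec v φ) = 0 := by
  constructor
  · have hr : range (Matrix.toLin' (vecMulVec v φ)) = Submodule.span F {v} := by
      apply le_antisymm
      · rintro _ ⟨x, rfl⟩
        rw [Matrix.toLin'_apply, vecMulVec_mulVec, op_smul_eq_smul]
        exact Submodule.smul_mem _ _ (Submodule.mem_span_singleton_self v)
      · rw [Submodule.span_singleton_le_iff_mem]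
        obtain ⟨i, hi⟩ : ∃ i, φ i ≠ 0 := by
          by_contra hcon
          push Not at hcon
          exact hφ (funext hcon)
        refine ⟨(φ i)⁻¹ • Pi.single i 1, ?_⟩
        rw [Matrix.toLin'_apply, vecMulVec_mulVec, op_smul_eq_smul, dotProduct_smul,
          dotProduct_single, mul_one, smul_eq_mul, inv_mul_cancel₀ hi, one_smul]
    rw [hr, finrank_span_singleton hv]
  · rw [Module.End.mul_eq_comp, ← Matrix.toLin'_mul, vecMulVec_mul_vecMulVec, hvφ, zero_smul,
      vecMulVec_zero, map_zero]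

/-- PIECE CONJ. -/
theorem isConj_of_vecMulVec (hι : 3 ≤ Fintype.card ι) (g g' : Matrix.SpecialLinearGroup ι F)
    (v φ v' φ' : ι → F) (hv : v ≠ 0) (hφ : φ ≠ 0) (hvφ : φ ⬝ᵥ v = 0) (hv' : v' ≠ 0) (hφ' : φ' ≠ 0)
    (hvφ' : φ' ⬝ᵥ v' = 0) (hg : g.1 = 1 + vecMulVec v φ) (hg' : g'.1 = 1 + vecMulVec v' φ') :
    IsConj g g' := by
  obtain ⟨hs1, hs2⟩ := conj_rank_one v φ hv hφ hvφ
  obtain ⟨ht1, ht2⟩ := conj_rank_one v' φ' hv' hφ' hvφ'
  have hdim : 3 ≤ finrank F (ι → F) := by rw [Module.finrank_fintype_fun_eq_card]; exact hι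
  obtain ⟨h, hdet, hcomm⟩ := exists_det_one_intertwiner hdim _ _ hs1 hs2 ht1 ht2
  have hHdet : (LinearMap.toMatrix' h).det = 1 := by rw [LinearMap.det_toMatrix', hdet]
  have hmat : LinearMap.toMatrix' h * vecMulVec v φ = vecMulVec v' φ' * LinearMap.toMatrix' h := by
    have := congrArg LinearMap.toMatrix' hcomm
    rw [LinearMap.toMatrix'_comp, LinearMap.toMatrix'_comp, LinearMap.toMatrix'_toLin',
      LinearMap.toMatrix'_toLin'] at this
    exact this
  have hmat2 : LinearMap.toMatrix' h * g.1 = g'.1 * LinearMap.toMatrix' h := by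
    rw [hg, hg', mul_add, add_mul, mul_one, one_mul, hmat]
  rw [isConj_iff]
  set H : Matrix.SpecialLinearGroup ι F := ⟨LinearMap.toMatrix' h, hHdet⟩ with hH
  have hHs : H * g = g' * H := by
    apply Subtype.ext
    exact hmat2
  refine ⟨H, ?_⟩
  rw [hHs, mul_inv_cancel_right]

end Cfsg.Agent.Helper12.LSL
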