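import Mathlib

set_option autoImplicit false

/-!
# Counting monic polynomials of given degree with a condition on the constant coefficient
-/

namespace Cfsg.Agent.Helper13.SS

open Polynomial

open scoped Classical

section
variable {F : Type*} [Field F] [Fintype F]

/-- functions with a condition on one value -/
theorem card_fun_cond {ι : Type*} [Fintype ι] (i₀ : ι) (Q : F → Prop) :
    Nat.card {a : ι → F // Q (a i₀)} =
      Nat.card {x : F // Q x} * Fintype.card F ^ (Fintype.card ι - 1) := by
  have e : {a : ι → F // Q (a i₀)} ≃ {x : F // Q x} × ({j : ι // j ≠ i₀} → F) :=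
    (Equiv.subtypeEquiv (Equiv.funSplitAt i₀ F) (fun a => Iff.rfl)).trans
      (Equiv.prodSubtypeFstEquivSubtypeProd (p := Q))
  rw [Nat.card_congr e, Nat.card_prod, Nat.card_fun, Nat.card_eq_fintype_card (α := F),
    Nat.card_eq_fintype_card (α := {j : ι // j ≠ i₀})]
  congr 2
  rw [Fintype.card_subtype_compl, Fintype.card_subtype_eq]

/-- the coefficient description of monic polynomials of degree `n` -/
noncomputable def monicEquivFun (n : ℕ) :
    {P : F[X] // P.Monic ∧ P.natDegree = n} ≃ (Fin n → F) :=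
  (monicEquivDegreeLT n).trans (degreeLTEquiv F n).toEquiv

theorem monicEquivFun_apply (n : ℕ) (P : {P : F[X] // P.Monic ∧ P.natDegree = n}) (i : Fin n) :
    monicEquivFun n P i = P.1.coeff i := by
  have h1 : monicEquivFun n P i = (P.1.eraseLead).coeff i := rfl
  rw [h1, eraseLead_coeff_of_ne]
  rw [P.2.2]
  exact i.2.ne

theorem card_monic_cond (n : ℕ) (hn : 1 ≤ n) (Q : F → Prop) :
    Nat.card {P : F[X] // P.Monic ∧ P.natDegree = n ∧ Q (P.coeff 0)} =
      Nat.card {x : F // Q x} * Fintype.card F ^ (n - 1) := by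
  have e1 : {P : F[X] // P.Monic ∧ P.natDegree = n ∧ Q (P.coeff 0)} ≃
      {P' : {P : F[X] // P.Monic ∧ P.natDegree = n} // Q (P'.1.coeff 0)} :=
    (Equiv.subtypeEquivRight (fun P => by tauto)).trans
      (Equiv.subtypeSubtypeEquivSubtypeInter (fun P : F[X] => P.Monic ∧ P.natDegree = n)
        (fun P => Q (P.coeff 0))).symm
  have e2 : {P' : {P : F[X] // P.Monic ∧ P.natDegree = n} // Q (P'.1.coeff 0)} ≃
      {a : Fin n → F // Q (a ⟨0, hn⟩)} :=
    Equiv.subtypeEquiv (monicEquivFun n) (fun P => by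
      rw [monicEquivFun_apply])
  rw [Nat.card_congr (e1.trans e2), card_fun_cond, Fintype.card_fin]

theorem card_monic_ne_zero (n : ℕ) (hn : 1 ≤ n) :
    Nat.card {P : F[X] // P.Monic ∧ P.natDegree = n ∧ P.coeff 0 ≠ 0} =
      (Fintype.card F - 1) * Fintype.card F ^ (n - 1) := by
  rw [card_monic_cond n hn (fun x => x ≠ 0)]
  congr 1
  rw [Nat.card_eq_fintype_card, Fintype.card_subtype_compl, Fintype.card_subtype_eq]

theorem card_monic_eq (n : ℕ) (hn : 1 ≤ n) (c : F) :
    Nat.card {P : F[X] // P.Monic ∧ P.natDegree = n ∧ P.coeff 0 = c} =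
      Fintype.card F ^ (n - 1) := by
  rw [card_monic_cond n hn (fun x => x = c)]
  rw [Nat.card_eq_fintype_card, Fintype.card_subtype_eq, one_mul]

end

end Cfsg.Agent.Helper13.SS
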