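import Mathlib

set_option autoImplicit false

/-!
# The irreducible factors of `X ^ r - 1` over a finite field
-/

namespace Cfsg.Agent.Helper13.SS

open Polynomial UniqueFactorizationMonoid

open scoped Classical

section
variable {F : Type*} [Field F] [Fintype F]

/-- the monic irreducible factors of the `r`-th cyclotomic polynomial -/
noncomputable def cycFactors (F : Type*) [Field F] (r : ℕ) : Finset F[X] :=
  (normalizedFactors (cyclotomic r F)).toFinset

theorem mem_cycFactors {r : ℕ} {f : F[X]} :
    f ∈ cycFactors F r ↔ f ∈ normalizedFactors (cyclotomic r F) := by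
  unfold cycFactors
  exact Multiset.mem_toFinset

theorem cycFactors_irreducible {r : ℕ} {f : F[X]} (hf : f ∈ cycFactors F r) : Irreducible f :=
  irreducible_of_normalized_factor f (mem_cycFactors.1 hf)

theorem cycFactors_dvd {r : ℕ} {f : F[X]} (hf : f ∈ cycFactors F r) : f ∣ cyclotomic r F :=
  dvd_of_mem_normalizedFactors (mem_cycFactors.1 hf)

theorem cycFactors_monic {r : ℕ} {f : F[X]} (hf : f ∈ cycFactors F r) : f.Monic := by
  classical
  have h1 := normalize_normalized_factor f (mem_cycFactors.1 hf)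
  rw [← h1]
  exact Polynomial.monic_normalize (cycFactors_irreducible hf).ne_zero

theorem coprime_of_monic_irreducible {f f' : F[X]} (hf : Irreducible f) (hf' : Irreducible f')
    (hm : f.Monic) (hm' : f'.Monic) (hne : f ≠ f') : IsCoprime f f' := by
  rw [hf.coprime_iff_not_dvd]
  intro hd
  exact hne (Polynomial.eq_of_monic_of_associated hm hm' (hf.associated_of_dvd hf' hd))

variable {p : ℕ} [Fact p.Prime] [CharP F p] {r : ℕ}

theorem cast_ne_zero_of_prime_ne (hr : r.Prime) (hrp : r ≠ p) : (r : F) ≠ 0 := by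
  intro h
  have h1 := (CharP.cast_eq_zero_iff F p r).1 h
  have hp : p.Prime := Fact.out
  exact hrp ((Nat.prime_dvd_prime_iff_eq hp hr).1 h1).symm

theorem cycFactors_prod (hr : r.Prime) (hrp : r ≠ p) :
    ∏ f ∈ cycFactors F r, f = cyclotomic r F := by
  classical
  haveI : NeZero (r : F) := ⟨cast_ne_zero_of_prime_ne hr hrp⟩
  have hne : cyclotomic r F ≠ 0 := cyclotomic_ne_zero r F
  have hnodup : (normalizedFactors (cyclotomic r F)).Nodup :=
    (squarefree_iff_nodup_normalizedFactors hne).1 (squarefree_cyclotomic r F)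
  have h1 : ∏ f ∈ cycFactors F r, f = (normalizedFactors (cyclotomic r F)).prod := by
    unfold cycFactors
    rw [Finset.prod_eq_multiset_prod, Multiset.toFinset_val, Multiset.dedup_eq_self.2 hnodup,
      Multiset.map_id']
  rw [h1]
  apply Polynomial.eq_of_monic_of_associated _ (cyclotomic.monic r F)
    (prod_normalizedFactors hne)
  have := Polynomial.monic_multiset_prod_of_monic (normalizedFactors (cyclotomic r F)) id
    (fun f hf => cycFactors_monic (mem_cycFactors.2 hf))
  rwa [Multiset.map_id] at this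

theorem cycFactors_eval_one_ne_zero (hr : r.Prime) (hrp : r ≠ p) {f : F[X]}
    (hf : f ∈ cycFactors F r) : f.eval 1 ≠ 0 := by
  intro h
  haveI : Fact r.Prime := ⟨hr⟩
  obtain ⟨c, hc⟩ := cycFactors_dvd hf
  have h1 : (cyclotomic r F).eval 1 = 0 := by
    rw [hc, eval_mul, h, zero_mul]
  rw [eval_one_cyclotomic_prime] at h1
  exact cast_ne_zero_of_prime_ne hr hrp h1

theorem X_sub_one_notMem (hr : r.Prime) (hrp : r ≠ p) : (X - 1 : F[X]) ∉ cycFactors F r := by
  intro h
  have := cycFactors_eval_one_ne_zero hr hrp h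
  simp at this

theorem X_sub_one_mul_prod (hr : r.Prime) (hrp : r ≠ p) :
    ∏ f ∈ insert (X - 1 : F[X]) (cycFactors F r), f = X ^ r - 1 := by
  classical
  haveI : Fact r.Prime := ⟨hr⟩
  rw [Finset.prod_insert (X_sub_one_notMem hr hrp), cycFactors_prod hr hrp, mul_comm,
    cyclotomic_prime_mul_X_sub_one]

theorem insert_pairwise_coprime (hr : r.Prime) (hrp : r ≠ p) :
    ((insert (X - 1 : F[X]) (cycFactors F r) : Finset F[X]) : Set F[X]).Pairwise IsCoprime := by
  classical
  have hirr : ∀ f ∈ insert (X - 1 : F[X]) (cycFactors F r), Irreducible f ∧ f.Monic := by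
    intro f hf
    rcases Finset.mem_insert.1 hf with rfl | hf
    · have h1 : (X - 1 : F[X]) = X - C 1 := by rw [map_one]
      rw [h1]
      exact ⟨irreducible_X_sub_C 1, monic_X_sub_C 1⟩
    · exact ⟨cycFactors_irreducible hf, cycFactors_monic hf⟩
  intro a ha b hb hab
  exact coprime_of_monic_irreducible (hirr a ha).1 (hirr b hb).1 (hirr a ha).2 (hirr b hb).2 hab

theorem insert_irreducible {f : F[X]} (hf : f ∈ insert (X - 1 : F[X]) (cycFactors F r)) :
    Irreducible f := by
  classical
  rcases Finset.mem_insert.1 hf with rfl | hf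
  · have h1 : (X - 1 : F[X]) = X - C 1 := by rw [map_one]
    rw [h1]
    exact irreducible_X_sub_C 1
  · exact cycFactors_irreducible hf

theorem not_dvd_of_ne (hr : r.Prime) (hrp : r ≠ p) {f f' : F[X]} (hf : f ∈ cycFactors F r)
    (hf' : f' ∈ cycFactors F r) (hne : f' ≠ f) : ¬ f ∣ f' := by
  intro hd
  exact hne (Polynomial.eq_of_monic_of_associated (cycFactors_monic hf) (cycFactors_monic hf')
    ((cycFactors_irreducible hf).associated_of_dvd (cycFactors_irreducible hf') hd)).symm

end

section degrees
variable {F : Type*} [Field F] [Fintype F] {p : ℕ} [Fact p.Prime] [CharP F p] {r q : ℕ}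

theorem exists_card_pow (hF : Fintype.card F = q) : ∃ k : ℕ, 0 < k ∧ q = p ^ k := by
  obtain ⟨⟨k, hk⟩, -, hk2⟩ := FiniteField.card F p
  exact ⟨k, hk, hF ▸ hk2⟩

theorem cycFactors_natDegree (hF : Fintype.card F = q) (hr : r.Prime) (hrp : r ≠ p)
    {f : F[X]} (hf : f ∈ cycFactors F r) : f.natDegree = orderOf (q : ZMod r) := by
  classical
  obtain ⟨k, hk, rfl⟩ := exists_card_pow (p := p) hF
  have hp : p.Prime := Fact.out
  have hcop : p.Coprime r := (Nat.coprime_primes hp hr).2 (Ne.symm hrp)
  rw [natDegree_of_dvd_cyclotomic_of_irreducible hF hcop (cycFactors_dvd hf)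
    (cycFactors_irreducible hf), ← orderOf_units, ZMod.coe_unitOfCoprime]

theorem cycFactors_card (hF : Fintype.card F = q) (hr : r.Prime) (hrp : r ≠ p) :
    (cycFactors F r).card * orderOf (q : ZMod r) = r - 1 := by
  classical
  have h1 : (cyclotomic r F).natDegree = r - 1 := by
    rw [natDegree_cyclotomic, Nat.totient_prime hr]
  rw [← cycFactors_prod hr hrp, natDegree_prod_of_monic _ _ (fun f hf => cycFactors_monic hf)] at h1
  rw [← h1, Finset.sum_congr rfl (fun f hf => cycFactors_natDegree hF hr hrp hf),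
    Finset.sum_const, smul_eq_mul]

end degrees

end Cfsg.Agent.Helper13.SS
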