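import Mathlib

set_option autoImplicit false

/-!
# Classification of endomorphisms killed by a squarefree polynomial

Two endomorphisms killed by a product of pairwise coprime irreducible polynomials are
similar as soon as the kernels of the irreducible factors have the same dimensions.
-/

namespace Cfsg.Agent.Helper13.SS

open Module Polynomial

section basic
variable {F : Type*} [Field F]
variable {V : Type*} [AddCommGroup V] [Module F V]
variable {V' : Type*} [AddCommGroup V'] [Module F V']

/-- a linear map intertwining `g` and `g'` intertwines all polynomials in them -/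
theorem aeval_intertwine (T : V →ₗ[F] V') (g : Module.End F V) (g' : Module.End F V')
    (hT : ∀ x, T (g x) = g' (T x)) (P : F[X]) (x : V) :
    T (aeval g P x) = aeval g' P (T x) := by
  induction P using Polynomial.induction_on generalizing x with
  | C a => simp [Algebra.algebraMap_eq_smul_one]
  | add p q hp hq => simp [hp, hq]
  | monomial n a ih =>
    have h1 : aeval g (C a * X ^ (n + 1)) = aeval g (C a * X ^ n) * g := by
      rw [pow_succ, ← mul_assoc, map_mul, aeval_X]
    have h2 : aeval g' (C a * X ^ (n + 1)) = aeval g' (C a * X ^ n) * g' := by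
      rw [pow_succ, ← mul_assoc, map_mul, aeval_X]
    rw [h1, h2, Module.End.mul_apply, Module.End.mul_apply, ih, hT]

/-- kernel dimension, the basic invariant -/
noncomputable def kdim (g : Module.End F V) (P : F[X]) : ℕ :=
  finrank F (LinearMap.ker (aeval g P))

theorem kdim_eq_of_equiv (T : V ≃ₗ[F] V') (g : Module.End F V) (g' : Module.End F V')
    (hT : ∀ x, T (g x) = g' (T x)) (P : F[X]) : kdim g P = kdim g' P := by
  unfold kdim
  have h1 : (LinearMap.ker (aeval g P)).map (T : V →ₗ[F] V') = LinearMap.ker (aeval g' P) := by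
    ext y
    rw [Submodule.mem_map, LinearMap.mem_ker]
    constructor
    · rintro ⟨x, hx, rfl⟩
      rw [LinearMap.mem_ker] at hx
      have := aeval_intertwine (T : V →ₗ[F] V') g g' hT P x
      rw [hx, map_zero] at this
      exact this.symm
    · intro hy
      refine ⟨T.symm y, ?_, by simp⟩
      rw [LinearMap.mem_ker]
      apply T.injective
      have := aeval_intertwine (T : V →ₗ[F] V') g g' hT P (T.symm y)
      simp only [LinearEquiv.coe_coe, LinearEquiv.apply_symm_apply] at this
      rw [this, hy, map_zero]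
  rw [← h1]
  exact (LinearEquiv.finrank_eq (T.submoduleMap (LinearMap.ker (aeval g P))))

theorem aeval_restrict_apply (g : Module.End F V) (W : Submodule F V) (hW : ∀ x ∈ W, g x ∈ W)
    (P : F[X]) (x : W) : ((aeval (g.restrict hW) P x : W) : V) = aeval g P (x : V) :=
  aeval_intertwine W.subtype (g.restrict hW) g (fun _ => rfl) P x

theorem ker_aeval_restrict (g : Module.End F V) (W : Submodule F V) (hW : ∀ x ∈ W, g x ∈ W)
    (P : F[X]) :
    LinearMap.ker (aeval (g.restrict hW) P) = (LinearMap.ker (aeval g P)).comap W.subtype := by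
  ext x
  rw [LinearMap.mem_ker, Submodule.mem_comap, LinearMap.mem_ker, Submodule.subtype_apply,
    ← aeval_restrict_apply g W hW P x]
  constructor
  · intro h
    rw [h]
    rfl
  · intro h
    exact Subtype.ext h

theorem kdim_restrict (g : Module.End F V) (W : Submodule F V) (hW : ∀ x ∈ W, g x ∈ W)
    (P : F[X]) (hP : LinearMap.ker (aeval g P) ≤ W) : kdim (g.restrict hW) P = kdim g P := by
  unfold kdim
  rw [ker_aeval_restrict]
  exact LinearEquiv.finrank_eq (Submodule.comapSubtypeEquivOfLe hP)

theorem aeval_restrict_eq_zero (g : Module.End F V) (W : Submodule F V) (hW : ∀ x ∈ W, g x ∈ W)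
    (P : F[X]) (hP : W ≤ LinearMap.ker (aeval g P)) : aeval (g.restrict hW) P = 0 := by
  ext x
  rw [aeval_restrict_apply]
  exact LinearMap.mem_ker.1 (hP x.2)

/-- kernels of polynomials in `g` are `g`-invariant -/
theorem ker_aeval_invariant (g : Module.End F V) (P : F[X]) :
    ∀ x ∈ LinearMap.ker (aeval g P), g x ∈ LinearMap.ker (aeval g P) := by
  intro x hx
  rw [LinearMap.mem_ker] at hx ⊢
  have h1 : aeval g P (g x) = g (aeval g P x) := by
    have := aeval_intertwine g g g (fun _ => rfl) P x
    exact this.symm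
  rw [h1, hx, map_zero]

end basic


section field
variable {F : Type*} [Field F] (f : F[X]) [hf : Fact (Irreducible f)]
variable {W : Type*} [AddCommGroup W] [Module F W]
variable {W' : Type*} [AddCommGroup W'] [Module F W']

/-- the algebra hom `AdjoinRoot f → End W` given by an endomorphism killed by `f` -/
noncomputable def rho (h : Module.End F W) (hh : aeval h f = 0) :
    AdjoinRoot f →ₐ[F] Module.End F W :=
  Ideal.Quotient.liftₐ (Ideal.span {f}) (aeval h) (by
    intro a ha
    obtain ⟨b, rfl⟩ := Ideal.mem_span_singleton.1 ha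
    rw [map_mul, hh, zero_mul])

theorem rho_root (h : Module.End F W) (hh : aeval h f = 0) :
    rho f h hh (AdjoinRoot.root f) = h := by
  have h1 : rho f h hh (AdjoinRoot.root f) = aeval h X := rfl
  rw [h1]
  exact aeval_X h

/-- `W` as a vector space over the field `AdjoinRoot f` -/
@[reducible] noncomputable def kModule (h : Module.End F W) (hh : aeval h f = 0) :
    Module (AdjoinRoot f) W :=
  Module.compHom W (rho f h hh : AdjoinRoot f →+* Module.End F W)

theorem kModule_smul (h : Module.End F W) (hh : aeval h f = 0) (k : AdjoinRoot f) (w : W) :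
    letI := kModule f h hh
    k • w = rho f h hh k w := rfl

theorem kModule_tower (h : Module.End F W) (hh : aeval h f = 0) :
    letI := kModule f h hh
    IsScalarTower F (AdjoinRoot f) W := by
  letI := kModule f h hh
  refine ⟨fun c k w => ?_⟩
  rw [kModule_smul, kModule_smul, map_smul, LinearMap.smul_apply]

theorem natDegree_dvd_finrank (h : Module.End F W) (hh : aeval h f = 0) :
    f.natDegree ∣ finrank F W := by
  letI := kModule f h hh
  haveI := kModule_tower f h hh
  have h1 := Module.finrank_mul_finrank F (AdjoinRoot f) W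
  rw [(AdjoinRoot.powerBasis hf.out.ne_zero).finrank, AdjoinRoot.powerBasis_dim] at h1
  exact ⟨_, h1.symm⟩

theorem exists_equiv_of_irreducible [FiniteDimensional F W] [FiniteDimensional F W']
    (h : Module.End F W) (hh : aeval h f = 0)
    (h' : Module.End F W') (hh' : aeval h' f = 0) (hdim : finrank F W = finrank F W') :
    ∃ T : W ≃ₗ[F] W', ∀ x, T (h x) = h' (T x) := by
  letI i1 := kModule f h hh
  haveI t1 := kModule_tower f h hh
  letI i2 := kModule f h' hh'
  haveI t2 := kModule_tower f h' hh'
  haveI : Module.Finite (AdjoinRoot f) W := Module.Finite.of_restrictScalars_finite F _ _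
  haveI : Module.Finite (AdjoinRoot f) W' := Module.Finite.of_restrictScalars_finite F _ _
  have h1 := Module.finrank_mul_finrank F (AdjoinRoot f) W
  have h2 := Module.finrank_mul_finrank F (AdjoinRoot f) W'
  have hpos : 0 < finrank F (AdjoinRoot f) := by
    rw [(AdjoinRoot.powerBasis hf.out.ne_zero).finrank, AdjoinRoot.powerBasis_dim]
    exact Polynomial.natDegree_pos_iff_degree_pos.2 (Polynomial.degree_pos_of_irreducible hf.out)
  have h3 : finrank (AdjoinRoot f) W = finrank (AdjoinRoot f) W' := by
    apply Nat.eq_of_mul_eq_mul_left hpos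
    rw [h1, h2, hdim]
  let T : W ≃ₗ[AdjoinRoot f] W' := LinearEquiv.ofFinrankEq W W' h3
  refine ⟨T.restrictScalars F, fun x => ?_⟩
  have e1 : h x = (AdjoinRoot.root f) • x := by
    rw [kModule_smul, rho_root]
  have e2 : h' (T x) = (AdjoinRoot.root f) • (T x) := by
    rw [kModule_smul, rho_root]
  show T (h x) = h' (T x)
  rw [e1, e2, map_smul]

end field


section split
universe u v w
variable {F : Type u} [Field F]

theorem isCompl_ker_aeval {V : Type*} [AddCommGroup V] [Module F V] (g : Module.End F V)
    {p q : F[X]} (hpq : IsCoprime p q) (h : aeval g (p * q) = 0) :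
    IsCompl (LinearMap.ker (aeval g p)) (LinearMap.ker (aeval g q)) := by
  refine ⟨disjoint_ker_aeval_of_isCoprime g hpq, ?_⟩
  rw [codisjoint_iff, sup_ker_aeval_eq_ker_aeval_mul_of_coprime g hpq, h, LinearMap.ker_zero]

theorem ker_aeval_le_of_dvd {V : Type*} [AddCommGroup V] [Module F V] (g : Module.End F V)
    {p q : F[X]} (hpq : p ∣ q) : LinearMap.ker (aeval g p) ≤ LinearMap.ker (aeval g q) := by
  obtain ⟨c, rfl⟩ := hpq
  intro x hx
  rw [LinearMap.mem_ker] at hx ⊢
  rw [mul_comm, map_mul, Module.End.mul_apply, hx, map_zero]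

theorem kdim_mul {V : Type*} [AddCommGroup V] [Module F V] [FiniteDimensional F V]
    (g : Module.End F V) {p q : F[X]} (hpq : IsCoprime p q) :
    kdim g (p * q) = kdim g p + kdim g q := by
  unfold kdim
  rw [← sup_ker_aeval_eq_ker_aeval_mul_of_coprime g hpq]
  have := Submodule.finrank_sup_add_finrank_inf_eq (LinearMap.ker (aeval g p))
    (LinearMap.ker (aeval g q))
  rw [(disjoint_ker_aeval_of_isCoprime g hpq).eq_bot, finrank_bot, add_zero] at this
  exact this

theorem kdim_prod {V : Type*} [AddCommGroup V] [Module F V] [FiniteDimensional F V]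
    (g : Module.End F V) (S : Finset F[X]) (hS : (S : Set F[X]).Pairwise IsCoprime) :
    kdim g (∏ f ∈ S, f) = ∑ f ∈ S, kdim g f := by
  classical
  induction S using Finset.induction_on with
  | empty =>
    unfold kdim
    rw [Finset.prod_empty, Finset.sum_empty, map_one]
    have : LinearMap.ker (1 : Module.End F V) = ⊥ := LinearMap.ker_id
    rw [this, finrank_bot]
  | insert f S hf ih =>
    have hcop : IsCoprime f (∏ x ∈ S, x) := by
      apply IsCoprime.prod_right
      intro i hi
      exact hS (Finset.mem_insert_self f S) (Finset.mem_insert_of_mem hi)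
        (fun h => hf (h ▸ hi))
    rw [Finset.prod_insert hf, Finset.sum_insert hf, kdim_mul g hcop, ih]
    intro a ha b hb hab
    exact hS (Finset.mem_insert_of_mem ha) (Finset.mem_insert_of_mem hb) hab

/-- total dimension formula -/
theorem finrank_eq_sum_kdim {V : Type*} [AddCommGroup V] [Module F V] [FiniteDimensional F V]
    (g : Module.End F V) (S : Finset F[X]) (hS : (S : Set F[X]).Pairwise IsCoprime)
    (hg : aeval g (∏ f ∈ S, f) = 0) : finrank F V = ∑ f ∈ S, kdim g f := by
  rw [← kdim_prod g S hS]
  unfold kdim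
  rw [hg, LinearMap.ker_zero, finrank_top]

theorem exists_equiv_aux (S : Finset F[X]) :
    ∀ (V : Type v) (V' : Type w) [AddCommGroup V] [Module F V] [FiniteDimensional F V]
      [AddCommGroup V'] [Module F V'] [FiniteDimensional F V']
      (g : Module.End F V) (g' : Module.End F V'),
      (∀ f ∈ S, Irreducible f) → (S : Set F[X]).Pairwise IsCoprime →
      aeval g (∏ f ∈ S, f) = 0 → aeval g' (∏ f ∈ S, f) = 0 →
      (∀ f ∈ S, kdim g f = kdim g' f) → ∃ T : V ≃ₗ[F] V', ∀ x, T (g x) = g' (T x) := by
  classical
  induction S using Finset.induction_on with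
  | empty =>
    intro V V' _ _ _ _ _ _ g g' _ _ hg hg' _
    rw [Finset.prod_empty, map_one] at hg hg'
    haveI : Subsingleton V := ⟨fun x y => by
      have hx : x = (1 : Module.End F V) x := rfl
      have hy : y = (1 : Module.End F V) y := rfl
      rw [hx, hy, hg, LinearMap.zero_apply, LinearMap.zero_apply]⟩
    haveI : Subsingleton V' := ⟨fun x y => by
      have hx : x = (1 : Module.End F V') x := rfl
      have hy : y = (1 : Module.End F V') y := rfl
      rw [hx, hy, hg', LinearMap.zero_apply, LinearMap.zero_apply]⟩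
    exact ⟨LinearEquiv.ofSubsingleton V V', fun x => Subsingleton.elim _ _⟩
  | insert f S hf ih =>
    intro V V' _ _ _ _ _ _ g g' hirr hS hg hg' hk
    have hcop : IsCoprime f (∏ x ∈ S, x) := by
      apply IsCoprime.prod_right
      intro i hi
      exact hS (Finset.mem_insert_self f S) (Finset.mem_insert_of_mem hi)
        (fun h => hf (h ▸ hi))
    rw [Finset.prod_insert hf] at hg hg'
    haveI : Fact (Irreducible f) := ⟨hirr f (Finset.mem_insert_self f S)⟩
    have hAB := isCompl_ker_aeval g hcop hg
    have hAB' := isCompl_ker_aeval g' hcop hg'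
    set q := ∏ x ∈ S, x with hq
    obtain ⟨T₁, hT₁⟩ := exists_equiv_of_irreducible f
      (g.restrict (ker_aeval_invariant g f))
      (aeval_restrict_eq_zero g _ (ker_aeval_invariant g f) f le_rfl)
      (g'.restrict (ker_aeval_invariant g' f))
      (aeval_restrict_eq_zero g' _ (ker_aeval_invariant g' f) f le_rfl)
      (hk f (Finset.mem_insert_self f S))
    obtain ⟨T₂, hT₂⟩ := ih (LinearMap.ker (aeval g q)) (LinearMap.ker (aeval g' q))
      (g.restrict (ker_aeval_invariant g q)) (g'.restrict (ker_aeval_invariant g' q))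
      (fun f₂ h₂ => hirr f₂ (Finset.mem_insert_of_mem h₂))
      (fun a ha b hb hab => hS (Finset.mem_insert_of_mem ha) (Finset.mem_insert_of_mem hb) hab)
      (aeval_restrict_eq_zero g _ (ker_aeval_invariant g q) q le_rfl)
      (aeval_restrict_eq_zero g' _ (ker_aeval_invariant g' q) q le_rfl)
      (fun f₂ h₂ => by
        rw [kdim_restrict g _ _ f₂ (ker_aeval_le_of_dvd g (Finset.dvd_prod_of_mem _ h₂)),
          kdim_restrict g' _ _ f₂ (ker_aeval_le_of_dvd g' (Finset.dvd_prod_of_mem _ h₂))]
        exact hk f₂ (Finset.mem_insert_of_mem h₂))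
    let E := Submodule.prodEquivOfIsCompl _ _ hAB
    let E' := Submodule.prodEquivOfIsCompl _ _ hAB'
    let T : V ≃ₗ[F] V' := E.symm ≪≫ₗ (T₁.prodCongr T₂) ≪≫ₗ E'
    have hT : ∀ (a : LinearMap.ker (aeval g f)) (b : LinearMap.ker (aeval g q)),
        T ((a : V) + (b : V)) = (T₁ a : V') + (T₂ b : V') := by
      intro a b
      have h1 : E.symm ((a : V) + (b : V)) = (a, b) := by
        rw [LinearEquiv.symm_apply_eq]
        exact (Submodule.coe_prodEquivOfIsCompl' _ _ hAB (a, b)).symm
      show E' ((T₁.prodCongr T₂) (E.symm ((a : V) + (b : V)))) = _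
      rw [h1]
      exact Submodule.coe_prodEquivOfIsCompl' _ _ hAB' (T₁ a, T₂ b)
    refine ⟨T, fun x => ?_⟩
    obtain ⟨⟨a, b⟩, rfl⟩ := E.surjective x
    have h2 : E (a, b) = (a : V) + (b : V) := Submodule.coe_prodEquivOfIsCompl' _ _ hAB (a, b)
    rw [h2, map_add, hT]
    have h3 : g (a : V) = ((g.restrict (ker_aeval_invariant g f) a :
        LinearMap.ker (aeval g f)) : V) := rfl
    have h4 : g (b : V) = ((g.restrict (ker_aeval_invariant g q) b :
        LinearMap.ker (aeval g q)) : V) := rfl
    rw [h3, h4, hT, hT₁, hT₂, map_add]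
    rfl

end split


section prod
variable {F : Type*} [Field F]
variable {V₁ : Type*} [AddCommGroup V₁] [Module F V₁]
variable {V₂ : Type*} [AddCommGroup V₂] [Module F V₂]

theorem aeval_prodMap (g₁ : Module.End F V₁) (g₂ : Module.End F V₂) (P : F[X]) :
    aeval (g₁.prodMap g₂) P = (aeval g₁ P).prodMap (aeval g₂ P) := by
  apply LinearMap.ext
  rintro ⟨x, y⟩
  apply Prod.ext
  · exact aeval_intertwine (LinearMap.fst F V₁ V₂) (g₁.prodMap g₂) g₁ (fun _ => rfl) P (x, y)
  · exact aeval_intertwine (LinearMap.snd F V₁ V₂) (g₁.prodMap g₂) g₂ (fun _ => rfl) P (x, y)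

/-- a product of submodules is the product of the submodules -/
def prodSubEquiv (p : Submodule F V₁) (q : Submodule F V₂) : (p.prod q) ≃ₗ[F] (p × q) where
  toFun x := (⟨x.1.1, x.2.1⟩, ⟨x.1.2, x.2.2⟩)
  invFun y := ⟨(y.1, y.2), ⟨y.1.2, y.2.2⟩⟩
  map_add' _ _ := rfl
  map_smul' _ _ := rfl
  left_inv _ := rfl
  right_inv _ := rfl

theorem kdim_prodMap [FiniteDimensional F V₁] [FiniteDimensional F V₂]
    (g₁ : Module.End F V₁) (g₂ : Module.End F V₂) (P : F[X]) :
    kdim (g₁.prodMap g₂) P = kdim g₁ P + kdim g₂ P := by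
  unfold kdim
  rw [aeval_prodMap, LinearMap.ker_prodMap, LinearEquiv.finrank_eq (prodSubEquiv _ _),
    Module.finrank_prod]

end prod

end Cfsg.Agent.Helper13.SS
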