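import Mathlib
import Cfsg.Agent.Lib.Helper13.SemisimpleClass

set_option autoImplicit false

/-!
# Models of semisimple endomorphisms with prescribed kernel dimensions
-/

namespace Cfsg.Agent.Helper13.SS

open Module Polynomial

section models
variable {F : Type*} [Field F]

theorem aeval_one_end {V : Type*} [AddCommGroup V] [Module F V] (P : F[X]) :
    aeval (1 : Module.End F V) P = (P.eval 1) • (1 : Module.End F V) := by
  have h := aeval_algebraMap_apply_eq_algebraMap_eval (A := Module.End F V) (1 : F) P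
  rw [map_one] at h
  rw [h, Algebra.algebraMap_eq_smul_one]

theorem aeval_one_eq_zero {V : Type*} [AddCommGroup V] [Module F V] (P : F[X])
    (hP : P.eval 1 = 0) : aeval (1 : Module.End F V) P = 0 := by
  rw [aeval_one_end, hP, zero_smul]

theorem kdim_one_of_eval_ne_zero {V : Type*} [AddCommGroup V] [Module F V] (P : F[X])
    (hP : P.eval 1 ≠ 0) : kdim (1 : Module.End F V) P = 0 := by
  unfold kdim
  rw [aeval_one_end]
  have h : LinearMap.ker ((P.eval 1) • (1 : Module.End F V)) = ⊥ := by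
    rw [LinearMap.ker_eq_bot']
    intro x hx
    rw [LinearMap.smul_apply, Module.End.one_apply] at hx
    exact (smul_eq_zero.1 hx).resolve_left hP
  rw [h, finrank_bot]

variable (f : F[X]) [hf : Fact (Irreducible f)]

/-- multiplication by the root on `AdjoinRoot f` -/
noncomputable def mulRoot : Module.End F (AdjoinRoot f) :=
  Algebra.lmul F (AdjoinRoot f) (AdjoinRoot.root f)

theorem aeval_mulRoot (P : F[X]) :
    aeval (mulRoot f) P = Algebra.lmul F (AdjoinRoot f) (AdjoinRoot.mk f P) := by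
  unfold mulRoot
  rw [aeval_algHom_apply, AdjoinRoot.aeval_eq]

theorem aeval_mulRoot_eq_zero (P : F[X]) (hP : f ∣ P) : aeval (mulRoot f) P = 0 := by
  rw [aeval_mulRoot, AdjoinRoot.mk_eq_zero.2 hP, map_zero]

theorem finrank_adjoinRoot : finrank F (AdjoinRoot f) = f.natDegree := by
  rw [(AdjoinRoot.powerBasis hf.out.ne_zero).finrank, AdjoinRoot.powerBasis_dim]

theorem kdim_mulRoot_of_dvd (P : F[X]) (hP : f ∣ P) : kdim (mulRoot f) P = f.natDegree := by
  unfold kdim
  rw [aeval_mulRoot_eq_zero f P hP, LinearMap.ker_zero, finrank_top, finrank_adjoinRoot]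

theorem kdim_mulRoot_of_not_dvd (P : F[X]) (hP : ¬ f ∣ P) : kdim (mulRoot f) P = 0 := by
  unfold kdim
  rw [aeval_mulRoot]
  have hne : AdjoinRoot.mk f P ≠ 0 := fun h => hP (AdjoinRoot.mk_eq_zero.1 h)
  have h : LinearMap.ker (Algebra.lmul F (AdjoinRoot f) (AdjoinRoot.mk f P)) = ⊥ := by
    rw [LinearMap.ker_eq_bot']
    intro x hx
    have h1 : AdjoinRoot.mk f P * x = 0 := hx
    exact (mul_eq_zero.1 h1).resolve_left hne
  rw [h, finrank_bot]

end models

section real
variable {F : Type*} [Field F]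
open scoped Classical

/-- realisability of kernel dimensions `d` on `Fin m → F` by an endomorphism killed by `Φ` -/
def Real (Φ : F[X]) (S : Finset F[X]) (d : F[X] → ℕ) (m : ℕ) : Prop :=
  ∃ g : Module.End F (Fin m → F), aeval g Φ = 0 ∧ ∀ f ∈ S, kdim g f = d f

theorem real_of_model {V : Type*} [AddCommGroup V] [Module F V] [FiniteDimensional F V]
    (Φ : F[X]) (S : Finset F[X]) (d : F[X] → ℕ) (m : ℕ) (g : Module.End F V)
    (hm : finrank F V = m) (hg : aeval g Φ = 0) (hk : ∀ f ∈ S, kdim g f = d f) :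
    Real Φ S d m := by
  have e : V ≃ₗ[F] (Fin m → F) := LinearEquiv.ofFinrankEq _ _ (by rw [hm, Module.finrank_fin_fun])
  have he : ∀ x, e (g x) = (e.conj g) (e x) := by
    intro x
    rw [LinearEquiv.conj_apply]
    simp
  refine ⟨e.conj g, ?_, ?_⟩
  · apply LinearMap.ext
    intro y
    have h1 := aeval_intertwine (e : V →ₗ[F] (Fin m → F)) g (e.conj g) he Φ (e.symm y)
    rw [hg] at h1
    simp only [LinearMap.zero_apply, map_zero, LinearEquiv.coe_coe,
      LinearEquiv.apply_symm_apply] at h1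
    rw [← h1, LinearMap.zero_apply]
  · intro f hf
    rw [← hk f hf]
    exact (kdim_eq_of_equiv e g (e.conj g) he f).symm

theorem real_congr {Φ : F[X]} {S : Finset F[X]} {d d' : F[X] → ℕ} {m m' : ℕ}
    (h : Real Φ S d m) (hd : ∀ f ∈ S, d f = d' f) (hm : m = m') : Real Φ S d' m' := by
  subst hm
  obtain ⟨g, hg, hk⟩ := h
  exact ⟨g, hg, fun f hf => (hk f hf).trans (hd f hf)⟩

theorem real_add {Φ : F[X]} {S : Finset F[X]} {d d' : F[X] → ℕ} {m m' : ℕ}
    (h : Real Φ S d m) (h' : Real Φ S d' m') : Real Φ S (d + d') (m + m') := by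
  obtain ⟨g, hg, hk⟩ := h
  obtain ⟨g', hg', hk'⟩ := h'
  apply real_of_model Φ S (d + d') (m + m') (g.prodMap g')
  · rw [Module.finrank_prod, Module.finrank_fin_fun, Module.finrank_fin_fun]
  · rw [aeval_prodMap, hg, hg']
    apply LinearMap.ext
    rintro ⟨x, y⟩
    rfl
  · intro f hf
    rw [kdim_prodMap, hk f hf, hk' f hf]
    rfl

theorem real_one (Φ : F[X]) (S : Finset F[X]) (m : ℕ) (hΦ : Φ.eval 1 = 0)
    (hS : ∀ f ∈ S, f.eval 1 ≠ 0) : Real Φ S 0 m :=
  ⟨1, aeval_one_eq_zero Φ hΦ, fun f hf => kdim_one_of_eval_ne_zero f (hS f hf)⟩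

theorem real_nsmul {Φ : F[X]} {S : Finset F[X]} {d : F[X] → ℕ} {m : ℕ}
    (h0 : Real Φ S 0 0) (h : Real Φ S d m) (k : ℕ) : Real Φ S (k • d) (k * m) := by
  induction k with
  | zero =>
    exact real_congr h0 (fun f _ => by simp) (by simp)
  | succ k ih =>
    exact real_congr (real_add ih h) (fun f _ => by
      simp only [Pi.add_apply, Pi.smul_apply, smul_eq_mul]
      ring) (by ring)

theorem real_single (Φ : F[X]) (S : Finset F[X]) (f : F[X]) (hf : Irreducible f) (hΦ : f ∣ Φ)
    (hS : ∀ f' ∈ S, f' ≠ f → ¬ f ∣ f') :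
    Real Φ S (fun f' => if f' = f then f.natDegree else 0) f.natDegree := by
  classical
  haveI : Fact (Irreducible f) := ⟨hf⟩
  haveI : FiniteDimensional F (AdjoinRoot f) := (AdjoinRoot.powerBasis hf.ne_zero).finite
  apply real_of_model Φ S _ _ (mulRoot f) (finrank_adjoinRoot f) (aeval_mulRoot_eq_zero f Φ hΦ)
  intro f' hf'
  by_cases h : f' = f
  · rw [if_pos h, h]
    exact kdim_mulRoot_of_dvd f f dvd_rfl
  · rw [if_neg h]
    exact kdim_mulRoot_of_not_dvd f f' (hS f' hf' h)

/-- every family of multiplicities is realised -/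
theorem real_sum (Φ : F[X]) (S : Finset F[X]) (hirr : ∀ f ∈ S, Irreducible f)
    (hdvd : ∀ f ∈ S, f ∣ Φ) (hS : ∀ f ∈ S, ∀ f' ∈ S, f' ≠ f → ¬ f ∣ f')
    (h0 : Real Φ S 0 0) (b : F[X] → ℕ) (S₁ : Finset F[X]) (hS₁ : S₁ ⊆ S) :
    Real Φ S (fun f => if f ∈ S₁ then b f * f.natDegree else 0)
      (∑ f ∈ S₁, b f * f.natDegree) := by
  classical
  induction S₁ using Finset.induction_on with
  | empty =>
    exact real_congr h0 (fun f _ => by simp) (by simp)
  | insert f₀ S₁ hf₀ ih =>
    have hf₀S : f₀ ∈ S := hS₁ (Finset.mem_insert_self _ _)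
    have h1 := real_single Φ S f₀ (hirr f₀ hf₀S) (hdvd f₀ hf₀S) (fun f' hf' => hS f₀ hf₀S f' hf')
    have h2 := real_nsmul h0 h1 (b f₀)
    have h3 := ih (fun x hx => hS₁ (Finset.mem_insert_of_mem hx))
    refine real_congr (real_add h2 h3) ?_ ?_
    · intro f _
      simp only [Pi.add_apply, Pi.smul_apply, smul_eq_mul, Finset.mem_insert]
      by_cases h : f = f₀
      · subst h
        simp [hf₀]
      · simp [h]
    · rw [Finset.sum_insert hf₀]

end real

end Cfsg.Agent.Helper13.SS
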