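import Mathlib
import Cfsg.Agent.Lib.Helper13.Transv

set_option autoImplicit false

/-!
# Conjugacy of endomorphisms whose square is a scalar
-/

namespace Cfsg.Agent.Helper13

open Module LinearMap

section
variable {F V : Type*} [Field F] [AddCommGroup V] [Module F V]

/-- eigenspace decomposition of an involution in characteristic not two -/
theorem isCompl_eigen (h2 : (2 : F) ≠ 0) (f : Module.End F V) (hf : f * f = 1) :
    IsCompl (ker (f - 1)) (ker (f + 1)) := by
  have hff : ∀ x, f (f x) = x := fun x => by
    have := congrArg (fun g : Module.End F V => g x) hf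
    simpa using this
  apply IsCompl.of_eq
  · rw [eq_bot_iff]
    rintro x ⟨hx1, hx2⟩
    rw [SetLike.mem_coe, LinearMap.mem_ker, LinearMap.sub_apply, Module.End.one_apply] at hx1
    rw [SetLike.mem_coe, LinearMap.mem_ker, LinearMap.add_apply, Module.End.one_apply] at hx2
    have h3 : (2 : F) • x = 0 := by
      rw [two_smul]
      have : x + x = (f x + x) - (f x - x) := by abel
      rw [this, hx1, hx2, sub_zero]
    rcases smul_eq_zero.1 h3 with h | h
    · exact absurd h h2
    · rw [Submodule.mem_bot]; exact h
  · rw [eq_top_iff]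
    intro x _
    rw [Submodule.mem_sup]
    refine ⟨(2 : F)⁻¹ • (x + f x), ?_, (2 : F)⁻¹ • (x - f x), ?_, ?_⟩
    · rw [LinearMap.mem_ker, LinearMap.sub_apply, Module.End.one_apply, map_smul, map_add, hff,
        add_comm (f x) x, sub_self]
    · rw [LinearMap.mem_ker, LinearMap.add_apply, Module.End.one_apply, map_smul, map_sub, hff,
        ← smul_add]
      have : f x - x + (x - f x) = 0 := by abel
      rw [this, smul_zero]
    · rw [← smul_add]
      have : x + f x + (x - f x) = (2 : F) • x := by rw [two_smul]; abel
      rw [this, smul_smul, inv_mul_cancel₀ h2, one_smul]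

variable [FiniteDimensional F V]

/-- **Involutions with eigenspaces of the same dimensions are conjugate.** -/
theorem exists_intertwiner_invol (h2 : (2 : F) ≠ 0) (f f' : Module.End F V) (hf : f * f = 1)
    (hf' : f' * f' = 1) (hdim : finrank F (ker (f + 1)) = finrank F (ker (f' + 1))) :
    ∃ T : V ≃ₗ[F] V, ∀ v, T (f v) = f' (T v) := by
  have hc := isCompl_eigen h2 f hf
  have hc' := isCompl_eigen h2 f' hf'
  have hd := Submodule.finrank_add_eq_of_isCompl hc
  have hd' := Submodule.finrank_add_eq_of_isCompl hc'
  have hdim1 : finrank F (ker (f - 1)) = finrank F (ker (f' - 1)) := by omega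
  obtain ⟨e, he1, he2⟩ := exists_glue _ _ _ _ hc hc' (LinearEquiv.ofFinrankEq _ _ hdim1)
    (LinearEquiv.ofFinrankEq _ _ hdim)
  refine ⟨e, ?_⟩
  intro v
  obtain ⟨a, ha, b, hb, rfl⟩ : ∃ a ∈ ker (f - 1), ∃ b ∈ ker (f + 1), a + b = v := by
    have : v ∈ ker (f - 1) ⊔ ker (f + 1) := by rw [hc.sup_eq_top]; trivial
    exact Submodule.mem_sup.1 this
  have hfa : f a = a := by
    rw [LinearMap.mem_ker, LinearMap.sub_apply, Module.End.one_apply] at ha
    exact sub_eq_zero.1 ha
  have hfb : f b = -b := by
    rw [LinearMap.mem_ker, LinearMap.add_apply, Module.End.one_apply] at hb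
    exact eq_neg_of_add_eq_zero_left hb
  have hea : f' (e a) = e a := by
    have h3 := he1 ⟨a, ha⟩
    have h4 := (LinearEquiv.ofFinrankEq _ _ hdim1 ⟨a, ha⟩ : ker (f' - 1)).2
    rw [LinearMap.mem_ker, LinearMap.sub_apply, Module.End.one_apply] at h4
    change e a = _ at h3
    rw [h3]
    exact sub_eq_zero.1 h4
  have heb : f' (e b) = -(e b) := by
    have h3 := he2 ⟨b, hb⟩
    have h4 := (LinearEquiv.ofFinrankEq _ _ hdim ⟨b, hb⟩ : ker (f' + 1)).2
    rw [LinearMap.mem_ker, LinearMap.add_apply, Module.End.one_apply] at h4
    change e b = _ at h3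
    rw [h3]
    exact eq_neg_of_add_eq_zero_left h4
  rw [map_add f, hfa, hfb, map_add e, map_add e, map_add f', map_neg, hea, heb]

omit [FiniteDimensional F V] in
theorem injective_of_sq (f : Module.End F V) (μ : F) (hμ : μ ≠ 0) (hf : f * f = μ • 1) :
    Function.Injective f := by
  have hff : ∀ x, f (f x) = μ • x := fun x => by
    have := congrArg (fun g : Module.End F V => g x) hf
    simpa using this
  intro x y hxy
  have h1 : μ • x = μ • y := by rw [← hff, ← hff, hxy]
  exact smul_right_injective V hμ h1

/-- a non-split square root of a scalar admits a "half" subspace -/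
theorem exists_isCompl_map (f : Module.End F V) (μ : F) (hμ : ¬ IsSquare μ)
    (hf : f * f = μ • 1) : ∃ U : Submodule F V, IsCompl U (U.map f) := by
  have hμ0 : μ ≠ 0 := fun h => hμ (h ▸ IsSquare.zero)
  have hff : ∀ x, f (f x) = μ • x := fun x => by
    have := congrArg (fun g : Module.End F V => g x) hf
    simpa using this
  -- induction on the codimension
  have key : ∀ k : ℕ, ∀ U : Submodule F V, Disjoint U (U.map f) →
      finrank F V - finrank F (U ⊔ U.map f : Submodule F V) = k →
      ∃ U' : Submodule F V, IsCompl U' (U'.map f) := by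
    intro k
    induction k using Nat.strong_induction_on with
    | _ k ih =>
      intro U hdisj hk
      by_cases htop : U ⊔ U.map f = ⊤
      · exact ⟨U, hdisj, codisjoint_iff.2 htop⟩
      · -- a vector outside
        obtain ⟨v, hv⟩ : ∃ v, v ∉ U ⊔ U.map f := by
          by_contra hcon
          push Not at hcon
          exact htop (eq_top_iff.2 fun x _ => hcon x)
        have hWinv : ∀ w ∈ U ⊔ U.map f, f w ∈ U ⊔ U.map f := by
          intro w hw
          obtain ⟨u₁, hu₁, z, hz, rfl⟩ := Submodule.mem_sup.1 hw
          obtain ⟨u₂, hu₂, rfl⟩ := Submodule.mem_map.1 hz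
          rw [map_add, hff]
          exact Submodule.add_mem _
            (Submodule.mem_sup_right (Submodule.mem_map_of_mem hu₁))
            (Submodule.mem_sup_left (U.smul_mem μ hu₂))
        set U₁ := U ⊔ Submodule.span F {v} with hU₁
        have hdisj₁ : Disjoint U₁ (U₁.map f) := by
          rw [Submodule.disjoint_def]
          intro x hx1 hx2
          obtain ⟨u, hu, z, hz, rfl⟩ := Submodule.mem_sup.1 hx1
          obtain ⟨a, rfl⟩ := Submodule.mem_span_singleton.1 hz
          obtain ⟨y, hy, hyx⟩ := Submodule.mem_map.1 hx2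
          obtain ⟨u', hu', z', hz', rfl⟩ := Submodule.mem_sup.1 hy
          obtain ⟨b, rfl⟩ := Submodule.mem_span_singleton.1 hz'
          rw [map_add, map_smul] at hyx
          -- y₀ = a v - b f v ∈ W
          have hy₀ : a • v - b • f v ∈ U ⊔ U.map f := by
            have : a • v - b • f v = f u' - u := by
              rw [sub_eq_sub_iff_add_eq_add, hyx, add_comm]
            rw [this]
            exact Submodule.sub_mem _ (Submodule.mem_sup_right (Submodule.mem_map_of_mem hu'))
              (Submodule.mem_sup_left hu)
          have hfy₀ := hWinv _ hy₀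
          rw [map_sub, map_smul, map_smul, hff] at hfy₀
          have hcomb : (a * a - μ * (b * b)) • v ∈ U ⊔ U.map f := by
            have : (a * a - μ * (b * b)) • v =
                a • (a • v - b • f v) + b • (a • f v - b • μ • v) := by
              module
            rw [this]
            exact Submodule.add_mem _ (Submodule.smul_mem _ _ hy₀) (Submodule.smul_mem _ _ hfy₀)
          have hzero : a * a - μ * (b * b) = 0 := by
            by_contra hne
            apply hv
            have := Submodule.smul_mem _ (a * a - μ * (b * b))⁻¹ hcomb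
            rwa [smul_smul, inv_mul_cancel₀ hne, one_smul] at this
          have hb0 : b = 0 := by
            by_contra hb
            apply hμ
            refine ⟨a / b, ?_⟩
            field_simp
            linear_combination -hzero
          have ha0 : a = 0 := by
            rw [hb0] at hzero
            have : a * a = 0 := by linear_combination hzero
            exact mul_self_eq_zero.1 this
          rw [ha0, hb0, zero_smul, zero_smul, add_zero, add_zero] at hyx
          rw [ha0, zero_smul, add_zero]
          exact (Submodule.disjoint_def.1 hdisj) u hu (hyx ▸ Submodule.mem_map_of_mem hu')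
        have hlt : U ⊔ U.map f < U₁ ⊔ U₁.map f := by
          have hle : U ⊔ U.map f ≤ U₁ ⊔ U₁.map f :=
            sup_le_sup le_sup_left (Submodule.map_mono le_sup_left)
          refine lt_of_le_of_ne hle ?_
          intro heq
          apply hv
          rw [heq]
          exact Submodule.mem_sup_left
            (Submodule.mem_sup_right (Submodule.mem_span_singleton_self v))
        have hfr := Submodule.finrank_lt_finrank_of_lt hlt
        have hle2 : finrank F (U₁ ⊔ U₁.map f : Submodule F V) ≤ finrank F V :=
          Submodule.finrank_le _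
        exact ih (finrank F V - finrank F (U₁ ⊔ U₁.map f : Submodule F V)) (by omega) U₁ hdisj₁ rfl
  refine key _ ⊥ ?_ rfl
  rw [Submodule.map_bot]
  exact disjoint_bot_left

theorem even_finrank_of_nonsplit (f : Module.End F V) (μ : F) (hμ : ¬ IsSquare μ)
    (hf : f * f = μ • 1) : Even (finrank F V) := by
  have hμ0 : μ ≠ 0 := fun h => hμ (h ▸ IsSquare.zero)
  have hinj := injective_of_sq f μ hμ0 hf
  obtain ⟨U, hU⟩ := exists_isCompl_map f μ hμ hf
  have hd := Submodule.finrank_add_eq_of_isCompl hU
  have hm : finrank F (U.map f) = finrank F U :=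
    (LinearEquiv.finrank_eq (Submodule.equivMapOfInjective f hinj U)).symm
  exact ⟨finrank F U, by omega⟩

/-- **Non-split square roots of the same scalar are conjugate.** -/
theorem exists_intertwiner_nonsplit (f f' : Module.End F V) (μ : F) (hμ : ¬ IsSquare μ)
    (hf : f * f = μ • 1) (hf' : f' * f' = μ • 1) :
    ∃ T : V ≃ₗ[F] V, ∀ v, T (f v) = f' (T v) := by
  have hμ0 : μ ≠ 0 := fun h => hμ (h ▸ IsSquare.zero)
  have hff : ∀ x, f (f x) = μ • x := fun x => by
    have := congrArg (fun g : Module.End F V => g x) hf
    simpa using this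
  have hff' : ∀ x, f' (f' x) = μ • x := fun x => by
    have := congrArg (fun g : Module.End F V => g x) hf'
    simpa using this
  have hinj := injective_of_sq f μ hμ0 hf
  have hinj' := injective_of_sq f' μ hμ0 hf'
  obtain ⟨U, hU⟩ := exists_isCompl_map f μ hμ hf
  obtain ⟨U', hU'⟩ := exists_isCompl_map f' μ hμ hf'
  have hd := Submodule.finrank_add_eq_of_isCompl hU
  have hd' := Submodule.finrank_add_eq_of_isCompl hU'
  have hm : finrank F (U.map f) = finrank F U :=
    (LinearEquiv.finrank_eq (Submodule.equivMapOfInjective f hinj U)).symm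
  have hm' : finrank F (U'.map f') = finrank F U' :=
    (LinearEquiv.finrank_eq (Submodule.equivMapOfInjective f' hinj' U')).symm
  have hdim : finrank F U = finrank F U' := by omega
  set eA : U ≃ₗ[F] U' := LinearEquiv.ofFinrankEq _ _ hdim with heA
  set eB : (U.map f) ≃ₗ[F] (U'.map f') :=
    ((Submodule.equivMapOfInjective f hinj U).symm.trans eA).trans
      (Submodule.equivMapOfInjective f' hinj' U') with heB
  obtain ⟨e, he1, he2⟩ := exists_glue _ _ _ _ hU hU' eA eB
  have heBf : ∀ a : U, ((eB ⟨f a, Submodule.mem_map_of_mem a.2⟩ : U'.map f') : V) =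
      f' (eA a : V) := by
    intro a
    have h1 : (Submodule.equivMapOfInjective f hinj U).symm ⟨f a, Submodule.mem_map_of_mem a.2⟩
        = a := by
      rw [LinearEquiv.symm_apply_eq]
      apply Subtype.ext
      rw [Submodule.coe_equivMapOfInjective_apply]
    rw [heB, LinearEquiv.trans_apply, LinearEquiv.trans_apply, h1,
      Submodule.coe_equivMapOfInjective_apply]
  refine ⟨e, ?_⟩
  intro v
  obtain ⟨a, ha, b, hb, rfl⟩ : ∃ a ∈ U, ∃ b ∈ U.map f, a + b = v := by
    have : v ∈ U ⊔ U.map f := by rw [hU.sup_eq_top]; trivial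
    exact Submodule.mem_sup.1 this
  obtain ⟨w, hw, rfl⟩ := Submodule.mem_map.1 hb
  have e1 : e (f a) = f' (e a) := by
    have h3 := he2 ⟨f a, Submodule.mem_map_of_mem ha⟩
    change e (f a) = _ at h3
    rw [h3, heBf ⟨a, ha⟩]
    have h4 := he1 ⟨a, ha⟩
    change e a = _ at h4
    rw [h4]
  have e2 : e (f w) = f' (e w) := by
    have h3 := he2 ⟨f w, Submodule.mem_map_of_mem hw⟩
    change e (f w) = _ at h3
    rw [h3, heBf ⟨w, hw⟩]
    have h4 := he1 ⟨w, hw⟩
    change e w = _ at h4
    rw [h4]
  rw [map_add, map_add, map_add, map_add, hff, e1, map_smul, e2, hff']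

end

end Cfsg.Agent.Helper13
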