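import Mathlib
import Cfsg.Agent.Lib.Helper13.SemisimpleClass
import Cfsg.Agent.Lib.Helper13.SemisimpleModel
import Cfsg.Agent.Lib.Helper13.CycloFactors
import Cfsg.Agent.S2577

set_option autoImplicit false

/-!
# Elements of prime order `r ≠ p` in `GL_n(F)`: classification by kernel dimensions
-/

namespace Cfsg.Agent.Helper13.SS

open Module Polynomial

open scoped Classical

section basic
variable {F : Type*} [Field F] {n : ℕ}

/-- the endomorphism of `Fⁿ` attached to an element of `GL_n(F)` -/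
noncomputable def L (g : GL (Fin n) F) : Module.End F (Fin n → F) :=
  Matrix.toLin' (g : Matrix (Fin n) (Fin n) F)

theorem L_mul (g h : GL (Fin n) F) : L (g * h) = L g * L h := by
  unfold L
  rw [Units.val_mul, Matrix.toLin'_mul]
  rfl

theorem L_one : L (1 : GL (Fin n) F) = 1 := by
  unfold L
  rw [Units.val_one, Matrix.toLin'_one]
  rfl

theorem L_pow (g : GL (Fin n) F) (k : ℕ) : L (g ^ k) = L g ^ k := by
  induction k with
  | zero => rw [pow_zero, pow_zero, L_one]
  | succ k ih => rw [pow_succ, pow_succ, L_mul, ih]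

theorem L_injective : Function.Injective (L : GL (Fin n) F → Module.End F (Fin n → F)) := by
  intro g h hgh
  apply Units.ext
  exact Matrix.toLin'.injective hgh

theorem pow_eq_one_iff (g : GL (Fin n) F) (r : ℕ) :
    g ^ r = 1 ↔ aeval (L g) (X ^ r - 1 : F[X]) = 0 := by
  rw [map_sub, map_pow, aeval_X, map_one, sub_eq_zero, ← L_pow, ← L_one]
  exact ⟨fun h => by rw [h], fun h => L_injective h⟩

theorem kdim_conj (g y : GL (Fin n) F) (P : F[X]) :
    kdim (L (y * g * y⁻¹)) P = kdim (L g) P := by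
  symm
  have h1 : L y * L y⁻¹ = 1 := by rw [← L_mul, mul_inv_cancel, L_one]
  have h2 : L y⁻¹ * L y = 1 := by rw [← L_mul, inv_mul_cancel, L_one]
  let T : (Fin n → F) ≃ₗ[F] (Fin n → F) := LinearEquiv.ofLinear (L y) (L y⁻¹) h1 h2
  apply kdim_eq_of_equiv T
  intro x
  show L y (L g x) = L (y * g * y⁻¹) (L y x)
  rw [← Module.End.mul_apply, ← Module.End.mul_apply, ← L_mul, ← L_mul]
  congr 2
  group

theorem dvd_kdim {V : Type*} [AddCommGroup V] [Module F V] (g : Module.End F V) (f : F[X])
    (hf : Irreducible f) : f.natDegree ∣ kdim g f := by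
  haveI : Fact (Irreducible f) := ⟨hf⟩
  exact natDegree_dvd_finrank f (g.restrict (ker_aeval_invariant g f))
    (aeval_restrict_eq_zero g _ (ker_aeval_invariant g f) f le_rfl)

end basic

section finite
variable {F : Type*} [Field F] [Fintype F] {p : ℕ} [Fact p.Prime] [CharP F p] {n r : ℕ}

theorem aeval_prod_eq_zero (hr : r.Prime) (hrp : r ≠ p) (g : GL (Fin n) F) (hg : g ^ r = 1) :
    aeval (L g) (∏ f ∈ insert (X - 1 : F[X]) (cycFactors F r), f) = 0 := by
  rw [X_sub_one_mul_prod hr hrp]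
  exact (pow_eq_one_iff g r).1 hg

theorem finrank_eq (hr : r.Prime) (hrp : r ≠ p) (g : GL (Fin n) F) (hg : g ^ r = 1) :
    n = kdim (L g) (X - 1) + ∑ f ∈ cycFactors F r, kdim (L g) f := by
  have h1 := finrank_eq_sum_kdim (L g) _ (insert_pairwise_coprime (F := F) hr hrp)
    (aeval_prod_eq_zero hr hrp g hg)
  rw [Module.finrank_fin_fun, Finset.sum_insert (X_sub_one_notMem hr hrp)] at h1
  exact h1

theorem sum_kdim_le (hr : r.Prime) (hrp : r ≠ p) (g : GL (Fin n) F) (hg : g ^ r = 1) :
    ∑ f ∈ cycFactors F r, kdim (L g) f ≤ n := by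
  have := finrank_eq hr hrp g hg
  omega

theorem isConj_iff_kdim (hr : r.Prime) (hrp : r ≠ p) (g g' : GL (Fin n) F) (hg : g ^ r = 1)
    (hg' : g' ^ r = 1) :
    IsConj g g' ↔ ∀ f ∈ cycFactors F r, kdim (L g) f = kdim (L g') f := by
  constructor
  · intro h f _
    obtain ⟨y, rfl⟩ := isConj_iff.1 h
    rw [kdim_conj]
  · intro h
    have hsum : ∑ f ∈ cycFactors F r, kdim (L g) f = ∑ f ∈ cycFactors F r, kdim (L g') f :=
      Finset.sum_congr rfl h
    have e1 := finrank_eq hr hrp g hg
    have e2 := finrank_eq hr hrp g' hg'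
    have h1 : kdim (L g) (X - 1) = kdim (L g') (X - 1) := by omega
    obtain ⟨T, hT⟩ := exists_equiv_aux (insert (X - 1 : F[X]) (cycFactors F r))
      (Fin n → F) (Fin n → F) (L g) (L g') (fun f hf => insert_irreducible hf)
      (insert_pairwise_coprime hr hrp) (aeval_prod_eq_zero hr hrp g hg)
      (aeval_prod_eq_zero hr hrp g' hg') (by
        intro f hf
        rcases Finset.mem_insert.1 hf with rfl | hf
        · exact h1
        · exact h f hf)
    exact Cfsg.Agent.S2577.isConj_of_intertwiner g g' T hT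

/-- realisation of multiplicities -/
theorem exists_gl_of_mult {q : ℕ} (hF : Fintype.card F = q) (hr : r.Prime) (hrp : r ≠ p)
    (b : F[X] → ℕ) (hb : (∑ f ∈ cycFactors F r, b f) * orderOf (q : ZMod r) ≤ n) :
    ∃ g : GL (Fin n) F, g ^ r = 1 ∧
      ∀ f ∈ cycFactors F r, kdim (L g) f = b f * orderOf (q : ZMod r) := by
  have hΦ1 : (X ^ r - 1 : F[X]).eval 1 = 0 := by simp
  have h0 : Real (X ^ r - 1 : F[X]) (cycFactors F r) 0 0 :=
    real_one _ _ 0 hΦ1 (fun f hf => cycFactors_eval_one_ne_zero hr hrp hf)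
  have h1 := real_sum (X ^ r - 1 : F[X]) (cycFactors F r)
    (fun f hf => cycFactors_irreducible hf)
    (fun f hf => (cycFactors_dvd hf).trans (cyclotomic.dvd_X_pow_sub_one r F))
    (fun f hf f' hf' hne => not_dvd_of_ne hr hrp hf hf' hne) h0 b (cycFactors F r) subset_rfl
  have hsum : ∑ f ∈ cycFactors F r, b f * f.natDegree =
      (∑ f ∈ cycFactors F r, b f) * orderOf (q : ZMod r) := by
    rw [Finset.sum_mul]
    exact Finset.sum_congr rfl (fun f hf => by rw [cycFactors_natDegree hF hr hrp hf])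
  have h2 : Real (X ^ r - 1 : F[X]) (cycFactors F r) 0
      (n - (∑ f ∈ cycFactors F r, b f) * orderOf (q : ZMod r)) :=
    real_one _ _ _ hΦ1 (fun f hf => cycFactors_eval_one_ne_zero hr hrp hf)
  have h3 : Real (X ^ r - 1 : F[X]) (cycFactors F r)
      (fun f => b f * orderOf (q : ZMod r)) n := by
    refine real_congr (real_add h1 h2) ?_ ?_
    · intro f hf
      simp only [Pi.add_apply, Pi.zero_apply, add_zero, if_pos hf]
      rw [cycFactors_natDegree hF hr hrp hf]
    · rw [hsum]
      omega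
  obtain ⟨h, hh, hk⟩ := h3
  have hpow : h ^ r = 1 := by
    rw [map_sub, map_pow, aeval_X, map_one, sub_eq_zero] at hh
    exact hh
  have hr1 : r = (r - 1) + 1 := by have := hr.one_lt; omega
  set M := LinearMap.toMatrix' h with hM
  have hMpow : M ^ r = 1 := by
    have e1 : M ^ r = LinearMap.toMatrix' (h ^ r) := by
      rw [hM]
      exact (map_pow (LinearMap.toMatrixAlgEquiv' (R := F) (n := Fin n)) h r).symm
    rw [e1, hpow]
    exact LinearMap.toMatrix'_id
  let g : GL (Fin n) F := ⟨M, M ^ (r - 1), by rw [← pow_succ', ← hr1, hMpow],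
    by rw [← pow_succ, ← hr1, hMpow]⟩
  have hLg : L g = h := by
    unfold L
    show Matrix.toLin' M = h
    rw [hM, Matrix.toLin'_toMatrix']
  refine ⟨g, ?_, ?_⟩
  · rw [pow_eq_one_iff, hLg]
    exact hh
  · intro f hf
    rw [hLg]
    exact hk f hf

end finite

end Cfsg.Agent.Helper13.SS
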