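import Mathlib
import Cfsg.Agent.Lib.Helper13.CycloFactors

set_option autoImplicit false

/-!
# The monic irreducible factors of a polynomial over a field
-/

namespace Cfsg.Agent.Helper13.SS

open Polynomial UniqueFactorizationMonoid

open scoped Classical

section
variable {F : Type*} [Field F]

/-- the monic irreducible factors of a polynomial -/
noncomputable def irrFactors (Φ : F[X]) : Finset F[X] :=
  (normalizedFactors Φ).toFinset

theorem mem_irrFactors {Φ f : F[X]} : f ∈ irrFactors Φ ↔ f ∈ normalizedFactors Φ := by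
  unfold irrFactors
  exact Multiset.mem_toFinset

theorem irrFactors_irreducible {Φ f : F[X]} (hf : f ∈ irrFactors Φ) : Irreducible f :=
  irreducible_of_normalized_factor f (mem_irrFactors.1 hf)

theorem irrFactors_dvd {Φ f : F[X]} (hf : f ∈ irrFactors Φ) : f ∣ Φ :=
  dvd_of_mem_normalizedFactors (mem_irrFactors.1 hf)

theorem irrFactors_monic {Φ f : F[X]} (hf : f ∈ irrFactors Φ) : f.Monic := by
  have h1 := normalize_normalized_factor f (mem_irrFactors.1 hf)
  rw [← h1]
  exact Polynomial.monic_normalize (irrFactors_irreducible hf).ne_zero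

theorem coprime_of_monic_irreducible' {f f' : F[X]} (hf : Irreducible f) (hf' : Irreducible f')
    (hm : f.Monic) (hm' : f'.Monic) (hne : f ≠ f') : IsCoprime f f' := by
  rw [hf.coprime_iff_not_dvd]
  intro hd
  exact hne (Polynomial.eq_of_monic_of_associated hm hm' (hf.associated_of_dvd hf' hd))

theorem irrFactors_pairwise_coprime (Φ : F[X]) :
    ((irrFactors Φ : Finset F[X]) : Set F[X]).Pairwise IsCoprime := by
  intro a ha b hb hab
  exact coprime_of_monic_irreducible' (irrFactors_irreducible ha) (irrFactors_irreducible hb)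
    (irrFactors_monic ha) (irrFactors_monic hb) hab

theorem irrFactors_not_dvd_of_ne {Φ f f' : F[X]} (hf : f ∈ irrFactors Φ)
    (hf' : f' ∈ irrFactors Φ) (hne : f' ≠ f) : ¬ f ∣ f' := by
  intro hd
  exact hne (Polynomial.eq_of_monic_of_associated (irrFactors_monic hf) (irrFactors_monic hf')
    ((irrFactors_irreducible hf).associated_of_dvd (irrFactors_irreducible hf') hd)).symm

theorem mem_irrFactors_of_dvd {Φ f : F[X]} (hΦ : Φ ≠ 0) (hf : Irreducible f) (hm : f.Monic)
    (hd : f ∣ Φ) : f ∈ irrFactors Φ := by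
  rw [mem_irrFactors]
  obtain ⟨q, hq, hfq⟩ := exists_mem_normalizedFactors_of_dvd hΦ hf hd
  have hqm : q.Monic := irrFactors_monic (mem_irrFactors.2 hq)
  rw [Polynomial.eq_of_monic_of_associated hm hqm hfq]
  exact hq

/-- a monic polynomial is the product of its monic irreducible factors with multiplicity -/
theorem prod_pow_count {P : F[X]} (hP : P.Monic) :
    ∏ f ∈ irrFactors P, f ^ (normalizedFactors P).count f = P := by
  have hne : P ≠ 0 := hP.ne_zero
  have h1 : ∏ f ∈ irrFactors P, f ^ (normalizedFactors P).count f =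
      (normalizedFactors P).prod := by
    unfold irrFactors
    exact (Finset.prod_multiset_count (normalizedFactors P)).symm
  rw [h1]
  apply Polynomial.eq_of_monic_of_associated _ hP (prod_normalizedFactors hne)
  have := Polynomial.monic_multiset_prod_of_monic (normalizedFactors P) id
    (fun f hf => irrFactors_monic (mem_irrFactors.2 hf))
  rwa [Multiset.map_id] at this

theorem irrFactors_prod {Φ : F[X]} (hΦ : Φ.Monic) (hsq : Squarefree Φ) :
    ∏ f ∈ irrFactors Φ, f = Φ := by
  have hne : Φ ≠ 0 := hΦ.ne_zero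
  have hnodup : (normalizedFactors Φ).Nodup :=
    (squarefree_iff_nodup_normalizedFactors hne).1 hsq
  have h1 : ∏ f ∈ irrFactors Φ, f = (normalizedFactors Φ).prod := by
    unfold irrFactors
    rw [Finset.prod_eq_multiset_prod, Multiset.toFinset_val, Multiset.dedup_eq_self.2 hnodup,
      Multiset.map_id']
  rw [h1]
  apply Polynomial.eq_of_monic_of_associated _ hΦ (prod_normalizedFactors hne)
  have := Polynomial.monic_multiset_prod_of_monic (normalizedFactors Φ) id
    (fun f hf => irrFactors_monic (mem_irrFactors.2 hf))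
  rwa [Multiset.map_id] at this

/-- uniqueness of exponents in a product of powers of pairwise coprime non-units -/
theorem exponents_unique (S : Finset F[X]) (hirr : ∀ f ∈ S, Irreducible f)
    (hcop : (S : Set F[X]).Pairwise IsCoprime) (a b : F[X] → ℕ)
    (h : ∏ f ∈ S, f ^ a f = ∏ f ∈ S, f ^ b f) : ∀ f ∈ S, a f = b f := by
  have key : ∀ (a b : F[X] → ℕ), ∏ f ∈ S, f ^ a f = ∏ f ∈ S, f ^ b f →
      ∀ f ∈ S, a f ≤ b f := by
    intro a b h f₀ hf₀
    have h1 : f₀ ^ a f₀ ∣ ∏ f ∈ S, f ^ b f := by
      rw [← h]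
      exact Finset.dvd_prod_of_mem (fun f => f ^ a f) hf₀
    rw [← Finset.mul_prod_erase S (fun f => f ^ b f) hf₀] at h1
    have h2 : IsCoprime (f₀ ^ a f₀) (∏ f ∈ S.erase f₀, f ^ b f) := by
      apply IsCoprime.prod_right
      intro f hf
      apply IsCoprime.pow
      exact hcop hf₀ (Finset.mem_of_mem_erase hf) (Finset.ne_of_mem_erase hf).symm
    have h3 : f₀ ^ a f₀ ∣ f₀ ^ b f₀ := h2.dvd_of_dvd_mul_right h1
    exact (pow_dvd_pow_iff (hirr f₀ hf₀).ne_zero (hirr f₀ hf₀).not_isUnit).1 h3
  intro f hf
  exact le_antisymm (key a b h f hf) (key b a h.symm f hf)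

end

end Cfsg.Agent.Helper13.SS
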