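import Mathlib
import Cfsg.Agent.Lib.Helper13.SemisimpleModel
import Cfsg.Agent.Lib.Helper13.SqfreeFactors
import Cfsg.Agent.Lib.Helper13.SemisimpleGL

set_option autoImplicit false

/-!
# Characteristic polynomials of semisimple endomorphisms
-/

namespace Cfsg.Agent.Helper13.SS

open Module Polynomial

section models
variable {F : Type*} [Field F]
open scoped Classical

theorem charpoly_mulRoot (f : F[X]) [hf : Fact (Irreducible f)] (hm : f.Monic) :
    haveI : FiniteDimensional F (AdjoinRoot f) := (AdjoinRoot.powerBasis hf.out.ne_zero).finite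
    (mulRoot f).charpoly = f := by
  haveI : FiniteDimensional F (AdjoinRoot f) := (AdjoinRoot.powerBasis hf.out.ne_zero).finite
  have hkill : aeval (mulRoot f) f = 0 := aeval_mulRoot_eq_zero f f dvd_rfl
  have hmin : f = minpoly F (mulRoot f) := minpoly.eq_of_irreducible_of_monic hf.out hkill hm
  have hdvd : f ∣ (mulRoot f).charpoly := by
    have := LinearMap.minpoly_dvd_charpoly (mulRoot f)
    rwa [← hmin] at this
  apply Polynomial.eq_of_monic_of_dvd_of_natDegree_le hm (LinearMap.charpoly_monic _) hdvd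
  rw [LinearMap.charpoly_natDegree, finrank_adjoinRoot]

/-- realisability of kernel dimensions `d` and characteristic polynomial `c` on `Fin m → F` by an
endomorphism killed by `Φ` -/
def RealC (Φ : F[X]) (S : Finset F[X]) (d : F[X] → ℕ) (c : F[X]) (m : ℕ) : Prop :=
  ∃ g : Module.End F (Fin m → F), aeval g Φ = 0 ∧ (∀ f ∈ S, kdim g f = d f) ∧ g.charpoly = c

theorem realC_of_model {V : Type*} [AddCommGroup V] [Module F V] [FiniteDimensional F V]
    (Φ : F[X]) (S : Finset F[X]) (d : F[X] → ℕ) (c : F[X]) (m : ℕ) (g : Module.End F V)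
    (hm : finrank F V = m) (hg : aeval g Φ = 0) (hk : ∀ f ∈ S, kdim g f = d f)
    (hc : g.charpoly = c) : RealC Φ S d c m := by
  have e : V ≃ₗ[F] (Fin m → F) := LinearEquiv.ofFinrankEq _ _ (by rw [hm, Module.finrank_fin_fun])
  have he : ∀ x, e (g x) = (e.conj g) (e x) := by
    intro x
    rw [LinearEquiv.conj_apply]
    simp
  refine ⟨e.conj g, ?_, ?_, ?_⟩
  · apply LinearMap.ext
    intro y
    have h1 := aeval_intertwine (e : V →ₗ[F] (Fin m → F)) g (e.conj g) he Φ (e.symm y)
    rw [hg] at h1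
    simp only [LinearMap.zero_apply, map_zero, LinearEquiv.coe_coe,
      LinearEquiv.apply_symm_apply] at h1
    rw [← h1, LinearMap.zero_apply]
  · intro f hf
    rw [← hk f hf]
    exact (kdim_eq_of_equiv e g (e.conj g) he f).symm
  · rw [LinearEquiv.charpoly_conj, hc]

theorem realC_congr {Φ : F[X]} {S : Finset F[X]} {d d' : F[X] → ℕ} {c c' : F[X]} {m m' : ℕ}
    (h : RealC Φ S d c m) (hd : ∀ f ∈ S, d f = d' f) (hc : c = c') (hm : m = m') :
    RealC Φ S d' c' m' := by
  subst hm
  subst hc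
  obtain ⟨g, hg, hk, hch⟩ := h
  exact ⟨g, hg, fun f hf => (hk f hf).trans (hd f hf), hch⟩

theorem realC_add {Φ : F[X]} {S : Finset F[X]} {d d' : F[X] → ℕ} {c c' : F[X]} {m m' : ℕ}
    (h : RealC Φ S d c m) (h' : RealC Φ S d' c' m') : RealC Φ S (d + d') (c * c') (m + m') := by
  obtain ⟨g, hg, hk, hc⟩ := h
  obtain ⟨g', hg', hk', hc'⟩ := h'
  apply realC_of_model Φ S (d + d') (c * c') (m + m') (g.prodMap g')
  · rw [Module.finrank_prod, Module.finrank_fin_fun, Module.finrank_fin_fun]
  · rw [aeval_prodMap, hg, hg']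
    apply LinearMap.ext
    rintro ⟨x, y⟩
    rfl
  · intro f hf
    rw [kdim_prodMap, hk f hf, hk' f hf]
    rfl
  · rw [LinearMap.charpoly_prodMap, hc, hc']

theorem realC_zero (Φ : F[X]) (S : Finset F[X]) : RealC Φ S 0 1 0 := by
  refine ⟨0, ?_, ?_, ?_⟩
  · apply LinearMap.ext
    intro x
    exact Subsingleton.elim _ _
  · intro f _
    unfold kdim
    have h1 : finrank F (LinearMap.ker (aeval (0 : Module.End F (Fin 0 → F)) f)) ≤
        finrank F (Fin 0 → F) := Submodule.finrank_le _
    rw [Module.finrank_fin_fun] at h1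
    simpa using h1
  · apply Polynomial.eq_one_of_monic_natDegree_zero (LinearMap.charpoly_monic _)
    rw [LinearMap.charpoly_natDegree, Module.finrank_fin_fun]

theorem realC_nsmul {Φ : F[X]} {S : Finset F[X]} {d : F[X] → ℕ} {c : F[X]} {m : ℕ}
    (h : RealC Φ S d c m) (k : ℕ) : RealC Φ S (k • d) (c ^ k) (k * m) := by
  induction k with
  | zero =>
    exact realC_congr (realC_zero Φ S) (fun f _ => by simp) (by simp) (by simp)
  | succ k ih =>
    exact realC_congr (realC_add ih h) (fun f _ => by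
      simp only [Pi.add_apply, Pi.smul_apply, smul_eq_mul]
      ring) (by rw [pow_succ]) (by ring)

theorem realC_single (Φ : F[X]) (S : Finset F[X]) (f : F[X]) (hf : Irreducible f)
    (hm : f.Monic) (hΦ : f ∣ Φ) (hS : ∀ f' ∈ S, f' ≠ f → ¬ f ∣ f') :
    RealC Φ S (fun f' => if f' = f then f.natDegree else 0) f f.natDegree := by
  haveI : Fact (Irreducible f) := ⟨hf⟩
  haveI : FiniteDimensional F (AdjoinRoot f) := (AdjoinRoot.powerBasis hf.ne_zero).finite
  apply realC_of_model Φ S _ _ _ (mulRoot f) (finrank_adjoinRoot f)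
    (aeval_mulRoot_eq_zero f Φ hΦ)
  · intro f' hf'
    by_cases h : f' = f
    · rw [if_pos h, h]
      exact kdim_mulRoot_of_dvd f f dvd_rfl
    · rw [if_neg h]
      exact kdim_mulRoot_of_not_dvd f f' (hS f' hf' h)
  · exact charpoly_mulRoot f hm

/-- every family of multiplicities is realised -/
theorem realC_sum (Φ : F[X]) (S : Finset F[X]) (hirr : ∀ f ∈ S, Irreducible f)
    (hmon : ∀ f ∈ S, f.Monic) (hdvd : ∀ f ∈ S, f ∣ Φ) (b : F[X] → ℕ) (S₁ : Finset F[X])
    (hS₁ : S₁ ⊆ S) :
    RealC Φ S (fun f => if f ∈ S₁ then b f * f.natDegree else 0) (∏ f ∈ S₁, f ^ b f)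
      (∑ f ∈ S₁, b f * f.natDegree) := by
  have hS : ∀ f ∈ S, ∀ f' ∈ S, f' ≠ f → ¬ f ∣ f' := by
    intro f hf f' hf' hne hd
    exact hne (Polynomial.eq_of_monic_of_associated (hmon f hf) (hmon f' hf')
      ((hirr f hf).associated_of_dvd (hirr f' hf') hd)).symm
  induction S₁ using Finset.induction_on with
  | empty =>
    exact realC_congr (realC_zero Φ S) (fun f _ => by simp) (by simp) (by simp)
  | insert f₀ S₁ hf₀ ih =>
    have hf₀S : f₀ ∈ S := hS₁ (Finset.mem_insert_self _ _)
    have h1 := realC_single Φ S f₀ (hirr f₀ hf₀S) (hmon f₀ hf₀S) (hdvd f₀ hf₀S)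
      (fun f' hf' => hS f₀ hf₀S f' hf')
    have h2 := realC_nsmul h1 (b f₀)
    have h3 := ih (fun x hx => hS₁ (Finset.mem_insert_of_mem hx))
    refine realC_congr (realC_add h2 h3) ?_ ?_ ?_
    · intro f _
      simp only [Pi.add_apply, Pi.smul_apply, smul_eq_mul, Finset.mem_insert]
      by_cases h : f = f₀
      · subst h
        simp [hf₀]
      · simp [h]
    · rw [Finset.prod_insert hf₀]
    · rw [Finset.sum_insert hf₀]

end models

section main
variable {F : Type*} [Field F]
variable {V : Type*} [AddCommGroup V] [Module F V] [FiniteDimensional F V]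
variable {V' : Type*} [AddCommGroup V'] [Module F V'] [FiniteDimensional F V']
open scoped Classical

theorem pairwise_coprime_of_monic_irreducible (S : Finset F[X]) (hirr : ∀ f ∈ S, Irreducible f)
    (hmon : ∀ f ∈ S, f.Monic) : (S : Set F[X]).Pairwise IsCoprime := by
  intro a ha b hb hab
  exact coprime_of_monic_irreducible' (hirr a ha) (hirr b hb) (hmon a ha) (hmon b hb) hab

/-- the characteristic polynomial of an endomorphism killed by a product of distinct monic
irreducible polynomials -/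
theorem charpoly_eq_prod (S : Finset F[X]) (hirr : ∀ f ∈ S, Irreducible f)
    (hmon : ∀ f ∈ S, f.Monic) (g : Module.End F V) (hg : aeval g (∏ f ∈ S, f) = 0) :
    g.charpoly = ∏ f ∈ S, f ^ (kdim g f / f.natDegree) := by
  have hcop := pairwise_coprime_of_monic_irreducible S hirr hmon
  set b : F[X] → ℕ := fun f => kdim g f / f.natDegree with hb
  have hbk : ∀ f ∈ S, b f * f.natDegree = kdim g f := by
    intro f hf
    exact Nat.div_mul_cancel (dvd_kdim g f (hirr f hf))
  obtain ⟨g₀, hg₀, hk₀, hc₀⟩ := realC_sum (∏ f ∈ S, f) S hirr hmon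
    (fun f hf => Finset.dvd_prod_of_mem _ hf) b S (Finset.Subset.refl S)
  have hk : ∀ f ∈ S, kdim g f = kdim g₀ f := by
    intro f hf
    have h1 := hk₀ f hf
    simp only [if_pos hf] at h1
    rw [h1, hbk f hf]
  obtain ⟨T, hT⟩ := exists_equiv_aux S V _ g g₀ hirr hcop hg hg₀ hk
  have hconj : T.conj g = g₀ := by
    apply LinearMap.ext
    intro y
    rw [LinearEquiv.conj_apply, LinearMap.comp_apply, LinearMap.comp_apply, LinearEquiv.coe_coe,
      LinearEquiv.coe_coe, hT, LinearEquiv.apply_symm_apply]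
  rw [← LinearEquiv.charpoly_conj T g, hconj, hc₀]

/-- two endomorphisms killed by the same product of distinct monic irreducible polynomials with
the same characteristic polynomial are equivalent -/
theorem exists_equiv_of_charpoly_eq (S : Finset F[X]) (hirr : ∀ f ∈ S, Irreducible f)
    (hmon : ∀ f ∈ S, f.Monic) (g : Module.End F V) (g' : Module.End F V')
    (hg : aeval g (∏ f ∈ S, f) = 0) (hg' : aeval g' (∏ f ∈ S, f) = 0)
    (hc : g.charpoly = g'.charpoly) : ∃ T : V ≃ₗ[F] V', ∀ x, T (g x) = g' (T x) := by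
  have hcop := pairwise_coprime_of_monic_irreducible S hirr hmon
  have h1 := charpoly_eq_prod S hirr hmon g hg
  have h2 := charpoly_eq_prod S hirr hmon g' hg'
  rw [hc, h2] at h1
  have h3 := exponents_unique S hirr hcop _ _ h1
  apply exists_equiv_aux S V V' g g' hirr hcop hg hg'
  intro f hf
  have h4 := h3 f hf
  calc kdim g f = (kdim g f / f.natDegree) * f.natDegree :=
        (Nat.div_mul_cancel (dvd_kdim g f (hirr f hf))).symm
    _ = (kdim g' f / f.natDegree) * f.natDegree := by rw [h4]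
    _ = kdim g' f := Nat.div_mul_cancel (dvd_kdim g' f (hirr f hf))

end main

section centraliser
variable {F : Type*} [Field F] [Finite F]
variable {V : Type*} [AddCommGroup V] [Module F V] [FiniteDimensional F V]
open scoped Classical

/-- the determinant is surjective on the centraliser of a semisimple endomorphism -/
theorem exists_commute_det (S : Finset F[X]) (hirr : ∀ f ∈ S, Irreducible f)
    (hmon : ∀ f ∈ S, f.Monic) (g : Module.End F V) (hg : aeval g (∏ f ∈ S, f) = 0)
    (hV : 0 < finrank F V) (δ : F) :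
    ∃ c : Module.End F V, c * g = g * c ∧ LinearMap.det c = δ := by
  have hcop := pairwise_coprime_of_monic_irreducible S hirr hmon
  have hsum := finrank_eq_sum_kdim g S hcop hg
  obtain ⟨f₀, hf₀, hpos⟩ : ∃ f₀ ∈ S, 0 < kdim g f₀ := by
    by_contra hcon
    push Not at hcon
    have : ∑ f ∈ S, kdim g f = 0 := Finset.sum_eq_zero (fun f hf => Nat.le_zero.1 (hcon f hf))
    omega
  haveI : Fact (Irreducible f₀) := ⟨hirr f₀ hf₀⟩
  haveI : FiniteDimensional F (AdjoinRoot f₀) :=
    (AdjoinRoot.powerBasis (hirr f₀ hf₀).ne_zero).finite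
  set b : F[X] → ℕ := fun f => kdim g f / f.natDegree with hb
  have hbk : ∀ f ∈ S, b f * f.natDegree = kdim g f := by
    intro f hf
    exact Nat.div_mul_cancel (dvd_kdim g f (hirr f hf))
  have hb0 : 1 ≤ b f₀ := by
    by_contra h
    have h0 : b f₀ = 0 := by omega
    have h1 := hbk f₀ hf₀
    rw [h0, zero_mul] at h1
    omega
  set b' : F[X] → ℕ := fun f => if f = f₀ then b f - 1 else b f with hb'
  obtain ⟨g₁, hg₁, hk₁, -⟩ := realC_sum (∏ f ∈ S, f) S hirr hmon
    (fun f hf => Finset.dvd_prod_of_mem _ hf) b' S (Finset.Subset.refl S)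
  set g₀ := (mulRoot f₀).prodMap g₁ with hg₀def
  have hg₀ : aeval g₀ (∏ f ∈ S, f) = 0 := by
    rw [hg₀def, aeval_prodMap, hg₁,
      aeval_mulRoot_eq_zero f₀ _ (Finset.dvd_prod_of_mem (fun f => f) hf₀)]
    apply LinearMap.ext
    rintro ⟨x, y⟩
    rfl
  have hk : ∀ f ∈ S, kdim g f = kdim g₀ f := by
    intro f hf
    have h1 := hk₁ f hf
    simp only [if_pos hf] at h1
    rw [hg₀def, kdim_prodMap, h1]
    by_cases h : f = f₀
    · subst h
      rw [kdim_mulRoot_of_dvd f f dvd_rfl, ← hbk f hf]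
      simp only [hb', if_true]
      have : b f = (b f - 1) + 1 := by omega
      conv_lhs => rw [this]
      ring
    · have hnd : ¬ f₀ ∣ f := by
        intro hd
        exact h (Polynomial.eq_of_monic_of_associated (hmon f₀ hf₀) (hmon f hf)
          ((hirr f₀ hf₀).associated_of_dvd (hirr f hf) hd)).symm
      rw [kdim_mulRoot_of_not_dvd f₀ f hnd, zero_add, ← hbk f hf]
      simp only [hb', if_neg h]
  obtain ⟨T, hT⟩ := exists_equiv_aux S V _ g g₀ hirr hcop hg hg₀ hk
  haveI : Finite (AdjoinRoot f₀) := Module.finite_of_finite F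
  obtain ⟨β, hβ⟩ := FiniteField.norm_surjective F (AdjoinRoot f₀) δ
  set c₀ := (Algebra.lmul F (AdjoinRoot f₀) β).prodMap
    (LinearMap.id : (Fin (∑ f ∈ S, b' f * f.natDegree) → F) →ₗ[F] _) with hc₀def
  have hc₀ : ∀ z, c₀ (g₀ z) = g₀ (c₀ z) := by
    rintro ⟨x, y⟩
    show (β * (AdjoinRoot.root f₀ * x), g₁ y) = (AdjoinRoot.root f₀ * (β * x), g₁ y)
    rw [mul_left_comm]
  have hdet₀ : LinearMap.det c₀ = δ := by
    rw [hc₀def, LinearMap.det_prodMap, LinearMap.det_id, mul_one]
    exact hβ
  have hTs : ∀ z, g (T.symm z) = T.symm (g₀ z) := by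
    intro z
    rw [LinearEquiv.eq_symm_apply, hT, LinearEquiv.apply_symm_apply]
  refine ⟨T.symm.conj c₀, ?_, ?_⟩
  · apply LinearMap.ext
    intro x
    rw [Module.End.mul_apply, Module.End.mul_apply, LinearEquiv.conj_apply,
      LinearMap.comp_apply, LinearMap.comp_apply, LinearMap.comp_apply, LinearMap.comp_apply,
      LinearEquiv.coe_coe, LinearEquiv.coe_coe, LinearEquiv.symm_symm, hT, hc₀, hTs]
  · rw [LinearEquiv.conj_apply, LinearMap.comp_assoc, LinearMap.det_conj, hdet₀]

end centraliser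

end Cfsg.Agent.Helper13.SS
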