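import Mathlib
import Cfsg.Agent.Lib.Helper13.SemisimpleCharpoly

set_option autoImplicit false

/-!
# Elements of `GL_n(F)` and `SL_n(F)` of order prime to the characteristic and their
characteristic polynomials
-/

namespace Cfsg.Agent.Helper13.SS

open Module Polynomial

open scoped Classical

section sep
variable {F : Type*} [Field F]

theorem sepFactors_prod {m : ℕ} (hm : (m : F) ≠ 0) :
    ∏ f ∈ irrFactors (X ^ m - 1 : F[X]), f = X ^ m - 1 := by
  have hm0 : m ≠ 0 := by
    rintro rfl
    simp at hm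
  have hmonic : (X ^ m - 1 : F[X]).Monic := by
    have := monic_X_pow_sub_C (1 : F) hm0
    rwa [map_one] at this
  exact irrFactors_prod hmonic (X_pow_sub_one_separable_iff.2 hm).squarefree

variable {p : ℕ} [Fact p.Prime] [CharP F p]

theorem cast_ne_zero_of_coprime {m : ℕ} (hm : m.Coprime p) : (m : F) ≠ 0 := by
  intro h
  have h1 := (CharP.cast_eq_zero_iff F p m).1 h
  have hp : p.Prime := Fact.out
  have h2 : p ∣ Nat.gcd m p := Nat.dvd_gcd h1 dvd_rfl
  rw [hm] at h2
  exact hp.one_lt.ne' (Nat.dvd_one.1 h2)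

end sep

section gl
variable {F : Type*} [Field F] {n : ℕ}

theorem charpoly_L (g : GL (Fin n) F) :
    (L g).charpoly = (g : Matrix (Fin n) (Fin n) F).charpoly :=
  Matrix.charpoly_toLin' _

variable {p : ℕ} [Fact p.Prime] [CharP F p]

/-- elements of `GL_n(F)` of order prime to the characteristic with the same characteristic
polynomial are conjugate -/
theorem isConj_of_charpoly_eq (g h : GL (Fin n) F) (hg : (orderOf g).Coprime p)
    (hh : (orderOf h).Coprime p)
    (hc : (g : Matrix (Fin n) (Fin n) F).charpoly = (h : Matrix (Fin n) (Fin n) F).charpoly) :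
    IsConj g h := by
  set m := orderOf g * orderOf h with hm
  have hmp : m.Coprime p := Nat.Coprime.mul_left hg hh
  have hmF : (m : F) ≠ 0 := cast_ne_zero_of_coprime hmp
  have hgm : g ^ m = 1 := by rw [hm, pow_mul, pow_orderOf_eq_one, one_pow]
  have hhm : h ^ m = 1 := by rw [hm, mul_comm, pow_mul, pow_orderOf_eq_one, one_pow]
  set S := irrFactors (X ^ m - 1 : F[X]) with hS
  have hprod : ∏ f ∈ S, f = X ^ m - 1 := sepFactors_prod hmF
  have hkg : aeval (L g) (∏ f ∈ S, f) = 0 := by
    rw [hprod]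
    exact (pow_eq_one_iff g m).1 hgm
  have hkh : aeval (L h) (∏ f ∈ S, f) = 0 := by
    rw [hprod]
    exact (pow_eq_one_iff h m).1 hhm
  obtain ⟨T, hT⟩ := exists_equiv_of_charpoly_eq S (fun f hf => irrFactors_irreducible hf)
    (fun f hf => irrFactors_monic hf) (L g) (L h) hkg hkh (by rw [charpoly_L, charpoly_L, hc])
  exact Cfsg.Agent.S2577.isConj_of_intertwiner g h T hT

end gl

section sl
variable {F : Type*} [Field F] [Finite F] {n : ℕ} {p : ℕ} [Fact p.Prime] [CharP F p]

/-- elements of `SL_n(F)` of order prime to the characteristic with the same characteristic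
polynomial are conjugate in `SL_n(F)` -/
theorem sl_isConj_of_charpoly_eq (g h : Matrix.SpecialLinearGroup (Fin n) F)
    (hg : (orderOf g).Coprime p) (hh : (orderOf h).Coprime p)
    (hc : (g : Matrix (Fin n) (Fin n) F).charpoly = (h : Matrix (Fin n) (Fin n) F).charpoly) :
    IsConj g h := by
  rcases Nat.eq_zero_or_pos n with hn | hn
  · subst hn
    have : g = h := by
      apply Subtype.ext
      apply Matrix.ext
      intro i
      exact i.elim0
    rw [this]
  set m := orderOf g * orderOf h with hm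
  have hmp : m.Coprime p := Nat.Coprime.mul_left hg hh
  have hmF : (m : F) ≠ 0 := cast_ne_zero_of_coprime hmp
  have hgm : g ^ m = 1 := by rw [hm, pow_mul, pow_orderOf_eq_one, one_pow]
  have hhm : h ^ m = 1 := by rw [hm, mul_comm, pow_mul, pow_orderOf_eq_one, one_pow]
  have hgm' : (g : Matrix (Fin n) (Fin n) F) ^ m = 1 := by
    rw [← Matrix.SpecialLinearGroup.coe_pow, hgm, Matrix.SpecialLinearGroup.coe_one]
  have hhm' : (h : Matrix (Fin n) (Fin n) F) ^ m = 1 := by
    rw [← Matrix.SpecialLinearGroup.coe_pow, hhm, Matrix.SpecialLinearGroup.coe_one]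
  set S := irrFactors (X ^ m - 1 : F[X]) with hS
  have hprod : ∏ f ∈ S, f = X ^ m - 1 := sepFactors_prod hmF
  set φ := Matrix.toLinAlgEquiv' (R := F) (n := Fin n) with hφ
  have hdet : ∀ M : Matrix (Fin n) (Fin n) F, LinearMap.det (φ M) = M.det := by
    intro M
    exact LinearMap.det_toLin' M
  have hchar : ∀ M : Matrix (Fin n) (Fin n) F, (φ M).charpoly = M.charpoly := by
    intro M
    exact Matrix.charpoly_toLin' M
  have hkg : aeval (φ g) (∏ f ∈ S, f) = 0 := by
    rw [hprod, map_sub, map_pow, aeval_X, map_one, ← map_pow, hgm', map_one, sub_self]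
  have hkh : aeval (φ h) (∏ f ∈ S, f) = 0 := by
    rw [hprod, map_sub, map_pow, aeval_X, map_one, ← map_pow, hhm', map_one, sub_self]
  have hirr : ∀ f ∈ S, Irreducible f := fun f hf => irrFactors_irreducible hf
  have hmon : ∀ f ∈ S, f.Monic := fun f hf => irrFactors_monic hf
  obtain ⟨T, hT⟩ := exists_equiv_of_charpoly_eq S hirr hmon (φ g) (φ h) hkg hkh
    (by rw [hchar, hchar, hc])
  set δ : F := LinearMap.det (T : (Fin n → F) →ₗ[F] (Fin n → F)) with hδ
  have hδ0 : δ ≠ 0 := (LinearEquiv.isUnit_det' T).ne_zero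
  have hV : 0 < finrank F (Fin n → F) := by
    rw [Module.finrank_fin_fun]
    exact hn
  obtain ⟨c, hcg, hcdet⟩ := exists_commute_det S hirr hmon (φ g) hkg hV δ⁻¹
  have hTx : (T : Module.End F (Fin n → F)) * φ g = φ h * (T : Module.End F (Fin n → F)) := by
    apply LinearMap.ext
    intro v
    exact hT v
  set T' : Module.End F (Fin n → F) := (T : Module.End F (Fin n → F)) * c with hT'
  have hT'det : LinearMap.det T' = 1 := by
    rw [hT', Module.End.mul_eq_comp, LinearMap.det_comp, hcdet, ← hδ, mul_inv_cancel₀ hδ0]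
  have hT'x : T' * φ g = φ h * T' := by
    rw [hT', mul_assoc, hcg, ← mul_assoc, hTx, mul_assoc]
  set M := φ.symm T' with hM
  have hMT : φ M = T' := φ.apply_symm_apply T'
  have hMdet : M.det = 1 := by rw [← hdet, hMT, hT'det]
  have hMab : M * (g : Matrix (Fin n) (Fin n) F) = (h : Matrix (Fin n) (Fin n) F) * M := by
    apply φ.injective
    rw [map_mul, map_mul, hMT, hT'x]
  set x : Matrix.SpecialLinearGroup (Fin n) F := ⟨M, hMdet⟩ with hx
  have hxab : x * g = h * x := by
    apply Subtype.ext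
    rw [Matrix.SpecialLinearGroup.coe_mul, Matrix.SpecialLinearGroup.coe_mul]
    exact hMab
  rw [isConj_iff]
  exact ⟨x, by rw [hxab, mul_inv_cancel_right]⟩

end sl

section existence
variable {F : Type*} [Field F] [Fintype F] {n : ℕ} {p : ℕ} [Fact p.Prime] [CharP F p]

/-- an irreducible monic polynomial different from `X` of degree dividing `N` divides
`X ^ (q ^ N - 1) - 1` -/
theorem dvd_X_pow_sub_one_of_irreducible {f : F[X]} (hf : Irreducible f) (hX : ¬ f ∣ X)
    {N : ℕ} (hN : f.natDegree ∣ N) :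
    f ∣ X ^ (Fintype.card F ^ N - 1) - 1 := by
  have h1 : f ∣ X ^ (Nat.card F) ^ N - X :=
    hf.natDegree_dvd_iff_dvd_X_pow_card_pow_sub_X.1 hN
  rw [Nat.card_eq_fintype_card] at h1
  have hpos : 1 ≤ Fintype.card F ^ N := Nat.one_le_pow _ _ Fintype.card_pos
  have h2 : (X ^ Fintype.card F ^ N - X : F[X]) = X * (X ^ (Fintype.card F ^ N - 1) - 1) := by
    have : Fintype.card F ^ N = (Fintype.card F ^ N - 1) + 1 := by omega
    conv_lhs => rw [this, pow_succ]
    ring
  rw [h2] at h1
  exact (hf.coprime_iff_not_dvd.2 hX).dvd_of_dvd_mul_left h1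

theorem coprime_card_pow_sub_one {q : ℕ} (hF : Fintype.card F = q) (N : ℕ) (hN : 0 < N) :
    (q ^ N - 1).Coprime p := by
  have hp : p.Prime := Fact.out
  obtain ⟨k, hk, rfl⟩ := exists_card_pow (p := p) hF
  apply Nat.Coprime.symm
  rw [Nat.Prime.coprime_iff_not_dvd hp]
  intro hd
  have h1 : p ∣ (p ^ k) ^ N := by
    rw [← pow_mul]
    exact dvd_pow_self p (by positivity)
  have hpos : 1 ≤ (p ^ k) ^ N := Nat.one_le_pow _ _ (pow_pos hp.pos k)
  have h2 : p ∣ (p ^ k) ^ N - ((p ^ k) ^ N - 1) := Nat.dvd_sub h1 hd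
  have h3 : (p ^ k) ^ N - ((p ^ k) ^ N - 1) = 1 := by omega
  rw [h3] at h2
  exact hp.one_lt.ne' (Nat.dvd_one.1 h2)

/-- every monic polynomial of degree `n` with nonzero constant coefficient is the characteristic
polynomial of an element of `GL_n(F)` of order prime to the characteristic -/
theorem exists_gl_of_charpoly (P : F[X]) (hP : P.Monic) (hdeg : P.natDegree = n)
    (h0 : P.coeff 0 ≠ 0) :
    ∃ g : GL (Fin n) F, (g : Matrix (Fin n) (Fin n) F).charpoly = P ∧ (orderOf g).Coprime p := by
  have hp : p.Prime := Fact.out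
  have hPne : P ≠ 0 := hP.ne_zero
  set S := irrFactors P with hS
  set b : F[X] → ℕ := fun f => (UniqueFactorizationMonoid.normalizedFactors P).count f with hb
  have hPprod : ∏ f ∈ S, f ^ b f = P := prod_pow_count hP
  have hirr : ∀ f ∈ S, Irreducible f := fun f hf => irrFactors_irreducible hf
  have hmon : ∀ f ∈ S, f.Monic := fun f hf => irrFactors_monic hf
  have hcop := pairwise_coprime_of_monic_irreducible S hirr hmon
  obtain ⟨g₀, hg₀, -, hc₀⟩ := realC_sum (∏ f ∈ S, f) S hirr hmon
    (fun f hf => Finset.dvd_prod_of_mem _ hf) b S (Finset.Subset.refl S)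
  rw [hPprod] at hc₀
  -- the dimension
  have hm : ∑ f ∈ S, b f * f.natDegree = n := by
    have h1 := LinearMap.charpoly_natDegree g₀
    rw [hc₀, hdeg, Module.finrank_fin_fun] at h1
    exact h1.symm
  -- the exponent
  set N := n.factorial with hN
  have hNpos : 0 < N := Nat.factorial_pos n
  set q := Fintype.card F with hq
  set M := q ^ N - 1 with hM
  have hMp : M.Coprime p := coprime_card_pow_sub_one (p := p) hq.symm N hNpos
  have hdvd : ∀ f ∈ S, f ∣ X ^ M - 1 := by
    intro f hf
    apply dvd_X_pow_sub_one_of_irreducible (hirr f hf)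
    · intro hfX
      apply h0
      have : X ∣ P := by
        have h1 : Associated f X := (hirr f hf).associated_of_dvd irreducible_X hfX
        have h2 : f = X := Polynomial.eq_of_monic_of_associated (hmon f hf) monic_X h1
        rw [← h2]
        exact irrFactors_dvd hf
      exact Polynomial.X_dvd_iff.1 this
    · apply Nat.dvd_factorial (hirr f hf).natDegree_pos
      rw [← hdeg]
      exact Polynomial.natDegree_le_of_dvd (irrFactors_dvd hf) hPne
  have hΦ : (∏ f ∈ S, f) ∣ X ^ M - 1 := Finset.prod_dvd_of_coprime hcop hdvd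
  have hg₀M : aeval g₀ (X ^ M - 1 : F[X]) = 0 := by
    obtain ⟨r, hr⟩ := hΦ
    rw [hr, map_mul, hg₀, zero_mul]
  have hg₀M' : g₀ ^ M = 1 := by
    rw [map_sub, map_pow, aeval_X, map_one, sub_eq_zero] at hg₀M
    exact hg₀M
  clear_value M
  -- transport to dimension `n`
  subst hm
  set φ := Matrix.toLinAlgEquiv' (R := F) (n := Fin (∑ f ∈ S, b f * f.natDegree)) with hφ
  set A := φ.symm g₀ with hA
  have hAg : φ A = g₀ := φ.apply_symm_apply g₀
  have hAM : A ^ M = 1 := by
    apply φ.injective
    rw [map_pow, hAg, hg₀M', map_one]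
  have hM1 : 1 ≤ M := by
    rcases Nat.eq_zero_or_pos M with h | h
    · rw [h] at hMp
      have : p = 1 := by simpa using hMp
      exact absurd this hp.one_lt.ne'
    · exact h
  have hA1 : A * A ^ (M - 1) = 1 := by
    rw [← pow_succ', Nat.sub_add_cancel hM1, hAM]
  have hA2 : A ^ (M - 1) * A = 1 := by
    rw [← pow_succ, Nat.sub_add_cancel hM1, hAM]
  refine ⟨⟨A, A ^ (M - 1), hA1, hA2⟩, ?_, ?_⟩
  · show A.charpoly = P
    rw [← hc₀, ← hAg]
    exact (Matrix.charpoly_toLin' A).symm
  · apply Nat.Coprime.coprime_dvd_left _ hMp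
    apply orderOf_dvd_of_pow_eq_one
    apply Units.ext
    rw [Units.val_pow_eq_pow_val, Units.val_one]
    exact hAM

end existence

end Cfsg.Agent.Helper13.SS
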