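import Mathlib

set_option autoImplicit false

/-!
# Finite fields with an involution: norms and functionals
-/

namespace Cfsg.Agent.Helper13.Herm

section norm
variable {k : Type*} [Field k] (σ : k →+* k)

/-- Hilbert 90 for an involution -/
theorem exists_of_norm_one (hσ2 : ∀ x, σ (σ x) = x) (hσ1 : ∃ x, σ x ≠ x) (c : k)
    (hc : c * σ c = 1) : ∃ b : k, b ≠ 0 ∧ c * σ b = b := by
  by_cases h : (1 : k) + c = 0
  · obtain ⟨x, hx⟩ := hσ1
    refine ⟨x - σ x, sub_ne_zero.2 (Ne.symm hx), ?_⟩
    have hc' : c = -1 := by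
      rw [add_comm] at h
      exact eq_neg_of_add_eq_zero_left h
    rw [hc', map_sub, hσ2]
    ring
  · refine ⟨1 + c, h, ?_⟩
    rw [map_add, map_one, mul_add, mul_one, hc, add_comm]

variable [Finite k]

/-- the norm of an involution of a finite field is surjective onto the fixed field -/
theorem norm_surjective (hσ2 : ∀ x, σ (σ x) = x) (hσ1 : ∃ x, σ x ≠ x) (y : k)
    (hy : σ y = y) : ∃ c : k, c * σ c = y := by
  classical
  by_cases hy0 : y = 0
  · exact ⟨0, by rw [hy0, zero_mul]⟩
  set s : kˣ →* kˣ := Units.map (σ : k →* k) with hs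
  have hs2 : ∀ u : kˣ, s (s u) = u := by
    intro u
    apply Units.ext
    exact hσ2 u
  -- the norm and the Hilbert 90 map on units
  set N : kˣ →* kˣ := (MonoidHom.id kˣ) * s with hN
  set D : kˣ →* kˣ := (MonoidHom.id kˣ) * (s.comp (MonoidHom.id kˣ))⁻¹ with hD
  have hsval : ∀ u : kˣ, ((s u : kˣ) : k) = σ (u : k) := fun u => rfl
  have hNapp : ∀ u, N u = u * s u := fun u => rfl
  have hDapp : ∀ u, D u = u * (s u)⁻¹ := fun u => rfl
  have hkerN : N.ker = D.range := by
    ext c
    rw [MonoidHom.mem_ker, MonoidHom.mem_range, hNapp]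
    constructor
    · intro hc
      have hc' : (c : k) * σ c = 1 := by
        have := congrArg Units.val hc
        rw [Units.val_mul, hsval, Units.val_one] at this
        exact this
      obtain ⟨b, hb0, hb⟩ := exists_of_norm_one σ hσ2 hσ1 (c : k) hc'
      -- c σ(b) = b, so c = b / σ b
      refine ⟨Units.mk0 b hb0, ?_⟩
      rw [hDapp]
      apply Units.ext
      have hsb : σ b ≠ 0 := by
        intro h
        rw [h, mul_zero] at hb
        exact hb0 hb.symm
      rw [Units.val_mul, Units.val_inv_eq_inv_val, hsval]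
      show b * (σ b)⁻¹ = c
      rw [eq_comm, eq_mul_inv_iff_mul_eq₀ hsb]
      exact hb
    · rintro ⟨b, rfl⟩
      rw [hDapp, map_mul, map_inv, hs2]
      rw [mul_assoc, ← mul_assoc (s b)⁻¹, inv_mul_cancel, one_mul, mul_inv_cancel]
  set K₀ : Subgroup kˣ := D.ker with hK₀
  have hK₀mem : ∀ u : kˣ, u ∈ K₀ ↔ s u = u := by
    intro u
    rw [hK₀, MonoidHom.mem_ker, hDapp, mul_inv_eq_one, eq_comm]
  have hrange : N.range ≤ K₀ := by
    rintro _ ⟨c, rfl⟩
    rw [hK₀mem, hNapp, map_mul, hs2, mul_comm]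
  have hcard : Nat.card N.range = Nat.card K₀ := by
    have h1 : Nat.card N.ker * Nat.card N.range = Nat.card kˣ := by
      rw [← Subgroup.index_ker]
      exact Subgroup.card_mul_index _
    have h2 : Nat.card D.ker * Nat.card D.range = Nat.card kˣ := by
      rw [← Subgroup.index_ker]
      exact Subgroup.card_mul_index _
    rw [hkerN] at h1
    have h3 : Nat.card D.range ≠ 0 := Nat.card_pos.ne'
    have h4 : Nat.card D.range * Nat.card N.range = Nat.card D.range * Nat.card D.ker := by
      rw [h1, mul_comm, h2]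
    exact Nat.eq_of_mul_eq_mul_left (Nat.pos_of_ne_zero h3) h4
  have heq : N.range = K₀ := Subgroup.eq_of_le_of_card_ge hrange (le_of_eq hcard.symm)
  have hyK : Units.mk0 y hy0 ∈ K₀ := by
    rw [hK₀mem]
    apply Units.ext
    exact hy
  rw [← heq] at hyK
  obtain ⟨c, hc⟩ := hyK
  refine ⟨(c : k), ?_⟩
  have := congrArg Units.val hc
  rw [hNapp, Units.val_mul, hsval] at this
  exact this

end norm

section functional
variable {F k : Type*} [Field F] [Field k] [Algebra F k] [FiniteDimensional F k]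

/-- every functional on a field extension is a twist of a given nonzero one -/
theorem exists_twist (τ' τ : k →ₗ[F] F) (hτ' : τ' ≠ 0) : ∃ y : k, ∀ x, τ' (x * y) = τ x := by
  set Ψ : k →ₗ[F] (Module.Dual F k) :=
    { toFun := fun y => τ'.comp (LinearMap.mulRight F y)
      map_add' := by
        intro y z
        apply LinearMap.ext
        intro x
        simp [mul_add]
      map_smul' := by
        intro c y
        apply LinearMap.ext
        intro x
        simp } with hΨ
  have hΨapp : ∀ y x, Ψ y x = τ' (x * y) := fun y x => rfl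
  have hinj : Function.Injective Ψ := by
    rw [← LinearMap.ker_eq_bot, LinearMap.ker_eq_bot']
    intro y hy
    by_contra hy0
    apply hτ'
    apply LinearMap.ext
    intro x
    have := LinearMap.congr_fun hy (x * y⁻¹)
    rw [hΨapp, mul_assoc, inv_mul_cancel₀ hy0, mul_one] at this
    rw [this]
    rfl
  have hsurj : Function.Surjective Ψ :=
    (LinearMap.injective_iff_surjective_of_finrank_eq_finrank
      (Subspace.dual_finrank_eq).symm).1 hinj
  obtain ⟨y, hy⟩ := hsurj τ
  exact ⟨y, fun x => by rw [← hΨapp, hy]⟩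

theorem twist_injective (τ' : k →ₗ[F] F) (hτ' : τ' ≠ 0) (y z : k)
    (h : ∀ x, τ' (x * y) = τ' (x * z)) : y = z := by
  by_contra hne
  apply hτ'
  apply LinearMap.ext
  intro x
  have h1 := h (x * (y - z)⁻¹)
  have h2 : τ' (x * (y - z)⁻¹ * y) - τ' (x * (y - z)⁻¹ * z) = τ' x := by
    rw [← map_sub, ← mul_sub, mul_assoc, inv_mul_cancel₀ (sub_ne_zero.2 hne), mul_one]
  rw [h1, sub_self] at h2
  rw [← h2]
  rfl

end functional

section fieldlemma
variable {F k : Type*} [Field F] [Field k] [Algebra F k] [Finite k]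

/-- the field lemma: two nonzero functionals with the same symmetry under an involution differ
by a norm -/
theorem exists_norm_twist (σ : k →ₐ[F] k) (hσ2 : ∀ x, σ (σ x) = x) (hσ1 : ∃ x, σ x ≠ x)
    (ε : F) (hε : ε * ε = 1) (τ τ' : k →ₗ[F] F) (hτ : τ ≠ 0) (hτ' : τ' ≠ 0)
    (hs : ∀ x, τ (σ x) = ε * τ x) (hs' : ∀ x, τ' (σ x) = ε * τ' x) :
    ∃ c : k, c ≠ 0 ∧ ∀ x, τ' (x * (c * σ c)) = τ x := by
  haveI : FiniteDimensional F k := Module.Finite.of_finite
  obtain ⟨y, hy⟩ := exists_twist τ' τ hτ'
  have hyσ : σ y = y := by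
    apply twist_injective τ' hτ'
    intro x
    have e1 : x * σ y = σ (σ x * y) := by rw [map_mul, hσ2]
    rw [e1, hs', hy, hs, ← mul_assoc, hε, one_mul, hy]
  have hy0 : y ≠ 0 := by
    intro h0
    apply hτ
    apply LinearMap.ext
    intro x
    rw [← hy, h0, mul_zero, map_zero]
    rfl
  obtain ⟨c, hc⟩ := norm_surjective (σ : k →+* k) hσ2 hσ1 y hyσ
  refine ⟨c, ?_, ?_⟩
  · intro h0
    rw [h0, zero_mul] at hc
    exact hy0 hc.symm
  · intro x
    have : c * σ c = y := hc
    rw [this, hy]

end fieldlemma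

end Cfsg.Agent.Helper13.Herm
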