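import Mathlib
import Cfsg.Agent.Lib.Helper13.FieldInvolution

set_option autoImplicit false

/-!
# Forms on vector spaces over a finite field with involution, valued in a subfield

Two nondegenerate forms of the same dimension which are sesquilinear with respect to the
involution and have the same symmetry are isometric.
-/

namespace Cfsg.Agent.Helper13.Herm

open Module

universe u

section
variable {F k : Type*} [Field F] [Field k] [Algebra F k]

/-- hypotheses on an `F`-valued form on a `k`-space -/
structure IsHermLike (σ : k →ₐ[F] k) (ε : F) {W : Type*} [AddCommGroup W] [Module F W]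
    [Module k W] (B : LinearMap.BilinForm F W) : Prop where
  adj : ∀ (x : k) (u v : W), B (x • u) v = B u (σ x • v)
  symm : ∀ u v, B v u = ε * B u v
  nondeg : ∀ u, (∀ v, B u v = 0) → u = 0

variable {W : Type*} [AddCommGroup W] [Module F W] [Module k W] [IsScalarTower F k W]

/-- the functional `x ↦ B (x v) v` -/
noncomputable def tau (B : LinearMap.BilinForm F W) (v : W) : k →ₗ[F] F where
  toFun x := B (x • v) v
  map_add' x y := by rw [add_smul, map_add, LinearMap.add_apply]
  map_smul' c x := by
    rw [smul_assoc, map_smul, LinearMap.smul_apply]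
    rfl

theorem tau_apply (B : LinearMap.BilinForm F W) (v : W) (x : k) : tau B v x = B (x • v) v := rfl

variable {σ : k →ₐ[F] k} {ε : F} {B : LinearMap.BilinForm F W}

theorem IsHermLike.adj' (hB : IsHermLike σ ε B) (hσ2 : ∀ x, σ (σ x) = x) (x : k) (u v : W) :
    B u (x • v) = B (σ x • u) v := by
  rw [hB.adj, hσ2]

theorem IsHermLike.apply_smul_smul (hB : IsHermLike σ ε B) (hσ2 : ∀ x, σ (σ x) = x) (x y : k)
    (v : W) : B (x • v) (y • v) = tau B v (σ y * x) := by
  rw [hB.adj' hσ2, smul_smul, tau_apply]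

theorem IsHermLike.tau_symm (hB : IsHermLike σ ε B) (hσ2 : ∀ x, σ (σ x) = x) (v : W) (x : k) :
    tau B v (σ x) = ε * tau B v x := by
  rw [tau_apply, tau_apply, hB.adj, hσ2, hB.symm]

theorem IsHermLike.tau_smul (hB : IsHermLike σ ε B) (hσ2 : ∀ x, σ (σ x) = x) (v : W) (c x : k) :
    tau B (c • v) x = tau B v (x * (c * σ c)) := by
  rw [tau_apply, tau_apply, smul_smul, hB.adj' hσ2, smul_smul]
  congr 2
  ring

theorem IsHermLike.nondeg_right (hB : IsHermLike σ ε B) (hε : ε * ε = 1) (v : W)
    (h : ∀ u, B u v = 0) : v = 0 := by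
  apply hB.nondeg
  intro u
  rw [hB.symm, h, mul_zero]

/-- existence of an anisotropic vector -/
theorem IsHermLike.exists_tau_ne_zero (hB : IsHermLike σ ε B) (hσ2 : ∀ x, σ (σ x) = x)
    (hσ1 : ∃ x, σ x ≠ x) (hε : ε = 1 ∨ ε = -1) [Nontrivial W] : ∃ v : W, (tau B v : k →ₗ[F] F) ≠ 0 := by
  by_contra hcon
  push Not at hcon
  have h0 : ∀ (v : W) (x : k), B (x • v) v = 0 := by
    intro v x
    have := LinearMap.congr_fun (hcon v) x
    exact this
  -- polarisation
  have h1 : ∀ (u v : W) (x : k), B (x • u) v + B (x • v) u = 0 := by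
    intro u v x
    have h := h0 (u + v) x
    rw [smul_add, map_add, map_add, LinearMap.add_apply, LinearMap.add_apply, h0 u x, h0 v x,
      zero_add, add_zero, add_comm] at h
    exact h
  have h2 : ∀ (u v : W) (x : k), B ((x + algebraMap F k ε * σ x) • u) v = 0 := by
    intro u v x
    have e1 : B (x • v) u = ε * B (σ x • u) v := by
      rw [hB.symm, hB.adj' hσ2]
    have := h1 u v x
    rw [e1] at this
    have e2 : (x + algebraMap F k ε * σ x) • u = x • u + ε • (σ x • u) := by
      rw [add_smul, mul_smul, algebraMap_smul]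
    have e3 : B (ε • (σ x • u)) v = ε * B (σ x • u) v := by
      rw [LinearMap.map_smul, LinearMap.smul_apply, smul_eq_mul]
    rw [e2, map_add, LinearMap.add_apply, e3]
    exact this
  -- an element with `x + ε σ x ≠ 0`
  obtain ⟨x, hx⟩ : ∃ x : k, x + algebraMap F k ε * σ x ≠ 0 := by
    obtain ⟨x₀, hx₀⟩ := hσ1
    by_cases h2k : (2 : k) = 0
    · refine ⟨x₀, ?_⟩
      have hneg : algebraMap F k ε = 1 := by
        rcases hε with h | h
        · rw [h, map_one]
        · rw [h, map_neg, map_one]
          have : (-1 : k) = 1 := by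
            rw [neg_eq_iff_add_eq_zero]
            rw [← h2k]
            norm_num
          exact this
      rw [hneg, one_mul]
      intro h
      apply hx₀
      have h3 : σ x₀ = -x₀ := by
        rw [add_comm] at h
        exact eq_neg_of_add_eq_zero_left h
      rw [h3]
      have : (-1 : k) = 1 := by
        rw [neg_eq_iff_add_eq_zero]
        rw [← h2k]
        norm_num
      rw [neg_eq_neg_one_mul, this, one_mul]
    · rcases hε with h | h
      · refine ⟨1, ?_⟩
        rw [h, map_one, map_one, one_mul]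
        intro h3
        apply h2k
        rw [← h3]
        norm_num
      · refine ⟨x₀, ?_⟩
        rw [h, map_neg, map_one, neg_one_mul, ← sub_eq_add_neg]
        exact sub_ne_zero.2 (Ne.symm hx₀)
  obtain ⟨w, hw⟩ := exists_ne (0 : W)
  apply hw
  apply hB.nondeg
  intro v
  have := h2 ((x + algebraMap F k ε * σ x)⁻¹ • w) v x
  rwa [smul_smul, mul_inv_cancel₀ hx, one_smul] at this

/-- the orthogonal complement of the line through `v` -/
def perp (hB : IsHermLike σ ε B) (hσ2 : ∀ x, σ (σ x) = x) (v : W) : Submodule k W where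
  carrier := {w | ∀ x : k, B (x • v) w = 0}
  add_mem' := by
    intro a b ha hb x
    rw [map_add, ha x, hb x, add_zero]
  zero_mem' := by
    intro x
    rw [map_zero]
  smul_mem' := by
    intro y w hw x
    rw [hB.adj' hσ2, smul_smul]
    exact hw _

theorem mem_perp (hB : IsHermLike σ ε B) (hσ2 : ∀ x, σ (σ x) = x) (v w : W) :
    w ∈ perp hB hσ2 v ↔ ∀ x : k, B (x • v) w = 0 := Iff.rfl

variable [FiniteDimensional F k]

theorem isCompl_perp (hB : IsHermLike σ ε B) (hσ2 : ∀ x, σ (σ x) = x) (v : W)
    (hv : (tau B v : k →ₗ[F] F) ≠ 0) : IsCompl (Submodule.span k {v}) (perp hB hσ2 v) := by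
  constructor
  · rw [Submodule.disjoint_def]
    intro w hw1 hw2
    obtain ⟨y, rfl⟩ := Submodule.mem_span_singleton.1 hw1
    by_contra hne
    have hy : y ≠ 0 := by
      intro h
      apply hne
      rw [h, zero_smul]
    apply hv
    apply LinearMap.ext
    intro z
    have := hw2 ((σ y)⁻¹ * z)
    rw [hB.apply_smul_smul hσ2, ← mul_assoc, mul_inv_cancel₀, one_mul] at this
    · rw [this]
      rfl
    · intro h
      apply hy
      have := congrArg σ h
      rwa [hσ2, map_zero] at this
  · rw [codisjoint_iff, eq_top_iff]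
    intro w _
    set lam : k →ₗ[F] F :=
      { toFun := fun x => B (x • v) w
        map_add' := by
          intro x y
          rw [add_smul, map_add, LinearMap.add_apply]
        map_smul' := by
          intro c x
          rw [smul_assoc, map_smul, LinearMap.smul_apply]
          rfl } with hlam
    obtain ⟨y₀, hy₀⟩ := exists_twist (tau B v) lam hv
    have h1 : w - σ y₀ • v ∈ perp hB hσ2 v := by
      intro x
      rw [map_sub, hB.apply_smul_smul hσ2, hσ2, mul_comm, hy₀]
      exact sub_self _
    have h2 : w = σ y₀ • v + (w - σ y₀ • v) := by abel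
    rw [h2]
    exact Submodule.add_mem _
      (Submodule.mem_sup_left (Submodule.smul_mem _ _ (Submodule.mem_span_singleton_self v)))
      (Submodule.mem_sup_right h1)

/-- the restriction of a form to a `k`-subspace -/
noncomputable def restr (B : LinearMap.BilinForm F W) (P : Submodule k W) :
    LinearMap.BilinForm F P :=
  B.compl₁₂ (P.subtype.restrictScalars F) (P.subtype.restrictScalars F)

theorem restr_apply (B : LinearMap.BilinForm F W) (P : Submodule k W) (u v : P) :
    restr B P u v = B (u : W) (v : W) := rfl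

theorem isHermLike_restr_perp (hB : IsHermLike σ ε B) (hσ2 : ∀ x, σ (σ x) = x) (hε : ε * ε = 1)
    (v : W) (hv : (tau B v : k →ₗ[F] F) ≠ 0) :
    IsHermLike σ ε (restr B (perp hB hσ2 v)) := by
  refine ⟨fun x u w => ?_, fun u w => ?_, fun u hu => ?_⟩
  · rw [restr_apply, restr_apply]
    exact hB.adj x u w
  · rw [restr_apply, restr_apply]
    exact hB.symm u w
  · apply Subtype.ext
    apply hB.nondeg
    intro z
    have hc := (isCompl_perp hB hσ2 v hv).sup_eq_top
    have hz : z ∈ Submodule.span k {v} ⊔ perp hB hσ2 v := by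
      rw [hc]
      exact Submodule.mem_top
    obtain ⟨l, hl, p, hp, rfl⟩ := Submodule.mem_sup.1 hz
    obtain ⟨y, rfl⟩ := Submodule.mem_span_singleton.1 hl
    rw [map_add]
    have h1 : B (u : W) (y • v) = 0 := by
      rw [hB.symm, u.2 y, mul_zero]
    have h2 : B (u : W) p = 0 := hu ⟨p, hp⟩
    rw [h1, h2, add_zero]

end

section main
variable {F k : Type*} [Field F] [Field k] [Algebra F k] [Finite k]

/-- two nondegenerate forms of the same kind on spaces of the same dimension are isometric -/
theorem exists_isometry (σ : k →ₐ[F] k) (hσ2 : ∀ x, σ (σ x) = x) (hσ1 : ∃ x, σ x ≠ x) (ε : F)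
    (hε : ε = 1 ∨ ε = -1) (r : ℕ) :
    ∀ (W W' : Type u) [AddCommGroup W] [Module F W] [Module k W] [IsScalarTower F k W]
      [FiniteDimensional k W] [AddCommGroup W'] [Module F W'] [Module k W'] [IsScalarTower F k W']
      [FiniteDimensional k W'] (B : LinearMap.BilinForm F W) (B' : LinearMap.BilinForm F W'),
      finrank k W = r → finrank k W' = r → IsHermLike σ ε B → IsHermLike σ ε B' →
      ∃ T : W ≃ₗ[k] W', ∀ u v, B' (T u) (T v) = B u v := by
  haveI : FiniteDimensional F k := Module.Finite.of_finite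
  have hε2 : ε * ε = 1 := by
    rcases hε with h | h <;> rw [h] <;> norm_num
  induction r with
  | zero =>
    intro W W' _ _ _ _ _ _ _ _ _ _ B B' hW hW' _ _
    haveI : Subsingleton W := Module.finrank_zero_iff.1 hW
    haveI : Subsingleton W' := Module.finrank_zero_iff.1 hW'
    refine ⟨LinearEquiv.ofSubsingleton W W', fun u v => ?_⟩
    rw [Subsingleton.elim u 0, Subsingleton.elim (LinearEquiv.ofSubsingleton W W' 0) 0]
    simp
  | succ r ih =>
    intro W W' _ _ _ _ _ _ _ _ _ _ B B' hW hW' hB hB'
    haveI : Nontrivial W := Module.nontrivial_of_finrank_pos (R := k) (by omega)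
    haveI : Nontrivial W' := Module.nontrivial_of_finrank_pos (R := k) (by omega)
    obtain ⟨v, hv⟩ := hB.exists_tau_ne_zero hσ2 hσ1 hε
    obtain ⟨v₀', hv₀'⟩ := hB'.exists_tau_ne_zero hσ2 hσ1 hε
    obtain ⟨c, hc0, hc⟩ := exists_norm_twist σ hσ2 hσ1 ε hε2 (tau B v) (tau B' v₀') hv hv₀'
      (hB.tau_symm hσ2 v) (hB'.tau_symm hσ2 v₀')
    set v' := c • v₀' with hv'def
    have htau : ∀ x : k, tau B' v' x = tau B v x := by
      intro x
      rw [hv'def, hB'.tau_smul hσ2, hc]
    have hv' : (tau B' v' : k →ₗ[F] F) ≠ 0 := by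
      intro h
      apply hv
      apply LinearMap.ext
      intro x
      rw [← htau, h]
    have hvne : v ≠ 0 := by
      intro h
      apply hv
      apply LinearMap.ext
      intro x
      rw [tau_apply, h, smul_zero, map_zero]
      rfl
    have hvne' : v' ≠ 0 := by
      intro h
      apply hv'
      apply LinearMap.ext
      intro x
      rw [tau_apply, h, smul_zero, map_zero]
      rfl
    set L := Submodule.span k {v} with hL
    set P := perp hB hσ2 v with hP
    set L' := Submodule.span k {v'} with hL'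
    set P' := perp hB' hσ2 v' with hP'
    have hLP : IsCompl L P := isCompl_perp hB hσ2 v hv
    have hLP' : IsCompl L' P' := isCompl_perp hB' hσ2 v' hv'
    have hfL : finrank k L = 1 := finrank_span_singleton hvne
    have hfL' : finrank k L' = 1 := finrank_span_singleton hvne'
    have hfP : finrank k P = r := by
      have := Submodule.finrank_add_eq_of_isCompl hLP
      omega
    have hfP' : finrank k P' = r := by
      have := Submodule.finrank_add_eq_of_isCompl hLP'
      omega
    obtain ⟨T₁, hT₁⟩ := ih P P' (restr B P) (restr B' P') hfP hfP'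
      (isHermLike_restr_perp hB hσ2 hε2 v hv) (isHermLike_restr_perp hB' hσ2 hε2 v' hv')
    set TL : L ≃ₗ[k] L' := (LinearEquiv.toSpanNonzeroSingleton k W v hvne).symm ≪≫ₗ
      LinearEquiv.toSpanNonzeroSingleton k W' v' hvne' with hTL
    have hTLapp : ∀ (x : k) (h : x • v ∈ L), ((TL ⟨x • v, h⟩ : L') : W') = x • v' := by
      intro x h
      have h1 : (LinearEquiv.toSpanNonzeroSingleton k W v hvne).symm ⟨x • v, h⟩ = x := by
        rw [LinearEquiv.symm_apply_eq]
        rfl
      show ((LinearEquiv.toSpanNonzeroSingleton k W' v' hvne'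
        ((LinearEquiv.toSpanNonzeroSingleton k W v hvne).symm ⟨x • v, h⟩) : L') : W') = x • v'
      rw [h1]
      rfl
    let E := Submodule.prodEquivOfIsCompl L P hLP
    let E' := Submodule.prodEquivOfIsCompl L' P' hLP'
    let T : W ≃ₗ[k] W' := E.symm ≪≫ₗ (TL.prodCongr T₁) ≪≫ₗ E'
    have hT : ∀ (a : L) (b : P), T ((a : W) + (b : W)) = (TL a : W') + (T₁ b : W') := by
      intro a b
      have h1 : E.symm ((a : W) + (b : W)) = (a, b) := by
        rw [LinearEquiv.symm_apply_eq]
        exact (Submodule.coe_prodEquivOfIsCompl' _ _ hLP (a, b)).symm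
      show E' ((TL.prodCongr T₁) (E.symm ((a : W) + (b : W)))) = _
      rw [h1]
      exact Submodule.coe_prodEquivOfIsCompl' _ _ hLP' (TL a, T₁ b)
    refine ⟨T, fun u w => ?_⟩
    obtain ⟨⟨a, b⟩, rfl⟩ := E.surjective u
    obtain ⟨⟨a₂, b₂⟩, rfl⟩ := E.surjective w
    have e1 : E (a, b) = (a : W) + (b : W) := Submodule.coe_prodEquivOfIsCompl' _ _ hLP (a, b)
    have e2 : E (a₂, b₂) = (a₂ : W) + (b₂ : W) :=
      Submodule.coe_prodEquivOfIsCompl' _ _ hLP (a₂, b₂)
    rw [e1, e2, hT, hT]
    obtain ⟨x, hx⟩ := Submodule.mem_span_singleton.1 a.2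
    obtain ⟨y, hy⟩ := Submodule.mem_span_singleton.1 a₂.2
    have ha : a = ⟨x • v, hx ▸ a.2⟩ := Subtype.ext hx.symm
    have ha₂ : a₂ = ⟨y • v, hy ▸ a₂.2⟩ := Subtype.ext hy.symm
    have hTa : (TL a : W') = x • v' := by rw [ha]; exact hTLapp x _
    have hTa₂ : (TL a₂ : W') = y • v' := by rw [ha₂]; exact hTLapp y _
    rw [hTa, hTa₂, ← hx, ← hy]
    simp only [map_add, LinearMap.add_apply]
    have c1 : B' (x • v') (y • v') = B (x • v) (y • v) := by
      rw [hB'.apply_smul_smul hσ2, hB.apply_smul_smul hσ2, htau]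
    have c2 : B' (x • v') (T₁ b₂ : W') = 0 := (T₁ b₂).2 x
    have c3 : B (x • v) (b₂ : W) = 0 := b₂.2 x
    have c4 : B' (T₁ b : W') (y • v') = 0 := by rw [hB'.symm, (T₁ b).2 y, mul_zero]
    have c5 : B (b : W) (y • v) = 0 := by rw [hB.symm, b.2 y, mul_zero]
    have c6 : B' (T₁ b : W') (T₁ b₂ : W') = B (b : W) (b₂ : W) := hT₁ b b₂
    rw [c1, c2, c3, c4, c5, c6]

end main

end Cfsg.Agent.Helper13.Herm
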