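import Mathlib

set_option autoImplicit false

/-!
# The dual of an irreducible factor of `X ^ m - 1`

For `f` irreducible dividing `X ^ m - 1`, the root `s` of `f` in `AdjoinRoot f` is invertible with
inverse `s ^ (m - 1)`; the dual polynomial is the minimal polynomial of this inverse.
-/

namespace Cfsg.Agent.Helper13.Dual

open Polynomial

section
variable {F : Type*} [Field F]

/-- the dual polynomial -/
noncomputable def dualPoly (m : ℕ) (f : F[X]) : F[X] :=
  minpoly F ((AdjoinRoot.root f) ^ (m - 1))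

variable {m : ℕ} {f : F[X]}

theorem root_pow_eq_one (hfm : f ∣ X ^ m - 1) : (AdjoinRoot.root f) ^ m = 1 := by
  have h1 : AdjoinRoot.mk f (X ^ m - 1) = 0 := AdjoinRoot.mk_eq_zero.2 hfm
  rw [map_sub, map_pow, AdjoinRoot.mk_X, map_one, sub_eq_zero] at h1
  exact h1

theorem root_mul_inv (hm : 1 ≤ m) (hfm : f ∣ X ^ m - 1) :
    AdjoinRoot.root f * (AdjoinRoot.root f) ^ (m - 1) = 1 := by
  rw [← pow_succ', Nat.sub_add_cancel hm, root_pow_eq_one hfm]

theorem inv_pow_eq_root (hm : 1 ≤ m) (hfm : f ∣ X ^ m - 1) :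
    ((AdjoinRoot.root f) ^ (m - 1)) ^ (m - 1) = AdjoinRoot.root f := by
  set s := AdjoinRoot.root f with hs
  set t := s ^ (m - 1) with ht
  have h1 : s * t = 1 := root_mul_inv hm hfm
  have h2 : t ^ (m - 1) * t = 1 := by
    rw [← pow_succ, Nat.sub_add_cancel hm, ht, ← pow_mul, mul_comm, pow_mul,
      root_pow_eq_one hfm, one_pow]
  calc t ^ (m - 1) = t ^ (m - 1) * (t * s) := by rw [mul_comm t s, h1, mul_one]
    _ = (t ^ (m - 1) * t) * s := by rw [mul_assoc]
    _ = s := by rw [h2, one_mul]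

theorem aeval_inv_dualPoly (m : ℕ) (f : F[X]) [Fact (Irreducible f)] :
    aeval ((AdjoinRoot.root f) ^ (m - 1)) (dualPoly m f) = 0 :=
  minpoly.aeval F _

theorem isIntegral_adjoinRoot (hf : Irreducible f) (x : AdjoinRoot f) : IsIntegral F x := by
  haveI : Fact (Irreducible f) := ⟨hf⟩
  haveI : FiniteDimensional F (AdjoinRoot f) := (AdjoinRoot.powerBasis hf.ne_zero).finite
  exact IsIntegral.of_finite F x

theorem dualPoly_monic (hf : Irreducible f) : (dualPoly m f).Monic :=
  minpoly.monic (isIntegral_adjoinRoot hf _)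

theorem dualPoly_irreducible (hf : Irreducible f) : Irreducible (dualPoly m f) := by
  haveI : Fact (Irreducible f) := ⟨hf⟩
  exact minpoly.irreducible (isIntegral_adjoinRoot hf _)

theorem dualPoly_dvd (hf : Irreducible f) (hfm : f ∣ X ^ m - 1) : dualPoly m f ∣ X ^ m - 1 := by
  haveI : Fact (Irreducible f) := ⟨hf⟩
  apply minpoly.dvd
  rw [map_sub, map_pow, aeval_X, map_one, ← pow_mul, mul_comm, pow_mul, root_pow_eq_one hfm,
    one_pow, sub_self]

/-- the key divisibility: `h(s⁻¹) = 0` iff the dual polynomial divides `h` -/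
theorem dvd_comp_iff (hf : Irreducible f) (h : F[X]) :
    f ∣ h.comp (X ^ (m - 1)) ↔ dualPoly m f ∣ h := by
  haveI : Fact (Irreducible f) := ⟨hf⟩
  rw [← AdjoinRoot.mk_eq_zero, ← AdjoinRoot.aeval_eq, aeval_comp, map_pow, aeval_X]
  exact (minpoly.dvd_iff (A := F)).symm

theorem dvd_dualPoly_comp (hf : Irreducible f) : f ∣ (dualPoly m f).comp (X ^ (m - 1)) :=
  (dvd_comp_iff hf _).2 dvd_rfl

/-- the dual of the dual -/
theorem dualPoly_dualPoly (hm : 1 ≤ m) (hf : Irreducible f) (hmon : f.Monic)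
    (hfm : f ∣ X ^ m - 1) : dualPoly m (dualPoly m f) = f := by
  haveI : Fact (Irreducible f) := ⟨hf⟩
  set g := dualPoly m f with hg
  have hgirr : Irreducible g := dualPoly_irreducible hf
  haveI : Fact (Irreducible g) := ⟨hgirr⟩
  have hgm : g ∣ X ^ m - 1 := dualPoly_dvd hf hfm
  -- the embedding of `AdjoinRoot g` into `AdjoinRoot f`
  set θ : AdjoinRoot g →ₐ[F] AdjoinRoot f :=
    AdjoinRoot.liftAlgHom g (Algebra.ofId F (AdjoinRoot f)) ((AdjoinRoot.root f) ^ (m - 1))
      (aeval_inv_dualPoly m f) with hθ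
  have hθroot : θ (AdjoinRoot.root g) = (AdjoinRoot.root f) ^ (m - 1) :=
    AdjoinRoot.liftAlgHom_root _ _ _ _
  have hθinj : Function.Injective θ := (θ : AdjoinRoot g →+* AdjoinRoot f).injective
  have h1 : aeval ((AdjoinRoot.root g) ^ (m - 1)) f = 0 := by
    apply hθinj
    rw [map_zero, ← aeval_algHom_apply, map_pow, hθroot, inv_pow_eq_root hm hfm,
      AdjoinRoot.aeval_eq, AdjoinRoot.mk_self]
  have h2 : dualPoly m g ∣ f := minpoly.dvd F _ h1
  exact Polynomial.eq_of_monic_of_associated (dualPoly_monic hgirr) hmon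
    ((dualPoly_irreducible hgirr).associated_of_dvd hf h2)

end

end Cfsg.Agent.Helper13.Dual
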