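import Mathlib
import Cfsg.Agent.Lib.Helper13.DualPoly
import Cfsg.Agent.Lib.Helper13.SqfreeFactors

set_option autoImplicit false

/-!
# Splitting `X ^ M - 1` into a self-dual block and the rest
-/

namespace Cfsg.Agent.Helper13.Dual

open Polynomial Cfsg.Agent.Helper13.SS
open scoped Classical

section
variable {F : Type*} [Field F] {M : ℕ} {f : F[X]}

theorem X_pow_sub_one_monic (hM : 1 ≤ M) : (X ^ M - 1 : F[X]).Monic := by
  have := monic_X_pow_sub_C (1 : F) (n := M) (by omega)
  rwa [map_one] at this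

theorem X_pow_sub_one_squarefree (hMF : (M : F) ≠ 0) : Squarefree (X ^ M - 1 : F[X]) := by
  have := (separable_X_pow_sub_C (1 : F) hMF one_ne_zero).squarefree
  rwa [map_one] at this

theorem dualPoly_mem (hM : 1 ≤ M) (hf : f ∈ irrFactors (X ^ M - 1 : F[X])) :
    dualPoly M f ∈ irrFactors (X ^ M - 1 : F[X]) :=
  mem_irrFactors_of_dvd (X_pow_sub_one_monic hM).ne_zero
    (dualPoly_irreducible (irrFactors_irreducible hf))
    (dualPoly_monic (irrFactors_irreducible hf))
    (dualPoly_dvd (irrFactors_irreducible hf) (irrFactors_dvd hf))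

/-- the block polynomial -/
noncomputable def blockPoly (M : ℕ) (f : F[X]) : F[X] :=
  if dualPoly M f = f then f else f * dualPoly M f

/-- the remaining irreducible factors -/
noncomputable def restSet (M : ℕ) (f : F[X]) : Finset F[X] :=
  ((irrFactors (X ^ M - 1 : F[X])).erase f).erase (dualPoly M f)

/-- the product of the remaining factors -/
noncomputable def restPoly (M : ℕ) (f : F[X]) : F[X] := ∏ g ∈ restSet M f, g

theorem blockPoly_mul_restPoly (hM : 1 ≤ M) (hMF : (M : F) ≠ 0)
    (hf : f ∈ irrFactors (X ^ M - 1 : F[X])) :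
    blockPoly M f * restPoly M f = X ^ M - 1 := by
  conv_rhs => rw [← irrFactors_prod (X_pow_sub_one_monic hM) (X_pow_sub_one_squarefree hMF)]
  unfold blockPoly restPoly restSet
  split_ifs with h
  · rw [h, Finset.erase_idem]
    exact Finset.mul_prod_erase _ (fun x => x) hf
  · have h2 : dualPoly M f ∈ (irrFactors (X ^ M - 1 : F[X])).erase f :=
      Finset.mem_erase.2 ⟨h, dualPoly_mem hM hf⟩
    rw [mul_assoc, Finset.mul_prod_erase _ (fun x => x) h2]
    exact Finset.mul_prod_erase _ (fun x => x) hf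

theorem not_dvd_restPoly (hM : 1 ≤ M) (hf : f ∈ irrFactors (X ^ M - 1 : F[X])) {g : F[X]}
    (hg : g = f ∨ g = dualPoly M f) : ¬ g ∣ restPoly M f := by
  have hgS : g ∈ irrFactors (X ^ M - 1 : F[X]) := by
    rcases hg with rfl | rfl
    · exact hf
    · exact dualPoly_mem hM hf
  intro hdvd
  obtain ⟨h, hh, hgh⟩ := (irrFactors_irreducible hgS).prime.exists_mem_finset_dvd hdvd
  have hh' : h ∈ irrFactors (X ^ M - 1 : F[X]) :=
    Finset.mem_of_mem_erase (Finset.mem_of_mem_erase hh)
  have heq : g = h := Polynomial.eq_of_monic_of_associated (irrFactors_monic hgS)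
    (irrFactors_monic hh')
    ((irrFactors_irreducible hgS).associated_of_dvd (irrFactors_irreducible hh') hgh)
  rw [← heq] at hh
  unfold restSet at hh
  rcases hg with rfl | rfl
  · exact (Finset.mem_erase.1 (Finset.mem_of_mem_erase hh)).1 rfl
  · exact (Finset.mem_erase.1 hh).1 rfl

theorem coprime_blockPoly_of_not_dvd (hf : Irreducible f) {h : F[X]} (h1 : ¬ f ∣ h)
    (h2 : ¬ dualPoly M f ∣ h) : IsCoprime (blockPoly M f) h := by
  unfold blockPoly
  split_ifs
  · exact hf.coprime_iff_not_dvd.2 h1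
  · exact IsCoprime.mul_left (hf.coprime_iff_not_dvd.2 h1)
      ((dualPoly_irreducible hf).coprime_iff_not_dvd.2 h2)

theorem coprime_block_rest (hM : 1 ≤ M) (hf : f ∈ irrFactors (X ^ M - 1 : F[X])) :
    IsCoprime (blockPoly M f) (restPoly M f) :=
  coprime_blockPoly_of_not_dvd (irrFactors_irreducible hf) (not_dvd_restPoly hM hf (Or.inl rfl))
    (not_dvd_restPoly hM hf (Or.inr rfl))

theorem coprime_block_rest_comp (hM : 1 ≤ M) (hf : f ∈ irrFactors (X ^ M - 1 : F[X])) :
    IsCoprime (blockPoly M f) ((restPoly M f).comp (X ^ (M - 1))) := by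
  have hfirr := irrFactors_irreducible hf
  apply coprime_blockPoly_of_not_dvd hfirr
  · rw [dvd_comp_iff hfirr]
    exact not_dvd_restPoly hM hf (Or.inr rfl)
  · rw [dvd_comp_iff (dualPoly_irreducible hfirr),
      dualPoly_dualPoly hM hfirr (irrFactors_monic hf) (irrFactors_dvd hf)]
    exact not_dvd_restPoly hM hf (Or.inl rfl)

theorem ker_le_ker_blockPoly : f ∣ blockPoly M f := by
  unfold blockPoly
  split_ifs
  · exact dvd_rfl
  · exact dvd_mul_right _ _

/-- when `f` is not self-dual it is coprime to its twisted self -/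
theorem coprime_self_comp (hM : 1 ≤ M) (hf : f ∈ irrFactors (X ^ M - 1 : F[X]))
    (hne : dualPoly M f ≠ f) : IsCoprime f (f.comp (X ^ (M - 1))) := by
  have hfirr := irrFactors_irreducible hf
  rw [hfirr.coprime_iff_not_dvd, dvd_comp_iff hfirr]
  intro hd
  exact hne (Polynomial.eq_of_monic_of_associated (dualPoly_monic hfirr) (irrFactors_monic hf)
    ((dualPoly_irreducible hfirr).associated_of_dvd hfirr hd))

theorem coprime_dual_comp (hM : 1 ≤ M) (hf : f ∈ irrFactors (X ^ M - 1 : F[X]))
    (hne : dualPoly M f ≠ f) :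
    IsCoprime (dualPoly M f) ((dualPoly M f).comp (X ^ (M - 1))) := by
  have hfirr := irrFactors_irreducible hf
  have hdirr := dualPoly_irreducible (m := M) hfirr
  rw [hdirr.coprime_iff_not_dvd, dvd_comp_iff hdirr,
    dualPoly_dualPoly hM hfirr (irrFactors_monic hf) (irrFactors_dvd hf)]
  intro hd
  exact hne (Polynomial.eq_of_monic_of_associated (dualPoly_monic hfirr) (irrFactors_monic hf)
    (hfirr.associated_of_dvd hdirr hd).symm)

theorem coprime_self_dual (hM : 1 ≤ M) (hf : f ∈ irrFactors (X ^ M - 1 : F[X]))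
    (hne : dualPoly M f ≠ f) : IsCoprime f (dualPoly M f) :=
  coprime_of_monic_irreducible' (irrFactors_irreducible hf)
    (dualPoly_irreducible (irrFactors_irreducible hf)) (irrFactors_monic hf)
    (dualPoly_monic (irrFactors_irreducible hf)) (Ne.symm hne)

end

end Cfsg.Agent.Helper13.Dual
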