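import Mathlib
import Cfsg.Agent.Lib.Helper13.DualPoly
import Cfsg.Agent.Lib.Helper13.SqfreeFactors
import Cfsg.Agent.Lib.Helper13.SemisimpleClass

set_option autoImplicit false

/-!
# Bilinear forms invariant under an endomorphism of finite order
-/

namespace Cfsg.Agent.Helper13.Dual

open Polynomial Module Cfsg.Agent.Helper13.SS

section monoid

theorem pow_pred_pow_pred {M : Type*} [Monoid M] (a : M) {m : ℕ} (hm : 1 ≤ m) (ha : a ^ m = 1) :
    (a ^ (m - 1)) ^ (m - 1) = a := by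
  set t := a ^ (m - 1) with ht
  have h1 : a * t = 1 := by rw [ht, ← pow_succ', Nat.sub_add_cancel hm, ha]
  have h1' : t * a = 1 := by rw [ht, ← pow_succ, Nat.sub_add_cancel hm, ha]
  have h2 : t ^ (m - 1) * t = 1 := by
    rw [← pow_succ, Nat.sub_add_cancel hm, ht, ← pow_mul, mul_comm, pow_mul, ha, one_pow]
  calc t ^ (m - 1) = t ^ (m - 1) * (t * a) := by rw [h1', mul_one]
    _ = (t ^ (m - 1) * t) * a := by rw [mul_assoc]
    _ = a := by rw [h2, one_mul]

end monoid

section adjoint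
variable {F : Type*} [Field F] {V : Type*} [AddCommGroup V] [Module F V]
variable {A : Module.End F V} {m : ℕ} {B : LinearMap.BilinForm F V}

theorem adjoint_apply (hm : 1 ≤ m) (hA : A ^ m = 1) (hinv : ∀ u v, B (A u) (A v) = B u v)
    (u v : V) : B (A u) v = B u ((A ^ (m - 1)) v) := by
  have h1 : A ((A ^ (m - 1)) v) = v := by
    rw [← Module.End.mul_apply, ← pow_succ', Nat.sub_add_cancel hm, hA, Module.End.one_apply]
  conv_lhs => rw [← h1]
  exact hinv u _

theorem adjoint_pow (hm : 1 ≤ m) (hA : A ^ m = 1) (hinv : ∀ u v, B (A u) (A v) = B u v)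
    (n : ℕ) (u v : V) : B ((A ^ n) u) v = B u (((A ^ (m - 1)) ^ n) v) := by
  induction n generalizing u v with
  | zero => simp
  | succ n ih =>
    rw [pow_succ', Module.End.mul_apply, adjoint_apply hm hA hinv, ih, pow_succ,
      Module.End.mul_apply]

theorem adjoint_aeval (hm : 1 ≤ m) (hA : A ^ m = 1) (hinv : ∀ u v, B (A u) (A v) = B u v)
    (P : F[X]) (u v : V) : B (aeval A P u) v = B u (aeval (A ^ (m - 1)) P v) := by
  induction P using Polynomial.induction_on' with
  | add p q hp hq =>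
    rw [map_add, map_add, LinearMap.add_apply, LinearMap.add_apply, map_add, map_add,
      LinearMap.add_apply, hp, hq]
  | monomial n a =>
    rw [aeval_monomial, aeval_monomial, Algebra.algebraMap_eq_smul_one,
      smul_mul_assoc, smul_mul_assoc, one_mul, one_mul, LinearMap.smul_apply, LinearMap.smul_apply,
      map_smul, LinearMap.smul_apply, map_smul, adjoint_pow hm hA hinv]

/-- orthogonality of kernels of coprime polynomials -/
theorem orth_of_coprime (hm : 1 ≤ m) (hA : A ^ m = 1) (hinv : ∀ u v, B (A u) (A v) = B u v)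
    (P Q : F[X]) (hcop : IsCoprime P (Q.comp (X ^ (m - 1)))) (u v : V) (hu : aeval A P u = 0)
    (hv : aeval A Q v = 0) : B u v = 0 := by
  obtain ⟨a, b, hab⟩ := hcop
  set A' := A ^ (m - 1) with hA'
  have hA'' : A' ^ (m - 1) = A := pow_pred_pow_pred A hm hA
  have h1 : aeval A' (Q.comp (X ^ (m - 1))) v = 0 := by
    rw [aeval_comp, map_pow, aeval_X, hA'', hv]
  have h2 : v = aeval A' P (aeval A' a v) := by
    have h3 := congrArg (fun R => aeval A' R v) hab
    simp only [map_add, map_mul, map_one, LinearMap.add_apply, Module.End.mul_apply,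
      Module.End.one_apply] at h3
    rw [h1, map_zero, add_zero] at h3
    rw [← Module.End.mul_apply, ← map_mul, mul_comm, map_mul, Module.End.mul_apply]
    exact h3.symm
  rw [h2, ← adjoint_aeval hm hA hinv, hu, map_zero, LinearMap.zero_apply]

end adjoint

section glue
variable {F : Type*} [Field F] {V : Type*} [AddCommGroup V] [Module F V]

/-- restriction of a nondegenerate form to an orthogonal summand -/
theorem nondeg_restrict_of_orth (B : LinearMap.BilinForm F V) {W U : Submodule F V}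
    (hWU : IsCompl W U) (horth : ∀ w ∈ W, ∀ u ∈ U, B w u = 0)
    (hnd : ∀ u, (∀ v, B u v = 0) → u = 0) (w : W) (hw : ∀ w' : W, B (w : V) (w' : V) = 0) :
    w = 0 := by
  apply Subtype.ext
  apply hnd
  intro z
  have hz : z ∈ W ⊔ U := by
    rw [hWU.sup_eq_top]
    exact Submodule.mem_top
  obtain ⟨w', hw', u, hu, rfl⟩ := Submodule.mem_sup.1 hz
  rw [map_add, hw ⟨w', hw'⟩, horth w w.2 u hu, add_zero]

/-- glueing isometries along an orthogonal decomposition -/
theorem glue_isometry (A : Module.End F V) (B B' : LinearMap.BilinForm F V) {W U : Submodule F V}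
    (hWU : IsCompl W U) (hW : ∀ v ∈ W, A v ∈ W) (hU : ∀ v ∈ U, A v ∈ U)
    (horth : ∀ w ∈ W, ∀ u ∈ U, B w u = 0) (horth' : ∀ w ∈ W, ∀ u ∈ U, B' w u = 0)
    (horth2 : ∀ w ∈ W, ∀ u ∈ U, B u w = 0) (horth2' : ∀ w ∈ W, ∀ u ∈ U, B' u w = 0)
    (ZW : W ≃ₗ[F] W) (ZU : U ≃ₗ[F] U)
    (hZW : ∀ w : W, ZW (A.restrict hW w) = A.restrict hW (ZW w))
    (hZU : ∀ u : U, ZU (A.restrict hU u) = A.restrict hU (ZU u))
    (hBW : ∀ w w' : W, B (ZW w : V) (ZW w' : V) = B' (w : V) (w' : V))
    (hBU : ∀ u u' : U, B (ZU u : V) (ZU u' : V) = B' (u : V) (u' : V)) :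
    ∃ Z : V ≃ₗ[F] V, (∀ v, Z (A v) = A (Z v)) ∧ ∀ u v, B (Z u) (Z v) = B' u v := by
  let E := Submodule.prodEquivOfIsCompl W U hWU
  let Z : V ≃ₗ[F] V := E.symm ≪≫ₗ (ZW.prodCongr ZU) ≪≫ₗ E
  have hZ : ∀ (a : W) (b : U), Z ((a : V) + (b : V)) = (ZW a : V) + (ZU b : V) := by
    intro a b
    have h1 : E.symm ((a : V) + (b : V)) = (a, b) := by
      rw [LinearEquiv.symm_apply_eq]
      exact (Submodule.coe_prodEquivOfIsCompl' _ _ hWU (a, b)).symm
    show E ((ZW.prodCongr ZU) (E.symm ((a : V) + (b : V)))) = _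
    rw [h1]
    exact Submodule.coe_prodEquivOfIsCompl' _ _ hWU (ZW a, ZU b)
  refine ⟨Z, fun x => ?_, fun x y => ?_⟩
  · obtain ⟨⟨a, b⟩, rfl⟩ := E.surjective x
    have e1 : E (a, b) = (a : V) + (b : V) := Submodule.coe_prodEquivOfIsCompl' _ _ hWU (a, b)
    rw [e1, map_add, hZ]
    have h3 : A (a : V) = ((A.restrict hW a : W) : V) := rfl
    have h4 : A (b : V) = ((A.restrict hU b : U) : V) := rfl
    rw [h3, h4, hZ, hZW, hZU, map_add]
    rfl
  · obtain ⟨⟨a, b⟩, rfl⟩ := E.surjective x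
    obtain ⟨⟨a₂, b₂⟩, rfl⟩ := E.surjective y
    have e1 : E (a, b) = (a : V) + (b : V) := Submodule.coe_prodEquivOfIsCompl' _ _ hWU (a, b)
    have e2 : E (a₂, b₂) = (a₂ : V) + (b₂ : V) :=
      Submodule.coe_prodEquivOfIsCompl' _ _ hWU (a₂, b₂)
    rw [e1, e2, hZ, hZ]
    simp only [map_add, LinearMap.add_apply]
    rw [horth _ (ZW a).2 _ (ZU b₂).2, horth2 _ (ZW a₂).2 _ (ZU b).2, hBW, hBU,
      horth' _ a.2 _ b₂.2, horth2' _ a₂.2 _ b.2]

end glue

end Cfsg.Agent.Helper13.Dual
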