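import Mathlib
import Cfsg.Agent.Lib.Helper13.BlockPoly
import Cfsg.Agent.Lib.Helper13.InvariantForm
import Cfsg.Agent.Lib.Helper13.HermitianBlock
import Cfsg.Agent.Lib.Helper28.SympIso
import Cfsg.Agent.Lib.Helper11.AltForm

set_option autoImplicit false

namespace Cfsg.Agent.Helper13.SympSS

open Polynomial Module Cfsg.Agent.Helper13.SS Cfsg.Agent.Helper13.Dual
open scoped Classical

universe u

section basic
variable {F : Type*} [Field F] {V : Type*} [AddCommGroup V] [Module F V]

/-- a nondegenerate alternating form invariant under `A` -/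
structure AltInv (A : Module.End F V) (B : LinearMap.BilinForm F V) : Prop where
  alt : ∀ u, B u u = 0
  nondeg : ∀ u, (∀ v, B u v = 0) → u = 0
  inv : ∀ u v, B (A u) (A v) = B u v

variable {A : Module.End F V} {B : LinearMap.BilinForm F V}

theorem AltInv.skew (h : AltInv A B) (u v : V) : B u v = - B v u := by
  have h1 : LinearMap.IsAlt B := h.alt
  exact (LinearMap.IsAlt.neg h1 v u).symm

theorem AltInv.nondeg_right (h : AltInv A B) (v : V) (hv : ∀ u, B u v = 0) : v = 0 := by
  apply h.nondeg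
  intro u
  rw [h.skew, hv, neg_zero]

theorem AltInv.adj_right (h : AltInv A B) {M : ℕ} (hM : 1 ≤ M) (hAM : A ^ M = 1) (u v : V) :
    B u (A v) = B ((A ^ (M - 1)) u) v := by
  have h1 : A ((A ^ (M - 1)) u) = u := by
    rw [← Module.End.mul_apply, ← pow_succ', Nat.sub_add_cancel hM, hAM, Module.End.one_apply]
  rw [← h.inv ((A ^ (M - 1)) u) v, h1]

theorem pow_mem_of_invariant (A : Module.End F V) {W : Submodule F V} (hW : ∀ v ∈ W, A v ∈ W)
    (n : ℕ) : ∀ v ∈ W, (A ^ n) v ∈ W := by
  induction n with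
  | zero => intro v hv; simpa using hv
  | succ n ih =>
    intro v hv
    rw [pow_succ', Module.End.mul_apply]
    exact hW _ (ih v hv)

/-- restriction of a form to a submodule -/
noncomputable def resForm (B : LinearMap.BilinForm F V) (W : Submodule F V) :
    LinearMap.BilinForm F W := B.domRestrict₁₂ W W

theorem resForm_apply (B : LinearMap.BilinForm F V) (W : Submodule F V) (u v : W) :
    resForm B W u v = B (u : V) (v : V) := rfl

theorem AltInv.restrict (h : AltInv A B) {W U : Submodule F V} (hWU : IsCompl W U)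
    (hW : ∀ v ∈ W, A v ∈ W) (horth : ∀ w ∈ W, ∀ u ∈ U, B w u = 0) :
    AltInv (A.restrict hW) (resForm B W) where
  alt u := h.alt u
  nondeg w hw := nondeg_restrict_of_orth B hWU horth h.nondeg w hw
  inv u v := h.inv u v

/-- glueing equivalences along a decomposition -/
theorem glue_equiv (A : Module.End F V) {W U : Submodule F V}
    (hWU : IsCompl W U) (hW : ∀ v ∈ W, A v ∈ W) (hU : ∀ v ∈ U, A v ∈ U)
    (ZW : W ≃ₗ[F] W) (ZU : U ≃ₗ[F] U)
    (hZW : ∀ w : W, ZW (A.restrict hW w) = A.restrict hW (ZW w))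
    (hZU : ∀ u : U, ZU (A.restrict hU u) = A.restrict hU (ZU u)) :
    ∃ Z : V ≃ₗ[F] V, (∀ v, Z (A v) = A (Z v)) ∧
      ∀ (a : W) (b : U), Z ((a : V) + (b : V)) = (ZW a : V) + (ZU b : V) := by
  let E := Submodule.prodEquivOfIsCompl W U hWU
  let Z : V ≃ₗ[F] V := E.symm ≪≫ₗ (ZW.prodCongr ZU) ≪≫ₗ E
  have hZ : ∀ (a : W) (b : U), Z ((a : V) + (b : V)) = (ZW a : V) + (ZU b : V) := by
    intro a b
    have h1 : E.symm ((a : V) + (b : V)) = (a, b) := by
      rw [LinearEquiv.symm_apply_eq]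
      exact (Submodule.coe_prodEquivOfIsCompl' _ _ hWU (a, b)).symm
    show E ((ZW.prodCongr ZU) (E.symm ((a : V) + (b : V)))) = _
    rw [h1]
    exact Submodule.coe_prodEquivOfIsCompl' _ _ hWU (ZW a, ZU b)
  refine ⟨Z, fun x => ?_, hZ⟩
  obtain ⟨⟨a, b⟩, rfl⟩ := E.surjective x
  have e1 : E (a, b) = (a : V) + (b : V) := Submodule.coe_prodEquivOfIsCompl' _ _ hWU (a, b)
  rw [e1, map_add, hZ]
  have h3 : A (a : V) = ((A.restrict hW a : W) : V) := rfl
  have h4 : A (b : V) = ((A.restrict hU b : U) : V) := rfl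
  rw [h3, h4, hZ, hZW, hZU, map_add]
  rfl

theorem exists_decomp {W U : Submodule F V} (hWU : IsCompl W U) (z : V) :
    ∃ (a : W) (b : U), z = (a : V) + (b : V) := by
  have hz : z ∈ W ⊔ U := by
    rw [hWU.sup_eq_top]
    exact Submodule.mem_top
  obtain ⟨w, hw, u, hu, rfl⟩ := Submodule.mem_sup.1 hz
  exact ⟨⟨w, hw⟩, ⟨u, hu⟩, rfl⟩

/-- the block consisting of two isotropic invariant subspaces in duality -/
theorem pair_block [FiniteDimensional F V] (A : Module.End F V) {M : ℕ} (hM : 1 ≤ M)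
    (hAM : A ^ M = 1) (B B' : LinearMap.BilinForm F V) (hB : AltInv A B) (hB' : AltInv A B')
    {W₁ W₂ : Submodule F V} (hc : IsCompl W₁ W₂)
    (hA1 : ∀ v ∈ W₁, A v ∈ W₁) (hA2 : ∀ v ∈ W₂, A v ∈ W₂)
    (h1 : ∀ u ∈ W₁, ∀ v ∈ W₁, B u v = 0) (h1' : ∀ u ∈ W₁, ∀ v ∈ W₁, B' u v = 0)
    (h2 : ∀ u ∈ W₂, ∀ v ∈ W₂, B u v = 0) (h2' : ∀ u ∈ W₂, ∀ v ∈ W₂, B' u v = 0) :
    ∃ Z : V ≃ₗ[F] V, (∀ v, Z (A v) = A (Z v)) ∧ ∀ u v, B (Z u) (Z v) = B' u v := by
  have key : ∀ (C : LinearMap.BilinForm F V), AltInv A C → (∀ u ∈ W₂, ∀ v ∈ W₂, C u v = 0) →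
      Function.Injective (C.flip.domRestrict₁₂ W₂ W₁) := by
    intro C hC hC2
    rw [← LinearMap.ker_eq_bot, LinearMap.ker_eq_bot']
    intro y hy
    apply Subtype.ext
    apply hC.nondeg_right
    intro z
    obtain ⟨a, b, rfl⟩ := exists_decomp hc z
    rw [map_add, LinearMap.add_apply, hC2 b b.2 y y.2, add_zero]
    exact LinearMap.congr_fun hy a
  have key2 : ∀ (C : LinearMap.BilinForm F V), AltInv A C → (∀ u ∈ W₁, ∀ v ∈ W₁, C u v = 0) →
      Function.Injective (C.domRestrict₁₂ W₁ W₂) := by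
    intro C hC hC1
    rw [← LinearMap.ker_eq_bot, LinearMap.ker_eq_bot']
    intro x hx
    apply Subtype.ext
    apply hC.nondeg
    intro z
    obtain ⟨a, b, rfl⟩ := exists_decomp hc z
    rw [map_add, hC1 x x.2 a a.2, zero_add]
    exact LinearMap.congr_fun hx b
  have hd1 : finrank F W₂ ≤ finrank F W₁ := by
    have := LinearMap.finrank_le_finrank_of_injective (key B hB h2)
    rwa [Subspace.dual_finrank_eq] at this
  have hd2 : finrank F W₁ ≤ finrank F W₂ := by
    have := LinearMap.finrank_le_finrank_of_injective (key2 B hB h1)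
    rwa [Subspace.dual_finrank_eq] at this
  have hd : finrank F W₂ = finrank F (W₁ →ₗ[F] F) := by
    rw [Subspace.dual_finrank_eq]
    omega
  set Φ : W₂ ≃ₗ[F] (W₁ →ₗ[F] F) :=
    LinearMap.linearEquivOfInjective _ (key B hB h2) hd with hΦ
  set Φ' : W₂ ≃ₗ[F] (W₁ →ₗ[F] F) :=
    LinearMap.linearEquivOfInjective _ (key B' hB' h2') hd with hΦ'
  have hΦa : ∀ (y : W₂) (x : W₁), Φ y x = B (x : V) (y : V) := fun y x => rfl
  have hΦ'a : ∀ (y : W₂) (x : W₁), Φ' y x = B' (x : V) (y : V) := fun y x => rfl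
  set Z₂ : W₂ ≃ₗ[F] W₂ := Φ'.trans Φ.symm with hZ₂
  have hZ₂a : ∀ (y : W₂) (x : W₁), B (x : V) (Z₂ y : V) = B' (x : V) (y : V) := by
    intro y x
    rw [← hΦa, ← hΦ'a, hZ₂, LinearEquiv.trans_apply, LinearEquiv.apply_symm_apply]
  have hZ₂c : ∀ y : W₂, Z₂ (A.restrict hA2 y) = A.restrict hA2 (Z₂ y) := by
    intro y
    apply Φ.injective
    apply LinearMap.ext
    intro x
    rw [hΦa, hΦa, hZ₂a]
    show B' (x : V) (A (y : V)) = B (x : V) (A (Z₂ y : V))
    rw [hB'.adj_right hM hAM, hB.adj_right hM hAM]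
    have hx' : (A ^ (M - 1)) (x : V) ∈ W₁ := pow_mem_of_invariant A hA1 _ _ x.2
    exact (hZ₂a y ⟨_, hx'⟩).symm
  obtain ⟨Z, hZc, hZ⟩ := glue_equiv A hc hA1 hA2 (LinearEquiv.refl F W₁) Z₂ (fun w => rfl) hZ₂c
  refine ⟨Z, hZc, fun u v => ?_⟩
  obtain ⟨a, b, rfl⟩ := exists_decomp hc u
  obtain ⟨a', b', rfl⟩ := exists_decomp hc v
  rw [hZ, hZ]
  simp only [LinearEquiv.refl_apply, map_add, LinearMap.add_apply]
  rw [h1 a a.2 a' a'.2, h2 _ (Z₂ b).2 _ (Z₂ b').2, h1' a a.2 a' a'.2, h2' b b.2 b' b'.2,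
    hZ₂a, hB.skew (Z₂ b : V) (a' : V), hZ₂a, hB'.skew (b : V) (a' : V)]

end basic


section blocks
variable {F : Type*} [Field F]

/-- the block of a self-dual irreducible factor whose root is not its own inverse -/
theorem selfdual_block [Finite F] {V : Type u} [AddCommGroup V] [Module F V]
    [FiniteDimensional F V] (A : Module.End F V) {M : ℕ} (hM : 1 ≤ M) (hAM : A ^ M = 1)
    (f : F[X]) (hfirr : Irreducible f) (hfM : f ∣ X ^ M - 1) (hfd : dualPoly M f = f)
    (hne : AdjoinRoot.root f ^ (M - 1) ≠ AdjoinRoot.root f) (hfA : aeval A f = 0)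
    (B B' : LinearMap.BilinForm F V) (hB : AltInv A B) (hB' : AltInv A B') :
    ∃ Z : V ≃ₗ[F] V, (∀ v, Z (A v) = A (Z v)) ∧ ∀ u v, B (Z u) (Z v) = B' u v := by
  haveI : Fact (Irreducible f) := ⟨hfirr⟩
  have hσ0 : aeval (AdjoinRoot.root f ^ (M - 1)) f = 0 := by
    have := aeval_inv_dualPoly M f
    rwa [hfd] at this
  set σ : AdjoinRoot f →ₐ[F] AdjoinRoot f :=
    AdjoinRoot.liftAlgHom f (Algebra.ofId F (AdjoinRoot f)) (AdjoinRoot.root f ^ (M - 1)) hσ0
    with hσ
  have hσroot : σ (AdjoinRoot.root f) = AdjoinRoot.root f ^ (M - 1) :=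
    AdjoinRoot.liftAlgHom_root _ _ _ _
  have hσ2 : ∀ x, σ (σ x) = x := by
    have h1 : σ.comp σ = AlgHom.id F (AdjoinRoot f) := by
      apply AdjoinRoot.algHom_ext
      rw [AlgHom.comp_apply, hσroot, map_pow, hσroot, inv_pow_eq_root hM hfM]
      rfl
    intro x
    exact AlgHom.congr_fun h1 x
  have hσ1 : ∃ x, σ x ≠ x := ⟨AdjoinRoot.root f, by rw [hσroot]; exact hne⟩
  letI := kModule f A hfA
  haveI := kModule_tower f A hfA
  haveI : Module.Finite F (AdjoinRoot f) := (AdjoinRoot.powerBasis hfirr.ne_zero).finite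
  haveI : Finite (AdjoinRoot f) := Module.finite_of_finite F
  haveI : FiniteDimensional (AdjoinRoot f) V := Module.Finite.of_restrictScalars_finite F _ _
  have hroot : ∀ w : V, A w = (AdjoinRoot.root f) • w := fun w => by
    rw [kModule_smul, rho_root]
  have hHerm : ∀ C : LinearMap.BilinForm F V, AltInv A C → Herm.IsHermLike σ (-1) C := by
    intro C hC
    refine ⟨?_, ?_, hC.nondeg⟩
    · intro x u v
      obtain ⟨P, rfl⟩ := AdjoinRoot.mk_surjective x
      have e1 : ∀ w : V, (AdjoinRoot.mk f P) • w = aeval A P w := fun w => rfl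
      have e2 : σ (AdjoinRoot.mk f P) = aeval (AdjoinRoot.root f ^ (M - 1)) P := by
        rw [← AdjoinRoot.aeval_eq, ← aeval_algHom_apply, hσroot]
      have e3 : ∀ w : V, (aeval (AdjoinRoot.root f ^ (M - 1)) P : AdjoinRoot f) • w
          = aeval (A ^ (M - 1)) P w := by
        intro w
        rw [kModule_smul, ← aeval_algHom_apply, map_pow, rho_root]
      rw [e1, e2, e3]
      exact adjoint_aeval hM hAM hC.inv P u v
    · intro u v
      rw [neg_one_mul]
      exact hC.skew v u
  obtain ⟨T, hT⟩ := Herm.exists_isometry σ hσ2 hσ1 (-1) (Or.inr rfl)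
    (finrank (AdjoinRoot f) V) V V B' B rfl rfl (hHerm B' hB') (hHerm B hB)
  refine ⟨T.restrictScalars F, fun v => ?_, fun u v => hT u v⟩
  show T (A v) = A (T v)
  rw [hroot, hroot, map_smul]

/-- the block on which `A` is a scalar -/
theorem scalar_block {V : Type*} [AddCommGroup V] [Module F V] [FiniteDimensional F V]
    (A : Module.End F V) (c : F) (hA : ∀ v, A v = c • v)
    (B B' : LinearMap.BilinForm F V) (hB : AltInv A B) (hB' : AltInv A B') :
    ∃ Z : V ≃ₗ[F] V, (∀ v, Z (A v) = A (Z v)) ∧ ∀ u v, B (Z u) (Z v) = B' u v := by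
  have hnd : ∀ C : LinearMap.BilinForm F V, AltInv A C → C.Nondegenerate := fun C hC =>
    ⟨hC.nondeg, hC.nondeg_right⟩
  obtain ⟨k, hk⟩ := Cfsg.Agent.Helper11.even_finrank_of_nondegenerate_isAlt B (hnd B hB) hB.alt
  have hk' : finrank F V = 2 * k := by rw [hk, two_mul]
  obtain ⟨e, he⟩ := Cfsg.Agent.Helper28.SympIso.exists_symp_equiv B hB.alt (hnd B hB) k hk'
  obtain ⟨e', he'⟩ := Cfsg.Agent.Helper28.SympIso.exists_symp_equiv B' hB'.alt (hnd B' hB') k hk'
  refine ⟨e'.trans e.symm, fun v => ?_, fun u v => ?_⟩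
  · rw [hA, hA, map_smul]
  · rw [← he, ← he']
    simp only [LinearEquiv.trans_apply, LinearEquiv.apply_symm_apply]

end blocks


section main
variable {F : Type*} [Field F] [Finite F]

/-- a single block -/
theorem block {V : Type u} [AddCommGroup V] [Module F V] [FiniteDimensional F V]
    (A : Module.End F V) {M : ℕ} (hM : 1 ≤ M) (hAM : A ^ M = 1) (f : F[X])
    (hf : f ∈ irrFactors (X ^ M - 1 : F[X])) (hfA : aeval A (blockPoly M f) = 0)
    (B B' : LinearMap.BilinForm F V) (hB : AltInv A B) (hB' : AltInv A B') :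
    ∃ Z : V ≃ₗ[F] V, (∀ v, Z (A v) = A (Z v)) ∧ ∀ u v, B (Z u) (Z v) = B' u v := by
  have hfirr := irrFactors_irreducible hf
  have hfM := irrFactors_dvd hf
  by_cases hfd : dualPoly M f = f
  · have hfA' : aeval A f = 0 := by
      unfold blockPoly at hfA
      rwa [if_pos hfd] at hfA
    by_cases hne : AdjoinRoot.root f ^ (M - 1) = AdjoinRoot.root f
    · have h1 : AdjoinRoot.root f * AdjoinRoot.root f = 1 := by
        nth_rewrite 2 [← hne]
        exact root_mul_inv hM hfM
      have h2 : f ∣ (X - 1) * (X + 1) := by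
        rw [← AdjoinRoot.mk_eq_zero, map_mul, map_sub, map_add, AdjoinRoot.mk_X, map_one]
        have : (AdjoinRoot.root f - 1) * (AdjoinRoot.root f + 1)
            = AdjoinRoot.root f * AdjoinRoot.root f - 1 := by ring
        rw [this, h1, sub_self]
      rcases hfirr.prime.dvd_or_dvd h2 with h3 | h3
      · have h4 : aeval A (X - 1 : F[X]) = 0 := by
          obtain ⟨c, hc⟩ := h3
          rw [hc, map_mul, hfA', zero_mul]
        have h5 : ∀ v, A v = (1 : F) • v := by
          intro v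
          have := LinearMap.congr_fun h4 v
          rw [map_sub, aeval_X, map_one, LinearMap.sub_apply, Module.End.one_apply,
            LinearMap.zero_apply, sub_eq_zero] at this
          rw [one_smul]
          exact this
        exact scalar_block A 1 h5 B B' hB hB'
      · have h4 : aeval A (X + 1 : F[X]) = 0 := by
          obtain ⟨c, hc⟩ := h3
          rw [hc, map_mul, hfA', zero_mul]
        have h5 : ∀ v, A v = (-1 : F) • v := by
          intro v
          have := LinearMap.congr_fun h4 v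
          rw [map_add, aeval_X, map_one, LinearMap.add_apply, Module.End.one_apply,
            LinearMap.zero_apply] at this
          rw [neg_one_smul]
          exact eq_neg_of_add_eq_zero_left this
        exact scalar_block A (-1) h5 B B' hB hB'
    · exact selfdual_block A hM hAM f hfirr hfM hfd hne hfA' B B' hB hB'
  · have hfA' : aeval A (f * dualPoly M f) = 0 := by
      unfold blockPoly at hfA
      rwa [if_neg hfd] at hfA
    have hc : IsCompl (LinearMap.ker (aeval A f)) (LinearMap.ker (aeval A (dualPoly M f))) :=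
      isCompl_ker_aeval A (coprime_self_dual hM hf hfd) hfA'
    refine pair_block A hM hAM B B' hB hB' hc (ker_aeval_invariant A f)
      (ker_aeval_invariant A _) ?_ ?_ ?_ ?_
    · intro u hu v hv
      exact orth_of_coprime hM hAM hB.inv f f (coprime_self_comp hM hf hfd) u v
        (LinearMap.mem_ker.1 hu) (LinearMap.mem_ker.1 hv)
    · intro u hu v hv
      exact orth_of_coprime hM hAM hB'.inv f f (coprime_self_comp hM hf hfd) u v
        (LinearMap.mem_ker.1 hu) (LinearMap.mem_ker.1 hv)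
    · intro u hu v hv
      exact orth_of_coprime hM hAM hB.inv _ _ (coprime_dual_comp hM hf hfd) u v
        (LinearMap.mem_ker.1 hu) (LinearMap.mem_ker.1 hv)
    · intro u hu v hv
      exact orth_of_coprime hM hAM hB'.inv _ _ (coprime_dual_comp hM hf hfd) u v
        (LinearMap.mem_ker.1 hu) (LinearMap.mem_ker.1 hv)

/-- two invariant nondegenerate alternating forms of a semisimple endomorphism of finite order
are isometric by an equivalence commuting with the endomorphism -/
theorem exists_commuting_isometry (M : ℕ) (hM : 1 ≤ M) (hMF : (M : F) ≠ 0) :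
    ∀ (n : ℕ) (V : Type u) [AddCommGroup V] [Module F V] [FiniteDimensional F V]
      (A : Module.End F V) (B B' : LinearMap.BilinForm F V),
      finrank F V = n → A ^ M = 1 → AltInv A B → AltInv A B' →
      ∃ Z : V ≃ₗ[F] V, (∀ v, Z (A v) = A (Z v)) ∧ ∀ u v, B (Z u) (Z v) = B' u v := by
  intro n
  induction n using Nat.strong_induction_on with
  | _ n ih =>
  intro V _ _ _ A B B' hn hAM hB hB'
  by_cases hn0 : n = 0
  · haveI : Subsingleton V := Module.finrank_zero_iff.1 (hn.trans hn0)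
    refine ⟨LinearEquiv.refl F V, fun v => rfl, fun u v => ?_⟩
    rw [Subsingleton.elim u 0]
    simp
  set S := irrFactors (X ^ M - 1 : F[X]) with hS
  have hXM : aeval A (X ^ M - 1 : F[X]) = 0 := by
    rw [map_sub, map_pow, aeval_X, map_one, hAM, sub_self]
  have hprod : aeval A (∏ f ∈ S, f) = 0 := by
    rw [hS, irrFactors_prod (X_pow_sub_one_monic hM) (X_pow_sub_one_squarefree hMF)]
    exact hXM
  obtain ⟨f, hfS, hfk⟩ : ∃ f ∈ S, kdim A f ≠ 0 := by
    by_contra hcon
    push Not at hcon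
    have := finrank_eq_sum_kdim A S (irrFactors_pairwise_coprime _) hprod
    rw [Finset.sum_eq_zero hcon] at this
    omega
  set P := blockPoly M f with hP
  set Q := restPoly M f with hQ
  set W := LinearMap.ker (aeval A P) with hWdef
  set U := LinearMap.ker (aeval A Q) with hUdef
  have hWU : IsCompl W U := isCompl_ker_aeval A (coprime_block_rest hM hfS) (by
    rw [blockPoly_mul_restPoly hM hMF hfS]
    exact hXM)
  have hW : ∀ v ∈ W, A v ∈ W := ker_aeval_invariant A P
  have hU : ∀ v ∈ U, A v ∈ U := ker_aeval_invariant A Q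
  have horth : ∀ C : LinearMap.BilinForm F V, AltInv A C → ∀ w ∈ W, ∀ u ∈ U, C w u = 0 := by
    intro C hC w hw u hu
    exact orth_of_coprime hM hAM hC.inv P Q (coprime_block_rest_comp hM hfS) w u
      (LinearMap.mem_ker.1 hw) (LinearMap.mem_ker.1 hu)
  have horth2 : ∀ C : LinearMap.BilinForm F V, AltInv A C → ∀ w ∈ W, ∀ u ∈ U, C u w = 0 := by
    intro C hC w hw u hu
    rw [hC.skew, horth C hC w hw u hu, neg_zero]
  have hBW := hB.restrict hWU hW (horth B hB)
  have hBW' := hB'.restrict hWU hW (horth B' hB')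
  have hBU := hB.restrict hWU.symm hU (fun u hu w hw => horth2 B hB w hw u hu)
  have hBU' := hB'.restrict hWU.symm hU (fun u hu w hw => horth2 B' hB' w hw u hu)
  have hpowres : ∀ (W' : Submodule F V) (hW' : ∀ v ∈ W', A v ∈ W'), (A.restrict hW') ^ M = 1 := by
    intro W' hW'
    have h1 := aeval_restrict_eq_zero A W' hW' (X ^ M - 1) (by rw [hXM, LinearMap.ker_zero]; exact le_top)
    rwa [map_sub, map_pow, aeval_X, map_one, sub_eq_zero] at h1
  have hfW : aeval (A.restrict hW) (blockPoly M f) = 0 :=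
    aeval_restrict_eq_zero A W hW P le_rfl
  obtain ⟨ZW, hZWc, hZW⟩ := block (A.restrict hW) hM (hpowres W hW) f hfS hfW (resForm B W)
    (resForm B' W) hBW hBW'
  have hWpos : 0 < finrank F W := by
    have h1 : LinearMap.ker (aeval A f) ≤ W := ker_aeval_le_of_dvd A ker_le_ker_blockPoly
    have h2 := Submodule.finrank_mono h1
    unfold kdim at hfk
    omega
  have hdim : finrank F W + finrank F U = finrank F V := Submodule.finrank_add_eq_of_isCompl hWU
  obtain ⟨ZU, hZUc, hZU⟩ := ih (finrank F U) (by omega) U (A.restrict hU) (resForm B U)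
    (resForm B' U) rfl (hpowres U hU) hBU hBU'
  exact glue_isometry A B B' hWU hW hU (horth B hB) (horth B' hB') (horth2 B hB) (horth2 B' hB')
    ZW ZU hZWc hZUc hZW hZU

end main

end Cfsg.Agent.Helper13.SympSS
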