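import Mathlib
import Cfsg.Agent.Lib.Helper13.SympSemisimple
import Cfsg.Agent.Lib.Helper13.SemisimpleCharpoly

set_option autoImplicit false

/-!
# Realising polynomials as characteristic polynomials of semisimple symplectic isometries
-/

namespace Cfsg.Agent.Helper13.SympSS

open Polynomial Module Cfsg.Agent.Helper13.SS Cfsg.Agent.Helper13.Dual
open scoped Classical

universe u

section defs
variable {F : Type u} [Field F]

/-- `P` is the characteristic polynomial of an isometry of exponent `m` of a symplectic space -/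
def SReal (m : ℕ) (P : F[X]) : Prop :=
  ∃ (V : Type u) (_ : AddCommGroup V) (_ : Module F V) (_ : FiniteDimensional F V)
    (A : Module.End F V) (B : LinearMap.BilinForm F V),
    A ^ m = 1 ∧ AltInv A B ∧ A.charpoly = P

theorem sreal_one (m : ℕ) : SReal m (1 : F[X]) := by
  refine ⟨PUnit, inferInstance, inferInstance, inferInstance, 0, 0, ?_, ?_, ?_⟩
  · apply LinearMap.ext
    intro x
    exact Subsingleton.elim _ _
  · exact ⟨fun u => rfl, fun u _ => Subsingleton.elim _ _, fun u v => rfl⟩
  · apply Polynomial.eq_one_of_monic_natDegree_zero (LinearMap.charpoly_monic _)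
    rw [LinearMap.charpoly_natDegree]
    exact Module.finrank_zero_of_subsingleton

/-- orthogonal sum of two forms -/
noncomputable def sumForm {V W : Type*} [AddCommGroup V] [Module F V] [AddCommGroup W]
    [Module F W] (B : LinearMap.BilinForm F V) (B' : LinearMap.BilinForm F W) :
    LinearMap.BilinForm F (V × W) :=
  B.compl₁₂ (LinearMap.fst F V W) (LinearMap.fst F V W)
    + B'.compl₁₂ (LinearMap.snd F V W) (LinearMap.snd F V W)

theorem sumForm_apply {V W : Type*} [AddCommGroup V] [Module F V] [AddCommGroup W]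
    [Module F W] (B : LinearMap.BilinForm F V) (B' : LinearMap.BilinForm F W) (x y : V × W) :
    sumForm B B' x y = B x.1 y.1 + B' x.2 y.2 := rfl

theorem sreal_mul {m : ℕ} {P Q : F[X]} (hP : SReal m P) (hQ : SReal m Q) : SReal m (P * Q) := by
  obtain ⟨V, _, _, _, A, B, hAm, hAB, hAc⟩ := hP
  obtain ⟨W, _, _, _, A', B', hAm', hAB', hAc'⟩ := hQ
  refine ⟨V × W, inferInstance, inferInstance, inferInstance, A.prodMap A', sumForm B B',
    ?_, ?_, ?_⟩
  · have h : ∀ k : ℕ, (A.prodMap A') ^ k = (A ^ k).prodMap (A' ^ k) := by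
      intro k
      induction k with
      | zero =>
        apply LinearMap.ext
        rintro ⟨x, y⟩
        rfl
      | succ k ih =>
        rw [pow_succ, ih, pow_succ, pow_succ]
        apply LinearMap.ext
        rintro ⟨x, y⟩
        rfl
    rw [h, hAm, hAm']
    apply LinearMap.ext
    rintro ⟨x, y⟩
    rfl
  · refine ⟨?_, ?_, ?_⟩
    · intro u
      rw [sumForm_apply, hAB.alt, hAB'.alt, add_zero]
    · rintro ⟨x, y⟩ h
      have hx : x = 0 := by
        apply hAB.nondeg
        intro v
        have := h (v, 0)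
        rw [sumForm_apply] at this
        simpa using this
      have hy : y = 0 := by
        apply hAB'.nondeg
        intro v
        have := h (0, v)
        rw [sumForm_apply] at this
        simpa using this
      rw [hx, hy]
      rfl
    · intro u v
      rw [sumForm_apply, sumForm_apply]
      show B (A u.1) (A v.1) + B' (A' u.2) (A' v.2) = _
      rw [hAB.inv, hAB'.inv]
  · rw [LinearMap.charpoly_prodMap, hAc, hAc']

theorem prodMap_pow {V W : Type*} [AddCommGroup V] [Module F V] [AddCommGroup W] [Module F W]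
    (A : Module.End F V) (A' : Module.End F W) (k : ℕ) :
    (A.prodMap A') ^ k = (A ^ k).prodMap (A' ^ k) := by
  induction k with
  | zero =>
    apply LinearMap.ext
    rintro ⟨x, y⟩
    rfl
  | succ k ih =>
    rw [pow_succ, ih, pow_succ, pow_succ]
    apply LinearMap.ext
    rintro ⟨x, y⟩
    rfl

end defs

section blocks
variable {F : Type u} [Field F] {m : ℕ} {f : F[X]}

theorem lmul_pow {k : Type*} [Field k] [Algebra F k] (x : k) (n : ℕ) :
    (Algebra.lmul F k x) ^ n = Algebra.lmul F k (x ^ n) := by
  rw [map_pow]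

/-- the characteristic polynomial of multiplication by an element whose minimal polynomial has
full degree -/
theorem charpoly_lmul {k : Type*} [Field k] [Algebra F k] [FiniteDimensional F k] (x : k)
    (hdeg : finrank F k ≤ (minpoly F x).natDegree) :
    (Algebra.lmul F k x).charpoly = minpoly F x := by
  have hint : IsIntegral F x := IsIntegral.of_finite F x
  have h1 : aeval x (Algebra.lmul F k x).charpoly = 0 := by
    have h2 := LinearMap.aeval_self_charpoly (Algebra.lmul F k x)
    rw [aeval_algHom_apply] at h2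
    apply Algebra.lmul_injective (R := F)
    rw [h2, map_zero]
  have h3 : minpoly F x ∣ (Algebra.lmul F k x).charpoly := minpoly.dvd F x h1
  apply Polynomial.eq_of_monic_of_dvd_of_natDegree_le (minpoly.monic hint)
    (LinearMap.charpoly_monic _) h3
  rw [LinearMap.charpoly_natDegree]
  exact hdeg

theorem natDegree_dualPoly (hm : 1 ≤ m) (hf : Irreducible f) (hmon : f.Monic)
    (hfm : f ∣ X ^ m - 1) : (dualPoly m f).natDegree = f.natDegree := by
  haveI : Fact (Irreducible f) := ⟨hf⟩
  haveI : FiniteDimensional F (AdjoinRoot f) := (AdjoinRoot.powerBasis hf.ne_zero).finite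
  have hdirr : Irreducible (dualPoly m f) := dualPoly_irreducible hf
  haveI : Fact (Irreducible (dualPoly m f)) := ⟨hdirr⟩
  haveI : FiniteDimensional F (AdjoinRoot (dualPoly m f)) :=
    (AdjoinRoot.powerBasis hdirr.ne_zero).finite
  apply le_antisymm
  · have h1 : (dualPoly m f).natDegree ≤ finrank F (AdjoinRoot f) := minpoly.natDegree_le _
    rwa [finrank_adjoinRoot] at h1
  · have h2 : (dualPoly m (dualPoly m f)).natDegree ≤ finrank F (AdjoinRoot (dualPoly m f)) :=
      minpoly.natDegree_le _
    rwa [dualPoly_dualPoly hm hf hmon hfm, finrank_adjoinRoot] at h2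

/-- the hyperbolic block of a pair of mutually dual factors -/
theorem sreal_pair (hm : 1 ≤ m) (hf : Irreducible f) (hmon : f.Monic) (hfm : f ∣ X ^ m - 1) :
    SReal m (f * dualPoly m f) := by
  haveI : Fact (Irreducible f) := ⟨hf⟩
  haveI : FiniteDimensional F (AdjoinRoot f) := (AdjoinRoot.powerBasis hf.ne_zero).finite
  set k := AdjoinRoot f with hk
  set s : k := AdjoinRoot.root f with hs
  set s' : k := s ^ (m - 1) with hs'
  have hss' : s * s' = 1 := root_mul_inv hm hfm
  have hsm : s ^ m = 1 := root_pow_eq_one hfm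
  have hs'm : s' ^ m = 1 := by
    rw [hs', ← pow_mul, mul_comm, pow_mul, hsm, one_pow]
  -- a nonzero functional
  obtain ⟨τ, hτ⟩ := Module.Projective.exists_dual_ne_zero F (one_ne_zero : (1 : k) ≠ 0)
  set B : LinearMap.BilinForm F (k × k) :=
    LinearMap.mk₂ F (fun u v => τ (u.1 * v.2) - τ (v.1 * u.2))
      (by intro a b c; simp only [Prod.fst_add, Prod.snd_add, add_mul, mul_add, map_add]; ring)
      (by intro c a b; simp only [Prod.smul_fst, Prod.smul_snd, smul_mul_assoc, mul_smul_comm,
        map_smul, smul_eq_mul]; ring)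
      (by intro a b c; simp only [Prod.fst_add, Prod.snd_add, add_mul, mul_add, map_add]; ring)
      (by intro c a b; simp only [Prod.smul_fst, Prod.smul_snd, smul_mul_assoc, mul_smul_comm,
        map_smul, smul_eq_mul]; ring) with hB
  have hBa : ∀ u v : k × k, B u v = τ (u.1 * v.2) - τ (v.1 * u.2) := fun u v => rfl
  have hτnd : ∀ x : k, (∀ y : k, τ (x * y) = 0) → x = 0 := by
    intro x hx
    by_contra hx0
    apply hτ
    have := hx x⁻¹
    rwa [mul_inv_cancel₀ hx0] at this
  refine ⟨k × k, inferInstance, inferInstance, inferInstance,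
    (Algebra.lmul F k s).prodMap (Algebra.lmul F k s'), B, ?_, ?_, ?_⟩
  · rw [prodMap_pow, lmul_pow, lmul_pow, hsm, hs'm, map_one]
    apply LinearMap.ext
    rintro ⟨x, y⟩
    rfl
  · refine ⟨?_, ?_, ?_⟩
    · intro u
      rw [hBa, sub_self]
    · rintro ⟨x, y⟩ h
      have hx : x = 0 := by
        apply hτnd
        intro y'
        have := h (0, y')
        rw [hBa] at this
        simpa using this
      have hy : y = 0 := by
        apply hτnd
        intro x'
        have := h (x', 0)
        rw [hBa] at this
        simp only [mul_zero, map_zero, zero_sub, neg_eq_zero] at this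
        rw [mul_comm]
        exact this
      rw [hx, hy]
      rfl
    · intro u v
      rw [hBa, hBa]
      show τ (s * u.1 * (s' * v.2)) - τ (s * v.1 * (s' * u.2)) = _
      have e1 : s * u.1 * (s' * v.2) = u.1 * v.2 := by
        calc s * u.1 * (s' * v.2) = (s * s') * (u.1 * v.2) := by ring
          _ = u.1 * v.2 := by rw [hss', one_mul]
      have e2 : s * v.1 * (s' * u.2) = v.1 * u.2 := by
        calc s * v.1 * (s' * u.2) = (s * s') * (v.1 * u.2) := by ring
          _ = v.1 * u.2 := by rw [hss', one_mul]
      rw [e1, e2]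
  · rw [LinearMap.charpoly_prodMap]
    have h1 : (Algebra.lmul F k s).charpoly = f := charpoly_mulRoot f hmon
    have h2 : (Algebra.lmul F k s').charpoly = dualPoly m f := by
      apply charpoly_lmul
      show finrank F (AdjoinRoot f) ≤ (dualPoly m f).natDegree
      rw [finrank_adjoinRoot, natDegree_dualPoly hm hf hmon hfm]
    rw [h1, h2]

/-- the block of a self-dual factor whose root is not its own inverse -/
theorem sreal_selfdual (hm : 1 ≤ m) (hf : Irreducible f) (hmon : f.Monic) (hfm : f ∣ X ^ m - 1)
    (hfd : dualPoly m f = f) (hne : AdjoinRoot.root f ^ (m - 1) ≠ AdjoinRoot.root f) :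
    SReal m f := by
  haveI : Fact (Irreducible f) := ⟨hf⟩
  haveI : FiniteDimensional F (AdjoinRoot f) := (AdjoinRoot.powerBasis hf.ne_zero).finite
  set k := AdjoinRoot f with hk
  set s : k := AdjoinRoot.root f with hs
  have hss' : s * s ^ (m - 1) = 1 := root_mul_inv hm hfm
  have hsm : s ^ m = 1 := root_pow_eq_one hfm
  have hσ0 : aeval (s ^ (m - 1)) f = 0 := by
    have := aeval_inv_dualPoly m f
    rwa [hfd] at this
  set σ : k →ₐ[F] k := AdjoinRoot.liftAlgHom f (Algebra.ofId F k) (s ^ (m - 1)) hσ0 with hσ
  have hσroot : σ s = s ^ (m - 1) := AdjoinRoot.liftAlgHom_root _ _ _ _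
  have hσ2 : ∀ x, σ (σ x) = x := by
    have h1 : σ.comp σ = AlgHom.id F k := by
      apply AdjoinRoot.algHom_ext
      rw [AlgHom.comp_apply, hσroot, map_pow, hσroot, inv_pow_eq_root hm hfm]
      rfl
    intro x
    exact AlgHom.congr_fun h1 x
  -- the fixed space of `σ`
  set k₀ : Submodule F k := LinearMap.ker (σ.toLinearMap - LinearMap.id) with hk₀
  have hk₀mem : ∀ x, x ∈ k₀ ↔ σ x = x := by
    intro x
    rw [hk₀, LinearMap.mem_ker, LinearMap.sub_apply, sub_eq_zero]
    rfl
  have hlt : k₀ < ⊤ := by
    rw [lt_top_iff_ne_top]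
    intro h
    apply hne
    rw [← hσroot]
    exact (hk₀mem s).1 (by rw [h]; exact Submodule.mem_top)
  obtain ⟨τ, hτ0, hτk⟩ := Submodule.exists_le_ker_of_lt_top k₀ hlt
  have hτfix : ∀ x, σ x = x → τ x = 0 := fun x hx =>
    LinearMap.mem_ker.1 (hτk ((hk₀mem x).2 hx))
  set B : LinearMap.BilinForm F k :=
    LinearMap.mk₂ F (fun u v => τ (u * σ v))
      (by intro a b c; rw [add_mul, map_add])
      (by intro c a b; rw [smul_mul_assoc, map_smul])
      (by intro a b c; rw [map_add, mul_add, map_add])
      (by intro c a b; rw [map_smul, mul_smul_comm, map_smul]) with hB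
  have hBa : ∀ u v : k, B u v = τ (u * σ v) := fun u v => rfl
  refine ⟨k, inferInstance, inferInstance, inferInstance, Algebra.lmul F k s, B, ?_, ?_, ?_⟩
  · rw [lmul_pow, hsm, map_one]
  · refine ⟨?_, ?_, ?_⟩
    · intro u
      rw [hBa]
      apply hτfix
      rw [map_mul, hσ2, mul_comm]
    · intro x hx
      by_contra hx0
      apply hτ0
      apply LinearMap.ext
      intro z
      have := hx (σ (x⁻¹ * z))
      rw [hBa, hσ2, ← mul_assoc, mul_inv_cancel₀ hx0, one_mul] at this
      rw [this]
      rfl
    · intro u v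
      rw [hBa, hBa]
      show τ (s * u * σ (s * v)) = _
      have e0 : σ (s * v) = s ^ (m - 1) * σ v := by rw [map_mul, hσroot]
      rw [e0]
      congr 1
      calc s * u * (s ^ (m - 1) * σ v) = (s * s ^ (m - 1)) * (u * σ v) := by ring
        _ = u * σ v := by rw [hss', one_mul]
  · exact charpoly_mulRoot f hmon

/-- the block on which the isometry is a scalar `ε = ± 1` -/
theorem sreal_scalar (ε : F) (hε : ε * ε = 1) (hεm : ε ^ m = 1) :
    SReal m ((X - C ε) ^ 2) := by
  set B : LinearMap.BilinForm F (F × F) :=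
    LinearMap.mk₂ F (fun u v => u.1 * v.2 - u.2 * v.1)
      (by intro a b c; simp only [Prod.fst_add, Prod.snd_add]; ring)
      (by intro c a b; simp only [Prod.smul_fst, Prod.smul_snd, smul_eq_mul]; ring)
      (by intro a b c; simp only [Prod.fst_add, Prod.snd_add]; ring)
      (by intro c a b; simp only [Prod.smul_fst, Prod.smul_snd, smul_eq_mul]; ring) with hB
  have hBa : ∀ u v : F × F, B u v = u.1 * v.2 - u.2 * v.1 := fun u v => rfl
  set A : Module.End F (F × F) := ε • (1 : Module.End F (F × F)) with hA
  have hAa : ∀ u : F × F, A u = ε • u := fun u => rfl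
  refine ⟨F × F, inferInstance, inferInstance, inferInstance, A, B, ?_, ?_, ?_⟩
  · rw [hA, _root_.smul_pow, one_pow, hεm, one_smul]
  · refine ⟨?_, ?_, ?_⟩
    · intro u
      rw [hBa]
      ring
    · rintro ⟨x, y⟩ h
      have h1 := h (0, 1)
      have h2 := h (1, 0)
      rw [hBa] at h1 h2
      simp only [mul_one, mul_zero, sub_zero, zero_sub, neg_eq_zero] at h1 h2
      rw [h1, h2]
      rfl
    · intro u v
      rw [hBa, hBa, hAa, hAa]
      simp only [Prod.smul_fst, Prod.smul_snd, smul_eq_mul]
      linear_combination (u.1 * v.2 - u.2 * v.1) * hε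
  · have hS : ∀ g ∈ ({X - C ε} : Finset F[X]), Irreducible g := by
      intro g hg
      rw [Finset.mem_singleton] at hg
      rw [hg]
      exact irreducible_X_sub_C ε
    have hM : ∀ g ∈ ({X - C ε} : Finset F[X]), g.Monic := by
      intro g hg
      rw [Finset.mem_singleton] at hg
      rw [hg]
      exact monic_X_sub_C ε
    have hkill : aeval A (∏ g ∈ ({X - C ε} : Finset F[X]), g) = 0 := by
      rw [Finset.prod_singleton, map_sub, aeval_X, aeval_C, hA, Algebra.algebraMap_eq_smul_one,
        sub_self]
    rw [charpoly_eq_prod {X - C ε} hS hM A hkill, Finset.prod_singleton, natDegree_X_sub_C,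
      Nat.div_one]
    congr 1
    unfold kdim
    rw [Finset.prod_singleton] at hkill
    rw [hkill, LinearMap.ker_zero, finrank_top, Module.finrank_prod, Module.finrank_self]

end blocks

end Cfsg.Agent.Helper13.SympSS
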