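import Mathlib
import Cfsg.Agent.Lib.Helper13.SemisimpleGL

set_option autoImplicit false

/-!
# Centralisers of irreducible semisimple elements (Singer cycles)
-/

namespace Cfsg.Agent.Helper13.SS

open Module Polynomial

section
variable {F V : Type*} [Field F] [AddCommGroup V] [Module F V] [FiniteDimensional F V]

/-- if `y` is killed by an irreducible polynomial of degree `dim V`, an endomorphism commuting
with `y` and killing a nonzero vector is zero -/
theorem eq_zero_of_commute_of_apply_eq_zero (f : F[X]) (hf : Irreducible f)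
    (hdeg : f.natDegree = finrank F V) (y : Module.End F V) (hy : aeval y f = 0)
    (w : Module.End F V) (hw : w * y = y * w) (v₀ : V) (hv₀ : v₀ ≠ 0) (h0 : w v₀ = 0) :
    w = 0 := by
  haveI : Fact (Irreducible f) := ⟨hf⟩
  have hinv : ∀ x ∈ LinearMap.ker w, y x ∈ LinearMap.ker w := by
    intro x hx
    rw [LinearMap.mem_ker] at hx ⊢
    have h1 : w (y x) = y (w x) := by
      rw [← Module.End.mul_apply, hw, Module.End.mul_apply]
    rw [h1, hx, map_zero]
  have hle : LinearMap.ker w ≤ LinearMap.ker (aeval y f) := by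
    rw [hy, LinearMap.ker_zero]
    exact le_top
  have h1 := natDegree_dvd_finrank f (y.restrict hinv)
    (aeval_restrict_eq_zero y _ hinv f hle)
  have h2 : 0 < finrank F (LinearMap.ker w) := by
    rw [Module.finrank_pos_iff_exists_ne_zero]
    exact ⟨⟨v₀, LinearMap.mem_ker.2 h0⟩, fun h => hv₀ (congrArg Subtype.val h)⟩
  have h3 : finrank F (LinearMap.ker w) ≤ finrank F V := Submodule.finrank_le _
  have h4 : finrank F (LinearMap.ker w) = finrank F V := by
    obtain ⟨c, hc⟩ := h1
    rw [hdeg] at hc
    rcases Nat.eq_zero_or_pos c with rfl | hcpos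
    · omega
    · nlinarith
  have h5 : LinearMap.ker w = ⊤ := Submodule.eq_top_of_finrank_eq h4
  exact LinearMap.ker_eq_top.1 h5

/-- the centraliser of such a `y` in the general linear group has at most `|V| - 1` elements -/
theorem card_centralizer_le [Finite V] (f : F[X]) (hf : Irreducible f)
    (hdeg : f.natDegree = finrank F V) (y : (Module.End F V)ˣ)
    (hy : aeval (y : Module.End F V) f = 0) :
    Nat.card (Subgroup.centralizer ({y} : Set (Module.End F V)ˣ)) ≤ Nat.card V - 1 := by
  classical
  have hpos : 0 < finrank F V := by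
    rw [← hdeg]
    exact Polynomial.natDegree_pos_iff_degree_pos.2 (Polynomial.degree_pos_of_irreducible hf)
  obtain ⟨v₀, hv₀⟩ := Module.finrank_pos_iff_exists_ne_zero.1 hpos
  let φ : Subgroup.centralizer ({y} : Set (Module.End F V)ˣ) → {v : V // v ≠ 0} :=
    fun z => ⟨(z.1 : Module.End F V) v₀, fun h => by
      have h1 : ((z.1⁻¹ : (Module.End F V)ˣ) : Module.End F V) ((z.1 : Module.End F V) v₀) = v₀ := by
        rw [← Module.End.mul_apply, ← Units.val_mul, inv_mul_cancel]
        rfl
      rw [h, map_zero] at h1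
      exact hv₀ h1.symm⟩
  have hφ : Function.Injective φ := by
    intro z z' h
    have h1 : (z.1 : Module.End F V) v₀ = (z'.1 : Module.End F V) v₀ := congrArg Subtype.val h
    have hz : (z.1 : Module.End F V) * y = y * z.1 := by
      have := Subgroup.mem_centralizer_iff.1 z.2 y rfl
      rw [← Units.val_mul, ← Units.val_mul, this]
    have hz' : (z'.1 : Module.End F V) * y = y * z'.1 := by
      have := Subgroup.mem_centralizer_iff.1 z'.2 y rfl
      rw [← Units.val_mul, ← Units.val_mul, this]
    have h2 : (z.1 : Module.End F V) - z'.1 = 0 := by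
      apply eq_zero_of_commute_of_apply_eq_zero f hf hdeg (y : Module.End F V) hy _ _ v₀ hv₀
      · rw [LinearMap.sub_apply, h1, sub_self]
      · rw [sub_mul, mul_sub, hz, hz']
    apply Subtype.ext
    apply Units.ext
    exact sub_eq_zero.1 h2
  haveI : Fintype V := Fintype.ofFinite V
  calc Nat.card (Subgroup.centralizer ({y} : Set (Module.End F V)ˣ))
      ≤ Nat.card {v : V // v ≠ 0} := Nat.card_le_card_of_injective φ hφ
    _ = Nat.card V - 1 := by
      rw [Nat.card_eq_fintype_card, Nat.card_eq_fintype_card, Fintype.card_subtype_compl,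
        Fintype.card_subtype_eq]

end


section ppd
variable {F V : Type*} [Field F] [Fintype F] [AddCommGroup V] [Module F V] [FiniteDimensional F V]
variable {p q r : ℕ} [Fact p.Prime] [CharP F p]

open scoped Classical in
/-- an element of order `r` acts irreducibly when `q` has order `dim V` modulo `r` -/
theorem exists_factor_of_ppd (hF : Fintype.card F = q) (hr : r.Prime) (hrp : r ≠ p)
    (hord : orderOf (q : ZMod r) = finrank F V) (x : Module.End F V) (hx : x ^ r = 1)
    (hx1 : x ≠ 1) : ∃ f ∈ cycFactors F r, aeval x f = 0 := by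
  have hxΦ : aeval x (X ^ r - 1 : F[X]) = 0 := by
    rw [map_sub, map_pow, aeval_X, map_one, hx, sub_self]
  have hprod : aeval x (∏ f ∈ insert (X - 1 : F[X]) (cycFactors F r), f) = 0 := by
    rw [X_sub_one_mul_prod hr hrp]
    exact hxΦ
  have h1 := finrank_eq_sum_kdim x _ (insert_pairwise_coprime (F := F) hr hrp) hprod
  rw [Finset.sum_insert (X_sub_one_notMem hr hrp)] at h1
  have h2 : kdim x (X - 1) < finrank F V := by
    apply lt_of_le_of_ne (Submodule.finrank_le _)
    intro h
    apply hx1
    have h3 : LinearMap.ker (aeval x (X - 1 : F[X])) = ⊤ := Submodule.eq_top_of_finrank_eq h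
    have h4 : aeval x (X - 1 : F[X]) = 0 := LinearMap.ker_eq_top.1 h3
    rw [map_sub, aeval_X, map_one, sub_eq_zero] at h4
    exact h4
  have h3 : ∃ f ∈ cycFactors F r, 0 < kdim x f := by
    by_contra hcon
    push Not at hcon
    have : ∑ f ∈ cycFactors F r, kdim x f = 0 :=
      Finset.sum_eq_zero (fun f hf => Nat.le_zero.1 (hcon f hf))
    omega
  obtain ⟨f, hf, hpos⟩ := h3
  refine ⟨f, hf, ?_⟩
  have hdvd := dvd_kdim x f (cycFactors_irreducible hf)
  rw [cycFactors_natDegree hF hr hrp hf, hord] at hdvd
  have hle : kdim x f ≤ finrank F V := Submodule.finrank_le _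
  have heq : kdim x f = finrank F V := by
    obtain ⟨c, hc⟩ := hdvd
    rcases Nat.eq_zero_or_pos c with rfl | hcpos
    · omega
    · nlinarith
  have h5 : LinearMap.ker (aeval x f) = ⊤ := Submodule.eq_top_of_finrank_eq heq
  exact LinearMap.ker_eq_top.1 h5

end ppd

end Cfsg.Agent.Helper13.SS
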