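import Mathlib
import Cfsg.Agent.Lib.Helper13.Singer

set_option autoImplicit false

/-!
# Commuting endomorphisms and invariant splittings
-/

namespace Cfsg.Agent.Helper13.SS

open Module Polynomial

section
variable {F V : Type*} [Field F] [AddCommGroup V] [Module F V]

/-- an endomorphism commuting with `Y` preserves the kernels of polynomials in `Y` -/
theorem commute_ker_invariant (X Y : Module.End F V) (hXY : X * Y = Y * X) (Q : F[X]) :
    ∀ v ∈ LinearMap.ker (aeval Y Q), X v ∈ LinearMap.ker (aeval Y Q) := by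
  intro v hv
  rw [LinearMap.mem_ker] at hv ⊢
  have h1 := aeval_intertwine X Y Y (fun w => by
    rw [← Module.End.mul_apply, hXY, Module.End.mul_apply]) Q v
  rw [← h1, hv, map_zero]

/-- an endomorphism of a line is a scalar -/
theorem exists_smul_of_finrank_one (h1 : finrank F V = 1) (X : Module.End F V) :
    ∃ c : F, ∀ v, X v = c • v := by
  obtain ⟨e, -, he⟩ := finrank_eq_one_iff'.1 h1
  obtain ⟨c, hc⟩ := he (X e)
  refine ⟨c, fun v => ?_⟩
  obtain ⟨d, rfl⟩ := he v
  rw [map_smul, ← hc, smul_comm]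

variable [FiniteDimensional F V]

/-- determinant of a map acting by scalars on two complementary subspaces -/
theorem det_of_scalars {L P : Submodule F V} (hLP : IsCompl L P) (a : Module.End F V) (α μ : F)
    (hL : ∀ v ∈ L, a v = α • v) (hP : ∀ v ∈ P, a v = μ • v) :
    LinearMap.det a = α ^ finrank F L * μ ^ finrank F P := by
  let E := Submodule.prodEquivOfIsCompl L P hLP
  have h1 : a = (E : (L × P) →ₗ[F] V) ∘ₗ
      ((α • (LinearMap.id : L →ₗ[F] L)).prodMap (μ • (LinearMap.id : P →ₗ[F] P))) ∘ₗ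
      (E.symm : V →ₗ[F] (L × P)) := by
    apply LinearMap.ext
    intro v
    obtain ⟨⟨l, p⟩, rfl⟩ := E.surjective v
    have h2 : E (l, p) = (l : V) + (p : V) := Submodule.coe_prodEquivOfIsCompl' L P hLP (l, p)
    simp only [LinearMap.comp_apply, LinearEquiv.coe_coe, LinearEquiv.symm_apply_apply,
      LinearMap.prodMap_apply, LinearMap.smul_apply, LinearMap.id_apply]
    rw [h2, map_add, hL l l.2, hP p p.2]
    exact (Submodule.coe_prodEquivOfIsCompl' L P hLP (α • l, μ • p)).symm
  rw [h1, LinearMap.det_conj, LinearMap.det_prodMap, LinearMap.det_smul, LinearMap.det_smul,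
    LinearMap.det_id, LinearMap.det_id, mul_one, mul_one]

/-- in the centraliser of an irreducible element a product of three nonzero elements is
nonzero -/
theorem eq_zero_of_mul_mul_eq_zero (f : F[X]) (hf : Irreducible f)
    (hdeg : f.natDegree = finrank F V) (y : Module.End F V) (hy : aeval y f = 0)
    (w₁ w₂ w₃ : Module.End F V) (h₁ : w₁ * y = y * w₁) (h₂ : w₂ * y = y * w₂)
    (h₃ : w₃ * y = y * w₃) (h : w₁ * w₂ * w₃ = 0) : w₁ = 0 ∨ w₂ = 0 ∨ w₃ = 0 := by
  have hpos : 0 < finrank F V := by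
    rw [← hdeg]
    exact Polynomial.natDegree_pos_iff_degree_pos.2 (Polynomial.degree_pos_of_irreducible hf)
  obtain ⟨v₀, hv₀⟩ := Module.finrank_pos_iff_exists_ne_zero.1 hpos
  by_cases c3 : w₃ = 0
  · exact Or.inr (Or.inr c3)
  by_cases c2 : w₂ = 0
  · exact Or.inr (Or.inl c2)
  left
  have e3 : w₃ v₀ ≠ 0 := fun h0 =>
    c3 (eq_zero_of_commute_of_apply_eq_zero f hf hdeg y hy w₃ h₃ v₀ hv₀ h0)
  have e2 : w₂ (w₃ v₀) ≠ 0 := fun h0 =>
    c2 (eq_zero_of_commute_of_apply_eq_zero f hf hdeg y hy w₂ h₂ _ e3 h0)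
  apply eq_zero_of_commute_of_apply_eq_zero f hf hdeg y hy w₁ h₁ _ e2
  have := congrArg (fun g => g v₀) h
  simpa using this

end

end Cfsg.Agent.Helper13.SS
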