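import Mathlib
import Cfsg.Agent.Lib.Helper13.CommuteSplit

set_option autoImplicit false

/-!
# Determinants along invariant splittings
-/

namespace Cfsg.Agent.Helper13.SS

open Module Polynomial

section
variable {F V : Type*} [Field F] [AddCommGroup V] [Module F V] [FiniteDimensional F V]

/-- determinant of an endomorphism preserving two complementary subspaces -/
theorem det_split {L P : Submodule F V} (hLP : IsCompl L P) (a : Module.End F V)
    (hL : ∀ v ∈ L, a v ∈ L) (hP : ∀ v ∈ P, a v ∈ P) :
    LinearMap.det a = LinearMap.det (a.restrict hL) * LinearMap.det (a.restrict hP) := by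
  let E := Submodule.prodEquivOfIsCompl L P hLP
  have h1 : a = (E : (L × P) →ₗ[F] V) ∘ₗ
      ((a.restrict hL).prodMap (a.restrict hP)) ∘ₗ (E.symm : V →ₗ[F] (L × P)) := by
    apply LinearMap.ext
    intro v
    obtain ⟨⟨l, p⟩, rfl⟩ := E.surjective v
    have h2 : E (l, p) = (l : V) + (p : V) := Submodule.coe_prodEquivOfIsCompl' L P hLP (l, p)
    simp only [LinearMap.comp_apply, LinearEquiv.coe_coe, LinearEquiv.symm_apply_apply,
      LinearMap.prodMap_apply]
    rw [h2, map_add]
    exact (Submodule.coe_prodEquivOfIsCompl' L P hLP (a.restrict hL l, a.restrict hP p)).symm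
  conv_lhs => rw [h1]
  rw [LinearMap.det_conj, LinearMap.det_prodMap]

/-- determinant of a scalar restriction -/
theorem det_restrict_scalar {L : Submodule F V} (a : Module.End F V) (hL : ∀ v ∈ L, a v ∈ L)
    (α : F) (h : ∀ v ∈ L, a v = α • v) : LinearMap.det (a.restrict hL) = α ^ finrank F L := by
  have h1 : a.restrict hL = α • (LinearMap.id : L →ₗ[F] L) := by
    apply LinearMap.ext
    intro v
    apply Subtype.ext
    exact h v v.2
  rw [h1, LinearMap.det_smul, LinearMap.det_id, mul_one]

end

end Cfsg.Agent.Helper13.SS
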