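import Mathlib
import Cfsg.Agent.Lib.Helper13.SympSemisimple
import Cfsg.Agent.Lib.Helper13.SympReal

set_option autoImplicit false
set_option linter.unusedSectionVars false

/-!
# Semisimple isometries of hermitian-like forms

`V` is a space over a field `K` carrying an involution `σ` which is linear over a subfield `F`;
`B` is an `F`-valued `ε`-symmetric nondegenerate form on `V` with `B (c u) v = B u (σ c v)`,
invariant under a `K`-linear map `A` of finite order prime to the characteristic.  Two such forms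
are isometric by a `K`-linear equivalence commuting with `A`, provided `σ` is non-trivial or `A`
has no eigenvalue `± 1`.
-/

namespace Cfsg.Agent.Helper13.HermSS

open Polynomial Module Cfsg.Agent.Helper13.SS Cfsg.Agent.Helper13.Dual
  Cfsg.Agent.Helper13.SympSS

universe u

section basic
variable {F K : Type*} [Field F] [Field K] [Algebra F K]
variable {V : Type*} [AddCommGroup V] [Module F V] [Module K V] [IsScalarTower F K V]

/-- invariant hermitian-like forms -/
structure HInv (σ : K →ₐ[F] K) (ε : F) (A : Module.End K V) (B : LinearMap.BilinForm F V) :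
    Prop where
  adj : ∀ (c : K) (u v : V), B (c • u) v = B u (σ c • v)
  symm : ∀ u v, B v u = ε * B u v
  nondeg : ∀ u, (∀ v, B u v = 0) → u = 0
  inv : ∀ u v, B (A u) (A v) = B u v

variable {σ : K →ₐ[F] K} {ε : F} {A : Module.End K V} {B : LinearMap.BilinForm F V}

theorem HInv.nondeg_right (h : HInv σ ε A B) (v : V) (hv : ∀ u, B u v = 0) : v = 0 := by
  apply h.nondeg
  intro u
  rw [h.symm, hv, mul_zero]

theorem HInv.adj' (h : HInv σ ε A B) (hσ2 : ∀ x, σ (σ x) = x) (c : K) (u v : V) :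
    B u (c • v) = B (σ c • u) v := by
  rw [h.adj, hσ2]

variable {M : ℕ}

theorem HInv.adj_end (h : HInv σ ε A B) (hM : 1 ≤ M) (hAM : A ^ M = 1) (u v : V) :
    B (A u) v = B u ((A ^ (M - 1)) v) := by
  have h1 : A ((A ^ (M - 1)) v) = v := by
    rw [← Module.End.mul_apply, ← pow_succ', Nat.sub_add_cancel hM, hAM, Module.End.one_apply]
  conv_lhs => rw [← h1]
  exact h.inv u _

theorem HInv.adj_end_right (h : HInv σ ε A B) (hM : 1 ≤ M) (hAM : A ^ M = 1) (u v : V) :
    B u (A v) = B ((A ^ (M - 1)) u) v := by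
  have h1 : A ((A ^ (M - 1)) u) = u := by
    rw [← Module.End.mul_apply, ← pow_succ', Nat.sub_add_cancel hM, hAM, Module.End.one_apply]
  rw [← h.inv ((A ^ (M - 1)) u) v, h1]

theorem HInv.adj_pow (h : HInv σ ε A B) (hM : 1 ≤ M) (hAM : A ^ M = 1) (n : ℕ) (u v : V) :
    B ((A ^ n) u) v = B u (((A ^ (M - 1)) ^ n) v) := by
  induction n generalizing u v with
  | zero => simp
  | succ n ih =>
    rw [pow_succ', Module.End.mul_apply, h.adj_end hM hAM, ih, pow_succ, Module.End.mul_apply]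

theorem HInv.adj_aeval (h : HInv σ ε A B) (hM : 1 ≤ M) (hAM : A ^ M = 1) (P : K[X]) (u v : V) :
    B (aeval A P u) v = B u (aeval (A ^ (M - 1)) (P.map (σ : K →+* K)) v) := by
  induction P using Polynomial.induction_on' with
  | add p q hp hq =>
    rw [Polynomial.map_add, map_add, map_add, LinearMap.add_apply, LinearMap.add_apply, map_add,
      map_add, LinearMap.add_apply, hp, hq]
  | monomial n a =>
    rw [Polynomial.map_monomial, aeval_monomial, aeval_monomial, Module.End.mul_apply,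
      Module.End.mul_apply, Module.algebraMap_end_apply, Module.algebraMap_end_apply, h.adj,
      h.adj_pow hM hAM, map_smul]
    rfl

/-- orthogonality of kernels -/
theorem HInv.orth_of_coprime (h : HInv σ ε A B) (hσ2 : ∀ x, σ (σ x) = x) (hM : 1 ≤ M)
    (hAM : A ^ M = 1) (P Q : K[X])
    (hcop : IsCoprime P ((Q.map (σ : K →+* K)).comp (X ^ (M - 1)))) (u v : V)
    (hu : aeval A P u = 0) (hv : aeval A Q v = 0) : B u v = 0 := by
  obtain ⟨a, b, hab⟩ := hcop
  set A' := A ^ (M - 1) with hA'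
  have hA'' : A' ^ (M - 1) = A := pow_pred_pow_pred A hM hAM
  -- `u = b(A) Qσ(A') u`
  have h1 : u = aeval A ((Q.map (σ : K →+* K)).comp (X ^ (M - 1))) (aeval A b u) := by
    have h3 := congrArg (fun R => aeval A R u) hab
    simp only [map_add, map_mul, map_one, LinearMap.add_apply, Module.End.mul_apply,
      Module.End.one_apply] at h3
    rw [hu, map_zero, zero_add] at h3
    rw [← Module.End.mul_apply, ← map_mul, mul_comm, map_mul, Module.End.mul_apply]
    exact h3.symm
  have h2 : ((Q.map (σ : K →+* K)).map (σ : K →+* K)) = Q := by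
    rw [Polynomial.map_map]
    have : (σ : K →+* K).comp (σ : K →+* K) = RingHom.id K := by
      ext x
      exact hσ2 x
    rw [this, Polynomial.map_id]
  rw [h1, aeval_comp, map_pow, aeval_X, ← hA']
  -- now `B (Qσ(A') w) v = B w (Q(A'^(M-1)) v)`
  have hA'M : A' ^ M = 1 := by
    rw [hA', ← pow_mul, mul_comm, pow_mul, hAM, one_pow]
  have hinv' : HInv σ ε A' B := ⟨h.adj, h.symm, h.nondeg, fun x y => by
    have h5 : ∀ n : ℕ, ∀ x y, B ((A ^ n) x) ((A ^ n) y) = B x y := by
      intro n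
      induction n with
      | zero => intro x y; simp
      | succ n ih =>
        intro x y
        rw [pow_succ', Module.End.mul_apply, Module.End.mul_apply, h.inv, ih]
    exact h5 (M - 1) x y⟩
  rw [hinv'.adj_aeval hM hA'M, h2, hA'', hv, map_zero]

end basic

section cdual
variable {K : Type*} [Field K] {M : ℕ} {σ : K →+* K} {f : K[X]}

/-- the conjugate dual of a polynomial -/
noncomputable def cdual (M : ℕ) (σ : K →+* K) (f : K[X]) : K[X] := (dualPoly M f).map σ

theorem map_map_self (hσ2 : ∀ x, σ (σ x) = x) (g : K[X]) : (g.map σ).map σ = g := by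
  rw [Polynomial.map_map]
  have : σ.comp σ = RingHom.id K := by
    ext x
    exact hσ2 x
  rw [this, Polynomial.map_id]

/-- `σ` as a ring automorphism of `K[X]` -/
noncomputable def mapE (σ : K →+* K) (hσ2 : ∀ x, σ (σ x) = x) : K[X] ≃+* K[X] :=
  RingEquiv.ofRingHom (Polynomial.mapRingHom σ) (Polynomial.mapRingHom σ)
    (RingHom.ext fun p => map_map_self hσ2 p) (RingHom.ext fun p => map_map_self hσ2 p)

theorem mapE_apply (hσ2 : ∀ x, σ (σ x) = x) (g : K[X]) : mapE σ hσ2 g = g.map σ := rfl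

theorem irreducible_map (hσ2 : ∀ x, σ (σ x) = x) {g : K[X]} (hg : Irreducible g) :
    Irreducible (g.map σ) := by
  rw [← mapE_apply hσ2]
  exact (MulEquiv.irreducible_iff (mapE σ hσ2)).2 hg

theorem cdual_monic (hf : Irreducible f) : (cdual M σ f).Monic :=
  (dualPoly_monic hf).map σ

theorem cdual_irreducible (hσ2 : ∀ x, σ (σ x) = x) (hf : Irreducible f) :
    Irreducible (cdual M σ f) :=
  irreducible_map hσ2 (dualPoly_irreducible hf)

theorem cdual_dvd (hf : Irreducible f) (hfm : f ∣ X ^ M - 1) : cdual M σ f ∣ X ^ M - 1 := by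
  have h1 := Polynomial.map_dvd σ (dualPoly_dvd hf hfm)
  rwa [Polynomial.map_sub, Polynomial.map_pow, Polynomial.map_X, Polynomial.map_one] at h1

theorem dvd_comp_map_iff (hσ2 : ∀ x, σ (σ x) = x) (hf : Irreducible f) (g : K[X]) :
    f ∣ (g.map σ).comp (X ^ (M - 1)) ↔ cdual M σ f ∣ g := by
  rw [dvd_comp_iff hf]
  unfold cdual
  conv_rhs => rw [← map_map_self hσ2 g]
  exact (Polynomial.map_dvd_map' σ).symm

theorem cdual_cdual (hσ2 : ∀ x, σ (σ x) = x) (hM : 1 ≤ M) (hf : Irreducible f) (hmon : f.Monic)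
    (hfm : f ∣ X ^ M - 1) : cdual M σ (cdual M σ f) = f := by
  have hirr' := cdual_irreducible (M := M) hσ2 hf
  have h1 : dualPoly M f ∣ f.comp (X ^ (M - 1)) := by
    rw [dvd_comp_iff (dualPoly_irreducible hf), dualPoly_dualPoly hM hf hmon hfm]
  have h2 : cdual M σ f ∣ (f.map σ).comp (X ^ (M - 1)) := by
    have := Polynomial.map_dvd σ h1
    rwa [Polynomial.map_comp, Polynomial.map_pow, Polynomial.map_X] at this
  have h3 : cdual M σ (cdual M σ f) ∣ f := (dvd_comp_map_iff hσ2 hirr' f).1 h2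
  exact Polynomial.eq_of_monic_of_associated (cdual_monic hirr') hmon
    ((cdual_irreducible hσ2 hirr').associated_of_dvd hf h3)

theorem natDegree_cdual (hM : 1 ≤ M) (hf : Irreducible f)
    (hmon : f.Monic) (hfm : f ∣ X ^ M - 1) : (cdual M σ f).natDegree = f.natDegree := by
  unfold cdual
  rw [(dualPoly_monic hf).natDegree_map, natDegree_dualPoly hM hf hmon hfm]

end cdual

section restrict
variable {F K : Type*} [Field F] [Field K] [Algebra F K]
variable {V : Type*} [AddCommGroup V] [Module F V] [Module K V] [IsScalarTower F K V]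
variable {σ : K →ₐ[F] K} {ε : F} {A : Module.End K V} {B : LinearMap.BilinForm F V}

/-- restriction of a form to a `K`-subspace -/
noncomputable def resH (B : LinearMap.BilinForm F V) (W : Submodule K V) :
    LinearMap.BilinForm F W :=
  B.compl₁₂ (W.subtype.restrictScalars F) (W.subtype.restrictScalars F)

theorem resH_apply (B : LinearMap.BilinForm F V) (W : Submodule K V) (u v : W) :
    resH B W u v = B (u : V) (v : V) := rfl

theorem HInv.restrict (h : HInv σ ε A B) {W U : Submodule K V} (hWU : IsCompl W U)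
    (hW : ∀ v ∈ W, A v ∈ W) (horth : ∀ w ∈ W, ∀ u ∈ U, B w u = 0) :
    HInv σ ε (A.restrict hW) (resH B W) where
  adj c u v := h.adj c u v
  symm u v := h.symm u v
  nondeg w hw := by
    apply Subtype.ext
    apply h.nondeg
    intro z
    obtain ⟨a, b, rfl⟩ := exists_decomp hWU z
    rw [map_add, horth w w.2 b b.2, add_zero]
    exact hw a
  inv u v := h.inv u v

/-- glueing isometries along an orthogonal decomposition -/
theorem glue_isometry_H (A : Module.End K V) (B B' : LinearMap.BilinForm F V)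
    {W U : Submodule K V} (hWU : IsCompl W U) (hW : ∀ v ∈ W, A v ∈ W) (hU : ∀ v ∈ U, A v ∈ U)
    (horth : ∀ w ∈ W, ∀ u ∈ U, B w u = 0) (horth' : ∀ w ∈ W, ∀ u ∈ U, B' w u = 0)
    (horth2 : ∀ w ∈ W, ∀ u ∈ U, B u w = 0) (horth2' : ∀ w ∈ W, ∀ u ∈ U, B' u w = 0)
    (ZW : W ≃ₗ[K] W) (ZU : U ≃ₗ[K] U)
    (hZW : ∀ w : W, ZW (A.restrict hW w) = A.restrict hW (ZW w))
    (hZU : ∀ u : U, ZU (A.restrict hU u) = A.restrict hU (ZU u))
    (hBW : ∀ w w' : W, B (ZW w : V) (ZW w' : V) = B' (w : V) (w' : V))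
    (hBU : ∀ u u' : U, B (ZU u : V) (ZU u' : V) = B' (u : V) (u' : V)) :
    ∃ Z : V ≃ₗ[K] V, (∀ v, Z (A v) = A (Z v)) ∧ ∀ u v, B (Z u) (Z v) = B' u v := by
  obtain ⟨Z, hZc, hZ⟩ := glue_equiv A hWU hW hU ZW ZU hZW hZU
  refine ⟨Z, hZc, fun x y => ?_⟩
  obtain ⟨a, b, rfl⟩ := exists_decomp hWU x
  obtain ⟨a', b', rfl⟩ := exists_decomp hWU y
  rw [hZ, hZ]
  simp only [map_add, LinearMap.add_apply]
  rw [horth _ (ZW a).2 _ (ZU b').2, horth2 _ (ZW a').2 _ (ZU b).2, horth' _ a.2 _ b'.2,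
    horth2' _ a'.2 _ b.2, hBW, hBU]

end restrict

section pair
variable {F K : Type*} [Field F] [Field K] [Algebra F K] [FiniteDimensional F K]
variable {V : Type*} [AddCommGroup V] [Module F V] [Module K V] [IsScalarTower F K V]
  [FiniteDimensional K V]
variable {σ : K →ₐ[F] K} {ε : F}

theorem finite_of_tower (W : Submodule K V) : Module.Finite F W :=
  Module.Finite.trans K W

/-- the block consisting of two isotropic invariant subspaces in duality -/
theorem pair_block_H (hσ2 : ∀ x, σ (σ x) = x) (A : Module.End K V) {M : ℕ} (hM : 1 ≤ M)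
    (hAM : A ^ M = 1) (B B' : LinearMap.BilinForm F V) (hB : HInv σ ε A B) (hB' : HInv σ ε A B')
    {W₁ W₂ : Submodule K V} (hc : IsCompl W₁ W₂)
    (hA1 : ∀ v ∈ W₁, A v ∈ W₁) (hA2 : ∀ v ∈ W₂, A v ∈ W₂)
    (h1 : ∀ u ∈ W₁, ∀ v ∈ W₁, B u v = 0) (h1' : ∀ u ∈ W₁, ∀ v ∈ W₁, B' u v = 0)
    (h2 : ∀ u ∈ W₂, ∀ v ∈ W₂, B u v = 0) (h2' : ∀ u ∈ W₂, ∀ v ∈ W₂, B' u v = 0) :
    ∃ Z : V ≃ₗ[K] V, (∀ v, Z (A v) = A (Z v)) ∧ ∀ u v, B (Z u) (Z v) = B' u v := by
  haveI : Module.Finite F W₁ := finite_of_tower W₁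
  haveI : Module.Finite F W₂ := finite_of_tower W₂
  -- the pairings
  let pairL : LinearMap.BilinForm F V → (W₂ →ₗ[F] W₁ →ₗ[F] F) := fun C =>
    C.flip.compl₁₂ (W₂.subtype.restrictScalars F) (W₁.subtype.restrictScalars F)
  let pairR : LinearMap.BilinForm F V → (W₁ →ₗ[F] W₂ →ₗ[F] F) := fun C =>
    C.compl₁₂ (W₁.subtype.restrictScalars F) (W₂.subtype.restrictScalars F)
  have hpairL : ∀ C (y : W₂) (x : W₁), pairL C y x = C (x : V) (y : V) := fun C y x => rfl
  have hpairR : ∀ C (x : W₁) (y : W₂), pairR C x y = C (x : V) (y : V) := fun C x y => rfl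
  have key : ∀ (C : LinearMap.BilinForm F V), HInv σ ε A C → (∀ u ∈ W₂, ∀ v ∈ W₂, C u v = 0) →
      Function.Injective (pairL C) := by
    intro C hC hC2
    rw [← LinearMap.ker_eq_bot, LinearMap.ker_eq_bot']
    intro y hy
    apply Subtype.ext
    apply hC.nondeg_right
    intro z
    obtain ⟨a, b, rfl⟩ := exists_decomp hc z
    rw [map_add, LinearMap.add_apply, hC2 b b.2 y y.2, add_zero, ← hpairL, hy]
    rfl
  have key2 : ∀ (C : LinearMap.BilinForm F V), HInv σ ε A C → (∀ u ∈ W₁, ∀ v ∈ W₁, C u v = 0) →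
      Function.Injective (pairR C) := by
    intro C hC hC1
    rw [← LinearMap.ker_eq_bot, LinearMap.ker_eq_bot']
    intro x hx
    apply Subtype.ext
    apply hC.nondeg
    intro z
    obtain ⟨a, b, rfl⟩ := exists_decomp hc z
    rw [map_add, hC1 x x.2 a a.2, zero_add, ← hpairR, hx]
    rfl
  have hd1 : finrank F W₂ ≤ finrank F W₁ := by
    have := LinearMap.finrank_le_finrank_of_injective (key B hB h2)
    rwa [Subspace.dual_finrank_eq] at this
  have hd2 : finrank F W₁ ≤ finrank F W₂ := by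
    have := LinearMap.finrank_le_finrank_of_injective (key2 B hB h1)
    rwa [Subspace.dual_finrank_eq] at this
  have hd : finrank F W₂ = finrank F (W₁ →ₗ[F] F) := by
    rw [Subspace.dual_finrank_eq]
    omega
  set Φ : W₂ ≃ₗ[F] (W₁ →ₗ[F] F) :=
    LinearMap.linearEquivOfInjective _ (key B hB h2) hd with hΦ
  set Φ' : W₂ ≃ₗ[F] (W₁ →ₗ[F] F) :=
    LinearMap.linearEquivOfInjective _ (key B' hB' h2') hd with hΦ'
  have hΦa : ∀ (y : W₂) (x : W₁), Φ y x = B (x : V) (y : V) := fun y x => rfl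
  have hΦ'a : ∀ (y : W₂) (x : W₁), Φ' y x = B' (x : V) (y : V) := fun y x => rfl
  set Z₂ : W₂ ≃ₗ[F] W₂ := Φ'.trans Φ.symm with hZ₂
  have hZ₂a : ∀ (y : W₂) (x : W₁), B (x : V) (Z₂ y : V) = B' (x : V) (y : V) := by
    intro y x
    rw [← hΦa, ← hΦ'a, hZ₂, LinearEquiv.trans_apply, LinearEquiv.apply_symm_apply]
  have hZ₂c : ∀ y : W₂, Z₂ (A.restrict hA2 y) = A.restrict hA2 (Z₂ y) := by
    intro y
    apply Φ.injective
    apply LinearMap.ext
    intro x
    rw [hΦa, hΦa, hZ₂a]
    show B' (x : V) (A (y : V)) = B (x : V) (A (Z₂ y : V))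
    rw [hB'.adj_end_right hM hAM, hB.adj_end_right hM hAM]
    have hx' : (A ^ (M - 1)) (x : V) ∈ W₁ := pow_mem_of_invariant A hA1 _ _ x.2
    exact (hZ₂a y ⟨_, hx'⟩).symm
  have hZ₂s : ∀ (c : K) (y : W₂), Z₂ (c • y) = c • Z₂ y := by
    intro c y
    apply Φ.injective
    apply LinearMap.ext
    intro x
    rw [hΦa, hΦa, hZ₂a]
    show B' (x : V) (c • (y : V)) = B (x : V) (c • (Z₂ y : V))
    rw [hB'.adj' hσ2, hB.adj' hσ2]
    exact (hZ₂a y (σ c • x)).symm
  let Z₂K : W₂ ≃ₗ[K] W₂ :=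
    { toFun := Z₂
      map_add' := Z₂.map_add
      map_smul' := hZ₂s
      invFun := Z₂.symm
      left_inv := Z₂.left_inv
      right_inv := Z₂.right_inv }
  have hZ₂K : ∀ y, Z₂K y = Z₂ y := fun y => rfl
  obtain ⟨Z, hZc, hZ⟩ := glue_equiv A hc hA1 hA2 (LinearEquiv.refl K W₁) Z₂K (fun w => rfl)
    hZ₂c
  refine ⟨Z, hZc, fun u v => ?_⟩
  obtain ⟨a, b, rfl⟩ := exists_decomp hc u
  obtain ⟨a', b', rfl⟩ := exists_decomp hc v
  rw [hZ, hZ]
  simp only [LinearEquiv.refl_apply, map_add, LinearMap.add_apply, hZ₂K]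
  rw [h1 a a.2 a' a'.2, h2 _ (Z₂ b).2 _ (Z₂ b').2, h1' a a.2 a' a'.2, h2' b b.2 b' b'.2,
    hZ₂a, hB.symm (a' : V) (Z₂ b : V), hZ₂a, hB'.symm (a' : V) (b : V)]

end pair

section selfdual
variable {F K : Type*} [Field F] [Field K] [Algebra F K] [FiniteDimensional F K] [Finite K]

/-- the block of a self-dual irreducible factor -/
theorem selfdual_block_H {V : Type u} [AddCommGroup V] [Module F V] [Module K V]
    [IsScalarTower F K V] [FiniteDimensional K V] {σ : K →ₐ[F] K} (hσ2 : ∀ x, σ (σ x) = x)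
    {ε : F} (hε : ε = 1 ∨ ε = -1) (A : Module.End K V) {M : ℕ} (hM : 1 ≤ M) (hAM : A ^ M = 1)
    (f : K[X]) (hfirr : Irreducible f) (hfM : f ∣ X ^ M - 1)
    (hfd : cdual M (σ : K →+* K) f = f)
    (hne : (∃ c, σ c ≠ c) ∨ AdjoinRoot.root f ^ (M - 1) ≠ AdjoinRoot.root f)
    (hfA : aeval A f = 0)
    (B B' : LinearMap.BilinForm F V) (hB : HInv σ ε A B) (hB' : HInv σ ε A B') :
    ∃ Z : V ≃ₗ[K] V, (∀ v, Z (A v) = A (Z v)) ∧ ∀ u v, B (Z u) (Z v) = B' u v := by
  haveI : Fact (Irreducible f) := ⟨hfirr⟩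
  have h0 : dualPoly M f = f.map (σ : K →+* K) := by
    have := congrArg (fun g => g.map (σ : K →+* K)) hfd
    simp only [cdual] at this
    rwa [map_map_self (σ := (σ : K →+* K)) hσ2] at this
  set s := AdjoinRoot.root f with hs
  have hσ0 : f.eval₂ ((algebraMap K (AdjoinRoot f)).comp (σ : K →+* K)) (s ^ (M - 1)) = 0 := by
    rw [← Polynomial.eval₂_map, ← h0, ← aeval_def]
    exact aeval_inv_dualPoly M f
  set τ₀ : AdjoinRoot f →+* AdjoinRoot f :=
    AdjoinRoot.lift ((algebraMap K (AdjoinRoot f)).comp (σ : K →+* K)) (s ^ (M - 1)) hσ0 with hτ₀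
  have hτ₀root : τ₀ s = s ^ (M - 1) := AdjoinRoot.lift_root hσ0
  have hτ₀of : ∀ c : K, τ₀ (AdjoinRoot.of f c) = AdjoinRoot.of f (σ c) := fun c =>
    AdjoinRoot.lift_of hσ0
  have hτ₀mk : ∀ P : K[X], τ₀ (AdjoinRoot.mk f P) = aeval (s ^ (M - 1)) (P.map (σ : K →+* K)) := by
    intro P
    rw [hτ₀, AdjoinRoot.lift_mk, aeval_def, Polynomial.eval₂_map]
  let τ : AdjoinRoot f →ₐ[F] AdjoinRoot f :=
    { τ₀ with
      commutes' := fun c => by
        show τ₀ (algebraMap F (AdjoinRoot f) c) = algebraMap F (AdjoinRoot f) c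
        rw [IsScalarTower.algebraMap_apply F K (AdjoinRoot f), AdjoinRoot.algebraMap_eq, hτ₀of,
          σ.commutes] }
  have hτ : ∀ x, τ x = τ₀ x := fun x => rfl
  have hτ2 : ∀ x, τ (τ x) = x := by
    let θ : AdjoinRoot f →ₐ[K] AdjoinRoot f :=
      { τ₀.comp τ₀ with
        commutes' := fun c => by
          show τ₀ (τ₀ (algebraMap K (AdjoinRoot f) c)) = algebraMap K (AdjoinRoot f) c
          rw [AdjoinRoot.algebraMap_eq, hτ₀of, hτ₀of, hσ2] }
    have h1 : θ = AlgHom.id K (AdjoinRoot f) := by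
      apply AdjoinRoot.algHom_ext
      show τ₀ (τ₀ s) = s
      rw [hτ₀root, map_pow, hτ₀root, inv_pow_eq_root hM hfM]
    intro x
    exact AlgHom.congr_fun h1 x
  have hτ1 : ∃ x, τ x ≠ x := by
    rcases hne with ⟨c, hc⟩ | h
    · refine ⟨AdjoinRoot.of f c, ?_⟩
      rw [hτ, hτ₀of]
      intro h
      exact hc ((AdjoinRoot.of f).injective h)
    · exact ⟨s, by rw [hτ, hτ₀root]; exact h⟩
  letI := kModule f A hfA
  haveI := kModule_tower f A hfA
  haveI : IsScalarTower F (AdjoinRoot f) V := by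
    apply IsScalarTower.of_algebraMap_smul
    intro c v
    rw [IsScalarTower.algebraMap_apply F K (AdjoinRoot f), algebraMap_smul, algebraMap_smul]
  haveI : Module.Finite K (AdjoinRoot f) := (AdjoinRoot.powerBasis hfirr.ne_zero).finite
  haveI : Finite (AdjoinRoot f) := Module.finite_of_finite K
  haveI : FiniteDimensional (AdjoinRoot f) V := Module.Finite.of_restrictScalars_finite K _ _
  have hroot : ∀ w : V, A w = s • w := fun w => by
    rw [kModule_smul, rho_root]
  have hHerm : ∀ C : LinearMap.BilinForm F V, HInv σ ε A C → Herm.IsHermLike τ ε C := by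
    intro C hC
    refine ⟨?_, hC.symm, hC.nondeg⟩
    intro x u v
    obtain ⟨P, rfl⟩ := AdjoinRoot.mk_surjective x
    have e1 : ∀ w : V, (AdjoinRoot.mk f P) • w = aeval A P w := fun w => rfl
    have e3 : ∀ (Q : K[X]) (w : V), (aeval (s ^ (M - 1)) Q : AdjoinRoot f) • w
        = aeval (A ^ (M - 1)) Q w := by
      intro Q w
      rw [kModule_smul, ← aeval_algHom_apply, map_pow, rho_root]
    rw [e1, hτ, hτ₀mk, e3]
    exact hC.adj_aeval hM hAM P u v
  obtain ⟨T, hT⟩ := Herm.exists_isometry τ hτ2 hτ1 ε hε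
    (finrank (AdjoinRoot f) V) V V B' B rfl rfl (hHerm B' hB') (hHerm B hB)
  refine ⟨T.restrictScalars K, fun v => ?_, fun u v => hT u v⟩
  show T (A v) = A (T v)
  rw [hroot, hroot, map_smul]

end selfdual

section cblock
open scoped Classical
variable {K : Type*} [Field K] {M : ℕ} {σ : K →+* K} {f : K[X]}

theorem cdual_mem (hσ2 : ∀ x, σ (σ x) = x) (hM : 1 ≤ M)
    (hf : f ∈ irrFactors (X ^ M - 1 : K[X])) :
    cdual M σ f ∈ irrFactors (X ^ M - 1 : K[X]) :=
  mem_irrFactors_of_dvd (X_pow_sub_one_monic hM).ne_zero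
    (cdual_irreducible hσ2 (irrFactors_irreducible hf))
    (cdual_monic (irrFactors_irreducible hf))
    (cdual_dvd (irrFactors_irreducible hf) (irrFactors_dvd hf))

/-- the block polynomial -/
noncomputable def cblockPoly (M : ℕ) (σ : K →+* K) (f : K[X]) : K[X] :=
  if cdual M σ f = f then f else f * cdual M σ f

/-- the remaining irreducible factors -/
noncomputable def crestSet (M : ℕ) (σ : K →+* K) (f : K[X]) : Finset K[X] :=
  ((irrFactors (X ^ M - 1 : K[X])).erase f).erase (cdual M σ f)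

/-- the product of the remaining factors -/
noncomputable def crestPoly (M : ℕ) (σ : K →+* K) (f : K[X]) : K[X] := ∏ g ∈ crestSet M σ f, g

theorem cblockPoly_mul_crestPoly (hσ2 : ∀ x, σ (σ x) = x) (hM : 1 ≤ M) (hMF : (M : K) ≠ 0)
    (hf : f ∈ irrFactors (X ^ M - 1 : K[X])) :
    cblockPoly M σ f * crestPoly M σ f = X ^ M - 1 := by
  conv_rhs => rw [← irrFactors_prod (X_pow_sub_one_monic hM) (X_pow_sub_one_squarefree hMF)]
  unfold cblockPoly crestPoly crestSet
  split_ifs with h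
  · rw [h, Finset.erase_idem]
    exact Finset.mul_prod_erase _ (fun x => x) hf
  · have h2 : cdual M σ f ∈ (irrFactors (X ^ M - 1 : K[X])).erase f :=
      Finset.mem_erase.2 ⟨h, cdual_mem hσ2 hM hf⟩
    rw [mul_assoc, Finset.mul_prod_erase _ (fun x => x) h2]
    exact Finset.mul_prod_erase _ (fun x => x) hf

theorem not_dvd_crestPoly (hσ2 : ∀ x, σ (σ x) = x) (hM : 1 ≤ M)
    (hf : f ∈ irrFactors (X ^ M - 1 : K[X])) {g : K[X]}
    (hg : g = f ∨ g = cdual M σ f) : ¬ g ∣ crestPoly M σ f := by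
  have hgS : g ∈ irrFactors (X ^ M - 1 : K[X]) := by
    rcases hg with rfl | rfl
    · exact hf
    · exact cdual_mem hσ2 hM hf
  intro hdvd
  obtain ⟨h, hh, hgh⟩ := (irrFactors_irreducible hgS).prime.exists_mem_finset_dvd hdvd
  have hh' : h ∈ irrFactors (X ^ M - 1 : K[X]) :=
    Finset.mem_of_mem_erase (Finset.mem_of_mem_erase hh)
  have heq : g = h := Polynomial.eq_of_monic_of_associated (irrFactors_monic hgS)
    (irrFactors_monic hh')
    ((irrFactors_irreducible hgS).associated_of_dvd (irrFactors_irreducible hh') hgh)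
  rw [← heq] at hh
  unfold crestSet at hh
  rcases hg with rfl | rfl
  · exact (Finset.mem_erase.1 (Finset.mem_of_mem_erase hh)).1 rfl
  · exact (Finset.mem_erase.1 hh).1 rfl

theorem coprime_cblockPoly_of_not_dvd (hσ2 : ∀ x, σ (σ x) = x) (hf : Irreducible f) {h : K[X]}
    (h1 : ¬ f ∣ h) (h2 : ¬ cdual M σ f ∣ h) : IsCoprime (cblockPoly M σ f) h := by
  unfold cblockPoly
  split_ifs
  · exact hf.coprime_iff_not_dvd.2 h1
  · exact IsCoprime.mul_left (hf.coprime_iff_not_dvd.2 h1)
      ((cdual_irreducible hσ2 hf).coprime_iff_not_dvd.2 h2)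

theorem coprime_cblock_crest (hσ2 : ∀ x, σ (σ x) = x) (hM : 1 ≤ M)
    (hf : f ∈ irrFactors (X ^ M - 1 : K[X])) :
    IsCoprime (cblockPoly M σ f) (crestPoly M σ f) :=
  coprime_cblockPoly_of_not_dvd hσ2 (irrFactors_irreducible hf)
    (not_dvd_crestPoly hσ2 hM hf (Or.inl rfl)) (not_dvd_crestPoly hσ2 hM hf (Or.inr rfl))

theorem coprime_cblock_crest_comp (hσ2 : ∀ x, σ (σ x) = x) (hM : 1 ≤ M)
    (hf : f ∈ irrFactors (X ^ M - 1 : K[X])) :
    IsCoprime (cblockPoly M σ f) (((crestPoly M σ f).map σ).comp (X ^ (M - 1))) := by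
  have hfirr := irrFactors_irreducible hf
  apply coprime_cblockPoly_of_not_dvd hσ2 hfirr
  · rw [dvd_comp_map_iff hσ2 hfirr]
    exact not_dvd_crestPoly hσ2 hM hf (Or.inr rfl)
  · rw [dvd_comp_map_iff hσ2 (cdual_irreducible hσ2 hfirr),
      cdual_cdual hσ2 hM hfirr (irrFactors_monic hf) (irrFactors_dvd hf)]
    exact not_dvd_crestPoly hσ2 hM hf (Or.inl rfl)

theorem dvd_cblockPoly : f ∣ cblockPoly M σ f := by
  unfold cblockPoly
  split_ifs
  · exact dvd_rfl
  · exact dvd_mul_right _ _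

theorem coprime_self_ccomp (hσ2 : ∀ x, σ (σ x) = x)
    (hf : f ∈ irrFactors (X ^ M - 1 : K[X]))
    (hne : cdual M σ f ≠ f) : IsCoprime f ((f.map σ).comp (X ^ (M - 1))) := by
  have hfirr := irrFactors_irreducible hf
  rw [hfirr.coprime_iff_not_dvd, dvd_comp_map_iff hσ2 hfirr]
  intro hd
  exact hne (Polynomial.eq_of_monic_of_associated (cdual_monic hfirr) (irrFactors_monic hf)
    ((cdual_irreducible hσ2 hfirr).associated_of_dvd hfirr hd))

theorem coprime_cdual_ccomp (hσ2 : ∀ x, σ (σ x) = x) (hM : 1 ≤ M)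
    (hf : f ∈ irrFactors (X ^ M - 1 : K[X]))
    (hne : cdual M σ f ≠ f) :
    IsCoprime (cdual M σ f) (((cdual M σ f).map σ).comp (X ^ (M - 1))) := by
  have hfirr := irrFactors_irreducible hf
  have hdirr := cdual_irreducible (M := M) hσ2 hfirr
  rw [hdirr.coprime_iff_not_dvd, dvd_comp_map_iff hσ2 hdirr,
    cdual_cdual hσ2 hM hfirr (irrFactors_monic hf) (irrFactors_dvd hf)]
  intro hd
  exact hne (Polynomial.eq_of_monic_of_associated (cdual_monic hfirr) (irrFactors_monic hf)
    (hfirr.associated_of_dvd hdirr hd).symm)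

theorem coprime_self_cdual (hσ2 : ∀ x, σ (σ x) = x)
    (hf : f ∈ irrFactors (X ^ M - 1 : K[X]))
    (hne : cdual M σ f ≠ f) : IsCoprime f (cdual M σ f) :=
  coprime_of_monic_irreducible' (irrFactors_irreducible hf)
    (cdual_irreducible hσ2 (irrFactors_irreducible hf)) (irrFactors_monic hf)
    (cdual_monic (irrFactors_irreducible hf)) (Ne.symm hne)

end cblock

section main
open scoped Classical
variable {F K : Type*} [Field F] [Field K] [Algebra F K] [FiniteDimensional F K] [Finite K]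

/-- a single block -/
theorem block_H {V : Type u} [AddCommGroup V] [Module F V] [Module K V] [IsScalarTower F K V]
    [FiniteDimensional K V] {σ : K →ₐ[F] K} (hσ2 : ∀ x, σ (σ x) = x) {ε : F}
    (hε : ε = 1 ∨ ε = -1) (A : Module.End K V) {M : ℕ} (hM : 1 ≤ M) (hAM : A ^ M = 1)
    (f : K[X]) (hf : f ∈ irrFactors (X ^ M - 1 : K[X]))
    (hfA : aeval A (cblockPoly M (σ : K →+* K) f) = 0)
    (hgood : (∃ c, σ c ≠ c) ∨ ∀ v : V, A (A v) = v → v = 0)
    (B B' : LinearMap.BilinForm F V) (hB : HInv σ ε A B) (hB' : HInv σ ε A B') :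
    ∃ Z : V ≃ₗ[K] V, (∀ v, Z (A v) = A (Z v)) ∧ ∀ u v, B (Z u) (Z v) = B' u v := by
  have hfirr := irrFactors_irreducible hf
  have hfM := irrFactors_dvd hf
  have hσ2' : ∀ x, (σ : K →+* K) ((σ : K →+* K) x) = x := hσ2
  by_cases hfd : cdual M (σ : K →+* K) f = f
  · have hfA' : aeval A f = 0 := by
      unfold cblockPoly at hfA
      rwa [if_pos hfd] at hfA
    by_cases hsub : Subsingleton V
    · refine ⟨LinearEquiv.refl K V, fun v => rfl, fun u v => ?_⟩
      rw [Subsingleton.elim u 0]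
      simp
    have hne : (∃ c, σ c ≠ c) ∨ AdjoinRoot.root f ^ (M - 1) ≠ AdjoinRoot.root f := by
      rcases hgood with h | h
      · exact Or.inl h
      · right
        intro hroot
        have h1 : AdjoinRoot.root f * AdjoinRoot.root f = 1 := by
          nth_rewrite 2 [← hroot]
          exact root_mul_inv hM hfM
        have h2 : f ∣ X * X - 1 := by
          rw [← AdjoinRoot.mk_eq_zero, map_sub, map_mul, AdjoinRoot.mk_X, map_one, h1, sub_self]
        have h3 : aeval A (X * X - 1 : K[X]) = 0 := by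
          obtain ⟨c, hc⟩ := h2
          rw [hc, map_mul, hfA', zero_mul]
        apply hsub
        have hz : ∀ v : V, v = 0 := by
          intro v
          apply h v
          have := LinearMap.congr_fun h3 v
          rw [map_sub, map_mul, aeval_X, map_one, LinearMap.sub_apply, Module.End.mul_apply,
            Module.End.one_apply, LinearMap.zero_apply, sub_eq_zero] at this
          exact this
        exact ⟨fun a b => by rw [hz a, hz b]⟩
    exact selfdual_block_H hσ2 hε A hM hAM f hfirr hfM hfd hne hfA' B B' hB hB'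
  · have hfA' : aeval A (f * cdual M (σ : K →+* K) f) = 0 := by
      unfold cblockPoly at hfA
      rwa [if_neg hfd] at hfA
    have hc : IsCompl (LinearMap.ker (aeval A f))
        (LinearMap.ker (aeval A (cdual M (σ : K →+* K) f))) :=
      isCompl_ker_aeval A (coprime_self_cdual hσ2' hf hfd) hfA'
    refine pair_block_H hσ2 A hM hAM B B' hB hB' hc (ker_aeval_invariant A f)
      (ker_aeval_invariant A _) ?_ ?_ ?_ ?_
    · intro u hu v hv
      exact hB.orth_of_coprime hσ2 hM hAM f f (coprime_self_ccomp hσ2' hf hfd) u v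
        (LinearMap.mem_ker.1 hu) (LinearMap.mem_ker.1 hv)
    · intro u hu v hv
      exact hB'.orth_of_coprime hσ2 hM hAM f f (coprime_self_ccomp hσ2' hf hfd) u v
        (LinearMap.mem_ker.1 hu) (LinearMap.mem_ker.1 hv)
    · intro u hu v hv
      exact hB.orth_of_coprime hσ2 hM hAM _ _ (coprime_cdual_ccomp hσ2' hM hf hfd) u v
        (LinearMap.mem_ker.1 hu) (LinearMap.mem_ker.1 hv)
    · intro u hu v hv
      exact hB'.orth_of_coprime hσ2 hM hAM _ _ (coprime_cdual_ccomp hσ2' hM hf hfd) u v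
        (LinearMap.mem_ker.1 hu) (LinearMap.mem_ker.1 hv)

/-- two invariant nondegenerate hermitian-like forms of a semisimple endomorphism of finite order
are isometric by an equivalence commuting with the endomorphism -/
theorem exists_commuting_isometry_H {σ : K →ₐ[F] K} (hσ2 : ∀ x, σ (σ x) = x) {ε : F}
    (hε : ε = 1 ∨ ε = -1) (M : ℕ) (hM : 1 ≤ M) (hMF : (M : K) ≠ 0) :
    ∀ (n : ℕ) (V : Type u) [AddCommGroup V] [Module F V] [Module K V] [IsScalarTower F K V]
      [FiniteDimensional K V] (A : Module.End K V) (B B' : LinearMap.BilinForm F V),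
      finrank K V = n → A ^ M = 1 → ((∃ c, σ c ≠ c) ∨ ∀ v : V, A (A v) = v → v = 0) →
      HInv σ ε A B → HInv σ ε A B' →
      ∃ Z : V ≃ₗ[K] V, (∀ v, Z (A v) = A (Z v)) ∧ ∀ u v, B (Z u) (Z v) = B' u v := by
  have hσ2' : ∀ x, (σ : K →+* K) ((σ : K →+* K) x) = x := hσ2
  have hε2 : ε * ε = 1 := by
    rcases hε with h | h <;> rw [h] <;> norm_num
  intro n
  induction n using Nat.strong_induction_on with
  | _ n ih =>
  intro V _ _ _ _ _ A B B' hn hAM hgood hB hB'
  by_cases hn0 : n = 0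
  · haveI : Subsingleton V := Module.finrank_zero_iff.1 (hn.trans hn0)
    refine ⟨LinearEquiv.refl K V, fun v => rfl, fun u v => ?_⟩
    rw [Subsingleton.elim u 0]
    simp
  set S := irrFactors (X ^ M - 1 : K[X]) with hS
  have hXM : aeval A (X ^ M - 1 : K[X]) = 0 := by
    rw [map_sub, map_pow, aeval_X, map_one, hAM, sub_self]
  have hprod : aeval A (∏ f ∈ S, f) = 0 := by
    rw [hS, irrFactors_prod (X_pow_sub_one_monic hM) (X_pow_sub_one_squarefree hMF)]
    exact hXM
  obtain ⟨f, hfS, hfk⟩ : ∃ f ∈ S, kdim A f ≠ 0 := by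
    by_contra hcon
    push Not at hcon
    have := finrank_eq_sum_kdim A S (irrFactors_pairwise_coprime _) hprod
    rw [Finset.sum_eq_zero hcon] at this
    omega
  set P := cblockPoly M (σ : K →+* K) f with hP
  set Q := crestPoly M (σ : K →+* K) f with hQ
  set W := LinearMap.ker (aeval A P) with hWdef
  set U := LinearMap.ker (aeval A Q) with hUdef
  have hWU : IsCompl W U := isCompl_ker_aeval A (coprime_cblock_crest hσ2' hM hfS) (by
    rw [cblockPoly_mul_crestPoly hσ2' hM hMF hfS]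
    exact hXM)
  have hW : ∀ v ∈ W, A v ∈ W := ker_aeval_invariant A P
  have hU : ∀ v ∈ U, A v ∈ U := ker_aeval_invariant A Q
  have horth : ∀ C : LinearMap.BilinForm F V, HInv σ ε A C → ∀ w ∈ W, ∀ u ∈ U, C w u = 0 := by
    intro C hC w hw u hu
    exact hC.orth_of_coprime hσ2 hM hAM P Q (coprime_cblock_crest_comp hσ2' hM hfS) w u
      (LinearMap.mem_ker.1 hw) (LinearMap.mem_ker.1 hu)
  have horth2 : ∀ C : LinearMap.BilinForm F V, HInv σ ε A C → ∀ w ∈ W, ∀ u ∈ U, C u w = 0 := by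
    intro C hC w hw u hu
    rw [hC.symm, horth C hC w hw u hu, mul_zero]
  have hBW := hB.restrict hWU hW (horth B hB)
  have hBW' := hB'.restrict hWU hW (horth B' hB')
  have hBU := hB.restrict hWU.symm hU (fun u hu w hw => horth2 B hB w hw u hu)
  have hBU' := hB'.restrict hWU.symm hU (fun u hu w hw => horth2 B' hB' w hw u hu)
  have hpowres : ∀ (W' : Submodule K V) (hW' : ∀ v ∈ W', A v ∈ W'), (A.restrict hW') ^ M = 1 := by
    intro W' hW'
    have h1 := aeval_restrict_eq_zero A W' hW' (X ^ M - 1) (by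
      rw [hXM, LinearMap.ker_zero]
      exact le_top)
    rwa [map_sub, map_pow, aeval_X, map_one, sub_eq_zero] at h1
  have hgoodres : ∀ (W' : Submodule K V) (hW' : ∀ v ∈ W', A v ∈ W'),
      (∃ c, σ c ≠ c) ∨ ∀ v : W', (A.restrict hW') ((A.restrict hW') v) = v → v = 0 := by
    intro W' hW'
    rcases hgood with h | h
    · exact Or.inl h
    · right
      intro v hv
      apply Subtype.ext
      apply h
      exact congrArg Subtype.val hv
  have hfW : aeval (A.restrict hW) (cblockPoly M (σ : K →+* K) f) = 0 :=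
    aeval_restrict_eq_zero A W hW P le_rfl
  obtain ⟨ZW, hZWc, hZW⟩ := block_H hσ2 hε (A.restrict hW) hM (hpowres W hW) f hfS hfW
    (hgoodres W hW) (resH B W) (resH B' W) hBW hBW'
  have hWpos : 0 < finrank K W := by
    have h1 : LinearMap.ker (aeval A f) ≤ W := ker_aeval_le_of_dvd A dvd_cblockPoly
    have h2 := Submodule.finrank_mono h1
    unfold kdim at hfk
    omega
  have hdim : finrank K W + finrank K U = finrank K V := Submodule.finrank_add_eq_of_isCompl hWU
  obtain ⟨ZU, hZUc, hZU⟩ := ih (finrank K U) (by omega) U (A.restrict hU) (resH B U)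
    (resH B' U) rfl (hpowres U hU) (hgoodres U hU) hBU hBU'
  exact glue_isometry_H A B B' hWU hW hU (horth B hB) (horth B' hB') (horth2 B hB)
    (horth2 B' hB') ZW ZU hZWc hZUc hZW hZU

end main

end Cfsg.Agent.Helper13.HermSS
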