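import Mathlib
import Cfsg.Agent.Lib.Helper13.HermSemisimple

set_option autoImplicit false
set_option linter.unusedSectionVars false

/-!
# Hermitian sesquilinear forms with values in the big field

A `K`-valued hermitian form `H` on a `K`-space, `K` a field with an involution `σ` linear over a
subfield `F`, gives the `F`-valued form `tr ∘ H` for a `σ`-invariant functional `tr`, to which the
results of `HermSemisimple` apply.
-/

namespace Cfsg.Agent.Helper13.Uni

open Module Polynomial Cfsg.Agent.Helper13.HermSS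

universe u

section sesq
variable {F K : Type*} [Field F] [Field K] [Algebra F K]
variable {V : Type*} [AddCommGroup V] [Module F V] [Module K V] [IsScalarTower F K V]

/-- nondegenerate hermitian sesquilinear forms, linear in the first variable -/
structure IsSesq (σ : K →ₐ[F] K) (H : V → V → K) : Prop where
  add_left : ∀ u u' v, H (u + u') v = H u v + H u' v
  smul_left : ∀ (c : K) (u v : V), H (c • u) v = c * H u v
  conj : ∀ u v, H v u = σ (H u v)
  nondeg : ∀ u, (∀ v, H u v = 0) → u = 0

variable {σ : K →ₐ[F] K} {H : V → V → K}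

theorem IsSesq.add_right (h : IsSesq σ H) (u v v' : V) : H u (v + v') = H u v + H u v' := by
  rw [h.conj, h.add_left, map_add, ← h.conj, ← h.conj]

theorem IsSesq.smul_right (h : IsSesq σ H) (c : K) (u v : V) : H u (c • v) = σ c * H u v := by
  rw [h.conj, h.smul_left, map_mul, ← h.conj]

theorem IsSesq.zero_left (h : IsSesq σ H) (v : V) : H 0 v = 0 := by
  have := h.smul_left 0 0 v
  rwa [zero_smul, zero_mul] at this

theorem IsSesq.zero_right (h : IsSesq σ H) (v : V) : H v 0 = 0 := by
  rw [h.conj, h.zero_left, map_zero]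

theorem IsSesq.neg_left (h : IsSesq σ H) (u v : V) : H (-u) v = -H u v := by
  have := h.smul_left (-1) u v
  rwa [neg_one_smul, neg_one_mul] at this

theorem IsSesq.sub_left (h : IsSesq σ H) (u u' v : V) : H (u - u') v = H u v - H u' v := by
  rw [sub_eq_add_neg, h.add_left, h.neg_left, ← sub_eq_add_neg]

theorem IsSesq.sum_left (h : IsSesq σ H) {ι : Type*} (s : Finset ι) (f : ι → V) (v : V) :
    H (∑ i ∈ s, f i) v = ∑ i ∈ s, H (f i) v := by
  classical
  induction s using Finset.induction_on with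
  | empty => simp [h.zero_left]
  | insert a s ha ih => rw [Finset.sum_insert ha, Finset.sum_insert ha, h.add_left, ih]

/-- the trace form -/
noncomputable def trForm (tr : K →ₗ[F] F) (H : V → V → K) (h : IsSesq σ H) :
    LinearMap.BilinForm F V :=
  LinearMap.mk₂ F (fun u v => tr (H u v))
    (fun u u' v => by rw [h.add_left, map_add])
    (fun a u v => by
      rw [← algebraMap_smul K a u, h.smul_left, ← Algebra.smul_def, map_smul])
    (fun u v v' => by rw [h.add_right, map_add])
    (fun a u v => by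
      rw [← algebraMap_smul K a v, h.smul_right, σ.commutes, ← Algebra.smul_def, map_smul])

theorem trForm_apply (tr : K →ₗ[F] F) (h : IsSesq σ H) (u v : V) :
    trForm tr H h u v = tr (H u v) := rfl

theorem eq_zero_of_tr (tr : K →ₗ[F] F) (htr : tr ≠ 0) (d : K) (hd : ∀ c : K, tr (c * d) = 0) :
    d = 0 := by
  by_contra hd0
  apply htr
  apply LinearMap.ext
  intro x
  have := hd (x / d)
  rw [div_mul_cancel₀ x hd0] at this
  rw [this]
  rfl

theorem trForm_hinv (tr : K →ₗ[F] F) (htr : tr ≠ 0) (htrσ : ∀ x, tr (σ x) = tr x)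
    (hσ2 : ∀ x, σ (σ x) = x) (h : IsSesq σ H) (A : Module.End K V)
    (hinv : ∀ u v, H (A u) (A v) = H u v) : HInv σ 1 A (trForm tr H h) where
  adj c u v := by
    rw [trForm_apply, trForm_apply, h.smul_left, h.smul_right, hσ2]
  symm u v := by
    rw [trForm_apply, trForm_apply, h.conj, htrσ, one_mul]
  nondeg u hu := by
    apply h.nondeg
    intro v
    apply eq_zero_of_tr tr htr
    intro c
    have := hu (σ c • v)
    rwa [trForm_apply, h.smul_right, hσ2] at this
  inv u v := by
    rw [trForm_apply, trForm_apply, hinv]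

/-- an isometry of trace forms is an isometry -/
theorem eq_of_trForm_eq (tr : K →ₗ[F] F) (htr : tr ≠ 0) {H' : V → V → K} (h : IsSesq σ H)
    (h' : IsSesq σ H') (Z : V →ₗ[K] V)
    (hZ : ∀ u v, trForm tr H h (Z u) (Z v) = trForm tr H' h' u v) (u v : V) :
    H (Z u) (Z v) = H' u v := by
  rw [← sub_eq_zero]
  apply eq_zero_of_tr tr htr
  intro c
  have := hZ (c • u) v
  rw [trForm_apply, trForm_apply, map_smul, h.smul_left, h'.smul_left] at this
  rw [mul_sub, map_sub, this, sub_self]

/-- the orthogonal of a subspace -/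
def orth (h : IsSesq σ H) (L : Submodule K V) : Submodule K V where
  carrier := {v | ∀ l ∈ L, H l v = 0}
  add_mem' := by
    intro a b ha hb l hl
    rw [h.add_right, ha l hl, hb l hl, add_zero]
  zero_mem' := fun l _ => h.zero_right l
  smul_mem' := by
    intro c v hv l hl
    rw [h.smul_right, hv l hl, mul_zero]

theorem mem_orth (h : IsSesq σ H) (L : Submodule K V) (v : V) :
    v ∈ orth h L ↔ ∀ l ∈ L, H l v = 0 := Iff.rfl

/-- a subspace meeting its orthogonal trivially is complemented by it -/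
theorem isCompl_orth [FiniteDimensional F K] [FiniteDimensional K V] (tr : K →ₗ[F] F)
    (htr : tr ≠ 0) (htrσ : ∀ x, tr (σ x) = tr x) (h : IsSesq σ H) (L : Submodule K V)
    (hd : ∀ v ∈ L, v ∈ orth h L → v = 0) : IsCompl L (orth h L) := by
  have : Module.Finite F V := Module.Finite.trans K V
  set B := trForm tr H h with hB
  have hrefl : B.IsRefl := by
    intro u v huv
    rw [hB, trForm_apply] at huv ⊢
    rw [h.conj, htrσ]
    exact huv
  set W : Submodule F V := L.restrictScalars F with hW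
  have horth : ∀ v, v ∈ B.orthogonal W ↔ v ∈ orth h L := by
    intro v
    rw [LinearMap.BilinForm.mem_orthogonal_iff, mem_orth]
    constructor
    · intro hv l hl
      apply eq_zero_of_tr tr htr
      intro c
      have := hv (c • l) (L.smul_mem c hl)
      rw [hB, trForm_apply, h.smul_left] at this
      exact this
    · intro hv l hl
      rw [hB, trForm_apply, hv l hl, map_zero]
  have hdisj : Disjoint W (B.orthogonal W) := by
    rw [Submodule.disjoint_def]
    intro x hx hx'
    exact hd x hx ((horth x).1 hx')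
  have hc := (LinearMap.BilinForm.isCompl_orthogonal_iff_disjoint hrefl).2 hdisj
  constructor
  · rw [Submodule.disjoint_def]
    exact hd
  · rw [Submodule.codisjoint_iff_exists_add_eq]
    intro z
    obtain ⟨y, z', hy, hz', hyz⟩ := Submodule.codisjoint_iff_exists_add_eq.1 hc.codisjoint z
    exact ⟨y, z', hy, (horth z').1 hz', hyz⟩

/-- existence of anisotropic vectors -/
theorem exists_anisotropic (hσ1 : ∃ c, σ c ≠ c) (h : IsSesq σ H) (W : Submodule K V)
    (hW : ∃ u ∈ W, ∃ v ∈ W, H u v ≠ 0) : ∃ w ∈ W, H w w ≠ 0 := by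
  by_contra hcon
  push Not at hcon
  obtain ⟨u, hu, v, hv, huv⟩ := hW
  obtain ⟨c, hc⟩ := hσ1
  have h1 : ∀ x ∈ W, ∀ y ∈ W, H x y + H y x = 0 := by
    intro x hx y hy
    have := hcon (x + y) (W.add_mem hx hy)
    rw [h.add_left, h.add_right, h.add_right, hcon x hx, hcon y hy] at this
    linear_combination this
  have h2 := h1 u hu v hv
  have h3 := h1 (c • u) (W.smul_mem c hu) v hv
  rw [h.smul_left, h.smul_right] at h3
  have h4 : (c - σ c) * H u v = 0 := by linear_combination h3 - σ c * h2
  rcases mul_eq_zero.1 h4 with h5 | h5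
  · exact hc (sub_eq_zero.1 h5).symm
  · exact huv h5

theorem IsSesq.adj_aeval (tr : K →ₗ[F] F) (htr : tr ≠ 0) (htrσ : ∀ x, tr (σ x) = tr x)
    (hσ2 : ∀ x, σ (σ x) = x) (h : IsSesq σ H) (A : Module.End K V)
    (hinv : ∀ u v, H (A u) (A v) = H u v) {M : ℕ} (hM : 1 ≤ M) (hAM : A ^ M = 1) (P : K[X])
    (u v : V) :
    H (aeval A P u) v = H u (aeval (A ^ (M - 1)) (P.map (σ : K →+* K)) v) := by
  rw [← sub_eq_zero]
  apply eq_zero_of_tr tr htr
  intro c
  have := (trForm_hinv tr htr htrσ hσ2 h A hinv).adj_aeval hM hAM P (c • u) v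
  rw [trForm_apply, trForm_apply, map_smul, h.smul_left, h.smul_left] at this
  rw [mul_sub, map_sub, this, sub_self]

theorem IsSesq.orth_of_coprime (tr : K →ₗ[F] F) (htr : tr ≠ 0) (htrσ : ∀ x, tr (σ x) = tr x)
    (hσ2 : ∀ x, σ (σ x) = x) (h : IsSesq σ H) (A : Module.End K V)
    (hinv : ∀ u v, H (A u) (A v) = H u v) {M : ℕ} (hM : 1 ≤ M) (hAM : A ^ M = 1) (P Q : K[X])
    (hcop : IsCoprime P ((Q.map (σ : K →+* K)).comp (X ^ (M - 1)))) (u v : V)
    (hu : aeval A P u = 0) (hv : aeval A Q v = 0) : H u v = 0 := by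
  apply eq_zero_of_tr tr htr
  intro c
  have := (trForm_hinv tr htr htrσ hσ2 h A hinv).orth_of_coprime hσ2 hM hAM P Q hcop (c • u) v
    (by rw [map_smul, hu, smul_zero]) hv
  rwa [trForm_apply, h.smul_left] at this

/-- a `σ`-invariant nonzero functional -/
theorem exists_tr (σ : K →ₐ[F] K) (hσ2 : ∀ x, σ (σ x) = x) (hσ1 : ∃ c, σ c ≠ c) :
    ∃ tr : K →ₗ[F] F, tr ≠ 0 ∧ ∀ x, tr (σ x) = tr x := by
  obtain ⟨μ, hμ⟩ : ∃ μ, μ + σ μ ≠ 0 := by
    by_cases h2 : (2 : K) = 0
    · obtain ⟨c, hc⟩ := hσ1
      refine ⟨c, fun h => hc ?_⟩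
      linear_combination h - c * h2
    · refine ⟨1, ?_⟩
      rw [map_one]
      intro h
      apply h2
      linear_combination h
  obtain ⟨l, hl⟩ : ∃ l : K →ₗ[F] F, l (μ + σ μ) ≠ 0 := by
    by_contra hcon
    push Not at hcon
    exact hμ ((Module.forall_dual_apply_eq_zero_iff F _).1 hcon)
  refine ⟨l ∘ₗ (LinearMap.id + σ.toLinearMap), ?_, ?_⟩
  · intro h0
    apply hl
    have := LinearMap.congr_fun h0 μ
    simpa using this
  · intro x
    simp only [LinearMap.comp_apply, LinearMap.add_apply, LinearMap.id_apply,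
      AlgHom.toLinearMap_apply, hσ2]
    rw [add_comm]

end sesq

section main
variable {F K : Type*} [Field F] [Field K] [Algebra F K] [FiniteDimensional F K] [Finite K]

/-- two invariant hermitian forms of a semisimple endomorphism of finite order are isometric by an
equivalence commuting with the endomorphism -/
theorem exists_commuting_isometry_sesq {σ : K →ₐ[F] K} (hσ2 : ∀ x, σ (σ x) = x)
    (hσ1 : ∃ c, σ c ≠ c) (tr : K →ₗ[F] F) (htr : tr ≠ 0) (htrσ : ∀ x, tr (σ x) = tr x)
    (M : ℕ) (hM : 1 ≤ M) (hMF : (M : K) ≠ 0)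
    {V : Type u} [AddCommGroup V] [Module F V] [Module K V] [IsScalarTower F K V]
    [FiniteDimensional K V] (A : Module.End K V) (hAM : A ^ M = 1) (H H' : V → V → K)
    (hH : IsSesq σ H) (hH' : IsSesq σ H') (hinv : ∀ u v, H (A u) (A v) = H u v)
    (hinv' : ∀ u v, H' (A u) (A v) = H' u v) :
    ∃ Z : V ≃ₗ[K] V, (∀ v, Z (A v) = A (Z v)) ∧ ∀ u v, H (Z u) (Z v) = H' u v := by
  obtain ⟨Z, hZc, hZ⟩ := exists_commuting_isometry_H hσ2 (Or.inl rfl) M hM hMF _ V A
    (trForm tr H hH) (trForm tr H' hH') rfl hAM (Or.inl hσ1)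
    (trForm_hinv tr htr htrσ hσ2 hH A hinv) (trForm_hinv tr htr htrσ hσ2 hH' A hinv')
  exact ⟨Z, hZc, eq_of_trForm_eq tr htr hH hH' (Z : V →ₗ[K] V) hZ⟩

end main

end Cfsg.Agent.Helper13.Uni
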