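import Mathlib
import Cfsg.Agent.Lib.Helper13.UnitaryForm
import Cfsg.Agent.Lib.Helper13.SemisimpleCharpoly
import Cfsg.Agent.Lib.Helper13.DetSplit

set_option autoImplicit false
set_option linter.unusedSectionVars false
set_option linter.style.haveILetI false

/-!
# Determinants in the centraliser of a semisimple unitary map

For a semisimple isometry `A` of a hermitian space we produce, for every scalar `l`, a normal
endomorphism `Y` commuting with `A` whose determinant is `l`; then `Y (Y^*)⁻¹` is an isometry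
commuting with `A` of determinant `l / σ l`.
-/

namespace Cfsg.Agent.Helper13.Uni

open Module Polynomial Cfsg.Agent.Helper13.SS Cfsg.Agent.Helper13.HermSS
  Cfsg.Agent.Helper13.SympSS Cfsg.Agent.Helper13.Dual

universe u

section glue
variable {K V : Type*} [Field K] [AddCommGroup V] [Module K V]

/-- the endomorphism acting as `E₁` on `L` and as `E₂` on `L'` -/
noncomputable def glueEnd {L L' : Submodule K V} (hc : IsCompl L L') (E₁ E₂ : Module.End K V) :
    Module.End K V :=
  E₁ ∘ₗ (L.subtype ∘ₗ L.linearProjOfIsCompl L' hc) +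
    E₂ ∘ₗ (L'.subtype ∘ₗ L'.linearProjOfIsCompl L hc.symm)

theorem glueEnd_left {L L' : Submodule K V} (hc : IsCompl L L') (E₁ E₂ : Module.End K V) (v : V)
    (hv : v ∈ L) : glueEnd hc E₁ E₂ v = E₁ v := by
  unfold glueEnd
  have h1 : L.linearProjOfIsCompl L' hc v = ⟨v, hv⟩ :=
    Submodule.linearProjOfIsCompl_apply_left hc ⟨v, hv⟩
  have h2 : L'.linearProjOfIsCompl L hc.symm v = 0 :=
    Submodule.linearProjOfIsCompl_apply_right hc.symm ⟨v, hv⟩
  simp [h1, h2]

theorem glueEnd_right {L L' : Submodule K V} (hc : IsCompl L L') (E₁ E₂ : Module.End K V) (v : V)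
    (hv : v ∈ L') : glueEnd hc E₁ E₂ v = E₂ v := by
  unfold glueEnd
  have h1 : L'.linearProjOfIsCompl L hc.symm v = ⟨v, hv⟩ :=
    Submodule.linearProjOfIsCompl_apply_left hc.symm ⟨v, hv⟩
  have h2 : L.linearProjOfIsCompl L' hc v = 0 :=
    Submodule.linearProjOfIsCompl_apply_right hc ⟨v, hv⟩
  simp [h1, h2]

theorem end_ext_of_isCompl {L L' : Submodule K V} (hc : IsCompl L L') (E E' : Module.End K V)
    (h1 : ∀ v ∈ L, E v = E' v) (h2 : ∀ v ∈ L', E v = E' v) : E = E' := by
  apply LinearMap.ext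
  intro z
  obtain ⟨a, b, rfl⟩ := exists_decomp hc z
  rw [map_add, map_add, h1 a a.2, h2 b b.2]

/-- invariance under polynomials -/
theorem aeval_mem_of_invariant (A : Module.End K V) (R : Submodule K V)
    (hR : ∀ v ∈ R, A v ∈ R) (Q : K[X]) (v : V) (hv : v ∈ R) : aeval A Q v ∈ R := by
  have := aeval_restrict_apply A R hR Q ⟨v, hv⟩
  rw [← this]
  exact Submodule.coe_mem _

/-- the cyclic submodule generated by a vector -/
noncomputable def cyc (A : Module.End K V) (w : V) : Submodule K V :=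
  LinearMap.range ((LinearMap.applyₗ w : Module.End K V →ₗ[K] V) ∘ₗ
    (aeval A : K[X] →ₐ[K] Module.End K V).toLinearMap)

theorem mem_cyc (A : Module.End K V) (w v : V) : v ∈ cyc A w ↔ ∃ P : K[X], aeval A P w = v := by
  unfold cyc
  rw [LinearMap.mem_range]
  rfl

theorem self_mem_cyc (A : Module.End K V) (w : V) : w ∈ cyc A w :=
  (mem_cyc A w w).2 ⟨1, by simp⟩

theorem aeval_mem_cyc (A : Module.End K V) (w : V) (P : K[X]) : aeval A P w ∈ cyc A w :=
  (mem_cyc A w _).2 ⟨P, rfl⟩

theorem cyc_invariant (A : Module.End K V) (w : V) : ∀ v ∈ cyc A w, A v ∈ cyc A w := by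
  intro v hv
  obtain ⟨P, rfl⟩ := (mem_cyc A w v).1 hv
  refine (mem_cyc A w _).2 ⟨X * P, ?_⟩
  rw [map_mul, aeval_X, Module.End.mul_apply]

/-- in a simple cyclic module every nonzero invariant subspace contains the generator -/
theorem mem_of_aeval_mem {f : K[X]} (hf : Irreducible f) (A : Module.End K V) (w : V)
    (hw : aeval A f w = 0) (R : Submodule K V) (hR : ∀ v ∈ R, A v ∈ R) (P : K[X])
    (hP : aeval A P w ∈ R) (hne : aeval A P w ≠ 0) : w ∈ R := by
  have hnd : ¬ f ∣ P := by
    rintro ⟨c, rfl⟩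
    apply hne
    rw [mul_comm, map_mul, Module.End.mul_apply, hw, map_zero]
  obtain ⟨a, b, hab⟩ := hf.coprime_iff_not_dvd.2 hnd
  have h1 := congrArg (fun R => aeval A R w) hab
  simp only [map_add, map_mul, map_one, LinearMap.add_apply, Module.End.mul_apply,
    Module.End.one_apply] at h1
  rw [hw, map_zero, zero_add] at h1
  rw [← h1]
  exact aeval_mem_of_invariant A R hR b _ hP

end glue

section main
open scoped Classical
variable {F K : Type*} [Field F] [Field K] [Algebra F K] [FiniteDimensional F K] [Finite K]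
variable {V : Type u} [AddCommGroup V] [Module F V] [Module K V] [IsScalarTower F K V]
  [FiniteDimensional K V]
variable {σ : K →ₐ[F] K} {H : V → V → K}

theorem orth_invariant (h : IsSesq σ H) (A : Module.End K V)
    (hinv : ∀ u v, H (A u) (A v) = H u v) {M : ℕ} (hM : 1 ≤ M) (hAM : A ^ M = 1)
    (L : Submodule K V) (hL : ∀ v ∈ L, A v ∈ L) : ∀ v ∈ orth h L, A v ∈ orth h L := by
  intro v hv l hl
  have h1 : A ((A ^ (M - 1)) l) = l := by
    rw [← Module.End.mul_apply, ← pow_succ', Nat.sub_add_cancel hM, hAM, Module.End.one_apply]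
  rw [← h1, hinv]
  exact hv _ (pow_mem_of_invariant A hL _ l hl)

/-- a nonzero cyclic invariant subspace on which the form is nondegenerate -/
theorem exists_cyclic_nondeg (hσ2 : ∀ x, σ (σ x) = x) (hσ1 : ∃ c, σ c ≠ c)
    (tr : K →ₗ[F] F) (htr : tr ≠ 0) (htrσ : ∀ x, tr (σ x) = tr x)
    (M : ℕ) (hM : 1 ≤ M) (hMF : (M : K) ≠ 0) (A : Module.End K V) (hAM : A ^ M = 1)
    (hH : IsSesq σ H) (hinv : ∀ u v, H (A u) (A v) = H u v) (hV : 0 < finrank K V) :
    ∃ w : V, w ≠ 0 ∧ ∀ v ∈ cyc A w, v ∈ orth hH (cyc A w) → v = 0 := by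
  have hσ2' : ∀ x, (σ : K →+* K) ((σ : K →+* K) x) = x := hσ2
  set S := irrFactors (X ^ M - 1 : K[X]) with hS
  have hXM : aeval A (X ^ M - 1 : K[X]) = 0 := by
    rw [map_sub, map_pow, aeval_X, map_one, hAM, sub_self]
  have hprod : aeval A (∏ f ∈ S, f) = 0 := by
    rw [hS, irrFactors_prod (X_pow_sub_one_monic hM) (X_pow_sub_one_squarefree hMF)]
    exact hXM
  obtain ⟨f, hfS, hfk⟩ : ∃ f ∈ S, kdim A f ≠ 0 := by
    by_contra hcon
    push Not at hcon
    have := finrank_eq_sum_kdim A S (irrFactors_pairwise_coprime _) hprod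
    rw [Finset.sum_eq_zero hcon] at this
    omega
  have hfirr := irrFactors_irreducible hfS
  set P := cblockPoly M (σ : K →+* K) f with hP
  set Q := crestPoly M (σ : K →+* K) f with hQ
  set W := LinearMap.ker (aeval A P) with hWdef
  set U := LinearMap.ker (aeval A Q) with hUdef
  have hWU : IsCompl W U := isCompl_ker_aeval A (coprime_cblock_crest hσ2' hM hfS) (by
    rw [cblockPoly_mul_crestPoly hσ2' hM hMF hfS]
    exact hXM)
  have horth : ∀ w ∈ W, ∀ u ∈ U, H w u = 0 := by
    intro w hw u hu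
    exact hH.orth_of_coprime tr htr htrσ hσ2 A hinv hM hAM P Q
      (coprime_cblock_crest_comp hσ2' hM hfS) w u
      (LinearMap.mem_ker.1 hw) (LinearMap.mem_ker.1 hu)
  have hnondegW : ∀ u ∈ W, u ≠ 0 → ∃ v ∈ W, H u v ≠ 0 := by
    intro u hu hu0
    by_contra hcon
    push Not at hcon
    apply hu0
    apply hH.nondeg
    intro z
    obtain ⟨a, b, rfl⟩ := exists_decomp hWU z
    rw [hH.add_right, hcon a a.2, horth u hu b b.2, add_zero]
  -- a nonzero vector killed by `f`
  obtain ⟨w₁, hw₁, hw₁0⟩ : ∃ w₁ : V, aeval A f w₁ = 0 ∧ w₁ ≠ 0 := by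
    have hpos : 0 < finrank K (LinearMap.ker (aeval A f)) := Nat.pos_of_ne_zero hfk
    obtain ⟨x, hx⟩ := Module.finrank_pos_iff_exists_ne_zero.1 hpos
    exact ⟨x, LinearMap.mem_ker.1 x.2, fun h => hx (Subtype.ext h)⟩
  have hfW : LinearMap.ker (aeval A f) ≤ W := ker_aeval_le_of_dvd A dvd_cblockPoly
  have hRinv : ∀ w : V, ∀ v ∈ cyc A w ⊓ orth hH (cyc A w), A v ∈ cyc A w ⊓ orth hH (cyc A w) := by
    intro w v hv
    exact ⟨cyc_invariant A w v hv.1,
      orth_invariant hH A hinv hM hAM _ (cyc_invariant A w) v hv.2⟩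
  by_cases hfd : cdual M (σ : K →+* K) f = f
  · -- self-dual case
    have hPf : P = f := by
      rw [hP]
      unfold cblockPoly
      rw [if_pos hfd]
    have hWf : W = LinearMap.ker (aeval A f) := by rw [hWdef, hPf]
    obtain ⟨v, hv, huv⟩ := hnondegW w₁ (hfW (LinearMap.mem_ker.2 hw₁)) hw₁0
    obtain ⟨w, hw, hww⟩ := exists_anisotropic hσ1 hH W
      ⟨w₁, hfW (LinearMap.mem_ker.2 hw₁), v, hv, huv⟩
    have hwf : aeval A f w = 0 := by
      rw [hWf] at hw
      exact LinearMap.mem_ker.1 hw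
    refine ⟨w, ?_, ?_⟩
    · intro h0
      rw [h0, hH.zero_left] at hww
      exact hww rfl
    · intro v hv1 hv2
      by_contra hv0
      obtain ⟨R, rfl⟩ := (mem_cyc A w v).1 hv1
      have := mem_of_aeval_mem hfirr A w hwf (cyc A w ⊓ orth hH (cyc A w)) (hRinv w) R
        ⟨hv1, hv2⟩ hv0
      exact hww (this.2 w (self_mem_cyc A w))
  · -- the case of a dual pair
    set f' := cdual M (σ : K →+* K) f with hf'
    have hf'irr : Irreducible f' := cdual_irreducible hσ2' hfirr
    have hPf : P = f * f' := by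
      rw [hP]
      unfold cblockPoly
      rw [if_neg hfd]
    obtain ⟨a, b, hab⟩ := coprime_self_cdual hσ2' hfS hfd
    have hiso1 : ∀ u v : V, aeval A f u = 0 → aeval A f v = 0 → H u v = 0 := by
      intro u v hu hv
      exact hH.orth_of_coprime tr htr htrσ hσ2 A hinv hM hAM f f
        (coprime_self_ccomp hσ2' hfS hfd) u v hu hv
    have hiso2 : ∀ u v : V, aeval A f' u = 0 → aeval A f' v = 0 → H u v = 0 := by
      intro u v hu hv
      exact hH.orth_of_coprime tr htr htrσ hσ2 A hinv hM hAM f' f'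
        (coprime_cdual_ccomp hσ2' hM hfS hfd) u v hu hv
    obtain ⟨v, hv, huv⟩ := hnondegW w₁ (hfW (LinearMap.mem_ker.2 hw₁)) hw₁0
    -- decompose `v`
    have hdec : ∀ z : V, z = aeval A (a * f) z + aeval A (b * f') z := by
      intro z
      have h1 := congrArg (fun R => aeval A R z) hab
      simp only [map_add, map_one, LinearMap.add_apply, Module.End.one_apply] at h1
      exact h1.symm
    have hv' : aeval A (f * f') v = 0 := by
      rw [← hPf]
      exact LinearMap.mem_ker.1 hv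
    set w₂ := aeval A (a * f) v with hw₂def
    have hw₂ : aeval A f' w₂ = 0 := by
      rw [hw₂def, ← Module.End.mul_apply, ← map_mul]
      have : f' * (a * f) = a * (f * f') := by ring
      rw [this, map_mul, Module.End.mul_apply, hv', map_zero]
    have hv1 : aeval A f (aeval A (b * f') v) = 0 := by
      rw [← Module.End.mul_apply, ← map_mul]
      have : f * (b * f') = b * (f * f') := by ring
      rw [this, map_mul, Module.End.mul_apply, hv', map_zero]
    have h12 : H w₁ w₂ ≠ 0 := by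
      intro h0
      apply huv
      rw [hdec v, hH.add_right, h0, hiso1 w₁ _ hw₁ hv1, add_zero]
    -- the two idempotents
    have he1 : ∀ z : V, aeval A f z = 0 → aeval A (b * f') z = z ∧ aeval A (a * f) z = 0 := by
      intro z hz
      have h2 : aeval A (a * f) z = 0 := by
        rw [map_mul, Module.End.mul_apply, hz, map_zero]
      refine ⟨?_, h2⟩
      have h1 := hdec z
      rw [h2, zero_add] at h1
      exact h1.symm
    have he2 : ∀ z : V, aeval A f' z = 0 → aeval A (a * f) z = z ∧ aeval A (b * f') z = 0 := by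
      intro z hz
      have h2 : aeval A (b * f') z = 0 := by
        rw [map_mul, Module.End.mul_apply, hz, map_zero]
      refine ⟨?_, h2⟩
      have h1 := hdec z
      rw [h2, add_zero] at h1
      exact h1.symm
    set w := w₁ + w₂ with hwdef
    have hew1 : aeval A (b * f') w = w₁ := by
      rw [hwdef, map_add, (he1 w₁ hw₁).1, (he2 w₂ hw₂).2, add_zero]
    have hew2 : aeval A (a * f) w = w₂ := by
      rw [hwdef, map_add, (he1 w₁ hw₁).2, (he2 w₂ hw₂).1, zero_add]
    have hw1L : w₁ ∈ cyc A w := by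
      rw [← hew1]
      exact aeval_mem_cyc A w _
    have hw2L : w₂ ∈ cyc A w := by
      rw [← hew2]
      exact aeval_mem_cyc A w _
    refine ⟨w, ?_, ?_⟩
    · intro h0
      apply hw₁0
      rw [← hew1, h0, map_zero]
    · intro v hv1' hv2'
      obtain ⟨R, rfl⟩ := (mem_cyc A w v).1 hv1'
      have hRmem : aeval A R w ∈ cyc A w ⊓ orth hH (cyc A w) := ⟨hv1', hv2'⟩
      have hc1 : aeval A R w₁ = 0 := by
        by_contra hne
        have h1 : aeval A R w₁ ∈ cyc A w ⊓ orth hH (cyc A w) := by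
          have := aeval_mem_of_invariant A _ (hRinv w) (b * f') _ hRmem
          rw [← Module.End.mul_apply, ← map_mul, mul_comm, map_mul, Module.End.mul_apply,
            hew1] at this
          exact this
        have := mem_of_aeval_mem hfirr A w₁ hw₁ _ (hRinv w) R h1 hne
        have h2 := this.2 w₂ hw2L
        rw [hH.conj w₁ w₂, map_eq_zero] at h2
        exact h12 h2
      have hc2 : aeval A R w₂ = 0 := by
        by_contra hne
        have h1 : aeval A R w₂ ∈ cyc A w ⊓ orth hH (cyc A w) := by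
          have := aeval_mem_of_invariant A _ (hRinv w) (a * f) _ hRmem
          rw [← Module.End.mul_apply, ← map_mul, mul_comm, map_mul, Module.End.mul_apply,
            hew2] at this
          exact this
        have := mem_of_aeval_mem hf'irr A w₂ hw₂ _ (hRinv w) R h1 hne
        exact h12 (this.2 w₁ hw1L)
      rw [hwdef, map_add, hc1, hc2, add_zero]

/-- a normal endomorphism of prescribed determinant commuting with a semisimple isometry -/
theorem exists_normal_commuting_det (hσ2 : ∀ x, σ (σ x) = x) (hσ1 : ∃ c, σ c ≠ c)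
    (tr : K →ₗ[F] F) (htr : tr ≠ 0) (htrσ : ∀ x, tr (σ x) = tr x)
    (M : ℕ) (hM : 1 ≤ M) (hMF : (M : K) ≠ 0) (A : Module.End K V) (hAM : A ^ M = 1)
    (hH : IsSesq σ H) (hinv : ∀ u v, H (A u) (A v) = H u v) (hV : 0 < finrank K V) (l : K) :
    ∃ Y Y' : Module.End K V, Y * A = A * Y ∧ Y' * A = A * Y' ∧ Y * Y' = Y' * Y ∧
      (∀ u v, H (Y u) v = H u (Y' v)) ∧ LinearMap.det Y = l := by
  obtain ⟨w, hw0, hwd⟩ := exists_cyclic_nondeg hσ2 hσ1 tr htr htrσ M hM hMF A hAM hH hinv hV
  set L := cyc A w with hLdef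
  set L' := orth hH L with hL'def
  have hc : IsCompl L L' := isCompl_orth tr htr htrσ hH L hwd
  have hL : ∀ v ∈ L, A v ∈ L := cyc_invariant A w
  have hL' : ∀ v ∈ L', A v ∈ L' := orth_invariant hH A hinv hM hAM L hL
  set S := irrFactors (X ^ M - 1 : K[X]) with hS
  have hXM : aeval A (X ^ M - 1 : K[X]) = 0 := by
    rw [map_sub, map_pow, aeval_X, map_one, hAM, sub_self]
  have hprodL : aeval (A.restrict hL) (∏ f ∈ S, f) = 0 := by
    rw [hS, irrFactors_prod (X_pow_sub_one_monic hM) (X_pow_sub_one_squarefree hMF)]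
    apply aeval_restrict_eq_zero A L hL (X ^ M - 1)
    rw [hXM, LinearMap.ker_zero]
    exact le_top
  have hwL : w ∈ L := self_mem_cyc A w
  have hLpos : 0 < finrank K L :=
    Module.finrank_pos_iff_exists_ne_zero.2 ⟨⟨w, hwL⟩, fun h => hw0 (congrArg Subtype.val h)⟩
  obtain ⟨c, hcA, hcdet⟩ := exists_commute_det S (fun f hf => irrFactors_irreducible hf)
    (fun f hf => irrFactors_monic hf) (A.restrict hL) hprodL hLpos l
  obtain ⟨P, hP⟩ := (mem_cyc A w _).1 (c ⟨w, hwL⟩).2
  have hpolycomm : ∀ (P Q : K[X]) (v : V), aeval A P (aeval A Q v) = aeval A Q (aeval A P v) := by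
    intro P Q v
    rw [← Module.End.mul_apply, ← Module.End.mul_apply, ← map_mul, ← map_mul, mul_comm]
  have hcP : ∀ x : L, ((c x : L) : V) = aeval A P (x : V) := by
    intro x
    obtain ⟨Q, hQ⟩ := (mem_cyc A w _).1 x.2
    have hx : x = aeval (A.restrict hL) Q ⟨w, hwL⟩ := by
      apply Subtype.ext
      rw [aeval_restrict_apply]
      exact hQ.symm
    rw [hx, aeval_intertwine c (A.restrict hL) (A.restrict hL) (fun y => by
      rw [← Module.End.mul_apply, hcA, Module.End.mul_apply]) Q, aeval_restrict_apply,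
      aeval_restrict_apply, ← hP]
    exact hpolycomm Q P w
  set Pd := (P.map (σ : K →+* K)).comp (X ^ (M - 1)) with hPd
  have hPdA : aeval A Pd = aeval (A ^ (M - 1)) (P.map (σ : K →+* K)) := by
    rw [hPd, aeval_comp, map_pow, aeval_X]
  set Y := glueEnd hc (aeval A P) 1 with hY
  set Y' := glueEnd hc (aeval A Pd) 1 with hY'
  have hYL : ∀ v ∈ L, Y v = aeval A P v := fun v hv => glueEnd_left hc _ _ v hv
  have hYL' : ∀ v ∈ L', Y v = v := fun v hv => by
    rw [hY, glueEnd_right hc _ _ v hv]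
    rfl
  have hY'L : ∀ v ∈ L, Y' v = aeval A Pd v := fun v hv => glueEnd_left hc _ _ v hv
  have hY'L' : ∀ v ∈ L', Y' v = v := fun v hv => by
    rw [hY', glueEnd_right hc _ _ v hv]
    rfl
  have hAcomm : ∀ (Q : K[X]) (v : V), aeval A Q (A v) = A (aeval A Q v) := fun Q v =>
    (aeval_intertwine A A A (fun _ => rfl) Q v).symm
  have hmemL : ∀ (Q : K[X]), ∀ v ∈ L, aeval A Q v ∈ L := fun Q v hv =>
    aeval_mem_of_invariant A L hL Q v hv
  refine ⟨Y, Y', ?_, ?_, ?_, ?_, ?_⟩
  · apply end_ext_of_isCompl hc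
    · intro v hv
      rw [Module.End.mul_apply, Module.End.mul_apply, hYL _ (hL v hv), hYL v hv, hAcomm]
    · intro v hv
      rw [Module.End.mul_apply, Module.End.mul_apply, hYL' _ (hL' v hv), hYL' v hv]
  · apply end_ext_of_isCompl hc
    · intro v hv
      rw [Module.End.mul_apply, Module.End.mul_apply, hY'L _ (hL v hv), hY'L v hv, hAcomm]
    · intro v hv
      rw [Module.End.mul_apply, Module.End.mul_apply, hY'L' _ (hL' v hv), hY'L' v hv]
  · apply end_ext_of_isCompl hc
    · intro v hv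
      rw [Module.End.mul_apply, Module.End.mul_apply, hY'L v hv, hYL v hv,
        hYL _ (hmemL Pd v hv), hY'L _ (hmemL P v hv)]
      exact hpolycomm P Pd v
    · intro v hv
      rw [Module.End.mul_apply, Module.End.mul_apply, hY'L' v hv, hYL' v hv, hY'L' v hv]
  · intro u v
    obtain ⟨a, b, rfl⟩ := exists_decomp hc u
    obtain ⟨a', b', rfl⟩ := exists_decomp hc v
    have hba' : ∀ (x : V), x ∈ L → H (b : V) x = 0 := by
      intro x hx
      rw [hH.conj, b.2 x hx, map_zero]
    rw [map_add, map_add, hYL a a.2, hYL' b b.2, hY'L a' a'.2, hY'L' b' b'.2,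
      hH.add_left, hH.add_right, hH.add_right, hH.add_left, hH.add_right, hH.add_right,
      b'.2 _ (hmemL P a a.2), hba' a' a'.2, b'.2 a a.2, hba' _ (hmemL Pd a' a'.2), hPdA,
      hH.adj_aeval tr htr htrσ hσ2 A hinv hM hAM P]
  · have h1 : ∀ v ∈ L, Y v ∈ L := fun v hv => by
      rw [hYL v hv]
      exact hmemL P v hv
    have h2 : ∀ v ∈ L', Y v ∈ L' := fun v hv => by
      rw [hYL' v hv]
      exact hv
    rw [det_split hc Y h1 h2]
    have h3 : Y.restrict h1 = c := by
      apply LinearMap.ext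
      intro x
      apply Subtype.ext
      rw [hcP]
      exact hYL x x.2
    have h4 : Y.restrict h2 = LinearMap.id := by
      apply LinearMap.ext
      intro x
      apply Subtype.ext
      exact hYL' x x.2
    rw [h3, h4, hcdet, LinearMap.det_id, mul_one]

/-- an isometry commuting with a semisimple isometry, whose determinant is `l / σ l` -/
theorem exists_commuting_isometry_det (hσ2 : ∀ x, σ (σ x) = x) (hσ1 : ∃ c, σ c ≠ c)
    (tr : K →ₗ[F] F) (htr : tr ≠ 0) (htrσ : ∀ x, tr (σ x) = tr x)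
    (M : ℕ) (hM : 1 ≤ M) (hMF : (M : K) ≠ 0) (A : Module.End K V) (hAM : A ^ M = 1)
    (hH : IsSesq σ H) (hinv : ∀ u v, H (A u) (A v) = H u v) (hV : 0 < finrank K V) (l : K)
    (hl : l ≠ 0) :
    ∃ (Z : V ≃ₗ[K] V) (Y Y' : Module.End K V), (∀ v, Z (A v) = A (Z v)) ∧
      (∀ u v, H (Z u) (Z v) = H u v) ∧ (∀ u v, H (Y u) v = H u (Y' v)) ∧
      LinearMap.det Y = l ∧ ∀ v, Y' (Z v) = Y v := by
  obtain ⟨Y, Y', hYA, hY'A, hYY', hadj, hdet⟩ := exists_normal_commuting_det hσ2 hσ1 tr htr htrσ
    M hM hMF A hAM hH hinv hV l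
  have hYdet : LinearMap.det Y ≠ 0 := by rw [hdet]; exact hl
  set Ye : V ≃ₗ[K] V := LinearMap.equivOfDetNeZero Y hYdet with hYe
  have hYe' : ∀ v, Ye v = Y v := fun v => rfl
  have hY'inj : Function.Injective Y' := by
    rw [← LinearMap.ker_eq_bot, LinearMap.ker_eq_bot']
    intro v hv
    apply hH.nondeg
    intro u
    obtain ⟨x, rfl⟩ := Ye.surjective u
    rw [hH.conj, hYe', hadj, hv, hH.zero_right, map_zero]
  set Ye' : V ≃ₗ[K] V := LinearEquiv.ofInjectiveEndo Y' hY'inj with hYe'def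
  have hYe'a : ∀ v, Ye' v = Y' v := fun v => rfl
  have hcomm : ∀ v, Y (Y' v) = Y' (Y v) := fun v => by
    rw [← Module.End.mul_apply, hYY', Module.End.mul_apply]
  have hsymmA : ∀ v, Ye'.symm (A v) = A (Ye'.symm v) := by
    intro v
    apply Ye'.injective
    rw [Ye'.apply_symm_apply, hYe'a, ← Module.End.mul_apply, hY'A, Module.End.mul_apply,
      ← hYe'a, Ye'.apply_symm_apply]
  refine ⟨Ye'.symm.trans Ye, Y, Y', ?_, ?_, hadj, hdet, ?_⟩
  · intro v
    rw [LinearEquiv.trans_apply, LinearEquiv.trans_apply, hsymmA, hYe', hYe',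
      ← Module.End.mul_apply, hYA, Module.End.mul_apply]
  · intro u v
    rw [LinearEquiv.trans_apply, LinearEquiv.trans_apply, hYe', hYe', hadj, ← hcomm, ← hYe'a,
      Ye'.apply_symm_apply, hH.conj, hadj, ← hYe'a, Ye'.apply_symm_apply, ← hH.conj]
  · intro v
    rw [LinearEquiv.trans_apply, hYe', ← hcomm, ← hYe'a, Ye'.apply_symm_apply]

end main

end Cfsg.Agent.Helper13.Uni
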