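import Mathlib
import Cfsg.Prelude.Def_Classical
import Cfsg.Prelude.Def_LieClassical
import Cfsg.Agent.Lib.Helper11.Unitary
import Cfsg.Agent.Lib.Helper13.UnitaryDet
import Cfsg.Agent.Lib.Helper13.FieldInvolution
import Cfsg.Agent.Lib.Helper13.SemisimpleCharpolyGL

set_option autoImplicit false
set_option linter.unusedSectionVars false
set_option linter.style.haveILetI false

/-!
# Semisimple unitary matrices: conjugacy and determinants of centralising elements
-/

namespace Cfsg.Agent.Helper13.Uni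

open Module Polynomial Cfsg.Agent.Helper11.Herm

/-- matrices preserving the standard hermitian form -/
def Pres (q : ℕ) {K : Type*} [Field K] {n : ℕ} (y : Matrix (Fin n) (Fin n) K) : Prop :=
  ∀ u v, Cfsg.hermForm n K q (y.mulVec u) (y.mulVec v) = Cfsg.hermForm n K q u v

section general
variable {F K : Type*} [Field F] [Field K] [Algebra F K] {q : ℕ}

theorem q_ne_zero_of_frob (σ : K →ₐ[F] K) (hσ : ∀ x, σ x = x ^ q) : q ≠ 0 := by
  rintro rfl
  have := hσ 0
  simp at this

theorem hermForm_isSesq (σ : K →ₐ[F] K) (hσ : ∀ x, σ x = x ^ q) (hσ2 : ∀ x, σ (σ x) = x)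
    (n : ℕ) : IsSesq σ (Cfsg.hermForm n K q) where
  add_left u u' v := by
    unfold Cfsg.hermForm
    rw [← Finset.sum_add_distrib]
    exact Finset.sum_congr rfl (fun i _ => by rw [Pi.add_apply, add_mul])
  smul_left c u v := by
    unfold Cfsg.hermForm
    rw [Finset.mul_sum]
    exact Finset.sum_congr rfl (fun i _ => by rw [Pi.smul_apply, smul_eq_mul, mul_assoc])
  conj u v := by
    unfold Cfsg.hermForm
    rw [map_sum]
    refine Finset.sum_congr rfl (fun i _ => ?_)
    rw [map_mul, ← hσ (v i), hσ2, hσ (u i)]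
    exact mul_comm _ _
  nondeg u hu := by
    have hq := q_ne_zero_of_frob σ hσ
    funext i
    have := hu (Pi.single i 1)
    unfold Cfsg.hermForm at this
    rw [Finset.sum_eq_single i] at this
    · simpa using this
    · intro j _ hji
      rw [Pi.single_eq_of_ne hji, zero_pow hq, mul_zero]
    · intro h
      exact absurd (Finset.mem_univ i) h

variable [Finite K]

/-- a linear intertwiner between semisimple unitary matrices can be replaced by a unitary one -/
theorem exists_unitary_conj_aux (σ : K →ₐ[F] K) (hσ : ∀ x, σ x = x ^ q)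
    (hσ2 : ∀ x, σ (σ x) = x) (hσ1 : ∃ c, σ c ≠ c) (n : ℕ) (a b : Matrix (Fin n) (Fin n) K)
    (ha : Pres q a) (hb : Pres q b) (M : ℕ) (hM : 1 ≤ M) (hMF : (M : K) ≠ 0) (haM : a ^ M = 1)
    (T : (Fin n → K) ≃ₗ[K] (Fin n → K)) (hT : ∀ v, T (a.mulVec v) = b.mulVec (T v)) :
    ∃ y : Matrix (Fin n) (Fin n) K, Pres q y ∧ y * a = b * y := by
  haveI : FiniteDimensional F K := Module.Finite.of_finite
  obtain ⟨tr, htr, htrσ⟩ := exists_tr σ hσ2 hσ1
  set H := Cfsg.hermForm n K q with hHdef
  have hH : IsSesq σ H := hermForm_isSesq σ hσ hσ2 n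
  set A : Module.End K (Fin n → K) := Matrix.toLinAlgEquiv' a with hAdef
  have hA : ∀ v, A v = a.mulVec v := fun v => Matrix.toLinAlgEquiv'_apply _ _
  have hAM : A ^ M = 1 := by
    rw [hAdef, ← map_pow, haM, map_one]
  set H' : (Fin n → K) → (Fin n → K) → K := fun u v => H (T u) (T v) with hH'def
  have hH' : IsSesq σ H' := by
    refine ⟨fun u u' v => ?_, fun c u v => ?_, fun u v => ?_, fun u hu => ?_⟩
    · show H (T (u + u')) (T v) = H (T u) (T v) + H (T u') (T v)
      rw [map_add, hH.add_left]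
    · show H (T (c • u)) (T v) = c * H (T u) (T v)
      rw [map_smul, hH.smul_left]
    · exact hH.conj _ _
    · apply T.injective
      rw [map_zero]
      apply hH.nondeg
      intro w
      have := hu (T.symm w)
      simp only [hH'def, T.apply_symm_apply] at this
      exact this
  have hinv : ∀ u v, H (A u) (A v) = H u v := by
    intro u v
    rw [hA, hA]
    exact ha u v
  have hinv' : ∀ u v, H' (A u) (A v) = H' u v := by
    intro u v
    show H (T (A u)) (T (A v)) = H (T u) (T v)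
    rw [hA, hA, hT, hT]
    exact hb _ _
  obtain ⟨Z, hZc, hZ⟩ := exists_commuting_isometry_sesq hσ2 hσ1 tr htr htrσ M hM hMF A hAM H H'
    hH hH' hinv hinv'
  set Y : (Fin n → K) →ₗ[K] (Fin n → K) :=
    (T : (Fin n → K) →ₗ[K] (Fin n → K)) ∘ₗ (Z.symm : (Fin n → K) →ₗ[K] (Fin n → K)) with hY
  set y := LinearMap.toMatrix' Y with hydef
  have hy : ∀ v, y.mulVec v = T (Z.symm v) := by
    intro v
    rw [hydef, LinearMap.toMatrix'_mulVec]
    rfl
  have hZs : ∀ v, Z.symm (A v) = A (Z.symm v) := by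
    intro v
    apply Z.injective
    rw [Z.apply_symm_apply, hZc, Z.apply_symm_apply]
  refine ⟨y, ?_, ?_⟩
  · intro u v
    rw [hy, hy]
    have := hZ (Z.symm u) (Z.symm v)
    rw [Z.apply_symm_apply, Z.apply_symm_apply] at this
    exact this.symm
  · apply Matrix.toLin'.injective
    apply LinearMap.ext
    intro v
    rw [Matrix.toLin'_mul, Matrix.toLin'_mul, LinearMap.comp_apply, LinearMap.comp_apply,
      Matrix.toLin'_apply, Matrix.toLin'_apply, Matrix.toLin'_apply, Matrix.toLin'_apply,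
      hy, hy, ← hA, hZs, hA, hT]

/-- the determinant is surjective from the unitary centraliser of a semisimple unitary matrix
onto the elements of norm one -/
theorem exists_unitary_commute_det_aux (σ : K →ₐ[F] K) (hσ : ∀ x, σ x = x ^ q)
    (hσ2 : ∀ x, σ (σ x) = x) (hσ1 : ∃ c, σ c ≠ c) (n : ℕ) (hn : 1 ≤ n)
    (a : Matrix (Fin n) (Fin n) K) (ha : Pres q a) (M : ℕ) (hM : 1 ≤ M) (hMF : (M : K) ≠ 0)
    (haM : a ^ M = 1) (δ : K) (hδ : δ * σ δ = 1) :
    ∃ c : Matrix (Fin n) (Fin n) K, Pres q c ∧ c * a = a * c ∧ c.det = δ := by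
  haveI : FiniteDimensional F K := Module.Finite.of_finite
  obtain ⟨tr, htr, htrσ⟩ := exists_tr σ hσ2 hσ1
  have hσ2' : ∀ x, (σ : K →+* K) ((σ : K →+* K) x) = x := hσ2
  have hσ1' : ∃ x, (σ : K →+* K) x ≠ x := hσ1
  obtain ⟨l, hl0, hl⟩ := Herm.exists_of_norm_one (σ : K →+* K) hσ2' hσ1' δ hδ
  have hl' : δ * σ l = l := hl
  set H := Cfsg.hermForm n K q with hHdef
  have hH : IsSesq σ H := hermForm_isSesq σ hσ hσ2 n
  set A : Module.End K (Fin n → K) := Matrix.toLinAlgEquiv' a with hAdef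
  have hA : ∀ v, A v = a.mulVec v := fun v => Matrix.toLinAlgEquiv'_apply _ _
  have hAM : A ^ M = 1 := by
    rw [hAdef, ← map_pow, haM, map_one]
  have hinv : ∀ u v, H (A u) (A v) = H u v := by
    intro u v
    rw [hA, hA]
    exact ha u v
  have hV : 0 < finrank K (Fin n → K) := by
    rw [Module.finrank_fin_fun]
    exact hn
  obtain ⟨Z, Y, Y', hZA, hZ, hadj, hdet, hY'Z⟩ := exists_commuting_isometry_det hσ2 hσ1 tr htr
    htrσ M hM hMF A hAM hH hinv hV l hl0
  set c := LinearMap.toMatrix' (Z : (Fin n → K) →ₗ[K] (Fin n → K)) with hcdef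
  set y := LinearMap.toMatrix' Y with hydef
  set y' := LinearMap.toMatrix' Y' with hy'def
  have hc : ∀ v, c.mulVec v = Z v := by
    intro v
    rw [hcdef, LinearMap.toMatrix'_mulVec]
    rfl
  have hy : ∀ v, y.mulVec v = Y v := fun v => LinearMap.toMatrix'_mulVec _ _
  have hy' : ∀ v, y'.mulVec v = Y' v := fun v => LinearMap.toMatrix'_mulVec _ _
  have hydet : y.det = l := by
    rw [hydef, LinearMap.det_toMatrix']
    exact hdet
  have hyc : y' * c = y := by
    rw [hy'def, hcdef, hydef, ← LinearMap.toMatrix'_comp]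
    congr 1
    apply LinearMap.ext
    intro v
    exact hY'Z v
  have hyy' : y = (y'.map (σ : K →+* K)).transpose := by
    ext i j
    have h1 := hadj (Pi.single j 1) (Pi.single i 1)
    rw [← hy, ← hy', hHdef, hermForm_eq_hdot (σ : K →+* K) hσ, hermForm_eq_hdot (σ : K →+* K) hσ,
      hdot_single_right, hdot_single_left, Matrix.mulVec_single_one, Matrix.mulVec_single_one]
      at h1
    rw [Matrix.transpose_apply, Matrix.map_apply]
    exact h1
  have hy'det : y'.det = σ l := by
    have h1 : y.det = σ y'.det := by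
      rw [hyy', Matrix.det_transpose]
      exact ((σ : K →+* K).map_det y').symm
    rw [← hydet, h1, hσ2]
  have hσl : σ l ≠ 0 := by
    rw [Ne, map_eq_zero]
    exact hl0
  refine ⟨c, ?_, ?_, ?_⟩
  · intro u v
    rw [hc, hc]
    exact hZ u v
  · apply Matrix.toLin'.injective
    apply LinearMap.ext
    intro v
    rw [Matrix.toLin'_mul, Matrix.toLin'_mul, LinearMap.comp_apply, LinearMap.comp_apply,
      Matrix.toLin'_apply, Matrix.toLin'_apply, Matrix.toLin'_apply, Matrix.toLin'_apply,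
      hc, hc, ← hA, hZA, hA]
  · have h1 := congrArg Matrix.det hyc
    rw [Matrix.det_mul, hydet, hy'det] at h1
    have h2 : σ l * c.det = σ l * δ := by
      rw [h1, mul_comm, hl']
    exact mul_left_cancel₀ hσl h2

end general

section concrete
variable {K : Type*} [Field K] [Fintype K] {q : ℕ}

/-- the Frobenius `x ↦ x ^ q` of a field with `q ^ 2` elements as an algebra map over the prime
field -/
theorem exists_frobAlg (hK : Fintype.card K = q ^ 2) (p : ℕ) [Fact p.Prime] [CharP K p] :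
    letI := ZMod.algebra K p
    ∃ σ : K →ₐ[ZMod p] K, (∀ x, σ x = x ^ q) ∧ (∀ x, σ (σ x) = x) ∧ ∃ c, σ c ≠ c := by
  letI := ZMod.algebra K p
  obtain ⟨φ, hφ⟩ := exists_frob hK
  let σ : K →ₐ[ZMod p] K :=
    { φ with
      commutes' := fun c => by
        obtain ⟨m, rfl⟩ := ZMod.natCast_zmod_surjective c
        show φ (algebraMap (ZMod p) K (m : ZMod p)) = algebraMap (ZMod p) K (m : ZMod p)
        rw [map_natCast, map_natCast] }
  have hσ : ∀ x, σ x = x ^ q := hφ
  refine ⟨σ, hσ, fun x => frob_frob hK φ hφ x, ?_⟩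
  by_contra hcon
  push Not at hcon
  have hq := two_le_q hK
  obtain ⟨ζ, hζ⟩ := IsCyclic.exists_generator (α := Kˣ)
  have h1 : (ζ : K) ^ q = ζ := by rw [← hσ, hcon]
  have h3 : ζ ^ (q - 1) = 1 := by
    apply Units.ext
    rw [Units.val_pow_eq_pow_val, Units.val_one]
    have : (ζ : K) ^ (q - 1) * (ζ : K) = 1 * (ζ : K) := by
      rw [← pow_succ, Nat.sub_add_cancel (by omega), h1, one_mul]
    exact mul_right_cancel₀ ζ.ne_zero this
  have h4 := orderOf_dvd_of_pow_eq_one h3
  rw [orderOf_eq_card_of_forall_mem_zpowers hζ, card_units_eq hK] at h4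
  have h5 := Nat.le_of_dvd (by omega) h4
  have h6 : q < q ^ 2 := by nlinarith
  omega

theorem exists_unitary_conj (hK : Fintype.card K = q ^ 2) (p : ℕ) [Fact p.Prime] [CharP K p]
    (n : ℕ) (a b : Matrix (Fin n) (Fin n) K)
    (ha : Pres q a) (hb : Pres q b) (M : ℕ) (hM : 1 ≤ M) (hMF : (M : K) ≠ 0) (haM : a ^ M = 1)
    (T : (Fin n → K) ≃ₗ[K] (Fin n → K)) (hT : ∀ v, T (a.mulVec v) = b.mulVec (T v)) :
    ∃ y : Matrix (Fin n) (Fin n) K, Pres q y ∧ y * a = b * y := by
  letI := ZMod.algebra K p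
  obtain ⟨σ, hσ, hσ2, hσ1⟩ := exists_frobAlg hK p
  exact exists_unitary_conj_aux σ hσ hσ2 hσ1 n a b ha hb M hM hMF haM T hT

theorem exists_unitary_commute_det (hK : Fintype.card K = q ^ 2) (p : ℕ) [Fact p.Prime]
    [CharP K p] (n : ℕ) (hn : 1 ≤ n)
    (a : Matrix (Fin n) (Fin n) K) (ha : Pres q a) (M : ℕ) (hM : 1 ≤ M) (hMF : (M : K) ≠ 0)
    (haM : a ^ M = 1) (δ : K) (hδ : δ * δ ^ q = 1) :
    ∃ c : Matrix (Fin n) (Fin n) K, Pres q c ∧ c * a = a * c ∧ c.det = δ := by
  letI := ZMod.algebra K p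
  obtain ⟨σ, hσ, hσ2, hσ1⟩ := exists_frobAlg hK p
  exact exists_unitary_commute_det_aux σ hσ hσ2 hσ1 n hn a ha M hM hMF haM δ (by rw [hσ]; exact hδ)

open Cfsg.Agent.Helper13.SS in
/-- semisimple unitary matrices with the same characteristic polynomial are conjugate by a unitary
matrix -/
theorem exists_unitary_conj_of_charpoly (hK : Fintype.card K = q ^ 2) (p : ℕ) [Fact p.Prime]
    [CharP K p] (n : ℕ) (a b : Matrix (Fin n) (Fin n) K)
    (ha : Pres q a) (hb : Pres q b) (M : ℕ) (hM : 1 ≤ M) (hMF : (M : K) ≠ 0) (haM : a ^ M = 1)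
    (hbM : b ^ M = 1) (hc : a.charpoly = b.charpoly) :
    ∃ y : Matrix (Fin n) (Fin n) K, Pres q y ∧ y * a = b * y := by
  classical
  set S := irrFactors (X ^ M - 1 : K[X]) with hS
  have hprod : ∏ f ∈ S, f = X ^ M - 1 := sepFactors_prod hMF
  set φ := Matrix.toLinAlgEquiv' (R := K) (n := Fin n) with hφ
  have hchar : ∀ N : Matrix (Fin n) (Fin n) K, (φ N).charpoly = N.charpoly := by
    intro N
    exact Matrix.charpoly_toLin' N
  have hka : aeval (φ a) (∏ f ∈ S, f) = 0 := by
    rw [hprod, map_sub, map_pow, aeval_X, map_one, ← map_pow, haM, map_one, sub_self]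
  have hkb : aeval (φ b) (∏ f ∈ S, f) = 0 := by
    rw [hprod, map_sub, map_pow, aeval_X, map_one, ← map_pow, hbM, map_one, sub_self]
  have hirr : ∀ f ∈ S, Irreducible f := fun f hf => irrFactors_irreducible hf
  have hmon : ∀ f ∈ S, f.Monic := fun f hf => irrFactors_monic hf
  obtain ⟨T, hT⟩ := exists_equiv_of_charpoly_eq S hirr hmon (φ a) (φ b) hka hkb
    (by rw [hchar, hchar, hc])
  apply exists_unitary_conj hK p n a b ha hb M hM hMF haM T
  intro v
  have := hT v
  rw [Matrix.toLinAlgEquiv'_apply, Matrix.toLinAlgEquiv'_apply] at this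
  exact this

/-- unitary matrices have determinant of norm one -/
theorem Pres.det_norm (hK : Fintype.card K = q ^ 2) {n : ℕ} {y : Matrix (Fin n) (Fin n) K}
    (hy : Pres q y) :
    y.det * y.det ^ q = 1 := by
  obtain ⟨φ, hφ⟩ := exists_frob hK
  have h1 : IsU φ y := by
    rw [isU_iff_preserves]
    intro u v
    rw [← hermForm_eq_hdot φ hφ, ← hermForm_eq_hdot φ hφ]
    exact hy u v
  have h2 := congrArg Matrix.det h1
  rw [Matrix.det_mul, Matrix.det_transpose, Matrix.det_one] at h2
  rw [← hφ, φ.map_det]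
  exact h2

end concrete

end Cfsg.Agent.Helper13.Uni
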