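import Mathlib
import Cfsg.Agent.Lib.Helper13.UnitaryForm
import Cfsg.Agent.Lib.Helper13.SympReal
import Cfsg.Agent.Lib.Helper13.UnitaryConj
import Cfsg.Agent.Lib.Helper13.HermitianBlock

set_option autoImplicit false
set_option linter.unusedSectionVars false
set_option linter.style.haveILetI false

/-!
# Realising polynomials as characteristic polynomials of semisimple unitary isometries
-/

namespace Cfsg.Agent.Helper13.Uni

open Module Polynomial Cfsg.Agent.Helper13.SS Cfsg.Agent.Helper13.HermSS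
  Cfsg.Agent.Helper13.SympSS Cfsg.Agent.Helper13.Dual

universe u v

section defs
variable {F : Type v} {K : Type u} [Field F] [Field K] [Algebra F K]

/-- `P` is the characteristic polynomial of an isometry of exponent `m` of a hermitian space -/
def UReal (σ : K →ₐ[F] K) (m : ℕ) (P : K[X]) : Prop :=
  ∃ (V : Type u) (_ : AddCommGroup V) (_ : Module F V) (_ : Module K V)
    (_ : IsScalarTower F K V) (_ : FiniteDimensional K V)
    (A : Module.End K V) (B : LinearMap.BilinForm F V),
    A ^ m = 1 ∧ HInv σ 1 A B ∧ A.charpoly = P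

variable {σ : K →ₐ[F] K} {m : ℕ}

theorem ureal_one : UReal σ m (1 : K[X]) := by
  refine ⟨PUnit, inferInstance, inferInstance, inferInstance, ⟨fun _ _ _ => rfl⟩, inferInstance,
    0, 0, ?_, ?_, ?_⟩
  · apply LinearMap.ext
    intro x
    exact Subsingleton.elim _ _
  · exact ⟨fun _ _ _ => rfl, fun _ _ => by simp, fun u _ => Subsingleton.elim _ _,
      fun _ _ => rfl⟩
  · apply Polynomial.eq_one_of_monic_natDegree_zero (LinearMap.charpoly_monic _)
    rw [LinearMap.charpoly_natDegree]
    exact Module.finrank_zero_of_subsingleton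

theorem ureal_mul {P Q : K[X]} (hP : UReal σ m P) (hQ : UReal σ m Q) : UReal σ m (P * Q) := by
  obtain ⟨V, _, _, _, _, _, A, B, hAm, hAB, hAc⟩ := hP
  obtain ⟨W, _, _, _, _, _, A', B', hAm', hAB', hAc'⟩ := hQ
  refine ⟨V × W, inferInstance, inferInstance, inferInstance, inferInstance, inferInstance,
    A.prodMap A', sumForm B B', ?_, ?_, ?_⟩
  · rw [prodMap_pow, hAm, hAm']
    apply LinearMap.ext
    rintro ⟨x, y⟩
    rfl
  · refine ⟨?_, ?_, ?_, ?_⟩
    · intro c u v
      rw [sumForm_apply, sumForm_apply]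
      show B (c • u.1) v.1 + B' (c • u.2) v.2 = B u.1 (σ c • v.1) + B' u.2 (σ c • v.2)
      rw [hAB.adj, hAB'.adj]
    · intro u v
      rw [sumForm_apply, sumForm_apply, hAB.symm u.1 v.1, hAB'.symm u.2 v.2]
      ring
    · rintro ⟨x, y⟩ h
      have hx : x = 0 := by
        apply hAB.nondeg
        intro v
        have := h (v, 0)
        rw [sumForm_apply] at this
        simpa using this
      have hy : y = 0 := by
        apply hAB'.nondeg
        intro v
        have := h (0, v)
        rw [sumForm_apply] at this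
        simpa using this
      rw [hx, hy]
      rfl
    · intro u v
      rw [sumForm_apply, sumForm_apply]
      show B (A u.1) (A v.1) + B' (A' u.2) (A' v.2) = _
      rw [hAB.inv, hAB'.inv]
  · rw [LinearMap.charpoly_prodMap, hAc, hAc']

theorem ureal_pow {P : K[X]} (hP : UReal σ m P) (j : ℕ) : UReal σ m (P ^ j) := by
  induction j with
  | zero => rw [pow_zero]; exact ureal_one
  | succ j ih => rw [pow_succ]; exact ureal_mul ih hP

theorem ureal_prod {ι : Type*} (s : Finset ι) (P : ι → K[X]) (h : ∀ i ∈ s, UReal σ m (P i)) :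
    UReal σ m (∏ i ∈ s, P i) := by
  classical
  induction s using Finset.induction_on with
  | empty => rw [Finset.prod_empty]; exact ureal_one
  | insert a s ha ih =>
    rw [Finset.prod_insert ha]
    exact ureal_mul (h a (Finset.mem_insert_self a s))
      (ih (fun i hi => h i (Finset.mem_insert_of_mem hi)))

end defs

section blocks
variable {F : Type v} {K : Type u} [Field F] [Field K] [Algebra F K] [FiniteDimensional F K]
variable {σ : K →ₐ[F] K} {m : ℕ} {f : K[X]}

/-- the block of a conjugate-self-dual factor -/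
theorem ureal_selfdual (hσ2 : ∀ x, σ (σ x) = x) (hσ1 : ∃ c, σ c ≠ c) (hm : 1 ≤ m)
    (hf : Irreducible f) (hmon : f.Monic) (hfm : f ∣ X ^ m - 1)
    (hfd : cdual m (σ : K →+* K) f = f) : UReal σ m f := by
  haveI : Fact (Irreducible f) := ⟨hf⟩
  haveI : FiniteDimensional K (AdjoinRoot f) := (AdjoinRoot.powerBasis hf.ne_zero).finite
  have h0 : dualPoly m f = f.map (σ : K →+* K) := by
    have := congrArg (fun g => g.map (σ : K →+* K)) hfd
    simp only [cdual] at this
    rwa [map_map_self (σ := (σ : K →+* K)) hσ2] at this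
  set k := AdjoinRoot f with hk
  set s : k := AdjoinRoot.root f with hs
  have hss' : s * s ^ (m - 1) = 1 := root_mul_inv hm hfm
  have hsm : s ^ m = 1 := root_pow_eq_one hfm
  have hσ0 : f.eval₂ ((algebraMap K (AdjoinRoot f)).comp (σ : K →+* K)) (s ^ (m - 1)) = 0 := by
    rw [← Polynomial.eval₂_map, ← h0, ← aeval_def]
    exact aeval_inv_dualPoly m f
  set τ₀ : AdjoinRoot f →+* AdjoinRoot f :=
    AdjoinRoot.lift ((algebraMap K (AdjoinRoot f)).comp (σ : K →+* K)) (s ^ (m - 1)) hσ0 with hτ₀
  have hτ₀root : τ₀ s = s ^ (m - 1) := AdjoinRoot.lift_root hσ0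
  have hτ₀of : ∀ c : K, τ₀ (AdjoinRoot.of f c) = AdjoinRoot.of f (σ c) := fun c =>
    AdjoinRoot.lift_of hσ0
  let τ : AdjoinRoot f →ₐ[F] AdjoinRoot f :=
    { τ₀ with
      commutes' := fun c => by
        show τ₀ (algebraMap F (AdjoinRoot f) c) = algebraMap F (AdjoinRoot f) c
        rw [IsScalarTower.algebraMap_apply F K (AdjoinRoot f), AdjoinRoot.algebraMap_eq, hτ₀of,
          σ.commutes] }
  have hτ : ∀ x, τ x = τ₀ x := fun x => rfl
  have hτ2 : ∀ x, τ (τ x) = x := by
    let θ : AdjoinRoot f →ₐ[K] AdjoinRoot f :=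
      { τ₀.comp τ₀ with
        commutes' := fun c => by
          show τ₀ (τ₀ (algebraMap K (AdjoinRoot f) c)) = algebraMap K (AdjoinRoot f) c
          rw [AdjoinRoot.algebraMap_eq, hτ₀of, hτ₀of, hσ2] }
    have h1 : θ = AlgHom.id K (AdjoinRoot f) := by
      apply AdjoinRoot.algHom_ext
      show τ₀ (τ₀ s) = s
      rw [hτ₀root, map_pow, hτ₀root, inv_pow_eq_root hm hfm]
    intro x
    exact AlgHom.congr_fun h1 x
  have hτ1 : ∃ x, τ x ≠ x := by
    obtain ⟨c, hc⟩ := hσ1
    refine ⟨AdjoinRoot.of f c, ?_⟩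
    rw [hτ, hτ₀of]
    intro h
    exact hc ((AdjoinRoot.of f).injective h)
  have hτsmul : ∀ (c : K) (x : k), τ (c • x) = σ c • τ x := by
    intro c x
    rw [Algebra.smul_def, map_mul, AdjoinRoot.algebraMap_eq, hτ, hτ₀of, ← AdjoinRoot.algebraMap_eq,
      ← Algebra.smul_def]
  obtain ⟨t, ht0, htτ⟩ := exists_tr τ hτ2 hτ1
  set B : LinearMap.BilinForm F k :=
    LinearMap.mk₂ F (fun u v => t (u * τ v))
      (by intro a b c; rw [add_mul, map_add])
      (by intro c a b; rw [smul_mul_assoc, map_smul])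
      (by intro a b c; rw [map_add, mul_add, map_add])
      (by intro c a b; rw [map_smul, mul_smul_comm, map_smul]) with hB
  have hBa : ∀ u v : k, B u v = t (u * τ v) := fun u v => rfl
  refine ⟨k, inferInstance, inferInstance, inferInstance, inferInstance, inferInstance,
    Algebra.lmul K k s, B, ?_, ?_, ?_⟩
  · rw [lmul_pow, hsm, map_one]
  · refine ⟨?_, ?_, ?_, ?_⟩
    · intro c u v
      rw [hBa, hBa, hτsmul, hσ2, smul_mul_assoc, mul_smul_comm]
    · intro u v
      rw [hBa, hBa, one_mul, ← htτ, map_mul, hτ2, mul_comm]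
    · intro x hx
      by_contra hx0
      apply ht0
      apply LinearMap.ext
      intro z
      have := hx (τ (x⁻¹ * z))
      rw [hBa, hτ2, ← mul_assoc, mul_inv_cancel₀ hx0, one_mul] at this
      rw [this]
      rfl
    · intro u v
      rw [hBa, hBa]
      show t (s * u * τ (s * v)) = _
      have e0 : τ (s * v) = s ^ (m - 1) * τ v := by rw [map_mul, hτ, hτ₀root]
      rw [e0]
      congr 1
      calc s * u * (s ^ (m - 1) * τ v) = (s * s ^ (m - 1)) * (u * τ v) := by ring
        _ = u * τ v := by rw [hss', one_mul]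
  · exact charpoly_mulRoot f hmon

/-- the hyperbolic block of a factor and its conjugate dual -/
theorem ureal_pair (hσ2 : ∀ x, σ (σ x) = x) (hm : 1 ≤ m)
    (hf : Irreducible f) (hmon : f.Monic) (hfm : f ∣ X ^ m - 1) :
    UReal σ m (f * cdual m (σ : K →+* K) f) := by
  have hσ2' : ∀ x, (σ : K →+* K) ((σ : K →+* K) x) = x := hσ2
  set f' := cdual m (σ : K →+* K) f with hf'
  have hf'irr : Irreducible f' := cdual_irreducible hσ2' hf
  have hf'mon : f'.Monic := cdual_monic hf
  have hf'm : f' ∣ X ^ m - 1 := cdual_dvd hf hfm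
  haveI : Fact (Irreducible f) := ⟨hf⟩
  haveI : Fact (Irreducible f') := ⟨hf'irr⟩
  haveI : FiniteDimensional K (AdjoinRoot f) := (AdjoinRoot.powerBasis hf.ne_zero).finite
  haveI : FiniteDimensional K (AdjoinRoot f') := (AdjoinRoot.powerBasis hf'irr.ne_zero).finite
  haveI : FiniteDimensional F (AdjoinRoot f) := Module.Finite.trans K _
  haveI : FiniteDimensional F (AdjoinRoot f') := Module.Finite.trans K _
  set k := AdjoinRoot f with hk
  set k₂ := AdjoinRoot f' with hk₂
  set s : k := AdjoinRoot.root f with hs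
  set s₂ : k₂ := AdjoinRoot.root f' with hs₂
  have hsm : s ^ m = 1 := root_pow_eq_one hfm
  have hs₂m : s₂ ^ m = 1 := root_pow_eq_one hf'm
  have hss₂ : s₂ * s₂ ^ (m - 1) = 1 := root_mul_inv hm hf'm
  -- `f.map σ` is the dual of `f'`
  have h0 : dualPoly m f' = f.map (σ : K →+* K) := by
    have h1 : cdual m (σ : K →+* K) f' = f := cdual_cdual hσ2' hm hf hmon hfm
    have := congrArg (fun g => g.map (σ : K →+* K)) h1
    simp only [cdual] at this
    rwa [map_map_self (σ := (σ : K →+* K)) hσ2] at this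
  have hσ0 : f.eval₂ ((algebraMap K k₂).comp (σ : K →+* K)) (s₂ ^ (m - 1)) = 0 := by
    rw [← Polynomial.eval₂_map, ← h0, ← aeval_def]
    exact aeval_inv_dualPoly m f'
  set θ₀ : k →+* k₂ :=
    AdjoinRoot.lift ((algebraMap K k₂).comp (σ : K →+* K)) (s₂ ^ (m - 1)) hσ0 with hθ₀
  have hθ₀root : θ₀ s = s₂ ^ (m - 1) := AdjoinRoot.lift_root hσ0
  have hθ₀of : ∀ c : K, θ₀ (AdjoinRoot.of f c) = AdjoinRoot.of f' (σ c) := fun c =>
    AdjoinRoot.lift_of hσ0
  let θ : k →ₐ[F] k₂ :=
    { θ₀ with
      commutes' := fun c => by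
        show θ₀ (algebraMap F k c) = algebraMap F k₂ c
        rw [IsScalarTower.algebraMap_apply F K k, AdjoinRoot.algebraMap_eq, hθ₀of,
          σ.commutes, IsScalarTower.algebraMap_apply F K k₂, AdjoinRoot.algebraMap_eq] }
  have hθ : ∀ x, θ x = θ₀ x := fun x => rfl
  have hθsmul : ∀ (c : K) (x : k), θ (c • x) = σ c • θ x := by
    intro c x
    rw [Algebra.smul_def, map_mul, AdjoinRoot.algebraMap_eq, hθ, hθ₀of, ← AdjoinRoot.algebraMap_eq,
      ← Algebra.smul_def]
  have hθinj : Function.Injective θ := θ₀.injective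
  have hdim : finrank F k = finrank F k₂ := by
    rw [← Module.finrank_mul_finrank F K k, ← Module.finrank_mul_finrank F K k₂,
      finrank_adjoinRoot, finrank_adjoinRoot, hf', natDegree_cdual hm hf hmon hfm]
  have hθsurj : Function.Surjective θ :=
    (LinearMap.injective_iff_surjective_of_finrank_eq_finrank (f := θ.toLinearMap) hdim).1 hθinj
  obtain ⟨t, ht⟩ := Module.Projective.exists_dual_ne_zero F (one_ne_zero : (1 : k₂) ≠ 0)
  have htnd : ∀ x : k₂, (∀ y : k₂, t (x * y) = 0) → x = 0 := by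
    intro x hx
    by_contra hx0
    apply ht
    have := hx x⁻¹
    rwa [mul_inv_cancel₀ hx0] at this
  set B : LinearMap.BilinForm F (k × k₂) :=
    LinearMap.mk₂ F (fun u v => t (θ u.1 * v.2) + t (θ v.1 * u.2))
      (by intro a b c; simp only [Prod.fst_add, Prod.snd_add, add_mul, mul_add, map_add]; ring)
      (by intro c a b; simp only [Prod.smul_fst, Prod.smul_snd, smul_mul_assoc, mul_smul_comm,
        map_smul, smul_eq_mul]; ring)
      (by intro a b c; simp only [Prod.fst_add, Prod.snd_add, add_mul, mul_add, map_add]; ring)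
      (by intro c a b; simp only [Prod.smul_fst, Prod.smul_snd, smul_mul_assoc, mul_smul_comm,
        map_smul, smul_eq_mul]; ring) with hB
  have hBa : ∀ u v : k × k₂, B u v = t (θ u.1 * v.2) + t (θ v.1 * u.2) := fun u v => rfl
  refine ⟨k × k₂, inferInstance, inferInstance, inferInstance, inferInstance, inferInstance,
    (Algebra.lmul K k s).prodMap (Algebra.lmul K k₂ s₂), B, ?_, ?_, ?_⟩
  · rw [prodMap_pow, lmul_pow, lmul_pow, hsm, hs₂m, map_one, map_one]
    apply LinearMap.ext
    rintro ⟨x, y⟩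
    rfl
  · refine ⟨?_, ?_, ?_, ?_⟩
    · intro c u v
      rw [hBa, hBa]
      simp only [Prod.smul_fst, Prod.smul_snd]
      rw [hθsmul, hθsmul, hσ2, smul_mul_assoc, mul_smul_comm, mul_smul_comm, smul_mul_assoc]
    · intro u v
      rw [hBa, hBa, one_mul, add_comm]
    · rintro ⟨x, y⟩ h
      have hx : x = 0 := by
        apply hθinj
        rw [map_zero]
        apply htnd
        intro y'
        have := h (0, y')
        rw [hBa] at this
        simpa using this
      have hy : y = 0 := by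
        apply htnd
        intro z
        obtain ⟨x', rfl⟩ := hθsurj z
        have := h (x', 0)
        rw [hBa] at this
        simp only [mul_zero, map_zero, zero_add] at this
        rw [mul_comm]
        exact this
      rw [hx, hy]
      rfl
    · intro u v
      rw [hBa, hBa]
      show t (θ (s * u.1) * (s₂ * v.2)) + t (θ (s * v.1) * (s₂ * u.2)) = _
      have e0 : ∀ x : k, θ (s * x) = s₂ ^ (m - 1) * θ x := by
        intro x
        rw [map_mul, hθ, hθ₀root]
      have e1 : ∀ (x : k) (y : k₂), θ (s * x) * (s₂ * y) = θ x * y := by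
        intro x y
        rw [e0]
        calc s₂ ^ (m - 1) * θ x * (s₂ * y) = (s₂ * s₂ ^ (m - 1)) * (θ x * y) := by ring
          _ = θ x * y := by rw [hss₂, one_mul]
      rw [e1, e1]
  · rw [LinearMap.charpoly_prodMap]
    have h1 : (Algebra.lmul K k s).charpoly = f := charpoly_mulRoot f hmon
    have h2 : (Algebra.lmul K k₂ s₂).charpoly = f' := charpoly_mulRoot f' hf'mon
    rw [h1, h2]

end blocks

section transfer
variable {F : Type v} {K : Type u} [Field F] [Field K] [Algebra F K] [Finite K] {q : ℕ}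

/-- transfer to matrices preserving the standard hermitian form -/
theorem UReal.exists_matrix (σ : K →ₐ[F] K) (hσ : ∀ x, σ x = x ^ q) (hσ2 : ∀ x, σ (σ x) = x)
    (hσ1 : ∃ c, σ c ≠ c) {m : ℕ} {P : K[X]} (h : UReal σ m P) (n : ℕ) (hn : P.natDegree = n) :
    ∃ g : Matrix (Fin n) (Fin n) K, Pres q g ∧ g ^ m = 1 ∧ g.charpoly = P := by
  obtain ⟨V, _, _, _, _, _, A, B, hAm, hAB, hAc⟩ := h
  haveI : FiniteDimensional F K := Module.Finite.of_finite
  obtain ⟨tr, htr, htrσ⟩ := exists_tr σ hσ2 hσ1
  have hH := hermForm_isSesq σ hσ hσ2 n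
  set B₀ := trForm tr (Cfsg.hermForm n K q) hH with hB₀def
  have hB₀' := trForm_hinv tr htr htrσ hσ2 hH (1 : Module.End K (Fin n → K)) (fun _ _ => rfl)
  have hB₀ : Herm.IsHermLike σ 1 B₀ := ⟨hB₀'.adj, hB₀'.symm, hB₀'.nondeg⟩
  have hBV : Herm.IsHermLike σ 1 B := ⟨hAB.adj, hAB.symm, hAB.nondeg⟩
  have hfin : finrank K V = n := by
    rw [← hn, ← hAc, LinearMap.charpoly_natDegree]
  obtain ⟨T, hT⟩ := Herm.exists_isometry σ hσ2 hσ1 1 (Or.inl rfl) n V (Fin n → K) B B₀ hfin
    (Module.finrank_fin_fun K) hBV hB₀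
  set A' : Module.End K (Fin n → K) := T.conj A with hA'
  have hA'a : ∀ u, A' u = T (A (T.symm u)) := by
    intro u
    rw [hA', LinearEquiv.conj_apply]
    rfl
  set G : Matrix (Fin n) (Fin n) K := LinearMap.toMatrix' A' with hG
  have hGv : ∀ u, G.mulVec u = A' u := by
    intro u
    rw [hG, LinearMap.toMatrix'_mulVec]
  refine ⟨G, ?_, ?_, ?_⟩
  · intro u v
    rw [hGv, hGv]
    apply eq_of_trForm_eq tr htr hH hH A'
    intro x y
    rw [hA'a, hA'a, ← hB₀def, hT, hAB.inv, ← hT, T.apply_symm_apply, T.apply_symm_apply]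
  · have h1 : A' ^ m = 1 := by
      have h2 : A' = T.conjRingEquiv A := by
        apply LinearMap.ext
        intro u
        rw [hA'a]
        rfl
      rw [h2, ← map_pow, hAm, map_one]
    rw [hG, ← LinearMap.toMatrix'_one]
    rw [← h1]
    exact (map_pow (LinearMap.toMatrixAlgEquiv' (R := K) (n := Fin n)) A' m).symm
  · rw [hG, ← hAc, ← LinearEquiv.charpoly_conj T A]
    exact LinearMap.charpoly_toMatrix A' (Pi.basisFun K (Fin n))

end transfer

end Cfsg.Agent.Helper13.Uni
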