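import Mathlib
import Cfsg.Agent.Lib.Helper13.UnitaryReal
import Cfsg.Agent.Lib.Helper13.SemisimpleCharpolyGL
import Cfsg.Agent.Lib.Helper13.MonicCount

set_option autoImplicit false
set_option linter.unusedSectionVars false
set_option linter.style.haveILetI false

/-!
# Characteristic polynomials of unitary matrices are conjugate-palindromic, and conversely
-/

namespace Cfsg.Agent.Helper13.Uni

open Module Polynomial Cfsg.Agent.Helper13.SS Cfsg.Agent.Helper13.HermSS
  Cfsg.Agent.Helper13.SympSS Cfsg.Agent.Helper13.Dual Cfsg.Agent.Helper11.Herm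

universe u v

section cpal
variable {K : Type u} [Field K]

/-- conjugate-palindromic polynomials -/
def CPal (σ : K →+* K) (P : K[X]) : Prop :=
  (P.map σ).reverse = C (σ (P.coeff 0)) * P

variable {σ : K →+* K}

theorem CPal.coeff_zero_ne_zero {P : K[X]} (h : CPal σ P) (hP : P ≠ 0) : P.coeff 0 ≠ 0 := by
  intro h0
  unfold CPal at h
  rw [h0, map_zero, C_0, zero_mul] at h
  apply hP
  have h1 : P.map σ = 0 := by
    by_contra hne
    have := reverse_eq_zero.1 h
    exact hne this
  exact (Polynomial.map_eq_zero σ).1 h1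

theorem cpal_of_mul {Q R : K[X]} (hQ : CPal σ Q) (hQ0 : Q ≠ 0) (hQR : CPal σ (Q * R)) :
    CPal σ R := by
  have hQc := hQ.coeff_zero_ne_zero hQ0
  unfold CPal at *
  rw [Polynomial.map_mul, reverse_mul_of_domain, hQ, mul_coeff_zero, map_mul, C_mul] at hQR
  have hne : C (σ (Q.coeff 0)) * Q ≠ 0 := by
    apply mul_ne_zero _ hQ0
    rw [Ne, C_eq_zero, map_eq_zero]
    exact hQc
  apply mul_left_cancel₀ hne
  rw [hQR]
  ring

/-- a conjugate-palindromic polynomial divisible by `f` is divisible by the conjugate dual of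
`f` -/
theorem cdual_dvd_of_cpal {m : ℕ} (hσ2 : ∀ x, σ (σ x) = x) {f P : K[X]} (hm : 1 ≤ m)
    (hf : Irreducible f) (hfm : f ∣ X ^ m - 1) (hP : CPal σ P) (hfP : f ∣ P) :
    cdual m σ f ∣ P := by
  have : Fact (Irreducible f) := ⟨hf⟩
  rw [← dvd_comp_map_iff hσ2 hf P]
  rw [← AdjoinRoot.mk_eq_zero, ← AdjoinRoot.aeval_eq, aeval_comp, map_pow, aeval_X]
  set s := AdjoinRoot.root f with hs
  have h1 : s * s ^ (m - 1) = 1 := root_mul_inv hm hfm
  let _ : Invertible (s ^ (m - 1)) := ⟨s, h1, by rw [mul_comm]; exact h1⟩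
  have h2 := eval₂_reverse_eq_zero_iff (algebraMap K (AdjoinRoot f)) (s ^ (m - 1)) (P.map σ)
  have h3 : eval₂ (algebraMap K (AdjoinRoot f)) s P = 0 := by
    rw [← aeval_def, AdjoinRoot.aeval_eq, AdjoinRoot.mk_eq_zero]
    exact hfP
  rw [aeval_def]
  apply h2.1
  have h4 : ⅟(s ^ (m - 1)) = s := rfl
  rw [h4, hP, eval₂_mul, h3, mul_zero]

/-- the characteristic polynomial of a unitary matrix is conjugate-palindromic -/
theorem cpal_charpoly {n : ℕ} (g : Matrix (Fin n) (Fin n) K) (hg : IsU σ g) :
    CPal σ g.charpoly := by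
  unfold CPal
  set h : Matrix (Fin n) (Fin n) K := g.map σ with hh
  have hgh : g.transpose * h = 1 := hg
  have hch : g.charpoly.map σ = h.charpoly := (Matrix.charpoly_map g σ).symm
  have hc0 : σ (g.charpoly.coeff 0) = (-1) ^ n * h.det := by
    have h1 := Matrix.det_eq_sign_charpoly_coeff h
    rw [Fintype.card_fin] at h1
    rw [h1, ← hch, coeff_map, ← mul_assoc, ← mul_pow]
    simp
  rw [hch, hc0, Matrix.reverse_charpoly, ← Matrix.charpoly_transpose g]
  unfold Matrix.charpolyRev Matrix.charpoly Matrix.charmatrix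
  set G : Matrix (Fin n) (Fin n) K[X] := g.transpose.map C with hG
  set H : Matrix (Fin n) (Fin n) K[X] := h.map C with hH
  have hGH : G * H = 1 := by
    rw [hG, hH, ← Matrix.map_mul, hgh]
    ext i j
    by_cases hij : i = j
    · rw [hij, Matrix.map_apply, Matrix.one_apply_eq, Matrix.one_apply_eq, map_one]
    · rw [Matrix.map_apply, Matrix.one_apply_ne hij, Matrix.one_apply_ne hij, map_zero]
  have hdetH : H.det = C h.det := by
    have h1 : H = (C : K →+* K[X]).mapMatrix h := rfl
    rw [h1, ← RingHom.map_det]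
  have e2 : (1 - (X : K[X]) • H) = -(Matrix.scalar (Fin n) (X : K[X]) - G) * H := by
    rw [neg_sub, Matrix.sub_mul, hGH]
    congr 1
    ext i j
    simp [Matrix.mul_apply, Matrix.scalar_apply, Matrix.diagonal_apply]
  have e3 : (C : K →+* K[X]).mapMatrix g.transpose = G := rfl
  have e4 : (C : K →+* K[X]).mapMatrix h = H := rfl
  rw [e2, Matrix.det_mul, hdetH, Matrix.det_neg, e3, Fintype.card_fin]
  simp only [map_mul, map_pow, map_neg, map_one]
  ring

end cpal

section induction
variable {F : Type v} {K : Type u} [Field F] [Field K] [Algebra F K] [Finite K] {q : ℕ}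

theorem UReal.cpal (σ : K →ₐ[F] K) (hσ : ∀ x, σ x = x ^ q) (hσ2 : ∀ x, σ (σ x) = x)
    (hσ1 : ∃ c, σ c ≠ c) {m : ℕ} {P : K[X]} (h : UReal σ m P) : CPal (σ : K →+* K) P := by
  obtain ⟨g, hg, -, hgP⟩ := h.exists_matrix σ hσ hσ2 hσ1 P.natDegree rfl
  rw [← hgP]
  apply cpal_charpoly
  rw [isU_iff_preserves]
  intro u v
  rw [← hermForm_eq_hdot (σ : K →+* K) hσ, ← hermForm_eq_hdot (σ : K →+* K) hσ]
  exact hg u v

/-- **Existence**: every monic conjugate-palindromic polynomial all of whose irreducible factors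
divide `X ^ m - 1` is the characteristic polynomial of a unitary isometry of exponent `m`. -/
theorem ureal_of_cpal (σ : K →ₐ[F] K) (hσ : ∀ x, σ x = x ^ q) (hσ2 : ∀ x, σ (σ x) = x)
    (hσ1 : ∃ c, σ c ≠ c) {m : ℕ} (hm : 1 ≤ m) :
    ∀ (k : ℕ) (P : K[X]), P.Monic → P.natDegree = k → CPal (σ : K →+* K) P →
      (∀ f : K[X], Irreducible f → f.Monic → f ∣ P → f ∣ X ^ m - 1) → UReal σ m P := by
  haveI : FiniteDimensional F K := Module.Finite.of_finite
  have hσ2' : ∀ x, (σ : K →+* K) ((σ : K →+* K) x) = x := hσ2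
  intro k
  induction k using Nat.strong_induction_on with
  | _ k ih =>
  intro P hPmon hPdeg hPrev hPfac
  rcases Nat.eq_zero_or_pos k with hk | hk
  · have : P = 1 := Polynomial.eq_one_of_monic_natDegree_zero hPmon (by rw [hPdeg, hk])
    rw [this]
    exact ureal_one
  have step : ∀ Q : K[X], UReal σ m Q → Q.Monic → Q ∣ P → 1 ≤ Q.natDegree → UReal σ m P := by
    intro Q hQ hQmon hQP hQdeg
    obtain ⟨R, hR⟩ := hQP
    have hQrev : CPal (σ : K →+* K) Q := hQ.cpal σ hσ hσ2 hσ1
    have hRmon : R.Monic := by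
      rw [hR] at hPmon
      exact hQmon.of_mul_monic_left hPmon
    have hRrev : CPal (σ : K →+* K) R := by
      apply cpal_of_mul hQrev hQmon.ne_zero
      rw [← hR]
      exact hPrev
    have hdeg : P.natDegree = Q.natDegree + R.natDegree := by
      rw [hR, hQmon.natDegree_mul hRmon]
    have hlt : R.natDegree < k := by omega
    have hRr := ih R.natDegree hlt R hRmon rfl hRrev
      (fun f hf hfm hfR => hPfac f hf hfm (by rw [hR]; exact Dvd.dvd.mul_left hfR Q))
    rw [hR]
    exact ureal_mul hQ hRr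
  have hPnu : ¬ IsUnit P := Polynomial.not_isUnit_of_natDegree_pos P (by omega)
  obtain ⟨f, hfmon, hfirr, hfP⟩ := Polynomial.exists_monic_irreducible_factor P hPnu
  have hfm : f ∣ X ^ m - 1 := hPfac f hfirr hfmon hfP
  have hfdeg : 1 ≤ f.natDegree := hfirr.natDegree_pos
  have hdP : cdual m (σ : K →+* K) f ∣ P := cdual_dvd_of_cpal hσ2' hm hfirr hfm hPrev hfP
  by_cases hfd : cdual m (σ : K →+* K) f = f
  · exact step f (ureal_selfdual hσ2 hσ1 hm hfirr hfmon hfm hfd) hfmon hfP hfdeg
  · have hcop : IsCoprime f (cdual m (σ : K →+* K) f) :=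
      coprime_of_monic_irreducible' hfirr (cdual_irreducible hσ2' hfirr) hfmon
        (cdual_monic hfirr) (Ne.symm hfd)
    have hdvd : f * cdual m (σ : K →+* K) f ∣ P := hcop.mul_dvd hfP hdP
    apply step (f * cdual m (σ : K →+* K) f) (ureal_pair hσ2 hm hfirr hfmon hfm)
      (hfmon.mul (cdual_monic hfirr)) hdvd
    rw [hfmon.natDegree_mul (cdual_monic hfirr)]
    omega

end induction

section finite
variable {K : Type u} [Field K] [Fintype K] {q : ℕ}

/-- over a field with `q ^ 2` elements, every monic conjugate-palindromic polynomial of degree `n`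
is the characteristic polynomial of a unitary matrix of order prime to the characteristic -/
theorem exists_unitary_of_cpal (hK : Fintype.card K = q ^ 2) (p : ℕ) [Fact p.Prime] [CharP K p]
    (φ : K →+* K) (hφ : ∀ x, φ x = x ^ q) (n : ℕ) (P : K[X]) (hP : P.Monic)
    (hdeg : P.natDegree = n) (hcp : CPal φ P) :
    ∃ g : Matrix (Fin n) (Fin n) K, Pres q g ∧ g.charpoly = P ∧
      ∃ M : ℕ, 1 ≤ M ∧ M.Coprime p ∧ g ^ M = 1 := by
  have hp : p.Prime := Fact.out
  letI := ZMod.algebra K p
  obtain ⟨σ, hσ, hσ2, hσ1⟩ := exists_frobAlg hK p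
  have hφσ : φ = (σ : K →+* K) := RingHom.ext (fun x => by rw [hφ]; exact (hσ x).symm)
  set N := n.factorial with hN
  have hNpos : 0 < N := Nat.factorial_pos _
  set M := Fintype.card K ^ N - 1 with hM
  have hMp : M.Coprime p := coprime_card_pow_sub_one (p := p) (F := K) rfl N hNpos
  have hM1 : 1 ≤ M := by
    rcases Nat.eq_zero_or_pos M with h | h
    · rw [h] at hMp
      have : p = 1 := by simpa using hMp
      exact absurd this hp.one_lt.ne'
    · exact h
  have hP0 : P.coeff 0 ≠ 0 := hcp.coeff_zero_ne_zero hP.ne_zero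
  have hfac : ∀ f : K[X], Irreducible f → f.Monic → f ∣ P → f ∣ X ^ M - 1 := by
    intro f hf hfmon hfP
    apply dvd_X_pow_sub_one_of_irreducible hf
    · intro hfX
      have h2 : f = X := Polynomial.eq_of_monic_of_associated hfmon monic_X
        (hf.associated_of_dvd irreducible_X hfX)
      have h3 : X ∣ P := by
        rw [← h2]
        exact hfP
      exact hP0 (Polynomial.X_dvd_iff.1 h3)
    · apply Nat.dvd_factorial hf.natDegree_pos
      rw [← hdeg]
      exact Polynomial.natDegree_le_of_dvd hfP hP.ne_zero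
  rw [hφσ] at hcp
  obtain ⟨g, hg1, hg2, hg3⟩ :=
    (ureal_of_cpal σ hσ hσ2 hσ1 hM1 n P hP hdeg hcp hfac).exists_matrix σ hσ hσ2 hσ1 n hdeg
  exact ⟨g, hg1, hg3, M, hM1, hMp, hg2⟩

/-- the number of fixed points of a semilinear involution on a space of functions -/
theorem card_fixed_semilinear (hK : Fintype.card K = q ^ 2) (φ : K →+* K)
    (hφ : ∀ x, φ x = x ^ q) {ι : Type*} [Fintype ι] (r : ι → ι) (hr : ∀ i, r (r i) = i) (ε : K)
    (hε : ε * ε = 1) (hεφ : φ ε = ε) :
    Nat.card {b : ι → K // ∀ i, b (r i) = ε * φ (b i)} = q ^ Fintype.card ι := by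
  classical
  have hφ2 : ∀ x, φ (φ x) = x := frob_frob hK φ hφ
  -- the semilinear involution
  let T : (ι → K) →+ (ι → K) :=
    { toFun := fun b i => ε * φ (b (r i))
      map_zero' := by
        funext i
        simp
      map_add' := by
        intro a b
        funext i
        simp only [Pi.add_apply, map_add, mul_add] }
  have hTa : ∀ b i, T b i = ε * φ (b (r i)) := fun b i => rfl
  have hTT : ∀ b, T (T b) = b := by
    intro b
    funext i
    rw [hTa, hTa, map_mul, hεφ, hφ2, hr, ← mul_assoc, hε, one_mul]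
  have hTsmul : ∀ (c : K) b, T (c • b) = φ c • T b := by
    intro c b
    funext i
    rw [hTa, Pi.smul_apply, Pi.smul_apply, hTa, smul_eq_mul, smul_eq_mul, map_mul]
    ring
  set D : (ι → K) →+ (ι → K) := AddMonoidHom.id _ - T with hD
  set S : (ι → K) →+ (ι → K) := AddMonoidHom.id _ + T with hS
  have hDa : ∀ b, D b = b - T b := fun b => rfl
  have hSa : ∀ b, S b = b + T b := fun b => rfl
  -- the set in question is the kernel of `D`
  have hset : Nat.card {b : ι → K // ∀ i, b (r i) = ε * φ (b i)} = Nat.card D.ker := by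
    apply Nat.card_congr
    refine Equiv.subtypeEquivRight (fun b => ?_)
    rw [AddMonoidHom.mem_ker, hDa, sub_eq_zero]
    constructor
    · intro h
      funext i
      rw [hTa, h, map_mul, hεφ, hφ2, ← mul_assoc, hε, one_mul]
    · intro h i
      have := congrFun h (r i)
      rw [hTa, hr] at this
      exact this
  -- scalars
  obtain ⟨ν, hν⟩ := frob_trace_ne_zero hK φ hφ
  set t := ν + φ ν with ht
  have htφ : φ t = t := by rw [ht, map_add, hφ2, add_comm]
  set μ := ν / t with hμ
  have hμ1 : μ + φ μ = 1 := by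
    rw [hμ, map_div₀, htφ, ← add_div, ← ht, div_self hν]
  obtain ⟨c, hc⟩ : ∃ c, φ c ≠ c := by
    by_contra hcon
    push Not at hcon
    have hq := two_le_q hK
    obtain ⟨ζ, hζ⟩ := IsCyclic.exists_generator (α := Kˣ)
    have h1 : (ζ : K) ^ q = ζ := by rw [← hφ, hcon]
    have h3 : ζ ^ (q - 1) = 1 := by
      apply Units.ext
      rw [Units.val_pow_eq_pow_val, Units.val_one]
      have : (ζ : K) ^ (q - 1) * (ζ : K) = 1 * (ζ : K) := by
        rw [← pow_succ, Nat.sub_add_cancel (by omega), h1, one_mul]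
      exact mul_right_cancel₀ ζ.ne_zero this
    have h4 := orderOf_dvd_of_pow_eq_one h3
    rw [orderOf_eq_card_of_forall_mem_zpowers hζ, card_units_eq hK] at h4
    have h5 := Nat.le_of_dvd (by omega) h4
    have h6 : q < q ^ 2 := by nlinarith
    omega
  set l := c - φ c with hl
  have hl0 : l ≠ 0 := sub_ne_zero.2 (Ne.symm hc)
  have hlφ : φ l = -l := by rw [hl, map_sub, hφ2]; ring
  -- the range of `D` is the kernel of `S`
  have hrange : D.range = S.ker := by
    ext a
    rw [AddMonoidHom.mem_range, AddMonoidHom.mem_ker]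
    constructor
    · rintro ⟨b, rfl⟩
      rw [hSa, hDa, map_sub, hTT]
      abel
    · intro ha
      rw [hSa] at ha
      have hTa' : T a = -a := eq_neg_of_add_eq_zero_right ha
      refine ⟨μ • a, ?_⟩
      rw [hDa, hTsmul, hTa', smul_neg, sub_neg_eq_add, ← add_smul, hμ1, one_smul]
  -- the kernels of `S` and `D` have the same size
  have hker : Nat.card S.ker = Nat.card D.ker := by
    apply Nat.card_congr
    refine
      { toFun := fun a => ⟨l • a.1, ?_⟩
        invFun := fun b => ⟨l⁻¹ • b.1, ?_⟩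
        left_inv := fun a => by
          apply Subtype.ext
          show l⁻¹ • (l • a.1) = a.1
          rw [smul_smul, inv_mul_cancel₀ hl0, one_smul]
        right_inv := fun b => by
          apply Subtype.ext
          show l • (l⁻¹ • b.1) = b.1
          rw [smul_smul, mul_inv_cancel₀ hl0, one_smul] }
    · have ha := a.2
      rw [AddMonoidHom.mem_ker, hSa] at ha
      have hTa' : T a.1 = -a.1 := eq_neg_of_add_eq_zero_right ha
      rw [AddMonoidHom.mem_ker, hDa, hTsmul, hlφ, hTa', neg_smul, smul_neg, neg_neg, sub_self]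
    · have hb := b.2
      rw [AddMonoidHom.mem_ker, hDa, sub_eq_zero] at hb
      have hlinv : φ l⁻¹ = -l⁻¹ := by
        rw [map_inv₀, hlφ, inv_neg]
      rw [AddMonoidHom.mem_ker, hSa, hTsmul, hlinv, ← hb, neg_smul, add_neg_cancel]
  have hmul : Nat.card D.ker * Nat.card D.range = Nat.card (ι → K) := by
    rw [← AddSubgroup.index_ker]
    exact AddSubgroup.card_mul_index _
  rw [hrange, hker] at hmul
  have hG : Nat.card (ι → K) = (q ^ Fintype.card ι) * (q ^ Fintype.card ι) := by
    rw [Nat.card_fun, Nat.card_eq_fintype_card, Nat.card_eq_fintype_card, hK, ← pow_mul,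
      ← pow_add]
    congr 1
    ring
  rw [hset]
  rw [hG] at hmul
  exact Nat.mul_self_inj.1 hmul

/-- the number of monic conjugate-palindromic polynomials of degree `n` with constant term
`(-1) ^ n` -/
theorem card_cpal (hK : Fintype.card K = q ^ 2) (φ : K →+* K) (hφ : ∀ x, φ x = x ^ q) (n : ℕ)
    (hn : 1 ≤ n) :
    Nat.card {P : K[X] // P.Monic ∧ P.natDegree = n ∧ P.coeff 0 = (-1) ^ n ∧ CPal φ P} =
      q ^ (n - 1) := by
  classical
  have hφ2 : ∀ x, φ (φ x) = x := frob_frob hK φ hφ
  set ε : K := (-1) ^ n with hεdef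
  have hε : ε * ε = 1 := by rw [hεdef, ← mul_pow, neg_mul_neg, one_mul, one_pow]
  have hεφ : φ ε = ε := by rw [hεdef, map_pow, map_neg, map_one]
  have hcoef : ∀ P : K[X], P.natDegree = n → P.coeff 0 = ε → CPal φ P → ∀ j, j ≤ n →
      φ (P.coeff (n - j)) = ε * P.coeff j := by
    intro P hd h0 hcp j hj
    have h1 : ((P.map φ).reverse).coeff j = (C (φ (P.coeff 0)) * P).coeff j :=
      congrArg (fun R => R.coeff j) hcp
    rw [coeff_reverse, Polynomial.natDegree_map, hd, revAt_le hj, coeff_map, coeff_C_mul, h0,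
      hεφ] at h1
    exact h1
  have hcard := card_fixed_semilinear hK φ hφ (Fin.rev : Fin (n - 1) → Fin (n - 1)) Fin.rev_rev ε
    hε hεφ
  rw [Fintype.card_fin] at hcard
  rw [← hcard]
  let Φ : {P : K[X] // P.Monic ∧ P.natDegree = n ∧ P.coeff 0 = ε ∧ CPal φ P} →
      {b : Fin (n - 1) → K // ∀ i, b (Fin.rev i) = ε * φ (b i)} := fun P =>
    ⟨fun i => P.1.coeff (i + 1), by
      intro i
      have hi := i.2
      have h1 := hcoef P.1 P.2.2.1 P.2.2.2.1 P.2.2.2.2 (i + 1) (by omega)
      have h2 : ((Fin.rev i : Fin (n - 1)) : ℕ) + 1 = n - (i + 1) := by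
        rw [Fin.val_rev]
        omega
      show P.1.coeff ((Fin.rev i : Fin (n - 1)) + 1) = ε * φ (P.1.coeff (i + 1))
      rw [h2, ← hφ2 (P.1.coeff (n - (i + 1))), h1, map_mul, hεφ]⟩
  have hΦa : ∀ P i, (Φ P).1 i = P.1.coeff (i + 1) := fun P i => rfl
  apply Nat.card_eq_of_bijective Φ
  constructor
  · rintro ⟨P, hP1, hP2, hP3, hP4⟩ ⟨P', hP1', hP2', hP3', hP4'⟩ h
    apply Subtype.ext
    show P = P'
    have h' : ∀ i : Fin (n - 1), P.coeff (i + 1) = P'.coeff (i + 1) := by
      intro i
      have := congrFun (congrArg Subtype.val h) i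
      exact this
    ext j
    rcases Nat.lt_trichotomy j n with hj | hj | hj
    · rcases Nat.eq_zero_or_pos j with h0 | h0
      · rw [h0, hP3, hP3']
      · have := h' ⟨j - 1, by omega⟩
        have e : j - 1 + 1 = j := by omega
        simp only at this
        rwa [e] at this
    · have e1 : P.coeff j = 1 := by
        rw [hj, ← hP2]
        exact hP1
      have e2 : P'.coeff j = 1 := by
        rw [hj, ← hP2']
        exact hP1'
      rw [e1, e2]
    · rw [coeff_eq_zero_of_natDegree_lt (by omega), coeff_eq_zero_of_natDegree_lt (by omega)]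
  · rintro ⟨b, hb⟩
    set a : Fin n → K := fun j =>
      if (j : ℕ) = 0 then ε else if h : (j : ℕ) - 1 < n - 1 then b ⟨(j : ℕ) - 1, h⟩ else 0 with ha
    set P' := (monicEquivFun n).symm a with hP'
    have hPc : ∀ j : Fin n, P'.1.coeff j = a j := by
      intro j
      rw [← monicEquivFun_apply n P' j, hP', Equiv.apply_symm_apply]
    have hPmon : P'.1.Monic := P'.2.1
    have hPdeg : P'.1.natDegree = n := P'.2.2
    have hP0 : P'.1.coeff 0 = ε := by
      have := hPc ⟨0, by omega⟩
      simp only [ha] at this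
      simpa using this
    have hPb : ∀ i : Fin (n - 1), P'.1.coeff (i + 1) = b i := by
      intro i
      have hi := i.2
      have := hPc ⟨i + 1, by omega⟩
      simp only [ha] at this
      rw [this, if_neg (by omega), dif_pos (by omega)]
      congr 1
    have hPn : P'.1.coeff n = 1 := by
      have h1 : P'.1.leadingCoeff = 1 := hPmon
      rwa [leadingCoeff, hPdeg] at h1
    have hcp : CPal φ P'.1 := by
      unfold CPal
      ext j
      rw [coeff_reverse, Polynomial.natDegree_map, hPdeg, coeff_C_mul, hP0, hεφ]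
      rcases Nat.lt_trichotomy j n with hj | hj | hj
      · rw [revAt_le hj.le, coeff_map]
        rcases Nat.eq_zero_or_pos j with h0 | h0
        · rw [h0, Nat.sub_zero, hPn, hP0, map_one, hε]
        · have h1 := hPb ⟨j - 1, by omega⟩
          have h2 := hPb ⟨n - j - 1, by omega⟩
          simp only at h1 h2
          have e1 : j - 1 + 1 = j := by omega
          have e2 : n - j - 1 + 1 = n - j := by omega
          rw [e1] at h1
          rw [e2] at h2
          rw [h1, h2]
          have h3 := hb ⟨j - 1, by omega⟩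
          have e3 : (Fin.rev (⟨j - 1, by omega⟩ : Fin (n - 1))) = ⟨n - j - 1, by omega⟩ := by
            apply Fin.ext
            rw [Fin.val_rev]
            simp only
            omega
          rw [e3] at h3
          rw [h3, map_mul, hεφ, hφ2]
      · rw [hj, revAt_le le_rfl, Nat.sub_self, coeff_map, hP0, hPn, hεφ, mul_one]
      · rw [revAt_eq_self_of_lt hj, coeff_map, coeff_eq_zero_of_natDegree_lt (by omega), map_zero,
          mul_zero]
    refine ⟨⟨P'.1, hPmon, hPdeg, hP0, hcp⟩, ?_⟩
    apply Subtype.ext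
    funext i
    exact hPb i

end finite

end Cfsg.Agent.Helper13.Uni
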