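import Mathlib
import Cfsg.Agent.Lib.Helper13.SympSemisimple

set_option autoImplicit false

namespace Cfsg.Agent.Helper13.SympSS

open Module Cfsg.Agent.Helper28.SympIso Cfsg.Agent.Helper28.IsoGrp

section matrix
variable {F : Type*} [Field F] [Finite F] {m : ℕ}

open Matrix in
/-- a linear intertwiner between semisimple symplectic matrices can be replaced by a
symplectic one -/
theorem symp_isConj_of_intertwiner (A B : Matrix.symplecticGroup (Fin m) F) (M : ℕ) (hM : 1 ≤ M)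
    (hMF : (M : F) ≠ 0) (hAM : A ^ M = 1)
    (X : (Fin m ⊕ Fin m → F) ≃ₗ[F] (Fin m ⊕ Fin m → F))
    (hX : ∀ v, X ((A : Matrix (Fin m ⊕ Fin m) (Fin m ⊕ Fin m) F) *ᵥ v)
      = (B : Matrix (Fin m ⊕ Fin m) (Fin m ⊕ Fin m) F) *ᵥ (X v)) : IsConj A B := by
  set β := sympBil m F with hβdef
  set φ := Matrix.toLinAlgEquiv' (R := F) (n := Fin m ⊕ Fin m) with hφ
  set a : Module.End F (Fin m ⊕ Fin m → F) :=
    φ (A : Matrix (Fin m ⊕ Fin m) (Fin m ⊕ Fin m) F) with hadef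
  have ha : ∀ v, a v = (A : Matrix (Fin m ⊕ Fin m) (Fin m ⊕ Fin m) F) *ᵥ v := fun v =>
    Matrix.toLinAlgEquiv'_apply _ _
  have hpres : ∀ (C : Matrix.symplecticGroup (Fin m) F) (u v : Fin m ⊕ Fin m → F),
      β ((C : Matrix (Fin m ⊕ Fin m) (Fin m ⊕ Fin m) F) *ᵥ u)
        ((C : Matrix (Fin m ⊕ Fin m) (Fin m ⊕ Fin m) F) *ᵥ v) = β u v := by
    intro C u v
    have h1 := mem_isoGrp.1 (sympMulEquiv m C).2 u v
    rw [sympMulEquiv_apply, sympMulEquiv_apply] at h1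
    exact h1
  have haM : a ^ M = 1 := by
    rw [hadef, ← map_pow, ← SubmonoidClass.coe_pow, hAM]
    simp
  have hβ : AltInv a β := ⟨sympBil_isAlt m, (sympBil_nondegenerate m).1, fun u v => by
    rw [ha, ha]
    exact hpres A u v⟩
  set β' : LinearMap.BilinForm F (Fin m ⊕ Fin m → F) :=
    β.compl₁₂ (X : (Fin m ⊕ Fin m → F) →ₗ[F] (Fin m ⊕ Fin m → F))
      (X : (Fin m ⊕ Fin m → F) →ₗ[F] (Fin m ⊕ Fin m → F)) with hβ'def
  have hβ'a : ∀ u v, β' u v = β (X u) (X v) := fun u v => rfl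
  have hβ' : AltInv a β' := by
    refine ⟨fun u => sympBil_isAlt m _, ?_, ?_⟩
    · intro u hu
      apply X.injective
      rw [map_zero]
      apply (sympBil_nondegenerate m).1
      intro w
      have := hu (X.symm w)
      rwa [hβ'a, X.apply_symm_apply] at this
    · intro u v
      rw [hβ'a, hβ'a, ha, ha, hX, hX]
      exact hpres B _ _
  obtain ⟨Z, hZc, hZ⟩ := exists_commuting_isometry M hM hMF _ (Fin m ⊕ Fin m → F) a β β' rfl haM
    hβ hβ'
  set Y : (Fin m ⊕ Fin m → F) →ₗ[F] (Fin m ⊕ Fin m → F) :=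
    (X : (Fin m ⊕ Fin m → F) →ₗ[F] (Fin m ⊕ Fin m → F)) ∘ₗ
      (Z.symm : (Fin m ⊕ Fin m → F) →ₗ[F] (Fin m ⊕ Fin m → F)) with hY
  set Ym := LinearMap.toMatrix' Y with hYmdef
  have hYm : ∀ v, Ym *ᵥ v = X (Z.symm v) := by
    intro v
    rw [hYmdef, LinearMap.toMatrix'_mulVec]
    rfl
  have hYmem : Ym ∈ Matrix.symplecticGroup (Fin m) F := by
    apply mem_symplectic_of_preserves
    intro u v
    rw [← sympBil_apply, ← sympBil_apply, hYm, hYm, ← hβ'a, ← hZ, Z.apply_symm_apply,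
      Z.apply_symm_apply]
  have hZs : ∀ v, Z.symm (a v) = a (Z.symm v) := by
    intro v
    apply Z.injective
    rw [Z.apply_symm_apply, hZc, Z.apply_symm_apply]
  rw [isConj_iff]
  refine ⟨⟨Ym, hYmem⟩, ?_⟩
  rw [mul_inv_eq_iff_eq_mul]
  apply Subtype.ext
  show Ym * (A : Matrix (Fin m ⊕ Fin m) (Fin m ⊕ Fin m) F)
    = (B : Matrix (Fin m ⊕ Fin m) (Fin m ⊕ Fin m) F) * Ym
  apply Matrix.toLin'.injective
  apply LinearMap.ext
  intro v
  rw [Matrix.toLin'_mul, Matrix.toLin'_mul, LinearMap.comp_apply, LinearMap.comp_apply,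
    Matrix.toLin'_apply, Matrix.toLin'_apply, Matrix.toLin'_apply, Matrix.toLin'_apply,
    hYm, hYm, ← ha, hZs, ha, hX]

end matrix

end Cfsg.Agent.Helper13.SympSS
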