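import Mathlib
import Cfsg.Agent.Lib.Helper13.SympReal
import Cfsg.Agent.Lib.Helper13.SympConj
import Cfsg.Agent.Lib.Helper13.SemisimpleCharpolyGL

set_option autoImplicit false

/-!
# Characteristic polynomials of symplectic matrices are palindromic, and conversely
-/

namespace Cfsg.Agent.Helper13.SympSS

open Polynomial Module Cfsg.Agent.Helper13.SS Cfsg.Agent.Helper13.Dual
open scoped Classical

universe u

section palin
variable {F : Type u} [Field F] {n : ℕ}

/-- the characteristic polynomial of a symplectic matrix is palindromic -/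
theorem reverse_charpoly_of_mem (g : Matrix (Fin n ⊕ Fin n) (Fin n ⊕ Fin n) F)
    (hg : g ∈ Matrix.symplecticGroup (Fin n) F) : g.charpoly.reverse = g.charpoly := by
  set g' : Matrix.symplecticGroup (Fin n) F := ⟨g, hg⟩ with hg'
  set h : Matrix (Fin n ⊕ Fin n) (Fin n ⊕ Fin n) F := ((g'⁻¹ : Matrix.symplecticGroup (Fin n) F) :
    Matrix (Fin n ⊕ Fin n) (Fin n ⊕ Fin n) F) with hh
  have hgh : g * h = 1 := by
    have h1 : g' * g'⁻¹ = 1 := mul_inv_cancel g'
    have h2 := congrArg (fun z : Matrix.symplecticGroup (Fin n) F =>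
      (z : Matrix (Fin n ⊕ Fin n) (Fin n ⊕ Fin n) F)) h1
    exact h2
  -- `h` has the same characteristic polynomial
  have hch : h.charpoly = g.charpoly := by
    have e1 : h = (-Matrix.J (Fin n) F) * g.transpose * Matrix.J (Fin n) F :=
      SymplecticGroup.coe_inv g'
    rw [e1, Matrix.charpoly_mul_comm, ← Matrix.mul_assoc, Matrix.mul_neg, Matrix.J_squared, neg_neg,
      Matrix.one_mul, Matrix.charpoly_transpose]
  rw [Matrix.reverse_charpoly, ← hch]
  -- `det (1 - X g) = det (g) det (h - X)`
  unfold Matrix.charpolyRev Matrix.charpoly Matrix.charmatrix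
  set G : Matrix (Fin n ⊕ Fin n) (Fin n ⊕ Fin n) F[X] := g.map C with hG
  set H : Matrix (Fin n ⊕ Fin n) (Fin n ⊕ Fin n) F[X] := h.map C with hH
  have hGH : G * H = 1 := by
    rw [hG, hH, ← Matrix.map_mul, hgh]
    ext i j
    by_cases hij : i = j
    · rw [hij, Matrix.map_apply, Matrix.one_apply_eq, Matrix.one_apply_eq, map_one]
    · rw [Matrix.map_apply, Matrix.one_apply_ne hij, Matrix.one_apply_ne hij, map_zero]
  have hdetG : G.det = 1 := by
    have h1 : G = (C : F →+* F[X]).mapMatrix g := rfl
    rw [h1, ← RingHom.map_det, SymplecticGroup.det_eq_one hg, map_one]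
  have e2 : (1 - (X : F[X]) • G) = G * -(Matrix.scalar (Fin n ⊕ Fin n) (X : F[X]) - H) := by
    rw [neg_sub, Matrix.mul_sub, hGH]
    congr 1
    ext i j
    simp [Matrix.mul_apply, Matrix.scalar_apply, Matrix.diagonal_apply, mul_comm]
  have e3 : (C : F →+* F[X]).mapMatrix h = H := rfl
  rw [e2, Matrix.det_mul, hdetG, one_mul, Matrix.det_neg, e3]
  have : Fintype.card (Fin n ⊕ Fin n) = 2 * n := by
    rw [Fintype.card_sum, Fintype.card_fin, two_mul]
  rw [this, pow_mul]
  simp

end palin

section transfer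
variable {F : Type u} [Field F] {m : ℕ} {P : F[X]}

open Cfsg.Agent.Helper28.SympIso

theorem SReal.even_natDegree (h : SReal m P) : Even P.natDegree := by
  obtain ⟨V, _, _, _, A, B, hAm, hAB, hAc⟩ := h
  rw [← hAc, LinearMap.charpoly_natDegree]
  exact Cfsg.Agent.Helper11.even_finrank_of_nondegenerate_isAlt B
    ⟨hAB.nondeg, hAB.nondeg_right⟩ hAB.alt

/-- transfer to the matrix group -/
theorem SReal.exists_matrix (h : SReal m P) (n : ℕ) (hn : P.natDegree = 2 * n) :
    ∃ g : Matrix.symplecticGroup (Fin n) F, g ^ m = 1 ∧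
      (g : Matrix (Fin n ⊕ Fin n) (Fin n ⊕ Fin n) F).charpoly = P := by
  obtain ⟨V, _, _, _, A, B, hAm, hAB, hAc⟩ := h
  have hfin : finrank F V = 2 * n := by
    rw [← hn, ← hAc, LinearMap.charpoly_natDegree]
  obtain ⟨e, he⟩ := exists_symp_equiv B hAB.alt ⟨hAB.nondeg, hAB.nondeg_right⟩ n hfin
  set A' : Module.End F (Fin n ⊕ Fin n → F) := e.conj A with hA'
  have hA'a : ∀ u, A' u = e (A (e.symm u)) := by
    intro u
    rw [hA', LinearEquiv.conj_apply]
    rfl
  set G : Matrix (Fin n ⊕ Fin n) (Fin n ⊕ Fin n) F := LinearMap.toMatrix' A' with hG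
  have hGv : ∀ u, G.mulVec u = A' u := by
    intro u
    rw [hG, LinearMap.toMatrix'_mulVec]
  have hGmem : G ∈ Matrix.symplecticGroup (Fin n) F := by
    apply mem_symplectic_of_preserves
    intro u v
    rw [← sympBil_apply, ← sympBil_apply, hGv, hGv, hA'a, hA'a, he, hAB.inv, ← he,
      e.apply_symm_apply, e.apply_symm_apply]
  refine ⟨⟨G, hGmem⟩, ?_, ?_⟩
  · apply Subtype.ext
    rw [SubmonoidClass.coe_pow]
    show G ^ m = 1
    have h1 : A' ^ m = 1 := by
      have h2 : A' = e.conjRingEquiv A := by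
        apply LinearMap.ext
        intro u
        rw [hA'a]
        rfl
      rw [h2, ← map_pow, hAm, map_one]
    rw [hG, ← LinearMap.toMatrix'_one]
    rw [← h1]
    exact (map_pow (LinearMap.toMatrixAlgEquiv' (R := F) (n := Fin n ⊕ Fin n)) A' m).symm
  · show G.charpoly = P
    rw [hG, ← hAc, ← LinearEquiv.charpoly_conj e A]
    exact LinearMap.charpoly_toMatrix A' (Pi.basisFun F (Fin n ⊕ Fin n))

theorem SReal.reverse (h : SReal m P) : P.reverse = P := by
  obtain ⟨n, hn⟩ := h.even_natDegree
  obtain ⟨g, -, hg⟩ := h.exists_matrix n (by rw [hn, two_mul])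
  rw [← hg]
  exact reverse_charpoly_of_mem _ g.2

end transfer

section induction
variable {F : Type u} [Field F] {m : ℕ}

/-- a palindromic polynomial divisible by `f` is divisible by the dual of `f` -/
theorem dualPoly_dvd_of_reverse {f P : F[X]} (hm : 1 ≤ m) (hf : Irreducible f)
    (hfm : f ∣ X ^ m - 1) (hP : P.reverse = P) (hfP : f ∣ P) : dualPoly m f ∣ P := by
  have : Fact (Irreducible f) := ⟨hf⟩
  rw [← dvd_comp_iff hf P]
  rw [← AdjoinRoot.mk_eq_zero, ← AdjoinRoot.aeval_eq, aeval_comp, map_pow, aeval_X]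
  set s := AdjoinRoot.root f with hs
  have h1 : s * s ^ (m - 1) = 1 := root_mul_inv hm hfm
  let _ : Invertible s := ⟨s ^ (m - 1), by rw [mul_comm]; exact h1, h1⟩
  have h2 := eval₂_reverse_eq_zero_iff (algebraMap F (AdjoinRoot f)) s P
  rw [hP] at h2
  have h3 : eval₂ (algebraMap F (AdjoinRoot f)) s P = 0 := by
    rw [← aeval_def, AdjoinRoot.aeval_eq, AdjoinRoot.mk_eq_zero]
    exact hfP
  rw [aeval_def]
  exact h2.2 h3

theorem reverse_of_mul {Q R : F[X]} (hQ : Q.reverse = Q) (hQ0 : Q ≠ 0)
    (hQR : (Q * R).reverse = Q * R) : R.reverse = R := by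
  rw [reverse_mul_of_domain, hQ] at hQR
  exact mul_left_cancel₀ hQ0 hQR

/-- an anti-palindromic polynomial of odd degree vanishes at `ε = ± 1` -/
theorem eval_eq_zero_of_anti (Q : F[X]) (ε : F) (hε : ε * ε = 1) (hodd : Odd Q.natDegree)
    (hQ : Q = C (-ε) * Q.reverse) : eval ε Q = 0 := by
  set N := Q.natDegree with hN
  obtain ⟨h, hh⟩ := hodd
  have hpow : ∀ j, ε ^ (2 * j) = 1 := by
    intro j
    rw [pow_mul, pow_two, hε, one_pow]
  have hco : ∀ i, i ≤ N → Q.coeff (N - i) = -ε * Q.coeff i := by
    intro i hi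
    have h1 : Q.coeff (N - i) = (C (-ε) * Q.reverse).coeff (N - i) := by rw [← hQ]
    rw [h1, coeff_C_mul, coeff_reverse, ← hN, revAt_le (Nat.sub_le N i), Nat.sub_sub_self hi]
  rw [eval_eq_sum_range, ← hN]
  apply Finset.sum_involution (fun i _ => N - i)
  · intro i hi
    have hi' : i ≤ N := by rw [Finset.mem_range] at hi; omega
    show Q.coeff i * ε ^ i + Q.coeff (N - i) * ε ^ (N - i) = 0
    rw [hco i hi']
    have h2 : ε * ε ^ (N - i) = ε ^ i := by
      have h3 : ε ^ (N - i + 1) * ε ^ i = 1 := by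
        rw [← pow_add]
        have : N - i + 1 + i = 2 * (h + 1) := by omega
        rw [this, hpow]
      have h4 : ε ^ i * ε ^ i = 1 := by
        rw [← pow_add, ← two_mul, hpow]
      calc ε * ε ^ (N - i) = ε ^ (N - i + 1) * (ε ^ i * ε ^ i) := by rw [h4, mul_one, pow_succ']
        _ = (ε ^ (N - i + 1) * ε ^ i) * ε ^ i := by ring
        _ = ε ^ i := by rw [h3, one_mul]
    calc Q.coeff i * ε ^ i + -ε * Q.coeff i * ε ^ (N - i)
        = Q.coeff i * ε ^ i - Q.coeff i * (ε * ε ^ (N - i)) := by ring
      _ = 0 := by rw [h2, sub_self]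
  · intro i hi _
    rw [Finset.mem_range] at hi
    omega
  · intro i hi
    rw [Finset.mem_range] at hi ⊢
    omega
  · intro i hi
    rw [Finset.mem_range] at hi
    show N - (N - i) = i
    omega

/-- **Existence**: every monic palindromic polynomial of even degree all of whose irreducible
factors divide `X ^ m - 1` is the characteristic polynomial of a symplectic isometry of exponent
`m`. -/
theorem sreal_of_palindromic (hm : 1 ≤ m) (hneg : (-1 : F) ^ m = 1) :
    ∀ (k : ℕ) (P : F[X]), P.Monic → P.natDegree = 2 * k → P.reverse = P →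
      (∀ f : F[X], Irreducible f → f.Monic → f ∣ P → f ∣ X ^ m - 1) → SReal m P := by
  intro k
  induction k using Nat.strong_induction_on with
  | _ k ih =>
  intro P hPmon hPdeg hPrev hPfac
  rcases Nat.eq_zero_or_pos k with hk | hk
  · have : P = 1 := Polynomial.eq_one_of_monic_natDegree_zero hPmon (by rw [hPdeg, hk])
    rw [this]
    exact sreal_one m
  -- the reduction step
  have step : ∀ Q : F[X], SReal m Q → Q.Monic → Q ∣ P → 1 ≤ Q.natDegree → SReal m P := by
    intro Q hQ hQmon hQP hQdeg
    obtain ⟨R, hR⟩ := hQP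
    have hQrev : Q.reverse = Q := hQ.reverse
    have hRmon : R.Monic := by
      rw [hR] at hPmon
      exact hQmon.of_mul_monic_left hPmon
    have hRrev : R.reverse = R := by
      apply reverse_of_mul hQrev hQmon.ne_zero
      rw [← hR]
      exact hPrev
    obtain ⟨j, hj⟩ := hQ.even_natDegree
    have hdeg : P.natDegree = Q.natDegree + R.natDegree := by
      rw [hR, hQmon.natDegree_mul hRmon]
    have hRdeg : R.natDegree = 2 * (k - j) := by omega
    have hlt : k - j < k := by omega
    have hRr := ih (k - j) hlt R hRmon hRdeg hRrev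
      (fun f hf hfm hfR => hPfac f hf hfm (by rw [hR]; exact Dvd.dvd.mul_left hfR Q))
    rw [hR]
    exact sreal_mul hQ hRr
  have hPnu : ¬ IsUnit P := Polynomial.not_isUnit_of_natDegree_pos P (by omega)
  obtain ⟨f, hfmon, hfirr, hfP⟩ := Polynomial.exists_monic_irreducible_factor P hPnu
  have hfm : f ∣ X ^ m - 1 := hPfac f hfirr hfmon hfP
  have hfdeg : 1 ≤ f.natDegree := hfirr.natDegree_pos
  have hdP : dualPoly m f ∣ P := dualPoly_dvd_of_reverse hm hfirr hfm hPrev hfP
  by_cases hfd : dualPoly m f = f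
  · by_cases hne : AdjoinRoot.root f ^ (m - 1) = AdjoinRoot.root f
    · -- the scalar case
      have hss : AdjoinRoot.root f * AdjoinRoot.root f = 1 := by
        have := root_mul_inv hm hfm
        rwa [hne] at this
      have h1 : f ∣ (X - C 1) * (X - C (-1)) := by
        have h2 : ((X : F[X]) - C 1) * (X - C (-1)) = X * X - 1 := by
          rw [C_neg, C_1]
          ring
        rw [h2, ← AdjoinRoot.mk_eq_zero, map_sub, map_mul, AdjoinRoot.mk_X, map_one, hss, sub_self]
      obtain ⟨ε, hε, hfε⟩ : ∃ ε : F, (ε = 1 ∨ ε = -1) ∧ f = X - C ε := by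
        rcases hfirr.prime.dvd_or_dvd h1 with h | h
        · exact ⟨1, Or.inl rfl, Polynomial.eq_of_monic_of_associated hfmon (monic_X_sub_C 1)
            (hfirr.associated_of_dvd (irreducible_X_sub_C 1) h)⟩
        · exact ⟨-1, Or.inr rfl, Polynomial.eq_of_monic_of_associated hfmon (monic_X_sub_C (-1))
            (hfirr.associated_of_dvd (irreducible_X_sub_C (-1)) h)⟩
      have hεε : ε * ε = 1 := by
        rcases hε with h | h
        · rw [h, one_mul]
        · rw [h, neg_mul_neg, one_mul]
      have hεm : ε ^ m = 1 := by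
        rcases hε with h | h
        · rw [h, one_pow]
        · rw [h, hneg]
      obtain ⟨P₁, hP₁⟩ := hfP
      have hP₁mon : P₁.Monic := by
        rw [hP₁] at hPmon
        exact hfmon.of_mul_monic_left hPmon
      have hdeg1 : P.natDegree = f.natDegree + P₁.natDegree := by
        rw [hP₁, hfmon.natDegree_mul hP₁mon]
      have hfdeg1 : f.natDegree = 1 := by rw [hfε, natDegree_X_sub_C]
      have hodd : Odd P₁.natDegree := ⟨k - 1, by omega⟩
      have hrevf : f.reverse = C (-ε) * f := by
        have e1 : f = X + C (-ε) := by rw [hfε, C_neg, sub_eq_add_neg]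
        have e2 : (X : F[X]).reverse = 1 := by
          have := reverse_mul_X (1 : F[X])
          rw [one_mul] at this
          rw [this]
          have h3 : (1 : F[X]) = C 1 := C_1.symm
          rw [h3, reverse_C]
        rw [e1, reverse_add_C, e2, natDegree_X, pow_one, mul_add, ← C_mul, neg_mul_neg, hεε, C_1,
          add_comm]
      have hanti : P₁ = C (-ε) * P₁.reverse := by
        have h4 : f * P₁ = f * (C (-ε) * P₁.reverse) := by
          calc f * P₁ = P.reverse := by rw [hPrev, hP₁]
            _ = f.reverse * P₁.reverse := by rw [hP₁, reverse_mul_of_domain]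
            _ = f * (C (-ε) * P₁.reverse) := by rw [hrevf]; ring
        exact mul_left_cancel₀ hfmon.ne_zero h4
      have hroot : eval ε P₁ = 0 := eval_eq_zero_of_anti P₁ ε hεε hodd hanti
      have hdvd1 : X - C ε ∣ P₁ := dvd_iff_isRoot.2 hroot
      have hdvd2 : (X - C ε) ^ 2 ∣ P := by
        rw [hP₁, hfε, pow_two]
        exact mul_dvd_mul_left _ hdvd1
      apply step ((X - C ε) ^ 2) (sreal_scalar ε hεε hεm) ((monic_X_sub_C ε).pow 2) hdvd2
      rw [(monic_X_sub_C ε).natDegree_pow, natDegree_X_sub_C]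
      omega
    · exact step f (sreal_selfdual hm hfirr hfmon hfm hfd hne) hfmon hfP hfdeg
  · have hcop : IsCoprime f (dualPoly m f) :=
      coprime_of_monic_irreducible' hfirr (dualPoly_irreducible hfirr) hfmon
        (dualPoly_monic hfirr) (Ne.symm hfd)
    have hdvd : f * dualPoly m f ∣ P := hcop.mul_dvd hfP hdP
    apply step (f * dualPoly m f) (sreal_pair hm hfirr hfmon hfm)
      (hfmon.mul (dualPoly_monic hfirr)) hdvd
    rw [hfmon.natDegree_mul (dualPoly_monic hfirr)]
    omega

end induction

section finite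
variable {F : Type u} [Field F] [Fintype F] {p : ℕ} [Fact p.Prime] [CharP F p]

/-- over a finite field, every monic palindromic polynomial of degree `2 n` is the characteristic
polynomial of an element of `Sp_{2n}(F)` of order prime to the characteristic -/
theorem exists_symp_of_palindromic (n : ℕ) (P : F[X]) (hP : P.Monic) (hdeg : P.natDegree = 2 * n)
    (hrev : P.reverse = P) :
    ∃ g : Matrix.symplecticGroup (Fin n) F,
      (g : Matrix (Fin n ⊕ Fin n) (Fin n ⊕ Fin n) F).charpoly = P ∧ (orderOf g).Coprime p := by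
  have hp : p.Prime := Fact.out
  set N := (2 * n).factorial with hN
  have hNpos : 0 < N := Nat.factorial_pos _
  set q := Fintype.card F with hq
  set M := q ^ N - 1 with hM
  have hMp : M.Coprime p := coprime_card_pow_sub_one (p := p) hq.symm N hNpos
  have hM1 : 1 ≤ M := by
    rcases Nat.eq_zero_or_pos M with h | h
    · rw [h] at hMp
      have : p = 1 := by simpa using hMp
      exact absurd this hp.one_lt.ne'
    · exact h
  have hneg : (-1 : F) ^ M = 1 := by
    have h1 : q - 1 ∣ M := by
      have := Nat.sub_dvd_pow_sub_pow q 1 N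
      rwa [one_pow] at this
    obtain ⟨c, hc⟩ := h1
    rw [hc, pow_mul, FiniteField.pow_card_sub_one_eq_one (-1 : F) (neg_ne_zero.2 one_ne_zero),
      one_pow]
  have hP0 : P.coeff 0 = 1 := by
    rw [← hrev, coeff_zero_reverse]
    exact hP
  have hfac : ∀ f : F[X], Irreducible f → f.Monic → f ∣ P → f ∣ X ^ M - 1 := by
    intro f hf hfmon hfP
    apply dvd_X_pow_sub_one_of_irreducible hf
    · intro hfX
      have h2 : f = X := Polynomial.eq_of_monic_of_associated hfmon monic_X
        (hf.associated_of_dvd irreducible_X hfX)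
      have h3 : X ∣ P := by
        rw [← h2]
        exact hfP
      have h4 := Polynomial.X_dvd_iff.1 h3
      rw [hP0] at h4
      exact one_ne_zero h4
    · apply Nat.dvd_factorial hf.natDegree_pos
      rw [← hdeg]
      exact Polynomial.natDegree_le_of_dvd hfP hP.ne_zero
  obtain ⟨g, hg1, hg2⟩ :=
    (sreal_of_palindromic hM1 hneg n P hP hdeg hrev hfac).exists_matrix n hdeg
  refine ⟨g, hg2, ?_⟩
  exact Nat.Coprime.coprime_dvd_left (orderOf_dvd_of_pow_eq_one hg1) hMp

end finite

section count
variable {F : Type u} [Field F]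

/-- the coefficients of the palindromic polynomial with prescribed lower half -/
def palC (n : ℕ) (a : ℕ → F) (j : ℕ) : F :=
  if j = 0 ∨ j = 2 * n then 1 else if j ≤ n then a (j - 1) else a (2 * n - j - 1)

theorem palC_symm (n : ℕ) (a : ℕ → F) {j : ℕ} (hj : j ≤ 2 * n) :
    palC n a (2 * n - j) = palC n a j := by
  unfold palC
  split_ifs <;> first | rfl | (exfalso; omega) | (congr 1; omega)

/-- the palindromic polynomial with prescribed lower half -/
noncomputable def palPoly (n : ℕ) (a : ℕ → F) : F[X] :=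
  ∑ j ∈ Finset.range (2 * n + 1), monomial j (palC n a j)

theorem coeff_palPoly (n : ℕ) (a : ℕ → F) (i : ℕ) :
    (palPoly n a).coeff i = if i ≤ 2 * n then palC n a i else 0 := by
  unfold palPoly
  rw [finsetSum_coeff]
  simp only [coeff_monomial]
  rw [Finset.sum_ite_eq']
  simp only [Finset.mem_range, Nat.lt_succ_iff]

theorem natDegree_palPoly (n : ℕ) (a : ℕ → F) : (palPoly n a).natDegree = 2 * n := by
  apply le_antisymm
  · rw [natDegree_le_iff_coeff_eq_zero]
    intro N hN
    rw [coeff_palPoly, if_neg (by omega)]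
  · apply le_natDegree_of_ne_zero
    rw [coeff_palPoly, if_pos le_rfl]
    unfold palC
    rw [if_pos (Or.inr rfl)]
    exact one_ne_zero

theorem monic_palPoly (n : ℕ) (a : ℕ → F) : (palPoly n a).Monic := by
  unfold Monic leadingCoeff
  rw [natDegree_palPoly, coeff_palPoly, if_pos le_rfl]
  unfold palC
  rw [if_pos (Or.inr rfl)]

theorem reverse_palPoly (n : ℕ) (a : ℕ → F) : (palPoly n a).reverse = palPoly n a := by
  ext i
  rw [coeff_reverse, natDegree_palPoly]
  by_cases hi : i ≤ 2 * n
  · rw [revAt_le hi, coeff_palPoly, coeff_palPoly, if_pos hi, if_pos (Nat.sub_le _ _),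
      palC_symm n a hi]
  · rw [revAt_eq_self_of_lt (by omega)]

/-- the number of monic palindromic polynomials of degree `2 n` -/
theorem card_palindromic [Fintype F] (n : ℕ) :
    Nat.card {P : F[X] // P.Monic ∧ P.natDegree = 2 * n ∧ P.reverse = P} =
      Fintype.card F ^ n := by
  have hsym : ∀ P : F[X], P.natDegree = 2 * n → P.reverse = P → ∀ i, i ≤ 2 * n →
      P.coeff (2 * n - i) = P.coeff i := by
    intro P hd hr i hi
    conv_rhs => rw [← hr, coeff_reverse, hd, revAt_le hi]
  let Φ : {P : F[X] // P.Monic ∧ P.natDegree = 2 * n ∧ P.reverse = P} → (Fin n → F) :=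
    fun P i => P.1.coeff (i + 1)
  have hcard : Nat.card (Fin n → F) = Fintype.card F ^ n := by
    rw [Nat.card_fun, Nat.card_eq_fintype_card, Nat.card_eq_fintype_card, Fintype.card_fin]
  rw [← hcard]
  apply Nat.card_eq_of_bijective Φ
  constructor
  · rintro ⟨P, hP1, hP2, hP3⟩ ⟨P', hP1', hP2', hP3'⟩ h
    apply Subtype.ext
    show P = P'
    have h0 : ∀ Q : F[X], Q.Monic → Q.reverse = Q → Q.coeff 0 = 1 := by
      intro Q hQ1 hQ3
      rw [← hQ3, coeff_zero_reverse]
      exact hQ1
    have hlow : ∀ j, j ≤ n → P.coeff j = P'.coeff j := by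
      intro j hj
      rcases Nat.eq_zero_or_pos j with h1 | h1
      · rw [h1, h0 P hP1 hP3, h0 P' hP1' hP3']
      · have h2 : P.coeff (j - 1 + 1) = P'.coeff (j - 1 + 1) := congrFun h ⟨j - 1, by omega⟩
        have e : j - 1 + 1 = j := by omega
        rwa [e] at h2
    ext j
    by_cases hj : j ≤ n
    · exact hlow j hj
    · by_cases hj2 : j ≤ 2 * n
      · have e : 2 * n - (2 * n - j) = j := by omega
        rw [← e, hsym P hP2 hP3 (2 * n - j) (Nat.sub_le _ _),
          hsym P' hP2' hP3' (2 * n - j) (Nat.sub_le _ _)]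
        exact hlow _ (by omega)
      · rw [coeff_eq_zero_of_natDegree_lt (by omega), coeff_eq_zero_of_natDegree_lt (by omega)]
  · intro a
    set a' : ℕ → F := fun i => if h : i < n then a ⟨i, h⟩ else 0 with ha'
    refine ⟨⟨palPoly n a', monic_palPoly n a', natDegree_palPoly n a', reverse_palPoly n a'⟩, ?_⟩
    funext i
    have hi := i.2
    show (palPoly n a').coeff (i + 1) = a i
    rw [coeff_palPoly, if_pos (by omega)]
    unfold palC
    rw [if_neg (by omega), if_pos (by omega)]
    simp only [ha', Nat.add_sub_cancel, hi, dif_pos]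

end count

end Cfsg.Agent.Helper13.SympSS
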