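import Mathlib

set_option autoImplicit false

/-!
# Counting tuples of naturals with bounded sum
-/

namespace Cfsg.Agent.Helper13.SS

/-- tuples with sum at most `N` correspond to tuples with one more (slack) entry and sum `N` -/
def slackEquiv (α : Type*) [Fintype α] (N : ℕ) :
    {b : α → ℕ // ∑ a, b a ≤ N} ≃ {P : Option α → ℕ // ∑ o, P o = N} where
  toFun b := ⟨fun o => o.elim (N - ∑ a, b.1 a) b.1, by
    rw [Fintype.sum_option]
    have := b.2
    simp only [Option.elim_none, Option.elim_some]
    omega⟩
  invFun P := ⟨fun a => P.1 (some a), by
    have := P.2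
    rw [Fintype.sum_option] at this
    show ∑ a, P.1 (some a) ≤ N
    omega⟩
  left_inv b := by
    apply Subtype.ext
    funext a
    rfl
  right_inv P := by
    apply Subtype.ext
    funext o
    cases o with
    | none =>
      have := P.2
      rw [Fintype.sum_option] at this
      show N - ∑ a, P.1 (some a) = P.1 none
      omega
    | some a => rfl

theorem card_tuples_le (α : Type*) [Fintype α] (N : ℕ) :
    Nat.card {b : α → ℕ // ∑ a, b a ≤ N} =
      Nat.choose (N + Fintype.card α) (Fintype.card α) := by
  classical
  rw [Nat.card_congr (slackEquiv α N),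
    ← Nat.card_congr (Sym.equivNatSumOfFintype (Option α) N), Nat.card_eq_fintype_card,
    Sym.card_sym_eq_choose, Fintype.card_option]
  have h1 : Fintype.card α + 1 + N - 1 = N + Fintype.card α := by omega
  rw [h1, Nat.choose_symm_add]

end Cfsg.Agent.Helper13.SS
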