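import Mathlib
import Cfsg.Agent.Lib.Helper13.SympPalin
import Cfsg.Agent.Lib.Helper13.CycloFactors
import Cfsg.Agent.Lib.Helper13.TupleCount

set_option autoImplicit false

/-!
# Elements of odd prime order in symplectic groups
-/

namespace Cfsg.Agent.Helper13.SympSS

open Polynomial Module Cfsg.Agent.Helper13.SS Cfsg.Agent.Helper13.Dual
open scoped Classical

universe u

section general
variable {F : Type u} [Field F] {m : ℕ}

theorem SReal.monic {P : F[X]} (h : SReal m P) : P.Monic := by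
  obtain ⟨V, _, _, _, A, B, hAm, hAB, hAc⟩ := h
  rw [← hAc]
  exact LinearMap.charpoly_monic A

theorem sreal_pow {P : F[X]} (h : SReal m P) (k : ℕ) : SReal m (P ^ k) := by
  induction k with
  | zero =>
    rw [pow_zero]
    exact sreal_one m
  | succ k ih =>
    rw [pow_succ]
    exact sreal_mul ih h

theorem sreal_prod {ι : Type*} (S : Finset ι) (Q : ι → F[X]) (h : ∀ a ∈ S, SReal m (Q a)) :
    SReal m (∏ a ∈ S, Q a) := by
  induction S using Finset.induction_on with
  | empty =>
    rw [Finset.prod_empty]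
    exact sreal_one m
  | insert a S ha ih =>
    rw [Finset.prod_insert ha]
    exact sreal_mul (h a (Finset.mem_insert_self a S))
      (ih (fun b hb => h b (Finset.mem_insert_of_mem hb)))

end general

section duality
variable {F : Type u} [Field F] {m : ℕ} {V : Type*} [AddCommGroup V] [Module F V]
  [FiniteDimensional F V]

/-- the eigenspaces of dual factors are in perfect duality, so the dimension of the one is at
most that of the other -/
theorem kdim_le_kdim_dual (hm : 1 ≤ m) (hmF : (m : F) ≠ 0) {A : Module.End F V}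
    {B : LinearMap.BilinForm F V} (hAm : A ^ m = 1) (hAB : AltInv A B) {f : F[X]}
    (hf : Irreducible f) (hfm : f ∣ X ^ m - 1) :
    kdim A f ≤ kdim A (dualPoly m f) := by
  set f' := dualPoly m f with hf'
  have hf'irr : Irreducible f' := dualPoly_irreducible hf
  obtain ⟨Q, hQ⟩ : f' ∣ X ^ m - 1 := dualPoly_dvd hf hfm
  have hsq : Squarefree (X ^ m - 1 : F[X]) := X_pow_sub_one_squarefree hmF
  have hnd : ¬ f' ∣ Q := by
    intro hd
    obtain ⟨c, hc⟩ := hd
    have h1 : f' * f' ∣ X ^ m - 1 := by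
      rw [hQ, hc, ← mul_assoc]
      exact dvd_mul_right _ _
    exact hf'irr.not_isUnit (hsq f' h1)
  have hcop : IsCoprime f' Q := hf'irr.coprime_iff_not_dvd.2 hnd
  have hkill : aeval A (f' * Q) = 0 := by
    rw [← hQ, map_sub, map_pow, aeval_X, map_one, hAm, sub_self]
  have hcompl := isCompl_ker_aeval A hcop hkill
  have hcop2 : IsCoprime f (Q.comp (X ^ (m - 1))) := by
    rw [hf.coprime_iff_not_dvd, dvd_comp_iff hf]
    exact hnd
  set W := LinearMap.ker (aeval A f) with hW
  set W' := LinearMap.ker (aeval A f') with hW'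
  set U := LinearMap.ker (aeval A Q) with hU
  let Λ : W →ₗ[F] W' →ₗ[F] F := B.domRestrict₁₂ W W'
  have hΛ : ∀ (u : W) (w : W'), Λ u w = B (u : V) (w : V) := fun u w => rfl
  have hinj : Function.Injective Λ := by
    rw [injective_iff_map_eq_zero]
    intro u hu
    apply Subtype.ext
    apply hAB.nondeg
    intro v
    obtain ⟨a, b, rfl⟩ := exists_decomp hcompl v
    rw [map_add]
    have h1 : B (u : V) (a : V) = 0 := by
      rw [← hΛ, hu]
      rfl
    have h2 : B (u : V) (b : V) = 0 :=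
      orth_of_coprime hm hAm hAB.inv f Q hcop2 (u : V) (b : V) (LinearMap.mem_ker.1 u.2)
        (LinearMap.mem_ker.1 b.2)
    rw [h1, h2, add_zero]
  have h3 := LinearMap.finrank_le_finrank_of_injective hinj
  have h4 : finrank F (W' →ₗ[F] F) = finrank F W' := Subspace.dual_finrank_eq
  rw [h4] at h3
  exact h3

theorem kdim_dual (hm : 1 ≤ m) (hmF : (m : F) ≠ 0) {A : Module.End F V}
    {B : LinearMap.BilinForm F V} (hAm : A ^ m = 1) (hAB : AltInv A B) {f : F[X]}
    (hf : Irreducible f) (hmon : f.Monic) (hfm : f ∣ X ^ m - 1) :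
    kdim A (dualPoly m f) = kdim A f := by
  apply le_antisymm
  · have h1 := kdim_le_kdim_dual hm hmF hAm hAB (dualPoly_irreducible (m := m) hf)
      (dualPoly_dvd hf hfm)
    rwa [dualPoly_dualPoly hm hf hmon hfm] at h1
  · exact kdim_le_kdim_dual hm hmF hAm hAB hf hfm

end duality

section cyclo
variable {F : Type u} [Field F] [Fintype F] {p : ℕ} [Fact p.Prime] [CharP F p] {r q : ℕ}
  {f : F[X]}

theorem cycFactors_dvd_X_pow (hf : f ∈ cycFactors F r) : f ∣ X ^ r - 1 :=
  (cycFactors_dvd hf).trans (cyclotomic.dvd_X_pow_sub_one r F)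

/-- the root of a cyclotomic factor is not its own inverse -/
theorem root_pow_ne_root (hr : r.Prime) (hr2 : r ≠ 2) (hrp : r ≠ p) (hf : f ∈ cycFactors F r) :
    AdjoinRoot.root f ^ (r - 1) ≠ AdjoinRoot.root f := by
  intro h
  have hfm := cycFactors_dvd_X_pow hf
  have hr1 : 1 ≤ r := hr.one_lt.le
  have h1 : AdjoinRoot.root f * AdjoinRoot.root f = 1 := by
    have := root_mul_inv hr1 hfm
    rwa [h] at this
  have h2 : AdjoinRoot.root f ^ r = 1 := root_pow_eq_one hfm
  obtain ⟨c, hc⟩ : Odd r := hr.odd_of_ne_two hr2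
  have h3 : AdjoinRoot.root f = 1 := by
    have : AdjoinRoot.root f ^ r = AdjoinRoot.root f := by
      rw [hc, pow_succ, pow_mul, pow_two, h1, one_pow, one_mul]
    rw [← this, h2]
  have h4 : f ∣ X - C 1 := by
    rw [← AdjoinRoot.mk_eq_zero, map_sub, AdjoinRoot.mk_X, AdjoinRoot.mk_C, map_one, h3, sub_self]
  have h5 : f = X - C 1 :=
    Polynomial.eq_of_monic_of_associated (cycFactors_monic hf) (monic_X_sub_C 1)
      ((cycFactors_irreducible hf).associated_of_dvd (irreducible_X_sub_C 1) h4)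
  rw [h5, map_one] at hf
  exact X_sub_one_notMem hr hrp hf

theorem dualPoly_mem_cycFactors (hr : r.Prime) (hr2 : r ≠ 2) (hrp : r ≠ p)
    (hf : f ∈ cycFactors F r) : dualPoly r f ∈ cycFactors F r := by
  haveI : Fact r.Prime := ⟨hr⟩
  have hfirr := cycFactors_irreducible hf
  have hfm := cycFactors_dvd_X_pow hf
  have hr1 : 1 ≤ r := hr.one_lt.le
  have hd : dualPoly r f ∣ cyclotomic r F * (X - 1) := by
    rw [cyclotomic_prime_mul_X_sub_one]
    exact dualPoly_dvd hfirr hfm
  have hdirr := dualPoly_irreducible (m := r) hfirr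
  haveI : NeZero (r : F) := ⟨cast_ne_zero_of_prime_ne hr hrp⟩
  have hne : cyclotomic r F ≠ 0 := cyclotomic_ne_zero r F
  rcases hdirr.prime.dvd_or_dvd hd with h | h
  · exact mem_irrFactors_of_dvd hne hdirr (dualPoly_monic hfirr) h
  · exfalso
    have e : (X - 1 : F[X]) = X - C 1 := by rw [map_one]
    rw [e] at h
    have h5 : dualPoly r f = X - C 1 :=
      Polynomial.eq_of_monic_of_associated (dualPoly_monic hfirr) (monic_X_sub_C 1)
        (hdirr.associated_of_dvd (irreducible_X_sub_C 1) h)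
    haveI : Fact (Irreducible f) := ⟨hfirr⟩
    have h6 := aeval_inv_dualPoly r f
    rw [h5, map_sub, aeval_X, aeval_C, map_one, sub_eq_zero] at h6
    have h7 := root_mul_inv hr1 hfm
    rw [h6, mul_one] at h7
    apply root_pow_ne_root hr hr2 hrp hf
    rw [h6, h7]

/-- Frobenius: `f (x ^ q) = f (x) ^ q` -/
theorem aeval_pow_card {K : Type*} [CommRing K] [Algebra F K] (f : F[X]) (x : K) :
    aeval (x ^ Fintype.card F) f = (aeval x f) ^ Fintype.card F := by
  rw [← expand_aeval, FiniteField.expand_card, map_pow]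

theorem aeval_pow_card_pow {K : Type*} [CommRing K] [Algebra F K] (f : F[X]) (x : K) (j : ℕ) :
    aeval (x ^ (Fintype.card F ^ j)) f = (aeval x f) ^ (Fintype.card F ^ j) := by
  induction j with
  | zero => rw [pow_zero, pow_one, pow_one]
  | succ j ih => rw [pow_succ, pow_mul, aeval_pow_card, ih, ← pow_mul]

/-- if the order of `q` modulo `r` is even, every cyclotomic factor is self-dual -/
theorem dualPoly_eq_self_of_even (hF : Fintype.card F = q) (hr : r.Prime)
    (hi0 : 0 < orderOf (q : ZMod r)) (hi : Even (orderOf (q : ZMod r)))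
    (hf : f ∈ cycFactors F r) : dualPoly r f = f := by
  haveI : Fact r.Prime := ⟨hr⟩
  obtain ⟨h, hh⟩ := hi
  have hfirr := cycFactors_irreducible hf
  have hfmon := cycFactors_monic hf
  have hfm := cycFactors_dvd_X_pow hf
  have hr1 : 1 ≤ r := hr.one_lt.le
  set u : ZMod r := (q : ZMod r) ^ h with hu
  have huu : u * u = 1 := by
    rw [hu, ← pow_add, ← hh, pow_orderOf_eq_one]
  have hu1 : u ≠ 1 := pow_ne_one_of_lt_orderOf (by omega) (by omega)
  have hum : u = -1 := by
    rcases mul_self_eq_one_iff.1 huu with h1 | h1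
    · exact absurd h1 hu1
    · exact h1
  have hdvd : r ∣ q ^ h + 1 := by
    rw [← ZMod.natCast_eq_zero_iff]
    push_cast
    rw [← hu, hum, neg_add_cancel]
  set s := AdjoinRoot.root f with hs
  have hs1 : s ^ (q ^ h + 1) = 1 := by
    obtain ⟨c, hc⟩ := hdvd
    rw [hc, pow_mul, root_pow_eq_one hfm, one_pow]
  have hs2 : s ^ (q ^ h) = s ^ (r - 1) := by
    have h1 : s ^ (q ^ h) * s = 1 := by rw [← pow_succ]; exact hs1
    have h2 : s * s ^ (r - 1) = 1 := root_mul_inv hr1 hfm
    calc s ^ (q ^ h) = s ^ (q ^ h) * (s * s ^ (r - 1)) := by rw [h2, mul_one]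
      _ = (s ^ (q ^ h) * s) * s ^ (r - 1) := by rw [mul_assoc]
      _ = s ^ (r - 1) := by rw [h1, one_mul]
  have hs3 : aeval (s ^ (r - 1)) f = 0 := by
    rw [← hs2, ← hF, aeval_pow_card_pow, AdjoinRoot.aeval_eq, AdjoinRoot.mk_self,
      zero_pow (pow_ne_zero _ Fintype.card_ne_zero)]
  have hd : dualPoly r f ∣ f := minpoly.dvd F _ hs3
  exact Polynomial.eq_of_monic_of_associated (dualPoly_monic hfirr) hfmon
    ((dualPoly_irreducible hfirr).associated_of_dvd hfirr hd)

/-- if the order of `q` modulo `r` is odd, no cyclotomic factor is self-dual -/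
theorem dualPoly_ne_self_of_odd (hF : Fintype.card F = q) (hr : r.Prime) (hr2 : r ≠ 2)
    (hrp : r ≠ p) (hi : Odd (orderOf (q : ZMod r))) (hf : f ∈ cycFactors F r) :
    dualPoly r f ≠ f := by
  intro hfd
  have hr1 : 1 ≤ r := hr.one_lt.le
  have h1 : SReal r f := sreal_selfdual hr1 (cycFactors_irreducible hf) (cycFactors_monic hf)
    (cycFactors_dvd_X_pow hf) hfd (root_pow_ne_root hr hr2 hrp hf)
  have h2 := h1.even_natDegree
  rw [cycFactors_natDegree hF hr hrp hf] at h2
  exact (Nat.not_even_iff_odd.2 hi) h2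

end cyclo

section involution
variable {α : Type*} (σ : α → α)

/-- a fixed-point-free involution on a finite set has a set of orbit representatives -/
theorem exists_half_finset (hσ : Function.Involutive σ) (hfix : ∀ a, σ a ≠ a) :
    ∀ (n : ℕ) (S : Finset α), S.card = n → (∀ a ∈ S, σ a ∈ S) →
      ∃ T : Finset α, T ⊆ S ∧ (∀ a ∈ T, σ a ∉ T) ∧ ∀ a ∈ S, a ∈ T ∨ σ a ∈ T := by
  intro n
  induction n using Nat.strong_induction_on with
  | _ n ih =>
  intro S hn hS
  rcases S.eq_empty_or_nonempty with h0 | ⟨x, hx⟩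
  · refine ⟨∅, Finset.empty_subset _, fun a ha => absurd ha (Finset.notMem_empty a), ?_⟩
    intro a ha
    rw [h0] at ha
    exact absurd ha (Finset.notMem_empty a)
  set S' := (S.erase x).erase (σ x) with hS'
  have hmem : ∀ a, a ∈ S' ↔ a ≠ σ x ∧ a ≠ x ∧ a ∈ S := by
    intro a
    rw [hS', Finset.mem_erase, Finset.mem_erase]
  have hcard : S'.card < n := by
    rw [← hn]
    calc S'.card ≤ (S.erase x).card := Finset.card_erase_le
      _ < S.card := Finset.card_erase_lt_of_mem hx
  have hS'σ : ∀ a ∈ S', σ a ∈ S' := by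
    intro a ha
    rw [hmem] at ha ⊢
    refine ⟨fun h => ha.2.1 (hσ.injective h), fun h => ha.1 ?_, hS a ha.2.2⟩
    rw [← h, hσ a]
  obtain ⟨T', hT'1, hT'2, hT'3⟩ := ih S'.card hcard S' rfl hS'σ
  refine ⟨insert x T', ?_, ?_, ?_⟩
  · intro a ha
    rcases Finset.mem_insert.1 ha with rfl | ha
    · exact hx
    · exact ((hmem a).1 (hT'1 ha)).2.2
  · intro a ha hσa
    rcases Finset.mem_insert.1 ha with rfl | ha
    · rcases Finset.mem_insert.1 hσa with h | h
      · exact hfix a h
      · exact ((hmem _).1 (hT'1 h)).1 rfl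
    · rcases Finset.mem_insert.1 hσa with h | h
      · apply ((hmem _).1 (hT'1 ha)).1
        rw [← h, hσ a]
      · exact hT'2 a ha h
  · intro a ha
    by_cases h1 : a = x
    · left
      rw [h1]
      exact Finset.mem_insert_self x T'
    by_cases h2 : a = σ x
    · right
      rw [h2, hσ x]
      exact Finset.mem_insert_self x T'
    · have : a ∈ S' := (hmem a).2 ⟨h2, h1, ha⟩
      rcases hT'3 a this with h | h
      · exact Or.inl (Finset.mem_insert_of_mem h)
      · exact Or.inr (Finset.mem_insert_of_mem h)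

variable [Fintype α]

theorem exists_half (hσ : Function.Involutive σ) (hfix : ∀ a, σ a ≠ a) :
    ∃ T : Finset α, (∀ a ∈ T, σ a ∉ T) ∧ ∀ a, a ∈ T ∨ σ a ∈ T := by
  obtain ⟨T, -, h2, h3⟩ := exists_half_finset σ hσ hfix _ Finset.univ rfl
    (fun a _ => Finset.mem_univ _)
  exact ⟨T, h2, fun a => h3 a (Finset.mem_univ a)⟩

theorem prod_eq_prod_half {M : Type*} [CommMonoid M] (hσ : Function.Involutive σ)
    (T : Finset α) (h1 : ∀ a ∈ T, σ a ∉ T) (h2 : ∀ a, a ∈ T ∨ σ a ∈ T) (g : α → M) :
    ∏ a, g a = ∏ a ∈ T, (g a * g (σ a)) := by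
  rw [Finset.prod_mul_distrib, ← Finset.prod_mul_prod_compl T g]
  congr 1
  apply Finset.prod_equiv hσ.toPerm
  · intro a
    rw [Finset.mem_compl]
    show a ∉ T ↔ σ a ∈ T
    constructor
    · intro ha
      rcases h2 a with h | h
      · exact absurd h ha
      · exact h
    · intro ha h
      apply h1 (σ a) ha
      rw [hσ a]
      exact h
  · intro a _
    show g a = g (σ (σ a))
    rw [hσ a]

theorem sum_eq_sum_half {M : Type*} [AddCommMonoid M] (hσ : Function.Involutive σ)
    (T : Finset α) (h1 : ∀ a ∈ T, σ a ∉ T) (h2 : ∀ a, a ∈ T ∨ σ a ∈ T) (g : α → M) :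
    ∑ a, g a = ∑ a ∈ T, (g a + g (σ a)) :=
  prod_eq_prod_half (M := Multiplicative M) σ hσ T h1 h2 g

theorem card_eq_two_mul_half (hσ : Function.Involutive σ)
    (T : Finset α) (h1 : ∀ a ∈ T, σ a ∉ T) (h2 : ∀ a, a ∈ T ∨ σ a ∈ T) :
    Fintype.card α = 2 * T.card := by
  have := sum_eq_sum_half σ hσ T h1 h2 (fun _ => 1)
  rw [Finset.sum_const, Finset.sum_const, smul_eq_mul, smul_eq_mul, mul_one] at this
  rw [← Finset.card_univ, this, mul_comm]

end involution

section count
variable {α : Type*} [Fintype α] (σ : α → α)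

/-- counting self-dual tuples when the involution has no fixed points -/
theorem card_selfdual_tuples_odd (hσ : Function.Involutive σ) (hfix : ∀ a, σ a ≠ a) (i m : ℕ)
    (hi : 0 < i) :
    Nat.card {k : α → ℕ // (∀ a, k (σ a) = k a) ∧ i * ∑ a, k a ≤ 2 * m} =
      Nat.choose (m / i + Fintype.card α / 2) (Fintype.card α / 2) := by
  obtain ⟨T, h1, h2⟩ := exists_half σ hσ hfix
  have hcard := card_eq_two_mul_half σ hσ T h1 h2
  have hT : Fintype.card α / 2 = Fintype.card ↥T := by
    rw [hcard, Fintype.card_coe]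
    omega
  rw [hT, ← card_tuples_le ↥T (m / i)]
  have hsum : ∀ k : α → ℕ, (∀ a, k (σ a) = k a) → ∑ a, k a = 2 * ∑ a : ↥T, k a.1 := by
    intro k hk
    rw [sum_eq_sum_half σ hσ T h1 h2 k, Finset.sum_coe_sort T k, Finset.mul_sum]
    apply Finset.sum_congr rfl
    intro a _
    rw [hk a, two_mul]
  let Φ : {k : α → ℕ // (∀ a, k (σ a) = k a) ∧ i * ∑ a, k a ≤ 2 * m} →
      {b : ↥T → ℕ // ∑ a, b a ≤ m / i} :=
    fun k => ⟨fun a => k.1 a.1, by
      rw [Nat.le_div_iff_mul_le hi]
      have := k.2.2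
      rw [hsum k.1 k.2.1] at this
      nlinarith⟩
  apply Nat.card_eq_of_bijective Φ
  constructor
  · rintro ⟨k, hk1, hk2⟩ ⟨k', hk1', hk2'⟩ h
    apply Subtype.ext
    funext a
    show k a = k' a
    have hT' : ∀ b : ↥T, k b.1 = k' b.1 := fun b => congrFun (congrArg Subtype.val h) b
    rcases h2 a with ha | ha
    · exact hT' ⟨a, ha⟩
    · rw [← hk1 a, ← hk1' a]
      exact hT' ⟨σ a, ha⟩
  · rintro ⟨b, hb⟩
    set b' : α → ℕ := fun a => if h : a ∈ T then b ⟨a, h⟩ else 0 with hb'
    have hb'T : ∀ a : ↥T, b' a.1 = b a := by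
      intro a
      rw [hb']
      simp only [a.2, dif_pos]
    have hb'0 : ∀ a, a ∉ T → b' a = 0 := by
      intro a ha
      rw [hb']
      simp only [ha, dif_neg, not_false_iff]
    set k : α → ℕ := fun a => b' a + b' (σ a) with hk
    have hk1 : ∀ a, k (σ a) = k a := by
      intro a
      show b' (σ a) + b' (σ (σ a)) = b' a + b' (σ a)
      rw [hσ a, add_comm]
    have hkT : ∀ a : ↥T, k a.1 = b a := by
      intro a
      show b' a.1 + b' (σ a.1) = b a
      rw [hb'T, hb'0 _ (h1 a.1 a.2), add_zero]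
    have hk2 : i * ∑ a, k a ≤ 2 * m := by
      rw [hsum k hk1, Finset.sum_congr rfl (fun a _ => hkT a)]
      rw [Nat.le_div_iff_mul_le hi] at hb
      nlinarith
    refine ⟨⟨k, hk1, hk2⟩, ?_⟩
    apply Subtype.ext
    funext a
    exact hkT a

/-- counting self-dual tuples when the involution is trivial -/
theorem card_selfdual_tuples_even (hσ : ∀ a, σ a = a) (i m : ℕ) (hi : 0 < i) :
    Nat.card {k : α → ℕ // (∀ a, k (σ a) = k a) ∧ i * ∑ a, k a ≤ 2 * m} =
      Nat.choose (2 * m / i + Fintype.card α) (Fintype.card α) := by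
  rw [← card_tuples_le α (2 * m / i)]
  apply Nat.card_congr
  apply Equiv.subtypeEquivRight
  intro k
  rw [Nat.le_div_iff_mul_le hi, mul_comm]
  constructor
  · exact fun h => h.2
  · exact fun h => ⟨fun a => by rw [hσ a], h⟩

end count

section matrices
variable {F : Type u} [Field F] {m : ℕ}

open Cfsg.Agent.Helper28.SympIso Cfsg.Agent.Helper28.IsoGrp

/-- the linear map of a symplectic matrix -/
noncomputable def LS (g : Matrix.symplecticGroup (Fin m) F) :
    Module.End F (Fin m ⊕ Fin m → F) :=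
  Matrix.toLinAlgEquiv' (g : Matrix (Fin m ⊕ Fin m) (Fin m ⊕ Fin m) F)

theorem LS_apply (g : Matrix.symplecticGroup (Fin m) F) (v : Fin m ⊕ Fin m → F) :
    LS g v = (g : Matrix (Fin m ⊕ Fin m) (Fin m ⊕ Fin m) F).mulVec v :=
  Matrix.toLinAlgEquiv'_apply _ _

theorem LS_pow_eq_one (g : Matrix.symplecticGroup (Fin m) F) (k : ℕ) (hg : g ^ k = 1) :
    LS g ^ k = 1 := by
  unfold LS
  rw [← map_pow, ← SubmonoidClass.coe_pow, hg]
  simp

theorem LS_altInv (g : Matrix.symplecticGroup (Fin m) F) : AltInv (LS g) (sympBil m F) :=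
  ⟨sympBil_isAlt m, (sympBil_nondegenerate m).1, fun u v => by
    rw [LS_apply, LS_apply]
    have h1 := mem_isoGrp.1 (sympMulEquiv m g).2 u v
    rw [sympMulEquiv_apply, sympMulEquiv_apply] at h1
    exact h1⟩

theorem LS_charpoly (g : Matrix.symplecticGroup (Fin m) F) :
    (LS g).charpoly = (g : Matrix (Fin m ⊕ Fin m) (Fin m ⊕ Fin m) F).charpoly :=
  Matrix.charpoly_toLin' _

theorem symp_charpoly_eq_of_isConj {g h : Matrix.symplecticGroup (Fin m) F} (hgh : IsConj g h) :
    (g : Matrix (Fin m ⊕ Fin m) (Fin m ⊕ Fin m) F).charpoly =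
      (h : Matrix (Fin m ⊕ Fin m) (Fin m ⊕ Fin m) F).charpoly := by
  obtain ⟨y, rfl⟩ := isConj_iff.1 hgh
  have h1 : ((y * g * y⁻¹ : Matrix.symplecticGroup (Fin m) F) :
      Matrix (Fin m ⊕ Fin m) (Fin m ⊕ Fin m) F) =
      (y : Matrix (Fin m ⊕ Fin m) (Fin m ⊕ Fin m) F) *
        ((g * y⁻¹ : Matrix.symplecticGroup (Fin m) F) :
          Matrix (Fin m ⊕ Fin m) (Fin m ⊕ Fin m) F) := by
    rw [mul_assoc]
    rfl
  rw [h1, Matrix.charpoly_mul_comm]
  have h2 : ((g * y⁻¹ : Matrix.symplecticGroup (Fin m) F) :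
      Matrix (Fin m ⊕ Fin m) (Fin m ⊕ Fin m) F) *
      (y : Matrix (Fin m ⊕ Fin m) (Fin m ⊕ Fin m) F) =
      ((g * y⁻¹ * y : Matrix.symplecticGroup (Fin m) F) :
        Matrix (Fin m ⊕ Fin m) (Fin m ⊕ Fin m) F) := rfl
  rw [h2, inv_mul_cancel_right]

end matrices

section main
variable {F : Type u} [Field F] [Fintype F] {p : ℕ} [Fact p.Prime] [CharP F p] {r q m : ℕ}

/-- extension by zero of a tuple indexed by the cyclotomic factors -/
noncomputable def extΦ (r : ℕ) (k : ↥(cycFactors F r) → ℕ) : F[X] → ℕ :=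
  fun f => if h : f ∈ cycFactors F r then k ⟨f, h⟩ else 0

theorem extΦ_apply (k : ↥(cycFactors F r) → ℕ) (a : ↥(cycFactors F r)) :
    extΦ r k a.1 = k a := by
  unfold extΦ
  rw [dif_pos a.2]

/-- the dual map on the set of cyclotomic factors -/
noncomputable def starΦ (hr : r.Prime) (hr2 : r ≠ 2) (hrp : r ≠ p) :
    ↥(cycFactors F r) → ↥(cycFactors F r) :=
  fun a => ⟨dualPoly r a.1, dualPoly_mem_cycFactors hr hr2 hrp a.2⟩

theorem starΦ_involutive (hr : r.Prime) (hr2 : r ≠ 2) (hrp : r ≠ p) :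
    Function.Involutive (starΦ (F := F) hr hr2 hrp) := by
  intro a
  apply Subtype.ext
  exact dualPoly_dualPoly hr.one_lt.le (cycFactors_irreducible a.2) (cycFactors_monic a.2)
    (cycFactors_dvd_X_pow a.2)

/-- the polynomial with prescribed multiplicities -/
noncomputable def primePoly (r m i : ℕ) (k : ↥(cycFactors F r) → ℕ) : F[X] :=
  (X - 1) ^ (2 * m - i * ∑ a, k a) * ∏ a : ↥(cycFactors F r), a.1 ^ k a

theorem sreal_primePoly (hF : Fintype.card F = q) (hr : r.Prime) (hr2 : r ≠ 2) (hrp : r ≠ p)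
    (hi0 : 0 < orderOf (q : ZMod r)) (k : ↥(cycFactors F r) → ℕ)
    (hk : ∀ a, k (starΦ hr hr2 hrp a) = k a) :
    SReal r (primePoly r m (orderOf (q : ZMod r)) k) := by
  have hr1 : 1 ≤ r := hr.one_lt.le
  set i := orderOf (q : ZMod r) with hi
  have hscal : SReal r ((X - 1 : F[X]) ^ 2) := by
    have := sreal_scalar (m := r) (1 : F) (one_mul 1) (one_pow r)
    rwa [map_one] at this
  unfold primePoly
  rcases Nat.even_or_odd i with hev | hodd
  · obtain ⟨h, hh⟩ := hev
    have hexp : 2 * m - i * ∑ a, k a = 2 * (m - h * ∑ a, k a) := by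
      rw [hh, add_mul]
      omega
    rw [hexp, pow_mul]
    apply sreal_mul (sreal_pow hscal _)
    apply sreal_prod
    intro a _
    apply sreal_pow
    exact sreal_selfdual hr1 (cycFactors_irreducible a.2) (cycFactors_monic a.2)
      (cycFactors_dvd_X_pow a.2) (dualPoly_eq_self_of_even hF hr hi0 ⟨h, hh⟩ a.2)
      (root_pow_ne_root hr hr2 hrp a.2)
  · have hinv := starΦ_involutive (F := F) hr hr2 hrp
    have hfix : ∀ a, starΦ (F := F) hr hr2 hrp a ≠ a := by
      intro a h
      exact dualPoly_ne_self_of_odd hF hr hr2 hrp hodd a.2 (congrArg Subtype.val h)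
    obtain ⟨T, h1, h2⟩ := exists_half _ hinv hfix
    have hsum : ∑ a, k a = 2 * ∑ a ∈ T, k a := by
      rw [sum_eq_sum_half _ hinv T h1 h2 k, Finset.mul_sum]
      apply Finset.sum_congr rfl
      intro a _
      rw [hk a, two_mul]
    have hexp : 2 * m - i * ∑ a, k a = 2 * (m - i * ∑ a ∈ T, k a) := by
      rw [hsum, ← mul_assoc, mul_comm i 2, mul_assoc]
      omega
    rw [hexp, pow_mul, prod_eq_prod_half _ hinv T h1 h2 (fun a => a.1 ^ k a)]
    apply sreal_mul (sreal_pow hscal _)
    apply sreal_prod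
    intro a _
    have e : a.1 ^ k a * (starΦ hr hr2 hrp a).1 ^ k (starΦ hr hr2 hrp a) =
        (a.1 * dualPoly r a.1) ^ k a := by
      rw [hk a, mul_pow]
      rfl
    rw [e]
    apply sreal_pow
    exact sreal_pair hr1 (cycFactors_irreducible a.2) (cycFactors_monic a.2)
      (cycFactors_dvd_X_pow a.2)

theorem natDegree_primePoly (hF : Fintype.card F = q) (hr : r.Prime) (hrp : r ≠ p)
    (k : ↥(cycFactors F r) → ℕ) (hkm : orderOf (q : ZMod r) * ∑ a, k a ≤ 2 * m) :
    (primePoly r m (orderOf (q : ZMod r)) k).natDegree = 2 * m := by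
  set i := orderOf (q : ZMod r) with hi
  unfold primePoly
  have e : (X - 1 : F[X]) = X - C 1 := by rw [map_one]
  have h1 : ((X - 1 : F[X]) ^ (2 * m - i * ∑ a, k a)).Monic := by
    rw [e]
    exact (monic_X_sub_C 1).pow _
  have h2 : (∏ a : ↥(cycFactors F r), a.1 ^ k a).Monic :=
    monic_prod_of_monic _ _ (fun a _ => (cycFactors_monic a.2).pow _)
  have h3 : ∑ a : ↥(cycFactors F r), (a.1 ^ k a).natDegree = i * ∑ a, k a := by
    rw [Finset.mul_sum]
    apply Finset.sum_congr rfl
    intro a _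
    rw [(cycFactors_monic a.2).natDegree_pow, cycFactors_natDegree hF hr hrp a.2, mul_comm]
  rw [h1.natDegree_mul h2, natDegree_prod_of_monic _ _ (fun a _ => (cycFactors_monic a.2).pow _),
    h3, e, (monic_X_sub_C 1).natDegree_pow, natDegree_X_sub_C]
  omega

/-- the exponents of `primePoly` -/
noncomputable def expo (r m i : ℕ) (k : ↥(cycFactors F r) → ℕ) : F[X] → ℕ :=
  fun f => if f = X - 1 then 2 * m - i * ∑ a, k a else extΦ r k f

theorem expo_apply (hr : r.Prime) (hrp : r ≠ p) (i : ℕ) (k : ↥(cycFactors F r) → ℕ)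
    (a : ↥(cycFactors F r)) : expo r m i k a.1 = k a := by
  unfold expo
  rw [if_neg (fun h => X_sub_one_notMem hr hrp (h ▸ a.2)), extΦ_apply]

theorem primePoly_eq_prod (hr : r.Prime) (hrp : r ≠ p) (i : ℕ) (k : ↥(cycFactors F r) → ℕ) :
    primePoly r m i k =
      ∏ f ∈ insert (X - 1 : F[X]) (cycFactors F r), f ^ expo r m i k f := by
  rw [Finset.prod_insert (X_sub_one_notMem hr hrp)]
  unfold primePoly
  congr 1
  · unfold expo
    rw [if_pos rfl]
  · rw [← Finset.prod_coe_sort (cycFactors F r) (fun f => f ^ expo r m i k f)]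
    apply Finset.prod_congr rfl
    intro a _
    rw [expo_apply hr hrp]

theorem primePoly_injective (hr : r.Prime) (hrp : r ≠ p) (i : ℕ)
    (k k' : ↥(cycFactors F r) → ℕ) (h : primePoly r m i k = primePoly r m i k') : k = k' := by
  rw [primePoly_eq_prod hr hrp, primePoly_eq_prod hr hrp] at h
  have h1 := exponents_unique _ (fun f hf => insert_irreducible hf)
    (insert_pairwise_coprime hr hrp) _ _ h
  funext a
  have h2 := h1 a.1 (Finset.mem_insert_of_mem a.2)
  rwa [expo_apply hr hrp, expo_apply hr hrp] at h2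

/-- the characteristic polynomial of an element with `g ^ r = 1` -/
theorem charpoly_eq_primePoly (hF : Fintype.card F = q) (hr : r.Prime) (hr2 : r ≠ 2)
    (hrp : r ≠ p) (g : Matrix.symplecticGroup (Fin m) F) (hg : g ^ r = 1) :
    ∃ k : ↥(cycFactors F r) → ℕ, (∀ a, k (starΦ hr hr2 hrp a) = k a) ∧
      orderOf (q : ZMod r) * ∑ a, k a ≤ 2 * m ∧
      (g : Matrix (Fin m ⊕ Fin m) (Fin m ⊕ Fin m) F).charpoly =
        primePoly r m (orderOf (q : ZMod r)) k := by
  have hr1 : 1 ≤ r := hr.one_lt.le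
  set i := orderOf (q : ZMod r) with hi
  set A := LS g with hA
  have hAr : A ^ r = 1 := LS_pow_eq_one g r hg
  set S := insert (X - 1 : F[X]) (cycFactors F r) with hS
  have hkill : aeval A (∏ f ∈ S, f) = 0 := by
    rw [hS, X_sub_one_mul_prod hr hrp, map_sub, map_pow, aeval_X, map_one, hAr, sub_self]
  have hirr : ∀ f ∈ S, Irreducible f := fun f hf => insert_irreducible hf
  have e1 : (X - 1 : F[X]) = X - C 1 := by rw [map_one]
  have hmon : ∀ f ∈ S, f.Monic := by
    intro f hf
    rcases Finset.mem_insert.1 hf with rfl | hf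
    · rw [e1]
      exact monic_X_sub_C 1
    · exact cycFactors_monic hf
  have hcop := insert_pairwise_coprime (F := F) hr hrp
  let k : ↥(cycFactors F r) → ℕ := fun a => kdim A a.1 / i
  have hki : ∀ a : ↥(cycFactors F r), k a * i = kdim A a.1 := by
    intro a
    apply Nat.div_mul_cancel
    rw [hi, ← cycFactors_natDegree hF hr hrp a.2]
    exact dvd_kdim A a.1 (cycFactors_irreducible a.2)
  have hfin := finrank_eq_sum_kdim A S hcop hkill
  rw [hS, Finset.sum_insert (X_sub_one_notMem hr hrp), Module.finrank_fintype_fun_eq_card,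
    Fintype.card_sum, Fintype.card_fin] at hfin
  have hsumΦ : ∑ f ∈ cycFactors F r, kdim A f = i * ∑ a, k a := by
    rw [← Finset.sum_coe_sort (cycFactors F r) (fun f => kdim A f), Finset.mul_sum]
    apply Finset.sum_congr rfl
    intro a _
    rw [← hki a, mul_comm]
  refine ⟨k, ?_, ?_, ?_⟩
  · intro a
    show kdim A (dualPoly r a.1) / i = kdim A a.1 / i
    rw [kdim_dual hr1 (cast_ne_zero_of_prime_ne hr hrp) hAr (LS_altInv g)
      (cycFactors_irreducible a.2) (cycFactors_monic a.2) (cycFactors_dvd_X_pow a.2)]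
  · omega
  · rw [← LS_charpoly, charpoly_eq_prod S hirr hmon A hkill, primePoly_eq_prod hr hrp]
    apply Finset.prod_congr rfl
    intro f hf
    congr 1
    rcases Finset.mem_insert.1 hf with h | h
    · rw [h]
      unfold expo
      rw [if_pos rfl, e1, natDegree_X_sub_C, Nat.div_one, ← e1]
      omega
    · have := expo_apply (m := m) hr hrp i k ⟨f, h⟩
      rw [this, cycFactors_natDegree hF hr hrp h]

end main

end Cfsg.Agent.Helper13.SympSS
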