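import Mathlib
import Cfsg.Agent.Lib.Helper13.UnitaryPalin
import Cfsg.Agent.Lib.Helper13.SympPrime

set_option autoImplicit false
set_option linter.unusedSectionVars false
set_option linter.style.haveILetI false

/-!
# Elements of odd prime order in unitary groups
-/

namespace Cfsg.Agent.Helper13.Uni

open Module Polynomial Cfsg.Agent.Helper13.SS Cfsg.Agent.Helper13.HermSS
  Cfsg.Agent.Helper13.SympSS Cfsg.Agent.Helper13.Dual Cfsg.Agent.Helper11.Herm
open scoped Classical

universe u v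

section duality
variable {F : Type v} {K : Type u} [Field F] [Field K] [Algebra F K] [FiniteDimensional F K]
variable {V : Type*} [AddCommGroup V] [Module F V] [Module K V] [IsScalarTower F K V]
  [FiniteDimensional K V]
variable {σ : K →ₐ[F] K} {ε : F} {m : ℕ}

/-- the eigenspaces of conjugate-dual factors are in perfect duality -/
theorem kdim_le_kdim_cdual (hσ2 : ∀ x, σ (σ x) = x) (hm : 1 ≤ m) (hmK : (m : K) ≠ 0)
    {A : Module.End K V} {B : LinearMap.BilinForm F V} (hAm : A ^ m = 1) (hAB : HInv σ ε A B)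
    {f : K[X]} (hf : Irreducible f) (hfm : f ∣ X ^ m - 1) :
    kdim A f ≤ kdim A (cdual m (σ : K →+* K) f) := by
  have hσ2' : ∀ x, (σ : K →+* K) ((σ : K →+* K) x) = x := hσ2
  set f' := cdual m (σ : K →+* K) f with hf'
  have hf'irr : Irreducible f' := cdual_irreducible hσ2' hf
  obtain ⟨Q, hQ⟩ : f' ∣ X ^ m - 1 := cdual_dvd hf hfm
  have hsq : Squarefree (X ^ m - 1 : K[X]) := X_pow_sub_one_squarefree hmK
  have hnd : ¬ f' ∣ Q := by
    intro hd
    obtain ⟨c, hc⟩ := hd
    have h1 : f' * f' ∣ X ^ m - 1 := by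
      rw [hQ, hc, ← mul_assoc]
      exact dvd_mul_right _ _
    exact hf'irr.not_isUnit (hsq f' h1)
  have hcop : IsCoprime f' Q := hf'irr.coprime_iff_not_dvd.2 hnd
  have hkill : aeval A (f' * Q) = 0 := by
    rw [← hQ, map_sub, map_pow, aeval_X, map_one, hAm, sub_self]
  have hcompl := isCompl_ker_aeval A hcop hkill
  have hcop2 : IsCoprime f ((Q.map (σ : K →+* K)).comp (X ^ (m - 1))) := by
    rw [hf.coprime_iff_not_dvd, dvd_comp_map_iff hσ2' hf]
    exact hnd
  set W := LinearMap.ker (aeval A f) with hW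
  set W' := LinearMap.ker (aeval A f') with hW'
  set U := LinearMap.ker (aeval A Q) with hU
  haveI : Module.Finite F W := finite_of_tower W
  haveI : Module.Finite F W' := finite_of_tower W'
  let Λ : W →ₗ[F] W' →ₗ[F] F :=
    B.compl₁₂ (W.subtype.restrictScalars F) (W'.subtype.restrictScalars F)
  have hΛ : ∀ (u : W) (w : W'), Λ u w = B (u : V) (w : V) := fun u w => rfl
  have hinj : Function.Injective Λ := by
    rw [injective_iff_map_eq_zero]
    intro u hu
    apply Subtype.ext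
    apply hAB.nondeg
    intro v
    obtain ⟨a, b, rfl⟩ := exists_decomp hcompl v
    rw [map_add]
    have h1 : B (u : V) (a : V) = 0 := by
      rw [← hΛ, hu]
      rfl
    have h2 : B (u : V) (b : V) = 0 :=
      hAB.orth_of_coprime hσ2 hm hAm f Q hcop2 (u : V) (b : V) (LinearMap.mem_ker.1 u.2)
        (LinearMap.mem_ker.1 b.2)
    rw [h1, h2, add_zero]
  have h3 := LinearMap.finrank_le_finrank_of_injective hinj
  have h4 : finrank F (W' →ₗ[F] F) = finrank F W' := Subspace.dual_finrank_eq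
  rw [h4, ← Module.finrank_mul_finrank F K W, ← Module.finrank_mul_finrank F K W'] at h3
  have hpos : 0 < finrank F K := Module.finrank_pos
  exact Nat.le_of_mul_le_mul_left h3 hpos

theorem kdim_cdual (hσ2 : ∀ x, σ (σ x) = x) (hm : 1 ≤ m) (hmK : (m : K) ≠ 0)
    {A : Module.End K V} {B : LinearMap.BilinForm F V} (hAm : A ^ m = 1) (hAB : HInv σ ε A B)
    {f : K[X]} (hf : Irreducible f) (hmon : f.Monic) (hfm : f ∣ X ^ m - 1) :
    kdim A (cdual m (σ : K →+* K) f) = kdim A f := by
  have hσ2' : ∀ x, (σ : K →+* K) ((σ : K →+* K) x) = x := hσ2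
  apply le_antisymm
  · have h1 := kdim_le_kdim_cdual hσ2 hm hmK hAm hAB (cdual_irreducible (M := m) hσ2' hf)
      (cdual_dvd hf hfm)
    rwa [cdual_cdual hσ2' hm hf hmon hfm] at h1
  · exact kdim_le_kdim_cdual hσ2 hm hmK hAm hAB hf hfm

end duality

section cyclo
variable {K : Type u} [Field K] [Fintype K] {p : ℕ} [Fact p.Prime] [CharP K p] {r q : ℕ}
  {f : K[X]} {σ : K →+* K}

theorem cdual_mem_cycFactors (hσ2 : ∀ x, σ (σ x) = x) (hr : r.Prime) (hr2 : r ≠ 2) (hrp : r ≠ p)
    (hf : f ∈ cycFactors K r) : cdual r σ f ∈ cycFactors K r := by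
  have h1 := dualPoly_mem_cycFactors hr hr2 hrp hf
  have hfirr := cycFactors_irreducible hf
  haveI : NeZero (r : K) := ⟨cast_ne_zero_of_prime_ne hr hrp⟩
  have hne : cyclotomic r K ≠ 0 := cyclotomic_ne_zero r K
  apply mem_irrFactors_of_dvd hne (cdual_irreducible hσ2 hfirr) (cdual_monic hfirr)
  have h2 := Polynomial.map_dvd σ (cycFactors_dvd h1)
  rwa [map_cyclotomic] at h2

end cyclo

section frob
variable {K : Type u} [Field K] [Fintype K] {q : ℕ} {σ : K →+* K}

/-- Frobenius on polynomials -/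
theorem frob_aeval (p : ℕ) [Fact p.Prime] [CharP K p] (hK : Fintype.card K = q ^ 2)
    (hσ : ∀ x, σ x = x ^ q) {k : Type*} [Field k]
    [Algebra K k] (P : K[X]) (y : k) : aeval (y ^ q) (P.map σ) = (aeval y P) ^ q := by
  have hp : p.Prime := Fact.out
  obtain ⟨n, hn, hn2⟩ := exists_card_pow (p := p) hK
  have hdvd : q ∣ p ^ n := by
    rw [← hn2]
    exact Dvd.intro_left q (by ring)
  obtain ⟨e, -, he⟩ := (Nat.dvd_prime_pow hp).1 hdvd
  haveI : CharP k p := charP_of_injective_algebraMap (algebraMap K k).injective p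
  have h1 : (algebraMap K k).comp σ = (iterateFrobenius k p e).comp (algebraMap K k) := by
    ext x
    rw [RingHom.comp_apply, RingHom.comp_apply, iterateFrobenius_def, hσ, map_pow, he]
  have h2 := Polynomial.map_aeval_eq_aeval_map h1 P y
  rw [iterateFrobenius_def, iterateFrobenius_def, ← he] at h2
  exact h2.symm

end frob

section selfdual
variable {K : Type u} [Field K] [Fintype K] {p : ℕ} [Fact p.Prime] [CharP K p] {r q : ℕ}
  {f : K[X]} {σ : K →+* K}

theorem root_ne_one (hr : r.Prime) (hrp : r ≠ p) (hf : f ∈ cycFactors K r) :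
    AdjoinRoot.root f ≠ 1 := by
  intro h3
  have h4 : f ∣ X - C 1 := by
    rw [← AdjoinRoot.mk_eq_zero, map_sub, AdjoinRoot.mk_X, AdjoinRoot.mk_C, map_one, h3, sub_self]
  have h5 : f = X - C 1 :=
    Polynomial.eq_of_monic_of_associated (cycFactors_monic hf) (monic_X_sub_C 1)
      ((cycFactors_irreducible hf).associated_of_dvd (irreducible_X_sub_C 1) h4)
  rw [h5, map_one] at hf
  exact X_sub_one_notMem hr hrp hf

/-- if the order of `q` modulo `r` is twice an odd number, every cyclotomic factor over the field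
with `q ^ 2` elements is conjugate-self-dual -/
theorem cdual_eq_self_of_mod4 (hK : Fintype.card K = q ^ 2) (hσ : ∀ x, σ x = x ^ q)
    (hσ2 : ∀ x, σ (σ x) = x) (hr : r.Prime) (hrp : r ≠ p)
    (hi4 : orderOf (q : ZMod r) % 4 = 2) (hf : f ∈ cycFactors K r) : cdual r σ f = f := by
  haveI : Fact r.Prime := ⟨hr⟩
  have hfirr := cycFactors_irreducible hf
  haveI : Fact (Irreducible f) := ⟨hfirr⟩
  have hfmon := cycFactors_monic hf
  have hfm := cycFactors_dvd_X_pow hf
  have hr1 : 1 ≤ r := hr.one_lt.le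
  set i := orderOf (q : ZMod r) with hi
  obtain ⟨c, hc⟩ : ∃ c, i = 2 * (2 * c + 1) := ⟨i / 4, by omega⟩
  set h := 2 * c + 1 with hh
  set u : ZMod r := (q : ZMod r) ^ h with hu
  have huu : u * u = 1 := by
    rw [hu, ← pow_add, ← two_mul, ← hc, hi, pow_orderOf_eq_one]
  have hu1 : u ≠ 1 := pow_ne_one_of_lt_orderOf (by omega) (by omega)
  have hum : u = -1 := by
    rcases mul_self_eq_one_iff.1 huu with h1 | h1
    · exact absurd h1 hu1
    · exact h1
  have hdvd : r ∣ q ^ h + 1 := by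
    rw [← ZMod.natCast_eq_zero_iff]
    push_cast
    rw [← hu, hum, neg_add_cancel]
  set s := AdjoinRoot.root f with hs
  have hs1 : s ^ (q ^ h + 1) = 1 := by
    obtain ⟨d, hd⟩ := hdvd
    rw [hd, pow_mul, root_pow_eq_one hfm, one_pow]
  have hs2 : s ^ (q ^ h) = s ^ (r - 1) := by
    have h1 : s ^ (q ^ h) * s = 1 := by rw [← pow_succ]; exact hs1
    have h2 : s * s ^ (r - 1) = 1 := root_mul_inv hr1 hfm
    calc s ^ (q ^ h) = s ^ (q ^ h) * (s * s ^ (r - 1)) := by rw [h2, mul_one]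
      _ = (s ^ (q ^ h) * s) * s ^ (r - 1) := by rw [mul_assoc]
      _ = s ^ (r - 1) := by rw [h1, one_mul]
  have hqh : q ^ h = q * (Fintype.card K) ^ c := by
    rw [hK, hh, ← pow_mul, pow_succ, mul_comm]
  have hs3 : aeval (s ^ (r - 1)) (f.map σ) = 0 := by
    rw [← hs2, hqh, pow_mul, aeval_pow_card_pow, frob_aeval p hK hσ, AdjoinRoot.aeval_eq,
      AdjoinRoot.mk_self, zero_pow, zero_pow (pow_ne_zero _ Fintype.card_ne_zero)]
    rintro rfl
    have := hσ 0
    simp at this
  have hd : dualPoly r f ∣ f.map σ := minpoly.dvd K _ hs3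
  have heq : dualPoly r f = f.map σ :=
    Polynomial.eq_of_monic_of_associated (dualPoly_monic hfirr) (hfmon.map σ)
      ((dualPoly_irreducible hfirr).associated_of_dvd (irreducible_map hσ2 hfirr) hd)
  unfold cdual
  rw [heq, map_map_self hσ2]

/-- if the order of `q` modulo `r` is not twice an odd number, no cyclotomic factor over the field
with `q ^ 2` elements is conjugate-self-dual -/
theorem cdual_ne_self_of_not_mod4 (hK : Fintype.card K = q ^ 2) (hσ : ∀ x, σ x = x ^ q)
    (hσ2 : ∀ x, σ (σ x) = x) (hr : r.Prime) (hr2 : r ≠ 2) (hrp : r ≠ p)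
    (hi4 : orderOf (q : ZMod r) % 4 ≠ 2) (hf : f ∈ cycFactors K r) : cdual r σ f ≠ f := by
  intro hfd
  haveI : Fact r.Prime := ⟨hr⟩
  have hfirr := cycFactors_irreducible hf
  haveI : Fact (Irreducible f) := ⟨hfirr⟩
  have hfmon := cycFactors_monic hf
  have hfm := cycFactors_dvd_X_pow hf
  have hr1 : 1 ≤ r := hr.one_lt.le
  haveI : FiniteDimensional K (AdjoinRoot f) := (AdjoinRoot.powerBasis hfirr.ne_zero).finite
  haveI : Finite (AdjoinRoot f) := Module.finite_of_finite K
  set k := AdjoinRoot f with hk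
  set s : k := AdjoinRoot.root f with hs
  set g := f.map σ with hg
  have hgirr : Irreducible g := irreducible_map hσ2 hfirr
  have hgmon : g.Monic := hfmon.map σ
  have h0 : dualPoly r f = g := by
    have := congrArg (fun P => P.map σ) hfd
    simp only [cdual] at this
    rwa [map_map_self hσ2] at this
  have hg1 : aeval (s ^ (r - 1)) g = 0 := by
    rw [← h0]
    exact aeval_inv_dualPoly r f
  have hg2 : aeval (s ^ q) g = 0 := by
    rw [hg, frob_aeval p hK hσ, AdjoinRoot.aeval_eq, AdjoinRoot.mk_self, zero_pow]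
    rintro rfl
    have := hσ 0
    simp at this
  have hm1 : g = minpoly K (s ^ (r - 1)) := minpoly.eq_of_irreducible_of_monic hgirr hg1 hgmon
  have hm2 : g = minpoly K (s ^ q) := minpoly.eq_of_irreducible_of_monic hgirr hg2 hgmon
  have hconj : IsConjRoot K (s ^ (r - 1)) (s ^ q) := by
    rw [isConjRoot_def, ← hm1, ← hm2]
  obtain ⟨ρ, hρ⟩ := hconj.exists_algEquiv
  obtain ⟨n, hn⟩ := (FiniteField.bijective_frobeniusAlgEquivOfAlgebraic_pow K k).2 ρ
  have hρ' : (s ^ q) ^ (Fintype.card K ^ n.1) = s ^ (r - 1) := by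
    rw [← hρ, ← hn, AlgEquiv.coe_pow, FiniteField.coe_frobeniusAlgEquivOfAlgebraic_iterate]
  -- hence `q ^ (2 n + 1) = -1` modulo `r`
  set j := 2 * n.1 + 1 with hj
  have hqj : q * Fintype.card K ^ n.1 = q ^ j := by
    rw [hK, hj, ← pow_mul, pow_succ, mul_comm]
  rw [← pow_mul, hqj] at hρ'
  have hs1 : s ^ (q ^ j + 1) = 1 := by
    rw [pow_succ, hρ', mul_comm]
    exact root_mul_inv hr1 hfm
  have hord : orderOf s = r := orderOf_eq_prime (root_pow_eq_one hfm) (root_ne_one hr hrp hf)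
  have hdvd : r ∣ q ^ j + 1 := by
    rw [← hord]
    exact orderOf_dvd_of_pow_eq_one hs1
  have hqm : (q : ZMod r) ^ j = -1 := by
    have h1 : ((q ^ j + 1 : ℕ) : ZMod r) = 0 := (ZMod.natCast_eq_zero_iff _ _).2 hdvd
    push_cast at h1
    exact eq_neg_of_add_eq_zero_left h1
  set i := orderOf (q : ZMod r) with hi
  have h2j : i ∣ 2 * j := by
    apply orderOf_dvd_of_pow_eq_one
    rw [mul_comm, pow_mul, hqm, neg_one_sq]
  have hnj : ¬ i ∣ j := by
    intro hd
    have h1 := orderOf_dvd_iff_pow_eq_one.1 hd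
    rw [hqm] at h1
    have h2 : (2 : ZMod r) = 0 := by linear_combination -h1
    have h3 : r ∣ 2 := by
      have := (ZMod.natCast_eq_zero_iff 2 r).1 (by exact_mod_cast h2)
      exact this
    have := Nat.le_of_dvd (by norm_num) h3
    have := hr.two_le
    omega
  apply hi4
  rcases Nat.even_or_odd i with he | ho
  · obtain ⟨i', hi'⟩ := he
    obtain ⟨d, hd⟩ := h2j
    have h1 : j = i' * d := by
      rw [hi', ← two_mul, mul_assoc] at hd
      exact Nat.eq_of_mul_eq_mul_left (by norm_num) hd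
    have hodd : Odd (i' * d) := by
      rw [← h1, hj]
      exact ⟨n.1, rfl⟩
    have hi'odd : Odd i' := (Nat.odd_mul.1 hodd).1
    obtain ⟨e, he⟩ := hi'odd
    omega
  · exfalso
    apply hnj
    have hcop : Nat.Coprime i 2 := Nat.Coprime.symm (Nat.coprime_two_left.2 ho)
    exact hcop.dvd_of_dvd_mul_left h2j

end selfdual

section count
variable {α : Type*} [Fintype α] (τ : α → α)

/-- counting symmetric tuples when the involution is trivial -/
theorem card_sym_tuples_trivial (hτ : ∀ a, τ a = a) (b n : ℕ) (hb : 0 < b) :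
    Nat.card {k : α → ℕ // (∀ a, k (τ a) = k a) ∧ b * ∑ a, k a ≤ n} =
      Nat.choose (n / b + Fintype.card α) (Fintype.card α) := by
  rw [← card_tuples_le α (n / b)]
  apply Nat.card_congr
  apply Equiv.subtypeEquivRight
  intro k
  rw [Nat.le_div_iff_mul_le hb, mul_comm]
  constructor
  · exact fun h => h.2
  · exact fun h => ⟨fun a => by rw [hτ a], h⟩

/-- counting symmetric tuples when the involution has no fixed points -/
theorem card_sym_tuples_free (hτ : Function.Involutive τ) (hfix : ∀ a, τ a ≠ a) (b n : ℕ)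
    (hb : 0 < b) :
    Nat.card {k : α → ℕ // (∀ a, k (τ a) = k a) ∧ b * ∑ a, k a ≤ n} =
      Nat.choose (n / (2 * b) + Fintype.card α / 2) (Fintype.card α / 2) := by
  obtain ⟨T, h1, h2⟩ := exists_half τ hτ hfix
  have hcard := card_eq_two_mul_half τ hτ T h1 h2
  have hT : Fintype.card α / 2 = Fintype.card ↥T := by
    rw [hcard, Fintype.card_coe]
    omega
  have h2b : 0 < 2 * b := by omega
  rw [hT, ← card_tuples_le ↥T (n / (2 * b))]
  have hsum : ∀ k : α → ℕ, (∀ a, k (τ a) = k a) → ∑ a, k a = 2 * ∑ a : ↥T, k a.1 := by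
    intro k hk
    rw [sum_eq_sum_half τ hτ T h1 h2 k, Finset.sum_coe_sort T k, Finset.mul_sum]
    apply Finset.sum_congr rfl
    intro a _
    rw [hk a, two_mul]
  let Φ : {k : α → ℕ // (∀ a, k (τ a) = k a) ∧ b * ∑ a, k a ≤ n} →
      {c : ↥T → ℕ // ∑ a, c a ≤ n / (2 * b)} :=
    fun k => ⟨fun a => k.1 a.1, by
      rw [Nat.le_div_iff_mul_le h2b]
      have := k.2.2
      rw [hsum k.1 k.2.1] at this
      nlinarith⟩
  apply Nat.card_eq_of_bijective Φ
  constructor
  · rintro ⟨k, hk1, hk2⟩ ⟨k', hk1', hk2'⟩ h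
    apply Subtype.ext
    funext a
    show k a = k' a
    have hT' : ∀ c : ↥T, k c.1 = k' c.1 := fun c => congrFun (congrArg Subtype.val h) c
    rcases h2 a with ha | ha
    · exact hT' ⟨a, ha⟩
    · rw [← hk1 a, ← hk1' a]
      exact hT' ⟨τ a, ha⟩
  · rintro ⟨c, hc⟩
    set c' : α → ℕ := fun a => if h : a ∈ T then c ⟨a, h⟩ else 0 with hc'
    have hc'T : ∀ a : ↥T, c' a.1 = c a := by
      intro a
      rw [hc']
      simp only [a.2, dif_pos]
    have hc'0 : ∀ a, a ∉ T → c' a = 0 := by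
      intro a ha
      rw [hc']
      simp only [ha, dif_neg, not_false_iff]
    set k : α → ℕ := fun a => c' a + c' (τ a) with hk
    have hk1 : ∀ a, k (τ a) = k a := by
      intro a
      show c' (τ a) + c' (τ (τ a)) = c' a + c' (τ a)
      rw [hτ a, add_comm]
    have hkT : ∀ a : ↥T, k a.1 = c a := by
      intro a
      show c' a.1 + c' (τ a.1) = c a
      rw [hc'T, hc'0 _ (h1 a.1 a.2), add_zero]
    have hk2 : b * ∑ a, k a ≤ n := by
      rw [hsum k hk1, Finset.sum_congr rfl (fun a _ => hkT a)]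
      rw [Nat.le_div_iff_mul_le h2b] at hc
      nlinarith
    refine ⟨⟨k, hk1, hk2⟩, ?_⟩
    apply Subtype.ext
    funext a
    exact hkT a

end count

section main
variable {F : Type v} {K : Type u} [Field F] [Field K] [Fintype K] [Algebra F K]
  {p : ℕ} [Fact p.Prime] [CharP K p] {r q n : ℕ} {σ : K →ₐ[F] K}

/-- the conjugate-dual map on the set of cyclotomic factors -/
noncomputable def starU (hσ2 : ∀ x, σ (σ x) = x) (hr : r.Prime) (hr2 : r ≠ 2) (hrp : r ≠ p) :
    ↥(cycFactors K r) → ↥(cycFactors K r) :=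
  fun a => ⟨cdual r (σ : K →+* K) a.1, cdual_mem_cycFactors (σ := (σ : K →+* K)) hσ2 hr hr2 hrp a.2⟩

theorem starU_involutive (hσ2 : ∀ x, σ (σ x) = x) (hr : r.Prime) (hr2 : r ≠ 2) (hrp : r ≠ p) :
    Function.Involutive (starU (K := K) hσ2 hr hr2 hrp) := by
  intro a
  apply Subtype.ext
  exact cdual_cdual (σ := (σ : K →+* K)) hσ2 hr.one_lt.le (cycFactors_irreducible a.2)
    (cycFactors_monic a.2) (cycFactors_dvd_X_pow a.2)

/-- the polynomial with prescribed multiplicities -/
noncomputable def uprimePoly (r n b : ℕ) (k : ↥(cycFactors K r) → ℕ) : K[X] :=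
  (X - 1) ^ (n - b * ∑ a, k a) * ∏ a : ↥(cycFactors K r), a.1 ^ k a

theorem cdual_X_sub_one (hσ2 : ∀ x, σ (σ x) = x) {m : ℕ} :
    cdual m (σ : K →+* K) (X - C 1) = X - C 1 := by
  have hσ2' : ∀ x, (σ : K →+* K) ((σ : K →+* K) x) = x := hσ2
  have hirr : Irreducible (X - C (1 : K)) := irreducible_X_sub_C 1
  apply Polynomial.eq_of_monic_of_associated (cdual_monic hirr) (monic_X_sub_C 1)
  apply (cdual_irreducible hσ2' hirr).associated_of_dvd hirr
  rw [← dvd_comp_map_iff hσ2' hirr, dvd_iff_isRoot]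
  simp [IsRoot]

theorem ureal_X_sub_one [FiniteDimensional F K] (hσ2 : ∀ x, σ (σ x) = x) (hσ1 : ∃ c, σ c ≠ c)
    (hr1 : 1 ≤ r) : UReal σ r (X - 1 : K[X]) := by
  have e : (X - 1 : K[X]) = X - C 1 := by rw [map_one]
  rw [e]
  apply ureal_selfdual hσ2 hσ1 hr1 (irreducible_X_sub_C 1) (monic_X_sub_C 1) _
    (cdual_X_sub_one hσ2)
  rw [dvd_iff_isRoot]
  simp [IsRoot]

theorem ureal_uprimePoly [FiniteDimensional F K] (hσ2 : ∀ x, σ (σ x) = x) (hσ1 : ∃ c, σ c ≠ c)
    (hr : r.Prime) (hr2 : r ≠ 2) (hrp : r ≠ p) (b : ℕ) (k : ↥(cycFactors K r) → ℕ)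
    (hk : ∀ a, k (starU hσ2 hr hr2 hrp a) = k a)
    (hcase : (∀ a, starU (K := K) hσ2 hr hr2 hrp a = a) ∨
      (∀ a, starU (K := K) hσ2 hr hr2 hrp a ≠ a)) :
    UReal σ r (uprimePoly r n b k) := by
  have hr1 : 1 ≤ r := hr.one_lt.le
  unfold uprimePoly
  apply ureal_mul (ureal_pow (ureal_X_sub_one hσ2 hσ1 hr1) _)
  rcases hcase with hall | hnone
  · apply ureal_prod
    intro a _
    apply ureal_pow
    exact ureal_selfdual hσ2 hσ1 hr1 (cycFactors_irreducible a.2) (cycFactors_monic a.2)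
      (cycFactors_dvd_X_pow a.2) (congrArg Subtype.val (hall a))
  · have hinv := starU_involutive (K := K) hσ2 hr hr2 hrp
    obtain ⟨T, h1, h2⟩ := exists_half _ hinv hnone
    rw [prod_eq_prod_half _ hinv T h1 h2 (fun a => a.1 ^ k a)]
    apply ureal_prod
    intro a _
    have e : a.1 ^ k a * (starU hσ2 hr hr2 hrp a).1 ^ k (starU hσ2 hr hr2 hrp a) =
        (a.1 * cdual r (σ : K →+* K) a.1) ^ k a := by
      rw [hk a, mul_pow]
      rfl
    rw [e]
    apply ureal_pow
    exact ureal_pair hσ2 hr1 (cycFactors_irreducible a.2) (cycFactors_monic a.2)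
      (cycFactors_dvd_X_pow a.2)

theorem natDegree_uprimePoly (b : ℕ) (hb : ∀ f ∈ cycFactors K r, f.natDegree = b)
    (k : ↥(cycFactors K r) → ℕ) (hkn : b * ∑ a, k a ≤ n) :
    (uprimePoly r n b k).natDegree = n := by
  unfold uprimePoly
  have e : (X - 1 : K[X]) = X - C 1 := by rw [map_one]
  have h1 : ((X - 1 : K[X]) ^ (n - b * ∑ a, k a)).Monic := by
    rw [e]
    exact (monic_X_sub_C 1).pow _
  have h2 : (∏ a : ↥(cycFactors K r), a.1 ^ k a).Monic :=
    monic_prod_of_monic _ _ (fun a _ => (cycFactors_monic a.2).pow _)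
  have h3 : ∑ a : ↥(cycFactors K r), (a.1 ^ k a).natDegree = b * ∑ a, k a := by
    rw [Finset.mul_sum]
    apply Finset.sum_congr rfl
    intro a _
    rw [(cycFactors_monic a.2).natDegree_pow, hb a.1 a.2, mul_comm]
  rw [h1.natDegree_mul h2, natDegree_prod_of_monic _ _ (fun a _ => (cycFactors_monic a.2).pow _),
    h3, e, (monic_X_sub_C 1).natDegree_pow, natDegree_X_sub_C]
  omega

/-- the exponents of `uprimePoly` -/
noncomputable def uexpo (r n b : ℕ) (k : ↥(cycFactors K r) → ℕ) : K[X] → ℕ :=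
  fun f => if f = X - 1 then n - b * ∑ a, k a else extΦ r k f

theorem uexpo_apply (hr : r.Prime) (hrp : r ≠ p) (b : ℕ) (k : ↥(cycFactors K r) → ℕ)
    (a : ↥(cycFactors K r)) : uexpo r n b k a.1 = k a := by
  unfold uexpo
  rw [if_neg (fun h => X_sub_one_notMem hr hrp (h ▸ a.2)), extΦ_apply]

theorem uprimePoly_eq_prod (hr : r.Prime) (hrp : r ≠ p) (b : ℕ) (k : ↥(cycFactors K r) → ℕ) :
    uprimePoly r n b k =
      ∏ f ∈ insert (X - 1 : K[X]) (cycFactors K r), f ^ uexpo r n b k f := by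
  rw [Finset.prod_insert (X_sub_one_notMem hr hrp)]
  unfold uprimePoly
  congr 1
  · unfold uexpo
    rw [if_pos rfl]
  · rw [← Finset.prod_coe_sort (cycFactors K r) (fun f => f ^ uexpo r n b k f)]
    apply Finset.prod_congr rfl
    intro a _
    rw [uexpo_apply hr hrp]

theorem uprimePoly_injective (hr : r.Prime) (hrp : r ≠ p) (b : ℕ)
    (k k' : ↥(cycFactors K r) → ℕ) (h : uprimePoly r n b k = uprimePoly r n b k') : k = k' := by
  rw [uprimePoly_eq_prod hr hrp, uprimePoly_eq_prod hr hrp] at h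
  have h1 := exponents_unique _ (fun f hf => insert_irreducible hf)
    (insert_pairwise_coprime hr hrp) _ _ h
  funext a
  have h2 := h1 a.1 (Finset.mem_insert_of_mem a.2)
  rwa [uexpo_apply hr hrp, uexpo_apply hr hrp] at h2

/-- the characteristic polynomial of a unitary matrix with `g ^ r = 1` -/
theorem charpoly_eq_uprimePoly (hσ : ∀ x, σ x = x ^ q) (hσ2 : ∀ x, σ (σ x) = x)
    (hσ1 : ∃ c, σ c ≠ c) (hr : r.Prime) (hr2 : r ≠ 2) (hrp : r ≠ p) (b : ℕ) (hb0 : 0 < b)
    (hb : ∀ f ∈ cycFactors K r, f.natDegree = b)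
    (g : Matrix (Fin n) (Fin n) K) (hgP : Pres q g) (hg : g ^ r = 1) :
    ∃ k : ↥(cycFactors K r) → ℕ, (∀ a, k (starU hσ2 hr hr2 hrp a) = k a) ∧
      b * ∑ a, k a ≤ n ∧ g.charpoly = uprimePoly r n b k := by
  haveI : FiniteDimensional F K := Module.Finite.of_finite
  have hr1 : 1 ≤ r := hr.one_lt.le
  obtain ⟨tr, htr, htrσ⟩ := exists_tr σ hσ2 hσ1
  have hH := hermForm_isSesq σ hσ hσ2 n
  set A : Module.End K (Fin n → K) := Matrix.toLinAlgEquiv' g with hA
  have hAa : ∀ v, A v = g.mulVec v := fun v => Matrix.toLinAlgEquiv'_apply _ _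
  have hAr : A ^ r = 1 := by rw [hA, ← map_pow, hg, map_one]
  have hAB : HInv σ 1 A (trForm tr (Cfsg.hermForm n K q) hH) :=
    trForm_hinv tr htr htrσ hσ2 hH A (fun u v => by rw [hAa, hAa]; exact hgP u v)
  set S := insert (X - 1 : K[X]) (cycFactors K r) with hS
  have hkill : aeval A (∏ f ∈ S, f) = 0 := by
    rw [hS, X_sub_one_mul_prod hr hrp, map_sub, map_pow, aeval_X, map_one, hAr, sub_self]
  have hirr : ∀ f ∈ S, Irreducible f := fun f hf => insert_irreducible hf
  have e1 : (X - 1 : K[X]) = X - C 1 := by rw [map_one]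
  have hmon : ∀ f ∈ S, f.Monic := by
    intro f hf
    rcases Finset.mem_insert.1 hf with rfl | hf
    · rw [e1]
      exact monic_X_sub_C 1
    · exact cycFactors_monic hf
  have hcop := insert_pairwise_coprime (F := K) hr hrp
  let k : ↥(cycFactors K r) → ℕ := fun a => kdim A a.1 / b
  have hki : ∀ a : ↥(cycFactors K r), k a * b = kdim A a.1 := by
    intro a
    apply Nat.div_mul_cancel
    rw [← hb a.1 a.2]
    exact dvd_kdim A a.1 (cycFactors_irreducible a.2)
  have hfin := finrank_eq_sum_kdim A S hcop hkill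
  rw [hS, Finset.sum_insert (X_sub_one_notMem hr hrp), Module.finrank_fintype_fun_eq_card,
    Fintype.card_fin] at hfin
  have hsumΦ : ∑ f ∈ cycFactors K r, kdim A f = b * ∑ a, k a := by
    rw [← Finset.sum_coe_sort (cycFactors K r) (fun f => kdim A f), Finset.mul_sum]
    apply Finset.sum_congr rfl
    intro a _
    rw [← hki a, mul_comm]
  refine ⟨k, ?_, ?_, ?_⟩
  · intro a
    show kdim A (cdual r (σ : K →+* K) a.1) / b = kdim A a.1 / b
    rw [kdim_cdual hσ2 hr1 (cast_ne_zero_of_prime_ne hr hrp) hAr hAB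
      (cycFactors_irreducible a.2) (cycFactors_monic a.2) (cycFactors_dvd_X_pow a.2)]
  · omega
  · have hch : A.charpoly = g.charpoly := Matrix.charpoly_toLin' g
    rw [← hch, charpoly_eq_prod S hirr hmon A hkill, uprimePoly_eq_prod hr hrp]
    apply Finset.prod_congr rfl
    intro f hf
    congr 1
    rcases Finset.mem_insert.1 hf with h | h
    · rw [h]
      unfold uexpo
      rw [if_pos rfl, e1, natDegree_X_sub_C, Nat.div_one, ← e1]
      omega
    · have := uexpo_apply (n := n) hr hrp b k ⟨f, h⟩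
      rw [this, hb f h]

end main

end Cfsg.Agent.Helper13.Uni
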