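import Mathlib
import Cfsg.Agent.Lib.Helper2.AICDefs
import Cfsg.Agent.Lib.Helper2.AICGEN
import Cfsg.Agent.Lib.Helper2.AICBAS1

/-!
# S2202, piece INV (A9, A10) (helper13)
-/

set_option autoImplicit false

namespace Cfsg.Agent.Helper2.AIC

variable {G : Type*} [Group G] [Finite G]

/-- an element of odd order whose order is a power of two is trivial -/
theorem inv_eq_one_of_odd_of_two_pow {x : G} (hodd : Odd (orderOf x)) {n : ℕ}
    (h2 : x ^ 2 ^ n = 1) : x = 1 := by
  have hd : orderOf x ∣ 2 ^ n := orderOf_dvd_of_pow_eq_one h2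
  obtain ⟨j, _, hj⟩ := (Nat.dvd_prime_pow Nat.prime_two).1 hd
  rcases Nat.eq_zero_or_pos j with h0 | h0
  · rw [h0, pow_zero] at hj
    exact orderOf_eq_one_iff.1 hj
  · exfalso
    rw [hj] at hodd
    have : Even (2 ^ j) := (Nat.even_pow.2 ⟨even_two, h0.ne'⟩)
    exact (Nat.not_odd_iff_even.2 this) hodd

/-- an involution `v ∈ R` fixes only the point `R` (own copy of `Cfg.eq_of_inv_mem_Mn` of BAS2, to be
independent of it) -/
theorem Cfg.inv_eq_of_inv_mem_Mn (c : Cfg G) {v : G} (hv : orderOf v = 2) {R Q : Sylow 2 G}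
    (hvR : v ∈ R) (h : v ∈ Mn Q) : Q = R := by
  have hvQ : v ∈ Q := mem_sylow_of_mem_Mn h (k := 1) (by rw [hv, pow_one])
  have hC : Cn Q = Cn R := by rw [← c.centralizer_eq hvQ hv, ← c.centralizer_eq hvR hv]
  have hle : (Q : Subgroup G) ≤ R := by
    intro x hx
    have hxC : x ∈ Cn R := by rw [← hC]; exact c.sylow_le_Cn Q hx
    obtain ⟨n, hn⟩ := Q.2 ⟨x, hx⟩
    have hn' : x ^ 2 ^ n = 1 := by
      have := congrArg Subtype.val hn
      simpa using this
    have hd : orderOf x ∣ 2 ^ n := orderOf_dvd_of_pow_eq_one hn'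
    obtain ⟨j, _, hj⟩ := (Nat.dvd_prime_pow Nat.prime_two).1 hd
    exact c.mem_sylow_of_mem_Cn hxC hj
  exact Sylow.ext (Q.is_maximal' R.2 hle).symm

/-- A9 -/
theorem Cfg.eq_one_of_inverted (c : Cfg G) {P : Sylow 2 G} {k : G} (hk : k ∈ Kn P) {v : G}
    (hv : orderOf v = 2) (h : v * k * v⁻¹ = k⁻¹) : k = 1 := by
  obtain ⟨hkC, hkodd⟩ := (c.mem_Kn_iff P).1 hk
  set Y : Subgroup G := Subgroup.centralizer ({k} : Set G) with hY
  have hmemY : ∀ x : G, x ∈ Y ↔ k * x = x * k := by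
    intro x
    rw [hY, Subgroup.mem_centralizer_iff]
    constructor
    · intro hx; exact hx k (Set.mem_singleton k)
    · intro hx y hy
      rw [Set.mem_singleton_iff] at hy
      rw [hy]; exact hx
  have hPY : (P : Subgroup G) ≤ Y := by
    intro x hx
    rw [hmemY]
    exact (Subgroup.mem_centralizer_iff.1 hkC x hx).symm
  have hv2 : v * v = 1 := by
    have := pow_orderOf_eq_one v
    rwa [hv, pow_two] at this
  have hvinv : v⁻¹ = v := inv_eq_of_mul_eq_one_left hv2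
  by_cases hvY : v ∈ Y
  · rw [hmemY] at hvY
    have hkk : k = k⁻¹ := by
      rw [← h, ← hvY, mul_inv_cancel_right]
    have hk2 : k ^ 2 ^ 1 = 1 := by
      rw [pow_one, pow_two]
      nth_rw 2 [hkk]
      exact mul_inv_cancel k
    exact inv_eq_one_of_odd_of_two_pow hkodd hk2
  · exfalso
    -- `v` normalizes `Y`
    have hconj : ∀ x : G, x ∈ Y → v * x * v⁻¹ ∈ Y := by
      intro x hx
      rw [hmemY] at hx ⊢
      -- k * (v x v⁻¹) = (v x v⁻¹) * k, from k⁻¹ = v k v⁻¹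
      have h1 : k = v * k⁻¹ * v⁻¹ := by
        have : v * k⁻¹ * v⁻¹ = (v * k * v⁻¹)⁻¹ := by group
        rw [this, h, inv_inv]
      have hx' : k⁻¹ * x = x * k⁻¹ := by
        have : k⁻¹ * x = k⁻¹ * (x * k) * k⁻¹ := by group
        rw [this, ← hx]; group
      calc k * (v * x * v⁻¹) = (v * k⁻¹ * v⁻¹) * (v * x * v⁻¹) := by rw [← h1]
        _ = v * (k⁻¹ * x) * v⁻¹ := by group
        _ = v * (x * k⁻¹) * v⁻¹ := by rw [hx']
        _ = (v * x * v⁻¹) * (v * k⁻¹ * v⁻¹) := by group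
        _ = (v * x * v⁻¹) * k := by rw [← h1]
    have hvN : v ∈ Subgroup.normalizer (Y : Set G) := by
      rw [Subgroup.mem_normalizer_iff]
      intro x
      constructor
      · exact hconj x
      · intro hx
        have := hconj _ hx
        rw [hvinv] at this
        have e : v * (v * x * v) * v = x := by
          calc v * (v * x * v) * v = (v * v) * x * (v * v) := by group
            _ = x := by rw [hv2, one_mul, mul_one]
        rwa [e] at this
    set N : Subgroup G := Subgroup.normalizer (Y : Set G) with hN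
    have hYN : Y ≤ N := Subgroup.le_normalizer
    haveI hnorm : (Y.subgroupOf N).Normal := Subgroup.normal_in_normalizer
    set vN : N := ⟨v, hvN⟩ with hvNdef
    have hq1 : (QuotientGroup.mk' (Y.subgroupOf N)) vN ≠ 1 := by
      intro h1
      rw [QuotientGroup.mk'_apply, QuotientGroup.eq_one_iff] at h1
      exact hvY (Subgroup.mem_subgroupOf.1 h1)
    have hq2 : ((QuotientGroup.mk' (Y.subgroupOf N)) vN) ^ 2 = 1 := by
      rw [← map_pow]
      have : vN ^ 2 = 1 := by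
        apply Subtype.ext
        show v ^ 2 = 1
        rw [pow_two, hv2]
      rw [this, map_one]
    haveI : Fact (Nat.Prime 2) := ⟨Nat.prime_two⟩
    have hord : orderOf ((QuotientGroup.mk' (Y.subgroupOf N)) vN) = 2 := orderOf_eq_prime hq2 hq1
    have h2dvd : 2 ∣ Nat.card (N ⧸ Y.subgroupOf N) := by
      rw [← hord]; exact orderOf_dvd_natCard _
    have hcardN : Nat.card N = Nat.card (N ⧸ Y.subgroupOf N) * Nat.card (Y.subgroupOf N) :=
      Subgroup.card_eq_card_quotient_mul_card_subgroup _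
    have hcardY : Nat.card (Y.subgroupOf N) = Nat.card Y :=
      Nat.card_congr (Subgroup.subgroupOfEquivOfLe hYN).toEquiv
    have hPdvd : Nat.card P ∣ Nat.card Y := Subgroup.card_dvd_of_le hPY
    have h3 : 2 * Nat.card P ∣ Nat.card G := by
      have : 2 * Nat.card P ∣ Nat.card N := by
        rw [hcardN, hcardY]; exact Nat.mul_dvd_mul h2dvd hPdvd
      exact this.trans (Subgroup.card_subgroup_dvd_card N)
    have h4 : Nat.card G = Nat.card P * (P : Subgroup G).index := (Subgroup.card_mul_index _).symm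
    rw [h4, mul_comm 2] at h3
    have h5 : 2 ∣ (P : Subgroup G).index := (Nat.mul_dvd_mul_iff_left Nat.card_pos).1 h3
    exact P.not_dvd_index h5

/-- A9, corollary -/
theorem Cfg.centralizes_of_normalizes (c : Cfg G) {P : Sylow 2 G} {Z : Subgroup G} (hZ : Z ≤ Kn P)
    {v : G} (hv : orderOf v = 2) (hN : ∀ z ∈ Z, v * z * v⁻¹ ∈ Z) : ∀ z ∈ Z, v * z * v⁻¹ = z := by
  intro z hz
  have hv2 : v * v = 1 := by
    have := pow_orderOf_eq_one v
    rwa [hv, pow_two] at this
  have hvinv : v⁻¹ = v := inv_eq_of_mul_eq_one_left hv2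
  set x : G := z⁻¹ * (v * z * v⁻¹) with hx
  have hxZ : x ∈ Z := Z.mul_mem (Z.inv_mem hz) (hN z hz)
  have hxinv : v * x * v⁻¹ = x⁻¹ := by
    rw [hx, hvinv]
    calc v * (z⁻¹ * (v * z * v)) * v = (v * z⁻¹ * v) * z * (v * v) := by group
      _ = (v * z⁻¹ * v) * z := by rw [hv2, mul_one]
      _ = (z⁻¹ * (v * z * v))⁻¹ := by
        have : (v * z * v)⁻¹ = v * z⁻¹ * v := by
          rw [mul_inv_rev, mul_inv_rev, hvinv, mul_assoc]
        rw [mul_inv_rev, inv_inv, this]
  have hx1 : x = 1 := c.eq_one_of_inverted (hZ hxZ) hv hxinv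
  rw [hx] at hx1
  have := inv_mul_eq_one.1 hx1
  exact this.symm

theorem Cfg.le_Kn_of_centralized (c : Cfg G) {P : Sylow 2 G} {Z : Subgroup G} (hZ : Z ≤ Kn P)
    {v : G} (hv : orderOf v = 2) {R : Sylow 2 G} (hvR : v ∈ R) (hc : ∀ z ∈ Z, v * z * v⁻¹ = z) :
    Z ≤ Kn R := by
  intro z hz
  obtain ⟨_, hzodd⟩ := (c.mem_Kn_iff P).1 (hZ hz)
  rw [c.mem_Kn_iff R]
  refine ⟨?_, hzodd⟩
  rw [← c.centralizer_eq hvR hv, Subgroup.mem_centralizer_iff]
  intro y hy
  rw [Set.mem_singleton_iff] at hy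
  rw [hy]
  have := hc z hz
  calc v * z = (v * z * v⁻¹) * v := by group
    _ = z * v := by rw [this]

/-- A10 -/
theorem Cfg.core_le_Kn (c : Cfg G) (P : Sylow 2 G) {g : G} (hg : ∀ R : Sylow 2 G, g ∈ Mn R) :
    g ∈ Kn P := by
  have hodd : ∀ h : G, (∀ R : Sylow 2 G, h ∈ Mn R) → Odd (orderOf h) := by
    intro h hh
    by_contra hne
    rw [Nat.not_odd_iff_even] at hne
    obtain ⟨n, hn⟩ := exists_pow_orderOf_two hne
    obtain ⟨R, hR⟩ := exists_sylow_of_orderOf_two hn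
    obtain ⟨Q, hQ⟩ := c.nn R
    have : h ^ n ∈ Mn Q := Subgroup.pow_mem _ (hh Q) n
    exact hQ (c.inv_eq_of_inv_mem_Mn hn hR this)
  rw [c.mem_Kn_iff]
  refine ⟨?_, hodd g hg⟩
  rw [Subgroup.mem_centralizer_iff]
  intro x hx
  set y : G := g * x * g⁻¹ * x⁻¹ with hy
  have hgx : g * x * g⁻¹ ∈ (P : Subgroup G) :=
    (Subgroup.mem_normalizer_iff.1 (hg P) x).1 hx
  have hyP : y ∈ (P : Subgroup G) := mul_mem hgx (inv_mem hx)
  have hyN : ∀ R : Sylow 2 G, y ∈ Mn R := by
    intro R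
    have h1 : x * g⁻¹ * x⁻¹ ∈ Mn R := by
      have h2 : g⁻¹ ∈ Mn (x⁻¹ • R) := inv_mem (hg _)
      have h3 := (conj_mem_Mn (x⁻¹ • R) x g⁻¹).2 h2
      rwa [smul_inv_smul] at h3
    have : y = g * (x * g⁻¹ * x⁻¹) := by rw [hy]; group
    rw [this]
    exact mul_mem (hg R) h1
  have hy1 : y = 1 := by
    obtain ⟨n, hn⟩ := P.2 ⟨y, hyP⟩
    have hn' : y ^ 2 ^ n = 1 := by
      have := congrArg Subtype.val hn
      simpa using this
    exact inv_eq_one_of_odd_of_two_pow (hodd y hyN) hn'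
  rw [hy] at hy1
  have h1 : g * x * g⁻¹ = x := by
    have := mul_inv_eq_one.1 hy1
    exact this
  calc x * g = (g * x * g⁻¹) * g := by rw [h1]
    _ = g * x := by group

end Cfsg.Agent.Helper2.AIC
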