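import Mathlib

set_option autoImplicit false
set_option linter.style.haveILetI false
set_option linter.unusedSectionVars false
set_option linter.unusedVariables false

namespace Cfsg.Agent.Helper13.FAut

variable {K : Type*} [Field K]

/-- partial norms `c σ(c) ⋯ σ^{i-1}(c)` -/
def pnorm (σ : K ≃+* K) (c : K) : ℕ → K
  | 0 => 1
  | (i + 1) => c * σ (pnorm σ c i)

theorem pnorm_zero (σ : K ≃+* K) (c : K) : pnorm σ c 0 = 1 := rfl

theorem pnorm_succ (σ : K ≃+* K) (c : K) (i : ℕ) :
    pnorm σ c (i + 1) = c * σ (pnorm σ c i) := rfl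

theorem pow_succ_apply (σ : K ≃+* K) (i : ℕ) (x : K) : (σ ^ (i + 1)) x = σ ((σ ^ i) x) := by
  rw [pow_succ']
  rfl

theorem pow_apply_eq (σ : K ≃+* K) (c : K) (S : Set K) (h : ∀ x ∈ S, σ x = c * x) (i : ℕ) :
    ∀ x ∈ S, (σ ^ i) x = pnorm σ c i * x := by
  induction i with
  | zero =>
    intro x _
    rw [pow_zero, pnorm_zero, one_mul]
    rfl
  | succ i ih =>
    intro x hx
    rw [pow_succ_apply, ih x hx, map_mul, h x hx, pnorm_succ]
    ring

/-- Hilbert 90 for a ring automorphism of finite order -/
theorem hilbert90 (σ : K ≃+* K) (r : ℕ) (hr : 0 < r) (hσr : σ ^ r = 1)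
    (hmin : ∀ i, 0 < i → i < r → σ ^ i ≠ 1) (c : K) (hc : pnorm σ c r = 1) :
    ∃ d : K, d ≠ 0 ∧ c * σ d = d := by
  classical
  -- the characters σ^i, i < r, are distinct
  set χ : Fin r → (K →* K) := fun i => ((σ ^ (i : ℕ) : K ≃+* K) : K →* K) with hχ
  have hinj : Function.Injective χ := by
    intro i j hij
    by_contra hne
    have key : ∀ a b : Fin r, (a : ℕ) < b → χ a = χ b → False := by
      intro a b hab hχab
      have h1 : σ ^ ((b : ℕ) - a) = 1 := by
        apply RingEquiv.ext
        intro x
        have h2 : (σ ^ (a : ℕ)) ((σ ^ ((b : ℕ) - a)) x) = (σ ^ (a : ℕ)) x := by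
          have h3 : (σ ^ (b : ℕ)) x = (σ ^ (a : ℕ)) x := by
            have := DFunLike.congr_fun hχab x
            exact this.symm
          rw [← h3]
          have h4 : σ ^ (b : ℕ) = σ ^ (a : ℕ) * σ ^ ((b : ℕ) - a) := by
            rw [← pow_add]
            congr 1
            omega
          rw [h4]
          rfl
        exact (σ ^ (a : ℕ)).injective h2
      exact hmin _ (by omega) (by omega) h1
    rcases lt_trichotomy (i : ℕ) j with h | h | h
    · exact key i j h hij
    · exact hne (Fin.ext h)
    · exact key j i h hij.symm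
  have hli : LinearIndependent K (fun i : Fin r => (χ i : K → K)) :=
    (linearIndependent_monoidHom K K).comp χ hinj
  by_contra hcon
  push Not at hcon
  have hzero : ∀ θ : K, ∑ i ∈ Finset.range r, pnorm σ c i * (σ ^ i) θ = 0 := by
    intro θ
    by_contra hne
    apply hne
    have h1 := hcon _ hne
    exfalso
    apply h1
    rw [map_sum, Finset.mul_sum]
    have h2 : ∀ i ∈ Finset.range r, c * σ (pnorm σ c i * (σ ^ i) θ) =
        pnorm σ c (i + 1) * (σ ^ (i + 1)) θ := by
      intro i _
      rw [map_mul, pnorm_succ, pow_succ_apply]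
      ring
    rw [Finset.sum_congr rfl h2]
    have h3 := Finset.sum_range_succ' (fun i => pnorm σ c i * (σ ^ i) θ) r
    have h4 := Finset.sum_range_succ (fun i => pnorm σ c i * (σ ^ i) θ) r
    rw [h4] at h3
    have h5 : pnorm σ c r * (σ ^ r) θ = pnorm σ c 0 * (σ ^ 0) θ := by
      rw [hc, hσr, pnorm_zero, pow_zero]
    rw [h5] at h3
    exact (add_right_cancel h3).symm
  have h0 := Fintype.linearIndependent_iff.1 hli (fun i => pnorm σ c i) (by
    funext θ
    have := hzero θ
    rw [Finset.sum_apply, Pi.zero_apply, ← Fin.sum_univ_eq_sum_range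
      (fun i => pnorm σ c i * (σ ^ i) θ) r] at *
    rw [← this]
    apply Finset.sum_congr rfl
    intro i _
    rfl) ⟨0, hr⟩
  rw [pnorm_zero] at h0
  exact one_ne_zero h0

/-- the fixed subfield of a ring automorphism -/
noncomputable def fixedField (σ : K ≃+* K) : Subfield K :=
  FixedPoints.subfield (Subgroup.zpowers (σ : RingAut K)) K

theorem mem_fixedField (σ : K ≃+* K) (x : K) : x ∈ fixedField σ ↔ σ x = x := by
  unfold fixedField
  constructor
  · intro h
    exact h ⟨σ, Subgroup.mem_zpowers σ⟩
  · intro h g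
    obtain ⟨g, hg⟩ := g
    obtain ⟨k, rfl⟩ := Subgroup.mem_zpowers_iff.1 hg
    show (σ ^ k) x = x
    have hnat : ∀ j : ℕ, (σ ^ j) x = x := by
      intro j
      induction j with
      | zero => rfl
      | succ j ih =>
        rw [pow_succ']
        show σ ((σ ^ j) x) = x
        rw [ih, h]
    cases k with
    | ofNat j => exact hnat j
    | negSucc j =>
      rw [zpow_negSucc]
      have := hnat (j + 1)
      have h2 : ((σ ^ (j + 1))⁻¹) ((σ ^ (j + 1)) x) = x := by
        show ((σ ^ (j + 1))⁻¹ * (σ ^ (j + 1))) x = x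
        rw [inv_mul_cancel]
        rfl
      rw [this] at h2
      exact h2

theorem card_fixedField [Fintype K] (σ : K ≃+* K) (r Q : ℕ) (hr : 0 < r) (hσ : orderOf σ = r)
    (hK : Fintype.card K = Q ^ r) : Nat.card (fixedField σ) = Q := by
  classical
  haveI : Finite (RingAut K) :=
    Finite.of_injective (fun f : K ≃+* K => (f : K → K)) DFunLike.coe_injective
  haveI : Fintype (Subgroup.zpowers (σ : RingAut K)) := Fintype.ofFinite _
  have h1 : Module.finrank (fixedField σ) K = r := by
    unfold fixedField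
    rw [FixedPoints.finrank_eq_card, ← Nat.card_eq_fintype_card, Nat.card_zpowers, hσ]
  haveI : Fintype (fixedField σ) := Fintype.ofFinite _
  have h2 := Module.card_eq_pow_finrank (K := fixedField σ) (V := K)
  rw [h1, hK] at h2
  rw [Nat.card_eq_fintype_card]
  exact (Nat.pow_left_injective (n := r) (by omega) h2).symm

end Cfsg.Agent.Helper13.FAut
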