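import Mathlib
import Cfsg.Agent.Lib.Helper2.Psln25
import Cfsg.Agent.Lib.Helper2.OutCongr
import Cfsg.Agent.Lib.Helper10.EOAssembly

/-!
# S2262, piece AO-F4: `ringAut_sq_of_card_four`
-/

set_option autoImplicit false

namespace Cfsg.Agent.Helper17.AO

open Polynomial Matrix Cfsg.Agent.Helper2.PN
open Cfsg.Agent.Helper10.EO (star)
open Cfsg.Agent.Helper13.FAut (fixedField mem_fixedField)

section field
variable {F : Type*} [Field F] [Fintype F]

/-- AO-F4 -/
theorem ringAut_sq_of_card_four (hF : Fintype.card F = 4) (σ : RingAut F) : σ ^ 2 = 1 := by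
  haveI : Fact (Nat.Prime 2) := ⟨Nat.prime_two⟩
  have hcard : Nat.card (F ≃+* F) = 2 :=
    Cfsg.Agent.Helper2.OutCongr.card_ringEquiv (p := 2) (n := 2) (by rw [hF]; norm_num)
  have h := pow_card_eq_one' (x := σ)
  have e : Nat.card (RingAut F) = 2 := hcard
  rw [e] at h
  exact h

end field

end Cfsg.Agent.Helper17.AO
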