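import Mathlib

set_option autoImplicit false

/-!
# The maximal product of a partition of `n`, and its analogue for even permutation groups
-/

namespace Cfsg.Agent.Helper13

/-- `gmax n` is the largest product of the parts of a partition of `n`. -/
def gmax : ℕ → ℕ
  | 0 => 1
  | 1 => 1
  | 2 => 2
  | 3 => 3
  | 4 => 4
  | (n + 5) => 3 * gmax (n + 2)

/-- the analogous bound for abelian groups of even permutations -/
def emax : ℕ → ℕ
  | 0 => 1
  | 1 => 1
  | 2 => 1
  | 3 => 3
  | 4 => 4
  | 5 => 5
  | 6 => 9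
  | 7 => 12
  | 8 => 16
  | (n + 9) => 3 * emax (n + 6)

theorem gmax_add_three (n : ℕ) (h : 2 ≤ n) : gmax (n + 3) = 3 * gmax n := by
  obtain ⟨k, rfl⟩ : ∃ k, n = k + 2 := ⟨n - 2, by omega⟩
  rfl

theorem emax_add_three (n : ℕ) (h : 6 ≤ n) : emax (n + 3) = 3 * emax n := by
  obtain ⟨k, rfl⟩ : ∃ k, n = k + 6 := ⟨n - 6, by omega⟩
  rfl

theorem gmax_pos (n : ℕ) : 0 < gmax n := by
  induction n using Nat.strong_induction_on with
  | _ n ih =>
    by_cases h : n < 5
    · interval_cases n <;> decide
    · obtain ⟨k, rfl⟩ : ∃ k, n = k + 2 + 3 := ⟨n - 5, by omega⟩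
      rw [gmax_add_three _ (by omega)]
      have := ih (k + 2) (by omega)
      omega

theorem emax_pos (n : ℕ) : 0 < emax n := by
  induction n using Nat.strong_induction_on with
  | _ n ih =>
    by_cases h : n < 9
    · interval_cases n <;> decide
    · obtain ⟨k, rfl⟩ : ∃ k, n = k + 6 + 3 := ⟨n - 9, by omega⟩
      rw [emax_add_three _ (by omega)]
      have := ih (k + 6) (by omega)
      omega

/-- induction in steps of three above a threshold -/
theorem ind_step_three {P : ℕ → Prop} (N : ℕ) (hbase : ∀ j, j < N + 3 → P j)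
    (hstep : ∀ j, N ≤ j → P j → P (j + 3)) : ∀ j, P j := by
  intro j
  induction j using Nat.strong_induction_on with
  | _ j ih =>
    by_cases h : j < N + 3
    · exact hbase j h
    · obtain ⟨k, rfl⟩ : ∃ k, j = k + 3 := ⟨j - 3, by omega⟩
      exact hstep k (by omega) (ih k (by omega))

theorem gmax_mul_small (m : ℕ) (hm1 : 1 ≤ m) (hm4 : m ≤ 4) (j : ℕ) :
    m * gmax j ≤ gmax (m + j) := by
  revert j
  refine ind_step_three (P := fun j => m * gmax j ≤ gmax (m + j)) 2 ?_ ?_
  · interval_cases m <;> decide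
  · intro j hj ih
    have e : m + (j + 3) = (m + j) + 3 := by ring
    rw [e, gmax_add_three j hj, gmax_add_three (m + j) (by omega)]
    nlinarith

/-- super-multiplicativity of `gmax` -/
theorem gmax_mul (m : ℕ) (hm1 : 1 ≤ m) (j : ℕ) : m * gmax j ≤ gmax (m + j) := by
  induction m using Nat.strong_induction_on generalizing j with
  | _ m ih =>
    by_cases h4 : m ≤ 4
    · exact gmax_mul_small m hm1 h4 j
    · have h1 := ih (m - 3) (by omega) (by omega) j
      have e : m + j = (m - 3 + j) + 3 := by omega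
      rw [e, gmax_add_three _ (by omega)]
      have h2 : m ≤ 3 * (m - 3) := by omega
      calc m * gmax j ≤ 3 * (m - 3) * gmax j := Nat.mul_le_mul_right _ h2
        _ = 3 * ((m - 3) * gmax j) := by ring
        _ ≤ 3 * gmax (m - 3 + j) := Nat.mul_le_mul_left _ h1

theorem gmax_three_mul (k : ℕ) : gmax (3 * k) = 3 ^ k := by
  induction k with
  | zero => rfl
  | succ k ih =>
    rcases Nat.eq_zero_or_pos k with rfl | hk
    · rfl
    · have e : 3 * (k + 1) = 3 * k + 3 := by ring
      rw [e, gmax_add_three _ (by omega), ih, pow_succ]; ring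

theorem gmax_three_mul_add_one (k : ℕ) (hk : 1 ≤ k) : gmax (3 * k + 1) = 4 * 3 ^ (k - 1) := by
  induction k with
  | zero => omega
  | succ k ih =>
    rcases Nat.eq_zero_or_pos k with rfl | hk'
    · rfl
    · have e : 3 * (k + 1) + 1 = (3 * k + 1) + 3 := by ring
      rw [e, gmax_add_three _ (by omega), ih hk']
      obtain ⟨l, rfl⟩ : ∃ l, k = l + 1 := ⟨k - 1, by omega⟩
      simp only [Nat.add_sub_cancel, pow_succ]; ring

theorem gmax_three_mul_add_two (k : ℕ) : gmax (3 * k + 2) = 2 * 3 ^ k := by
  induction k with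
  | zero => rfl
  | succ k ih =>
    have e : 3 * (k + 1) + 2 = (3 * k + 2) + 3 := by ring
    rw [e, gmax_add_three _ (by omega), ih, pow_succ]; ring

/-! ### the even bound -/

theorem gmax_le_emax_add_two (j : ℕ) : gmax j ≤ emax (j + 2) := by
  revert j
  refine ind_step_three (P := fun j => gmax j ≤ emax (j + 2)) 4 ?_ ?_
  · decide
  · intro j hj ih
    have e : j + 3 + 2 = (j + 2) + 3 := by ring
    rw [e, gmax_add_three j (by omega), emax_add_three (j + 2) (by omega)]
    omega

theorem three_mul_emax (j : ℕ) : 3 * emax j ≤ emax (j + 3) := by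
  by_cases h : j < 6
  · interval_cases j <;> decide
  · rw [emax_add_three j (by omega)]

theorem mul_gmax_le_emax_small (m : ℕ) (hm : m = 1 ∨ m = 4 ∨ m = 5 ∨ m = 6) (j : ℕ) :
    m * gmax j ≤ emax (m + j) := by
  revert j
  refine ind_step_three (P := fun j => m * gmax j ≤ emax (m + j)) 5 ?_ ?_
  · rcases hm with rfl | rfl | rfl | rfl <;> decide
  · intro j hj ih
    have e : m + (j + 3) = (m + j) + 3 := by ring
    rw [e, gmax_add_three j (by omega), emax_add_three (m + j) (by omega)]
    nlinarith

theorem mul_gmax_le_emax (m : ℕ) (hm : m = 1 ∨ 4 ≤ m) (j : ℕ) :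
    m * gmax j ≤ emax (m + j) := by
  induction m using Nat.strong_induction_on generalizing j with
  | _ m ih =>
    by_cases h6 : m ≤ 6
    · apply mul_gmax_le_emax_small
      omega
    · have h1 := ih (m - 3) (by omega) (by omega) j
      have e : m + j = (m - 3 + j) + 3 := by omega
      rw [e]
      have h2 : m ≤ 3 * (m - 3) := by omega
      calc m * gmax j ≤ 3 * (m - 3) * gmax j := Nat.mul_le_mul_right _ h2
        _ = 3 * ((m - 3) * gmax j) := by ring
        _ ≤ 3 * emax (m - 3 + j) := Nat.mul_le_mul_left _ h1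
        _ ≤ emax (m - 3 + j + 3) := three_mul_emax _

theorem emax_three_mul (k : ℕ) : emax (3 * k) = 3 ^ k := by
  induction k using Nat.strong_induction_on with
  | _ k ih =>
    by_cases h : k < 3
    · interval_cases k <;> rfl
    · obtain ⟨l, rfl⟩ : ∃ l, k = l + 1 := ⟨k - 1, by omega⟩
      have e : 3 * (l + 1) = 3 * l + 3 := by ring
      rw [e, emax_add_three _ (by omega), ih l (by omega), pow_succ]; ring

theorem emax_three_mul_add_one (k : ℕ) (hk : 1 ≤ k) : emax (3 * k + 1) = 4 * 3 ^ (k - 1) := by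
  induction k using Nat.strong_induction_on with
  | _ k ih =>
    by_cases h : k < 3
    · interval_cases k <;> rfl
    · obtain ⟨l, rfl⟩ : ∃ l, k = l + 2 := ⟨k - 2, by omega⟩
      have e : 3 * (l + 2) + 1 = (3 * (l + 1) + 1) + 3 := by ring
      rw [e, emax_add_three _ (by omega), ih (l + 1) (by omega) (by omega)]
      have e2 : l + 2 - 1 = (l + 1 - 1) + 1 := by omega
      rw [e2, pow_succ]; ring

theorem emax_three_mul_add_two (k : ℕ) (hk : 2 ≤ k) : emax (3 * k + 2) = 16 * 3 ^ (k - 2) := by
  induction k using Nat.strong_induction_on with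
  | _ k ih =>
    by_cases h : k < 3
    · interval_cases k; rfl
    · obtain ⟨l, rfl⟩ : ∃ l, k = l + 3 := ⟨k - 3, by omega⟩
      have e : 3 * (l + 3) + 2 = (3 * (l + 2) + 2) + 3 := by ring
      rw [e, emax_add_three _ (by omega), ih (l + 2) (by omega) (by omega)]
      have e2 : l + 3 - 2 = (l + 2 - 2) + 1 := by omega
      rw [e2, pow_succ]; ring

end Cfsg.Agent.Helper13
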