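import Mathlib
import Cfsg.Agent.Lib.Helper13.AbelianPermArith

set_option autoImplicit false

/-!
# Orders of abelian permutation groups

A finite commutative group acting faithfully on `n` points has order at most `gmax n`; if it acts
by even permutations its order is at most `emax n`.
-/

namespace Cfsg.Agent.Helper13

open Equiv MulAction

universe u v

section
variable {G : Type u} [Group G] {α : Type v} [MulAction G α]

/-- the action of a subgroup on the complement of an orbit -/
@[reducible] def complAction (x : α) (K : Subgroup G) :
    MulAction K {y : α // y ∉ orbit G x} where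
  smul k y := ⟨(k : G) • (y : α), fun h => y.2 (by
    have h1 : orbit G ((k : G) • (y : α)) = orbit G x := orbit_eq_iff.2 h
    rw [orbit_smul] at h1
    exact orbit_eq_iff.1 h1)⟩
  one_smul y := Subtype.ext (one_smul G (y : α))
  mul_smul k k' y := Subtype.ext (mul_smul (k : G) (k' : G) (y : α))

theorem stabilizer_smul_eq_of_mem_orbit (hcomm : ∀ a b : G, a * b = b * a) (x y : α)
    (hy : y ∈ orbit G x) (k : G) (hk : k ∈ stabilizer G x) : k • y = y := by
  obtain ⟨g, rfl⟩ := hy
  change k • g • x = g • x
  rw [smul_smul, hcomm k g, ← smul_smul, mem_stabilizer_iff.1 hk]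

theorem faithful_compl [FaithfulSMul G α] (hcomm : ∀ a b : G, a * b = b * a) (x : α) :
    @FaithfulSMul (stabilizer G x) {y : α // y ∉ orbit G x}
      (complAction x (stabilizer G x)).toSMul := by
  letI := complAction x (stabilizer G x)
  refine ⟨fun {k k'} h => Subtype.ext (eq_of_smul_eq_smul (α := α) (fun y => ?_))⟩
  by_cases hy : y ∈ orbit G x
  · rw [stabilizer_smul_eq_of_mem_orbit hcomm x y hy k k.2,
      stabilizer_smul_eq_of_mem_orbit hcomm x y hy k' k'.2]
  · exact congrArg Subtype.val (h ⟨y, hy⟩)

end

/-- **Upper bound** for commutative groups acting faithfully. -/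
theorem card_le_gmax : ∀ (n : ℕ) (G : Type u) [Group G] [Finite G] (α : Type v) [Fintype α]
    [MulAction G α] [FaithfulSMul G α], (∀ a b : G, a * b = b * a) → Fintype.card α = n →
    Nat.card G ≤ gmax n := by
  intro n
  induction n using Nat.strong_induction_on with
  | _ n ih =>
    intro G _ _ α _ _ _ hcomm hcard
    classical
    by_cases hne : Nonempty α
    · obtain ⟨x⟩ := hne
      letI := complAction x (stabilizer G x)
      haveI := faithful_compl hcomm x
      have hidx : (stabilizer G x).index = (orbit G x).ncard := index_stabilizer G x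
      have hmul := (stabilizer G x).index_mul_card
      have hm1 : 1 ≤ (orbit G x).ncard :=
        (Set.ncard_pos (Set.toFinite _)).2 ⟨x, mem_orbit_self x⟩
      have hOcard : Fintype.card {y : α // y ∈ orbit G x} = (orbit G x).ncard := by
        rw [← Nat.card_eq_fintype_card]; rfl
      have hcardβ : Fintype.card {y : α // y ∉ orbit G x} = n - (orbit G x).ncard := by
        rw [Fintype.card_subtype_compl, hcard, hOcard]
      have hmn : (orbit G x).ncard ≤ n := by
        rw [← hOcard, ← hcard]; exact Fintype.card_subtype_le _
      have hK := ih (n - (orbit G x).ncard) (by omega) (stabilizer G x)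
        {y : α // y ∉ orbit G x} (fun a b => Subtype.ext (hcomm a b)) hcardβ
      calc Nat.card G = (orbit G x).ncard * Nat.card (stabilizer G x) := by rw [← hmul, hidx]
        _ ≤ (orbit G x).ncard * gmax (n - (orbit G x).ncard) := Nat.mul_le_mul_left _ hK
        _ ≤ gmax ((orbit G x).ncard + (n - (orbit G x).ncard)) := gmax_mul _ hm1 _
        _ = gmax n := by rw [Nat.add_sub_cancel' hmn]
    · have hsub : Subsingleton G :=
        ⟨fun a b => eq_of_smul_eq_smul (α := α) (fun y => (hne ⟨y⟩).elim)⟩
      have h1 : Nat.card G ≤ 1 := Finite.card_le_one_iff_subsingleton.2 hsub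
      exact h1.trans (gmax_pos n)

section
variable {G : Type u} [Group G] {α : Type v} [MulAction G α] [Fintype α] [DecidableEq α]

open scoped Classical in
theorem even_compl (hcomm : ∀ a b : G, a * b = b * a)
    (heven : ∀ g : G, Perm.sign (toPerm g : Perm α) = 1) (x : α) (k : stabilizer G x) :
    Perm.sign (@toPerm (stabilizer G x) {y : α // y ∉ orbit G x} _
      (complAction x (stabilizer G x)) k) = 1 := by
  letI := complAction x (stabilizer G x)
  have h₁ : ∀ y : α, (toPerm (k : G) : Perm α) y ∉ orbit G x ↔ y ∉ orbit G x := by
    intro y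
    change (k : G) • y ∉ orbit G x ↔ _
    rw [not_iff_not, ← orbit_eq_iff, orbit_smul, orbit_eq_iff]
  have e : (toPerm k : Perm {y : α // y ∉ orbit G x}) =
      (toPerm (k : G) : Perm α).subtypePerm h₁ := by
    ext y; rfl
  rw [e, Perm.sign_subtypePerm _ h₁, heven]
  intro y hy hmem
  exact hy (stabilizer_smul_eq_of_mem_orbit hcomm x y hmem k k.2)

open scoped Classical in
theorem faithful_compl_top [FaithfulSMul G α]
    (heven : ∀ g : G, Perm.sign (toPerm g : Perm α) = 1) (x : α)
    (h2 : (orbit G x).ncard = 2) :
    @FaithfulSMul (⊤ : Subgroup G) {y : α // y ∉ orbit G x}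
      (complAction x (⊤ : Subgroup G)).toSMul := by
  letI := complAction x (⊤ : Subgroup G)
  obtain ⟨a, b, hab, hO⟩ := Set.ncard_eq_two.1 h2
  refine ⟨fun {k k'} h => Subtype.ext ?_⟩
  have hfix : ∀ y : α, y ∉ orbit G x → ((k : G)⁻¹ * (k' : G)) • y = y := by
    intro y hy
    have h3 := congrArg Subtype.val (h ⟨y, hy⟩)
    change (k : G) • y = (k' : G) • y at h3
    rw [mul_smul, ← h3, inv_smul_smul]
  have hmemO : ∀ y, y ∈ orbit G x → ((k : G)⁻¹ * (k' : G)) • y ∈ orbit G x := by
    intro y hy
    rw [← orbit_eq_iff, orbit_smul, orbit_eq_iff]; exact hy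
  have hg1 : (k : G)⁻¹ * (k' : G) = 1 := by
    by_contra hne
    have ha : a ∈ orbit G x := by rw [hO]; simp
    have hb : b ∈ orbit G x := by rw [hO]; simp
    have hga := hmemO a ha
    have hgb := hmemO b hb
    rw [hO] at hga hgb
    simp only [Set.mem_insert_iff, Set.mem_singleton_iff] at hga hgb
    have hcase : ((k : G)⁻¹ * (k' : G)) • a = b ∧ ((k : G)⁻¹ * (k' : G)) • b = a := by
      rcases hga with h1 | h1
      · exfalso
        have h3 : ((k : G)⁻¹ * (k' : G)) • b = b := by
          rcases hgb with h4 | h4
          · exact absurd (smul_left_cancel _ (h4.trans h1.symm)) (Ne.symm hab)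
          · exact h4
        apply hne
        apply eq_of_smul_eq_smul (α := α)
        intro y
        rw [one_smul]
        by_cases hy : y ∈ orbit G x
        · rw [hO] at hy
          rcases hy with rfl | rfl
          · exact h1
          · exact h3
        · exact hfix y hy
      · refine ⟨h1, ?_⟩
        rcases hgb with h4 | h4
        · exact h4
        · exact absurd (smul_left_cancel _ (h4.trans h1.symm)) (Ne.symm hab)
    have hσ : (toPerm ((k : G)⁻¹ * (k' : G)) : Perm α) = swap a b := by
      ext y
      by_cases hya : y = a
      · subst hya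
        rw [swap_apply_left]; exact hcase.1
      · by_cases hyb : y = b
        · subst hyb
          rw [swap_apply_right]; exact hcase.2
        · rw [swap_apply_of_ne_of_ne hya hyb]
          exact hfix y (by rw [hO]; simp [hya, hyb])
    have h5 := heven ((k : G)⁻¹ * (k' : G))
    rw [hσ, Perm.sign_swap hab] at h5
    exact absurd h5 (by decide)
  exact inv_mul_eq_one.1 hg1

end

/-- **Upper bound** for commutative groups acting faithfully by even permutations. -/
theorem card_le_emax : ∀ (n : ℕ) (G : Type u) [Group G] [Finite G] (α : Type v) [Fintype α]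
    [DecidableEq α] [MulAction G α] [FaithfulSMul G α], (∀ a b : G, a * b = b * a) →
    (∀ g : G, Perm.sign (toPerm g : Perm α) = 1) → Fintype.card α = n →
    Nat.card G ≤ emax n := by
  intro n
  induction n using Nat.strong_induction_on with
  | _ n ih =>
    intro G _ _ α _ _ _ _ hcomm heven hcard
    classical
    by_cases hne : Nonempty α
    · obtain ⟨x⟩ := hne
      have hidx : (stabilizer G x).index = (orbit G x).ncard := index_stabilizer G x
      have hmul := (stabilizer G x).index_mul_card
      have hm1 : 1 ≤ (orbit G x).ncard :=
        (Set.ncard_pos (Set.toFinite _)).2 ⟨x, mem_orbit_self x⟩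
      have hOcard : Fintype.card {y : α // y ∈ orbit G x} = (orbit G x).ncard := by
        rw [← Nat.card_eq_fintype_card]; rfl
      have hcardβ : Fintype.card {y : α // y ∉ orbit G x} = n - (orbit G x).ncard := by
        rw [Fintype.card_subtype_compl, hcard, hOcard]
      have hmn : (orbit G x).ncard ≤ n := by
        rw [← hOcard, ← hcard]; exact Fintype.card_subtype_le _
      have hGK : Nat.card G = (orbit G x).ncard * Nat.card (stabilizer G x) := by
        rw [← hmul, hidx]
      by_cases h2 : (orbit G x).ncard = 2
      · letI := complAction x (⊤ : Subgroup G)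
        haveI := faithful_compl_top heven x h2
        have hK := card_le_gmax (n - (orbit G x).ncard) (⊤ : Subgroup G)
          {y : α // y ∉ orbit G x} (fun a b => Subtype.ext (hcomm a b)) hcardβ
        rw [Subgroup.card_top] at hK
        have h3 := gmax_le_emax_add_two (n - (orbit G x).ncard)
        have e : n - (orbit G x).ncard + 2 = n := by omega
        rw [e] at h3
        exact hK.trans h3
      · letI := complAction x (stabilizer G x)
        haveI := faithful_compl hcomm x
        by_cases h3 : (orbit G x).ncard = 3
        · have hK := ih (n - (orbit G x).ncard) (by omega) (stabilizer G x)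
            {y : α // y ∉ orbit G x} (fun a b => Subtype.ext (hcomm a b))
            (even_compl hcomm heven x) hcardβ
          have h4 := three_mul_emax (n - (orbit G x).ncard)
          have e : n - (orbit G x).ncard + 3 = n := by omega
          rw [e] at h4
          rw [hGK, h3]
          rw [h3] at hK h4
          exact (Nat.mul_le_mul_left _ hK).trans h4
        · have hK := card_le_gmax (n - (orbit G x).ncard) (stabilizer G x)
            {y : α // y ∉ orbit G x} (fun a b => Subtype.ext (hcomm a b)) hcardβ
          have h4 := mul_gmax_le_emax (orbit G x).ncard (by omega) (n - (orbit G x).ncard)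
          rw [Nat.add_sub_cancel' hmn] at h4
          rw [hGK]
          exact (Nat.mul_le_mul_left _ hK).trans h4
    · have hsub : Subsingleton G :=
        ⟨fun a b => eq_of_smul_eq_smul (α := α) (fun y => (hne ⟨y⟩).elim)⟩
      have h1 : Nat.card G ≤ 1 := Finite.card_le_one_iff_subsingleton.2 hsub
      exact h1.trans (emax_pos n)

end Cfsg.Agent.Helper13
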