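import Mathlib
import Cfsg.Agent.Lib.Helper13.AbelianPermArith

set_option autoImplicit false

/-!
# Equality cases in the arithmetic of `emax`
-/

namespace Cfsg.Agent.Helper13

theorem emax_strict (n : ℕ) (h : 2 ≤ n) : emax n < emax (n + 1) := by
  revert h
  refine ind_step_three (P := fun n => 2 ≤ n → emax n < emax (n + 1)) 6 ?_ ?_ n
  · intro j hj h2
    interval_cases j <;> decide
  · intro j hj ih _
    have e1 : emax (j + 3) = 3 * emax j := emax_add_three j hj
    have e2 : emax (j + 3 + 1) = 3 * emax (j + 1) := by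
      have : j + 3 + 1 = (j + 1) + 3 := by ring
      rw [this, emax_add_three (j + 1) (by omega)]
    rw [e1, e2]
    have := ih (by omega)
    omega

theorem gmax_lt_emax (n : ℕ) (h : 1 ≤ n) : gmax n < emax (n + 2) := by
  revert h
  refine ind_step_three (P := fun n => 1 ≤ n → gmax n < emax (n + 2)) 4 ?_ ?_ n
  · intro j hj h2
    interval_cases j <;> decide
  · intro j hj ih _
    have e1 : gmax (j + 3) = 3 * gmax j := gmax_add_three j (by omega)
    have e2 : emax (j + 3 + 2) = 3 * emax (j + 2) := by
      have : j + 3 + 2 = (j + 2) + 3 := by ring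
      rw [this, emax_add_three (j + 2) (by omega)]
    rw [e1, e2]
    have := ih (by omega)
    omega

/-- periodicity argument for inequalities `m * emax j < emax (m + j)` -/
theorem mul_emax_lt_of_base (m : ℕ) (Q : ℕ → Prop) (hQ : ∀ j, Q (j + 3) → Q j)
    (hbase : ∀ j, j < 9 → Q j → m * emax j < emax (m + j)) :
    ∀ j, Q j → m * emax j < emax (m + j) := by
  refine ind_step_three (P := fun j => Q j → m * emax j < emax (m + j)) 6 hbase ?_
  intro j hj ih hq
  have e1 : emax (j + 3) = 3 * emax j := emax_add_three j hj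
  have e2 : emax (m + (j + 3)) = 3 * emax (m + j) := by
    have : m + (j + 3) = (m + j) + 3 := by ring
    rw [this, emax_add_three (m + j) (by omega)]
  rw [e1, e2]
  have := ih (hQ j hq)
  calc m * (3 * emax j) = 3 * (m * emax j) := by ring
    _ < 3 * emax (m + j) := by omega

theorem four_mul_emax_lt (j : ℕ) (hj : j % 3 = 2) : 4 * emax j < emax (4 + j) := by
  refine mul_emax_lt_of_base 4 (fun j => j % 3 = 2) (fun j h => by omega) ?_ j hj
  intro j hj h
  interval_cases j <;> first | omega | decide

theorem five_mul_emax_lt (j : ℕ) (hj : 1 ≤ j) : 5 * emax j < emax (5 + j) := by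
  refine ind_step_three (P := fun j => 1 ≤ j → 5 * emax j < emax (5 + j)) 6 ?_ ?_ j hj
  · intro j hj h
    interval_cases j <;> decide
  · intro j hj ih _
    have e1 : emax (j + 3) = 3 * emax j := emax_add_three j hj
    have e2 : emax (5 + (j + 3)) = 3 * emax (5 + j) := by
      have : 5 + (j + 3) = (5 + j) + 3 := by ring
      rw [this, emax_add_three (5 + j) (by omega)]
    rw [e1, e2]
    have := ih (by omega)
    omega

theorem mul_emax_lt_six (j : ℕ) : 6 * emax j < emax (6 + j) :=
  mul_emax_lt_of_base 6 (fun _ => True) (fun _ _ => trivial)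
    (fun j hj _ => by interval_cases j <;> decide) j trivial

theorem mul_emax_lt_seven (j : ℕ) : 7 * emax j < emax (7 + j) :=
  mul_emax_lt_of_base 7 (fun _ => True) (fun _ _ => trivial)
    (fun j hj _ => by interval_cases j <;> decide) j trivial

theorem mul_emax_lt_eight (j : ℕ) : 8 * emax j < emax (8 + j) :=
  mul_emax_lt_of_base 8 (fun _ => True) (fun _ _ => trivial)
    (fun j hj _ => by interval_cases j <;> decide) j trivial

theorem mul_emax_lt_large (m : ℕ) (hm : 6 ≤ m) : ∀ j, m * emax j < emax (m + j) := by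
  revert hm
  refine ind_step_three (P := fun m => 6 ≤ m → ∀ j, m * emax j < emax (m + j)) 6 ?_ ?_ m
  · intro m hm h6 j
    interval_cases m
    · exact mul_emax_lt_six j
    · exact mul_emax_lt_seven j
    · exact mul_emax_lt_eight j
  · intro m hm ih _ j
    have e2 : emax (m + 3 + j) = 3 * emax (m + j) := by
      have : m + 3 + j = (m + j) + 3 := by ring
      rw [this, emax_add_three (m + j) (by omega)]
    rw [e2]
    have h1 := ih hm j
    have h2 : 0 < emax j := emax_pos j
    calc (m + 3) * emax j ≤ 3 * (m * emax j) := by nlinarith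
      _ < 3 * emax (m + j) := by omega

theorem mul_emax_le (m : ℕ) (hm : m = 3 ∨ m = 4 ∨ m = 5) (j : ℕ) :
    m * emax j ≤ emax (m + j) := by
  revert j
  refine ind_step_three (P := fun j => m * emax j ≤ emax (m + j)) 6 ?_ ?_
  · intro j hj
    rcases hm with rfl | rfl | rfl <;> interval_cases j <;> decide
  · intro j hj ih
    have e1 : emax (j + 3) = 3 * emax j := emax_add_three j hj
    have e2 : emax (m + (j + 3)) = 3 * emax (m + j) := by
      have : m + (j + 3) = (m + j) + 3 := by ring
      rw [this, emax_add_three (m + j) (by omega)]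
    rw [e1, e2]
    calc m * (3 * emax j) = 3 * (m * emax j) := by ring
      _ ≤ 3 * emax (m + j) := by omega

/-- the possible orbit sizes of a maximal even abelian group -/
theorem orbit_size_cases (m j : ℕ) (hn : 3 ≤ m + j) (hm1 : 1 ≤ m) (hm2 : m ≠ 2)
    (h : emax (m + j) ≤ m * emax j) :
    ((m = 3 ∧ m + j ≠ 5) ∨ (m = 4 ∧ (m + j) % 3 ≠ 0 ∧ m + j ≠ 5) ∨ (m = 5 ∧ j = 0)) ∧ j ≠ 2 := by
  by_cases h6 : 6 ≤ m
  · exact absurd (mul_emax_lt_large m h6 j) (by omega)
  · have hm : m = 1 ∨ m = 3 ∨ m = 4 ∨ m = 5 := by omega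
    rcases hm with rfl | rfl | rfl | rfl
    · exfalso
      have := emax_strict j (by omega)
      rw [add_comm] at h
      omega
    · have hj2 : j ≠ 2 := by
        rintro rfl
        revert h; decide
      refine ⟨Or.inl ⟨rfl, by omega⟩, hj2⟩
    · have hj : j % 3 ≠ 2 := by
        intro hj
        have := four_mul_emax_lt j hj
        omega
      have hj1 : j ≠ 1 := by
        rintro rfl
        revert h; decide
      refine ⟨Or.inr (Or.inl ⟨rfl, by omega, by omega⟩), by omega⟩
    · have hj : j = 0 := by
        by_contra hj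
        have := five_mul_emax_lt j (by omega)
        omega
      exact ⟨Or.inr (Or.inr ⟨rfl, hj⟩), by omega⟩

end Cfsg.Agent.Helper13
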