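import Mathlib

set_option autoImplicit false

/-!
# Existence of large abelian permutation groups
-/

namespace Cfsg.Agent.Helper13

open Equiv

/-- there is an abelian subgroup of `Perm α` of order `c` (of even permutations when `ev`) -/
def HasAb (α : Type*) [Fintype α] [DecidableEq α] (c : ℕ) (ev : Prop) : Prop :=
  ∃ A : Subgroup (Perm α), (∀ a ∈ A, ∀ b ∈ A, a * b = b * a) ∧ Nat.card A = c ∧
    (ev → A ≤ alternatingGroup α)

theorem HasAb.weaken {α : Type*} [Fintype α] [DecidableEq α] {c : ℕ} {ev : Prop}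
    (h : HasAb α c ev) : HasAb α c False := by
  obtain ⟨A, h1, h2, -⟩ := h
  exact ⟨A, h1, h2, fun hf => hf.elim⟩

theorem HasAb.sum {α β : Type*} [Fintype α] [DecidableEq α] [Fintype β] [DecidableEq β]
    {c d : ℕ} {ev : Prop} (hα : HasAb α c ev) (hβ : HasAb β d ev) :
    HasAb (α ⊕ β) (c * d) ev := by
  obtain ⟨A, hA, hAc, hAe⟩ := hα
  obtain ⟨B, hB, hBc, hBe⟩ := hβ
  refine ⟨(A.prod B).map (Perm.sumCongrHom α β), ?_, ?_, ?_⟩
  · rintro _ ⟨⟨a, b⟩, hab, rfl⟩ _ ⟨⟨a', b'⟩, hab', rfl⟩
    rw [← map_mul, ← map_mul]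
    congr 1
    rw [SetLike.mem_coe, Subgroup.mem_prod] at hab hab'
    exact Prod.ext (hA a hab.1 a' hab'.1) (hB b hab.2 b' hab'.2)
  · rw [← Nat.card_congr ((A.prod B).equivMapOfInjective _ Perm.sumCongrHom_injective).toEquiv,
      Nat.card_congr (Subgroup.prodEquiv A B).toEquiv, Nat.card_prod, hAc, hBc]
  · intro hev
    rintro _ ⟨⟨a, b⟩, hab, rfl⟩
    rw [SetLike.mem_coe, Subgroup.mem_prod] at hab
    rw [Perm.mem_alternatingGroup]
    change Perm.sign (Equiv.sumCongr a b) = 1
    have ha := hAe hev hab.1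
    have hb := hBe hev hab.2
    rw [Perm.mem_alternatingGroup] at ha hb
    have := Perm.sign_sumCongr a b
    rw [ha, hb, mul_one] at this
    exact this

theorem HasAb.congr {α β : Type*} [Fintype α] [DecidableEq α] [Fintype β] [DecidableEq β]
    {c : ℕ} {ev : Prop} (e : α ≃ β) (hα : HasAb α c ev) : HasAb β c ev := by
  obtain ⟨A, hA, hAc, hAe⟩ := hα
  refine ⟨A.map (e.permCongrHom : Perm α →* Perm β), ?_, ?_, ?_⟩
  · rintro _ ⟨a, ha, rfl⟩ _ ⟨a', ha', rfl⟩
    rw [← map_mul, ← map_mul, hA a ha a' ha']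
  · rw [← Nat.card_congr (A.equivMapOfInjective (e.permCongrHom : Perm α →* Perm β)
      e.permCongrHom.injective).toEquiv, hAc]
  · intro hev
    rintro _ ⟨a, ha, rfl⟩
    rw [Perm.mem_alternatingGroup]
    have h1 := hAe hev ha
    rw [Perm.mem_alternatingGroup] at h1
    change Perm.sign (e.permCongr a) = 1
    rw [Perm.sign_permCongr, h1]

theorem HasAb.cast {n n' c c' : ℕ} {ev : Prop} (hn : n = n') (hc : c = c')
    (h : HasAb (Fin n) c ev) : HasAb (Fin n') c' ev := by
  subst hn; subst hc; exact h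

/-- the regular representation -/
theorem HasAb.regular (H : Type*) [Group H] [Fintype H] [DecidableEq H]
    (hcomm : ∀ a b : H, a * b = b * a) (ev : Prop)
    (hev : ev → ∀ h : H, Perm.sign (MulAction.toPerm h : Perm H) = 1) :
    HasAb H (Fintype.card H) ev := by
  have hinj : Function.Injective (MulAction.toPermHom H H) := MulAction.toPerm_injective
  refine ⟨(MulAction.toPermHom H H).range, ?_, ?_, ?_⟩
  · rintro _ ⟨a, rfl⟩ _ ⟨b, rfl⟩
    rw [← map_mul, ← map_mul, hcomm]
  · rw [← Nat.card_congr (MonoidHom.ofInjective hinj).toEquiv, Nat.card_eq_fintype_card]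
  · intro h
    rintro _ ⟨a, rfl⟩
    rw [Perm.mem_alternatingGroup]
    exact hev h a

theorem hasAb_fin_add {n m c d : ℕ} {ev : Prop} (h1 : HasAb (Fin n) c ev)
    (h2 : HasAb (Fin m) d ev) : HasAb (Fin (n + m)) (c * d) ev :=
  (h1.sum h2).congr finSumFinEquiv

theorem hasAb_zero : HasAb (Fin 0) 1 True := by
  refine ⟨⊥, ?_, ?_, ?_⟩
  · intro a _ b _
    exact Subsingleton.elim _ _
  · exact Subgroup.card_bot
  · intro _ a _
    rw [Perm.mem_alternatingGroup]
    have : a = 1 := Subsingleton.elim _ _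
    rw [this, map_one]

theorem hasAb_three : HasAb (Fin 3) 3 True := by
  have h := HasAb.regular (Multiplicative (ZMod 3)) (fun a b => mul_comm a b) True
    (fun _ => by decide)
  have hc : Fintype.card (Multiplicative (ZMod 3)) = 3 := by
    rw [Fintype.card_multiplicative, ZMod.card]
  rw [hc] at h
  exact h.congr (Fintype.equivFinOfCardEq hc)

theorem hasAb_four : HasAb (Fin 4) 4 True := by
  have h := HasAb.regular (Multiplicative (ZMod 2 × ZMod 2)) (fun a b => mul_comm a b) True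
    (fun _ => by decide)
  have hc : Fintype.card (Multiplicative (ZMod 2 × ZMod 2)) = 4 := by
    rw [Fintype.card_multiplicative, Fintype.card_prod, ZMod.card]
  rw [hc] at h
  exact h.congr (Fintype.equivFinOfCardEq hc)

theorem hasAb_two : HasAb (Fin 2) 2 False := by
  have h := HasAb.regular (Multiplicative (ZMod 2)) (fun a b => mul_comm a b) False
    (fun h => h.elim)
  have hc : Fintype.card (Multiplicative (ZMod 2)) = 2 := by
    rw [Fintype.card_multiplicative, ZMod.card]
  rw [hc] at h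
  exact h.congr (Fintype.equivFinOfCardEq hc)

theorem hasAb_three_mul (k : ℕ) : HasAb (Fin (3 * k)) (3 ^ k) True := by
  induction k with
  | zero => exact hasAb_zero
  | succ k ih =>
    exact (hasAb_fin_add hasAb_three ih).cast (by ring) (by rw [pow_succ]; ring)

theorem hasAb_three_mul_add_one (k : ℕ) (hk : 1 ≤ k) :
    HasAb (Fin (3 * k + 1)) (4 * 3 ^ (k - 1)) True := by
  obtain ⟨l, rfl⟩ : ∃ l, k = l + 1 := ⟨k - 1, by omega⟩
  exact (hasAb_fin_add hasAb_four (hasAb_three_mul l)).cast (by ring) (by simp)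

theorem hasAb_three_mul_add_two (k : ℕ) :
    HasAb (Fin (3 * k + 2)) (2 * 3 ^ k) False :=
  (hasAb_fin_add hasAb_two (hasAb_three_mul k).weaken).cast (by ring) rfl

theorem hasAb_even_three_mul_add_two (k : ℕ) (hk : 2 ≤ k) :
    HasAb (Fin (3 * k + 2)) (16 * 3 ^ (k - 2)) True := by
  obtain ⟨l, rfl⟩ : ∃ l, k = l + 2 := ⟨k - 2, by omega⟩
  exact (hasAb_fin_add (hasAb_fin_add hasAb_four hasAb_four) (hasAb_three_mul l)).cast
    (by ring) (by simp)

end Cfsg.Agent.Helper13
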