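import Mathlib
import Cfsg.Agent.Lib.Helper13.AbelianPerm
import Cfsg.Agent.Lib.Helper13.AbelianPermArith2
import Cfsg.Agent.Lib.Helper13.AbelianPermExists

set_option autoImplicit false

/-!
# Abelian groups of even permutations of largest order are conjugate
-/

namespace Cfsg.Agent.Helper13

open Equiv
open scoped Pointwise

universe u

section basics
variable {α : Type u} [Fintype α] [DecidableEq α]

theorem card_le_emax_subgroup (G : Subgroup (Perm α)) (hc : ∀ a ∈ G, ∀ b ∈ G, a * b = b * a)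
    (he : ∀ a ∈ G, Perm.sign a = 1) : Nat.card G ≤ emax (Fintype.card α) := by
  have hfaith : FaithfulSMul G α := ⟨fun {a b} h => Subtype.ext (Equiv.ext h)⟩
  exact card_le_emax _ G α (fun a b => Subtype.ext (hc a a.2 b b.2)) (fun g => he g g.2) rfl

theorem card_le_gmax_subgroup (G : Subgroup (Perm α)) (hc : ∀ a ∈ G, ∀ b ∈ G, a * b = b * a) :
    Nat.card G ≤ gmax (Fintype.card α) := by
  have hfaith : FaithfulSMul G α := ⟨fun {a b} h => Subtype.ext (Equiv.ext h)⟩
  exact card_le_gmax _ G α (fun a b => Subtype.ext (hc a a.2 b b.2)) rfl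

theorem mem_range_subtypeCongrHom {p : α → Prop} [DecidablePred p] (g : Perm α)
    (h : ∀ a, p (g a) ↔ p a) : g ∈ (Perm.subtypeCongrHom p).range := by
  refine ⟨(g.subtypePerm h, g.subtypePerm (fun a => not_congr (h a))), ?_⟩
  ext a
  by_cases ha : p a
  · simp [ha]
  · simp [ha]

theorem subtypeCongrHom_apply_pos {p : α → Prop} [DecidablePred p] (u : Perm {a // p a})
    (v : Perm {a // ¬ p a}) (y : {a // p a}) :
    Perm.subtypeCongrHom p (u, v) (y : α) = (u y : α) := by
  simp

theorem subtypeCongrHom_apply_neg {p : α → Prop} [DecidablePred p] (u : Perm {a // p a})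
    (v : Perm {a // ¬ p a}) (y : {a // ¬ p a}) :
    Perm.subtypeCongrHom p (u, v) (y : α) = (v y : α) := by
  simp

theorem sign_subtypeCongrHom {p : α → Prop} [DecidablePred p] (u : Perm {a // p a})
    (v : Perm {a // ¬ p a}) :
    Perm.sign (Perm.subtypeCongrHom p (u, v)) = Perm.sign u * Perm.sign v := by
  rw [Perm.subtypeCongrHom_apply, Perm.sign_subtypeCongr]

end basics

section transitive
variable {β : Type u}

/-- a transitive abelian permutation group is its own centraliser -/
theorem mem_of_commute_transitive (T : Subgroup (Perm β))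
    (hc : ∀ a ∈ T, ∀ b ∈ T, a * b = b * a) (htr : ∀ y z : β, ∃ u ∈ T, u y = z) (s : Perm β)
    (hs : ∀ u ∈ T, s * u = u * s) : s ∈ T := by
  by_cases hne : Nonempty β
  · obtain ⟨y₀⟩ := hne
    obtain ⟨u₀, hu₀, h0⟩ := htr y₀ (s y₀)
    have : s = u₀ := by
      ext z
      obtain ⟨u, hu, rfl⟩ := htr y₀ z
      have h1 : s (u y₀) = u (s y₀) := by
        have := congrArg (fun f : Perm β => f y₀) (hs u hu)
        simpa using this
      rw [h1, ← h0]
      have h2 := congrArg (fun f : Perm β => f y₀) (hc u hu u₀ hu₀)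
      simpa using h2
    rw [this]; exact hu₀
  · have : s = 1 := by ext z; exact (hne ⟨z⟩).elim
    rw [this]; exact T.one_mem

theorem card_of_transitive_abelian [Fintype β] [Nonempty β] (T : Subgroup (Perm β))
    (hc : ∀ a ∈ T, ∀ b ∈ T, a * b = b * a) (htr : ∀ y z : β, ∃ u ∈ T, u y = z) :
    Nat.card T = Fintype.card β := by
  obtain ⟨y₀⟩ := (inferInstance : Nonempty β)
  have hbij : Function.Bijective (fun u : T => (u : Perm β) y₀) := by
    constructor
    · intro u u' h
      apply Subtype.ext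
      ext z
      obtain ⟨w, hw, rfl⟩ := htr y₀ z
      have h1 := congrArg (fun f : Perm β => f y₀) (hc u u.2 w hw)
      have h2 := congrArg (fun f : Perm β => f y₀) (hc u' u'.2 w hw)
      simp only [Perm.mul_apply] at h1 h2
      rw [h1, h2]
      exact congrArg w h
    · intro z
      obtain ⟨u, hu, h⟩ := htr y₀ z
      exact ⟨⟨u, hu⟩, h⟩
  rw [Nat.card_congr (Equiv.ofBijective _ hbij), Nat.card_eq_fintype_card]

end transitive

section sylow
variable {β : Type u} [Fintype β] [DecidableEq β]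

/-- the prime for which a regular group of order `m ∈ {3,4,5}` is Sylow in `A_m` -/
def sylP (m : ℕ) : ℕ := if m = 4 then 2 else m

theorem sylP_prime (m : ℕ) (hm : m = 3 ∨ m = 4 ∨ m = 5) : (sylP m).Prime := by
  rcases hm with rfl | rfl | rfl <;> unfold sylP <;> norm_num

theorem exists_sylow_of_small (hm : Fintype.card β = 3 ∨ Fintype.card β = 4 ∨ Fintype.card β = 5)
    [Fact (sylP (Fintype.card β)).Prime] (R : Subgroup (Perm β)) (hR : R ≤ alternatingGroup β)
    (hcard : Nat.card R = Fintype.card β) :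
    ∃ P : Sylow (sylP (Fintype.card β)) (alternatingGroup β),
      (P : Subgroup (alternatingGroup β)) = R.subgroupOf (alternatingGroup β) := by
  have hnt : Nontrivial β := by
    rw [← Fintype.one_lt_card_iff_nontrivial]
    omega
  have hc' : Nat.card (R.subgroupOf (alternatingGroup β)) = Fintype.card β := by
    rw [Nat.card_congr (Subgroup.subgroupOfEquivOfLe hR).toEquiv, hcard]
  have hA : Nat.card (alternatingGroup β) = (Fintype.card β).factorial / 2 := by
    rw [nat_card_alternatingGroup, Nat.card_eq_fintype_card]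
  have hmul := (R.subgroupOf (alternatingGroup β)).card_mul_index
  rw [hc', hA] at hmul
  have hp : IsPGroup (sylP (Fintype.card β)) (R.subgroupOf (alternatingGroup β)) := by
    rcases hm with h | h | h
    · exact IsPGroup.of_card (n := 1) (by rw [hc', h]; rfl)
    · exact IsPGroup.of_card (n := 2) (by rw [hc', h]; rfl)
    · exact IsPGroup.of_card (n := 1) (by rw [hc', h]; rfl)
  have hidx : ¬ sylP (Fintype.card β) ∣ (R.subgroupOf (alternatingGroup β)).index := by
    rcases hm with h | h | h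
    · rw [h] at hmul ⊢
      have : (R.subgroupOf (alternatingGroup β)).index = 1 := by
        have h6 : Nat.factorial 3 / 2 = 3 := by decide
        rw [h6] at hmul
        omega
      rw [this]; unfold sylP; norm_num
    · rw [h] at hmul ⊢
      have : (R.subgroupOf (alternatingGroup β)).index = 3 := by
        have h6 : Nat.factorial 4 / 2 = 12 := by decide
        rw [h6] at hmul
        omega
      rw [this]; unfold sylP; norm_num
    · rw [h] at hmul ⊢
      have : (R.subgroupOf (alternatingGroup β)).index = 12 := by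
        have h6 : Nat.factorial 5 / 2 = 60 := by decide
        rw [h6] at hmul
        omega
      rw [this]; unfold sylP; norm_num
  exact ⟨hp.toSylow hidx, rfl⟩

theorem card_map_conj (R : Subgroup (Perm β)) (s : Perm β) :
    Nat.card (R.map (MulAut.conj s).toMonoidHom) = Nat.card R :=
  (Nat.card_congr (R.equivMapOfInjective _ (MulAut.conj s).injective).toEquiv).symm

/-- two regular even groups of order `3`, `4` or `5` are conjugate -/
theorem conj_of_small (hm : Fintype.card β = 3 ∨ Fintype.card β = 4 ∨ Fintype.card β = 5)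
    (R₁ R₂ : Subgroup (Perm β)) (h₁ : R₁ ≤ alternatingGroup β) (h₂ : R₂ ≤ alternatingGroup β)
    (c₁ : Nat.card R₁ = Fintype.card β) (c₂ : Nat.card R₂ = Fintype.card β) :
    ∃ s : Perm β, R₂ = R₁.map (MulAut.conj s).toMonoidHom := by
  have : Fact (sylP (Fintype.card β)).Prime := ⟨sylP_prime _ hm⟩
  obtain ⟨P₁, hP₁⟩ := exists_sylow_of_small hm R₁ h₁ c₁
  obtain ⟨P₂, hP₂⟩ := exists_sylow_of_small hm R₂ h₂ c₂
  obtain ⟨g, hg⟩ := MulAction.exists_smul_eq (alternatingGroup β) P₁ P₂
  refine ⟨(g : Perm β), ?_⟩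
  have key : (P₂ : Subgroup (alternatingGroup β)) =
      MulAut.conj g • (P₁ : Subgroup (alternatingGroup β)) := by
    rw [← hg, Sylow.coe_subgroup_smul]
  apply Subgroup.eq_of_le_of_card_ge
  · intro x hx
    have hxA : x ∈ alternatingGroup β := h₂ hx
    have h3 : (⟨x, hxA⟩ : alternatingGroup β) ∈ (P₂ : Subgroup (alternatingGroup β)) := by
      rw [hP₂]; exact Subgroup.mem_subgroupOf.2 hx
    rw [key, Subgroup.mem_pointwise_smul_iff_inv_smul_mem, hP₁, Subgroup.mem_subgroupOf] at h3
    refine ⟨_, h3, ?_⟩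
    simp only [MulAut.smul_def, MulAut.conj_inv_apply, MulEquiv.coe_toMonoidHom,
      MulAut.conj_apply, Subgroup.coe_mul, Subgroup.coe_inv]
    group
  · rw [card_map_conj, c₁, c₂]

/-- a regular even group of order `3`, `4` or `5` is normalised by an odd permutation -/
theorem exists_odd_normalizing
    (hm : Fintype.card β = 3 ∨ Fintype.card β = 4 ∨ Fintype.card β = 5)
    (R : Subgroup (Perm β)) (hR : R ≤ alternatingGroup β) (hcard : Nat.card R = Fintype.card β) :
    ∃ τ : Perm β, Perm.sign τ = -1 ∧ R.map (MulAut.conj τ).toMonoidHom = R := by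
  have : Fact (sylP (Fintype.card β)).Prime := ⟨sylP_prime _ hm⟩
  obtain ⟨P, hP⟩ := exists_sylow_of_small hm R hR hcard
  have hfr := Sylow.normalizer_sup_eq_top P
  have hmap : (P : Subgroup (alternatingGroup β)).map (alternatingGroup β).subtype = R := by
    rw [hP, Subgroup.subgroupOf_map_subtype, inf_of_le_left hR]
  by_contra hcon
  push Not at hcon
  have hle : Subgroup.normalizer ((P : Subgroup (alternatingGroup β)).map
      (alternatingGroup β).subtype : Set (Perm β)) ≤ alternatingGroup β := by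
    intro τ hτ
    rw [Subgroup.mem_normalizer_iff_map_conj_eq, hmap] at hτ
    rw [Perm.mem_alternatingGroup]
    rcases Int.units_eq_one_or (Perm.sign τ) with h | h
    · exact h
    · exact absurd hτ (hcon τ h)
  rw [sup_of_le_right hle] at hfr
  have hnt : Nontrivial β := by
    rw [← Fintype.one_lt_card_iff_nontrivial]
    omega
  obtain ⟨a, b, hab⟩ := exists_pair_ne β
  have h1 : swap a b ∈ alternatingGroup β := by rw [hfr]; trivial
  rw [Perm.mem_alternatingGroup, Perm.sign_swap hab] at h1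
  exact absurd h1 (by decide)

end sylow

section main
variable {α : Type u} [Fintype α] [DecidableEq α]

/-- an abelian group of even permutations of the largest possible order -/
structure IsMaxEA (G : Subgroup (Perm α)) : Prop where
  comm : ∀ a ∈ G, ∀ b ∈ G, a * b = b * a
  even : ∀ a ∈ G, Perm.sign a = 1
  card : Nat.card G = emax (Fintype.card α)

/-- the statement proved by induction on the degree -/
def Good (n : ℕ) : Prop :=
  ∀ (α : Type u) [Fintype α] [DecidableEq α], Fintype.card α = n →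
    ∀ G : Subgroup (Perm α), IsMaxEA G →
      (∀ c : Perm α, (∀ g ∈ G, c * g = g * c) → c ∈ G) ∧
      (3 ≤ n → ∃ τ : Perm α, Perm.sign τ = -1 ∧ G.map (MulAut.conj τ).toMonoidHom = G) ∧
      (∀ H : Subgroup (Perm α), IsMaxEA H → ∃ σ : Perm α, H = G.map (MulAut.conj σ).toMonoidHom)

/-- decomposition of a maximal group along one of its orbits -/
structure Decomp (G : Subgroup (Perm α)) (p : α → Prop) [DecidablePred p]
    (R : Subgroup (Perm {a // p a})) (K : Subgroup (Perm {a // ¬ p a})) : Prop where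
  eq : G = (R.prod K).map (Perm.subtypeCongrHom p)
  Kmax : IsMaxEA K
  cardN : Fintype.card {a // ¬ p a} ≠ 2
  cardN_lt : Fintype.card {a // ¬ p a} < Fintype.card α
  Reven : R ≤ alternatingGroup {a // p a}
  Rcard : Nat.card R = Fintype.card {a // p a}
  Rtrans : ∀ y z : {a // p a}, ∃ u ∈ R, u y = z
  Rcomm : ∀ a ∈ R, ∀ b ∈ R, a * b = b * a
  cases : (Fintype.card {a // p a} = 3 ∧ Fintype.card α ≠ 5) ∨
    (Fintype.card {a // p a} = 4 ∧ Fintype.card α % 3 ≠ 0 ∧ Fintype.card α ≠ 5) ∨
    (Fintype.card {a // p a} = 5 ∧ Fintype.card α = 5)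
  Kself : ∀ c : Perm {a // ¬ p a}, (∀ k ∈ K, c * k = k * c) → c ∈ K

theorem decomp_of_orbit {n : ℕ} (IH : ∀ k, k < n → k ≠ 2 → Good.{u} k)
    (hα : Fintype.card α = n) (hn : 3 ≤ n) (G : Subgroup (Perm α)) (hG : IsMaxEA G)
    (p : α → Prop) [DecidablePred p] (hinv : ∀ g ∈ G, ∀ a, p (g a) ↔ p a)
    (htr : ∀ a b, p a → p b → ∃ g ∈ G, g a = b) (hne : ∃ a, p a) :
    ∃ (R : Subgroup (Perm {a // p a})) (K : Subgroup (Perm {a // ¬ p a})), Decomp G p R K := by
  set Φ := Perm.subtypeCongrHom p with hΦ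
  have hΦinj : Function.Injective Φ := Perm.subtypeCongrHom_injective p
  set D : Subgroup (Perm {a // p a} × Perm {a // ¬ p a}) := G.comap Φ with hD
  have hDG : D.map Φ = G :=
    Subgroup.map_comap_eq_self (fun g hg => mem_range_subtypeCongrHom g (hinv g hg))
  have hmemD : ∀ d, d ∈ D ↔ Φ d ∈ G := fun d => Subgroup.mem_comap
  have hDcomm : ∀ d ∈ D, ∀ d' ∈ D, d * d' = d' * d := by
    intro d hd d' hd'
    apply hΦinj
    rw [map_mul, map_mul]
    exact hG.comm _ hd _ hd'
  set K : Subgroup (Perm {a // ¬ p a}) := D.comap (MonoidHom.inr _ _) with hK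
  set T : Subgroup (Perm {a // p a}) := D.map (MonoidHom.fst _ _) with hT
  have hmemT : ∀ u, u ∈ T ↔ ∃ v, (u, v) ∈ D := by
    intro u
    constructor
    · rintro ⟨⟨u', v⟩, hd, rfl⟩; exact ⟨v, hd⟩
    · rintro ⟨v, hd⟩; exact ⟨(u, v), hd, rfl⟩
  have hTtr : ∀ y z : {a // p a}, ∃ u ∈ T, u y = z := by
    intro y z
    obtain ⟨g, hg, e⟩ := htr y.1 z.1 y.2 z.2
    obtain ⟨⟨u, v⟩, rfl⟩ := mem_range_subtypeCongrHom g (hinv g hg)
    refine ⟨u, (hmemT u).2 ⟨v, hg⟩, Subtype.ext ?_⟩
    rw [← e]; exact (subtypeCongrHom_apply_pos u v y).symm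
  have hTcomm : ∀ a ∈ T, ∀ b ∈ T, a * b = b * a := by
    intro a ha b hb
    obtain ⟨v, hv⟩ := (hmemT a).1 ha
    obtain ⟨w, hw⟩ := (hmemT b).1 hb
    exact congrArg Prod.fst (hDcomm _ hv _ hw)
  haveI : Nonempty {a // p a} := let ⟨a, ha⟩ := hne; ⟨⟨a, ha⟩⟩
  have hTcard : Nat.card T = Fintype.card {a // p a} :=
    card_of_transitive_abelian T hTcomm hTtr
  have hKcomm : ∀ a ∈ K, ∀ b ∈ K, a * b = b * a := by
    intro a ha b hb
    exact congrArg Prod.snd (hDcomm _ ha _ hb)
  have hKeven : ∀ v ∈ K, Perm.sign v = 1 := by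
    intro v hv
    have := hG.even _ ((hmemD _).1 hv)
    rwa [MonoidHom.inr_apply, sign_subtypeCongrHom, map_one, one_mul] at this
  have hcardD : Nat.card D = Nat.card G := by
    rw [← hDG]; exact Nat.card_congr (D.equivMapOfInjective Φ hΦinj).toEquiv
  have hcount : Nat.card D = Nat.card K * Fintype.card {a // p a} := by
    let f : D →* Perm {a // p a} := (MonoidHom.fst _ _).comp D.subtype
    have h1 : Nat.card D = Nat.card f.ker * Nat.card f.range := by
      rw [← Subgroup.index_ker, Subgroup.card_mul_index]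
    have h2 : Nat.card f.range = Nat.card T := by
      have : f.range = T := by
        ext u
        constructor
        · rintro ⟨d, rfl⟩; exact ⟨d.1, d.2, rfl⟩
        · rintro ⟨d, hd, rfl⟩; exact ⟨⟨d, hd⟩, rfl⟩
      rw [this]
    have h3 : Nat.card K = Nat.card f.ker := by
      have hbij : Function.Bijective (fun v : K => (⟨⟨(1, v.1), v.2⟩, rfl⟩ : f.ker)) := by
        constructor
        · intro v w h
          have h' := congrArg (fun d : f.ker => d.1.1.2) h
          exact Subtype.ext h'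
        · rintro ⟨⟨⟨u, v⟩, hd⟩, hker⟩
          have hu : u = 1 := hker
          subst hu
          exact ⟨⟨v, hd⟩, rfl⟩
      exact Nat.card_congr (Equiv.ofBijective _ hbij)
    rw [h1, h2, ← h3, hTcard]
  have hcardN : Fintype.card {a // ¬ p a} = n - Fintype.card {a // p a} := by
    rw [Fintype.card_subtype_compl, hα]
  have hmle : Fintype.card {a // p a} ≤ n := by rw [← hα]; exact Fintype.card_subtype_le _
  set m := Fintype.card {a // p a} with hm
  have hm1 : 1 ≤ m := Fintype.card_pos
  have hKle : Nat.card K ≤ emax (n - m) := by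
    rw [← hcardN]; exact card_le_emax_subgroup K hKcomm hKeven
  have hGc : emax n = Nat.card K * m := by rw [← hα, ← hG.card, ← hcardD, hcount]
  have hm2 : m ≠ 2 := by
    intro h2
    let g : D →* Perm {a // ¬ p a} := (MonoidHom.snd _ _).comp D.subtype
    have hginj : Function.Injective g := by
      rw [injective_iff_map_eq_one]
      rintro ⟨⟨u, v⟩, hd⟩ hd1
      have hv : v = 1 := hd1
      subst hv
      have hu : Perm.sign u = 1 := by
        have := hG.even _ ((hmemD _).1 hd)
        rwa [sign_subtypeCongrHom, map_one, mul_one] at this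
      have hbot : alternatingGroup {a // p a} = ⊥ :=
        alternatingGroup.eq_bot_of_card_le_two (by rw [Nat.card_eq_fintype_card]; omega)
      have hmem : u ∈ alternatingGroup {a // p a} := Perm.mem_alternatingGroup.2 hu
      rw [hbot, Subgroup.mem_bot] at hmem
      subst hmem
      rfl
    have hle : Nat.card D ≤ gmax (n - m) := by
      rw [Nat.card_congr (MonoidHom.ofInjective hginj).toEquiv, ← hcardN]
      apply card_le_gmax_subgroup
      rintro _ ⟨d, rfl⟩ _ ⟨d', rfl⟩
      exact congrArg Prod.snd (hDcomm _ d.2 _ d'.2)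
    have h3 := gmax_lt_emax (n - m) (by omega)
    have e : n - m + 2 = n := by omega
    rw [e] at h3
    rw [hcardD, hG.card, hα] at hle
    omega
  have harith := orbit_size_cases m (n - m) (by omega) hm1 hm2 (by
    rw [Nat.add_sub_cancel' hmle, hGc, mul_comm]; exact Nat.mul_le_mul_left _ hKle)
  rw [Nat.add_sub_cancel' hmle] at harith
  obtain ⟨hcases, hj2⟩ := harith
  have hm345 : m = 3 ∨ m = 4 ∨ m = 5 := by rcases hcases with h | h | h <;> omega
  have hKcard : Nat.card K = emax (n - m) := by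
    have h1 := mul_emax_le m hm345 (n - m)
    rw [Nat.add_sub_cancel' hmle] at h1
    apply le_antisymm hKle
    by_contra hlt
    push Not at hlt
    have h2 : Nat.card K * m < emax (n - m) * m := Nat.mul_lt_mul_of_pos_right hlt (by omega)
    rw [← hGc, mul_comm] at h2
    omega
  have hKmax : IsMaxEA K := ⟨hKcomm, hKeven, by rw [hKcard, hcardN]⟩
  have hlt : Fintype.card {a // ¬ p a} < n := by omega
  have hne2 : Fintype.card {a // ¬ p a} ≠ 2 := by omega
  obtain ⟨hKself, -, -⟩ := IH _ hlt hne2 {a // ¬ p a} rfl K hKmax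
  have hsnd : ∀ u v, (u, v) ∈ D → v ∈ K := by
    intro u v hd
    apply hKself
    intro k hk
    exact congrArg Prod.snd (hDcomm _ hd _ hk)
  have hfst : ∀ u v, (u, v) ∈ D → (u, (1 : Perm {a // ¬ p a})) ∈ D := by
    intro u v hd
    have h1 : ((1 : Perm {a // p a}), v) ∈ D := hsnd u v hd
    have := D.mul_mem hd (D.inv_mem h1)
    simpa using this
  have hDprod : D = T.prod K := by
    ext ⟨u, v⟩
    rw [Subgroup.mem_prod]
    constructor
    · intro hd; exact ⟨(hmemT u).2 ⟨v, hd⟩, hsnd u v hd⟩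
    · rintro ⟨hu, hv⟩
      obtain ⟨v', hd'⟩ := (hmemT u).1 hu
      have hv' : ((1 : Perm {a // p a}), v) ∈ D := hv
      have := D.mul_mem (hfst u v' hd') hv'
      simpa using this
  refine ⟨T, K, ⟨by rw [← hDprod, hDG], hKmax, hne2, by rw [hα]; exact hlt, ?_, hTcard, hTtr,
    hTcomm, ?_, hKself⟩⟩
  · intro u hu
    obtain ⟨v, hd⟩ := (hmemT u).1 hu
    have := hG.even _ ((hmemD _).1 (hfst u v hd))
    rw [Perm.mem_alternatingGroup]
    rwa [sign_subtypeCongrHom, map_one, mul_one] at this
  · rw [hα]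
    rcases hcases with h | h | h
    · exact Or.inl h
    · exact Or.inr (Or.inl h)
    · exact Or.inr (Or.inr ⟨h.1, by omega⟩)

theorem exists_decomp {n : ℕ} (IH : ∀ k, k < n → k ≠ 2 → Good.{u} k)
    (hα : Fintype.card α = n) (hn : 3 ≤ n) (G : Subgroup (Perm α)) (hG : IsMaxEA G) (x : α) :
    ∃ (p : α → Prop) (_ : DecidablePred p) (R : Subgroup (Perm {a // p a}))
      (K : Subgroup (Perm {a // ¬ p a})), p x ∧ Decomp G p R K := by
  classical
  let p : α → Prop := fun a => ∃ g ∈ G, g x = a
  have hpx : p x := ⟨1, G.one_mem, rfl⟩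
  have hinv : ∀ g ∈ G, ∀ a, p (g a) ↔ p a := by
    intro g hg a
    constructor
    · rintro ⟨h, hh, e⟩
      exact ⟨g⁻¹ * h, G.mul_mem (G.inv_mem hg) hh, by rw [Perm.mul_apply, e]; simp⟩
    · rintro ⟨h, hh, rfl⟩
      exact ⟨g * h, G.mul_mem hg hh, rfl⟩
  have htr : ∀ a b, p a → p b → ∃ g ∈ G, g a = b := by
    rintro a b ⟨h, hh, rfl⟩ ⟨h', hh', rfl⟩
    exact ⟨h' * h⁻¹, G.mul_mem hh' (G.inv_mem hh), by simp⟩
  obtain ⟨R, K, hd⟩ := decomp_of_orbit IH hα hn G hG p hinv htr ⟨x, hpx⟩
  exact ⟨p, inferInstance, R, K, hpx, hd⟩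

section decomp
variable {G : Subgroup (Perm α)} {p : α → Prop} [DecidablePred p]
  {R : Subgroup (Perm {a // p a})} {K : Subgroup (Perm {a // ¬ p a})}

theorem Decomp.mem_iff (h : Decomp G p R K) (u : Perm {a // p a}) (v : Perm {a // ¬ p a}) :
    Perm.subtypeCongrHom p (u, v) ∈ G ↔ u ∈ R ∧ v ∈ K := by
  rw [h.eq]
  constructor
  · rintro ⟨⟨u', v'⟩, hd, e⟩
    have := Perm.subtypeCongrHom_injective p e
    rw [Prod.mk.injEq] at this
    rw [← this.1, ← this.2]
    exact Subgroup.mem_prod.1 hd
  · rintro ⟨hu, hv⟩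
    exact ⟨(u, v), Subgroup.mem_prod.2 ⟨hu, hv⟩, rfl⟩

theorem Decomp.exists_of_mem (h : Decomp G p R K) (g : Perm α) (hg : g ∈ G) :
    ∃ u ∈ R, ∃ v ∈ K, Perm.subtypeCongrHom p (u, v) = g := by
  rw [h.eq] at hg
  obtain ⟨⟨u, v⟩, hd, e⟩ := hg
  exact ⟨u, (Subgroup.mem_prod.1 hd).1, v, (Subgroup.mem_prod.1 hd).2, e⟩

theorem Decomp.card_small (h : Decomp G p R K) :
    Fintype.card {a // p a} = 3 ∨ Fintype.card {a // p a} = 4 ∨ Fintype.card {a // p a} = 5 := by
  rcases h.cases with h1 | h1 | h1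
  · exact Or.inl h1.1
  · exact Or.inr (Or.inl h1.1)
  · exact Or.inr (Or.inr h1.1)

theorem Decomp.card_eq (h : Decomp G p R K) : Nat.card G = Nat.card R * Nat.card K := by
  rw [h.eq, ← Nat.card_congr ((R.prod K).equivMapOfInjective _
    (Perm.subtypeCongrHom_injective p)).toEquiv,
    Nat.card_congr (Subgroup.prodEquiv R K).toEquiv, Nat.card_prod]

/-- a permutation centralising `G` preserves the orbit -/
theorem Decomp.preserves (h : Decomp G p R K) (c : Perm α) (hc : ∀ g ∈ G, c * g = g * c)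
    (y : α) (hy : p y) : p (c y) := by
  by_contra hcy
  have h3 : 3 ≤ Fintype.card {a // p a} := by
    rcases h.card_small with h1 | h1 | h1 <;> omega
  obtain ⟨z, hz⟩ : ∃ z : {a // p a}, z ≠ ⟨y, hy⟩ := by
    by_contra hcon
    push Not at hcon
    have : Fintype.card {a // p a} ≤ 1 :=
      Fintype.card_le_one_iff.2 (fun a b => (hcon a).trans (hcon b).symm)
    omega
  obtain ⟨u, hu, huz⟩ := h.Rtrans ⟨y, hy⟩ z
  have hg : Perm.subtypeCongrHom p (u, 1) ∈ G := (h.mem_iff u 1).2 ⟨hu, K.one_mem⟩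
  have h1 := congrArg (fun f : Perm α => f y) (hc _ hg)
  simp only [Perm.mul_apply] at h1
  have h2 : Perm.subtypeCongrHom p (u, 1) (c y) = c y :=
    subtypeCongrHom_apply_neg u 1 ⟨c y, hcy⟩
  rw [h2] at h1
  have h4 := c.injective h1
  have h5 : Perm.subtypeCongrHom p (u, 1) y = (u ⟨y, hy⟩ : α) :=
    subtypeCongrHom_apply_pos u 1 ⟨y, hy⟩
  rw [h5, huz] at h4
  exact hz (Subtype.ext h4)

theorem Decomp.self_centralizing (h : Decomp G p R K) (c : Perm α)
    (hc : ∀ g ∈ G, c * g = g * c) : c ∈ G := by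
  have hc' : ∀ g ∈ G, c⁻¹ * g = g * c⁻¹ := by
    intro g hg
    have := hc g hg
    calc c⁻¹ * g = c⁻¹ * (g * c) * c⁻¹ := by group
      _ = c⁻¹ * (c * g) * c⁻¹ := by rw [this]
      _ = g * c⁻¹ := by group
  have hpres : ∀ a, p (c a) ↔ p a := by
    intro a
    constructor
    · intro hca
      have := h.preserves c⁻¹ hc' (c a) hca
      simpa using this
    · exact h.preserves c hc a
  obtain ⟨⟨s, t⟩, rfl⟩ := mem_range_subtypeCongrHom c hpres
  rw [h.mem_iff]
  constructor
  · apply mem_of_commute_transitive R h.Rcomm h.Rtrans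
    intro u hu
    have hg : Perm.subtypeCongrHom p (u, 1) ∈ G := (h.mem_iff u 1).2 ⟨hu, K.one_mem⟩
    have h1 := hc _ hg
    rw [← map_mul, ← map_mul] at h1
    have h2 := Perm.subtypeCongrHom_injective p h1
    exact congrArg Prod.fst h2
  · apply h.Kself
    intro k hk
    have hg : Perm.subtypeCongrHom p (1, k) ∈ G := (h.mem_iff 1 k).2 ⟨R.one_mem, hk⟩
    have h1 := hc _ hg
    rw [← map_mul, ← map_mul] at h1
    have h2 := Perm.subtypeCongrHom_injective p h1
    exact congrArg Prod.snd h2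

theorem Decomp.exists_odd (h : Decomp G p R K) :
    ∃ τ : Perm α, Perm.sign τ = -1 ∧ G.map (MulAut.conj τ).toMonoidHom = G := by
  obtain ⟨τ₀, hτ₀, hnorm⟩ := exists_odd_normalizing h.card_small R h.Reven h.Rcard
  refine ⟨Perm.subtypeCongrHom p (τ₀, 1), ?_, ?_⟩
  · rw [sign_subtypeCongrHom, hτ₀, map_one, mul_one]
  · symm
    apply Subgroup.eq_of_le_of_card_ge
    · intro g hg
      obtain ⟨u, hu, v, hv, rfl⟩ := h.exists_of_mem g hg
      rw [← hnorm] at hu
      obtain ⟨r, hr, rfl⟩ := hu
      refine ⟨Perm.subtypeCongrHom p (r, v), (h.mem_iff r v).2 ⟨hr, hv⟩, ?_⟩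
      simp only [MulEquiv.coe_toMonoidHom, MulAut.conj_apply]
      rw [← map_inv, ← map_mul, ← map_mul]
      congr 1
    · rw [card_map_conj]

end decomp

omit [Fintype α] [DecidableEq α] in
theorem subtypeCongr_conj {p q : α → Prop} [DecidablePred p] [DecidablePred q]
    (e : {a // q a} ≃ {a // p a}) (f : {a // ¬ q a} ≃ {a // ¬ p a}) (u : Perm {a // q a})
    (v : Perm {a // ¬ q a}) :
    (Equiv.subtypeCongr e f : Perm α) * Perm.subtypeCongrHom q (u, v) *
      (Equiv.subtypeCongr e f : Perm α)⁻¹ =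
      Perm.subtypeCongrHom p (e.permCongr u, f.permCongr v) := by
  ext b
  by_cases hb : p b
  · simp [Equiv.subtypeCongr, Perm.inv_def, hb]
  · simp [Equiv.subtypeCongr, Perm.inv_def, hb]

theorem IsMaxEA.map_equiv {β : Type u} [Fintype β] [DecidableEq β] (f : α ≃ β)
    {K : Subgroup (Perm α)} (hK : IsMaxEA K) : IsMaxEA (K.map f.permCongrHom.toMonoidHom) := by
  refine ⟨?_, ?_, ?_⟩
  · rintro _ ⟨a, ha, rfl⟩ _ ⟨b, hb, rfl⟩
    rw [← map_mul, ← map_mul, hK.comm a ha b hb]
  · rintro _ ⟨a, ha, rfl⟩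
    change Perm.sign (f.permCongr a) = 1
    rw [Perm.sign_permCongr]
    exact hK.even a ha
  · rw [← Nat.card_congr (K.equivMapOfInjective _ f.permCongrHom.injective).toEquiv, hK.card,
      Fintype.card_congr f]

theorem conj_of_decomp {n : ℕ} (IH : ∀ k, k < n → k ≠ 2 → Good.{u} k)
    (hα : Fintype.card α = n)
    {G H : Subgroup (Perm α)} {p q : α → Prop} [DecidablePred p] [DecidablePred q]
    {R : Subgroup (Perm {a // p a})} {K : Subgroup (Perm {a // ¬ p a})}
    {R₂ : Subgroup (Perm {a // q a})} {K₂ : Subgroup (Perm {a // ¬ q a})}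
    (hG : Decomp G p R K) (hH : Decomp H q R₂ K₂) (hGm : IsMaxEA G) (hHm : IsMaxEA H)
    (hcard : Fintype.card {a // p a} = Fintype.card {a // q a}) :
    ∃ σ : Perm α, H = G.map (MulAut.conj σ).toMonoidHom := by
  have hcardN : Fintype.card {a // ¬ q a} = Fintype.card {a // ¬ p a} := by
    rw [Fintype.card_subtype_compl, Fintype.card_subtype_compl, hcard]
  let e : {a // q a} ≃ {a // p a} := Fintype.equivOfCardEq hcard.symm
  let f : {a // ¬ q a} ≃ {a // ¬ p a} := Fintype.equivOfCardEq hcardN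
  have hK₂' : IsMaxEA (K₂.map f.permCongrHom.toMonoidHom) := hH.Kmax.map_equiv f
  obtain ⟨-, -, hconjK⟩ := IH _ (hα ▸ hG.cardN_lt) hG.cardN {a // ¬ p a} rfl K hG.Kmax
  obtain ⟨t, ht⟩ := hconjK _ hK₂'
  have hR₂even : R₂.map e.permCongrHom.toMonoidHom ≤ alternatingGroup {a // p a} := by
    rintro _ ⟨r, hr, rfl⟩
    rw [Perm.mem_alternatingGroup]
    change Perm.sign (e.permCongr r) = 1
    rw [Perm.sign_permCongr]
    exact Perm.mem_alternatingGroup.1 (hH.Reven hr)
  have hR₂card : Nat.card (R₂.map e.permCongrHom.toMonoidHom) = Fintype.card {a // p a} := by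
    rw [← Nat.card_congr (R₂.equivMapOfInjective _ e.permCongrHom.injective).toEquiv, hH.Rcard,
      hcard]
  obtain ⟨s, hs⟩ := conj_of_small hG.card_small R _ hG.Reven hR₂even hG.Rcard hR₂card
  refine ⟨(Equiv.subtypeCongr e f : Perm α)⁻¹ * Perm.subtypeCongrHom p (s, t), ?_⟩
  apply Subgroup.eq_of_le_of_card_ge
  · intro g hg
    obtain ⟨u, hu, v, hv, rfl⟩ := hH.exists_of_mem g hg
    have hu' : e.permCongr u ∈ R₂.map e.permCongrHom.toMonoidHom := ⟨u, hu, rfl⟩
    have hv' : f.permCongr v ∈ K₂.map f.permCongrHom.toMonoidHom := ⟨v, hv, rfl⟩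
    rw [hs] at hu'
    rw [ht] at hv'
    obtain ⟨r, hr, hr'⟩ := hu'
    obtain ⟨k, hk, hk'⟩ := hv'
    refine ⟨Perm.subtypeCongrHom p (r, k), (hG.mem_iff r k).2 ⟨hr, hk⟩, ?_⟩
    simp only [MulEquiv.coe_toMonoidHom, MulAut.conj_apply] at hr' hk' ⊢
    have h1 : Perm.subtypeCongrHom p (s, t) * Perm.subtypeCongrHom p (r, k) *
        (Perm.subtypeCongrHom p (s, t))⁻¹ =
        Perm.subtypeCongrHom p (e.permCongr u, f.permCongr v) := by
      rw [← map_inv, ← map_mul, ← map_mul, ← hr', ← hk']
      rfl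
    have h2 := subtypeCongr_conj e f u v
    rw [← h2] at h1
    calc (Equiv.subtypeCongr e f : Perm α)⁻¹ * Perm.subtypeCongrHom p (s, t) *
          Perm.subtypeCongrHom p (r, k) *
          ((Equiv.subtypeCongr e f : Perm α)⁻¹ * Perm.subtypeCongrHom p (s, t))⁻¹
        = (Equiv.subtypeCongr e f : Perm α)⁻¹ * (Perm.subtypeCongrHom p (s, t) *
          Perm.subtypeCongrHom p (r, k) * (Perm.subtypeCongrHom p (s, t))⁻¹) *
          (Equiv.subtypeCongr e f : Perm α) := by group
      _ = Perm.subtypeCongrHom q (u, v) := by rw [h1]; group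
  · rw [card_map_conj, hGm.card, hHm.card]

/-- the size of the orbit chosen for the induction -/
def osize (n : ℕ) : ℕ := if n = 5 then 5 else if 2 ∣ emax n then 4 else 3

theorem exists_decomp_size {n : ℕ} (IH : ∀ k, k < n → k ≠ 2 → Good.{u} k)
    (hα : Fintype.card α = n) (hn : 3 ≤ n) (G : Subgroup (Perm α)) (hG : IsMaxEA G) :
    ∃ (p : α → Prop) (_ : DecidablePred p) (R : Subgroup (Perm {a // p a}))
      (K : Subgroup (Perm {a // ¬ p a})), Decomp G p R K ∧ Fintype.card {a // p a} = osize n := by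
  have hne : Nonempty α := Fintype.card_pos_iff.1 (by omega)
  by_cases h5 : n = 5
  · obtain ⟨x⟩ := hne
    obtain ⟨p, inst, R, K, -, hd⟩ := exists_decomp IH hα hn G hG x
    refine ⟨p, inst, R, K, hd, ?_⟩
    unfold osize
    rw [if_pos h5]
    rcases hd.cases with h | h | h
    · exact absurd (hα.trans h5) h.2
    · exact absurd (hα.trans h5) h.2.2
    · exact h.1
  · by_cases h2 : 2 ∣ emax n
    · have : Fact (Nat.Prime 2) := ⟨Nat.prime_two⟩
      obtain ⟨g, hg⟩ := exists_prime_orderOf_dvd_card' (G := G) 2 (by rw [hG.card, hα]; exact h2)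
      have hg1 : (g : Perm α) ≠ 1 := by
        intro h
        have h' : g = 1 := Subtype.ext h
        rw [h', orderOf_one] at hg
        omega
      obtain ⟨x, hx⟩ : ∃ x, (g : Perm α) x ≠ x := by
        by_contra hcon
        push Not at hcon
        exact hg1 (Perm.ext hcon)
      obtain ⟨p, inst, R, K, hpx, hd⟩ := exists_decomp IH hα hn G hG x
      refine ⟨p, inst, R, K, hd, ?_⟩
      obtain ⟨u, hu, v, hv, e⟩ := hd.exists_of_mem g g.2
      have hu1 : u ≠ 1 := by
        rintro rfl
        apply hx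
        rw [← e]
        have := subtypeCongrHom_apply_pos (1 : Perm {a // p a}) v ⟨x, hpx⟩
        simpa using this
      have hu2 : u ^ 2 = 1 := by
        have hg2 : (g : Perm α) ^ 2 = 1 := by
          have := pow_orderOf_eq_one g
          rw [hg] at this
          exact_mod_cast congrArg Subtype.val this
        rw [← e, ← map_pow] at hg2
        have := Perm.subtypeCongrHom_injective p (hg2.trans (map_one _).symm)
        exact congrArg Prod.fst this
      have hord : orderOf u = 2 := orderOf_eq_prime hu2 hu1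
      have hdvd : 2 ∣ Fintype.card {a // p a} := by
        rw [← hd.Rcard, ← hord, ← Nat.card_zpowers]
        exact Subgroup.card_dvd_of_le (Subgroup.zpowers_le.2 hu)
      unfold osize
      rw [if_neg h5, if_pos h2]
      rcases hd.cases with h | h | h
      · omega
      · exact h.1
      · exact absurd (hα.symm.trans h.2) h5
    · obtain ⟨x⟩ := hne
      obtain ⟨p, inst, R, K, -, hd⟩ := exists_decomp IH hα hn G hG x
      refine ⟨p, inst, R, K, hd, ?_⟩
      unfold osize
      rw [if_neg h5, if_neg h2]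
      have hdvd : Fintype.card {a // p a} ∣ emax n := by
        rw [← hα, ← hG.card, hd.card_eq, hd.Rcard]; exact dvd_mul_right _ _
      rcases hd.cases with h | h | h
      · exact h.1
      · exfalso
        apply h2
        rw [h.1] at hdvd
        exact dvd_trans (by norm_num) hdvd
      · exact absurd (hα.symm.trans h.2) h5

/-- **Main theorem**: abelian groups of even permutations of largest order are conjugate in the
symmetric group, self-centralising, and normalised by an odd permutation. -/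
theorem good : ∀ n : ℕ, n ≠ 2 → Good.{u} n := by
  intro n
  induction n using Nat.strong_induction_on with
  | _ n IH =>
    intro hn2 α _ _ hα G hG
    by_cases hn : n ≤ 1
    · have hss : Subsingleton α := Fintype.card_le_one_iff_subsingleton.1 (by omega)
      refine ⟨fun c _ => ?_, fun h3 => by omega, fun H hH => ⟨1, ?_⟩⟩
      · have : c = 1 := Subsingleton.elim _ _
        rw [this]; exact G.one_mem
      · ext x
        have hx : x = 1 := Subsingleton.elim _ _
        subst hx
        simp [Subgroup.one_mem]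
    · have hn3 : 3 ≤ n := by omega
      have IH' : ∀ k, k < n → k ≠ 2 → Good.{u} k := fun k hk hk2 => IH k hk hk2
      obtain ⟨p, inst, R, K, hdec, hsize⟩ := exists_decomp_size IH' hα hn3 G hG
      refine ⟨hdec.self_centralizing, fun _ => hdec.exists_odd, fun H hH => ?_⟩
      obtain ⟨q, inst', R₂, K₂, hdec₂, hsize₂⟩ := exists_decomp_size IH' hα hn3 H hH
      exact conj_of_decomp IH' hα hdec hdec₂ hG hH (hsize.trans hsize₂.symm)

end main

end Cfsg.Agent.Helper13
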