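import Mathlib
import Cfsg.Agent.Lib.Helper17.BNCox4

/-!
# Rank one data for a (B, N)-pair (helper13)

A criterion for the double coset axiom `s B n ⊆ B s n B ∪ B n B` in terms of a "root subgroup" `X` of `B`
and its opposite `Y`, and a criterion for an element of `N` to represent the longest element of the Weyl
group.
-/

set_option autoImplicit false
set_option linter.unusedSectionVars false
set_option linter.unusedVariables false

namespace Cfsg.Agent.Helper13.BNAbs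

open Cfsg Cfsg.Agent.Helper2.WordLen Cfsg.Agent.Helper2.BN Cfsg.Agent.Helper17.BNCox

variable {G : Type*} [Group G]

/-- rank one datum for a reflection `s`: a set `X ⊆ B` of "positive root elements" and a set `Y` of
"negative root elements" -/
structure RankOne (B N : Subgroup G) (s : G) (X Y : Set G) : Prop where
  X_sub : ∀ x ∈ X, x ∈ B
  split : ∀ b ∈ B, ∃ x ∈ X, s * (b * x⁻¹) * s⁻¹ ∈ B
  dich : ∀ n ∈ N, (∀ x ∈ X, n⁻¹ * x * n ∈ B) ∨ (∀ y ∈ Y, n⁻¹ * y * n ∈ B)
  rank1 : ∀ x ∈ X, x = 1 ∨ ∃ b ∈ B, ∃ y ∈ Y, s * x = b * y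

theorem RankOne.mul_mem_union {B N : Subgroup G} {s : G} {X Y : Set G} (h : RankOne B N s X Y)
    (n : G) (hn : n ∈ N) (b : G) (hb : b ∈ B) :
    s * b * n ∈ DoubleCoset.doubleCoset (s * n) (B : Set G) B ∪
      DoubleCoset.doubleCoset n (B : Set G) B := by
  obtain ⟨x, hx, hb₁⟩ := h.split b hb
  have e : s * b * n = (s * (b * x⁻¹) * s⁻¹) * (s * x * n) := by group
  rcases h.dich n hn with h1 | h1
  · left
    rw [DoubleCoset.mem_doubleCoset]
    refine ⟨s * (b * x⁻¹) * s⁻¹, hb₁, n⁻¹ * x * n, h1 x hx, ?_⟩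
    rw [e]
    group
  · rcases h.rank1 x hx with hx1 | ⟨b', hb', y, hy, hxy⟩
    · left
      rw [DoubleCoset.mem_doubleCoset]
      refine ⟨s * (b * x⁻¹) * s⁻¹, hb₁, 1, B.one_mem, ?_⟩
      rw [e, hx1]
      group
    · right
      rw [DoubleCoset.mem_doubleCoset]
      refine ⟨s * (b * x⁻¹) * s⁻¹ * b', B.mul_mem hb₁ hb', n⁻¹ * y * n, h1 y hy, ?_⟩
      rw [e, hxy]
      group

/-- an element of `N` that conjugates all the negative simple root elements into `B` represents the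
longest element of the Weyl group -/
theorem allDesc_of_rankOne [Finite G] (P : Cfsg.BNPair G) (n₀ : P.N) (X Y : P.S → Set G)
    (hR : ∀ s : P.S, RankOne P.B P.N (s : G) (X s) (Y s))
    (hne : ∀ s : P.S, ∃ x ∈ X s, x ≠ 1)
    (hn₀ : ∀ s : P.S, ∀ y ∈ Y s, (n₀ : G)⁻¹ * y * n₀ ∈ P.B) :
    ∀ t : P.S, ℓ P (π P n₀ * σ P t) < ℓ P (π P n₀) := by
  have hL : ∀ s : P.S, ℓ P (σ P s * π P n₀) < ℓ P (π P n₀) := by
    intro s
    rw [← not_Up_iff_lt]
    apply not_Up_of_exists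
    obtain ⟨x, hx, hx1⟩ := hne s
    rcases (hR s).rank1 x hx with h1 | ⟨b', hb', y, hy, hxy⟩
    · exact absurd h1 hx1
    refine ⟨x * (n₀ : G), ?_, ?_⟩
    · rw [mem_C_iff]
      exact ⟨x, (hR s).X_sub x hx, 1, P.B.one_mem, by rw [mul_one]⟩
    · rw [mem_C_iff]
      refine ⟨b', hb', (n₀ : G)⁻¹ * y * n₀, hn₀ s y hy, ?_⟩
      rw [← mul_assoc, hxy]
      group
  obtain ⟨w₀, hL', hR', huL, huR⟩ := exists_longest P
  intro t
  rw [huL _ hL]
  exact hR' t

end Cfsg.Agent.Helper13.BNAbs
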