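import Mathlib

set_option autoImplicit false
set_option linter.style.haveILetI false
set_option linter.unusedSectionVars false
set_option linter.unusedVariables false

namespace Cfsg.Agent.Helper13.Elus

section blocks

variable {ι : Type*} [DecidableEq ι]

/-- the conclusion of the block assignment lemma. -/
def BlockAssign (a t : ℕ) (π : ι → ι) (I : Finset ι) : Prop :=
  ∃ (β : ι → ℕ) (σ : ℕ → ℕ), (∀ i ∈ I, β i < t) ∧
    (∀ j < t, (I.filter (fun i => β i = j)).card = a) ∧
    (∀ j < t, σ j < t) ∧ (∀ j < t, σ (σ j) = j) ∧ (∀ i ∈ I, β (π i) = σ (β i))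

theorem peel_invariant (a t : ℕ) (π : ι → ι) (hπ : ∀ i, π (π i) = i) (I S : Finset ι)
    (hSI : S ⊆ I) (hS : ∀ i ∈ S, π i ∈ S) (hSc : S.card = a)
    (h : BlockAssign a t π (I \ S)) : BlockAssign a (t + 1) π I := by
  obtain ⟨β', σ', h1, h2, h3, h4, h5⟩ := h
  refine ⟨fun i => if i ∈ S then t else β' i, fun j => if j = t then t else σ' j,
    ?_, ?_, ?_, ?_, ?_⟩
  · intro i hi
    by_cases hiS : i ∈ S
    · simp only [if_pos hiS]; omega
    · simp only [if_neg hiS]
      have := h1 i (Finset.mem_sdiff.mpr ⟨hi, hiS⟩)
      omega
  · intro j hj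
    by_cases hjt : j = t
    · have : I.filter (fun i => (if i ∈ S then t else β' i) = j) = S := by
        ext i
        rw [Finset.mem_filter]
        constructor
        · rintro ⟨hi, hβ⟩
          by_contra hiS
          rw [if_neg hiS] at hβ
          have := h1 i (Finset.mem_sdiff.mpr ⟨hi, hiS⟩)
          omega
        · intro hiS
          exact ⟨hSI hiS, by rw [if_pos hiS, hjt]⟩
      rw [this, hSc]
    · have hjt' : j < t := by omega
      have : I.filter (fun i => (if i ∈ S then t else β' i) = j) =
          (I \ S).filter (fun i => β' i = j) := by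
        ext i
        rw [Finset.mem_filter, Finset.mem_filter, Finset.mem_sdiff]
        constructor
        · rintro ⟨hi, hβ⟩
          by_cases hiS : i ∈ S
          · rw [if_pos hiS] at hβ; omega
          · rw [if_neg hiS] at hβ; exact ⟨⟨hi, hiS⟩, hβ⟩
        · rintro ⟨⟨hi, hiS⟩, hβ⟩
          exact ⟨hi, by rw [if_neg hiS]; exact hβ⟩
      rw [this, h2 j hjt']
  · intro j hj
    by_cases hjt : j = t
    · simp only [if_pos hjt]; omega
    · simp only [if_neg hjt]
      have := h3 j (by omega)
      omega
  · intro j hj
    by_cases hjt : j = t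
    · simp only [if_pos hjt]; simp [hjt]
    · have hjt' : j < t := by omega
      have h6 := h3 j hjt'
      simp only [if_neg hjt]
      rw [if_neg (by omega), h4 j hjt']
  · intro i hi
    by_cases hiS : i ∈ S
    · simp only [if_pos hiS, if_pos (hS i hiS)]; simp
    · have hπS : π i ∉ S := fun h => hiS (by have := hS _ h; rwa [hπ] at this)
      have hmem := Finset.mem_sdiff.mpr ⟨hi, hiS⟩
      have h6 := h1 i hmem
      simp only [if_neg hiS, if_neg hπS]
      rw [if_neg (by omega), h5 i hmem]

theorem peel_swapped (a t : ℕ) (π : ι → ι) (hπ : ∀ i, π (π i) = i) (I S : Finset ι)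
    (hSI : S ⊆ I) (hSI' : S.image π ⊆ I) (hS : ∀ i ∈ S, π i ∉ S) (hSc : S.card = a)
    (h : BlockAssign a t π (I \ (S ∪ S.image π))) : BlockAssign a (t + 2) π I := by
  obtain ⟨β', σ', h1, h2, h3, h4, h5⟩ := h
  have hinj : Set.InjOn π (S : Set ι) := by
    intro x _ y _ hxy
    have := congrArg π hxy
    rwa [hπ, hπ] at this
  have hS'c : (S.image π).card = a := by rw [Finset.card_image_of_injOn hinj, hSc]
  have hmemS' : ∀ i, i ∈ S.image π ↔ π i ∈ S := by
    intro i
    rw [Finset.mem_image]
    constructor
    · rintro ⟨y, hy, rfl⟩; rwa [hπ]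
    · intro h; exact ⟨π i, h, hπ i⟩
  have hdisj : ∀ i, i ∈ S → i ∉ S.image π := by
    intro i hi hi'
    exact hS i hi ((hmemS' i).mp hi')
  refine ⟨fun i => if i ∈ S then t else if i ∈ S.image π then t + 1 else β' i,
    fun j => if j = t then t + 1 else if j = t + 1 then t else σ' j, ?_, ?_, ?_, ?_, ?_⟩
  · intro i hi
    by_cases hiS : i ∈ S
    · simp only [if_pos hiS]; omega
    · by_cases hiS' : i ∈ S.image π
      · simp only [if_neg hiS, if_pos hiS']; omega
      · simp only [if_neg hiS, if_neg hiS']
        have := h1 i (Finset.mem_sdiff.mpr ⟨hi, by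
          rw [Finset.mem_union]; exact fun h => h.elim hiS hiS'⟩)
        omega
  · intro j hj
    by_cases hjt : j = t
    · have : I.filter (fun i => (if i ∈ S then t else if i ∈ S.image π then t + 1 else β' i)
          = j) = S := by
        ext i
        rw [Finset.mem_filter]
        constructor
        · rintro ⟨hi, hβ⟩
          by_contra hiS
          rw [if_neg hiS] at hβ
          by_cases hiS' : i ∈ S.image π
          · rw [if_pos hiS'] at hβ; omega
          · rw [if_neg hiS'] at hβ
            have := h1 i (Finset.mem_sdiff.mpr ⟨hi, by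
              rw [Finset.mem_union]; exact fun h => h.elim hiS hiS'⟩)
            omega
        · intro hiS
          exact ⟨hSI hiS, by rw [if_pos hiS, hjt]⟩
      rw [this, hSc]
    · by_cases hjt1 : j = t + 1
      · have : I.filter (fun i => (if i ∈ S then t else if i ∈ S.image π then t + 1 else β' i)
            = j) = S.image π := by
          ext i
          rw [Finset.mem_filter]
          constructor
          · rintro ⟨hi, hβ⟩
            by_contra hiS'
            by_cases hiS : i ∈ S
            · rw [if_pos hiS] at hβ; omega
            · rw [if_neg hiS, if_neg hiS'] at hβ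
              have := h1 i (Finset.mem_sdiff.mpr ⟨hi, by
                rw [Finset.mem_union]; exact fun h => h.elim hiS hiS'⟩)
              omega
          · intro hiS'
            have hiS : i ∉ S := fun h => hdisj i h hiS'
            exact ⟨hSI' hiS', by rw [if_neg hiS, if_pos hiS', hjt1]⟩
        rw [this, hS'c]
      · have hjt' : j < t := by omega
        have : I.filter (fun i => (if i ∈ S then t else if i ∈ S.image π then t + 1 else β' i)
            = j) = (I \ (S ∪ S.image π)).filter (fun i => β' i = j) := by
          ext i
          rw [Finset.mem_filter, Finset.mem_filter, Finset.mem_sdiff, Finset.mem_union]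
          constructor
          · rintro ⟨hi, hβ⟩
            by_cases hiS : i ∈ S
            · rw [if_pos hiS] at hβ; omega
            · by_cases hiS' : i ∈ S.image π
              · rw [if_neg hiS, if_pos hiS'] at hβ; omega
              · rw [if_neg hiS, if_neg hiS'] at hβ
                exact ⟨⟨hi, fun h => h.elim hiS hiS'⟩, hβ⟩
          · rintro ⟨⟨hi, hiS⟩, hβ⟩
            have h1' : i ∉ S := fun h => hiS (Or.inl h)
            have h2' : i ∉ S.image π := fun h => hiS (Or.inr h)
            exact ⟨hi, by rw [if_neg h1', if_neg h2']; exact hβ⟩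
        rw [this, h2 j hjt']
  · intro j hj
    by_cases hjt : j = t
    · simp only [if_pos hjt]; omega
    · by_cases hjt1 : j = t + 1
      · simp only [if_neg hjt, if_pos hjt1]; omega
      · simp only [if_neg hjt, if_neg hjt1]
        have := h3 j (by omega)
        omega
  · intro j hj
    by_cases hjt : j = t
    · subst hjt; simp
    · by_cases hjt1 : j = t + 1
      · subst hjt1; simp
      · have hjt' : j < t := by omega
        have h6 := h3 j hjt'
        simp only [if_neg hjt, if_neg hjt1]
        rw [if_neg (by omega), if_neg (by omega), h4 j hjt']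
  · intro i hi
    by_cases hiS : i ∈ S
    · have h6 : π i ∉ S := hS i hiS
      have h7 : π i ∈ S.image π := Finset.mem_image_of_mem π hiS
      simp only [if_pos hiS, if_neg h6, if_pos h7]; simp
    · by_cases hiS' : i ∈ S.image π
      · have h6 : π i ∈ S := (hmemS' i).mp hiS'
        simp only [if_neg hiS, if_pos hiS', if_pos h6]; simp
      · have h6 : π i ∉ S := fun h => hiS' ((hmemS' i).mpr h)
        have h7 : π i ∉ S.image π := fun h => hiS (by
          have := (hmemS' (π i)).mp h; rwa [hπ] at this)
        have hmem := Finset.mem_sdiff.mpr ⟨hi, by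
          rw [Finset.mem_union]; exact fun h => h.elim hiS hiS'⟩
        have h8 := h1 i hmem
        simp only [if_neg hiS, if_neg hiS', if_neg h6, if_neg h7]
        rw [if_neg (by omega), if_neg (by omega), h5 i hmem]

end blocks

section blocks2

variable {ι : Type*} [LinearOrder ι]

/-- an involution on a finite set of size `a * t` admits an equivariant partition into `t`
blocks of size `a`. -/
theorem exists_blockAssign (a : ℕ) (ha : 1 ≤ a) (π : ι → ι) (hπ : ∀ i, π (π i) = i) :
    ∀ t : ℕ, ∀ I : Finset ι, (∀ i ∈ I, π i ∈ I) → I.card = a * t → BlockAssign a t π I := by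
  intro t
  induction t using Nat.strong_induction_on with
  | _ t ih =>
    intro I hI hcard
    rcases Nat.eq_zero_or_pos t with ht0 | htpos
    · subst ht0
      rw [mul_zero, Finset.card_eq_zero] at hcard
      subst hcard
      exact ⟨fun _ => 0, id, by simp, by simp, by simp, by simp, by simp⟩
    set Fx := I.filter (fun i => π i = i) with hFx
    set R := I.filter (fun i => i < π i) with hR
    set R' := I.filter (fun i => π i < i) with hR'
    have hinj : ∀ S : Finset ι, Set.InjOn π (S : Set ι) := by
      intro S x _ y _ hxy
      have := congrArg π hxy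
      rwa [hπ, hπ] at this
    have hRim : R.image π = R' := by
      ext x
      rw [Finset.mem_image, hR', Finset.mem_filter]
      constructor
      · rintro ⟨y, hy, rfl⟩
        rw [hR, Finset.mem_filter] at hy
        exact ⟨hI y hy.1, by rw [hπ]; exact hy.2⟩
      · rintro ⟨hx, hlt⟩
        refine ⟨π x, ?_, hπ x⟩
        rw [hR, Finset.mem_filter]
        exact ⟨hI x hx, by rw [hπ]; exact hlt⟩
    have hR'c : R'.card = R.card := by rw [← hRim, Finset.card_image_of_injOn (hinj R)]
    have hpart : I.card = Fx.card + R.card + R'.card := by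
      have h1 := Finset.card_filter_add_card_filter_not (s := I) (fun i => π i = i)
      have h2 := Finset.card_filter_add_card_filter_not
        (s := I.filter (fun i => ¬ π i = i)) (fun i => i < π i)
      have e1 : (I.filter (fun i => ¬ π i = i)).filter (fun i => i < π i) = R := by
        ext i
        simp only [Finset.mem_filter, hR]
        constructor
        · rintro ⟨⟨hi, -⟩, hlt⟩; exact ⟨hi, hlt⟩
        · rintro ⟨hi, hlt⟩; exact ⟨⟨hi, fun h => by rw [h] at hlt; exact lt_irrefl _ hlt⟩, hlt⟩
      have e2 : (I.filter (fun i => ¬ π i = i)).filter (fun i => ¬ i < π i) = R' := by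
        ext i
        simp only [Finset.mem_filter, hR']
        constructor
        · rintro ⟨⟨hi, hne⟩, hlt⟩
          exact ⟨hi, lt_of_le_of_ne (not_lt.mp hlt) hne⟩
        · rintro ⟨hi, hlt⟩
          exact ⟨⟨hi, fun h => by rw [h] at hlt; exact lt_irrefl _ hlt⟩, not_lt.mpr hlt.le⟩
      rw [e1, e2] at h2
      rw [← hFx] at h1
      omega
    have hale : a ≤ a * t := Nat.le_mul_of_pos_right a htpos
    by_cases hcase : a % 2 = 0 ∨ 1 ≤ Fx.card
    · -- invariant block
      set k₁ := min R.card (a / 2) with hk₁
      have hk₁R : k₁ ≤ R.card := min_le_left _ _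
      have hs₁ : a - 2 * k₁ ≤ Fx.card := by
        rcases hcase with h | h <;> omega
      obtain ⟨R₁, hR₁, hR₁c⟩ := Finset.exists_subset_card_eq hk₁R
      obtain ⟨Fx₁, hFx₁, hFx₁c⟩ := Finset.exists_subset_card_eq hs₁
      have hR₁mem : ∀ i ∈ R₁, i ∈ I ∧ i < π i := fun i hi => by
        have := hR₁ hi; rw [hR, Finset.mem_filter] at this; exact this
      have hFx₁mem : ∀ i ∈ Fx₁, i ∈ I ∧ π i = i := fun i hi => by
        have := hFx₁ hi; rw [hFx, Finset.mem_filter] at this; exact this
      have hd1 : Disjoint R₁ (R₁.image π) := by
        rw [Finset.disjoint_left]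
        intro i hi hi'
        obtain ⟨y, hy, rfl⟩ := Finset.mem_image.mp hi'
        have h1 := (hR₁mem y hy).2
        have h2 := (hR₁mem _ hi).2
        rw [hπ] at h2
        exact lt_asymm h1 h2
      have hd2 : Disjoint (R₁ ∪ R₁.image π) Fx₁ := by
        rw [Finset.disjoint_left]
        intro i hi hi'
        have h3 := (hFx₁mem i hi').2
        rcases Finset.mem_union.mp hi with h | h
        · have := (hR₁mem i h).2; rw [h3] at this; exact lt_irrefl _ this
        · obtain ⟨y, hy, rfl⟩ := Finset.mem_image.mp h
          have := (hR₁mem y hy).2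
          rw [hπ] at h3
          rw [← h3] at this
          exact lt_irrefl _ this
      set S := R₁ ∪ R₁.image π ∪ Fx₁ with hS
      have hSc : S.card = a := by
        rw [hS, Finset.card_union_of_disjoint hd2, Finset.card_union_of_disjoint hd1,
          Finset.card_image_of_injOn (hinj R₁), hR₁c, hFx₁c]
        omega
      have hSI : S ⊆ I := by
        intro i hi
        rcases Finset.mem_union.mp hi with h | h
        · rcases Finset.mem_union.mp h with h | h
          · exact (hR₁mem i h).1
          · obtain ⟨y, hy, rfl⟩ := Finset.mem_image.mp h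
            exact hI y (hR₁mem y hy).1
        · exact (hFx₁mem i h).1
      have hSinv : ∀ i ∈ S, π i ∈ S := by
        intro i hi
        rcases Finset.mem_union.mp hi with h | h
        · rcases Finset.mem_union.mp h with h | h
          · exact Finset.mem_union_left _ (Finset.mem_union_right _ (Finset.mem_image_of_mem π h))
          · obtain ⟨y, hy, rfl⟩ := Finset.mem_image.mp h
            rw [hπ]
            exact Finset.mem_union_left _ (Finset.mem_union_left _ hy)
        · rw [(hFx₁mem i h).2]; exact hi
      have hI' : ∀ i ∈ I \ S, π i ∈ I \ S := by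
        intro i hi
        rw [Finset.mem_sdiff] at hi ⊢
        refine ⟨hI i hi.1, fun h => hi.2 ?_⟩
        have := hSinv _ h
        rwa [hπ] at this
      have hcard' : (I \ S).card = a * (t - 1) := by
        rw [Finset.card_sdiff_of_subset hSI, hcard, hSc, Nat.mul_sub, mul_one]
      have := peel_invariant a (t - 1) π hπ I S hSI hSinv hSc
        (ih (t - 1) (by omega) (I \ S) hI' hcard')
      rwa [Nat.sub_add_cancel htpos] at this
    · -- swapped pair of blocks
      have hcase' : a % 2 = 1 ∧ Fx.card = 0 := by omega
      have h2k : 2 * R.card = a * t := by omega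
      have hteven : t % 2 = 0 := by
        have h1 : (a * t) % 2 = 0 := by omega
        rw [Nat.mul_mod, hcase'.1, one_mul, Nat.mod_mod] at h1
        exact h1
      have ht2 : 2 ≤ t := by omega
      have haR : a ≤ R.card := by
        have : a * 2 ≤ a * t := Nat.mul_le_mul_left a ht2
        omega
      obtain ⟨S, hSR, hSc⟩ := Finset.exists_subset_card_eq haR
      have hSmem : ∀ i ∈ S, i ∈ I ∧ i < π i := fun i hi => by
        have := hSR hi; rw [hR, Finset.mem_filter] at this; exact this
      have hSI : S ⊆ I := fun i hi => (hSmem i hi).1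
      have hSI' : S.image π ⊆ I := by
        intro i hi
        obtain ⟨y, hy, rfl⟩ := Finset.mem_image.mp hi
        exact hI y (hSmem y hy).1
      have hSnot : ∀ i ∈ S, π i ∉ S := by
        intro i hi h
        have h1 := (hSmem i hi).2
        have h2 := (hSmem _ h).2
        rw [hπ] at h2
        exact lt_asymm h1 h2
      have hd : Disjoint S (S.image π) := by
        rw [Finset.disjoint_left]
        intro i hi hi'
        obtain ⟨y, hy, rfl⟩ := Finset.mem_image.mp hi'
        exact hSnot y hy hi
      have hU : S ∪ S.image π ⊆ I := Finset.union_subset hSI hSI'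
      have hUinv : ∀ i ∈ S ∪ S.image π, π i ∈ S ∪ S.image π := by
        intro i hi
        rcases Finset.mem_union.mp hi with h | h
        · exact Finset.mem_union_right _ (Finset.mem_image_of_mem π h)
        · obtain ⟨y, hy, rfl⟩ := Finset.mem_image.mp h
          rw [hπ]; exact Finset.mem_union_left _ hy
      have hI' : ∀ i ∈ I \ (S ∪ S.image π), π i ∈ I \ (S ∪ S.image π) := by
        intro i hi
        rw [Finset.mem_sdiff] at hi ⊢
        refine ⟨hI i hi.1, fun h => hi.2 ?_⟩
        have := hUinv _ h
        rwa [hπ] at this
      have hcard' : (I \ (S ∪ S.image π)).card = a * (t - 2) := by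
        rw [Finset.card_sdiff_of_subset hU, hcard, Finset.card_union_of_disjoint hd,
          Finset.card_image_of_injOn (hinj S), hSc, Nat.mul_sub]
        omega
      have := peel_swapped a (t - 2) π hπ I S hSI hSI' hSnot hSc
        (ih (t - 2) (by omega) _ hI' hcard')
      rwa [Nat.sub_add_cancel ht2] at this

end blocks2

end Cfsg.Agent.Helper13.Elus
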