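import Mathlib
import Cfsg.Agent.Lib.Helper11.CGBase

/-!
# Two-generation of `F₄` over a finite field of characteristic 2 (piece S2405-F4EVEN)

`a = x_0(1) x_9(1) h_{p_0}(k)` (`k` a generator of the multiplicative group), `b = n_w` with
`w = [0,1,2,3]` the Coxeter word.
-/

set_option autoImplicit false
set_option maxRecDepth 100000

namespace Cfsg.Agent.Helper11.CG

open Cfsg Cfsg.Lie Cfsg.Agent.Lead.Chev
open scoped commutatorElement

variable {F : Type*} [Field F]

/-- in characteristic 2 the signs disappear -/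
theorem f4even_neg_one (h2 : (2 : F) = 0) : (-1 : F) = 1 := by
  linear_combination (-1 : F) * h2

theorem f4even_sign_cast (D : ChevalleyDatum) (hFc : ChevFacts D F) (h2 : (2 : F) = 0) (w : List ℕ)
    (hw : ∀ i ∈ w, i < D.rank) (s : ℕ) : ((signWord D (etaOf D) w s : ℤ) : F) = 1 := by
  rcases cgbase_sign D hFc w hw s with h | h
  · rw [h, Int.cast_one]
  · rw [h, Int.cast_neg, Int.cast_one, f4even_neg_one h2]

/-- conjugating a single root element by `n_w ^ i`, characteristic 2 -/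
theorem f4even_one_iter (D : ChevalleyDatum) (hFc : ChevFacts D F) (h2 : (2 : F) = 0)
    (K : Subgroup (GL D.Idx F)) (w : List ℕ) (hw : ∀ i ∈ w, i < D.rank)
    (hn : nWordGL D hFc.xadd w ∈ K) (i s : ℕ) (hs : s < D.nroots) (t : F)
    (h : xGL D hFc.xadd s t ∈ K) : xGL D hFc.xadd (iter D w i s) t ∈ K := by
  obtain ⟨ε, hε, hmem⟩ := one_iter D hFc K w hw hn i s hs t h
  rcases hε with rfl | rfl
  · rwa [one_mul] at hmem
  · rwa [f4even_neg_one h2, one_mul] at hmem

/-- conjugating a product of two root elements by `n_w ^ i`, characteristic 2 -/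
theorem f4even_pair_iter (D : ChevalleyDatum) (hFc : ChevFacts D F) (h2 : (2 : F) = 0)
    (K : Subgroup (GL D.Idx F)) (w : List ℕ) (hw : ∀ i ∈ w, i < D.rank)
    (hn : nWordGL D hFc.xadd w ∈ K) (s₁ s₂ : ℕ) (hs₁ : s₁ < D.nroots) (hs₂ : s₂ < D.nroots)
    (t₁ t₂ : F) (h : xGL D hFc.xadd s₁ t₁ * xGL D hFc.xadd s₂ t₂ ∈ K) (i : ℕ) :
    xGL D hFc.xadd (iter D w i s₁) t₁ * xGL D hFc.xadd (iter D w i s₂) t₂ ∈ K := by
  induction i with
  | zero => exact h
  | succ i ih =>
    have h1 := mul_mem (mul_mem hn ih) (inv_mem hn)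
    have e : nWordGL D hFc.xadd w *
        (xGL D hFc.xadd (iter D w i s₁) t₁ * xGL D hFc.xadd (iter D w i s₂) t₂) *
        (nWordGL D hFc.xadd w)⁻¹ =
        (nWordGL D hFc.xadd w * xGL D hFc.xadd (iter D w i s₁) t₁ * (nWordGL D hFc.xadd w)⁻¹) *
        (nWordGL D hFc.xadd w * xGL D hFc.xadd (iter D w i s₂) t₂ * (nWordGL D hFc.xadd w)⁻¹) := by
      group
    rw [e, nWordGL_conj D hFc.xadd (etaOf D) hFc.nsimple w hw _ (iter_lt D hFc w hw i s₁ hs₁),
      nWordGL_conj D hFc.xadd (etaOf D) hFc.nsimple w hw _ (iter_lt D hFc w hw i s₂ hs₂),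
      f4even_sign_cast D hFc h2 w hw, f4even_sign_cast D hFc h2 w hw, one_mul, one_mul] at h1
    exact h1

/-- root subgroups with an empty commutator formula commute -/
theorem f4even_commute (D : ChevalleyDatum) (hFc : ChevFacts D F) (r s : ℕ) (hr : r < D.nroots)
    (hs : s < D.nroots) (h1 : s ≠ r) (h2 : s ≠ D.neg r) (hterms : D.commTerms r s = [])
    (t u : F) : Commute (xGL D hFc.xadd r t) (xGL D hFc.xadd s u) := by
  have h := comm_GL D hFc.xadd r s (hFc.comm r hr s hs h1 h2) t u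
  have e : D.commWord F r s t u = [] := by
    unfold ChevalleyDatum.commWord
    rw [hterms]
    rfl
  rw [e, wordGL_nil, commutatorElement_eq_one_iff_commute] at h
  exact (Commute.inv_inv_iff.1 h).symm

/-- a commutator formula with the single term `(e, -1, 1, 1)` -/
theorem f4even_comm_one (D : ChevalleyDatum) (hFc : ChevFacts D F) (r s e : ℕ) (hr : r < D.nroots)
    (hs : s < D.nroots) (h1 : s ≠ r) (h2 : s ≠ D.neg r)
    (hterms : D.commTerms r s = [(e, -1, 1, 1)]) :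
    ⁅(xGL D hFc.xadd s 1)⁻¹, (xGL D hFc.xadd r 1)⁻¹⁆ = xGL D hFc.xadd e (1 : F) := by
  have h := comm_GL D hFc.xadd r s (hFc.comm r hr s hs h1 h2) (1 : F) (1 : F)
  have e' : D.commWord F r s (1 : F) (1 : F) = [(e, (1 : F))] := by
    unfold ChevalleyDatum.commWord
    rw [hterms]
    simp
  rw [e', wordGL_singleton] at h
  exact h

theorem f4even_comm_mem {G : Type*} [Group G] (K : Subgroup G) (g₁ g₂ : G) (h₁ : g₁ ∈ K)
    (h₂ : g₂ ∈ K) : ⁅g₁, g₂⁆ ∈ K := by
  rw [commutatorElement_def]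
  exact mul_mem (mul_mem (mul_mem h₁ h₂) (inv_mem h₁)) (inv_mem h₂)

/-- the commutator of two products in which all pairs but one commute -/
theorem f4even_comm_pair {G : Type*} [Group G] (A B C E : G) (hAB : Commute A B)
    (hAC : Commute A C) (hAE : Commute A E) (hBC : Commute B C) :
    ⁅(C * E)⁻¹, (A * B)⁻¹⁆ = ⁅E⁻¹, B⁻¹⁆ := by
  rw [commutatorElement_def, commutatorElement_def, inv_inv, inv_inv, inv_inv, inv_inv]
  have h1 : (A * B)⁻¹ * (C * E) * (A * B) = C * (B⁻¹ * E * B) := by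
    have hA : A⁻¹ * (C * E) * A = C * E := (hAC.mul_right hAE).inv_mul_cancel
    have hB : B⁻¹ * C * B = C := hBC.inv_mul_cancel
    calc (A * B)⁻¹ * (C * E) * (A * B) = B⁻¹ * (A⁻¹ * (C * E) * A) * B := by group
      _ = B⁻¹ * (C * E) * B := by rw [hA]
      _ = (B⁻¹ * C * B) * (B⁻¹ * E * B) := by group
      _ = C * (B⁻¹ * E * B) := by rw [hB]
  calc (C * E)⁻¹ * (A * B)⁻¹ * (C * E) * (A * B)
      = (C * E)⁻¹ * ((A * B)⁻¹ * (C * E) * (A * B)) := by group
    _ = (C * E)⁻¹ * (C * (B⁻¹ * E * B)) := by rw [h1]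
    _ = E⁻¹ * B⁻¹ * E * B := by group

/-! ### The data for `F₄` -/

theorem f4even_ct_0_9 : chevF4.commTerms 0 9 = [] := by decide +kernel
theorem f4even_ct_0_15 : chevF4.commTerms 0 15 = [] := by decide +kernel
theorem f4even_ct_0_19 : chevF4.commTerms 0 19 = [] := by decide +kernel
theorem f4even_ct_9_15 : chevF4.commTerms 9 15 = [] := by decide +kernel
theorem f4even_ct_9_19 : chevF4.commTerms 9 19 = [(7, -1, 1, 1)] := by decide +kernel
theorem f4even_ct_9_0 : chevF4.commTerms 9 0 = [] := by decide +kernel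
theorem f4even_ct_9_35 : chevF4.commTerms 9 35 = [] := by decide +kernel
theorem f4even_ct_9_46 : chevF4.commTerms 9 46 = [] := by decide +kernel
theorem f4even_ct_0_35 : chevF4.commTerms 0 35 = [] := by decide +kernel
theorem f4even_ct_0_46 : chevF4.commTerms 0 46 = [(23, -1, 1, 1)] := by decide +kernel
theorem f4even_ct_3_37 : chevF4.commTerms 3 37 = [(11, -1, 1, 1)] := by decide +kernel

theorem f4even_cover : ∀ r < chevF4.nroots,
    r ∈ orbitList chevF4 [0, 1, 2, 3] 0 12 ++ orbitList chevF4 [0, 1, 2, 3] 9 12 ++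
      orbitList chevF4 [0, 1, 2, 3] 7 12 ++ orbitList chevF4 [0, 1, 2, 3] 23 12 := by
  decide +kernel

/-- the group `F₄(q)`, `q` even, is generated by two elements -/
theorem f4_even [Finite F] (h2 : (2 : F) = 0) :
    ∃ a b : ↥(chevF4.group F), Subgroup.closure ({a, b} : Set ↥(chevF4.group F)) = ⊤ := by
  have hFc : ChevFacts chevF4 F := chevFacts_of_mem chevF4 (by simp)
  obtain ⟨k, hk0, hkgen, hkpow⟩ := exists_gen (F := F)
  have hw : ∀ i ∈ [0, 1, 2, 3], i < chevF4.rank := by decide +kernel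
  have hr0 : (0 : ℕ) < chevF4.rank := by decide +kernel
  have hlt : ∀ s, s < 48 → s < chevF4.nroots := by
    intro s hs
    have : chevF4.nroots = 48 := by decide +kernel
    omega
  have ha : xGL chevF4 hFc.xadd 0 1 * xGL chevF4 hFc.xadd 9 1 *
      hGLt chevF4 hFc.xadd (chevF4.simple 0) k ∈ chevF4.group F :=
    mul_mem (mul_mem (xGL_mem_group _ _ _ _) (xGL_mem_group _ _ _ _)) (hGLt_mem_group _ _ _ _)
  have hb : nWordGL chevF4 hFc.xadd [0, 1, 2, 3] ∈ chevF4.group F := nWordGL_mem_group _ _ _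
  refine ⟨⟨_, ha⟩, ⟨_, hb⟩, closure_subtype_eq_top chevF4 _ _ ha hb ?_⟩
  generalize hK : Subgroup.closure
    ({xGL chevF4 hFc.xadd 0 1 * xGL chevF4 hFc.xadd 9 1 *
      hGLt chevF4 hFc.xadd (chevF4.simple 0) k, nWordGL chevF4 hFc.xadd [0, 1, 2, 3]} :
      Set (GL chevF4.Idx F)) = K
  have haK : xGL chevF4 hFc.xadd 0 1 * xGL chevF4 hFc.xadd 9 1 *
      hGLt chevF4 hFc.xadd (chevF4.simple 0) k ∈ K := by
    rw [← hK]
    exact Subgroup.subset_closure (Set.mem_insert _ _)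
  have hn : nWordGL chevF4 hFc.xadd [0, 1, 2, 3] ∈ K := by
    rw [← hK]
    exact Subgroup.subset_closure (Set.mem_insert_of_mem _ rfl)
  -- the two factors of `a`
  have hc09 : ∀ t u : F, Commute (xGL chevF4 hFc.xadd 0 t) (xGL chevF4 hFc.xadd 9 u) :=
    f4even_commute chevF4 hFc 0 9 (hlt _ (by norm_num)) (hlt _ (by norm_num)) (by decide +kernel)
      (by decide +kernel) f4even_ct_0_9
  have hch : ∀ s, s < chevF4.nroots → chevF4.cartan 0 s = 0 → ∀ t : F,
      Commute (xGL chevF4 hFc.xadd s t) (hGLt chevF4 hFc.xadd (chevF4.simple 0) k) := by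
    intro s hs hc t
    have h := hGLt_conj chevF4 hFc 0 hr0 s hs k hk0 t
    rw [hc, zpow_zero, one_mul, mul_inv_eq_iff_eq_mul] at h
    exact h.symm
  have hcuh : Commute (xGL chevF4 hFc.xadd 0 1 * xGL chevF4 hFc.xadd 9 1)
      (hGLt chevF4 hFc.xadd (chevF4.simple 0) k) :=
    (hch 0 (hlt _ (by norm_num)) (by decide +kernel) 1).mul_left
      (hch 9 (hlt _ (by norm_num)) (by decide +kernel) 1)
  have hupow : (xGL chevF4 hFc.xadd 0 1 * xGL chevF4 hFc.xadd 9 1) ^ (Nat.card F - 1) =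
      (xGL chevF4 hFc.xadd 0 1 * xGL chevF4 hFc.xadd 9 1)⁻¹ := by
    rw [(hc09 1 1).mul_pow, xGL_pow, xGL_pow, cast_card_sub_one, mul_inv_rev, xGL_inv, xGL_inv,
      neg_one_mul]
    exact hc09 _ _
  have hhpow : hGLt chevF4 hFc.xadd (chevF4.simple 0) k ^ (Nat.card F - 1) = 1 :=
    hGLt_pow_eq_one chevF4 hFc 0 hr0 k hk0 _ hkpow
  obtain ⟨hu, hh⟩ := mem_of_commute_pow K _ _ hcuh (Nat.card F - 1) hupow hhpow haK
  -- the conjugates of `u`
  have hui : ∀ i, xGL chevF4 hFc.xadd (iter chevF4 [0, 1, 2, 3] i 0) 1 *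
      xGL chevF4 hFc.xadd (iter chevF4 [0, 1, 2, 3] i 9) 1 ∈ K :=
    f4even_pair_iter chevF4 hFc h2 K _ hw hn 0 9 (hlt _ (by norm_num)) (hlt _ (by norm_num)) 1 1 hu
  -- (1) `x_7(1) ∈ K`
  have hx7 : xGL chevF4 hFc.xadd 7 (1 : F) ∈ K := by
    have h1 := hui 1
    have e1 : iter chevF4 [0, 1, 2, 3] 1 0 = 15 := by decide +kernel
    have e2 : iter chevF4 [0, 1, 2, 3] 1 9 = 19 := by decide +kernel
    rw [e1, e2] at h1
    have h3 := f4even_comm_pair (xGL chevF4 hFc.xadd 0 (1 : F)) (xGL chevF4 hFc.xadd 9 (1 : F))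
      (xGL chevF4 hFc.xadd 15 (1 : F)) (xGL chevF4 hFc.xadd 19 (1 : F)) (hc09 1 1)
      (f4even_commute chevF4 hFc 0 15 (hlt _ (by norm_num)) (hlt _ (by norm_num))
        (by decide +kernel) (by decide +kernel) f4even_ct_0_15 1 1)
      (f4even_commute chevF4 hFc 0 19 (hlt _ (by norm_num)) (hlt _ (by norm_num))
        (by decide +kernel) (by decide +kernel) f4even_ct_0_19 1 1)
      (f4even_commute chevF4 hFc 9 15 (hlt _ (by norm_num)) (hlt _ (by norm_num))
        (by decide +kernel) (by decide +kernel) f4even_ct_9_15 1 1)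
    rw [f4even_comm_one chevF4 hFc 9 19 7 (hlt _ (by norm_num)) (hlt _ (by norm_num))
      (by decide +kernel) (by decide +kernel) f4even_ct_9_19] at h3
    rw [← h3]
    exact f4even_comm_mem K _ _ (inv_mem h1) (inv_mem hu)
  -- (2) `x_23(1) ∈ K`
  have hu' : xGL chevF4 hFc.xadd 9 (1 : F) * xGL chevF4 hFc.xadd 0 (1 : F) ∈ K := by
    rw [← (hc09 1 1).eq]
    exact hu
  have hx23 : xGL chevF4 hFc.xadd 23 (1 : F) ∈ K := by
    have h1 := f4even_pair_iter chevF4 hFc h2 K _ hw hn 9 0 (hlt _ (by norm_num))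
      (hlt _ (by norm_num)) 1 1 hu' 5
    have e1 : iter chevF4 [0, 1, 2, 3] 5 0 = 46 := by decide +kernel
    have e2 : iter chevF4 [0, 1, 2, 3] 5 9 = 35 := by decide +kernel
    rw [e1, e2] at h1
    have h3 := f4even_comm_pair (xGL chevF4 hFc.xadd 9 (1 : F)) (xGL chevF4 hFc.xadd 0 (1 : F))
      (xGL chevF4 hFc.xadd 35 (1 : F)) (xGL chevF4 hFc.xadd 46 (1 : F)) (hc09 1 1).symm
      (f4even_commute chevF4 hFc 9 35 (hlt _ (by norm_num)) (hlt _ (by norm_num))
        (by decide +kernel) (by decide +kernel) f4even_ct_9_35 1 1)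
      (f4even_commute chevF4 hFc 9 46 (hlt _ (by norm_num)) (hlt _ (by norm_num))
        (by decide +kernel) (by decide +kernel) f4even_ct_9_46 1 1)
      (f4even_commute chevF4 hFc 0 35 (hlt _ (by norm_num)) (hlt _ (by norm_num))
        (by decide +kernel) (by decide +kernel) f4even_ct_0_35 1 1)
    rw [f4even_comm_one chevF4 hFc 0 46 23 (hlt _ (by norm_num)) (hlt _ (by norm_num))
      (by decide +kernel) (by decide +kernel) f4even_ct_0_46] at h3
    rw [← h3]
    exact f4even_comm_mem K _ _ (inv_mem h1) (inv_mem hu')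
  -- (3) `x_11(1) ∈ K` and `x_21(1) ∈ K`
  have hx11 : xGL chevF4 hFc.xadd 11 (1 : F) ∈ K := by
    have h3 := f4even_one_iter chevF4 hFc h2 K _ hw hn 11 7 (hlt _ (by norm_num)) 1 hx7
    have h37 := f4even_one_iter chevF4 hFc h2 K _ hw hn 4 7 (hlt _ (by norm_num)) 1 hx7
    have e1 : iter chevF4 [0, 1, 2, 3] 11 7 = 3 := by decide +kernel
    have e2 : iter chevF4 [0, 1, 2, 3] 4 7 = 37 := by decide +kernel
    rw [e1] at h3
    rw [e2] at h37
    rw [← f4even_comm_one chevF4 hFc 3 37 11 (hlt _ (by norm_num)) (hlt _ (by norm_num))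
      (by decide +kernel) (by decide +kernel) f4even_ct_3_37]
    exact f4even_comm_mem K _ _ (inv_mem h37) (inv_mem h3)
  have hx21 : xGL chevF4 hFc.xadd 21 (1 : F) ∈ K := by
    have h1 := hui 2
    have e1 : iter chevF4 [0, 1, 2, 3] 2 0 = 21 := by decide +kernel
    have e2 : iter chevF4 [0, 1, 2, 3] 2 9 = 11 := by decide +kernel
    rw [e1, e2] at h1
    have h3 := mul_mem h1 (inv_mem hx11)
    rwa [mul_inv_cancel_right] at h3
  -- (4) filling the root subgroups
  have hg1 : ∀ v : F, v ≠ 0 → ∃ m : ℕ, v = (k ^ (1 : ℤ)) ^ m :=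
    gen_zpow k hk0 hkgen 1 (Or.inl rfl)
  have hg2 : ∀ v : F, v ≠ 0 → ∃ m : ℕ, v = (k ^ (2 : ℤ)) ^ m :=
    gen_zpow k hk0 hkgen 2 (Or.inr (Or.inr ⟨h2, Or.inl rfl⟩))
  have one_ne : (1 : F) ≠ 0 := one_ne_zero
  -- the orbit of `0`
  have hO0 : ∀ s ∈ orbitList chevF4 [0, 1, 2, 3] 0 12, Full chevF4 hFc.xadd K s := by
    apply full_orbit chevF4 hFc K _ hw hn 0 12 1 (hlt _ (by norm_num)) (by decide +kernel)
    have e1 : iter chevF4 [0, 1, 2, 3] 1 0 = 15 := by decide +kernel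
    rw [e1]
    have h15 := f4even_one_iter chevF4 hFc h2 K _ hw hn 11 21 (hlt _ (by norm_num)) 1 hx21
    have e2 : iter chevF4 [0, 1, 2, 3] 11 21 = 15 := by decide +kernel
    rw [e2] at h15
    apply full_of_torus chevF4 hFc K 0 hr0 k hk0 hh 15 (hlt _ (by norm_num)) 1 one_ne h15
    have e3 : chevF4.cartan 0 15 = 2 := by decide +kernel
    rw [e3]
    exact hg2
  -- the orbit of `9`
  have hO9 : ∀ s ∈ orbitList chevF4 [0, 1, 2, 3] 9 12, Full chevF4 hFc.xadd K s := by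
    apply full_orbit chevF4 hFc K _ hw hn 9 12 1 (hlt _ (by norm_num)) (by decide +kernel)
    have e1 : iter chevF4 [0, 1, 2, 3] 1 9 = 19 := by decide +kernel
    rw [e1]
    have h19 := f4even_one_iter chevF4 hFc h2 K _ hw hn 11 11 (hlt _ (by norm_num)) 1 hx11
    have e2 : iter chevF4 [0, 1, 2, 3] 11 11 = 19 := by decide +kernel
    rw [e2] at h19
    apply full_of_torus chevF4 hFc K 0 hr0 k hk0 hh 19 (hlt _ (by norm_num)) 1 one_ne h19
    have e3 : chevF4.cartan 0 19 = 1 := by decide +kernel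
    rw [e3]
    exact hg1
  -- the orbit of `7`
  have hO7 : ∀ s ∈ orbitList chevF4 [0, 1, 2, 3] 7 12, Full chevF4 hFc.xadd K s := by
    apply full_orbit chevF4 hFc K _ hw hn 7 12 0 (hlt _ (by norm_num)) (by decide +kernel)
    have e1 : iter chevF4 [0, 1, 2, 3] 0 7 = 7 := rfl
    rw [e1]
    apply full_of_torus chevF4 hFc K 0 hr0 k hk0 hh 7 (hlt _ (by norm_num)) 1 one_ne hx7
    have e3 : chevF4.cartan 0 7 = 1 := by decide +kernel
    rw [e3]
    exact hg1
  -- the orbit of `23`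
  have hO23 : ∀ s ∈ orbitList chevF4 [0, 1, 2, 3] 23 12, Full chevF4 hFc.xadd K s := by
    apply full_orbit chevF4 hFc K _ hw hn 23 12 1 (hlt _ (by norm_num)) (by decide +kernel)
    have e1 : iter chevF4 [0, 1, 2, 3] 1 23 = 42 := by decide +kernel
    rw [e1]
    have h42 := f4even_one_iter chevF4 hFc h2 K _ hw hn 1 23 (hlt _ (by norm_num)) 1 hx23
    rw [e1] at h42
    apply full_of_torus chevF4 hFc K 0 hr0 k hk0 hh 42 (hlt _ (by norm_num)) 1 one_ne h42
    have e3 : chevF4.cartan 0 42 = 2 := by decide +kernel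
    rw [e3]
    exact hg2
  -- all roots
  apply group_le_of chevF4 hFc.xadd K
  intro r hr t
  have hmem := f4even_cover r hr
  rw [List.mem_append, List.mem_append, List.mem_append] at hmem
  rcases hmem with ((hm | hm) | hm) | hm
  · exact hO0 r hm t
  · exact hO9 r hm t
  · exact hO7 r hm t
  · exact hO23 r hm t

end Cfsg.Agent.Helper11.CG
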