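import Mathlib

set_option autoImplicit false

namespace Cfsg.Agent.Helper13

/-- permutations of the first factor acting on a product -/
def permLeftHom (A B : Type*) : Equiv.Perm A →* Equiv.Perm (A × B) where
  toFun σ := Equiv.prodCongr σ (Equiv.refl B)
  map_one' := by ext ⟨a, b⟩ <;> rfl
  map_mul' σ τ := by ext ⟨a, b⟩ <;> rfl

theorem permLeftHom_apply (A B : Type*) (σ : Equiv.Perm A) (p : A × B) :
    permLeftHom A B σ p = (σ p.1, p.2) := rfl

theorem permLeftHom_injective (A B : Type*) [Nonempty B] : Function.Injective (permLeftHom A B) := by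
  intro σ τ h
  ext a
  obtain ⟨b⟩ := ‹Nonempty B›
  have := congrArg (fun f : Equiv.Perm (A × B) => (f (a, b)).1) h
  simpa [permLeftHom_apply] using this

/-- for a finite group acting on a large enough finite set, some copy of `Sym(r)` commutes with
the action -/
theorem exists_centralizing_hom {H X : Type*} [Group H] [Fintype H] [MulAction H X] [Fintype X]
    (r : ℕ) (hcard : Fintype.card H * (2 ^ Fintype.card H * r + 1) ≤ Fintype.card X) :
    ∃ π : Equiv.Perm (Fin r) →* Equiv.Perm X, Function.Injective π ∧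
      ∀ (σ : Equiv.Perm (Fin r)) (h : H) (y : X), π σ (h • y) = h • π σ y := by
  classical
  have hHpos : 0 < Fintype.card H := Fintype.card_pos
  -- Step 1
  have h1 : Fintype.card X ≤ Fintype.card H * Fintype.card (MulAction.orbitRel.Quotient H X) := by
    rw [← Fintype.card_prod]
    apply Fintype.card_le_of_surjective
      (fun p : H × MulAction.orbitRel.Quotient H X => p.1 • p.2.out)
    intro y
    have hy : (Quotient.mk (MulAction.orbitRel H X) y).out ∈ MulAction.orbit H y := by
      rw [← MulAction.orbitRel_apply]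
      exact Quotient.mk_out y
    obtain ⟨h, hh⟩ := hy
    refine ⟨(h⁻¹, Quotient.mk (MulAction.orbitRel H X) y), ?_⟩
    show h⁻¹ • (Quotient.mk (MulAction.orbitRel H X) y).out = y
    rw [← hh, inv_smul_smul]
  -- Step 2
  have hsub : Fintype.card (Subgroup H) ≤ 2 ^ Fintype.card H := by
    rw [← Fintype.card_set]
    exact Fintype.card_le_of_injective (fun K : Subgroup H => (K : Set H)) SetLike.coe_injective
  have hΩ : Fintype.card (Subgroup H) * r ≤ Fintype.card (MulAction.orbitRel.Quotient H X) := by
    have h2 : Fintype.card H * (2 ^ Fintype.card H * r + 1) ≤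
        Fintype.card H * Fintype.card (MulAction.orbitRel.Quotient H X) := le_trans hcard h1
    have h3 := Nat.le_of_mul_le_mul_left h2 hHpos
    have h4 : Fintype.card (Subgroup H) * r ≤ 2 ^ Fintype.card H * r := Nat.mul_le_mul_right r hsub
    omega
  obtain ⟨S, hS⟩ := Fintype.exists_le_card_fiber_of_mul_le_card
    (fun ω : MulAction.orbitRel.Quotient H X => MulAction.stabilizer H ω.out) hΩ
  have hcardS : Fintype.card (Fin r) ≤
      Fintype.card {ω : MulAction.orbitRel.Quotient H X // MulAction.stabilizer H ω.out = S} := by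
    rw [Fintype.card_fin, Fintype.card_subtype]
    exact hS
  obtain ⟨e⟩ := Function.Embedding.nonempty_of_card_le hcardS
  -- Step 3
  set x : Fin r → X := fun i => (e i).1.out with hx
  have hst : ∀ i, MulAction.stabilizer H (x i) = S := fun i => (e i).2
  have horb : ∀ i j, x i ∈ MulAction.orbit H (x j) → i = j := by
    intro i j hij
    have h2 : Quotient.mk (MulAction.orbitRel H X) (x i) = Quotient.mk (MulAction.orbitRel H X) (x j) :=
      Quotient.sound ((MulAction.orbitRel_apply).mpr hij)
    have h3 : (e i).1 = (e j).1 := by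
      have ei : Quotient.mk (MulAction.orbitRel H X) (x i) = (e i).1 := Quotient.out_eq _
      have ej : Quotient.mk (MulAction.orbitRel H X) (x j) = (e j).1 := Quotient.out_eq _
      rw [← ei, ← ej, h2]
    exact e.injective (Subtype.ext h3)
  -- Step 4
  let β : Fin r × (H ⧸ S) → X := fun p =>
    Quotient.liftOn' p.2 (fun h => h • x p.1) (by
      intro a b hab
      rw [QuotientGroup.leftRel_apply, ← hst p.1, MulAction.mem_stabilizer_iff] at hab
      show a • x p.1 = b • x p.1
      have : b • x p.1 = a • ((a⁻¹ * b) • x p.1) := by rw [smul_smul, mul_inv_cancel_left]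
      rw [this, hab])
  have hβmk : ∀ (i : Fin r) (a : H), β (i, (QuotientGroup.mk a : H ⧸ S)) = a • x i := fun i a => rfl
  have hβinj : Function.Injective β := by
    rintro ⟨i, q⟩ ⟨j, q'⟩ h
    induction q using QuotientGroup.induction_on with | H a => ?_
    induction q' using QuotientGroup.induction_on with | H b => ?_
    rw [hβmk, hβmk] at h
    have hij : i = j := by
      apply horb
      refine ⟨a⁻¹ * b, ?_⟩
      show (a⁻¹ * b) • x j = x i
      rw [mul_smul, ← h, inv_smul_smul]
    subst hij
    congr 1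
    rw [QuotientGroup.eq, ← hst i, MulAction.mem_stabilizer_iff, mul_smul, ← h, inv_smul_smul]
  -- Step 5
  let ι : Fin r × (H ⧸ S) ↪ X := ⟨β, hβinj⟩
  let π : Equiv.Perm (Fin r) →* Equiv.Perm X :=
    (Equiv.Perm.viaEmbeddingHom ι).comp (permLeftHom (Fin r) (H ⧸ S))
  have hπβ : ∀ σ p, π σ (β p) = β (σ p.1, p.2) := by
    intro σ p
    exact Equiv.Perm.viaEmbedding_apply (permLeftHom (Fin r) (H ⧸ S) σ) ι p
  have hπout : ∀ σ y, y ∉ Set.range β → π σ y = y := by
    intro σ y hy
    exact Equiv.Perm.viaEmbedding_apply_of_notMem (permLeftHom (Fin r) (H ⧸ S) σ) ι y hy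
  refine ⟨π, ?_, ?_⟩
  · exact (Equiv.Perm.viaEmbeddingHom_injective ι).comp (permLeftHom_injective (Fin r) (H ⧸ S))
  · intro σ h y
    by_cases hy : y ∈ Set.range β
    · obtain ⟨⟨i, q⟩, rfl⟩ := hy
      induction q using QuotientGroup.induction_on with | H a => ?_
      have e1 : h • β (i, (QuotientGroup.mk a : H ⧸ S)) = β (i, (QuotientGroup.mk (h * a) : H ⧸ S)) := by
        rw [hβmk, hβmk, mul_smul]
      rw [e1, hπβ, hπβ]
      show β (σ i, (QuotientGroup.mk (h * a) : H ⧸ S)) = h • β (σ i, (QuotientGroup.mk a : H ⧸ S))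
      rw [hβmk, hβmk, mul_smul]
    · have hy' : h • y ∉ Set.range β := by
        rintro ⟨⟨i, q⟩, hq⟩
        induction q using QuotientGroup.induction_on with | H a => ?_
        apply hy
        refine ⟨(i, (QuotientGroup.mk (h⁻¹ * a) : H ⧸ S)), ?_⟩
        rw [hβmk, mul_smul, ← hβmk i a, hq, inv_smul_smul]
      rw [hπout σ _ hy', hπout σ _ hy]

end Cfsg.Agent.Helper13
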