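import Mathlib

set_option autoImplicit false
set_option linter.style.haveILetI false
set_option linter.unusedSectionVars false

namespace Cfsg.Agent.Helper13.SubCnt

open Module

variable {F V : Type*} [Field F] [Fintype F] [AddCommGroup V] [Module F V] [Finite V]

/-- For a fixed `m`-dimensional subspace `W`, the independent `m`-tuples of `V` spanning `W`
are the independent `m`-tuples of `W`. -/
noncomputable def fiberEquiv (m : ℕ) (W : Submodule F V) (hW : finrank F W = m) :
    {s : {s : Fin m → V // LinearIndependent F s} // Submodule.span F (Set.range s.1) = W} ≃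
      {t : Fin m → W // LinearIndependent F t} where
  toFun s := ⟨fun j => ⟨s.1.1 j, by
    have h2 := s.2
    have : s.1.1 j ∈ Submodule.span F (Set.range s.1.1) := Submodule.subset_span ⟨j, rfl⟩
    rwa [h2] at this⟩, by
    have h := s.1.2
    apply LinearIndependent.of_comp W.subtype
    exact h⟩
  invFun t := ⟨⟨fun j => (t.1 j : V), t.2.map' W.subtype (Submodule.ker_subtype W)⟩, by
    have htop : Submodule.span F (Set.range t.1) = ⊤ := by
      apply t.2.span_eq_top_of_card_eq_finrank'
      rw [Fintype.card_fin, hW]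
    have : Set.range (fun j => (t.1 j : V)) = W.subtype '' Set.range t.1 := by
      ext v; simp [Set.mem_image]
    simp only
    rw [this, Submodule.span_image, htop, Submodule.map_top, Submodule.range_subtype]⟩
  left_inv s := by ext; rfl
  right_inv t := by ext; rfl

theorem card_subspaces_mul (n m : ℕ) (hn : finrank F V = n) (hm : m ≤ n) :
    Nat.card {W : Submodule F V // finrank F W = m} *
      ∏ j : Fin m, (Fintype.card F ^ m - Fintype.card F ^ j.val) =
    ∏ j : Fin m, (Fintype.card F ^ n - Fintype.card F ^ j.val) := by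
  classical
  haveI : Finite (Submodule F V) := Finite.of_injective (fun W => (W : Set V)) SetLike.coe_injective
  haveI : Fintype {W : Submodule F V // finrank F W = m} := Fintype.ofFinite _
  have h1 := card_linearIndependent (K := F) (V := V) (k := m) (by rw [hn]; exact hm)
  rw [hn] at h1
  rw [← h1]
  let f : {s : Fin m → V // LinearIndependent F s} → {W : Submodule F V // finrank F W = m} :=
    fun s => ⟨Submodule.span F (Set.range s.1), by
      rw [finrank_span_eq_card s.2, Fintype.card_fin]⟩
  rw [Nat.card_congr (Equiv.sigmaFiberEquiv f).symm, Nat.card_sigma]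
  have : ∀ W : {W : Submodule F V // finrank F W = m},
      Nat.card {s : {s : Fin m → V // LinearIndependent F s} // f s = W} =
        ∏ j : Fin m, (Fintype.card F ^ m - Fintype.card F ^ j.val) := by
    intro W
    have e : {s : {s : Fin m → V // LinearIndependent F s} // f s = W} ≃
        {s : {s : Fin m → V // LinearIndependent F s} //
          Submodule.span F (Set.range s.1) = W.1} :=
      Equiv.subtypeEquivRight (fun s => by
        constructor
        · intro h; exact congrArg Subtype.val h
        · intro h; exact Subtype.ext h)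
    rw [Nat.card_congr (e.trans (fiberEquiv m W.1 W.2))]
    have h2 := card_linearIndependent (K := F) (V := W.1) (k := m) (by rw [W.2])
    rw [W.2] at h2
    exact h2
  simp only [this]
  rw [Finset.sum_const, Finset.card_univ, smul_eq_mul, Nat.card_eq_fintype_card]

theorem prod_pow_sub_pow (q n m : ℕ) (hm : m ≤ n) :
    ∏ j : Fin m, (q ^ n - q ^ j.val) = (∏ j : Fin m, q ^ j.val) * ∏ j : Fin m, (q ^ (n - j.val) - 1) := by
  rw [← Finset.prod_mul_distrib]
  apply Finset.prod_congr rfl
  intro j _
  have hj : j.val ≤ n := by have := j.2; omega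
  rw [Nat.mul_sub, mul_one, ← pow_add, Nat.add_sub_cancel' hj]

theorem card_subspaces_mul' (n m : ℕ) (hn : finrank F V = n) (hm : m ≤ n) :
    Nat.card {W : Submodule F V // finrank F W = m} *
      ∏ j : Fin m, (Fintype.card F ^ (m - j.val) - 1) =
    ∏ j : Fin m, (Fintype.card F ^ (n - j.val) - 1) := by
  have h := card_subspaces_mul (F := F) (V := V) n m hn hm
  rw [prod_pow_sub_pow _ n m hm, prod_pow_sub_pow _ m m le_rfl] at h
  have hpos : 0 < ∏ j : Fin m, Fintype.card F ^ j.val :=
    Finset.prod_pos fun j _ => pow_pos Fintype.card_pos _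
  have h' : (∏ j : Fin m, Fintype.card F ^ j.val) *
      (Nat.card {W : Submodule F V // finrank F W = m} *
        ∏ j : Fin m, (Fintype.card F ^ (m - j.val) - 1)) =
      (∏ j : Fin m, Fintype.card F ^ j.val) * ∏ j : Fin m, (Fintype.card F ^ (n - j.val) - 1) := by
    rw [← h]; ring
  exact Nat.eq_of_mul_eq_mul_left hpos h'

theorem not_char_dvd_card_subspaces (p : ℕ) [Fact p.Prime] [CharP F p] (n m : ℕ)
    (hn : finrank F V = n) (hm : m ≤ n) :
    ¬ p ∣ Nat.card {W : Submodule F V // finrank F W = m} := by
  intro hdvd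
  have h := card_subspaces_mul' (F := F) (V := V) n m hn hm
  have hp : p.Prime := Fact.out
  have hpq : p ∣ Fintype.card F := by
    rw [← CharP.cast_eq_zero_iff F p]
    exact Nat.cast_card_eq_zero F
  have h2 : p ∣ ∏ j : Fin m, (Fintype.card F ^ (n - j.val) - 1) := by
    rw [← h]; exact Dvd.dvd.mul_right hdvd _
  rw [hp.prime.dvd_finsetProd_iff] at h2
  obtain ⟨j, -, hj⟩ := h2
  have hpos : 0 < n - j.val := by have := j.2; omega
  have h3 : p ∣ Fintype.card F ^ (n - j.val) := dvd_pow hpq hpos.ne'
  have h4 : 1 ≤ Fintype.card F ^ (n - j.val) := Nat.one_le_pow _ _ Fintype.card_pos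
  have h5 : p ∣ 1 := by
    have := Nat.dvd_sub h3 hj
    rwa [Nat.sub_sub_self h4] at this
  exact hp.one_lt.ne' (Nat.dvd_one.mp h5)

theorem exists_dvd_of_dvd_card_subspaces (r : ℕ) (hr : r.Prime) (n m : ℕ)
    (hn : finrank F V = n) (hm : m ≤ n)
    (h : r ∣ Nat.card {W : Submodule F V // finrank F W = m}) :
    ∃ j, j < m ∧ r ∣ Fintype.card F ^ (n - j) - 1 := by
  have h1 := card_subspaces_mul' (F := F) (V := V) n m hn hm
  have h2 : r ∣ ∏ j : Fin m, (Fintype.card F ^ (n - j.val) - 1) := by
    rw [← h1]; exact Dvd.dvd.mul_right h _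
  rw [hr.prime.dvd_finsetProd_iff] at h2
  obtain ⟨j, -, hj⟩ := h2
  exact ⟨j.val, j.2, hj⟩

end Cfsg.Agent.Helper13.SubCnt
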