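import Mathlib
import Cfsg.Agent.Lib.Helper13.SubspaceCount

/-!
# Counting complements and direct-sum decompositions of a finite vector space
-/

set_option autoImplicit false
set_option linter.style.haveILetI false
set_option linter.unusedSectionVars false
set_option linter.unusedVariables false

namespace Cfsg.Agent.Helper13.SubCnt

open Module

variable {F V : Type*} [Field F] [Fintype F] [AddCommGroup V] [Module F V] [Finite V]

/-- the number of complements of a subspace. -/
theorem card_compl (U : Submodule F V) (n m : ℕ) (hn : finrank F V = n) (hU : finrank F U = m) :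
    Nat.card {W : Submodule F V // IsCompl U W} = Fintype.card F ^ (n * m - m * m) := by
  classical
  haveI : Module.Finite F V := Module.Finite.of_finite
  rw [Nat.card_congr U.isComplEquivProj]
  obtain ⟨W₀, hW₀⟩ := Submodule.exists_isCompl U
  set f₀ : V →ₗ[F] U := Submodule.projectionOnto U W₀ hW₀ with hf₀
  have hf₀id : ∀ x : U, f₀ x = x := Submodule.projectionOnto_apply_left hW₀
  let R : (V →ₗ[F] U) →ₗ[F] (U →ₗ[F] U) := LinearMap.lcomp F U U.subtype
  have hR : ∀ g : V →ₗ[F] U, R g = g ∘ₗ U.subtype := fun g => rfl
  let e : {f : V →ₗ[F] U // ∀ x : U, f x = x} ≃ ↥(LinearMap.ker R) :=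
    { toFun := fun f => ⟨f.1 - f₀, by
        rw [LinearMap.mem_ker, hR]
        ext x
        simp [f.2 x, hf₀id x]⟩
      invFun := fun g => ⟨g.1 + f₀, fun x => by
        have h1 : R g.1 = 0 := g.2
        rw [hR] at h1
        have h2 := LinearMap.congr_fun h1 x
        simp only [LinearMap.comp_apply, Submodule.subtype_apply, LinearMap.zero_apply] at h2
        rw [LinearMap.add_apply, h2, zero_add, hf₀id]⟩
      left_inv := fun f => by
        apply Subtype.ext
        simp
      right_inv := fun g => by
        apply Subtype.ext
        simp }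
  rw [Nat.card_congr e, Module.natCard_eq_pow_finrank (K := F), Nat.card_eq_fintype_card]
  congr 1
  have hsurj : LinearMap.range R = ⊤ := by
    rw [LinearMap.range_eq_top]
    intro h
    refine ⟨h ∘ₗ f₀, ?_⟩
    rw [hR]
    ext x
    simp [hf₀id x]
  have h1 := LinearMap.finrank_range_add_finrank_ker R
  rw [hsurj, finrank_top, Module.finrank_linearMap, Module.finrank_linearMap, hn, hU] at h1
  omega

/-- the number of decompositions `V = U ⊕ W` with `dim U = m`. -/
theorem card_decomp (n m : ℕ) (hn : finrank F V = n) :
    Nat.card {P : Submodule F V × Submodule F V // IsCompl P.1 P.2 ∧ finrank F P.1 = m} =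
    Nat.card {U : Submodule F V // finrank F U = m} * Fintype.card F ^ (n * m - m * m) := by
  classical
  haveI : Finite (Submodule F V) := Finite.of_injective (fun W => (W : Set V)) SetLike.coe_injective
  haveI : Fintype {W : Submodule F V // finrank F W = m} := Fintype.ofFinite _
  let π : {P : Submodule F V × Submodule F V // IsCompl P.1 P.2 ∧ finrank F P.1 = m} →
      {U : Submodule F V // finrank F U = m} := fun P => ⟨P.1.1, P.2.2⟩
  rw [Nat.card_congr (Equiv.sigmaFiberEquiv π).symm, Nat.card_sigma]
  have : ∀ U : {U : Submodule F V // finrank F U = m},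
      Nat.card {P : {P : Submodule F V × Submodule F V //
        IsCompl P.1 P.2 ∧ finrank F P.1 = m} // π P = U} =
      Fintype.card F ^ (n * m - m * m) := by
    intro U
    rw [← card_compl U.1 n m hn U.2]
    apply Nat.card_congr
    exact
      { toFun := fun P => ⟨P.1.1.2, by
          have h1 : P.1.1.1 = U.1 := congrArg Subtype.val P.2
          rw [← h1]; exact P.1.2.1⟩
        invFun := fun W => ⟨⟨(U.1, W.1), W.2, U.2⟩, rfl⟩
        left_inv := fun P => by
          have h1 : P.1.1.1 = U.1 := congrArg Subtype.val P.2
          apply Subtype.ext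
          apply Subtype.ext
          apply Prod.ext
          · exact h1.symm
          · rfl
        right_inv := fun W => rfl }
  simp only [this]
  rw [Finset.sum_const, Finset.card_univ, smul_eq_mul, Nat.card_eq_fintype_card]

/-- primes other than the characteristic dividing the number of decompositions. -/
theorem exists_dvd_of_dvd_card_decomp (p : ℕ) [Fact p.Prime] [CharP F p] (r : ℕ) (hr : r.Prime)
    (hrp : r ≠ p) (n m : ℕ) (hn : finrank F V = n) (hm : m ≤ n)
    (h : r ∣ Nat.card {P : Submodule F V × Submodule F V //
      IsCompl P.1 P.2 ∧ finrank F P.1 = m}) :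
    ∃ j, j < m ∧ r ∣ Fintype.card F ^ (n - j) - 1 := by
  rw [card_decomp n m hn] at h
  rcases (Nat.Prime.dvd_mul hr).mp h with h1 | h1
  · exact exists_dvd_of_dvd_card_subspaces r hr n m hn hm h1
  · exfalso
    have h2 := hr.dvd_of_dvd_pow h1
    obtain ⟨k, -, hk⟩ := FiniteField.card F p
    rw [hk] at h2
    have h3 := hr.dvd_of_dvd_pow h2
    exact hrp ((Nat.prime_dvd_prime_iff_eq hr (Fact.out : p.Prime)).mp h3)

end Cfsg.Agent.Helper13.SubCnt
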