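import Mathlib

set_option autoImplicit false

namespace Cfsg.Agent.Helper13

open Module LinearMap

section
variable {K V : Type*} [Field K] [AddCommGroup V] [Module K V] [FiniteDimensional K V]

theorem finrank_ker_pow_succ_le (f : Module.End K V) (k : ℕ) :
    finrank K (ker (f ^ (k + 1))) ≤ finrank K (ker (f ^ k)) + finrank K (ker f) := by
  have hmem : ∀ x : ker (f ^ (k + 1)), (f.domRestrict (ker (f ^ (k + 1)))) x ∈ ker (f ^ k) := by
    intro x
    rw [LinearMap.mem_ker, LinearMap.domRestrict_apply, ← Module.End.mul_apply, ← pow_succ]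
    exact x.2
  let g : ker (f ^ (k + 1)) →ₗ[K] ker (f ^ k) :=
    (f.domRestrict (ker (f ^ (k + 1)))).codRestrict (ker (f ^ k)) hmem
  have h1 := LinearMap.finrank_range_add_finrank_ker g
  have h2 : finrank K (range g) ≤ finrank K (ker (f ^ k)) := Submodule.finrank_le _
  have h3 : finrank K (ker g) ≤ finrank K (ker f) := by
    rw [← Submodule.finrank_map_subtype_eq (ker (f ^ (k + 1))) (ker g)]
    apply Submodule.finrank_mono
    rintro x ⟨y, hy, rfl⟩
    rw [SetLike.mem_coe, LinearMap.mem_ker] at hy
    have : (g y : V) = 0 := by rw [hy]; rfl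
    rw [LinearMap.mem_ker]
    exact this
  omega

theorem finrank_ker_pow_le (f : Module.End K V) (h1 : finrank K (ker f) ≤ 1) (k : ℕ) :
    finrank K (ker (f ^ k)) ≤ k := by
  induction k with
  | zero =>
    have : ker (f ^ 0) = ⊥ := by
      rw [pow_zero]; exact LinearMap.ker_id
    rw [this, finrank_bot]
  | succ k ih =>
    have := finrank_ker_pow_succ_le f k
    omega

theorem finrank_ker_pow_add_le (f : Module.End K V) (h1 : finrank K (ker f) ≤ 1) (k j : ℕ) :
    finrank K (ker (f ^ (k + j))) ≤ finrank K (ker (f ^ k)) + j := by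
  induction j with
  | zero => simp
  | succ j ih =>
    have := finrank_ker_pow_succ_le f (k + j)
    rw [← add_assoc]
    omega

theorem finrank_ker_pow_eq (f : Module.End K V) (h1 : finrank K (ker f) ≤ 1)
    (hn : f ^ (finrank K V) = 0) (k : ℕ) (hk : k ≤ finrank K V) :
    finrank K (ker (f ^ k)) = k := by
  apply le_antisymm (finrank_ker_pow_le f h1 k)
  have h2 := finrank_ker_pow_add_le f h1 k (finrank K V - k)
  rw [Nat.add_sub_cancel' hk, hn] at h2
  have h3 : finrank K (ker (0 : Module.End K V)) = finrank K V := by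
    rw [LinearMap.ker_zero, finrank_top]
  omega

/-- An invariant subspace of a nilpotent endomorphism with one-dimensional kernel is the kernel of a power. -/
theorem invariant_eq_ker_pow (f : Module.End K V) (h1 : finrank K (ker f) ≤ 1)
    (hn : f ^ (finrank K V) = 0) (W : Submodule K V) (hW : ∀ x ∈ W, f x ∈ W) :
    W = ker (f ^ (finrank K W)) := by
  have hle : W ≤ ker (f ^ (finrank K W)) := by
    have h2 : (f.restrict hW) ^ (finrank K V) = 0 := by
      rw [Module.End.pow_restrict]
      ext x
      simp [hn]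
    have h3 : ker ((f.restrict hW) ^ (finrank K V)) ≤ ker ((f.restrict hW) ^ (finrank K W)) :=
      Module.End.ker_pow_le_ker_pow_finrank _ _
    rw [h2, LinearMap.ker_zero] at h3
    intro x hx
    have h4 : (⟨x, hx⟩ : W) ∈ ker ((f.restrict hW) ^ (finrank K W)) := h3 Submodule.mem_top
    rw [LinearMap.mem_ker, Module.End.pow_restrict] at h4
    rw [LinearMap.mem_ker]
    have := congrArg Subtype.val h4
    simpa using this
  apply Submodule.eq_of_le_of_finrank_eq hle
  rw [finrank_ker_pow_eq f h1 hn _ (Submodule.finrank_le W)]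

theorem range_pow_eq_ker_pow (f : Module.End K V) (h1 : finrank K (ker f) ≤ 1)
    (hn : f ^ (finrank K V) = 0) (a d : ℕ) (had : a + d = finrank K V) :
    range (f ^ a) = ker (f ^ d) := by
  have hle : range (f ^ a) ≤ ker (f ^ d) := by
    rintro x ⟨y, rfl⟩
    rw [LinearMap.mem_ker, ← Module.End.mul_apply, ← pow_add, add_comm, had, hn]
    rfl
  apply Submodule.eq_of_le_of_finrank_eq hle
  have h2 := LinearMap.finrank_range_add_finrank_ker (f ^ a)
  rw [finrank_ker_pow_eq f h1 hn a (by omega)] at h2
  rw [finrank_ker_pow_eq f h1 hn d (by omega)]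
  omega

end

end Cfsg.Agent.Helper13
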