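import Mathlib
import Cfsg.Agent.Lib.Helper13.RegUnip

set_option autoImplicit false

namespace Cfsg.Agent.Helper13

open Module LinearMap Polynomial

section
variable {K V : Type*} [Field K] [AddCommGroup V] [Module K V]

/-- the cyclic subspace generated by `v` under `f` -/
def cyclicSpan (f : Module.End K V) (v : V) : Submodule K V :=
  Submodule.span K (Set.range fun i : ℕ => (f ^ i) v)

theorem cyclicSpan_invariant (f : Module.End K V) (v : V) :
    ∀ x ∈ cyclicSpan f v, f x ∈ cyclicSpan f v := by
  intro x hx
  unfold cyclicSpan at hx ⊢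
  induction hx using Submodule.span_induction with
  | mem y hy =>
    obtain ⟨i, rfl⟩ := hy
    apply Submodule.subset_span
    exact ⟨i + 1, by simp [pow_succ']⟩
  | zero => simp
  | add y z _ _ hy hz => rw [map_add]; exact Submodule.add_mem _ hy hz
  | smul c y _ hy => rw [map_smul]; exact Submodule.smul_mem _ _ hy

theorem self_mem_cyclicSpan (f : Module.End K V) (v : V) : v ∈ cyclicSpan f v :=
  Submodule.subset_span ⟨0, by simp⟩

/-- every element of the cyclic span is `p(f) v` for a polynomial `p` -/
theorem exists_aeval_of_mem_cyclicSpan (f : Module.End K V) (v w : V) (hw : w ∈ cyclicSpan f v) :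
    ∃ p : K[X], (aeval f p) v = w := by
  unfold cyclicSpan at hw
  induction hw using Submodule.span_induction with
  | mem y hy =>
    obtain ⟨i, rfl⟩ := hy
    exact ⟨X ^ i, by simp⟩
  | zero => exact ⟨0, by simp⟩
  | add y z _ _ hy hz =>
    obtain ⟨p, rfl⟩ := hy
    obtain ⟨q, rfl⟩ := hz
    exact ⟨p + q, by simp⟩
  | smul c y _ hy =>
    obtain ⟨p, rfl⟩ := hy
    exact ⟨C c * p, by simp [Module.End.mul_apply]⟩

/-- endomorphisms commuting with `f` that agree on a cyclic vector are equal -/
theorem comm_ext_of_cyclic (f : Module.End K V) (v : V) (hv : cyclicSpan f v = ⊤)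
    (g h : Module.End K V) (hg : Commute g f) (hh : Commute h f) (hgh : g v = h v) : g = h := by
  have hd : Commute (g - h) f := hg.sub_left hh
  have hker : cyclicSpan f v ≤ LinearMap.ker (g - h) := by
    unfold cyclicSpan
    rw [Submodule.span_le]
    rintro _ ⟨i, rfl⟩
    have hc : Commute (g - h) (f ^ i) := hd.pow_right i
    have : (g - h) ((f ^ i) v) = (f ^ i) ((g - h) v) := by
      rw [← Module.End.mul_apply, hc.eq, Module.End.mul_apply]
    rw [SetLike.mem_coe, LinearMap.mem_ker, this, LinearMap.sub_apply, hgh, sub_self, map_zero]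
  rw [hv, top_le_iff, LinearMap.ker_eq_top] at hker
  exact sub_eq_zero.mp hker

/-- with a cyclic vector, everything commuting with `f` is a polynomial in `f` -/
theorem exists_aeval_of_commute (f : Module.End K V) (v : V) (hv : cyclicSpan f v = ⊤)
    (g : Module.End K V) (hg : Commute g f) : ∃ p : K[X], g = aeval f p := by
  obtain ⟨p, hp⟩ := exists_aeval_of_mem_cyclicSpan f v (g v) (hv ▸ Submodule.mem_top)
  refine ⟨p, comm_ext_of_cyclic f v hv g (aeval f p) hg ?_ hp.symm⟩
  exact (Algebra.commute_of_mem_adjoin_self (aeval_mem_adjoin_singleton K f)).symm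

end

section regular
variable {K V : Type*} [Field K] [AddCommGroup V] [Module K V] [FiniteDimensional K V]

theorem exists_top_vector (f : Module.End K V) (h1 : finrank K (ker f) ≤ 1)
    (hn : f ^ (finrank K V) = 0) (hpos : 0 < finrank K V) :
    ∃ v, (f ^ (finrank K V - 1)) v ≠ 0 := by
  by_contra hcon
  push Not at hcon
  have hk : ker (f ^ (finrank K V - 1)) = ⊤ := by
    rw [LinearMap.ker_eq_top]; ext x; simpa using hcon x
  have h2 := finrank_ker_pow_eq f h1 hn (finrank K V - 1) (by omega)
  rw [hk, finrank_top] at h2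
  omega

theorem ker_pow_mono (f : Module.End K V) {a b : ℕ} (hab : a ≤ b) : ker (f ^ a) ≤ ker (f ^ b) := by
  intro x hx
  rw [LinearMap.mem_ker] at hx ⊢
  obtain ⟨c, rfl⟩ := Nat.exists_eq_add_of_le hab
  rw [add_comm, pow_add, Module.End.mul_apply, hx, map_zero]

theorem cyclicSpan_eq_top_of_top_vector (f : Module.End K V) (h1 : finrank K (ker f) ≤ 1)
    (hn : f ^ (finrank K V) = 0) (v : V) (hv : (f ^ (finrank K V - 1)) v ≠ 0) :
    cyclicSpan f v = ⊤ := by
  have hW := invariant_eq_ker_pow f h1 hn (cyclicSpan f v) (cyclicSpan_invariant f v)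
  apply Submodule.eq_top_of_finrank_eq
  by_contra hne
  have hle := Submodule.finrank_le (cyclicSpan f v)
  have hlt : finrank K (cyclicSpan f v) ≤ finrank K V - 1 := by omega
  have hmem : v ∈ ker (f ^ (finrank K (cyclicSpan f v))) := by
    rw [← hW]; exact self_mem_cyclicSpan f v
  exact hv (ker_pow_mono f hlt hmem)

theorem injective_iff_not_mem_range (f : Module.End K V) (h1 : finrank K (ker f) ≤ 1)
    (hn : f ^ (finrank K V) = 0) (hpos : 0 < finrank K V) (v : V)
    (hv : (f ^ (finrank K V - 1)) v ≠ 0)
    (g : Module.End K V) (hg : Commute g f) : Function.Injective g ↔ g v ∉ range f := by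
  have hrange : range f = ker (f ^ (finrank K V - 1)) := by
    have := range_pow_eq_ker_pow f h1 hn 1 (finrank K V - 1) (by omega)
    rwa [pow_one] at this
  have hc : ∀ x, g ((f ^ (finrank K V - 1)) x) = (f ^ (finrank K V - 1)) (g x) := by
    intro x
    have hc := hg.pow_right (finrank K V - 1)
    rw [← Module.End.mul_apply, hc.eq, Module.End.mul_apply]
  constructor
  · intro hinj hmem
    rw [hrange, LinearMap.mem_ker, ← hc] at hmem
    exact hv (hinj (by rw [hmem, map_zero]))
  · intro hnot
    rw [← LinearMap.ker_eq_bot]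
    by_contra hne
    have hinv : ∀ x ∈ ker g, f x ∈ ker g := by
      intro x hx
      rw [LinearMap.mem_ker] at hx ⊢
      have : g (f x) = f (g x) := by
        rw [← Module.End.mul_apply, hg.eq, Module.End.mul_apply]
      rw [this, hx, map_zero]
    have hW := invariant_eq_ker_pow f h1 hn (ker g) hinv
    have hd : 1 ≤ finrank K (ker g) := by
      by_contra h0
      have : finrank K (ker g) = 0 := by omega
      exact hne (Submodule.finrank_eq_zero.mp this)
    have htop : (f ^ (finrank K V - 1)) v ∈ ker g := by
      rw [hW]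
      apply ker_pow_mono f hd
      rw [pow_one, LinearMap.mem_ker, ← Module.End.mul_apply, ← pow_succ']
      have : finrank K V - 1 + 1 = finrank K V := by omega
      rw [this, hn]; rfl
    rw [LinearMap.mem_ker, hc] at htop
    apply hnot
    rw [hrange, LinearMap.mem_ker]
    exact htop

end regular

end Cfsg.Agent.Helper13
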