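import Mathlib

/-!
# S2205, piece FOUR: the cyclotomic lemma (helper13)
-/

set_option autoImplicit false

namespace Cfsg.Agent.Helper3.DP

open Polynomial

/-- sums over `ZMod q` as sums over `range q` -/
theorem four_sum_range {M : Type*} [AddCommMonoid M] (q : ℕ) [NeZero q] (f : ZMod q → M) :
    ∑ k : ZMod q, f k = ∑ i ∈ Finset.range q, f (i : ZMod q) := by
  symm
  refine Finset.sum_bij (fun (i : ℕ) _ => (i : ZMod q)) ?_ ?_ ?_ ?_
  · intro i _; exact Finset.mem_univ _
  · intro i hi j hj e
    rw [Finset.mem_range] at hi hj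
    have := congrArg ZMod.val e
    rwa [ZMod.val_natCast_of_lt hi, ZMod.val_natCast_of_lt hj] at this
  · intro k _
    exact ⟨k.val, Finset.mem_range.2 (ZMod.val_lt k), ZMod.natCast_zmod_val k⟩
  · intro i _; rfl

/-- a rational linear relation between the powers of a primitive `q`-th root of unity has constant
coefficients -/
theorem four_const (q : ℕ) [Fact q.Prime] {ζ : ℂ} (hζ : IsPrimitiveRoot ζ q) (c : ℕ → ℚ)
    (h : ∑ i ∈ Finset.range q, (c i : ℂ) * ζ ^ i = 0) : ∀ i < q, c i = c 0 := by
  have hq : q.Prime := Fact.out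
  set P : ℚ[X] := ∑ i ∈ Finset.range q, C (c i) * X ^ i with hP
  have hev : aeval ζ P = 0 := by
    rw [hP, map_sum, ← h]
    apply Finset.sum_congr rfl
    intro i _
    rw [map_mul, aeval_C, map_pow, aeval_X]
    rfl
  have hdvd : minpoly ℚ ζ ∣ P := minpoly.dvd ℚ ζ hev
  rw [← cyclotomic_eq_minpoly_rat hζ hq.pos] at hdvd
  obtain ⟨R, hR⟩ := hdvd
  have hcoeffP : ∀ i < q, P.coeff i = c i := by
    intro i hi
    rw [hP, finsetSum_coeff, Finset.sum_eq_single i]
    · rw [coeff_C_mul, coeff_X_pow, if_pos rfl, mul_one]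
    · intro j _ hji
      rw [coeff_C_mul, coeff_X_pow, if_neg (fun e => hji e.symm), mul_zero]
    · intro hi'
      exact absurd (Finset.mem_range.2 hi) hi'
  have hdegP : P.natDegree < q := by
    have : P.degree < q := by
      rw [hP]
      apply lt_of_le_of_lt (degree_sum_le _ _)
      rw [Finset.sup_lt_iff (WithBot.bot_lt_coe _)]
      intro i hi
      apply lt_of_le_of_lt (degree_C_mul_X_pow_le _ _)
      exact_mod_cast Finset.mem_range.1 hi
    by_cases hP0 : P = 0
    · rw [hP0, natDegree_zero]; exact hq.pos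
    · exact (natDegree_lt_iff_degree_lt hP0).2 this
  have hdegC : (cyclotomic q ℚ).natDegree = q - 1 := by
    rw [natDegree_cyclotomic, Nat.totient_prime hq]
  -- `R` is a constant
  have hRdeg : R.natDegree = 0 := by
    by_cases hR0 : R = 0
    · rw [hR0, natDegree_zero]
    · have h1 := natDegree_mul (cyclotomic_ne_zero q ℚ) hR0
      rw [← hR, hdegC] at h1
      have := hq.two_le
      omega
  obtain ⟨r, hr⟩ : ∃ r : ℚ, R = C r := ⟨R.coeff 0, eq_C_of_natDegree_eq_zero hRdeg⟩
  have hcoeff : ∀ i < q, P.coeff i = r := by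
    intro i hi
    rw [hR, hr, mul_comm, coeff_C_mul, cyclotomic_prime, finsetSum_coeff, Finset.sum_eq_single i]
    · rw [coeff_X_pow, if_pos rfl, mul_one]
    · intro j _ hji
      rw [coeff_X_pow, if_neg (fun e => hji e.symm)]
    · intro hi'
      exact absurd (Finset.mem_range.2 hi) hi'
  intro i hi
  rw [← hcoeffP i hi, hcoeff i hi, ← hcoeffP 0 hq.pos, hcoeff 0 hq.pos]

theorem four_map_sum {A M ι : Type*} [AddCommMonoid A] [CommMonoid M] (ψ : AddChar A M)
    (s : Finset ι) (f : ι → A) : ψ (∑ i ∈ s, f i) = ∏ i ∈ s, ψ (f i) := by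
  classical
  induction s using Finset.induction_on with
  | empty => simp
  | insert a s ha ih =>
    rw [Finset.sum_insert ha, Finset.prod_insert ha, AddChar.map_add_eq_mul, ih]

theorem four_tau_pow (q : ℕ) [NeZero q] (T : Finset (ZMod q)) (ψ : AddChar (ZMod q) ℂ) (a : ZMod q) :
    (∑ t ∈ T, ψ (a * t)) ^ q = ∑ w : ZMod q, ((Finset.univ.filter (fun s : Fin q → ZMod q =>
      (∀ i, s i ∈ T) ∧ ∑ i, s i = w)).card : ℂ) * ψ (a * w) := by
  classical
  have h1 : (∑ t ∈ T, ψ (a * t)) ^ q = ∏ _i : Fin q, ∑ t ∈ T, ψ (a * t) := by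
    rw [Finset.prod_const, Finset.card_univ, Fintype.card_fin]
  rw [h1, Finset.prod_univ_sum]
  have h2 : ∀ s : Fin q → ZMod q, ∏ i, ψ (a * s i) = ψ (a * ∑ i, s i) := by
    intro s
    rw [Finset.mul_sum, four_map_sum]
  simp_rw [h2]
  rw [← Finset.sum_fiberwise (Fintype.piFinset fun _ => T) (fun s => ∑ i, s i)]
  apply Finset.sum_congr rfl
  intro w _
  rw [Finset.sum_congr rfl (g := fun _ => ψ (a * w))]
  · rw [Finset.sum_const, nsmul_eq_mul]
    have : (Finset.filter (fun s : Fin q → ZMod q => ∑ i, s i = w) (Fintype.piFinset fun _ => T)) =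
        Finset.univ.filter (fun s : Fin q → ZMod q => (∀ i, s i ∈ T) ∧ ∑ i, s i = w) := by
      ext s
      simp [Fintype.mem_piFinset]
    rw [this]
  · intro s hs
    rw [(Finset.mem_filter.1 hs).2]

theorem four_prim (q : ℕ) [Fact q.Prime] :
    IsPrimitiveRoot (ZMod.stdAddChar (1 : ZMod q) : ℂ) q := by
  have hq : q.Prime := Fact.out
  have : NeZero q := ⟨hq.ne_zero⟩
  have := ZMod.stdAddChar_coe (N := q) 1
  rw [Int.cast_one] at this
  rw [this]
  have h2 := Complex.isPrimitiveRoot_exp q hq.ne_zero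
  convert h2 using 2
  push_cast; ring

theorem four_pow (q : ℕ) [NeZero q] (i : ℕ) :
    (ZMod.stdAddChar ((i : ZMod q)) : ℂ) = (ZMod.stdAddChar (1 : ZMod q) : ℂ) ^ i := by
  rw [← AddChar.map_nsmul_eq_pow, nsmul_one]

theorem four_const' (q : ℕ) [Fact q.Prime] (c : ZMod q → ℚ)
    (h : ∑ x : ZMod q, (c x : ℂ) * ZMod.stdAddChar x = 0) : ∀ x, c x = c 0 := by
  have hq : q.Prime := Fact.out
  have : NeZero q := ⟨hq.ne_zero⟩
  rw [four_sum_range] at h
  have h' : ∑ i ∈ Finset.range q, ((fun i : ℕ => c (i : ZMod q)) i : ℂ) *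
      (ZMod.stdAddChar (1 : ZMod q) : ℂ) ^ i = 0 := by
    rw [← h]; apply Finset.sum_congr rfl; intro i _; rw [four_pow]
  have := four_const q (four_prim q) (fun i : ℕ => c (i : ZMod q)) h'
  intro x
  have h3 := this x.val (ZMod.val_lt x)
  simpa using h3

theorem four_tau_const (q : ℕ) [Fact q.Prime] (T : Finset (ZMod q)) (N₁ : ℕ)
    (h : ∀ w : ZMod q, w ≠ 0 → (Finset.univ.filter (fun s : Fin q → ZMod q =>
      (∀ i, s i ∈ T) ∧ ∑ i, s i = w)).card = N₁)
    (a : ZMod q) (ha : a ≠ 0) :
    (∑ t ∈ T, (ZMod.stdAddChar (a * t) : ℂ)) ^ q =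
      ((Finset.univ.filter (fun s : Fin q → ZMod q =>
        (∀ i, s i ∈ T) ∧ ∑ i, s i = 0)).card : ℂ) - N₁ := by
  classical
  have hq : q.Prime := Fact.out
  have : NeZero q := ⟨hq.ne_zero⟩
  rw [four_tau_pow]
  have hs := AddChar.sum_mulShift a (ZMod.isPrimitive_stdAddChar q)
  rw [if_neg ha] at hs
  rw [← Finset.add_sum_erase Finset.univ _ (Finset.mem_univ (0 : ZMod q))]
  rw [mul_zero, AddChar.map_zero_eq_one, mul_one]
  have h3 : ∑ x ∈ Finset.univ.erase (0 : ZMod q), ((Finset.univ.filter (fun s : Fin q → ZMod q =>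
      (∀ i, s i ∈ T) ∧ ∑ i, s i = x)).card : ℂ) * ZMod.stdAddChar (a * x) =
      ∑ x ∈ Finset.univ.erase (0 : ZMod q), (N₁ : ℂ) * ZMod.stdAddChar (a * x) := by
    apply Finset.sum_congr rfl
    intro x hx
    rw [h x (Finset.ne_of_mem_erase hx)]
  rw [h3, ← Finset.mul_sum]
  have h4 : ∑ x ∈ Finset.univ.erase (0 : ZMod q), (ZMod.stdAddChar (a * x) : ℂ) = (-1 : ℂ) := by
    have := Finset.add_sum_erase Finset.univ (fun x : ZMod q => (ZMod.stdAddChar (a * x) : ℂ))
      (Finset.mem_univ (0 : ZMod q))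
    simp only [mul_zero, AddChar.map_zero_eq_one] at this
    have hs' : ∑ x : ZMod q, (ZMod.stdAddChar (a * x) : ℂ) = 0 := by
      rw [Nat.cast_zero] at hs
      rw [← hs]; apply Finset.sum_congr rfl; intro x _; rw [mul_comm]
    rw [hs'] at this
    linear_combination this
  rw [h4]; ring

theorem cyc_fourier (q : ℕ) [Fact q.Prime] (T : Finset (ZMod q)) (N₁ : ℕ)
    (h : ∀ w : ZMod q, w ≠ 0 → (Finset.univ.filter (fun s : Fin q → ZMod q =>
      (∀ i, s i ∈ T) ∧ ∑ i, s i = w)).card = N₁) :
    T.card = 0 ∨ T.card = 1 ∨ T.card + 1 = q ∨ T.card = q := by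
  classical
  have hq : q.Prime := Fact.out
  have : NeZero q := ⟨hq.ne_zero⟩
  have hcardle : T.card ≤ q := by
    have := Finset.card_le_univ T
    rwa [ZMod.card] at this
  by_cases hq2 : q = 2
  · omega
  have hq3 : 3 ≤ q := by have := hq.two_le; omega
  have htau := four_tau_const q T N₁ h
  set c : ℂ := ((Finset.univ.filter (fun s : Fin q → ZMod q =>
        (∀ i, s i ∈ T) ∧ ∑ i, s i = 0)).card : ℂ) - N₁ with hc
  set ind : ZMod q → ℚ := fun x => if x ∈ T then 1 else 0 with hind
  have hsumT : ∀ f : ZMod q → ℂ, ∑ t ∈ T, f t = ∑ x : ZMod q, (ind x : ℂ) * f x := by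
    intro f
    have h1 := Finset.sum_ite_mem Finset.univ T f
    rw [Finset.univ_inter] at h1
    rw [← h1]
    apply Finset.sum_congr rfl
    intro x _
    simp only [hind]
    split_ifs <;> simp
  by_cases hc0 : c = 0
  · have h1 := htau 1 one_ne_zero
    rw [hc0] at h1
    have h2 : ∑ t ∈ T, (ZMod.stdAddChar (1 * t) : ℂ) = 0 := (pow_eq_zero_iff hq.ne_zero).1 h1
    simp only [one_mul] at h2
    rw [hsumT] at h2
    have h3 := four_const' q ind h2
    by_cases h0 : (0 : ZMod q) ∈ T
    · right; right; right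
      have hT : T = Finset.univ := by
        ext x
        simp only [Finset.mem_univ, iff_true]
        have h4 := h3 x
        simp only [hind, if_pos h0] at h4
        by_contra hx
        rw [if_neg hx] at h4
        norm_num at h4
      rw [hT, Finset.card_univ, ZMod.card]
    · left
      have hT : T = ∅ := by
        ext x
        simp only [Finset.notMem_empty, iff_false]
        have h4 := h3 x
        simp only [hind, if_neg h0] at h4
        intro hx
        rw [if_pos hx] at h4
        norm_num at h4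
      rw [hT, Finset.card_empty]
  · have h1 := htau 1 one_ne_zero
    have hτ1 : ∑ t ∈ T, (ZMod.stdAddChar (1 * t) : ℂ) ≠ 0 := by
      intro h0
      rw [h0, zero_pow hq.ne_zero] at h1
      exact hc0 h1.symm
    simp only [one_mul] at h1 hτ1
    have key : ∀ a : ZMod q, a ≠ 0 → ∃ j : ZMod q, ∀ t, t ∈ T ↔ a * t - j ∈ T := by
      intro a ha
      have h2 := htau a ha
      have h3 : ((∑ t ∈ T, (ZMod.stdAddChar (a * t) : ℂ)) /
          (∑ t ∈ T, (ZMod.stdAddChar t : ℂ))) ^ q = 1 := by
        rw [div_pow, h1, h2]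
        exact div_self hc0
      obtain ⟨i, hi, hi'⟩ := (four_prim q).eq_pow_of_pow_eq_one h3
      rw [← four_pow] at hi'
      set j : ZMod q := (i : ZMod q) with hj
      have e3 : ∑ t ∈ T, (ZMod.stdAddChar (a * t) : ℂ) =
          ZMod.stdAddChar j * ∑ t ∈ T, (ZMod.stdAddChar t : ℂ) := by
        rw [hi']; field_simp
      have e1 : ∑ t ∈ T, (ZMod.stdAddChar (a * t) : ℂ) =
          ∑ x : ZMod q, (ind (a⁻¹ * x) : ℂ) * ZMod.stdAddChar x := by
        rw [hsumT]
        rw [← Equiv.sum_comp (Equiv.mulLeft₀ a ha)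
          (fun x : ZMod q => (ind (a⁻¹ * x) : ℂ) * ZMod.stdAddChar x)]
        apply Finset.sum_congr rfl
        intro x _
        show _ = (ind (a⁻¹ * (a * x)) : ℂ) * ZMod.stdAddChar (a * x)
        rw [inv_mul_cancel_left₀ ha]
      have e2 : ZMod.stdAddChar j * ∑ t ∈ T, (ZMod.stdAddChar t : ℂ) =
          ∑ x : ZMod q, (ind (x - j) : ℂ) * ZMod.stdAddChar x := by
        rw [hsumT, Finset.mul_sum]
        rw [← Equiv.sum_comp (Equiv.addLeft j)
          (fun x : ZMod q => (ind (x - j) : ℂ) * ZMod.stdAddChar x)]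
        apply Finset.sum_congr rfl
        intro x _
        simp only [Equiv.coe_addLeft]
        rw [add_sub_cancel_left, AddChar.map_add_eq_mul]
        ring
      set d : ZMod q → ℚ := fun x => ind (a⁻¹ * x) - ind (x - j) with hd
      have e4 : ∑ x : ZMod q, (d x : ℂ) * ZMod.stdAddChar x = 0 := by
        simp only [hd]
        push_cast
        simp only [sub_mul]
        rw [Finset.sum_sub_distrib, ← e1, ← e2, e3, sub_self]
      have h5 := four_const' q d e4
      have h6 : ∑ x : ZMod q, d x = 0 := by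
        simp only [hd]
        rw [Finset.sum_sub_distrib]
        have s1 : ∑ x : ZMod q, ind (a⁻¹ * x) = ∑ x : ZMod q, ind x := by
          rw [← Equiv.sum_comp (Equiv.mulLeft₀ a ha) (fun x : ZMod q => ind (a⁻¹ * x))]
          apply Finset.sum_congr rfl
          intro x _
          show ind (a⁻¹ * (a * x)) = _
          rw [inv_mul_cancel_left₀ ha]
        have s2 : ∑ x : ZMod q, ind (x - j) = ∑ x : ZMod q, ind x := by
          rw [← Equiv.sum_comp (Equiv.addLeft j) (fun x : ZMod q => ind (x - j))]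
          apply Finset.sum_congr rfl
          intro x _
          simp only [Equiv.coe_addLeft]
          rw [add_sub_cancel_left]
        rw [s1, s2, sub_self]
      have h7 : d 0 = 0 := by
        have : ∑ x : ZMod q, d x = ∑ _x : ZMod q, d 0 := Finset.sum_congr rfl (fun x _ => h5 x)
        rw [h6, Finset.sum_const, Finset.card_univ, ZMod.card, nsmul_eq_mul] at this
        have hq0 : (q : ℚ) ≠ 0 := by exact_mod_cast hq.ne_zero
        rcases mul_eq_zero.1 this.symm with h8 | h8
        · exact absurd h8 hq0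
        · exact h8
      refine ⟨j, fun t => ?_⟩
      have h8 := h5 (a * t)
      rw [h7] at h8
      simp only [hd] at h8
      rw [inv_mul_cancel_left₀ ha] at h8
      simp only [hind] at h8
      constructor
      · intro ht
        rw [if_pos ht] at h8
        by_contra hn
        rw [if_neg hn] at h8
        norm_num at h8
      · intro ht
        rw [if_pos ht] at h8
        by_contra hn
        rw [if_neg hn] at h8
        norm_num at h8
    obtain ⟨g, hg⟩ := IsCyclic.exists_monoid_generator (α := (ZMod q)ˣ)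
    obtain ⟨j, hj⟩ := key (g : ZMod q) g.ne_zero
    have hg1 : (g : ZMod q) - 1 ≠ 0 := by
      intro h0
      have hg1 : g = 1 := Units.ext (by rw [Units.val_one]; exact sub_eq_zero.1 h0)
      have h2 : (2 : ZMod q) ≠ 0 := by
        intro h2
        have h3 : (q : ℕ) ∣ 2 := (ZMod.natCast_eq_zero_iff 2 q).1 (by exact_mod_cast h2)
        have := Nat.le_of_dvd (by norm_num) h3
        omega
      obtain ⟨k, hk⟩ := (Submonoid.mem_powers_iff _ _).1 (hg (Units.mk0 2 h2))
      rw [hg1, one_pow] at hk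
      have h4 := congrArg Units.val hk
      rw [Units.val_one, Units.val_mk0] at h4
      have : (1 : ZMod q) = 0 := by linear_combination (-1 : ZMod q) * h4
      exact one_ne_zero this
    set w0 : ZMod q := j / ((g : ZMod q) - 1) with hw0def
    have hw0 : (g : ZMod q) * w0 - j = w0 := by
      rw [hw0def]; field_simp; ring
    have hS : ∀ x, x + w0 ∈ T ↔ (g : ZMod q) * x + w0 ∈ T := by
      intro x
      rw [hj (x + w0)]
      have : (g : ZMod q) * (x + w0) - j = g * x + w0 := by
        rw [mul_add, add_sub_assoc, hw0]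
      rw [this]
    have hS' : ∀ (k : ℕ) x, x + w0 ∈ T ↔ (g : ZMod q) ^ k * x + w0 ∈ T := by
      intro k
      induction k with
      | zero => intro x; simp
      | succ k ih =>
        intro x
        rw [ih x, hS ((g : ZMod q) ^ k * x), pow_succ', mul_assoc]
    have hS'' : ∀ x y : ZMod q, x ≠ 0 → y ≠ 0 → (x + w0 ∈ T → y + w0 ∈ T) := by
      intro x y hx hy hxT
      obtain ⟨k, hk⟩ := (Submonoid.mem_powers_iff _ _).1 (hg (Units.mk0 (y / x) (div_ne_zero hy hx)))
      have h9 : (g : ZMod q) ^ k * x = y := by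
        have h10 := congrArg Units.val hk
        rw [Units.val_pow_eq_pow_val, Units.val_mk0] at h10
        rw [h10]; field_simp
      rw [← h9]
      exact (hS' k x).1 hxT
    by_cases hex : ∃ x, x ≠ 0 ∧ x + w0 ∈ T
    · obtain ⟨x, hx, hxT⟩ := hex
      have hsub : Finset.univ.erase w0 ⊆ T := by
        intro y hy
        have hy' : y - w0 ≠ 0 := sub_ne_zero.2 (Finset.ne_of_mem_erase hy)
        have := hS'' x (y - w0) hx hy' hxT
        rwa [sub_add_cancel] at this
      have := Finset.card_le_card hsub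
      rw [Finset.card_erase_of_mem (Finset.mem_univ _), Finset.card_univ, ZMod.card] at this
      omega
    · push Not at hex
      have hsub : T ⊆ {w0} := by
        intro y hy
        rw [Finset.mem_singleton]
        by_contra hne
        exact hex (y - w0) (sub_ne_zero.2 hne) (by rwa [sub_add_cancel])
      have := Finset.card_le_card hsub
      rw [Finset.card_singleton] at this
      omega

end Cfsg.Agent.Helper3.DP
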