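import Mathlib
import Cfsg.Agent.Lib.Helper12.PSL2Max3

set_option autoImplicit false

namespace Cfsg.Agent.Helper13.DC

open Cfsg.Agent.Helper12.PSL2Max
open scoped commutatorElement

theorem comm_mem_commutator {G : Type*} [Group G] (a b : G) :
    ∃ x : commutator G, (x : G) = ⁅a, b⁆ := by
  refine ⟨⟨⁅a, b⁆, ?_⟩, rfl⟩
  rw [commutator_def]
  exact Subgroup.commutator_mem_commutator (Subgroup.mem_top a) (Subgroup.mem_top b)

/-- a cyclic group has at most one involution -/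
theorem invol_unique_of_isCyclic {G : Type*} [Group G] [Finite G] [IsCyclic G] {x y : G}
    (hx : x ≠ 1) (hx2 : x ^ 2 = 1) (hy : y ≠ 1) (hy2 : y ^ 2 = 1) : x = y := by
  classical
  by_contra hxy
  have := Fintype.ofFinite G
  have h := IsCyclic.card_pow_eq_one_le (α := G) (n := 2) (by norm_num)
  have hsub : ({1, x, y} : Finset G) ⊆ Finset.univ.filter (fun a : G => a ^ 2 = 1) := by
    intro z hz
    simp only [Finset.mem_insert, Finset.mem_singleton] at hz
    rw [Finset.mem_filter]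
    refine ⟨Finset.mem_univ _, ?_⟩
    rcases hz with rfl | rfl | rfl
    · exact one_pow _
    · exact hx2
    · exact hy2
  have hc : ({1, x, y} : Finset G).card = 3 := by
    rw [Finset.card_insert_of_notMem, Finset.card_insert_of_notMem, Finset.card_singleton]
    · simpa using hxy
    · simp only [Finset.mem_insert, Finset.mem_singleton, not_or]
      exact ⟨hx.symm, hy.symm⟩
  have := Finset.card_le_card hsub
  omega

theorem not_isPGroup_of_invol {G : Type*} [Group G] {p : ℕ} (hp : p.Prime) (hp2 : p ≠ 2)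
    {x : G} (hx : x ≠ 1) (hx2 : x ^ 2 = 1) : ¬ IsPGroup p G := by
  intro h
  obtain ⟨k, hk⟩ := h x
  have h2 : orderOf x = 2 := orderOf_eq_prime hx2 hx
  have h3 : 2 ∣ p ^ k := by rw [← h2]; exact orderOf_dvd_of_pow_eq_one hk
  have h4 : 2 ∣ p := Nat.Prime.dvd_of_dvd_pow Nat.prime_two h3
  exact hp2 ((Nat.prime_dvd_prime_iff_eq Nat.prime_two hp).1 h4).symm

theorem c012_mem : (c[0, 1, 2] : Equiv.Perm (Fin 4)) ∈ alternatingGroup (Fin 4) := by
  rw [Equiv.Perm.mem_alternatingGroup]; decide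

theorem c013_mem : (c[0, 1, 3] : Equiv.Perm (Fin 4)) ∈ alternatingGroup (Fin 4) := by
  rw [Equiv.Perm.mem_alternatingGroup]; decide

theorem c123_mem : (c[1, 2, 3] : Equiv.Perm (Fin 4)) ∈ alternatingGroup (Fin 4) := by
  rw [Equiv.Perm.mem_alternatingGroup]; decide

theorem exists_invols_A4 : ∃ x y : commutator (alternatingGroup (Fin 4)),
    x ≠ 1 ∧ x ^ 2 = 1 ∧ y ≠ 1 ∧ y ^ 2 = 1 ∧ x ≠ y := by
  obtain ⟨x, hx⟩ := comm_mem_commutator (G := alternatingGroup (Fin 4))
    ⟨c[0, 1, 2], c012_mem⟩ ⟨c[0, 1, 3], c013_mem⟩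
  obtain ⟨y, hy⟩ := comm_mem_commutator (G := alternatingGroup (Fin 4))
    ⟨c[0, 1, 2], c012_mem⟩ ⟨c[1, 2, 3], c123_mem⟩
  have hx' : ((x : alternatingGroup (Fin 4)) : Equiv.Perm (Fin 4)) = ⁅(c[0, 1, 2] : Equiv.Perm (Fin 4)), (c[0, 1, 3] : Equiv.Perm (Fin 4))⁆ := by
    rw [hx]; rfl
  have hy' : ((y : alternatingGroup (Fin 4)) : Equiv.Perm (Fin 4)) = ⁅(c[0, 1, 2] : Equiv.Perm (Fin 4)), (c[1, 2, 3] : Equiv.Perm (Fin 4))⁆ := by
    rw [hy]; rfl
  refine ⟨x, y, ?_, ?_, ?_, ?_, ?_⟩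
  · intro h; rw [h] at hx'; revert hx'; decide
  · apply Subtype.ext; apply Subtype.ext
    rw [Subgroup.coe_pow, Subgroup.coe_pow, hx']; decide
  · intro h; rw [h] at hy'; revert hy'; decide
  · apply Subtype.ext; apply Subtype.ext
    rw [Subgroup.coe_pow, Subgroup.coe_pow, hy']; decide
  · intro h; rw [h, hy'] at hx'; revert hx'; decide

theorem not_isCyclic_commutator_A4 : ¬ IsCyclic (commutator (alternatingGroup (Fin 4))) := by
  intro hc
  obtain ⟨x, y, hx1, hx2, hy1, hy2, hxy⟩ := exists_invols_A4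
  exact hxy (invol_unique_of_isCyclic hx1 hx2 hy1 hy2)

theorem not_isPGroup_commutator_A4 (p : ℕ) (hp : p.Prime) (hp2 : p ≠ 2) :
    ¬ IsPGroup p (commutator (alternatingGroup (Fin 4))) := by
  obtain ⟨x, y, hx1, hx2, hy1, hy2, hxy⟩ := exists_invols_A4
  exact not_isPGroup_of_invol hp hp2 hx1 hx2

theorem exists_invols_S4 : ∃ x y : commutator (Equiv.Perm (Fin 4)),
    x ≠ 1 ∧ x ^ 2 = 1 ∧ y ≠ 1 ∧ y ^ 2 = 1 ∧ x ≠ y := by
  obtain ⟨x, hx⟩ := comm_mem_commutator (G := Equiv.Perm (Fin 4)) c[0, 1, 2] c[0, 1, 3]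
  obtain ⟨y, hy⟩ := comm_mem_commutator (G := Equiv.Perm (Fin 4)) c[0, 1, 2] c[1, 2, 3]
  refine ⟨x, y, ?_, ?_, ?_, ?_, ?_⟩
  · intro h; rw [h] at hx; revert hx; decide
  · apply Subtype.ext
    rw [Subgroup.coe_pow, hx]; decide
  · intro h; rw [h] at hy; revert hy; decide
  · apply Subtype.ext
    rw [Subgroup.coe_pow, hy]; decide
  · intro h; rw [h, hy] at hx; revert hx; decide

theorem not_isCyclic_commutator_S4 : ¬ IsCyclic (commutator (Equiv.Perm (Fin 4))) := by
  intro hc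
  obtain ⟨x, y, hx1, hx2, hy1, hy2, hxy⟩ := exists_invols_S4
  exact hxy (invol_unique_of_isCyclic hx1 hx2 hy1 hy2)

theorem not_isPGroup_commutator_S4 (p : ℕ) (hp : p.Prime) (hp2 : p ≠ 2) :
    ¬ IsPGroup p (commutator (Equiv.Perm (Fin 4))) := by
  obtain ⟨x, y, hx1, hx2, hy1, hy2, hxy⟩ := exists_invols_S4
  exact not_isPGroup_of_invol hp hp2 hx1 hx2

theorem charP_of_card_prime {F : Type*} [Field F] [Fintype F] {p : ℕ} (hp : p.Prime)
    (hF : Fintype.card F = p) : CharP F p := by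
  rw [CharP.charP_iff_prime_eq_zero hp, ← hF]
  exact Nat.cast_card_eq_zero F

/-- the subfield case of Dickson's theorem for a field of the same order -/
theorem not_equiv_of_card_eq {F : Type*} [Field F] [Fintype F] (hodd : Odd (Fintype.card F))
    (M : Subgroup (Matrix.ProjectiveSpecialLinearGroup (Fin 2) F)) (hM : M ≠ ⊤)
    (K : Type) [Field K] [Fintype K] (hKF : Fintype.card K = Fintype.card F) :
    ¬ Nonempty (M ≃* Matrix.ProjectiveSpecialLinearGroup (Fin 2) K) ∧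
      ¬ Nonempty (M ≃* Matrix.ProjGenLinGroup (Fin 2) K) := by
  have hMdvd : Nat.card M ∣ Nat.card (Matrix.ProjectiveSpecialLinearGroup (Fin 2) F) :=
    Subgroup.card_subgroup_dvd_card M
  have hMne : Nat.card M ≠ Nat.card (Matrix.ProjectiveSpecialLinearGroup (Fin 2) F) :=
    fun h => hM (Subgroup.eq_top_of_card_eq M h)
  constructor
  · rintro ⟨e'⟩
    apply hMne
    rw [Nat.card_congr e'.toEquiv]
    exact card_PSL2_congr K F hKF
  · rintro ⟨e'⟩
    have h1 := card_PGL2_eq_two_mul K F hKF hodd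
    rw [← Nat.card_congr e'.toEquiv] at h1
    have h2 := Nat.le_of_dvd Nat.card_pos hMdvd
    have h3 : 0 < Nat.card (Matrix.ProjectiveSpecialLinearGroup (Fin 2) F) := Nat.card_pos
    omega

/-- a field whose order has a power equal to a prime `p` has order `p` -/
theorem card_eq_of_pow_eq_prime {k m p : ℕ} (hp : p.Prime) (hk : 2 ≤ k) (h : k ^ m = p) :
    k = p := by
  have hm0 : m ≠ 0 := by
    rintro rfl
    rw [pow_zero] at h
    exact hp.one_lt.ne h
  have hkdvd : k ∣ p := by rw [← h]; exact dvd_pow_self k hm0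
  rcases (Nat.dvd_prime hp).1 hkdvd with h' | h'
  · omega
  · exact h'

end Cfsg.Agent.Helper13.DC
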