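import Mathlib
import Cfsg.Agent.Lib.Helper13.DicksonCor1

set_option autoImplicit false

namespace Cfsg.Agent.Helper13.DC

open Cfsg.Agent.Helper12.PSL2Max
open scoped commutatorElement MatrixGroups

variable {K : Type*} [Field K]

/-- upper unitriangular element of `GL₂` -/
noncomputable def glU (b : K) : GL (Fin 2) K :=
  Matrix.GeneralLinearGroup.mkOfDetNeZero !![1, b; 0, 1] (by simp [Matrix.det_fin_two])

/-- lower unitriangular element of `GL₂` -/
noncomputable def glL (b : K) : GL (Fin 2) K :=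
  Matrix.GeneralLinearGroup.mkOfDetNeZero !![1, 0; b, 1] (by simp [Matrix.det_fin_two])

/-- the reflection `diag(-1, 1)` in `GL₂` -/
noncomputable def glD : GL (Fin 2) K :=
  Matrix.GeneralLinearGroup.mkOfDetNeZero !![-1, 0; 0, 1] (by simp [Matrix.det_fin_two])

theorem glU_val (b : K) : (glU b : Matrix (Fin 2) (Fin 2) K) = !![1, b; 0, 1] := rfl
theorem glL_val (b : K) : (glL b : Matrix (Fin 2) (Fin 2) K) = !![1, 0; b, 1] := rfl
theorem glD_val : ((glD : GL (Fin 2) K) : Matrix (Fin 2) (Fin 2) K) = !![-1, 0; 0, 1] := rfl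

theorem glU_comm (h2 : (2 : K) ≠ 0) (c : K) :
    ⁅(glD : GL (Fin 2) K), glU (-(c * (2 : K)⁻¹))⁆ = glU c := by
  rw [commutatorElement_def, mul_inv_eq_iff_eq_mul, mul_inv_eq_iff_eq_mul]
  apply Units.ext
  rw [Units.val_mul, Units.val_mul, Units.val_mul, glU_val, glU_val, glD_val]
  ext i j
  fin_cases i <;> fin_cases j <;> simp [Matrix.mul_apply, Fin.sum_univ_two]
  field_simp
  ring

theorem glL_comm (h2 : (2 : K) ≠ 0) (c : K) :
    ⁅(glD : GL (Fin 2) K), glL (-(c * (2 : K)⁻¹))⁆ = glL c := by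
  rw [commutatorElement_def, mul_inv_eq_iff_eq_mul, mul_inv_eq_iff_eq_mul]
  apply Units.ext
  rw [Units.val_mul, Units.val_mul, Units.val_mul, glL_val, glL_val, glD_val]
  ext i j
  fin_cases i <;> fin_cases j <;> simp [Matrix.mul_apply, Fin.sum_univ_two]
  field_simp
  ring

theorem mk_comm_mem (a b : GL (Fin 2) K) :
    ∃ x : commutator (Matrix.ProjGenLinGroup (Fin 2) K),
      (x : Matrix.ProjGenLinGroup (Fin 2) K) = Matrix.ProjGenLinGroup.mk ⁅a, b⁆ := by
  obtain ⟨x, hx⟩ := comm_mem_commutator (Matrix.ProjGenLinGroup.mk a) (Matrix.ProjGenLinGroup.mk b)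
  exact ⟨x, by rw [hx, map_commutatorElement]⟩

theorem not_isCyclic_commutator_PGL2 (h2 : (2 : K) ≠ 0) :
    ¬ IsCyclic (commutator (Matrix.ProjGenLinGroup (Fin 2) K)) := by
  intro hc
  obtain ⟨x, hx⟩ := mk_comm_mem (glD : GL (Fin 2) K) (glU (-((1 : K) * (2 : K)⁻¹)))
  obtain ⟨y, hy⟩ := mk_comm_mem (glD : GL (Fin 2) K) (glL (-((1 : K) * (2 : K)⁻¹)))
  rw [glU_comm h2] at hx
  rw [glL_comm h2] at hy
  obtain ⟨g, hg⟩ := hc.exists_generator
  have hxy : x * y = y * x := by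
    obtain ⟨i, rfl⟩ := Subgroup.mem_zpowers_iff.1 (hg x)
    obtain ⟨j, rfl⟩ := Subgroup.mem_zpowers_iff.1 (hg y)
    rw [← _root_.zpow_add, ← _root_.zpow_add, add_comm]
  have h1 := congrArg Subtype.val hxy
  rw [Subgroup.coe_mul, Subgroup.coe_mul, hx, hy, ← map_mul, ← map_mul,
    Matrix.ProjGenLinGroup.mk_eq_mk_iff] at h1
  obtain ⟨u, hu⟩ := h1
  have h3 := congrArg (fun g : GL (Fin 2) K => (g : Matrix (Fin 2) (Fin 2) K)) hu
  simp only [Units.val_mul, glU_val, glL_val, Matrix.GeneralLinearGroup.coe_scalar] at h3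
  have e01 := congrFun (congrFun h3 0) 1
  have e00 := congrFun (congrFun h3 0) 0
  simp [Matrix.mul_apply, Fin.sum_univ_two] at e01 e00
  rw [e01, Units.val_one] at e00
  have : (1 : K) = 0 := by linear_combination e00
  exact one_ne_zero this

theorem not_isPGroup_commutator_PGL2 (h2 : (2 : K) ≠ 0) (p : ℕ) (hp : p.Prime) (hp2 : p ≠ 2) :
    ¬ IsPGroup p (commutator (Matrix.ProjGenLinGroup (Fin 2) K)) := by
  obtain ⟨x, hx⟩ := mk_comm_mem (glD : GL (Fin 2) K) (glU (-((1 : K) * (2 : K)⁻¹)))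
  obtain ⟨y, hy⟩ := mk_comm_mem (glD : GL (Fin 2) K) (glL (-((-1 : K) * (2 : K)⁻¹)))
  rw [glU_comm h2] at hx
  rw [glL_comm h2] at hy
  have hw : ((x * y * x : commutator (Matrix.ProjGenLinGroup (Fin 2) K)) :
      Matrix.ProjGenLinGroup (Fin 2) K) = Matrix.ProjGenLinGroup.mk (glU 1 * glL (-1) * glU 1) := by
    rw [Subgroup.coe_mul, Subgroup.coe_mul, hx, hy, map_mul, map_mul]
  have hne : x * y * x ≠ 1 := by
    intro h
    rw [h, Subgroup.coe_one, eq_comm, ← map_one (Matrix.ProjGenLinGroup.mk (n := Fin 2) (R := K)),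
      Matrix.ProjGenLinGroup.mk_eq_mk_iff] at hw
    obtain ⟨u, hu⟩ := hw
    have h3 := congrArg (fun g : GL (Fin 2) K => (g : Matrix (Fin 2) (Fin 2) K)) hu
    simp only [Units.val_mul, glU_val, glL_val, Matrix.GeneralLinearGroup.coe_scalar] at h3
    have e01 := congrFun (congrFun h3 0) 1
    have e00 := congrFun (congrFun h3 0) 0
    simp [Matrix.mul_apply, Fin.sum_univ_two] at e01 e00
  have hsq : (x * y * x) ^ 2 = 1 := by
    apply Subtype.ext
    rw [Subgroup.coe_pow, hw, Subgroup.coe_one, ← map_pow, eq_comm,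
      ← map_one (Matrix.ProjGenLinGroup.mk (n := Fin 2) (R := K)),
      Matrix.ProjGenLinGroup.mk_eq_mk_iff]
    refine ⟨-1, ?_⟩
    apply Units.ext
    simp only [Units.val_mul, Units.val_pow_eq_pow_val, glU_val, glL_val,
      Matrix.GeneralLinearGroup.coe_scalar]
    ext i j
    fin_cases i <;> fin_cases j <;> simp [pow_two, Matrix.mul_apply, Fin.sum_univ_two]
  exact not_isPGroup_of_invol hp hp2 hne hsq

end Cfsg.Agent.Helper13.DC
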