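import Mathlib

set_option autoImplicit false

namespace Cfsg.Agent.Helper13.DC

/-- splitting off the `{2,3}`-part of a natural number -/
theorem part23 (M : ℕ) (hM : M ≠ 0) :
    ∃ M', M = 2 ^ M.factorization 2 * 3 ^ M.factorization 3 * M' ∧ ¬ 2 ∣ M' ∧ ¬ 3 ∣ M' := by
  have h1 := Nat.ordProj_mul_ordCompl_eq_self M 2
  have h2 : ¬ 2 ∣ M / 2 ^ M.factorization 2 := Nat.not_dvd_ordCompl Nat.prime_two hM
  set M₁ := M / 2 ^ M.factorization 2 with hM₁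
  have hM₁0 : M₁ ≠ 0 := by
    rintro h
    rw [h, mul_zero] at h1
    exact hM h1.symm
  have h3 := Nat.ordProj_mul_ordCompl_eq_self M₁ 3
  have h4 : ¬ 3 ∣ M₁ / 3 ^ M₁.factorization 3 := Nat.not_dvd_ordCompl Nat.prime_three hM₁0
  have h5 : M.factorization 3 = M₁.factorization 3 := by
    conv_lhs => rw [← h1]
    rw [Nat.factorization_mul (pow_ne_zero _ (by norm_num)) hM₁0, Nat.Prime.factorization_pow
      Nat.prime_two]
    simp
  refine ⟨M₁ / 3 ^ M₁.factorization 3, ?_, ?_, h4⟩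
  · rw [h5, mul_assoc, h3, h1]
  · intro h
    apply h2
    exact h.trans (Dvd.intro_left _ h3)

theorem coprime23 {A B : ℕ} (hA : ∀ r : ℕ, r.Prime → r ∣ A → r = 2 ∨ r = 3) (h2 : ¬ 2 ∣ B)
    (h3 : ¬ 3 ∣ B) : Nat.Coprime A B := by
  apply Nat.coprime_of_dvd
  intro k hk hkA hkB
  rcases hA k hk hkA with rfl | rfl
  · exact h2 hkB
  · exact h3 hkB

theorem prime_dvd_23 {a b r : ℕ} (hr : r.Prime) (h : r ∣ 2 ^ a * 3 ^ b) : r = 2 ∨ r = 3 := by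
  rcases (Nat.Prime.dvd_mul hr).1 h with h | h
  · left
    exact (Nat.prime_dvd_prime_iff_eq hr Nat.prime_two).1 (hr.dvd_of_dvd_pow h)
  · right
    exact (Nat.prime_dvd_prime_iff_eq hr Nat.prime_three).1 (hr.dvd_of_dvd_pow h)

/-- arithmetic set-up for prime powers `q = p ^ n`, `p ≥ 5` -/
theorem setup23 {p n q : ℕ} (hp : p.Prime) (hp5 : 5 ≤ p) (hn : n ≠ 0) (hq : q = p ^ n) :
    5 ≤ q ∧ ¬ 2 ∣ q ∧ ¬ 3 ∣ q ∧ ∃ a b M', a = (q ^ 2 - 1).factorization 2 ∧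
      b = (q ^ 2 - 1).factorization 3 ∧ q ^ 2 - 1 = 2 ^ a * 3 ^ b * M' ∧ ¬ 2 ∣ M' ∧ ¬ 3 ∣ M' ∧
      3 ≤ a ∧ 1 ≤ b := by
  have h5 : 5 ≤ q := by
    rw [hq]
    calc 5 ≤ p := hp5
      _ = p ^ 1 := (pow_one p).symm
      _ ≤ p ^ n := Nat.pow_le_pow_right (by omega) (by omega)
  have h2 : ¬ 2 ∣ q := by
    rw [hq]
    intro h
    have := (Nat.prime_dvd_prime_iff_eq Nat.prime_two hp).1 (Nat.prime_two.dvd_of_dvd_pow h)
    omega
  have h3 : ¬ 3 ∣ q := by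
    rw [hq]
    intro h
    have := (Nat.prime_dvd_prime_iff_eq Nat.prime_three hp).1 (Nat.prime_three.dvd_of_dvd_pow h)
    omega
  refine ⟨h5, h2, h3, ?_⟩
  have hM0 : q ^ 2 - 1 ≠ 0 := by
    have : 5 ^ 2 ≤ q ^ 2 := Nat.pow_le_pow_left h5 2
    omega
  obtain ⟨M', hM, hM2, hM3⟩ := part23 (q ^ 2 - 1) hM0
  refine ⟨_, _, M', rfl, rfl, hM, hM2, hM3, ?_, ?_⟩
  · rw [← Nat.Prime.pow_dvd_iff_le_factorization Nat.prime_two hM0]
    obtain ⟨t, ht⟩ : ∃ t, q = 2 * t + 1 := ⟨q / 2, by omega⟩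
    have : q ^ 2 - 1 = 4 * (t * (t + 1)) := by
      rw [ht]; ring_nf; omega
    rw [this]
    have : 2 ∣ t * (t + 1) := (Nat.even_mul_succ_self t).two_dvd
    obtain ⟨c, hc⟩ := this
    exact ⟨c, by rw [hc]; ring⟩
  · have : 3 ^ 1 ∣ q ^ 2 - 1 := by
      rw [pow_one]
      have hq3 : q % 3 = 1 ∨ q % 3 = 2 := by omega
      have : q ^ 2 % 3 = 1 := by
        rw [pow_two, Nat.mul_mod]
        rcases hq3 with h | h <;> rw [h]
      omega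
    exact (Nat.Prime.pow_dvd_iff_le_factorization Nat.prime_three hM0).1 this

end Cfsg.Agent.Helper13.DC
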