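import Mathlib
import Cfsg.Prelude.Def_OddOrderLocal
import Cfsg.Agent.Lib.Helper13.DicksonCor3
import Cfsg.Agent.Lib.Helper11.DicksonMin1
import Cfsg.Agent.Lib.Helper1.Hall

set_option autoImplicit false

namespace Cfsg.Agent.Helper13.DC

theorem hall23_iff {G : Type*} [Group G] [Finite G] {q a b M' : ℕ}
    (hG : 2 * Nat.card G = q * (2 ^ a * 3 ^ b * M')) (h2q : ¬ 2 ∣ q) (h3q : ¬ 3 ∣ q)
    (h2M : ¬ 2 ∣ M') (h3M : ¬ 3 ∣ M') (H : Subgroup G) :
    Cfsg.IsPiHall ({2, 3} : Set ℕ) H ↔ 2 * Nat.card H = 2 ^ a * 3 ^ b := by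
  have hci : Nat.card H * H.index = Nat.card G := Subgroup.card_mul_index H
  have hcpos : 0 < Nat.card H := Nat.card_pos
  have h2B : ¬ 2 ∣ q * M' := by
    intro h
    rcases (Nat.Prime.dvd_mul Nat.prime_two).1 h with h | h
    · exact h2q h
    · exact h2M h
  have h3B : ¬ 3 ∣ q * M' := by
    intro h
    rcases (Nat.Prime.dvd_mul Nat.prime_three).1 h with h | h
    · exact h3q h
    · exact h3M h
  have hkey : 2 * Nat.card H * H.index = 2 ^ a * 3 ^ b * (q * M') := by
    rw [mul_assoc, hci, hG]; ring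
  constructor
  · rintro ⟨hH1, hH2⟩
    have hi2 : ¬ 2 ∣ H.index := hH2 2 Nat.prime_two (by simp)
    have hi3 : ¬ 3 ∣ H.index := hH2 3 Nat.prime_three (by simp)
    apply Nat.dvd_antisymm
    · have hcop : Nat.Coprime (2 * Nat.card H) (q * M') := by
        apply coprime23 _ h2B h3B
        intro r hr hrd
        rcases (Nat.Prime.dvd_mul hr).1 hrd with h | h
        · left; exact (Nat.prime_dvd_prime_iff_eq hr Nat.prime_two).1 h
        · have := hH1 r hr h
          simpa using this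
      apply hcop.dvd_of_dvd_mul_right
      rw [← hkey]
      exact Dvd.intro _ rfl
    · have hcop : Nat.Coprime (2 ^ a * 3 ^ b) H.index :=
        coprime23 (fun r hr hrd => prime_dvd_23 hr hrd) hi2 hi3
      apply hcop.dvd_of_dvd_mul_right
      rw [hkey]
      exact Dvd.intro _ rfl
  · intro hc
    constructor
    · intro r hr hrd
      have : r ∣ 2 ^ a * 3 ^ b := by
        rw [← hc]; exact Dvd.dvd.mul_left hrd 2
      have := prime_dvd_23 hr this
      simpa using this
    · intro r hr hrm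
      have hidx : H.index = q * M' := by
        rw [hc] at hkey
        exact Nat.eq_of_mul_eq_mul_left (by positivity) hkey
      rw [hidx]
      have : r = 2 ∨ r = 3 := by simpa using hrm
      rcases this with rfl | rfl
      · exact h2B
      · exact h3B

theorem split_arith {x y c M' : ℕ} (hxy : x * y = 2 * c * M') (hy2 : y % 4 = 2) (hy3 : ¬ 3 ∣ y)
    (hc : ∀ r : ℕ, r.Prime → r ∣ c → r = 2 ∨ r = 3) (h2M : ¬ 2 ∣ M') (h3M : ¬ 3 ∣ M')
    (hcpos : 0 < c) : ∃ n', x = c * n' ∧ c.Coprime n' := by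
  obtain ⟨u, hu⟩ : ∃ u, y = 2 * u := ⟨y / 2, by omega⟩
  have hu2 : ¬ 2 ∣ u := by omega
  have hu3 : ¬ 3 ∣ u := fun h => hy3 (by rw [hu]; exact Dvd.dvd.mul_left h 2)
  have h1 : x * u = c * M' := by
    apply Nat.eq_of_mul_eq_mul_left (by norm_num : 0 < 2)
    rw [← mul_assoc 2 c, ← hxy, hu]; ring
  have hcu : Nat.Coprime c u := coprime23 hc hu2 hu3
  have hcx : c ∣ x := by
    apply hcu.dvd_of_dvd_mul_right
    rw [h1]; exact Dvd.intro _ rfl
  obtain ⟨n', hn'⟩ := hcx
  refine ⟨n', hn', ?_⟩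
  have h2 : n' * u = M' := by
    apply Nat.eq_of_mul_eq_mul_left hcpos
    rw [← h1, hn']; ring
  apply coprime23 hc
  · intro h; exact h2M (by rw [← h2]; exact Dvd.dvd.mul_right h u)
  · intro h; exact h3M (by rw [← h2]; exact Dvd.dvd.mul_right h u)

theorem exists_sub_of_dihedral {G : Type*} [Group G] [Finite G] (D : Subgroup G) (k : ℕ)
    (e : D ≃* DihedralGroup k) (c n' : ℕ) (h : 2 * k = c * n') (hcop : c.Coprime n') :
    ∃ H : Subgroup G, Nat.card H = c := by
  haveI : Group.IsSolvable (DihedralGroup k) := Cfsg.Agent.Helper11.Dickson.isSolvable_dihedral k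
  haveI : Group.IsSolvable D := solvable_of_solvable_injective (f := e.toMonoidHom) e.injective
  have hD : Nat.card D = c * n' := by
    rw [Nat.card_congr e.toEquiv, DihedralGroup.nat_card, h]
  obtain ⟨H₀, hH₀⟩ := Cfsg.Agent.Helper1.hall_exists c n' hD hcop
  refine ⟨H₀.map D.subtype, ?_⟩
  rw [Subgroup.card_map_of_injective D.subtype_injective, hH₀]

end Cfsg.Agent.Helper13.DC
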