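import Mathlib

/-!
# Extraspecial subgroups `3^{1+2}` of `GL₃(F)`: group theory and standard form (helper13)
-/

set_option autoImplicit false
set_option linter.style.haveILetI false
set_option linter.unusedSectionVars false
set_option linter.unusedVariables false

namespace Cfsg.Agent.Helper13.E27

open Matrix

section grp

variable {G : Type*} [Group G]

/-- a group whose order divides `9` is commutative. -/
theorem isMulCommutative_of_card_dvd_nine (h : Nat.card G ∣ 9) : IsMulCommutative G := by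
  haveI : Fact (Nat.Prime 3) := ⟨by norm_num⟩
  have hmem : Nat.card G ∈ Nat.divisors 9 := Nat.mem_divisors.2 ⟨h, by norm_num⟩
  have hdiv : Nat.divisors 9 = {1, 3, 9} := by decide
  rw [hdiv] at hmem
  simp only [Finset.mem_insert, Finset.mem_singleton] at hmem
  rcases hmem with h1 | h1 | h1
  · haveI : IsCyclic G := isCyclic_of_card_dvd_prime (p := 3) (by rw [h1]; norm_num)
    exact IsCyclic.isMulCommutative
  · haveI : IsCyclic G := isCyclic_of_card_dvd_prime (p := 3) (by rw [h1])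
    exact IsCyclic.isMulCommutative
  · exact IsPGroup.isMulCommutative_of_card_eq_prime_sq (p := 3) (by rw [h1]; norm_num)

/-- in a group of order `27` all commutators are central. -/
theorem commutator_mem_center (h27 : Nat.card G = 27) (a b : G) :
    a * b * a⁻¹ * b⁻¹ ∈ Subgroup.center G := by
  haveI : Fact (Nat.Prime 3) := ⟨by norm_num⟩
  obtain ⟨k, hk0, hk⟩ := IsPGroup.card_center_eq_prime_pow (p := 3) (n := 3) (G := G)
    (by rw [h27]; norm_num) (by norm_num)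
  have hmul := (Subgroup.center G).card_mul_index
  rw [hk, h27, Subgroup.index_eq_card] at hmul
  have hq : Nat.card (G ⧸ Subgroup.center G) ∣ 9 := by
    obtain ⟨k', rfl⟩ : ∃ k', k = k' + 1 := ⟨k - 1, by omega⟩
    rw [pow_succ, mul_comm (3 ^ k') 3, mul_assoc] at hmul
    have h9 : 3 ^ k' * Nat.card (G ⧸ Subgroup.center G) = 9 := by omega
    exact Dvd.intro_left _ h9
  haveI := isMulCommutative_of_card_dvd_nine hq
  have hcomm : ∀ u v : G ⧸ Subgroup.center G, u * v = v * u := fun u v =>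
    IsMulCommutative.is_comm.comm u v
  have h1 : ((a * b * a⁻¹ * b⁻¹ : G) : G ⧸ Subgroup.center G) = 1 := by
    rw [QuotientGroup.mk_mul, QuotientGroup.mk_mul, QuotientGroup.mk_mul,
      hcomm (a : G ⧸ Subgroup.center G) b, QuotientGroup.mk_inv, QuotientGroup.mk_inv]
    group
  exact (QuotientGroup.eq_one_iff _).1 h1

end grp

section mat

open Polynomial

variable {F : Type*} [Field F]

/-- the cyclic shift matrix `e_j ↦ e_{j+1}` -/
def B0m : Matrix (Fin 3) (Fin 3) F := !![0, 0, 1; 1, 0, 0; 0, 1, 0]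

theorem eig_iff (M : Matrix (Fin 3) (Fin 3) F) (a : F) (v : Fin 3 → F) :
    (M - a • (1 : Matrix (Fin 3) (Fin 3) F)) *ᵥ v = 0 ↔ M *ᵥ v = a • v := by
  rw [Matrix.sub_mulVec, Matrix.smul_mulVec, Matrix.one_mulVec, sub_eq_zero]

/-- factorisation of `M³ - 1`. -/
theorem cube_factor (M : Matrix (Fin 3) (Fin 3) F) (hM : M * M * M = 1) (a b c : F)
    (h1 : a + b + c = 0) (h2 : a * b + b * c + c * a = 0) (h3 : a * b * c = 1) :
    (M - a • (1 : Matrix (Fin 3) (Fin 3) F)) * ((M - b • (1 : Matrix (Fin 3) (Fin 3) F)) *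
      (M - c • (1 : Matrix (Fin 3) (Fin 3) F))) = 0 := by
  have hp : (X - C a) * ((X - C b) * (X - C c)) =
      X ^ 3 - C (a + b + c) * X ^ 2 + C (a * b + b * c + c * a) * X - C (a * b * c) := by
    simp only [map_add, map_mul]; ring
  rw [h1, h2, h3, map_zero, zero_mul, zero_mul, sub_zero, add_zero, map_one] at hp
  have := congrArg (aeval M) hp
  simp only [map_mul, map_sub, aeval_X, aeval_C, map_pow, map_one,
    Algebra.algebraMap_eq_smul_one] at this
  rw [this, pow_succ, pow_two, hM, sub_self]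

theorem exists_eig2 (M : Matrix (Fin 3) (Fin 3) F) (a b : F) (E : (Fin 3 → F) → Prop)
    (hE : ∀ t : F, ∀ v, E v → E ((M - t • (1 : Matrix (Fin 3) (Fin 3) F)) *ᵥ v))
    (w : Fin 3 → F) (hw : w ≠ 0) (hEw : E w)
    (h : (M - a • (1 : Matrix (Fin 3) (Fin 3) F)) *ᵥ
      ((M - b • (1 : Matrix (Fin 3) (Fin 3) F)) *ᵥ w) = 0) :
    ∃ v, v ≠ 0 ∧ E v ∧ (M *ᵥ v = a • v ∨ M *ᵥ v = b • v) := by
  by_cases h1 : (M - b • (1 : Matrix (Fin 3) (Fin 3) F)) *ᵥ w = 0
  · exact ⟨w, hw, hEw, Or.inr ((eig_iff M b w).1 h1)⟩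
  · exact ⟨_, h1, hE b w hEw, Or.inl ((eig_iff M a _).1 h)⟩

theorem exists_eig3 (M : Matrix (Fin 3) (Fin 3) F) (a b c : F) (E : (Fin 3 → F) → Prop)
    (hE : ∀ t : F, ∀ v, E v → E ((M - t • (1 : Matrix (Fin 3) (Fin 3) F)) *ᵥ v))
    (w : Fin 3 → F) (hw : w ≠ 0) (hEw : E w)
    (h : (M - a • (1 : Matrix (Fin 3) (Fin 3) F)) *ᵥ
      ((M - b • (1 : Matrix (Fin 3) (Fin 3) F)) *ᵥ
        ((M - c • (1 : Matrix (Fin 3) (Fin 3) F)) *ᵥ w)) = 0) :
    ∃ v, v ≠ 0 ∧ E v ∧ (M *ᵥ v = a • v ∨ M *ᵥ v = b • v ∨ M *ᵥ v = c • v) := by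
  by_cases h1 : (M - c • (1 : Matrix (Fin 3) (Fin 3) F)) *ᵥ w = 0
  · exact ⟨w, hw, hEw, Or.inr (Or.inr ((eig_iff M c w).1 h1))⟩
  · obtain ⟨v, hv0, hEv, hv⟩ := exists_eig2 M a b E hE _ h1 (hE c w hEw) h
    rcases hv with hv | hv
    · exact ⟨v, hv0, hEv, Or.inl hv⟩
    · exact ⟨v, hv0, hEv, Or.inr (Or.inl hv)⟩

theorem gamma_facts {γ : F} (h3 : (3 : F) ≠ 0) (hγ : γ ^ 2 + γ + 1 = 0) :
    γ ^ 3 = 1 ∧ γ ≠ 0 ∧ γ ≠ 1 ∧ γ ^ 2 ≠ 1 := by
  refine ⟨by linear_combination (γ - 1) * hγ, ?_, ?_, ?_⟩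
  · rintro rfl
    simp at hγ
  · rintro rfl
    apply h3
    linear_combination hγ
  · intro h
    apply h3
    have h2 : γ = -2 := by linear_combination hγ - h
    rw [h2] at h
    linear_combination h

end mat

section std

variable {F : Type*} [Field F]

theorem exists_standard_form (h3 : (3 : F) ≠ 0) {γ₀ : F} (hγ₀ : γ₀ ^ 2 + γ₀ + 1 = 0)
    (A B C : Matrix (Fin 3) (Fin 3) F)
    (hA : A * A * A = 1) (hB : B * B * B = 1) (hC : C * C * C = 1) (hCA : C * A = A * C)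
    (hCB : C * B = B * C) (hAB : A * B = C * B * A) (hC1 : C ≠ 1) :
    ∃ (γ α : F) (T : Matrix (Fin 3) (Fin 3) F), γ ^ 2 + γ + 1 = 0 ∧
      (α = 1 ∨ α = γ ∨ α = γ ^ 2) ∧ IsUnit T ∧ C = γ • (1 : Matrix (Fin 3) (Fin 3) F) ∧
      A * T = T * (α • diagonal ![1, γ, γ ^ 2]) ∧ B * T = T * B0m := by
  -- step 1: an eigenvector of `C` with eigenvalue `≠ 1`
  obtain ⟨u, hu⟩ : ∃ u : Fin 3 → F, C *ᵥ u ≠ u := by
    by_contra hcon
    push Not at hcon
    apply hC1
    apply Matrix.toLin'.injective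
    apply LinearMap.ext
    intro u
    rw [Matrix.toLin'_apply, hcon u, Matrix.toLin'_one]
    rfl
  have hw'0 : (C - (1 : F) • (1 : Matrix (Fin 3) (Fin 3) F)) *ᵥ u ≠ 0 := by
    intro h
    rw [eig_iff, one_smul] at h
    exact hu h
  have hCfac := cube_factor C hC γ₀ (γ₀ ^ 2) 1 (by linear_combination hγ₀)
    (by linear_combination γ₀ * hγ₀) (by linear_combination (γ₀ - 1) * hγ₀)
  obtain ⟨γ, hγ, w, hw0, hCw⟩ : ∃ γ : F, γ ^ 2 + γ + 1 = 0 ∧ ∃ w : Fin 3 → F, w ≠ 0 ∧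
      C *ᵥ w = γ • w := by
    obtain ⟨w, hw0, -, hw⟩ := exists_eig2 C γ₀ (γ₀ ^ 2) (fun _ => True) (fun _ _ _ => trivial)
      _ hw'0 trivial (by
        rw [Matrix.mulVec_mulVec, Matrix.mulVec_mulVec, mul_assoc, hCfac, Matrix.zero_mulVec])
    rcases hw with hw | hw
    · exact ⟨γ₀, hγ₀, w, hw0, hw⟩
    · exact ⟨γ₀ ^ 2, by linear_combination (γ₀ ^ 2 - γ₀ + 1) * hγ₀, w, hw0, hw⟩
  obtain ⟨hγ3, hγ0, hγ1, hγ21⟩ := gamma_facts h3 hγ
  -- step 2: the eigenspace of `C`
  have hEsub : ∀ (M : Matrix (Fin 3) (Fin 3) F), C * M = M * C → ∀ v : Fin 3 → F,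
      C *ᵥ v = γ • v → C *ᵥ (M *ᵥ v) = γ • (M *ᵥ v) := by
    intro M hM v hv
    rw [Matrix.mulVec_mulVec, hM, ← Matrix.mulVec_mulVec, hv, Matrix.mulVec_smul]
  have hEA : ∀ t : F, ∀ v : Fin 3 → F, C *ᵥ v = γ • v →
      C *ᵥ ((A - t • (1 : Matrix (Fin 3) (Fin 3) F)) *ᵥ v) =
        γ • ((A - t • (1 : Matrix (Fin 3) (Fin 3) F)) *ᵥ v) := by
    intro t v hv
    apply hEsub _ _ v hv
    rw [mul_sub, sub_mul, hCA, mul_smul_comm, smul_mul_assoc, mul_one, one_mul]
  have hAfac := cube_factor A hA 1 γ (γ ^ 2) (by linear_combination hγ)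
    (by linear_combination γ * hγ) (by linear_combination (γ - 1) * hγ)
  obtain ⟨v, hv0, hEv, hv⟩ := exists_eig3 A 1 γ (γ ^ 2) (fun v => C *ᵥ v = γ • v) hEA w hw0 hCw
    (by rw [Matrix.mulVec_mulVec, Matrix.mulVec_mulVec, mul_assoc, hAfac, Matrix.zero_mulVec])
  obtain ⟨α, hα, hAv⟩ : ∃ α : F, (α = 1 ∨ α = γ ∨ α = γ ^ 2) ∧ A *ᵥ v = α • v := by
    rcases hv with hv | hv | hv
    · exact ⟨1, Or.inl rfl, hv⟩
    · exact ⟨γ, Or.inr (Or.inl rfl), hv⟩
    · exact ⟨γ ^ 2, Or.inr (Or.inr rfl), hv⟩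
  have hα0 : α ≠ 0 := by
    rcases hα with rfl | rfl | rfl
    · exact one_ne_zero
    · exact hγ0
    · exact pow_ne_zero 2 hγ0
  -- step 3: the basis
  have hstep : ∀ (x : Fin 3 → F) (β : F), C *ᵥ x = γ • x → A *ᵥ x = β • x →
      A *ᵥ (B *ᵥ x) = (β * γ) • (B *ᵥ x) := by
    intro x β hx hAx
    rw [Matrix.mulVec_mulVec, hAB, ← Matrix.mulVec_mulVec, hAx, Matrix.mulVec_smul,
      ← Matrix.mulVec_mulVec, hEsub B hCB x hx, smul_smul]
  have hBne : ∀ x : Fin 3 → F, x ≠ 0 → B *ᵥ x ≠ 0 := by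
    intro x hx h
    apply hx
    have : (B * B * B) *ᵥ x = x := by rw [hB, Matrix.one_mulVec]
    rw [← this, ← Matrix.mulVec_mulVec, h, Matrix.mulVec_zero]
  set v1 := B *ᵥ v with hv1
  set v2 := B *ᵥ v1 with hv2
  have hEv1 : C *ᵥ v1 = γ • v1 := hEsub B hCB v hEv
  have hEv2 : C *ᵥ v2 = γ • v2 := hEsub B hCB v1 hEv1
  have hAv1 : A *ᵥ v1 = (α * γ) • v1 := hstep v α hEv hAv
  have hAv2 : A *ᵥ v2 = (α * γ * γ) • v2 := hstep v1 (α * γ) hEv1 hAv1
  have hv10 : v1 ≠ 0 := hBne v hv0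
  have hv20 : v2 ≠ 0 := hBne v1 hv10
  have hBv2 : B *ᵥ v2 = v := by
    rw [hv2, hv1, Matrix.mulVec_mulVec, Matrix.mulVec_mulVec, hB, Matrix.one_mulVec]
  have hli : LinearIndependent F ![v, v1, v2] := by
    apply Module.End.eigenvectors_linearIndependent' (Matrix.toLin' A) ![α, α * γ, α * γ * γ]
    · intro i j hij
      have e1 : α * γ - α = α * (γ - 1) := by ring
      have e2 : α * γ * γ - α * γ = α * γ * (γ - 1) := by ring
      have e3 : α * γ * γ - α = α * (γ ^ 2 - 1) := by ring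
      have n1 : α * γ ≠ α := by
        intro h
        have := sub_eq_zero.2 h
        rw [e1] at this
        exact (mul_ne_zero hα0 (sub_ne_zero.2 hγ1)) this
      have n2 : α * γ * γ ≠ α * γ := by
        intro h
        have := sub_eq_zero.2 h
        rw [e2] at this
        exact (mul_ne_zero (mul_ne_zero hα0 hγ0) (sub_ne_zero.2 hγ1)) this
      have n3 : α * γ * γ ≠ α := by
        intro h
        have := sub_eq_zero.2 h
        rw [e3] at this
        exact (mul_ne_zero hα0 (sub_ne_zero.2 hγ21)) this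
      fin_cases i <;> fin_cases j
      · rfl
      · exact absurd (show α = α * γ from hij).symm n1
      · exact absurd (show α = α * γ * γ from hij).symm n3
      · exact absurd (show α * γ = α from hij) n1
      · rfl
      · exact absurd (show α * γ = α * γ * γ from hij).symm n2
      · exact absurd (show α * γ * γ = α from hij) n3
      · exact absurd (show α * γ * γ = α * γ from hij) n2
      · rfl
    · intro i
      fin_cases i
      · exact ⟨Module.End.mem_eigenspace_iff.2 (by simpa using hAv), hv0⟩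
      · exact ⟨Module.End.mem_eigenspace_iff.2 (by simpa using hAv1), hv10⟩
      · exact ⟨Module.End.mem_eigenspace_iff.2 (by simpa using hAv2), hv20⟩
  set T : Matrix (Fin 3) (Fin 3) F := Matrix.of (fun i j => ![v, v1, v2] j i) with hT
  have hTu : IsUnit T := by
    rw [← Matrix.linearIndependent_cols_iff_isUnit]
    exact hli
  have hcol : ∀ (M : Matrix (Fin 3) (Fin 3) F) (i j : Fin 3),
      (M * T) i j = (M *ᵥ (![v, v1, v2] j)) i := by
    intro M i j
    rfl
  refine ⟨γ, α, T, hγ, hα, hTu, ?_, ?_, ?_⟩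
  · have h1 : C * T = (γ • (1 : Matrix (Fin 3) (Fin 3) F)) * T := by
      ext i j
      rw [hcol, smul_mul_assoc, one_mul]
      fin_cases j
      · simpa [hT] using congrFun hEv i
      · simpa [hT] using congrFun hEv1 i
      · simpa [hT] using congrFun hEv2 i
    exact hTu.mul_left_injective h1
  · ext i j
    rw [hcol, Matrix.mul_smul, Matrix.smul_apply, Matrix.mul_diagonal]
    fin_cases j
    · have := congrFun hAv i
      simp at this ⊢
      rw [this, hT]; simp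
    · have := congrFun hAv1 i
      simp at this ⊢
      rw [this, hT]; simp; ring
    · have := congrFun hAv2 i
      simp at this ⊢
      rw [this, hT]; simp; ring
  · ext i j
    rw [hcol]
    fin_cases j
    · simp [Matrix.mul_apply, Fin.sum_univ_three, B0m, hT, hv1]
    · simp [Matrix.mul_apply, Fin.sum_univ_three, B0m, hT, hv2]
    · simp [Matrix.mul_apply, Fin.sum_univ_three, B0m, hT]
      exact congrFun hBv2 i

end std

end Cfsg.Agent.Helper13.E27
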