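import Mathlib
import Cfsg.Prelude.Def_GeometricClasses
import Cfsg.Agent.Lib.Helper13.E27Norm1

/-!
# Extraspecial subgroups `3^{1+2}` of `GL₃(F)`: elements of the normalizer (helper13)
-/

set_option autoImplicit false
set_option linter.style.haveILetI false
set_option linter.unusedSectionVars false
set_option linter.unusedVariables false

namespace Cfsg.Agent.Helper13.E27

open Matrix

variable {F : Type*} [Field F]

section bridge

theorem mem_specialLinear_iff3 (g : GL (Fin 3) F) :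
    g ∈ Cfsg.Geo.specialLinear (Fin 3) F ↔ (g : Matrix (Fin 3) (Fin 3) F).det = 1 := by
  unfold Cfsg.Geo.specialLinear
  rw [MonoidHom.mem_ker, Units.ext_iff, Matrix.GeneralLinearGroup.val_det_apply, Units.val_one]

theorem conj_mem_specialLinear (T y : GL (Fin 3) F) :
    T * y * T⁻¹ ∈ Cfsg.Geo.specialLinear (Fin 3) F ↔ y ∈ Cfsg.Geo.specialLinear (Fin 3) F := by
  unfold Cfsg.Geo.specialLinear
  rw [MonoidHom.mem_ker, MonoidHom.mem_ker, map_mul, map_mul, map_inv, mul_comm, ← mul_assoc,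
    inv_mul_cancel, one_mul]

theorem mem_normalizer_of_conj3 (R : Subgroup (GL (Fin 3) F)) [Finite ↥R] (T : GL (Fin 3) F)
    (h : ∀ x ∈ R, T * x * T⁻¹ ∈ R) : T ∈ Cfsg.Geo.subgroupNormalizer R := by
  unfold Cfsg.Geo.subgroupNormalizer
  rw [Subgroup.mem_set_normalizer_iff]
  intro x
  constructor
  · intro hx
    exact h x hx
  · intro hx
    let φ : ↥R → ↥R := fun y => ⟨T * y * T⁻¹, h y y.2⟩
    have hinj : Function.Injective φ := by
      intro y y' hyy
      have := congrArg Subtype.val hyy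
      simp only [φ] at this
      apply Subtype.ext
      have h1 := mul_right_cancel this
      exact mul_left_cancel h1
    obtain ⟨y, hy⟩ := (Finite.injective_iff_surjective.1 hinj) ⟨T * x * T⁻¹, hx⟩
    have := congrArg Subtype.val hy
    simp only [φ] at this
    have h1 := mul_left_cancel (mul_right_cancel this)
    rw [← h1]
    exact y.2

theorem le_normalizer3 (R : Subgroup (GL (Fin 3) F)) : R ≤ Cfsg.Geo.subgroupNormalizer R := by
  unfold Cfsg.Geo.subgroupNormalizer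
  exact Subgroup.le_normalizer

end bridge

section elts

/-- diagonal matrices -/
def Dg (d : Fin 3 → Fˣ) : GL (Fin 3) F :=
  ⟨diagonal (fun i => (d i : F)), diagonal (fun i => (((d i)⁻¹ : Fˣ) : F)), by
    rw [diagonal_mul_diagonal]; simp, by
    rw [diagonal_mul_diagonal]; simp⟩

theorem Dg_val (d : Fin 3 → Fˣ) :
    ((Dg d : GL (Fin 3) F) : Matrix (Fin 3) (Fin 3) F) = diagonal (fun i => (d i : F)) := rfl

theorem Dg_mul (d e : Fin 3 → Fˣ) : Dg d * Dg e = Dg (d * e) := by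
  apply Units.ext
  rw [Units.val_mul, Dg_val, Dg_val, Dg_val, diagonal_mul_diagonal]
  rfl

theorem Dg_one : Dg (1 : Fin 3 → Fˣ) = 1 := by
  apply Units.ext
  rw [Dg_val, Units.val_one]
  simp

/-- `Dg` as a homomorphism -/
def DgHom : (Fin 3 → Fˣ) →* GL (Fin 3) F where
  toFun := Dg
  map_one' := Dg_one
  map_mul' d e := (Dg_mul d e).symm

theorem DgHom_apply (d : Fin 3 → Fˣ) : DgHom d = Dg d := rfl

theorem Dg_inv (d : Fin 3 → Fˣ) : (Dg d)⁻¹ = Dg d⁻¹ := by
  rw [← DgHom_apply, ← DgHom_apply, map_inv]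

theorem Dg_pow (d : Fin 3 → Fˣ) (k : ℕ) : Dg d ^ k = Dg (d ^ k) := by
  rw [← DgHom_apply, ← DgHom_apply, map_pow]

theorem Dg_comm (d e : Fin 3 → Fˣ) : Dg d * Dg e = Dg e * Dg d := by
  rw [Dg_mul, Dg_mul, mul_comm]

theorem det_Dg (d : Fin 3 → Fˣ) :
    ((Dg d : GL (Fin 3) F) : Matrix (Fin 3) (Fin 3) F).det = (d 0 : F) * d 1 * d 2 := by
  rw [Dg_val, det_diagonal, Fin.prod_univ_three]

theorem Dg_const_comm (c : Fˣ) (g : GL (Fin 3) F) :
    Dg (fun _ => c) * g = g * Dg (fun _ => c) := by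
  apply Units.ext
  rw [Units.val_mul, Units.val_mul, Dg_val]
  have : (diagonal fun _ : Fin 3 => (c : F)) = (c : F) • (1 : Matrix (Fin 3) (Fin 3) F) :=
    (Matrix.smul_one_eq_diagonal _).symm
  rw [this, smul_mul_assoc, mul_smul_comm, one_mul, mul_one]

theorem Dg_const_val (c : Fˣ) :
    ((Dg (fun _ => c) : GL (Fin 3) F) : Matrix (Fin 3) (Fin 3) F) =
      (c : F) • (1 : Matrix (Fin 3) (Fin 3) F) := by
  rw [Dg_val]
  exact (Matrix.smul_one_eq_diagonal _).symm

/-- the cyclic shift -/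
def B0 : GL (Fin 3) F :=
  ⟨B0m, B0mᵀ, by
    ext i j; fin_cases i <;> fin_cases j <;> simp [B0m, Matrix.mul_apply, Fin.sum_univ_three], by
    ext i j; fin_cases i <;> fin_cases j <;> simp [B0m, Matrix.mul_apply, Fin.sum_univ_three]⟩

theorem B0_val : ((B0 : GL (Fin 3) F) : Matrix (Fin 3) (Fin 3) F) = B0m := rfl

/-- the matrix of the inversion -/
def Y0m : Matrix (Fin 3) (Fin 3) F := !![-1, 0, 0; 0, 0, -1; 0, -1, 0]

/-- the inversion -/
def Y0 : GL (Fin 3) F :=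
  ⟨Y0m, Y0m, by
    ext i j; fin_cases i <;> fin_cases j <;> simp [Y0m, Matrix.mul_apply, Fin.sum_univ_three], by
    ext i j; fin_cases i <;> fin_cases j <;> simp [Y0m, Matrix.mul_apply, Fin.sum_univ_three]⟩

theorem Y0_val : ((Y0 : GL (Fin 3) F) : Matrix (Fin 3) (Fin 3) F) = Y0m := rfl

theorem Y0_mul_Y0 : (Y0 : GL (Fin 3) F) * Y0 = 1 := by
  apply Units.ext
  rw [Units.val_mul, Y0_val, Units.val_one]
  ext i j; fin_cases i <;> fin_cases j <;> simp [Y0m, Matrix.mul_apply, Fin.sum_univ_three]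

theorem Y0_inv : (Y0 : GL (Fin 3) F)⁻¹ = Y0 := inv_eq_of_mul_eq_one_right Y0_mul_Y0

theorem det_B0 : ((B0 : GL (Fin 3) F) : Matrix (Fin 3) (Fin 3) F).det = 1 := by
  rw [B0_val, Matrix.det_fin_three]
  simp [B0m]

theorem det_Y0 : ((Y0 : GL (Fin 3) F) : Matrix (Fin 3) (Fin 3) F).det = 1 := by
  rw [Y0_val, Matrix.det_fin_three]
  simp [Y0m]

theorem Dg_mul_B0 (d : Fin 3 → Fˣ) : Dg d * B0 = B0 * Dg (fun j => d (j + 1)) := by
  apply Units.ext
  rw [Units.val_mul, Units.val_mul, Dg_val, Dg_val, B0_val]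
  ext i j
  rw [diagonal_mul, mul_diagonal]
  fin_cases i <;> fin_cases j <;> simp [B0m]

theorem Y0_mul_Dg (a b c : Fˣ) : Y0 * Dg ![a, b, c] = Dg ![a, c, b] * Y0 := by
  apply Units.ext
  rw [Units.val_mul, Units.val_mul, Dg_val, Dg_val, Y0_val]
  ext i j
  rw [diagonal_mul, mul_diagonal]
  fin_cases i <;> fin_cases j <;> simp [Y0m]

theorem Y0_mul_B0 : (Y0 : GL (Fin 3) F) * B0 = B0⁻¹ * Y0 := by
  apply Units.ext
  rw [Units.val_mul, Units.val_mul]
  show Y0m * B0m = B0mᵀ * Y0m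
  ext i j; fin_cases i <;> fin_cases j <;> simp [Y0m, B0m, Matrix.mul_apply, Fin.sum_univ_three]

end elts

section data

/-- the diagonal generator -/
def A0 (γ : Fˣ) : GL (Fin 3) F := Dg ![1, γ, γ ^ 2]

/-- the subgroup `T⁻¹ R T` -/
def std (R : Subgroup (GL (Fin 3) F)) (T : GL (Fin 3) F) : Subgroup (GL (Fin 3) F) :=
  R.comap (MulAut.conj T).toMonoidHom

theorem mem_std (R : Subgroup (GL (Fin 3) F)) (T y : GL (Fin 3) F) :
    y ∈ std R T ↔ T * y * T⁻¹ ∈ R := Iff.rfl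

/-- a standard form of the subgroup `R`. -/
structure EData (R : Subgroup (GL (Fin 3) F)) (γ : Fˣ) (T : GL (Fin 3) F) : Prop where
  hγ : (γ : F) ^ 2 + γ + 1 = 0
  h3 : (3 : F) ≠ 0
  ha : A0 γ ∈ std R T
  hb : B0 ∈ std R T
  gen : ∀ S : Subgroup (GL (Fin 3) F), A0 γ ∈ S → B0 ∈ S → std R T ≤ S
  fin : Finite ↥R

variable {R : Subgroup (GL (Fin 3) F)} {γ : Fˣ} {T : GL (Fin 3) F}

theorem EData.gamma_pow (hE : EData R γ T) : γ ^ 3 = 1 := by
  apply Units.ext
  rw [Units.val_pow_eq_pow_val, Units.val_one]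
  exact (gamma_facts hE.h3 hE.hγ).1

theorem EData.gamma_ne_one (hE : EData R γ T) : γ ≠ 1 := by
  intro h
  apply (gamma_facts hE.h3 hE.hγ).2.2.1
  rw [h, Units.val_one]

theorem EData.gamma_inv (hE : EData R γ T) : γ⁻¹ = γ ^ 2 := by
  apply inv_eq_of_mul_eq_one_right
  rw [← pow_succ', hE.gamma_pow]

theorem EData.gamma_sq_inv (hE : EData R γ T) : (γ ^ 2)⁻¹ = γ := by
  apply inv_eq_of_mul_eq_one_right
  rw [← pow_succ, hE.gamma_pow]

theorem EData.Z0_mem (hE : EData R γ T) : Dg (fun _ => γ) ∈ std R T := by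
  have h1 : A0 γ * B0 = B0 * Dg ![γ, γ ^ 2, 1] := by
    rw [A0, Dg_mul_B0]
    congr 2
    funext j
    fin_cases j <;> rfl
  have h2 : Dg (fun _ => γ) = B0⁻¹ * A0 γ * B0 * (A0 γ)⁻¹ := by
    rw [mul_assoc B0⁻¹, h1, ← mul_assoc, inv_mul_cancel, one_mul, A0, Dg_inv, Dg_mul]
    congr 1
    funext j
    fin_cases j
    · simp
    · simp [pow_two]
    · simp [hE.gamma_sq_inv]
  rw [h2]
  exact mul_mem (mul_mem (mul_mem (inv_mem hE.hb) hE.ha) hE.hb) (inv_mem hE.ha)

theorem EData.exists_pow_eq (hE : EData R γ T) (u : Fˣ) (hu : u ^ 3 = 1) :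
    ∃ k : ℕ, u = γ ^ k := by
  have hu' : (u : F) ^ 3 = 1 := by
    rw [← Units.val_pow_eq_pow_val, hu, Units.val_one]
  have h : ((u : F) - 1) * (((u : F) - γ) * ((u : F) - (γ : F) ^ 2)) = 0 := by
    linear_combination hu' + (-(u : F) ^ 2 + (γ : F) * u - γ + 1) * hE.hγ
  rcases mul_eq_zero.1 h with h | h
  · exact ⟨0, Units.ext (by rw [pow_zero, Units.val_one]; exact sub_eq_zero.1 h)⟩
  rcases mul_eq_zero.1 h with h | h
  · exact ⟨1, Units.ext (by rw [pow_one]; exact sub_eq_zero.1 h)⟩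
  · exact ⟨2, Units.ext (by rw [Units.val_pow_eq_pow_val]; exact sub_eq_zero.1 h)⟩

theorem EData.Du_mem (hE : EData R γ T) (u : Fin 3 → Fˣ) (h0 : u 0 ^ 3 = 1) (h1 : u 1 ^ 3 = 1)
    (hprod : u 0 * u 1 * u 2 = 1) : Dg u ∈ std R T := by
  obtain ⟨k, hk⟩ := hE.exists_pow_eq (u 0) h0
  obtain ⟨i, hi⟩ := hE.exists_pow_eq (u 1 / u 0) (by rw [div_pow, h0, h1, div_one])
  have hu1 : u 1 = γ ^ k * γ ^ i := by
    rw [← hi, ← hk, mul_div_cancel]
  have hu2 : u 2 = γ ^ k * (γ ^ 2) ^ i := by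
    have e1 : u 0 * u 1 * (γ ^ k * (γ ^ 2) ^ i) = 1 := by
      have e : γ ^ k * (γ ^ k * γ ^ i) * (γ ^ k * (γ ^ 2) ^ i) = (γ ^ 3) ^ (k + i) := by
        simp only [← pow_mul, ← pow_add]
        congr 1
        ring
      rw [hk, hu1, e, hE.gamma_pow, one_pow]
    exact mul_left_cancel (hprod.trans e1.symm)
  have : Dg u = Dg (fun _ => γ) ^ k * A0 γ ^ i := by
    rw [A0, Dg_pow, Dg_pow, Dg_mul]
    congr 1
    funext j
    fin_cases j
    · simp [hk]
    · simp [hu1]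
    · simp [hu2]
  rw [this]
  exact mul_mem (pow_mem hE.Z0_mem k) (pow_mem hE.ha i)

theorem EData.mem_normalizer (hE : EData R γ T) (y : GL (Fin 3) F)
    (hA : y * A0 γ * y⁻¹ ∈ std R T) (hB : y * B0 * y⁻¹ ∈ std R T) :
    T * y * T⁻¹ ∈ Cfsg.Geo.subgroupNormalizer R := by
  haveI := hE.fin
  apply mem_normalizer_of_conj3 R
  intro x hx
  have hx0 : T⁻¹ * x * T ∈ std R T := by
    rw [mem_std]
    have : T * (T⁻¹ * x * T) * T⁻¹ = x := by group
    rw [this]; exact hx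
  have hS := hE.gen ((std R T).comap (MulAut.conj y).toMonoidHom) hA hB hx0
  have hS' : T * (y * (T⁻¹ * x * T) * y⁻¹) * T⁻¹ ∈ R := hS
  have : T * y * T⁻¹ * x * (T * y * T⁻¹)⁻¹ = T * (y * (T⁻¹ * x * T) * y⁻¹) * T⁻¹ := by group
  rw [this]; exact hS'

theorem EData.Y_mem (hE : EData R γ T) : T * Y0 * T⁻¹ ∈ Cfsg.Geo.subgroupNormalizer R := by
  apply hE.mem_normalizer
  · have : Y0 * A0 γ * Y0⁻¹ = (A0 γ)⁻¹ := by
      rw [A0, Y0_mul_Dg, mul_assoc, mul_inv_cancel, mul_one, Dg_inv]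
      congr 1
      funext j
      fin_cases j
      · simp
      · simp [hE.gamma_inv]
      · simp [hE.gamma_sq_inv]
    rw [this]; exact inv_mem hE.ha
  · have : (Y0 : GL (Fin 3) F) * B0 * Y0⁻¹ = B0⁻¹ := by rw [Y0_mul_B0, mul_assoc, mul_inv_cancel, mul_one]
    rw [this]; exact inv_mem hE.hb

theorem EData.Dg_mem (hE : EData R γ T) (d : Fin 3 → Fˣ) (z : Fˣ) (hd : ∀ j, d j ^ 3 = z) :
    T * Dg d * T⁻¹ ∈ Cfsg.Geo.subgroupNormalizer R := by
  apply hE.mem_normalizer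
  · have : Dg d * A0 γ * (Dg d)⁻¹ = A0 γ := by
      rw [A0, Dg_comm, mul_assoc, mul_inv_cancel, mul_one]
    rw [this]; exact hE.ha
  · have : Dg d * B0 * (Dg d)⁻¹ = B0 * Dg (fun j => d (j + 1) / d j) := by
      rw [Dg_mul_B0, mul_assoc, Dg_inv, Dg_mul]
      congr 2
    rw [this]
    apply mul_mem hE.hb
    have e2 : (2 : Fin 3) + 1 = 0 := rfl
    have e1 : (1 : Fin 3) + 1 = 2 := rfl
    have e0 : (0 : Fin 3) + 1 = 1 := rfl
    apply hE.Du_mem
    · show (d (0 + 1) / d 0) ^ 3 = 1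
      rw [div_pow, hd, hd, div_self']
    · show (d (1 + 1) / d 1) ^ 3 = 1
      rw [div_pow, hd, hd, div_self']
    · show d (0 + 1) / d 0 * (d (1 + 1) / d 1) * (d (2 + 1) / d 2) = 1
      rw [e0, e1, e2, mul_comm (d 1 / d 0), div_mul_div_cancel, div_mul_div_cancel, div_self']

theorem scalar_mem_normalizer (R : Subgroup (GL (Fin 3) F)) (c : Fˣ) :
    Dg (fun _ => c) ∈ Cfsg.Geo.subgroupNormalizer R := by
  unfold Cfsg.Geo.subgroupNormalizer
  rw [Subgroup.mem_set_normalizer_iff]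
  intro x
  rw [Dg_const_comm, mul_assoc, mul_inv_cancel, mul_one]

end data

section exist

theorem exists_edata (h3 : (3 : F) ≠ 0) {γ₀ : F} (hγ₀ : γ₀ ^ 2 + γ₀ + 1 = 0)
    (R : Subgroup (GL (Fin 3) F)) (hR : Nat.card R = 27) (hRe : Monoid.exponent R = 3)
    (hRna : ¬ IsMulCommutative R) : ∃ (γ : Fˣ) (T : GL (Fin 3) F), EData R γ T := by
  haveI : Finite ↥R := Nat.finite_of_card_ne_zero (by rw [hR]; norm_num)
  -- a non-commuting pair
  obtain ⟨a, b, hab⟩ : ∃ a b : ↥R, a * b ≠ b * a := by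
    by_contra hcon
    push Not at hcon
    exact hRna ⟨⟨hcon⟩⟩
  set c : ↥R := a * b * a⁻¹ * b⁻¹ with hc
  have hcZ : c ∈ Subgroup.center ↥R := commutator_mem_center hR a b
  have hc1 : c ≠ 1 := by
    intro h
    apply hab
    calc a * b = (a * b * a⁻¹ * b⁻¹) * (b * a) := by group
      _ = b * a := by rw [← hc, h, one_mul]
  have hexp : ∀ x : ↥R, x ^ 3 = 1 := fun x => by
    have := Monoid.pow_exponent_eq_one x
    rwa [hRe] at this
  have hca : c * a = a * c := (Subgroup.mem_center_iff.1 hcZ a).symm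
  have hcb : c * b = b * c := (Subgroup.mem_center_iff.1 hcZ b).symm
  have habc : a * b = c * b * a := by rw [hc]; group
  -- matrices
  let mat : ↥R → Matrix (Fin 3) (Fin 3) F := fun x => ((x : GL (Fin 3) F) : Matrix (Fin 3) (Fin 3) F)
  have mat_mul : ∀ x y : ↥R, mat (x * y) = mat x * mat y := fun x y => by
    simp only [mat, Subgroup.coe_mul, Units.val_mul]
  have mat_one : mat 1 = 1 := by simp only [mat, Subgroup.coe_one, Units.val_one]
  have mat_inj : ∀ x y : ↥R, mat x = mat y → x = y := fun x y h =>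
    Subtype.ext (Units.ext h)
  have mat_cube : ∀ x : ↥R, mat x * mat x * mat x = 1 := by
    intro x
    rw [← mat_mul, ← mat_mul, ← mat_one]
    congr 1
    rw [← hexp x, pow_succ, pow_two]
  have hC1 : mat c ≠ 1 := by
    intro h
    apply hc1
    apply mat_inj
    rw [h, mat_one]
  obtain ⟨γ, α, Tm, hγ, hα, hTu, hCm, hAT, hBT⟩ := exists_standard_form h3 hγ₀ (mat a) (mat b)
    (mat c) (mat_cube a) (mat_cube b) (mat_cube c)
    (by rw [← mat_mul, ← mat_mul, hca]) (by rw [← mat_mul, ← mat_mul, hcb])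
    (by rw [← mat_mul, ← mat_mul, ← mat_mul, habc]) hC1
  obtain ⟨hγ3, hγ0, hγ1, hγ21⟩ := gamma_facts h3 hγ
  set γu : Fˣ := Units.mk0 γ hγ0 with hγu
  set T : GL (Fin 3) F := hTu.unit with hTdef
  have hTval : (T : Matrix (Fin 3) (Fin 3) F) = Tm := IsUnit.unit_spec hTu
  obtain ⟨k, hk⟩ : ∃ k : ℕ, γ ^ k * α = 1 := by
    rcases hα with rfl | rfl | rfl
    · exact ⟨0, by simp⟩
    · exact ⟨2, by rw [← pow_succ]; exact hγ3⟩
    · exact ⟨1, by rw [pow_one, ← pow_succ']; exact hγ3⟩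
  set a' : ↥R := c ^ k * a with ha'
  have mat_pow : ∀ (x : ↥R) (n : ℕ), mat (x ^ n) = mat x ^ n := by
    intro x n
    simp only [mat, Subgroup.coe_pow, Units.val_pow_eq_pow_val]
  have ha'T : mat a' * Tm = Tm * diagonal ![1, γ, γ ^ 2] := by
    have : mat a' = γ ^ k • mat a := by
      rw [ha', mat_mul, mat_pow, hCm, smul_pow, one_pow, smul_mul_assoc, one_mul]
    rw [this, smul_mul_assoc, hAT, Matrix.mul_smul, smul_smul, hk, one_smul]
  have eA : T * A0 γu * T⁻¹ = (a' : GL (Fin 3) F) := by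
    rw [mul_inv_eq_iff_eq_mul]
    apply Units.ext
    rw [Units.val_mul, Units.val_mul, hTval, A0, Dg_val]
    show _ = mat a' * Tm
    rw [ha'T]
    congr 2
    funext j
    fin_cases j <;> simp [hγu]
  have eB : T * B0 * T⁻¹ = (b : GL (Fin 3) F) := by
    rw [mul_inv_eq_iff_eq_mul]
    apply Units.ext
    rw [Units.val_mul, Units.val_mul, hTval, B0_val]
    show _ = mat b * Tm
    rw [hBT]
  -- generation
  set H : Subgroup ↥R := Subgroup.closure {a', b} with hH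
  have ha'H : a' ∈ H := Subgroup.subset_closure (by simp)
  have hbH : b ∈ H := Subgroup.subset_closure (by simp)
  have hHtop : H = ⊤ := by
    have hdvd : Nat.card ↥H ∣ 27 := by
      rw [← hR]; exact Subgroup.card_subgroup_dvd_card H
    have hn9 : ¬ Nat.card ↥H ∣ 9 := by
      intro h9
      haveI := isMulCommutative_of_card_dvd_nine h9
      have hcomm : (⟨a', ha'H⟩ : ↥H) * ⟨b, hbH⟩ = ⟨b, hbH⟩ * ⟨a', ha'H⟩ :=
        IsMulCommutative.is_comm.comm _ _
      have hcomm' : a' * b = b * a' := congrArg Subtype.val hcomm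
      apply hab
      have hck : c ^ k ∈ Subgroup.center ↥R := Subgroup.pow_mem _ hcZ k
      have e1 : b * c ^ k = c ^ k * b := Subgroup.mem_center_iff.1 hck b
      have e2 : c ^ k * (a * b) = c ^ k * (b * a) := by
        calc c ^ k * (a * b) = a' * b := by rw [ha', mul_assoc]
          _ = b * a' := hcomm'
          _ = (b * c ^ k) * a := by rw [ha', mul_assoc]
          _ = c ^ k * (b * a) := by rw [e1, mul_assoc]
      exact mul_left_cancel e2
    have hmem : Nat.card ↥H ∈ Nat.divisors 27 := Nat.mem_divisors.2 ⟨hdvd, by norm_num⟩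
    have hdiv : Nat.divisors 27 = {1, 3, 9, 27} := by decide
    rw [hdiv] at hmem
    simp only [Finset.mem_insert, Finset.mem_singleton] at hmem
    rcases hmem with h | h | h | h
    · exact absurd (by rw [h]; norm_num) hn9
    · exact absurd (by rw [h]; norm_num) hn9
    · exact absurd (by rw [h]) hn9
    · exact Subgroup.eq_top_of_card_eq H (by rw [h, hR])
  refine ⟨γu, T, ⟨hγ, h3, ?_, ?_, ?_, inferInstance⟩⟩
  · rw [mem_std, eA]; exact a'.2
  · rw [mem_std, eB]; exact b.2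
  · intro S hAS hBS y hy
    rw [mem_std] at hy
    obtain ⟨S', hS'⟩ : ∃ S' : Subgroup ↥R, ∀ x : ↥R, x ∈ S' ↔
        T⁻¹ * (x : GL (Fin 3) F) * T ∈ S := by
      refine ⟨(S.comap (MulAut.conj T⁻¹).toMonoidHom).comap R.subtype, fun x => ?_⟩
      rw [Subgroup.mem_comap, Subgroup.mem_comap]
      simp only [Subgroup.coe_subtype, MulEquiv.coe_toMonoidHom, MulAut.conj_apply, inv_inv]
    have hle : H ≤ S' := by
      rw [hH, Subgroup.closure_le]
      intro x hx
      simp only [Set.mem_insert_iff, Set.mem_singleton_iff] at hx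
      rcases hx with rfl | rfl
      · rw [SetLike.mem_coe, hS', ← eA]
        have : T⁻¹ * (T * A0 γu * T⁻¹) * T = A0 γu := by group
        rw [this]; exact hAS
      · rw [SetLike.mem_coe, hS', ← eB]
        have : T⁻¹ * (T * B0 * T⁻¹) * T = (B0 : GL (Fin 3) F) := by group
        rw [this]; exact hBS
    have hyH : (⟨T * y * T⁻¹, hy⟩ : ↥R) ∈ H := by rw [hHtop]; exact Subgroup.mem_top _
    have hyS := (hS' _).1 (hle hyH)
    have : T⁻¹ * (T * y * T⁻¹) * T = y := by group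
    rw [this] at hyS
    exact hyS

end exist

end Cfsg.Agent.Helper13.E27
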