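import Mathlib

set_option autoImplicit false
set_option linter.style.haveILetI false
set_option linter.unusedSectionVars false
set_option linter.unusedVariables false

namespace Cfsg.Agent.Helper13.InvTow

open Module Polynomial

variable {F V : Type*} [Field F] [AddCommGroup V] [Module F V]

/-- `W` is invariant under `f`. -/
def Inv (f : V →ₗ[F] V) (W : Submodule F V) : Prop := ∀ v ∈ W, f v ∈ W

theorem inv_iff_map_le (f : V →ₗ[F] V) (W : Submodule F V) : Inv f W ↔ W.map f ≤ W := by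
  constructor
  · rintro h _ ⟨v, hv, rfl⟩; exact h v hv
  · intro h v hv; exact h ⟨v, hv, rfl⟩

theorem Inv.pow {f : V →ₗ[F] V} {W : Submodule F V} (h : Inv f W) (k : ℕ) :
    ∀ v ∈ W, (f ^ k) v ∈ W := by
  induction k with
  | zero => intro v hv; simpa using hv
  | succ k ih =>
    intro v hv
    rw [pow_succ, Module.End.mul_apply]
    exact ih _ (h v hv)

theorem Inv.aeval {f : V →ₗ[F] V} {W : Submodule F V} (h : Inv f W) (P : F[X]) :
    ∀ v ∈ W, (Polynomial.aeval f P) v ∈ W := by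
  intro v hv
  rw [Polynomial.aeval_eq_sum_range, LinearMap.sum_apply]
  apply Submodule.sum_mem
  intro k _
  rw [LinearMap.smul_apply]
  exact W.smul_mem _ (h.pow k v hv)

theorem inv_bot (f : V →ₗ[F] V) : Inv f ⊥ := by
  intro v hv
  rw [Submodule.mem_bot] at hv
  rw [hv, map_zero]
  exact Submodule.zero_mem _

theorem inv_top (f : V →ₗ[F] V) : Inv f ⊤ := fun _ _ => Submodule.mem_top

theorem Inv.sup {f : V →ₗ[F] V} {W W' : Submodule F V} (h : Inv f W) (h' : Inv f W') :
    Inv f (W ⊔ W') := by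
  intro v hv
  obtain ⟨a, ha, b, hb, rfl⟩ := Submodule.mem_sup.mp hv
  rw [map_add]
  exact Submodule.add_mem _ (Submodule.mem_sup_left (h a ha)) (Submodule.mem_sup_right (h' b hb))

/-- the evaluation map `Q ↦ Q(f) w`. -/
noncomputable def evalAt (f : V →ₗ[F] V) (w : V) : F[X] →ₗ[F] V where
  toFun Q := (Polynomial.aeval f Q) w
  map_add' Q Q' := by simp
  map_smul' c Q := by simp

@[simp] theorem evalAt_apply (f : V →ₗ[F] V) (w : V) (Q : F[X]) :
    evalAt f w Q = (Polynomial.aeval f Q) w := rfl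

theorem inv_range_evalAt (f : V →ₗ[F] V) (w : V) : Inv f (LinearMap.range (evalAt f w)) := by
  rintro _ ⟨Q, rfl⟩
  refine ⟨X * Q, ?_⟩
  simp [Module.End.mul_apply]

/-- find an irreducible factor `g` of `P` and `w ∈ T ∖ Z` with `g(f) w ∈ Z`. -/
theorem exists_irreducible_step (f : V →ₗ[F] V) (Z T : Submodule F V) (hZ : Inv f Z)
    (hT : Inv f T) (P : F[X]) :
    ∀ d : ℕ, ∀ Q : F[X], Q.natDegree = d → Q ∣ P → Q ≠ 0 → ∀ v ∈ T, v ∉ Z →
      (Polynomial.aeval f Q) v ∈ Z →
      ∃ (g : F[X]) (w : V), Irreducible g ∧ g ∣ P ∧ w ∈ T ∧ w ∉ Z ∧ (Polynomial.aeval f g) w ∈ Z := by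
  intro d
  induction d using Nat.strong_induction_on with
  | _ d ih =>
    intro Q hQd hQP hQ0 v hvT hvZ hQv
    have hnu : ¬ IsUnit Q := by
      intro hu
      obtain ⟨c, hc, rfl⟩ := Polynomial.isUnit_iff.mp hu
      rw [Polynomial.aeval_C, Module.algebraMap_end_apply] at hQv
      apply hvZ
      have := Z.smul_mem (hc.unit⁻¹ : Fˣ).val hQv
      rwa [smul_smul, IsUnit.val_inv_mul, one_smul] at this
    obtain ⟨g, hg, Q', rfl⟩ := WfDvdMonoid.exists_irreducible_factor hnu hQ0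
    have hQ'0 : Q' ≠ 0 := fun h => hQ0 (by rw [h, mul_zero])
    by_cases hw : (Polynomial.aeval f Q') v ∈ Z
    · refine ih Q'.natDegree ?_ Q' rfl ((dvd_mul_left Q' g).trans hQP) hQ'0 v hvT hvZ hw
      rw [← hQd, Polynomial.natDegree_mul hg.ne_zero hQ'0]
      have := hg.natDegree_pos
      omega
    · refine ⟨g, (Polynomial.aeval f Q') v, hg, (dvd_mul_right g Q').trans hQP,
        hT.aeval Q' v hvT, hw, ?_⟩
      rw [← Module.End.mul_apply, ← map_mul]
      exact hQv

/-- key independence: if `g` is irreducible, `g(f) w ∈ Z`, `w ∉ Z`, and `Q(f) w ∈ Z` with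
`deg Q < deg g` then `Q = 0`. -/
theorem eq_zero_of_aeval_mem (f : V →ₗ[F] V) (Z : Submodule F V) (hZ : Inv f Z)
    (g : F[X]) (hg : Irreducible g) (w : V) (hwZ : w ∉ Z) (hgw : (Polynomial.aeval f g) w ∈ Z)
    (Q : F[X]) (hQ : Q.natDegree < g.natDegree ∨ Q = 0) (hQw : (Polynomial.aeval f Q) w ∈ Z) :
    Q = 0 := by
  by_contra hQ0
  have hdeg : Q.natDegree < g.natDegree := by
    rcases hQ with h | h
    · exact h
    · exact absurd h hQ0
  have hnd : ¬ g ∣ Q := by
    intro h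
    have := Polynomial.natDegree_le_of_dvd h hQ0
    omega
  have hcop : IsCoprime g Q := (Irreducible.coprime_iff_not_dvd hg).mpr hnd
  obtain ⟨a, b, hab⟩ := hcop
  apply hwZ
  have h1 : w = (Polynomial.aeval f (a * g + b * Q)) w := by rw [hab]; simp
  rw [h1, map_add, LinearMap.add_apply, map_mul, map_mul, Module.End.mul_apply,
    Module.End.mul_apply]
  exact Z.add_mem (hZ.aeval a _ hgw) (hZ.aeval b _ hQw)

theorem tower_step [FiniteDimensional F V] (f : V →ₗ[F] V) (Z T : Submodule F V) (hZ : Inv f Z)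
    (hT : Inv f T) (hZT : Z ≤ T) (hne : Z ≠ T) (P : F[X]) (hP0 : P ≠ 0)
    (hP : ∀ v ∈ T, (Polynomial.aeval f P) v ∈ Z) (e : ℕ)
    (hdeg : ∀ g : F[X], Irreducible g → g ∣ P → g.natDegree = e) :
    ∃ Z' : Submodule F V, Inv f Z' ∧ Z ≤ Z' ∧ Z' ≤ T ∧ finrank F Z' = finrank F Z + e := by
  classical
  obtain ⟨v, hvT, hvZ⟩ : ∃ v ∈ T, v ∉ Z := by
    by_contra hcon
    push Not at hcon
    exact hne (le_antisymm hZT hcon)
  obtain ⟨g, w, hg, hgP, hwT, hwZ, hgw⟩ :=
    exists_irreducible_step f Z T hZ hT P P.natDegree P rfl dvd_rfl hP0 v hvT hvZ (hP v hvT)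
  have hge : g.natDegree = e := hdeg g hg hgP
  set S : Submodule F V := (Polynomial.degreeLT F e).map (evalAt f w) with hS
  set R : Submodule F V := LinearMap.range (evalAt f w) with hR
  have hSR : S ≤ R := by
    rintro _ ⟨Q, -, rfl⟩; exact ⟨Q, rfl⟩
  -- Z ⊔ R = Z ⊔ S
  have hRS : R ≤ Z ⊔ S := by
    rintro _ ⟨Q, rfl⟩
    rw [evalAt_apply]
    have hmod := EuclideanDomain.div_add_mod Q g
    rw [mul_comm] at hmod
    rw [← hmod, map_add, LinearMap.add_apply, map_mul, Module.End.mul_apply]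
    apply Submodule.add_mem
    · apply Submodule.mem_sup_left
      exact hZ.aeval _ _ hgw
    · apply Submodule.mem_sup_right
      refine ⟨Q % g, ?_, rfl⟩
      rw [SetLike.mem_coe, Polynomial.mem_degreeLT, ← hge]
      calc (Q % g).degree < g.degree := EuclideanDomain.mod_lt Q hg.ne_zero
        _ = (g.natDegree : WithBot ℕ) := Polynomial.degree_eq_natDegree hg.ne_zero
  have hsup : Z ⊔ R = Z ⊔ S := le_antisymm (sup_le le_sup_left hRS) (sup_le_sup_left hSR Z)
  have hRT : R ≤ T := by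
    rintro _ ⟨Q, rfl⟩
    exact hT.aeval Q w hwT
  -- independence
  have hindep : ∀ Q ∈ Polynomial.degreeLT F e, evalAt f w Q ∈ Z → Q = 0 := by
    intro Q hQ hQZ
    apply eq_zero_of_aeval_mem f Z hZ g hg w hwZ hgw Q _ hQZ
    by_cases hQ0 : Q = 0
    · right; exact hQ0
    · left
      rw [Polynomial.mem_degreeLT, Polynomial.degree_eq_natDegree hQ0] at hQ
      rw [hge]
      exact_mod_cast hQ
  have hdisj : Z ⊓ S = ⊥ := by
    rw [eq_bot_iff]
    rintro u ⟨huZ, Q, hQ, rfl⟩
    rw [hindep Q hQ huZ, map_zero]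
    exact Submodule.zero_mem _
  have hinj : Function.Injective ((evalAt f w).domRestrict (Polynomial.degreeLT F e)) := by
    rw [← LinearMap.ker_eq_bot, eq_bot_iff]
    intro Q hQ
    rw [LinearMap.mem_ker, LinearMap.domRestrict_apply] at hQ
    have := hindep Q.1 Q.2 (by rw [hQ]; exact Submodule.zero_mem _)
    rw [Submodule.mem_bot]
    exact Subtype.ext this
  have hSdim : finrank F S = e := by
    have h1 : S = LinearMap.range ((evalAt f w).domRestrict (Polynomial.degreeLT F e)) := by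
      rw [hS, LinearMap.range_domRestrict]
    rw [h1, LinearMap.finrank_range_of_inj hinj,
      (Polynomial.degreeLTEquiv F e).finrank_eq, Module.finrank_fin_fun]
  refine ⟨Z ⊔ R, hZ.sup (inv_range_evalAt f w), le_sup_left, sup_le hZT hRT, ?_⟩
  rw [hsup]
  have := Submodule.finrank_sup_add_finrank_inf_eq Z S
  rw [hdisj, finrank_bot, add_zero, hSdim] at this
  exact this

theorem exists_inv_finrank [FiniteDimensional F V] (f : V →ₗ[F] V) (T : Submodule F V)
    (hT : Inv f T) (P : F[X]) (hP0 : P ≠ 0)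
    (hP : ∀ v ∈ T, (Polynomial.aeval f P) v = 0) (e : ℕ) (he : 1 ≤ e)
    (hdeg : ∀ g : F[X], Irreducible g → g ∣ P → g.natDegree = e) :
    ∀ b : ℕ, e * b ≤ finrank F T →
      ∃ Z : Submodule F V, Inv f Z ∧ Z ≤ T ∧ finrank F Z = e * b := by
  intro b
  induction b with
  | zero => intro _; exact ⟨⊥, inv_bot f, bot_le, by simp⟩
  | succ b ih =>
    intro hb
    obtain ⟨Z, hZ, hZT, hZd⟩ := ih (by rw [mul_add] at hb; omega)
    have hne : Z ≠ T := by
      intro h
      rw [h] at hZd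
      rw [mul_add] at hb
      omega
    obtain ⟨Z', hZ', -, hZ'T, hZ'd⟩ := tower_step f Z T hZ hT hZT hne P hP0
      (fun v hv => by rw [hP v hv]; exact Submodule.zero_mem _) e hdeg
    exact ⟨Z', hZ', hZ'T, by rw [hZ'd, hZd, mul_add, mul_one]⟩

theorem dvd_finrank_of_inv [FiniteDimensional F V] (f : V →ₗ[F] V) (T : Submodule F V)
    (hT : Inv f T) (P : F[X]) (hP0 : P ≠ 0)
    (hP : ∀ v ∈ T, (Polynomial.aeval f P) v = 0) (e : ℕ) (he : 1 ≤ e)
    (hdeg : ∀ g : F[X], Irreducible g → g ∣ P → g.natDegree = e) :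
    e ∣ finrank F T := by
  obtain ⟨Z, hZ, hZT, hZd⟩ := exists_inv_finrank f T hT P hP0 hP e he hdeg (finrank F T / e)
    (Nat.mul_div_le _ _)
  by_cases hne : Z = T
  · rw [← hne, hZd]; exact dvd_mul_right _ _
  · exfalso
    obtain ⟨Z', hZ', -, hZ'T, hZ'd⟩ := tower_step f Z T hZ hT hZT hne P hP0
      (fun v hv => by rw [hP v hv]; exact Submodule.zero_mem _) e hdeg
    have h1 := Submodule.finrank_mono hZ'T
    have h2 : finrank F T < e * (finrank F T / e) + e := by
      have := Nat.lt_mul_div_succ (finrank F T) (by omega : 0 < e)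
      rw [mul_add, mul_one] at this
      exact this
    omega

end Cfsg.Agent.Helper13.InvTow
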