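import Mathlib
import Cfsg.Agent.Lib.Helper13.InvariantTower

set_option autoImplicit false
set_option linter.style.haveILetI false
set_option linter.unusedSectionVars false
set_option linter.unusedVariables false

namespace Cfsg.Agent.Helper13.POS

open Module Polynomial Cfsg.Agent.Helper13.InvTow

variable {F : Type*} [Field F] [Fintype F]

/-- degree of irreducible factors of the `r`-th cyclotomic polynomial over a finite field. -/
theorem natDegree_of_irreducible_dvd_cyclotomic (r : ℕ) [Fact r.Prime] (hrF : (r : F) ≠ 0)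
    (g : F[X]) (hg : Irreducible g) (hgΦ : g ∣ cyclotomic r F) :
    g.natDegree = orderOf ((Fintype.card F : ℕ) : ZMod r) := by
  obtain ⟨p, hp⟩ := CharP.exists F
  haveI : Fact p.Prime := ⟨CharP.char_is_prime F p⟩
  obtain ⟨f, -, hf⟩ := FiniteField.card F p
  have hr : r.Prime := Fact.out
  have hpr : p.Coprime r := by
    rw [Nat.coprime_primes (Fact.out : p.Prime) hr]
    rintro rfl
    exact hrF (CharP.cast_eq_zero F p)
  rw [natDegree_of_dvd_cyclotomic_of_irreducible hf hpr hgΦ hg, ← orderOf_units,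
    ZMod.coe_unitOfCoprime, hf]

theorem pow_card_eq_one_iff (r : ℕ) [Fact r.Prime] (q d : ℕ) (hq : 0 < q) :
    r ∣ q ^ d - 1 ↔ orderOf ((q : ℕ) : ZMod r) ∣ d := by
  rw [orderOf_dvd_iff_pow_eq_one, ← Nat.cast_pow, ← Nat.cast_one (R := ZMod r),
    ZMod.natCast_eq_natCast_iff]
  have h1 : 1 ≤ q ^ d := Nat.one_le_pow _ _ hq
  constructor
  · intro h
    exact ((Nat.modEq_iff_dvd' h1).mpr h).symm
  · intro h
    exact (Nat.modEq_iff_dvd' h1).mp h.symm

variable {V : Type*} [AddCommGroup V] [Module F V] [FiniteDimensional F V]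

/-- free action: for `f ^ r = 1` and an invariant subspace `W`, the number of non-fixed vectors
of `W` is divisible by `r`. -/
theorem card_modEq_of_pow_eq_one (r : ℕ) [Fact r.Prime] (f : V →ₗ[F] V) (hf : f ^ r = 1)
    (W : Submodule F V) (hW : Inv f W) :
    Fintype.card F ^ finrank F W ≡
      Fintype.card F ^ finrank F ↥(W ⊓ LinearMap.ker (f - 1)) [MOD r] := by
  classical
  haveI : Finite V := Module.finite_of_finite F
  haveI : Fintype W := Fintype.ofFinite _
  haveI : Fintype ↥(W ⊓ LinearMap.ker (f - 1)) := Fintype.ofFinite _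
  let g : Function.End W := fun w => ⟨f w.1, hW w.1 w.2⟩
  have hgpow : ∀ k : ℕ, ∀ w : W, ((g ^ k) w : V) = (f ^ k) w.1 := by
    intro k
    induction k with
    | zero => intro w; rfl
    | succ k ih =>
      intro w
      rw [pow_succ, pow_succ, Module.End.mul_apply]
      change ((g ^ k) (g w) : V) = _
      rw [ih]
  have hg : g ^ r ^ 1 = 1 := by
    rw [pow_one]
    funext w
    apply Subtype.ext
    rw [hgpow, hf]
    rfl
  have h1 := Equiv.Perm.card_fixedPoints_modEq (p := r) (n := 1) hg
  have e : Function.fixedPoints g ≃ ↥(W ⊓ LinearMap.ker (f - 1)) :=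
    { toFun := fun w => ⟨w.1.1, w.1.2, by
        have := w.2
        rw [Function.mem_fixedPoints, Function.IsFixedPt] at this
        have h2 : f w.1.1 = w.1.1 := congrArg Subtype.val this
        change w.1.1 ∈ LinearMap.ker (f - 1)
        rw [LinearMap.mem_ker, LinearMap.sub_apply, h2]
        simp⟩
      invFun := fun w => ⟨⟨w.1, w.2.1⟩, by
        have := w.2.2
        change w.1 ∈ LinearMap.ker (f - 1) at this
        rw [LinearMap.mem_ker, LinearMap.sub_apply, sub_eq_zero] at this
        rw [Function.mem_fixedPoints, Function.IsFixedPt]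
        apply Subtype.ext
        exact this⟩
      left_inv := fun w => by ext; rfl
      right_inv := fun w => by ext; rfl }
  rw [Fintype.card_congr e, Module.card_eq_pow_finrank (K := F) (V := W),
    Module.card_eq_pow_finrank (K := F) (V := ↥(W ⊓ LinearMap.ker (f - 1)))] at h1
  exact h1

theorem orderOf_dvd_finrank_sub (r : ℕ) [Fact r.Prime] (hrF : (r : F) ≠ 0)
    (f : V →ₗ[F] V) (hf : f ^ r = 1) (W : Submodule F V) (hW : Inv f W) :
    orderOf ((Fintype.card F : ℕ) : ZMod r) ∣
      finrank F W - finrank F ↥(W ⊓ LinearMap.ker (f - 1)) := by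
  have h := card_modEq_of_pow_eq_one r f hf W hW
  set a := finrank F W
  set b := finrank F ↥(W ⊓ LinearMap.ker (f - 1))
  have hba : b ≤ a := Submodule.finrank_mono inf_le_left
  have hr : r.Prime := Fact.out
  have hcop : Nat.Coprime (Fintype.card F) r := by
    rw [Nat.coprime_comm, hr.coprime_iff_not_dvd]
    intro hdvd
    obtain ⟨p, hp⟩ := CharP.exists F
    haveI : Fact p.Prime := ⟨CharP.char_is_prime F p⟩
    obtain ⟨k, -, hk⟩ := FiniteField.card F p
    rw [hk] at hdvd
    have := (Nat.prime_dvd_prime_iff_eq hr (Fact.out : p.Prime)).mp (hr.dvd_of_dvd_pow hdvd)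
    apply hrF
    rw [this]
    exact CharP.cast_eq_zero F p
  rw [← pow_card_eq_one_iff r _ _ Fintype.card_pos]
  have h1 : Fintype.card F ^ (a - b) * Fintype.card F ^ b ≡ 1 * Fintype.card F ^ b [MOD r] := by
    rw [← pow_add, Nat.sub_add_cancel hba, one_mul]
    exact h
  have h2 := Nat.ModEq.cancel_right_of_coprime
    (show r.gcd (Fintype.card F ^ b) = 1 from Nat.Coprime.pow_right _ hcop.symm) h1
  have h3 : 1 ≤ Fintype.card F ^ (a - b) := Nat.one_le_pow _ _ Fintype.card_pos
  exact (Nat.modEq_iff_dvd' h3).mp h2.symm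


end Cfsg.Agent.Helper13.POS

namespace Cfsg.Agent.Helper13.POS

open Module Polynomial Cfsg.Agent.Helper13.InvTow

variable {F : Type*} [Field F] [Fintype F]

theorem orderOf_card_pos (r : ℕ) [Fact r.Prime] (hrF : (r : F) ≠ 0) :
    0 < orderOf ((Fintype.card F : ℕ) : ZMod r) := by
  have hr : r.Prime := Fact.out
  have hne : ((Fintype.card F : ℕ) : ZMod r) ≠ 0 := by
    intro h0
    rw [ZMod.natCast_eq_zero_iff] at h0
    obtain ⟨p, hp⟩ := CharP.exists F
    haveI : Fact p.Prime := ⟨CharP.char_is_prime F p⟩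
    obtain ⟨k, -, hk⟩ := FiniteField.card F p
    rw [hk] at h0
    have := (Nat.prime_dvd_prime_iff_eq hr (Fact.out : p.Prime)).mp (hr.dvd_of_dvd_pow h0)
    apply hrF
    rw [this]
    exact CharP.cast_eq_zero F p
  rw [orderOf_pos_iff, isOfFinOrder_iff_pow_eq_one]
  exact ⟨r - 1, by have := hr.two_le; omega, ZMod.pow_card_sub_one_eq_one hne⟩

variable {V : Type*} [AddCommGroup V] [Module F V]

omit [Fintype F] in
theorem inv_ker_aeval (f : V →ₗ[F] V) (P : F[X]) : Inv f (LinearMap.ker (aeval f P)) := by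
  intro v hv
  rw [LinearMap.mem_ker] at hv ⊢
  have : (aeval f P) (f v) = (aeval f (P * X)) v := by
    rw [map_mul, aeval_X, Module.End.mul_apply]
  rw [this, mul_comm, map_mul, aeval_X, Module.End.mul_apply, hv, map_zero]

omit [Fintype F] in
theorem exists_le_finrank_eq [FiniteDimensional F V] (C : Submodule F V) (c : ℕ)
    (hc : c ≤ finrank F C) : ∃ C' : Submodule F V, C' ≤ C ∧ finrank F C' = c := by
  obtain ⟨b, hb⟩ := exists_linearIndependent_of_le_finrank hc
  refine ⟨(Submodule.span F (Set.range b)).map C.subtype, ?_, ?_⟩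
  · rintro x ⟨y, -, rfl⟩
    exact y.2
  · rw [(Submodule.equivMapOfInjective C.subtype C.injective_subtype _).symm.finrank_eq,
      finrank_span_eq_card hb, Fintype.card_fin]

variable [FiniteDimensional F V]

/-- the two primary components of an element of prime order `r`. -/
theorem isCompl_ker_of_pow_eq_one (r : ℕ) [Fact r.Prime] (hrF : (r : F) ≠ 0)
    (f : V →ₗ[F] V) (hf : f ^ r = 1) :
    IsCompl (LinearMap.ker (aeval f (cyclotomic r F))) (LinearMap.ker (f - 1)) := by
  have hcop : IsCoprime (cyclotomic r F) (X - 1 : F[X]) := by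
    apply IsCoprime.symm
    have hirr : Irreducible (X - C (1 : F)) := irreducible_X_sub_C 1
    rw [← C_1]
    apply (Irreducible.coprime_iff_not_dvd hirr).mpr
    rw [dvd_iff_isRoot, IsRoot.def, eval_one_cyclotomic_prime]
    exact hrF
  have h1 : aeval f (X - 1 : F[X]) = f - 1 := by simp
  have hd := disjoint_ker_aeval_of_isCoprime f hcop
  have hs := sup_ker_aeval_eq_ker_aeval_mul_of_coprime f hcop
  rw [cyclotomic_prime_mul_X_sub_one] at hs
  have h2 : aeval f (X ^ r - 1 : F[X]) = 0 := by simp [hf]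
  rw [h2, LinearMap.ker_zero, h1] at hs
  rw [h1] at hd
  exact ⟨hd, codisjoint_iff.mpr hs⟩

/-- invariant subspaces of prescribed dimension for an element of prime order. -/
theorem exists_inv_of_pow_eq_one (r : ℕ) [Fact r.Prime] (hrF : (r : F) ≠ 0)
    (f : V →ₗ[F] V) (hf : f ^ r = 1) (n m : ℕ) (hn : finrank F V = n) (hm : m ≤ n)
    (h : m % orderOf ((Fintype.card F : ℕ) : ZMod r) ≤
      n % orderOf ((Fintype.card F : ℕ) : ZMod r)) :
    ∃ W : Submodule F V, Inv f W ∧ finrank F W = m := by
  set i := orderOf ((Fintype.card F : ℕ) : ZMod r) with hi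
  have hipos : 0 < i := orderOf_card_pos r hrF
  set V₁ := LinearMap.ker (aeval f (cyclotomic r F)) with hV₁
  set V₀ := LinearMap.ker (f - 1) with hV₀
  have hcompl : IsCompl V₁ V₀ := isCompl_ker_of_pow_eq_one r hrF f hf
  have hdim : finrank F V₁ + finrank F V₀ = n := by
    rw [← hn]
    exact Submodule.finrank_add_eq_of_isCompl hcompl
  have hV₁inv : Inv f V₁ := inv_ker_aeval f _
  have hdvd : i ∣ finrank F V₁ :=
    dvd_finrank_of_inv f V₁ hV₁inv (cyclotomic r F) (cyclotomic_ne_zero r F)
      (fun v hv => LinearMap.mem_ker.mp hv) i hipos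
      (fun g hg hgΦ => natDegree_of_irreducible_dvd_cyclotomic r hrF g hg hgΦ)
  obtain ⟨a, ha⟩ := hdvd
  set b := min a (m / i) with hb
  have hbm : i * b ≤ m := by
    calc i * b ≤ i * (m / i) := Nat.mul_le_mul_left _ (min_le_right _ _)
      _ ≤ m := Nat.mul_div_le _ _
  have hba : i * b ≤ i * a := Nat.mul_le_mul_left _ (min_le_left _ _)
  obtain ⟨Z, hZinv, hZV₁, hZd⟩ :=
    exists_inv_finrank f V₁ hV₁inv (cyclotomic r F) (cyclotomic_ne_zero r F)
      (fun v hv => LinearMap.mem_ker.mp hv) i hipos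
      (fun g hg hgΦ => natDegree_of_irreducible_dvd_cyclotomic r hrF g hg hgΦ) b
      (by rw [ha]; exact hba)
  have hc : m - i * b ≤ finrank F V₀ := by
    have hV₀d : finrank F V₀ = n - i * a := by omega
    rw [hV₀d]
    have hian : i * a ≤ n := by omega
    rcases le_total a (m / i) with hle | hle
    · have : b = a := min_eq_left hle
      rw [this]; omega
    · have hbe : b = m / i := min_eq_right hle
      rw [hbe]
      have h1 : m - i * (m / i) = m % i := by
        have := Nat.div_add_mod m i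
        omega
      rw [h1]
      have han : a ≤ n / i := (Nat.le_div_iff_mul_le hipos).mpr (by rw [mul_comm]; exact hian)
      have h2 : i * a ≤ i * (n / i) := Nat.mul_le_mul_left _ han
      have h3 := Nat.div_add_mod n i
      omega
  obtain ⟨C, hCV₀, hCd⟩ := exists_le_finrank_eq V₀ (m - i * b) hc
  have hCinv : Inv f C := by
    intro v hv
    have := hCV₀ hv
    rw [hV₀, LinearMap.mem_ker, LinearMap.sub_apply, sub_eq_zero] at this
    rw [this]
    exact hv
  refine ⟨Z ⊔ C, hZinv.sup hCinv, ?_⟩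
  have hdisj : Z ⊓ C = ⊥ := by
    rw [eq_bot_iff]
    calc Z ⊓ C ≤ V₁ ⊓ V₀ := inf_le_inf hZV₁ hCV₀
      _ = ⊥ := hcompl.inf_eq_bot
  have := Submodule.finrank_sup_add_finrank_inf_eq Z C
  rw [hdisj, finrank_bot, add_zero, hZd, hCd] at this
  omega

end Cfsg.Agent.Helper13.POS

namespace Cfsg.Agent.Helper13.POS

open Module Polynomial Cfsg.Agent.Helper13.InvTow

universe u

variable {F : Type*} [Field F]

theorem natDegree_of_dvd_irreducible (P g : F[X]) (hP : Irreducible P) (hg : Irreducible g)
    (h : g ∣ P) : g.natDegree = P.natDegree := by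
  have hassoc : Associated g P := hg.associated_of_dvd hP h
  exact Polynomial.natDegree_eq_of_degree_eq (Polynomial.degree_eq_degree_of_associated hassoc)

theorem natDegree_X_pow_sub_C' (r : ℕ) (hr : 0 < r) (c : F) :
    (X ^ r - C c : F[X]).natDegree = r := natDegree_X_pow_sub_C

theorem aeval_X_pow_sub_C_eq_zero {V : Type*} [AddCommGroup V] [Module F V] (r : ℕ) (c : F)
    (f : V →ₗ[F] V) (hf : f ^ r = c • 1) : aeval f (X ^ r - C c : F[X]) = 0 := by
  rw [map_sub, map_pow, aeval_X, aeval_C, hf, Algebra.algebraMap_eq_smul_one, sub_self]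

/-- invariant subspaces for `f ^ r = c` with `X ^ r - c` irreducible have dimension divisible
by `r`. -/
theorem dvd_finrank_of_irreducible {V : Type*} [AddCommGroup V] [Module F V]
    [FiniteDimensional F V] (r : ℕ) (hr : 0 < r) (c : F)
    (hirr : Irreducible (X ^ r - C c : F[X])) (f : V →ₗ[F] V) (hf : f ^ r = c • 1)
    (T : Submodule F V) (hT : Inv f T) : r ∣ finrank F T :=
  dvd_finrank_of_inv f T hT (X ^ r - C c) hirr.ne_zero
    (fun v _ => by rw [aeval_X_pow_sub_C_eq_zero r c f hf]; rfl) r hr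
    (fun g hg hgP => by
      rw [natDegree_of_dvd_irreducible _ g hirr hg hgP, natDegree_X_pow_sub_C])

theorem exists_inv_of_irreducible {V : Type*} [AddCommGroup V] [Module F V]
    [FiniteDimensional F V] (r : ℕ) (hr : 0 < r) (c : F)
    (hirr : Irreducible (X ^ r - C c : F[X])) (f : V →ₗ[F] V) (hf : f ^ r = c • 1)
    (b : ℕ) (hb : r * b ≤ finrank F V) :
    ∃ Z : Submodule F V, Inv f Z ∧ finrank F Z = r * b := by
  obtain ⟨Z, hZ, -, hZd⟩ := exists_inv_finrank f ⊤ (inv_top f) (X ^ r - C c) hirr.ne_zero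
    (fun v _ => by rw [aeval_X_pow_sub_C_eq_zero r c f hf]; rfl) r hr
    (fun g hg hgP => by
      rw [natDegree_of_dvd_irreducible _ g hirr hg hgP, natDegree_X_pow_sub_C]) b
    (by rw [finrank_top]; exact hb)
  exact ⟨Z, hZ, hZd⟩

/-- determinant of `f` with `f ^ r = c` and `X ^ r - c` irreducible. -/
theorem det_of_irreducible (r : ℕ) (hr : 0 < r) (c : F)
    (hirr : Irreducible (X ^ r - C c : F[X])) :
    ∀ d : ℕ, ∀ (V : Type u) [AddCommGroup V] [Module F V] [FiniteDimensional F V]
      (f : V →ₗ[F] V), f ^ r = c • 1 → finrank F V = d →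
      LinearMap.det f = ((-1) ^ (r + 1) * c) ^ (d / r) := by
  intro d
  induction d using Nat.strong_induction_on with
  | _ d ih =>
    intro V _ _ _ f hf hd
    rcases Nat.eq_zero_or_pos d with h0 | hpos
    · subst h0
      rw [Nat.zero_div, pow_zero]
      exact LinearMap.det_eq_one_of_finrank_eq_zero hd f
    · have hrd : r ∣ d := by
        have := dvd_finrank_of_irreducible r hr c hirr f hf ⊤ (inv_top f)
        rwa [finrank_top, hd] at this
      obtain ⟨t, rfl⟩ := hrd
      have htpos : 0 < t := by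
        rcases Nat.eq_zero_or_pos t with h | h
        · rw [h, mul_zero] at hpos; omega
        · exact h
      obtain ⟨Z, hZ, hZd⟩ := exists_inv_of_irreducible r hr c hirr f hf 1
        (by rw [hd, mul_one]; exact Nat.le_mul_of_pos_right r htpos)
      rw [mul_one] at hZd
      have he : Z ≤ Z.comap f := fun v hv => hZ v hv
      rw [LinearMap.det_eq_det_mul_det Z f he]
      -- restriction
      have hres : LinearMap.det (f.restrict he) = (-1) ^ (r + 1) * c := by
        set f' := f.restrict he with hf'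
        have hf'pow : f' ^ r = c • 1 := by
          apply LinearMap.ext
          intro v
          apply Subtype.ext
          rw [hf', Module.End.pow_restrict r, LinearMap.coe_restrict_apply, hf]
          rfl
        have hae : aeval f' (X ^ r - C c : F[X]) = 0 := aeval_X_pow_sub_C_eq_zero r c f' hf'pow
        have hmono : (X ^ r - C c : F[X]).Monic := monic_X_pow_sub_C c hr.ne'
        haveI : Nontrivial (Module.End F Z) := by
          haveI : Nontrivial Z := Module.nontrivial_of_finrank_pos (R := F) (by rw [hZd]; exact hr)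
          infer_instance
        have hmin : (X ^ r - C c : F[X]) = minpoly F f' :=
          minpoly.eq_of_irreducible_of_monic hirr hae hmono
        have hdvd : (X ^ r - C c : F[X]) ∣ f'.charpoly := by
          rw [hmin]; exact LinearMap.minpoly_dvd_charpoly f'
        have hchar : f'.charpoly = X ^ r - C c := by
          apply Polynomial.eq_of_monic_of_dvd_of_natDegree_le hmono (LinearMap.charpoly_monic f')
            hdvd
          rw [LinearMap.charpoly_natDegree, hZd, natDegree_X_pow_sub_C]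
        rw [LinearMap.det_eq_sign_charpoly_coeff, hchar, hZd]
        have hcoeff : (X ^ r - C c : F[X]).coeff 0 = -c := by
          rw [coeff_sub, coeff_X_pow, coeff_C_zero, if_neg hr.ne, zero_sub]
        rw [hcoeff, pow_succ]
        ring
      -- quotient
      have hquot : LinearMap.det (Z.mapQ Z f he) = ((-1) ^ (r + 1) * c) ^ ((r * t - r) / r) := by
        apply ih (r * t - r) (by omega) (V ⧸ Z) (Z.mapQ Z f he)
        · rw [← Submodule.mapQ_pow Z he r]
          apply LinearMap.ext
          intro x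
          induction x using Submodule.Quotient.induction_on with
          | _ v =>
            rw [Submodule.mapQ_apply, hf]
            simp
        · have := Submodule.finrank_quotient_add_finrank Z
          rw [hd, hZd] at this
          omega
      rw [hres, hquot, ← pow_succ']
      congr 1
      have h1 : r * t - r = r * (t - 1) := by rw [Nat.mul_sub, mul_one]
      rw [h1, Nat.mul_div_cancel_left _ hr, Nat.mul_div_cancel_left _ hr]
      omega

end Cfsg.Agent.Helper13.POS

namespace Cfsg.Agent.Helper13.POS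

open Module Polynomial Cfsg.Agent.Helper13.InvTow

universe u

variable {F : Type*} [Field F] [Fintype F]

/-- in the cyclic group `Fˣ`: `x ^ ((q-1)/r) = 1` implies `x` is an `r`-th power. -/
theorem exists_pow_eq_of_pow_div_eq_one (r : ℕ) (hr : 0 < r) (hrq : r ∣ Fintype.card F - 1)
    (x : F) (hx0 : x ≠ 0) (hx : x ^ ((Fintype.card F - 1) / r) = 1) : ∃ y : F, y ^ r = x := by
  classical
  obtain ⟨ζ, hζ⟩ := IsCyclic.exists_generator (α := Fˣ)
  have hord : orderOf ζ = Fintype.card F - 1 := by
    rw [orderOf_eq_card_of_forall_mem_zpowers hζ, Nat.card_eq_fintype_card, Fintype.card_units]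
  obtain ⟨k, hk⟩ := Subgroup.mem_zpowers_iff.mp (hζ (Units.mk0 x hx0))
  obtain ⟨N', hN'⟩ := hrq
  have hN'pos : 0 < N' := by
    rcases Nat.eq_zero_or_pos N' with h | h
    · rw [h, mul_zero] at hN'
      have := Fintype.one_lt_card (α := F)
      omega
    · exact h
  have hdiv : (Fintype.card F - 1) / r = N' := by rw [hN', Nat.mul_div_cancel_left _ hr]
  rw [hdiv] at hx
  have h1 : ζ ^ (k * (N' : ℤ)) = 1 := by
    rw [zpow_mul, hk, zpow_natCast]
    apply Units.ext
    rw [Units.val_pow_eq_pow_val, Units.val_mk0, hx, Units.val_one]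
  have h2 : ((orderOf ζ : ℕ) : ℤ) ∣ k * (N' : ℤ) := orderOf_dvd_iff_zpow_eq_one.mpr h1
  rw [hord, hN'] at h2
  have h3 : (r : ℤ) ∣ k := by
    have : ((r * N' : ℕ) : ℤ) = (r : ℤ) * (N' : ℤ) := by push_cast; ring
    rw [this] at h2
    exact Int.dvd_of_mul_dvd_mul_right (by exact_mod_cast hN'pos.ne') h2
  obtain ⟨k', hk'⟩ := h3
  refine ⟨((ζ ^ k' : Fˣ) : F), ?_⟩
  have : (ζ ^ k') ^ r = Units.mk0 x hx0 := by
    rw [← hk, hk', ← zpow_natCast, ← zpow_mul, mul_comm]
  rw [← Units.val_pow_eq_pow_val, this, Units.val_mk0]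

/-- if `x ^ n' = 1` with `v_r(n') < v_r(q-1)` then `x` is an `r`-th power. -/
theorem exists_pow_eq_of_pow_eq_one (r : ℕ) [Fact r.Prime] (hrq : r ∣ Fintype.card F - 1)
    (x : F) (hx0 : x ≠ 0) (n' : ℕ) (hn' : n' ≠ 0) (hx : x ^ n' = 1)
    (hval : padicValNat r n' < padicValNat r (Fintype.card F - 1)) : ∃ y : F, y ^ r = x := by
  have hr : r.Prime := Fact.out
  apply exists_pow_eq_of_pow_div_eq_one r hr.pos hrq x hx0
  have hN : x ^ (Fintype.card F - 1) = 1 := FiniteField.pow_card_sub_one_eq_one x hx0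
  have ho1 : orderOf x ∣ n' := orderOf_dvd_of_pow_eq_one hx
  have ho2 : orderOf x ∣ Fintype.card F - 1 := orderOf_dvd_of_pow_eq_one hN
  have hopos : orderOf x ≠ 0 := fun h => by rw [h, zero_dvd_iff] at ho1; exact hn' ho1
  obtain ⟨N', hN'⟩ := hrq
  have hNpos : Fintype.card F - 1 ≠ 0 := by
    have := Fintype.one_lt_card (α := F); omega
  have hN'pos : N' ≠ 0 := fun h => by rw [h, mul_zero] at hN'; exact hNpos hN'
  rw [hN', Nat.mul_div_cancel_left _ hr.pos]
  apply orderOf_dvd_iff_pow_eq_one.mp
  obtain ⟨a, o', ho', hoeq⟩ := Nat.exists_eq_pow_mul_and_not_dvd hopos r hr.ne_one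
  rw [hoeq]
  have hcop : Nat.Coprime (r ^ a) o' := Nat.Coprime.pow_left a ((hr.coprime_iff_not_dvd).mpr ho')
  apply Nat.Coprime.mul_dvd_of_dvd_of_dvd hcop
  · -- r^a ∣ N'
    have h1 : r ^ a ∣ n' := (Dvd.intro _ hoeq.symm).trans ho1
    have h2 : a ≤ padicValNat r n' := (padicValNat_dvd_iff_le hn').mp h1
    have h3 : a + 1 ≤ padicValNat r (Fintype.card F - 1) := by omega
    have h4 : r ^ (a + 1) ∣ Fintype.card F - 1 := (padicValNat_dvd_iff_le hNpos).mpr h3
    rw [hN', pow_succ, mul_comm] at h4
    exact Nat.dvd_of_mul_dvd_mul_left hr.pos h4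
  · have h1 : o' ∣ r * N' := by
      rw [← hN']
      exact (Dvd.intro_left _ hoeq.symm).trans ho2
    exact (Nat.Coprime.dvd_of_dvd_mul_left
      ((Nat.coprime_comm.mp ((hr.coprime_iff_not_dvd).mpr ho'))) h1)

end Cfsg.Agent.Helper13.POS
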