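import Mathlib
import Cfsg.Agent.Lib.Helper13.E27Norm2
import Cfsg.Agent.Lib.Helper13.SemisimpleCharpolyGL
import Cfsg.Agent.Lib.Helper13.SemisimpleGL
import Cfsg.Agent.Lib.Helper13.PrimeOrderSemisimple
import Cfsg.Agent.Lib.Helper2.CardSL

/-!
# Elements of prime order normalizing an extraspecial subgroup `3^{1+2}` of `GL₃(F)` (helper13)
-/

set_option autoImplicit false
set_option linter.style.haveILetI false
set_option linter.unusedSectionVars false
set_option linter.unusedVariables false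

namespace Cfsg.Agent.Helper13.E27

open Matrix

section generic

variable {G : Type*} [Group G]

/-- an element of prime order `r ≥ 5` normalizing a group of order `27` and centralizing a
non-trivial element of it centralizes the whole group. -/
theorem centralizes_of_prime_order27 (R : Subgroup G) (hcard : Nat.card ↥R = 27) (y : G)
    (hy : y ∈ Subgroup.normalizer (R : Set G)) (r : ℕ) [hr : Fact r.Prime] (hr5 : 5 ≤ r)
    (hyr : y ^ r = 1) (z : G) (hzR : z ∈ R) (hz1 : z ≠ 1) (hzy : y * z * y⁻¹ = z) :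
    ∀ h ∈ R, y * h * y⁻¹ = h := by
  classical
  haveI : Finite ↥R := Nat.finite_of_card_ne_zero (by rw [hcard]; norm_num)
  haveI : Fintype ↥R := Fintype.ofFinite _
  have hnorm : ∀ k : ℕ, ∀ h ∈ R, y ^ k * h * (y ^ k)⁻¹ ∈ R := by
    intro k h hh
    have : y ^ k ∈ Subgroup.normalizer (R : Set G) := Subgroup.pow_mem _ hy k
    exact (Subgroup.mem_set_normalizer_iff.1 this h).1 hh
  let f : Function.End ↥R := fun h => ⟨y * h * y⁻¹, by simpa using hnorm 1 h h.2⟩
  have hfk : ∀ k : ℕ, ∀ h : ↥R, (((f ^ k) h : ↥R) : G) = y ^ k * h * (y ^ k)⁻¹ := by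
    intro k
    induction k with
    | zero =>
      intro h
      rw [pow_zero, pow_zero, one_mul, inv_one, mul_one]
      rfl
    | succ k ih =>
      intro h
      rw [pow_succ']
      show y * ((f ^ k) h : ↥R) * y⁻¹ = _
      rw [ih h, pow_succ']
      group
  have hf : f ^ r ^ 1 = 1 := by
    rw [pow_one]
    funext h
    apply Subtype.ext
    rw [hfk, hyr, one_mul, inv_one, mul_one]
    rfl
  have hmod := Equiv.Perm.card_fixedPoints_modEq (f := f) (p := r) (n := 1) hf
  -- the subgroup of fixed points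
  let C : Subgroup ↥R :=
    { carrier := Function.fixedPoints f
      one_mem' := by
        show f 1 = 1
        apply Subtype.ext
        show y * ((1 : ↥R) : G) * y⁻¹ = ((1 : ↥R) : G)
        simp
      mul_mem' := by
        intro u v hu hv
        show f (u * v) = u * v
        have hu' : y * (u : G) * y⁻¹ = u := congrArg Subtype.val (show f u = u from hu)
        have hv' : y * (v : G) * y⁻¹ = v := congrArg Subtype.val (show f v = v from hv)
        apply Subtype.ext
        show y * ((u * v : ↥R) : G) * y⁻¹ = ((u * v : ↥R) : G)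
        rw [Subgroup.coe_mul]
        calc y * ((u : G) * v) * y⁻¹ = (y * u * y⁻¹) * (y * v * y⁻¹) := by group
          _ = u * v := by rw [hu', hv']
      inv_mem' := by
        intro u hu
        show f u⁻¹ = u⁻¹
        have hu' : y * (u : G) * y⁻¹ = u := congrArg Subtype.val (show f u = u from hu)
        apply Subtype.ext
        show y * ((u⁻¹ : ↥R) : G) * y⁻¹ = ((u⁻¹ : ↥R) : G)
        rw [Subgroup.coe_inv]
        calc y * (u : G)⁻¹ * y⁻¹ = (y * u * y⁻¹)⁻¹ := by group
          _ = (u : G)⁻¹ := by rw [hu'] }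
  have hCcard : Fintype.card (Function.fixedPoints f) = Nat.card ↥C := by
    rw [← Nat.card_eq_fintype_card]
    rfl
  have hRcard : Fintype.card ↥R = 27 := by rw [← Nat.card_eq_fintype_card, hcard]
  rw [hCcard, hRcard] at hmod
  have hdvd : Nat.card ↥C ∣ 27 := by
    rw [← hcard]; exact Subgroup.card_subgroup_dvd_card C
  have hne1 : Nat.card ↥C ≠ 1 := by
    intro h1
    have hbot : C = ⊥ := Subgroup.card_eq_one.1 h1
    have hzC : (⟨z, hzR⟩ : ↥R) ∈ C := by
      show f ⟨z, hzR⟩ = ⟨z, hzR⟩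
      apply Subtype.ext
      exact hzy
    rw [hbot, Subgroup.mem_bot] at hzC
    exact hz1 (congrArg Subtype.val hzC)
  have hle : Nat.card ↥C ≤ 27 := Nat.le_of_dvd (by norm_num) hdvd
  have hdvd2 : r ∣ 27 - Nat.card ↥C := (Nat.modEq_iff_dvd' hle).1 hmod.symm
  have hprime : ∀ m : ℕ, m ∣ 72 → m.Prime → m = 2 ∨ m = 3 := by
    intro m hm hmp
    have h1 : m ∣ 2 ^ 3 * 3 ^ 2 := by norm_num; exact hm
    rcases (Nat.Prime.dvd_mul hmp).1 h1 with h | h
    · left
      exact (Nat.prime_dvd_prime_iff_eq hmp Nat.prime_two).1 (hmp.dvd_of_dvd_pow h)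
    · right
      exact (Nat.prime_dvd_prime_iff_eq hmp Nat.prime_three).1 (hmp.dvd_of_dvd_pow h)
  have hC27 : Nat.card ↥C = 27 := by
    by_contra hne
    have : Nat.card ↥C = 3 ∨ Nat.card ↥C = 9 := by
      have hmem : Nat.card ↥C ∈ Nat.divisors 27 := Nat.mem_divisors.2 ⟨hdvd, by norm_num⟩
      have hdiv : Nat.divisors 27 = {1, 3, 9, 27} := by decide
      rw [hdiv] at hmem
      simp only [Finset.mem_insert, Finset.mem_singleton] at hmem
      rcases hmem with h | h | h | h
      · exact absurd h hne1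
      · exact Or.inl h
      · exact Or.inr h
      · exact absurd h hne
    have h72 : r ∣ 72 := by
      rcases this with h | h
      · rw [h] at hdvd2
        exact dvd_trans hdvd2 (by norm_num)
      · rw [h] at hdvd2
        exact dvd_trans hdvd2 (by norm_num)
    rcases hprime r h72 hr.out with h | h <;> omega
  have hCtop : C = ⊤ := Subgroup.eq_top_of_card_eq C (by rw [hC27, hcard])
  intro h hh
  have : (⟨h, hh⟩ : ↥R) ∈ C := by rw [hCtop]; exact Subgroup.mem_top _
  exact congrArg Subtype.val (show f ⟨h, hh⟩ = ⟨h, hh⟩ from this)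

end generic

section mat

variable {F : Type*} [Field F]

/-- a matrix commuting with the standard generators is a scalar. -/
theorem scalar_of_commute3 (h3 : (3 : F) ≠ 0) {γ : F} (hγ : γ ^ 2 + γ + 1 = 0)
    (M : Matrix (Fin 3) (Fin 3) F)
    (hA : M * diagonal ![1, γ, γ ^ 2] = diagonal ![1, γ, γ ^ 2] * M)
    (hB : M * B0m = B0m * M) : ∃ c : F, M = c • (1 : Matrix (Fin 3) (Fin 3) F) := by
  obtain ⟨hγ3, hγ0, hγ1, hγ21⟩ := gamma_facts h3 hγ
  have hγγ : γ ^ 2 ≠ γ := by
    intro h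
    have : γ * (γ - 1) = 0 := by linear_combination h
    rcases mul_eq_zero.1 this with h | h
    · exact hγ0 h
    · exact hγ1 (sub_eq_zero.1 h)
  have dne : ∀ i j : Fin 3, i ≠ j → (![1, γ, γ ^ 2] : Fin 3 → F) j ≠ ![1, γ, γ ^ 2] i := by
    intro i j hij
    fin_cases i <;> fin_cases j
    · exact absurd rfl hij
    · exact hγ1
    · exact hγ21
    · exact fun h => hγ1 h.symm
    · exact absurd rfl hij
    · exact hγγ
    · exact fun h => hγ21 h.symm
    · exact fun h => hγγ h.symm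
    · exact absurd rfl hij
  have hoff : ∀ i j : Fin 3, i ≠ j → M i j = 0 := by
    intro i j hij
    have := congrFun (congrFun hA i) j
    rw [mul_diagonal, diagonal_mul] at this
    have h' : ((![1, γ, γ ^ 2] : Fin 3 → F) j - ![1, γ, γ ^ 2] i) * M i j = 0 := by
      linear_combination this
    rcases mul_eq_zero.1 h' with h | h
    · exact absurd (sub_eq_zero.1 h) (dne i j hij)
    · exact h
  have h11 : M 1 1 = M 0 0 := by
    have := congrFun (congrFun hB 1) 0
    simpa [Matrix.mul_apply, Fin.sum_univ_three, B0m] using this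
  have h22 : M 2 2 = M 1 1 := by
    have := congrFun (congrFun hB 2) 1
    simpa [Matrix.mul_apply, Fin.sum_univ_three, B0m] using this
  refine ⟨M 0 0, ?_⟩
  ext i j
  by_cases hij : i = j
  · subst hij
    rw [Matrix.smul_apply, one_apply_eq, smul_eq_mul, mul_one]
    fin_cases i
    · rfl
    · exact h11
    · exact h22.trans h11
  · rw [hoff i j hij, Matrix.smul_apply, one_apply_ne hij, smul_zero]

end mat

section main1

variable {F : Type*} [Field F]
variable {R : Subgroup (GL (Fin 3) F)} {γ : Fˣ} {T : GL (Fin 3) F}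

theorem EData.Z_mem (hE : EData R γ T) : Dg (fun _ => γ) ∈ R := by
  have h := hE.Z0_mem
  rw [mem_std, ← Dg_const_comm, mul_assoc, mul_inv_cancel, mul_one] at h
  exact h

theorem Dg_const_ne_one {c : Fˣ} (hc : c ≠ 1) : Dg (fun _ : Fin 3 => c) ≠ (1 : GL (Fin 3) F) := by
  intro h
  apply hc
  have h00 := congrArg (fun u : GL (Fin 3) F => (u : Matrix (Fin 3) (Fin 3) F) 0 0) h
  simp only [Dg_val, Units.val_one, diagonal_apply_eq, one_apply_eq] at h00
  exact Units.ext h00

theorem A0_val (γ : Fˣ) : ((A0 γ : GL (Fin 3) F) : Matrix (Fin 3) (Fin 3) F) =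
    diagonal ![1, (γ : F), (γ : F) ^ 2] := by
  rw [A0, Dg_val]
  congr 1
  funext j
  fin_cases j <;> simp

/-- an element of prime order at least five that is conjugate into the normalizer of `R` is a
scalar. -/
theorem scalar_of_conj_mem27 (hcard : Nat.card ↥R = 27) (hE : EData R γ T)
    (r : ℕ) [Fact r.Prime] (hr5 : 5 ≤ r) (x : GL (Fin 3) F) (hxr : x ^ r = 1)
    (g : GL (Fin 3) F) (hy : g⁻¹ * x * g ∈ Cfsg.Geo.subgroupNormalizer R) :
    ∃ c : F, (x : Matrix (Fin 3) (Fin 3) F) = c • (1 : Matrix (Fin 3) (Fin 3) F) := by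
  set y : GL (Fin 3) F := g⁻¹ * x * g with hydef
  have hyr : y ^ r = 1 := by
    have : y = g⁻¹ * x * (g⁻¹)⁻¹ := by rw [inv_inv]
    rw [this, conj_pow, hxr, mul_one, mul_inv_cancel]
  have hzy : y * Dg (fun _ => γ) * y⁻¹ = Dg (fun _ => γ) := by
    rw [← Dg_const_comm, mul_assoc, mul_inv_cancel, mul_one]
  have hcent := centralizes_of_prime_order27 R hcard y hy r hr5 hyr _ hE.Z_mem
    (Dg_const_ne_one hE.gamma_ne_one) hzy
  have hya := hcent _ ((mem_std R T _).1 hE.ha)
  have hyb := hcent _ ((mem_std R T _).1 hE.hb)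
  set y0 : GL (Fin 3) F := T⁻¹ * y * T with hy0
  have hcomm : ∀ w : GL (Fin 3) F, y * (T * w * T⁻¹) * y⁻¹ = T * w * T⁻¹ → y0 * w = w * y0 := by
    intro w hw
    have h1 : y * (T * w * T⁻¹) = (T * w * T⁻¹) * y := mul_inv_eq_iff_eq_mul.1 hw
    calc y0 * w = T⁻¹ * (y * (T * w * T⁻¹)) * T := by rw [hy0]; group
      _ = T⁻¹ * ((T * w * T⁻¹) * y) * T := by rw [h1]
      _ = w * y0 := by rw [hy0]; group
  have hA := hcomm _ hya
  have hB := hcomm _ hyb
  have mA : (y0 : Matrix (Fin 3) (Fin 3) F) * diagonal ![1, (γ : F), (γ : F) ^ 2] =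
      diagonal ![1, (γ : F), (γ : F) ^ 2] * (y0 : Matrix (Fin 3) (Fin 3) F) := by
    have := congrArg (fun u : GL (Fin 3) F => (u : Matrix (Fin 3) (Fin 3) F)) hA
    simpa only [Units.val_mul, A0_val] using this
  have mB : (y0 : Matrix (Fin 3) (Fin 3) F) * B0m = B0m * (y0 : Matrix (Fin 3) (Fin 3) F) := by
    have := congrArg (fun u : GL (Fin 3) F => (u : Matrix (Fin 3) (Fin 3) F)) hB
    simpa only [Units.val_mul, B0_val] using this
  obtain ⟨c, hc⟩ := scalar_of_commute3 hE.h3 hE.hγ _ mA mB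
  refine ⟨c, ?_⟩
  have hx : x = g * T * y0 * T⁻¹ * g⁻¹ := by rw [hy0, hydef]; group
  rw [hx]
  simp only [Units.val_mul]
  rw [hc, mul_smul_comm, mul_one, smul_mul_assoc, smul_mul_assoc, mul_assoc,
    ← Units.val_mul, ← Units.val_mul, ← Units.val_mul]
  have : g * T * (T⁻¹ * g⁻¹) = 1 := by group
  rw [this, Units.val_one]

end main1

section conj

variable {F : Type*} [Field F] [Fintype F] {p : ℕ} [Fact p.Prime] [CharP F p]

/-- elements of `SL₃` of order prime to `p` with the same characteristic polynomial are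
conjugate in `SL₃`. -/
theorem conj_into_of_charpoly (N : Subgroup (GL (Fin 3) F)) (x y : GL (Fin 3) F)
    (hx : x ∈ Cfsg.Geo.specialLinear (Fin 3) F) (hy : y ∈ Cfsg.Geo.specialLinear (Fin 3) F)
    (hyN : y ∈ N) (k : ℕ) (hk : k.Coprime p) (hxk : x ^ k = 1) (hyk : y ^ k = 1)
    (hc : (x : Matrix (Fin 3) (Fin 3) F).charpoly = (y : Matrix (Fin 3) (Fin 3) F).charpoly) :
    ∃ g ∈ Cfsg.Geo.specialLinear (Fin 3) F, g⁻¹ * x * g ∈ N := by
  have hdx := (mem_specialLinear_iff3 x).1 hx
  have hdy := (mem_specialLinear_iff3 y).1 hy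
  set sx : SpecialLinearGroup (Fin 3) F := ⟨x, hdx⟩ with hsx
  set sy : SpecialLinearGroup (Fin 3) F := ⟨y, hdy⟩ with hsy
  have ex : SpecialLinearGroup.toGL sx = x := Units.ext rfl
  have ey : SpecialLinearGroup.toGL sy = y := Units.ext rfl
  have hpow : ∀ (s : SpecialLinearGroup (Fin 3) F), SpecialLinearGroup.toGL s ^ k = 1 →
      (orderOf s).Coprime p := by
    intro s hs
    have : s ^ k = 1 := by
      apply SpecialLinearGroup.toGL_injective
      rw [map_pow, hs, map_one]
    exact Nat.Coprime.coprime_dvd_left (orderOf_dvd_of_pow_eq_one this) hk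
  have hcx := hpow sx (by rw [ex]; exact hxk)
  have hcy := hpow sy (by rw [ey]; exact hyk)
  have hconj := Cfsg.Agent.Helper13.SS.sl_isConj_of_charpoly_eq (p := p) sy sx hcy hcx hc.symm
  obtain ⟨c, hc'⟩ := isConj_iff.1 hconj
  refine ⟨SpecialLinearGroup.toGL c, ?_, ?_⟩
  · rw [mem_specialLinear_iff3]
    exact c.2
  · have : (SpecialLinearGroup.toGL c)⁻¹ * x * SpecialLinearGroup.toGL c = y := by
      rw [← ex, ← hc', map_mul, map_mul, map_inv, ey]
      group
    rw [this]; exact hyN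

end conj

section charp

open Polynomial

variable {F : Type*} [Field F]

/-- the characteristic polynomial of a non-scalar `3 × 3` matrix of determinant one whose
square is a scalar. -/
theorem charpoly_of_sq (M : Matrix (Fin 3) (Fin 3) F) (z : F)
    (hM : M * M = z • (1 : Matrix (Fin 3) (Fin 3) F)) (hdet : M.det = 1)
    (hns : ∀ c : F, M ≠ c • (1 : Matrix (Fin 3) (Fin 3) F)) :
    M.charpoly = X ^ 3 + C z⁻¹ * X ^ 2 - C z * X - 1 := by
  have hz3 : z ^ 3 = 1 := by
    have := congrArg Matrix.det hM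
    rw [Matrix.det_mul, hdet, one_mul, Matrix.det_smul, Matrix.det_one, mul_one,
      Fintype.card_fin] at this
    exact this.symm
  have hz0 : z ≠ 0 := by
    rintro rfl
    simp at hz3
  set p := M.charpoly with hp
  have hmon : p.Monic := Matrix.charpoly_monic M
  have hdeg : p.natDegree = 3 := by
    rw [hp, Matrix.charpoly_natDegree_eq_dim, Fintype.card_fin]
  have hform : p = X ^ 3 + C (p.coeff 2) * X ^ 2 + C (p.coeff 1) * X + C (p.coeff 0) := by
    conv_lhs => rw [Polynomial.as_sum_range' p 4 (by rw [hdeg]; norm_num)]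
    simp only [Finset.sum_range_succ, Finset.sum_range_zero, zero_add,
      ← C_mul_X_pow_eq_monomial, pow_zero, mul_one, pow_one]
    have h3 : p.coeff 3 = 1 := by rw [← hdeg]; exact hmon.coeff_natDegree
    rw [h3, map_one, one_mul]
    ring
  have hCH : aeval M p = 0 := Matrix.aeval_self_charpoly M
  rw [hform] at hCH
  simp only [map_add, map_mul, map_pow, aeval_X, aeval_C,
    Algebra.algebraMap_eq_smul_one] at hCH
  have hM2 : M ^ 2 = z • (1 : Matrix (Fin 3) (Fin 3) F) := by rw [pow_two, hM]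
  have hM3 : M ^ 3 = z • M := by rw [pow_succ, hM2, smul_mul_assoc, one_mul]
  rw [hM3, hM2, smul_mul_assoc, one_mul, smul_mul_assoc, one_mul, smul_smul] at hCH
  have hsum : (z + p.coeff 1) • M + (p.coeff 2 * z + p.coeff 0) • (1 : Matrix (Fin 3) (Fin 3) F)
      = 0 := by
    rw [add_smul, add_smul, ← hCH]
    abel
  have hc1 : z + p.coeff 1 = 0 := by
    by_contra hne
    apply hns ((z + p.coeff 1)⁻¹ * (-(p.coeff 2 * z + p.coeff 0)))
    have h1 : (z + p.coeff 1) • M = (-(p.coeff 2 * z + p.coeff 0)) •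
        (1 : Matrix (Fin 3) (Fin 3) F) := by
      rw [neg_smul]
      exact eq_neg_of_add_eq_zero_left hsum
    rw [mul_smul, ← h1, smul_smul, inv_mul_cancel₀ hne, one_smul]
  rw [hc1, zero_smul, zero_add] at hsum
  have hc2 : p.coeff 2 * z + p.coeff 0 = 0 := by
    have h00 := congrFun (congrFun hsum 0) 0
    simpa using h00
  have hc0 : p.coeff 0 = -1 := by
    have := Matrix.det_eq_sign_charpoly_coeff M
    rw [hdet, Fintype.card_fin, ← hp] at this
    linear_combination this
  have hc2' : p.coeff 2 = z⁻¹ := by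
    rw [hc0] at hc2
    field_simp
    linear_combination hc2
  have hc1' : p.coeff 1 = -z := by linear_combination hc1
  rw [hform, hc0, hc1', hc2']
  simp only [map_neg, map_one]
  ring

end charp

section main2

variable {F : Type*} [Field F] [Fintype F] {p : ℕ} [Fact p.Prime] [CharP F p]
variable {R : Subgroup (GL (Fin 3) F)} {γ : Fˣ} {T : GL (Fin 3) F}

theorem cube_of_scalar_pow (x : GL (Fin 3) F) (hx : x ∈ Cfsg.Geo.specialLinear (Fin 3) F)
    (k : ℕ) (z : F)
    (hz : ((x ^ k : GL (Fin 3) F) : Matrix (Fin 3) (Fin 3) F) =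
      z • (1 : Matrix (Fin 3) (Fin 3) F)) : z ^ 3 = 1 := by
  have hdx := (mem_specialLinear_iff3 x).1 hx
  have := congrArg Matrix.det hz
  rw [Units.val_pow_eq_pow_val, Matrix.det_pow, hdx, one_pow, Matrix.det_smul, Matrix.det_one,
    mul_one, Fintype.card_fin] at this
  exact this.symm

theorem Dg_const_mem_specialLinear (c : Fˣ) (hc : c ^ 3 = 1) :
    Dg (fun _ => c) ∈ Cfsg.Geo.specialLinear (Fin 3) F := by
  rw [mem_specialLinear_iff3, det_Dg, ← Units.val_mul, ← Units.val_mul, ← pow_two, ← pow_succ, hc,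
    Units.val_one]

theorem Y0_not_scalar (c : F) :
    ((Y0 : GL (Fin 3) F) : Matrix (Fin 3) (Fin 3) F) ≠ c • (1 : Matrix (Fin 3) (Fin 3) F) := by
  intro h
  have h12 := congrFun (congrFun h 1) 2
  simp [Y0_val, Y0m] at h12

/-- involutions of `PSL₃` are conjugate into the normalizer of `R`. -/
theorem conj_of_sq3 (hp2 : p ≠ 2) (hp3 : p ≠ 3) (hE : EData R γ T) (x : GL (Fin 3) F)
    (hx : x ∈ Cfsg.Geo.specialLinear (Fin 3) F) (z : F)
    (hz : ((x ^ 2 : GL (Fin 3) F) : Matrix (Fin 3) (Fin 3) F) =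
      z • (1 : Matrix (Fin 3) (Fin 3) F))
    (hns : ∀ z : F, (x : Matrix (Fin 3) (Fin 3) F) ≠ z • (1 : Matrix (Fin 3) (Fin 3) F)) :
    ∃ g ∈ Cfsg.Geo.specialLinear (Fin 3) F, g⁻¹ * x * g ∈ Cfsg.Geo.subgroupNormalizer R := by
  have hpp : p.Prime := Fact.out
  have hdx := (mem_specialLinear_iff3 x).1 hx
  have hz3 := cube_of_scalar_pow x hx 2 z hz
  have hz0 : z ≠ 0 := by
    rintro rfl
    simp at hz3
  set zu : Fˣ := Units.mk0 z hz0 with hzu
  have hzu3 : zu ^ 3 = 1 := by
    apply Units.ext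
    rw [Units.val_pow_eq_pow_val, Units.val_one]
    exact hz3
  have hzuv : (zu : F) = z := rfl
  have hzz : zu⁻¹ * zu⁻¹ = zu := by
    have h1 : zu * (zu * zu) = 1 := by rw [← pow_two, ← pow_succ']; exact hzu3
    calc zu⁻¹ * zu⁻¹ = zu⁻¹ * zu⁻¹ * (zu * (zu * zu)) := by rw [h1, mul_one]
      _ = zu := by group
  set Y : GL (Fin 3) F := T * Y0 * T⁻¹ with hY
  set y : GL (Fin 3) F := Dg (fun _ => zu⁻¹) * Y with hy
  have hyN : y ∈ Cfsg.Geo.subgroupNormalizer R :=
    mul_mem (scalar_mem_normalizer R _) hE.Y_mem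
  have hYY : Y * Y = 1 := by
    calc Y * Y = T * (Y0 * Y0) * T⁻¹ := by rw [hY]; group
      _ = 1 := by rw [Y0_mul_Y0]; group
  have hyy : y * y = Dg (fun _ => zu) := by
    calc y * y = Dg (fun _ => zu⁻¹) * (Y * Dg (fun _ => zu⁻¹)) * Y := by rw [hy]; group
      _ = Dg (fun _ => zu⁻¹) * (Dg (fun _ => zu⁻¹) * Y) * Y := by rw [← Dg_const_comm _ Y]
      _ = Dg (fun _ => zu⁻¹) * Dg (fun _ => zu⁻¹) * (Y * Y) := by group
      _ = Dg (fun _ => zu) := by
        rw [hYY, mul_one, Dg_mul]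
        congr 1
        funext j
        exact hzz
  have hxx : x * x = Dg (fun _ => zu) := by
    apply Units.ext
    rw [← pow_two, hz, Dg_const_val, hzuv]
  have hySL : y ∈ Cfsg.Geo.specialLinear (Fin 3) F := by
    apply mul_mem
    · apply Dg_const_mem_specialLinear
      rw [inv_pow, hzu3, inv_one]
    · rw [hY, conj_mem_specialLinear, mem_specialLinear_iff3]
      exact det_Y0
  have hdy := (mem_specialLinear_iff3 y).1 hySL
  have hyns : ∀ c : F, (y : Matrix (Fin 3) (Fin 3) F) ≠ c • (1 : Matrix (Fin 3) (Fin 3) F) := by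
    intro c hc
    apply Y0_not_scalar (F := F) (z * c)
    have e1 : (Y0 : GL (Fin 3) F) = T⁻¹ * (Dg (fun _ => zu) * y) * T := by
      have h1 : Dg (fun _ => zu) * y = Y := by
        rw [hy, ← mul_assoc, Dg_mul]
        have : ((fun _ => zu) * fun _ => zu⁻¹ : Fin 3 → Fˣ) = 1 := by
          funext j
          exact mul_inv_cancel zu
        rw [this, Dg_one, one_mul]
      rw [h1, hY]
      group
    rw [e1]
    simp only [Units.val_mul]
    rw [hc, Dg_const_val, hzuv, smul_mul_assoc, one_mul, smul_smul, mul_smul_comm, smul_mul_assoc,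
      mul_one, ← Units.val_mul, inv_mul_cancel, Units.val_one]
  have hpow6 : ∀ w : GL (Fin 3) F, w * w = Dg (fun _ => zu) → w ^ 6 = 1 := by
    intro w hw
    have : w ^ 6 = (w * w) ^ 3 := by rw [← pow_two, ← pow_mul]
    rw [this, hw, Dg_pow]
    have : ((fun _ => zu) ^ 3 : Fin 3 → Fˣ) = 1 := by
      funext j
      exact hzu3
    rw [this, Dg_one]
  have h6 : Nat.Coprime 6 p := by
    have h2 : Nat.Coprime 2 p := (Nat.coprime_primes Nat.prime_two hpp).2 (Ne.symm hp2)
    have h3 : Nat.Coprime 3 p := (Nat.coprime_primes Nat.prime_three hpp).2 (Ne.symm hp3)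
    exact Nat.Coprime.mul_left h2 h3
  have mxx : (x : Matrix (Fin 3) (Fin 3) F) * (x : Matrix (Fin 3) (Fin 3) F) =
      z • (1 : Matrix (Fin 3) (Fin 3) F) := by
    rw [← Units.val_mul, hxx, Dg_const_val, hzuv]
  have myy : (y : Matrix (Fin 3) (Fin 3) F) * (y : Matrix (Fin 3) (Fin 3) F) =
      z • (1 : Matrix (Fin 3) (Fin 3) F) := by
    rw [← Units.val_mul, hyy, Dg_const_val, hzuv]
  have hc : (x : Matrix (Fin 3) (Fin 3) F).charpoly = (y : Matrix (Fin 3) (Fin 3) F).charpoly := by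
    rw [charpoly_of_sq _ z mxx hdx hns, charpoly_of_sq _ z myy hdy hyns]
  exact conj_into_of_charpoly (p := p) _ x y hx hySL hyN 6 h6 (hpow6 x hxx) (hpow6 y hyy) hc

end main2

section main3

open Polynomial

variable {F : Type*} [Field F] [Fintype F] {p : ℕ} [Fact p.Prime] [CharP F p]
variable {R : Subgroup (GL (Fin 3) F)} {γ : Fˣ} {T : GL (Fin 3) F}

/-- elements of order three of `PSL₃` are conjugate into the normalizer of `R` when
`9 ∣ q - 1`. -/
theorem conj_of_cube3 (hp3 : p ≠ 3) (h9 : 9 ∣ Fintype.card F - 1) (hE : EData R γ T)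
    (x : GL (Fin 3) F) (hx : x ∈ Cfsg.Geo.specialLinear (Fin 3) F) (z : F)
    (hz : ((x ^ 3 : GL (Fin 3) F) : Matrix (Fin 3) (Fin 3) F) =
      z • (1 : Matrix (Fin 3) (Fin 3) F)) :
    ∃ g ∈ Cfsg.Geo.specialLinear (Fin 3) F, g⁻¹ * x * g ∈ Cfsg.Geo.subgroupNormalizer R := by
  classical
  have hpp : p.Prime := Fact.out
  have hdx := (mem_specialLinear_iff3 x).1 hx
  have hz3 := cube_of_scalar_pow x hx 3 z hz
  have hz0 : z ≠ 0 := by
    rintro rfl
    simp at hz3
  set zu : Fˣ := Units.mk0 z hz0 with hzu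
  have hzuv : (zu : F) = z := rfl
  have hzu3 : zu ^ 3 = 1 := by
    apply Units.ext
    rw [Units.val_pow_eq_pow_val, Units.val_one]
    exact hz3
  -- a cube root of `z`
  obtain ⟨α₀, hα₀⟩ : ∃ α₀ : F, α₀ ^ 3 = z := by
    obtain ⟨m, hm⟩ := h9
    apply Cfsg.Agent.Helper13.POS.exists_pow_eq_of_pow_div_eq_one 3 (by norm_num)
      (Dvd.intro (3 * m) (by rw [hm]; ring)) z hz0
    have : (Fintype.card F - 1) / 3 = 3 * m := by
      rw [hm]
      omega
    rw [this, pow_mul, hz3, one_pow]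
  have hprim : IsPrimitiveRoot (γ : F) 3 := by
    haveI : Fact (Nat.Prime 3) := ⟨Nat.prime_three⟩
    have ho : orderOf γ = 3 := orderOf_eq_prime hE.gamma_pow hE.gamma_ne_one
    have := IsPrimitiveRoot.orderOf γ
    rw [ho] at this
    exact IsPrimitiveRoot.coe_units_iff.2 this
  set Φ : F[X] := X ^ 3 - C z with hΦ
  have hsplit : Φ.Splits := X_pow_sub_C_splits_of_isPrimitiveRoot hprim hα₀
  have hΦmon : Φ.Monic := monic_X_pow_sub_C z (by norm_num)
  have hΦ0 : Φ ≠ 0 := hΦmon.ne_zero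
  have hΦsq : Squarefree Φ := (separable_X_pow_sub_C z (by exact_mod_cast hE.h3) hz0).squarefree
  set S := Cfsg.Agent.Helper13.SS.irrFactors Φ with hS
  have hprod : ∏ f ∈ S, f = Φ := Cfsg.Agent.Helper13.SS.irrFactors_prod hΦmon hΦsq
  have hirr : ∀ f ∈ S, Irreducible f := fun f hf => Cfsg.Agent.Helper13.SS.irrFactors_irreducible hf
  have hmon : ∀ f ∈ S, f.Monic := fun f hf => Cfsg.Agent.Helper13.SS.irrFactors_monic hf
  have hk : aeval (Cfsg.Agent.Helper13.SS.L x) (∏ f ∈ S, f) = 0 := by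
    rw [hprod, hΦ, map_sub, map_pow, aeval_X, aeval_C, ← Cfsg.Agent.Helper13.SS.L_pow]
    unfold Cfsg.Agent.Helper13.SS.L
    rw [hz, map_smul, Matrix.toLin'_one, Algebra.algebraMap_eq_smul_one, sub_eq_zero]
    rfl
  have hchar := Cfsg.Agent.Helper13.SS.charpoly_eq_prod S hirr hmon
    (Cfsg.Agent.Helper13.SS.L x) hk
  rw [Cfsg.Agent.Helper13.SS.charpoly_L] at hchar
  set P := (x : Matrix (Fin 3) (Fin 3) F).charpoly with hP
  have hPmon : P.Monic := Matrix.charpoly_monic _
  have hP0 : P ≠ 0 := hPmon.ne_zero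
  have hsp : P.Splits := by
    rw [hchar]
    apply Splits.prod
    intro f hf
    exact (Splits.of_dvd hsplit hΦ0 (Cfsg.Agent.Helper13.SS.irrFactors_dvd hf)).pow _
  have hroot : ∀ d : F, P.IsRoot d → d ^ 3 = z := by
    intro d hd
    rw [Polynomial.IsRoot, hchar, Polynomial.eval_prod, Finset.prod_eq_zero_iff] at hd
    obtain ⟨f, hf, hfd⟩ := hd
    rw [Polynomial.eval_pow] at hfd
    have hfd' : f.eval d = 0 := by
      by_contra hne
      exact (pow_ne_zero _ hne) hfd
    have := Polynomial.eval_eq_zero_of_dvd_of_eval_eq_zero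
      (Cfsg.Agent.Helper13.SS.irrFactors_dvd hf) hfd'
    rw [hΦ, Polynomial.eval_sub, Polynomial.eval_pow, Polynomial.eval_X, Polynomial.eval_C,
      sub_eq_zero] at this
    exact this
  have hcard : Multiset.card P.roots = 3 := by
    rw [← hsp.natDegree_eq_card_roots, hP, Matrix.charpoly_natDegree_eq_dim, Fintype.card_fin]
  obtain ⟨d0, d1, d2, hroots⟩ := Multiset.card_eq_three.1 hcard
  have hfac : P = (X - C d0) * ((X - C d1) * (X - C d2)) := by
    conv_lhs => rw [hsp.eq_prod_roots_of_monic hPmon, hroots]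
    simp only [Multiset.insert_eq_cons, Multiset.map_cons, Multiset.prod_cons,
      Multiset.map_singleton, Multiset.prod_singleton]
  have hmem : ∀ d ∈ P.roots, d ^ 3 = z := fun d hd => hroot d ((Polynomial.mem_roots hP0).1 hd)
  have hd0 : d0 ^ 3 = z := hmem d0 (by rw [hroots]; simp)
  have hd1 : d1 ^ 3 = z := hmem d1 (by rw [hroots]; simp)
  have hd2 : d2 ^ 3 = z := hmem d2 (by rw [hroots]; simp)
  have hne : ∀ d : F, d ^ 3 = z → d ≠ 0 := by
    rintro d hd rfl
    apply hz0
    rw [← hd]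
    simp
  set du : Fin 3 → Fˣ := ![Units.mk0 d0 (hne d0 hd0), Units.mk0 d1 (hne d1 hd1),
    Units.mk0 d2 (hne d2 hd2)] with hdu
  have hdu3 : ∀ j, du j ^ 3 = zu := by
    intro j
    apply Units.ext
    rw [Units.val_pow_eq_pow_val, hzuv]
    fin_cases j
    · exact hd0
    · exact hd1
    · exact hd2
  set y : GL (Fin 3) F := T * Dg du * T⁻¹ with hy
  have hyN : y ∈ Cfsg.Geo.subgroupNormalizer R := hE.Dg_mem du zu hdu3
  have hcy : (y : Matrix (Fin 3) (Fin 3) F).charpoly = P := by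
    have : (y : Matrix (Fin 3) (Fin 3) F) =
        (T : Matrix (Fin 3) (Fin 3) F) * (Dg du : GL (Fin 3) F) *
          (T : Matrix (Fin 3) (Fin 3) F)⁻¹ := by
      rw [hy, Units.val_mul, Units.val_mul, Matrix.coe_units_inv]
    rw [this, Matrix.charpoly_units_conj, Dg_val, Matrix.charpoly_diagonal, Fin.prod_univ_three,
      hfac, mul_assoc]
    rfl
  have hdy : (y : Matrix (Fin 3) (Fin 3) F).det = 1 := by
    have h1 := Matrix.det_eq_sign_charpoly_coeff (y : Matrix (Fin 3) (Fin 3) F)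
    have h2 := Matrix.det_eq_sign_charpoly_coeff (x : Matrix (Fin 3) (Fin 3) F)
    rw [hcy] at h1
    rw [h1, ← h2, hdx]
  have hySL : y ∈ Cfsg.Geo.specialLinear (Fin 3) F := (mem_specialLinear_iff3 y).2 hdy
  have hx9 : x ^ 9 = 1 := by
    have h3 : x ^ 3 = Dg (fun _ => zu) := by
      apply Units.ext
      rw [hz, Dg_const_val, hzuv]
    have : x ^ 9 = (x ^ 3) ^ 3 := by rw [← pow_mul]
    rw [this, h3, Dg_pow]
    have : ((fun _ => zu) ^ 3 : Fin 3 → Fˣ) = 1 := by
      funext j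
      exact hzu3
    rw [this, Dg_one]
  have hy9 : y ^ 9 = 1 := by
    rw [hy, conj_pow, Dg_pow]
    have : (du ^ 9 : Fin 3 → Fˣ) = 1 := by
      funext j
      show du j ^ 9 = 1
      have : du j ^ 9 = (du j ^ 3) ^ 3 := by rw [← pow_mul]
      rw [this, hdu3, hzu3]
    rw [this, Dg_one, mul_one, mul_inv_cancel]
  have h9c : Nat.Coprime 9 p := by
    have h3 : Nat.Coprime 3 p := (Nat.coprime_primes Nat.prime_three hpp).2 (Ne.symm hp3)
    exact Nat.Coprime.pow_left 2 h3
  exact conj_into_of_charpoly (p := p) _ x y hx hySL hyN 9 h9c hx9 hy9 hcy.symm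

end main3

section card

variable {F : Type*} [Field F]
variable {R : Subgroup (GL (Fin 3) F)} {γ : Fˣ} {T : GL (Fin 3) F}

theorem EData.le_specialLinear (hE : EData R γ T) : R ≤ Cfsg.Geo.specialLinear (Fin 3) F := by
  intro x hx
  have hx0 : T⁻¹ * x * T ∈ std R T := by
    rw [mem_std]
    have : T * (T⁻¹ * x * T) * T⁻¹ = x := by group
    rw [this]; exact hx
  have hA : A0 γ ∈ Cfsg.Geo.specialLinear (Fin 3) F := by
    rw [mem_specialLinear_iff3, A0, det_Dg]
    have := (gamma_facts hE.h3 hE.hγ).1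
    simp only [Matrix.cons_val_zero, Matrix.cons_val_one, Matrix.cons_val_two, Units.val_one,
      Units.val_pow_eq_pow_val, Matrix.head_cons, Matrix.tail_cons]
    linear_combination this
  have hB : (B0 : GL (Fin 3) F) ∈ Cfsg.Geo.specialLinear (Fin 3) F :=
    (mem_specialLinear_iff3 _).2 det_B0
  have h := hE.gen _ hA hB hx0
  have e : T⁻¹ * x * T = T⁻¹ * x * (T⁻¹)⁻¹ := by rw [inv_inv]
  rw [e, conj_mem_specialLinear] at h
  exact h

theorem card_specialLinear3 [Fintype F] :
    (Fintype.card F - 1) * Nat.card ↥(Cfsg.Geo.specialLinear (Fin 3) F) =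
      ∏ i : Fin 3, (Fintype.card F ^ 3 - Fintype.card F ^ (i : ℕ)) := by
  rw [← Cfsg.Agent.Helper2.card_SL_mul 3 (by norm_num)]
  congr 1
  apply Nat.card_congr
  refine
    { toFun := fun g => ⟨(g : GL (Fin 3) F), (mem_specialLinear_iff3 _).1 g.2⟩
      invFun := fun s => ⟨SpecialLinearGroup.toGL s, (mem_specialLinear_iff3 _).2 s.2⟩
      left_inv := ?_
      right_inv := ?_ }
  · intro g
    apply Subtype.ext
    apply Units.ext
    rfl
  · intro s
    apply Subtype.ext
    rfl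

theorem mod81 : ∀ m : ZMod 81, (m.val % 9 = 4 ∨ m.val % 9 = 7) →
    m ^ 3 * (m ^ 3 - 1) * (m ^ 2 - 1) ≠ 0 := by decide

theorem three_not_dvd_relIndex [Fintype F] {p : ℕ} [Fact p.Prime] (hF : Fintype.card F = p)
    (hp3 : p % 3 = 1) (hp9 : p % 9 ≠ 1) (hcard : Nat.card ↥R = 27) (hE : EData R γ T) :
    ¬ 3 ∣ (Cfsg.Geo.subgroupNormalizer R).relIndex (Cfsg.Geo.specialLinear (Fin 3) F) := by
  intro h3
  have hpp : p.Prime := Fact.out
  set SL := Cfsg.Geo.specialLinear (Fin 3) F with hSL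
  set N := Cfsg.Geo.subgroupNormalizer R with hN
  have hmul : Nat.card ↥(N.subgroupOf SL) * (N.subgroupOf SL).index = Nat.card ↥SL :=
    Subgroup.card_mul_index _
  have h27 : 27 ∣ Nat.card ↥(N.subgroupOf SL) := by
    have hle : R.subgroupOf SL ≤ N.subgroupOf SL := by
      intro g hg
      exact le_normalizer3 R hg
    have hc : Nat.card ↥(R.subgroupOf SL) = 27 := by
      rw [Nat.card_congr (Subgroup.subgroupOfEquivOfLe hE.le_specialLinear).toEquiv, hcard]
    rw [← hc]
    exact Subgroup.card_dvd_of_le hle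
  have h81 : 81 ∣ Nat.card ↥SL := by
    rw [← hmul]
    have : (81 : ℕ) = 27 * 3 := by norm_num
    rw [this]
    exact mul_dvd_mul h27 h3
  have hcs := card_specialLinear3 (F := F)
  rw [hF, Fin.prod_univ_three] at hcs
  simp only [Fin.val_zero, Fin.val_one, Fin.val_two, pow_zero, pow_one] at hcs
  have hp2 : 2 ≤ p := hpp.two_le
  -- the order of `SL₃(p)`
  have hn : (Nat.card ↥SL : ℤ) = (p : ℤ) ^ 3 * ((p : ℤ) ^ 3 - 1) * ((p : ℤ) ^ 2 - 1) := by
    have h1 : (1 : ℕ) ≤ p ^ 3 := Nat.one_le_pow _ _ (by omega)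
    have h2 : p ≤ p ^ 3 := by
      calc p = p ^ 1 := (pow_one p).symm
        _ ≤ p ^ 3 := Nat.pow_le_pow_right (by omega) (by norm_num)
    have h3' : p ^ 2 ≤ p ^ 3 := Nat.pow_le_pow_right (by omega) (by norm_num)
    have hz := congrArg (fun n : ℕ => (n : ℤ)) hcs
    simp only [Nat.cast_mul, Nat.cast_sub h1, Nat.cast_sub h2, Nat.cast_sub h3',
      Nat.cast_sub (show 1 ≤ p by omega), Nat.cast_pow, Nat.cast_one] at hz
    have hne : ((p : ℤ) - 1) ≠ 0 := by
      have : (2 : ℤ) ≤ p := by exact_mod_cast hp2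
      omega
    apply mul_left_cancel₀ hne
    rw [hz]
    ring
  have h81z : (81 : ℤ) ∣ (p : ℤ) ^ 3 * ((p : ℤ) ^ 3 - 1) * ((p : ℤ) ^ 2 - 1) := by
    rw [← hn]
    exact_mod_cast h81
  have hzm : ((p : ZMod 81)) ^ 3 * ((p : ZMod 81) ^ 3 - 1) * ((p : ZMod 81) ^ 2 - 1) = 0 := by
    have := (ZMod.intCast_zmod_eq_zero_iff_dvd _ 81).2 h81z
    push_cast at this
    exact this
  apply mod81 (p : ZMod 81) _ hzm
  rw [ZMod.val_natCast, Nat.mod_mod_of_dvd _ (by norm_num : 9 ∣ 81)]
  omega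

end card

end Cfsg.Agent.Helper13.E27
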