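import Mathlib
import Cfsg.Prelude.Def_LieClassical
import Cfsg.Agent.Lib.Helper13.E27Norm3
import Cfsg.Agent.Lib.Helper13.UnitaryConj
import Cfsg.Agent.Lib.Helper11.Unitary2

/-!
# Extraspecial subgroups `3^{1+2}` of `GU₃(p)`: unitary standard form (helper13)
-/

set_option autoImplicit false
set_option linter.style.haveILetI false
set_option linter.unusedSectionVars false
set_option linter.unusedVariables false

namespace Cfsg.Agent.Helper13.E27

open Matrix Cfsg.Agent.Helper11.Herm

section gram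

variable {F : Type*} [Field F] (φ : F →+* F)

theorem map_B0m : (B0m : Matrix (Fin 3) (Fin 3) F).map φ = B0m := by
  ext i j
  fin_cases i <;> fin_cases j <;> simp [B0m]

theorem map_Y0m : (Y0m : Matrix (Fin 3) (Fin 3) F).map φ = Y0m := by
  ext i j
  fin_cases i <;> fin_cases j <;> simp [Y0m]

theorem isU_B0m : IsU φ (B0m : Matrix (Fin 3) (Fin 3) F) := by
  unfold IsU
  rw [map_B0m]
  ext i j
  fin_cases i <;> fin_cases j <;> simp [B0m, Matrix.mul_apply, Fin.sum_univ_three]

theorem isU_Y0m : IsU φ (Y0m : Matrix (Fin 3) (Fin 3) F) := by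
  unfold IsU
  rw [map_Y0m]
  ext i j
  fin_cases i <;> fin_cases j <;> simp [Y0m, Matrix.mul_apply, Fin.sum_univ_three]

theorem B0m_mul_transpose : (B0m : Matrix (Fin 3) (Fin 3) F) * B0mᵀ = 1 := by
  ext i j
  fin_cases i <;> fin_cases j <;> simp [B0m, Matrix.mul_apply, Fin.sum_univ_three]

/-- the Gram matrix of a standard basis is a scalar. -/
theorem gram_scalar (h3 : (3 : F) ≠ 0) {γ : F} (hγ : γ ^ 2 + γ + 1 = 0) (hγφ : γ * φ γ = 1)
    (A B T : Matrix (Fin 3) (Fin 3) F) (hA : IsU φ A) (hB : IsU φ B)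
    (hAT : A * T = T * diagonal ![1, γ, γ ^ 2]) (hBT : B * T = T * B0m) :
    ∃ c : F, Tᵀ * T.map φ = c • (1 : Matrix (Fin 3) (Fin 3) F) := by
  set G := Tᵀ * T.map φ with hG
  set D : Matrix (Fin 3) (Fin 3) F := diagonal ![1, γ, γ ^ 2] with hD
  have hpres : ∀ M N : Matrix (Fin 3) (Fin 3) F, IsU φ M → M * T = T * N →
      G = Nᵀ * G * N.map φ := by
    intro M N hM hMT
    have h1 : (M * T)ᵀ * (M * T).map φ = G := by
      rw [Matrix.transpose_mul, Matrix.map_mul, mul_assoc, ← mul_assoc Mᵀ, hM, one_mul]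
    calc G = (M * T)ᵀ * (M * T).map φ := h1.symm
      _ = (T * N)ᵀ * (T * N).map φ := by rw [hMT]
      _ = Nᵀ * G * N.map φ := by
        rw [Matrix.transpose_mul, Matrix.map_mul, hG]
        simp only [mul_assoc]
  have hDφ : D.map φ * D = 1 := by
    rw [hD, Matrix.diagonal_map (map_zero φ), Matrix.diagonal_mul_diagonal, ← Matrix.diagonal_one]
    congr 1
    funext i
    have h2 : γ ^ 2 * φ (γ ^ 2) = 1 := by
      rw [map_pow, ← mul_pow, hγφ, one_pow]
    fin_cases i
    · simp
    · simpa [mul_comm] using hγφ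
    · simpa [mul_comm] using h2
  have hGD : G * D = D * G := by
    have h1 := hpres A D hA hAT
    have hDt : Dᵀ = D := by rw [hD, Matrix.diagonal_transpose]
    rw [hDt] at h1
    calc G * D = D * G * D.map φ * D := by rw [← h1]
      _ = D * G := by rw [mul_assoc, hDφ, mul_one]
  have hGB : G * B0m = B0m * G := by
    have h1 := hpres B B0m hB hBT
    rw [map_B0m] at h1
    calc G * B0m = B0m * B0mᵀ * G * B0m := by rw [B0m_mul_transpose, one_mul]
      _ = B0m * (B0mᵀ * G * B0m) := by simp only [mul_assoc]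
      _ = B0m * G := by rw [← h1]
  exact scalar_of_commute3 h3 hγ G hGD hGB

/-- rescaling a standard basis to a unitary one. -/
theorem exists_unitary_rescale (hφφ : ∀ x, φ (φ x) = x)
    (hN1 : ∀ c : F, c ≠ 0 → φ c = c → ∃ l : F, l ≠ 0 ∧ l * φ l = c)
    (T : Matrix (Fin 3) (Fin 3) F) (hT : IsUnit T) (c : F)
    (hc : Tᵀ * T.map φ = c • (1 : Matrix (Fin 3) (Fin 3) F)) :
    ∃ l : F, l ≠ 0 ∧ IsU φ (l • T) := by
  have hdet : T.det ≠ 0 := by
    have := (Matrix.isUnit_iff_isUnit_det T).1 hT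
    exact this.ne_zero
  have hc0 : c ≠ 0 := by
    rintro rfl
    rw [zero_smul] at hc
    have := congrArg Matrix.det hc
    have hd : φ T.det = (T.map φ).det := by
      rw [RingHom.map_det]
      rfl
    rw [Matrix.det_mul, Matrix.det_transpose, Matrix.det_zero, ← hd] at this
    rcases mul_eq_zero.1 this with h | h
    · exact hdet h
    · exact hdet ((map_eq_zero φ).1 h)
  have hcφ : φ c = c := by
    have h1 : (Tᵀ * T.map φ)ᵀ = (Tᵀ * T.map φ).map φ := by
      rw [Matrix.transpose_mul, Matrix.transpose_transpose, Matrix.map_mul, Matrix.map_map]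
      have : (T.map φ).map φ = T := by
        ext i j
        simp [hφφ]
      have h2 : T.map (⇑φ ∘ ⇑φ) = T := by
        ext i j
        simp [hφφ]
      rw [h2, Matrix.transpose_map]
    rw [hc] at h1
    have h00 := congrFun (congrFun h1 0) 0
    simp at h00
    exact h00.symm
  obtain ⟨l, hl0, hl⟩ := hN1 c⁻¹ (inv_ne_zero hc0) (by rw [map_inv₀, hcφ])
  refine ⟨l, hl0, ?_⟩
  unfold IsU
  have : (l • T).map φ = φ l • T.map φ := by
    ext i j
    simp
  rw [Matrix.transpose_smul, this, smul_mul_assoc, mul_smul_comm, smul_smul, hc, smul_smul, hl,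
    inv_mul_cancel₀ hc0, one_smul]

end gram

end Cfsg.Agent.Helper13.E27
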