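import Mathlib
import Cfsg.Agent.Lib.Helper13.E27Unitary1

/-!
# Extraspecial subgroups `3^{1+2}` of `GU₃(p)`: conjugacy into the normalizer (helper13)
-/

set_option autoImplicit false
set_option linter.style.haveILetI false
set_option linter.unusedSectionVars false
set_option linter.unusedVariables false

namespace Cfsg.Agent.Helper13.E27

open Matrix Cfsg.Agent.Helper11.Herm

section udata

variable {F : Type*} [Field F] [Fintype F] {p : ℕ} [Fact p.Prime] [CharP F p]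
variable {R : Subgroup (GL (Fin 3) F)} {γ : Fˣ} {T : GL (Fin 3) F}

theorem mem_GU_iff_pres (g : GL (Fin 3) F) :
    g ∈ Cfsg.GU 3 F p ↔ Cfsg.Agent.Helper13.Uni.Pres p (g : Matrix (Fin 3) (Fin 3) F) := Iff.rfl

theorem std_smul (R : Subgroup (GL (Fin 3) F)) (T : GL (Fin 3) F) (l : Fˣ) :
    std R (Dg (fun _ => l) * T) = std R T := by
  ext y
  rw [mem_std, mem_std]
  have : Dg (fun _ => l) * T * y * (Dg (fun _ => l) * T)⁻¹ = T * y * T⁻¹ := by
    calc Dg (fun _ => l) * T * y * (Dg (fun _ => l) * T)⁻¹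
        = Dg (fun _ => l) * (T * y * T⁻¹) * (Dg (fun _ => l))⁻¹ := by group
      _ = (T * y * T⁻¹) * Dg (fun _ => l) * (Dg (fun _ => l))⁻¹ := by rw [Dg_const_comm]
      _ = T * y * T⁻¹ := by group
  rw [this]

theorem Dg_mem_GU (hF : Fintype.card F = p ^ 2) (d : Fin 3 → Fˣ)
    (hd : ∀ i, (d i : F) * (d i : F) ^ p = 1) : Dg d ∈ Cfsg.GU 3 F p := by
  obtain ⟨φ, hφ⟩ := exists_frob hF
  rw [mem_GU_iff_isU φ hφ, Dg_val]
  apply isU_diagonal
  intro i
  rw [hφ]
  exact hd i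

theorem Y0_mem_GU (hF : Fintype.card F = p ^ 2) : (Y0 : GL (Fin 3) F) ∈ Cfsg.GU 3 F p := by
  obtain ⟨φ, hφ⟩ := exists_frob hF
  rw [mem_GU_iff_isU φ hφ, Y0_val]
  exact isU_Y0m φ

theorem EData.exists_unitary (hF : Fintype.card F = p ^ 2) (hE : EData R γ T)
    (hRU : R ≤ Cfsg.GU 3 F p) :
    ∃ T' : GL (Fin 3) F, EData R γ T' ∧ T' ∈ Cfsg.GU 3 F p ∧ (γ : F) * (γ : F) ^ p = 1 := by
  obtain ⟨φ, hφ⟩ := exists_frob hF
  have hφφ := frob_frob hF φ hφ
  have hN1 := frob_norm_surj hF φ hφ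
  set a' : GL (Fin 3) F := T * A0 γ * T⁻¹ with ha'
  set b' : GL (Fin 3) F := T * B0 * T⁻¹ with hb'
  have ha'R : a' ∈ R := (mem_std R T _).1 hE.ha
  have hb'R : b' ∈ R := (mem_std R T _).1 hE.hb
  have hUa : IsU φ (a' : Matrix (Fin 3) (Fin 3) F) := (mem_GU_iff_isU φ hφ 3 a').1 (hRU ha'R)
  have hUb : IsU φ (b' : Matrix (Fin 3) (Fin 3) F) := (mem_GU_iff_isU φ hφ 3 b').1 (hRU hb'R)
  have hUz : IsU φ ((Dg (fun _ => γ) : GL (Fin 3) F) : Matrix (Fin 3) (Fin 3) F) :=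
    (mem_GU_iff_isU φ hφ 3 _).1 (hRU hE.Z_mem)
  have hγφ : (γ : F) * φ γ = 1 := by
    rw [Dg_const_val] at hUz
    unfold IsU at hUz
    have h00 := congrFun (congrFun hUz 0) 0
    simpa [Matrix.mul_apply, Fin.sum_univ_three] using h00
  have hAT : (a' : Matrix (Fin 3) (Fin 3) F) * (T : Matrix (Fin 3) (Fin 3) F) =
      (T : Matrix (Fin 3) (Fin 3) F) * diagonal ![1, (γ : F), (γ : F) ^ 2] := by
    rw [← A0_val, ← Units.val_mul, ← Units.val_mul]
    congr 1
    rw [ha']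
    group
  have hBT : (b' : Matrix (Fin 3) (Fin 3) F) * (T : Matrix (Fin 3) (Fin 3) F) =
      (T : Matrix (Fin 3) (Fin 3) F) * B0m := by
    rw [← B0_val, ← Units.val_mul, ← Units.val_mul]
    congr 1
    rw [hb']
    group
  obtain ⟨c, hc⟩ := gram_scalar φ hE.h3 hE.hγ hγφ _ _ _ hUa hUb hAT hBT
  obtain ⟨l, hl0, hl⟩ := exists_unitary_rescale φ hφφ hN1 (T : Matrix (Fin 3) (Fin 3) F)
    T.isUnit c hc
  set lu : Fˣ := Units.mk0 l hl0 with hlu
  refine ⟨Dg (fun _ => lu) * T, ?_, ?_, ?_⟩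
  · have hs := std_smul R T lu
    exact ⟨hE.hγ, hE.h3, by rw [hs]; exact hE.ha, by rw [hs]; exact hE.hb,
      by rw [hs]; exact hE.gen, hE.fin⟩
  · rw [mem_GU_iff_isU φ hφ, Units.val_mul, Dg_const_val, smul_mul_assoc, one_mul]
    exact hl
  · rw [← hφ]
    exact hγφ

/-- elements of `SU₃` of order prime to `p` with the same characteristic polynomial are
conjugate in `SU₃`. -/
theorem su_conj_into_of_charpoly (hF : Fintype.card F = p ^ 2) (N : Subgroup (GL (Fin 3) F))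
    (x y : GL (Fin 3) F)
    (hx : x ∈ Cfsg.GU 3 F p ⊓ Cfsg.Geo.specialLinear (Fin 3) F)
    (hy : y ∈ Cfsg.GU 3 F p ⊓ Cfsg.Geo.specialLinear (Fin 3) F)
    (hyN : y ∈ N) (k : ℕ) (hk1 : 1 ≤ k) (hk : k.Coprime p) (hxk : x ^ k = 1) (hyk : y ^ k = 1)
    (hc : (x : Matrix (Fin 3) (Fin 3) F).charpoly = (y : Matrix (Fin 3) (Fin 3) F).charpoly) :
    ∃ g ∈ Cfsg.GU 3 F p ⊓ Cfsg.Geo.specialLinear (Fin 3) F, g⁻¹ * x * g ∈ N := by
  have hPx : Cfsg.Agent.Helper13.Uni.Pres p (x : Matrix (Fin 3) (Fin 3) F) :=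
    (mem_GU_iff_pres x).1 (Subgroup.mem_inf.1 hx).1
  have hPy : Cfsg.Agent.Helper13.Uni.Pres p (y : Matrix (Fin 3) (Fin 3) F) :=
    (mem_GU_iff_pres y).1 (Subgroup.mem_inf.1 hy).1
  have hkF : (k : F) ≠ 0 := Cfsg.Agent.Helper13.SS.cast_ne_zero_of_coprime hk
  have hxk' : (x : Matrix (Fin 3) (Fin 3) F) ^ k = 1 := by
    rw [← Units.val_pow_eq_pow_val, hxk, Units.val_one]
  have hyk' : (y : Matrix (Fin 3) (Fin 3) F) ^ k = 1 := by
    rw [← Units.val_pow_eq_pow_val, hyk, Units.val_one]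
  obtain ⟨Ym, hPY, hYy⟩ := Cfsg.Agent.Helper13.Uni.exists_unitary_conj_of_charpoly hF p 3
    (y : Matrix (Fin 3) (Fin 3) F) (x : Matrix (Fin 3) (Fin 3) F) hPy hPx k hk1 hkF hyk' hxk'
    hc.symm
  have hdn := Cfsg.Agent.Helper13.Uni.Pres.det_norm hF hPY
  have hd0 : Ym.det ≠ 0 := by
    intro h
    rw [h, zero_mul] at hdn
    exact zero_ne_one hdn
  obtain ⟨c, hPc, hcy, hcdet⟩ := Cfsg.Agent.Helper13.Uni.exists_unitary_commute_det hF p 3
    (by norm_num) (y : Matrix (Fin 3) (Fin 3) F) hPy k hk1 hkF hyk' (Ym.det)⁻¹ (by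
      rw [inv_pow, ← mul_inv, hdn, inv_one])
  set gm : Matrix (Fin 3) (Fin 3) F := Ym * c with hgm
  have hgdet : gm.det = 1 := by rw [hgm, Matrix.det_mul, hcdet, mul_inv_cancel₀ hd0]
  set g : GL (Fin 3) F := SpecialLinearGroup.toGL ⟨gm, hgdet⟩ with hg
  have hgval : (g : Matrix (Fin 3) (Fin 3) F) = gm := rfl
  have hPg : Cfsg.Agent.Helper13.Uni.Pres p gm := by
    intro u v
    rw [hgm, ← Matrix.mulVec_mulVec, ← Matrix.mulVec_mulVec, hPY, hPc]
  have hgxy : g * y = x * g := by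
    apply Units.ext
    rw [Units.val_mul, Units.val_mul, hgval, hgm, mul_assoc, hcy, ← mul_assoc, hYy, mul_assoc]
  refine ⟨g, Subgroup.mem_inf.2 ⟨(mem_GU_iff_pres g).2 hPg, ?_⟩, ?_⟩
  · rw [mem_specialLinear_iff3]
    exact hgdet
  · have : g⁻¹ * x * g = y := by
      rw [mul_assoc, ← hgxy, ← mul_assoc, inv_mul_cancel, one_mul]
    rw [this]; exact hyN

end udata

section umain

open Polynomial

variable {F : Type*} [Field F] [Fintype F] {p : ℕ} [Fact p.Prime] [CharP F p]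
variable {R : Subgroup (GL (Fin 3) F)} {γ : Fˣ} {T : GL (Fin 3) F}

theorem norm_one_of_pow (hF : Fintype.card F = p ^ 2) (m : ℕ) (hm : m ∣ p + 1) (d : F)
    (hd : d ^ m = 1) : d * d ^ p = 1 := by
  obtain ⟨k, hk⟩ := hm
  rw [← pow_succ', hk, pow_mul, hd, one_pow]

/-- involutions of `PSU₃` are conjugate into the normalizer of `R`. -/
theorem conj_of_sq3U (hF : Fintype.card F = p ^ 2) (hp2 : p ≠ 2) (hp3 : p ≠ 3)
    (h3p : 3 ∣ p + 1) (hE : EData R γ T) (hT : T ∈ Cfsg.GU 3 F p) (x : GL (Fin 3) F)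
    (hx : x ∈ Cfsg.GU 3 F p ⊓ Cfsg.Geo.specialLinear (Fin 3) F) (z : F)
    (hz : ((x ^ 2 : GL (Fin 3) F) : Matrix (Fin 3) (Fin 3) F) =
      z • (1 : Matrix (Fin 3) (Fin 3) F))
    (hns : ∀ z : F, (x : Matrix (Fin 3) (Fin 3) F) ≠ z • (1 : Matrix (Fin 3) (Fin 3) F)) :
    ∃ g ∈ Cfsg.GU 3 F p ⊓ Cfsg.Geo.specialLinear (Fin 3) F,
      g⁻¹ * x * g ∈ Cfsg.Geo.subgroupNormalizer R := by
  have hpp : p.Prime := Fact.out
  have hxSL := (Subgroup.mem_inf.1 hx).2
  have hdx := (mem_specialLinear_iff3 x).1 hxSL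
  have hz3 := cube_of_scalar_pow x hxSL 2 z hz
  have hz0 : z ≠ 0 := by
    rintro rfl
    simp at hz3
  set zu : Fˣ := Units.mk0 z hz0 with hzu
  have hzuv : (zu : F) = z := rfl
  have hzu3 : zu ^ 3 = 1 := by
    apply Units.ext
    rw [Units.val_pow_eq_pow_val, Units.val_one]
    exact hz3
  have hzz : zu⁻¹ * zu⁻¹ = zu := by
    have h1 : zu * (zu * zu) = 1 := by rw [← pow_two, ← pow_succ']; exact hzu3
    calc zu⁻¹ * zu⁻¹ = zu⁻¹ * zu⁻¹ * (zu * (zu * zu)) := by rw [h1, mul_one]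
      _ = zu := by group
  set Y : GL (Fin 3) F := T * Y0 * T⁻¹ with hY
  set y : GL (Fin 3) F := Dg (fun _ => zu⁻¹) * Y with hy
  have hyN : y ∈ Cfsg.Geo.subgroupNormalizer R :=
    mul_mem (scalar_mem_normalizer R _) hE.Y_mem
  have hYY : Y * Y = 1 := by
    calc Y * Y = T * (Y0 * Y0) * T⁻¹ := by rw [hY]; group
      _ = 1 := by rw [Y0_mul_Y0]; group
  have hyy : y * y = Dg (fun _ => zu) := by
    calc y * y = Dg (fun _ => zu⁻¹) * (Y * Dg (fun _ => zu⁻¹)) * Y := by rw [hy]; group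
      _ = Dg (fun _ => zu⁻¹) * (Dg (fun _ => zu⁻¹) * Y) * Y := by rw [← Dg_const_comm _ Y]
      _ = Dg (fun _ => zu⁻¹) * Dg (fun _ => zu⁻¹) * (Y * Y) := by group
      _ = Dg (fun _ => zu) := by
        rw [hYY, mul_one, Dg_mul]
        congr 1
        funext j
        exact hzz
  have hxx : x * x = Dg (fun _ => zu) := by
    apply Units.ext
    rw [← pow_two, hz, Dg_const_val, hzuv]
  have hySL : y ∈ Cfsg.Geo.specialLinear (Fin 3) F := by
    apply mul_mem
    · apply Dg_const_mem_specialLinear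
      rw [inv_pow, hzu3, inv_one]
    · rw [hY, conj_mem_specialLinear, mem_specialLinear_iff3]
      exact det_Y0
  have hyGU : y ∈ Cfsg.GU 3 F p := by
    apply mul_mem
    · apply Dg_mem_GU hF
      intro i
      apply norm_one_of_pow hF 3 h3p
      rw [← Units.val_pow_eq_pow_val, inv_pow, hzu3, inv_one, Units.val_one]
    · exact mul_mem (mul_mem hT (Y0_mem_GU hF)) (inv_mem hT)
  have hdy := (mem_specialLinear_iff3 y).1 hySL
  have hyns : ∀ c : F, (y : Matrix (Fin 3) (Fin 3) F) ≠ c • (1 : Matrix (Fin 3) (Fin 3) F) := by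
    intro c hc
    apply Y0_not_scalar (F := F) (z * c)
    have e1 : (Y0 : GL (Fin 3) F) = T⁻¹ * (Dg (fun _ => zu) * y) * T := by
      have h1 : Dg (fun _ => zu) * y = Y := by
        rw [hy, ← mul_assoc, Dg_mul]
        have : ((fun _ => zu) * fun _ => zu⁻¹ : Fin 3 → Fˣ) = 1 := by
          funext j
          exact mul_inv_cancel zu
        rw [this, Dg_one, one_mul]
      rw [h1, hY]
      group
    rw [e1]
    simp only [Units.val_mul]
    rw [hc, Dg_const_val, hzuv, smul_mul_assoc, one_mul, smul_smul, mul_smul_comm, smul_mul_assoc,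
      mul_one, ← Units.val_mul, inv_mul_cancel, Units.val_one]
  have hpow6 : ∀ w : GL (Fin 3) F, w * w = Dg (fun _ => zu) → w ^ 6 = 1 := by
    intro w hw
    have : w ^ 6 = (w * w) ^ 3 := by rw [← pow_two, ← pow_mul]
    rw [this, hw, Dg_pow]
    have : ((fun _ => zu) ^ 3 : Fin 3 → Fˣ) = 1 := by
      funext j
      exact hzu3
    rw [this, Dg_one]
  have h6 : Nat.Coprime 6 p := by
    have h2 : Nat.Coprime 2 p := (Nat.coprime_primes Nat.prime_two hpp).2 (Ne.symm hp2)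
    have h3 : Nat.Coprime 3 p := (Nat.coprime_primes Nat.prime_three hpp).2 (Ne.symm hp3)
    exact Nat.Coprime.mul_left h2 h3
  have mxx : (x : Matrix (Fin 3) (Fin 3) F) * (x : Matrix (Fin 3) (Fin 3) F) =
      z • (1 : Matrix (Fin 3) (Fin 3) F) := by
    rw [← Units.val_mul, hxx, Dg_const_val, hzuv]
  have myy : (y : Matrix (Fin 3) (Fin 3) F) * (y : Matrix (Fin 3) (Fin 3) F) =
      z • (1 : Matrix (Fin 3) (Fin 3) F) := by
    rw [← Units.val_mul, hyy, Dg_const_val, hzuv]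
  have hc : (x : Matrix (Fin 3) (Fin 3) F).charpoly = (y : Matrix (Fin 3) (Fin 3) F).charpoly := by
    rw [charpoly_of_sq _ z mxx hdx hns, charpoly_of_sq _ z myy hdy hyns]
  exact su_conj_into_of_charpoly hF _ x y hx (Subgroup.mem_inf.2 ⟨hyGU, hySL⟩) hyN 6
    (by norm_num) h6 (hpow6 x hxx) (hpow6 y hyy) hc

/-- elements of order three of `PSU₃` are conjugate into the normalizer of `R` when
`9 ∣ p + 1`. -/
theorem conj_of_cube3U (hF : Fintype.card F = p ^ 2) (hp3 : p ≠ 3) (h9 : 9 ∣ p + 1)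
    (hE : EData R γ T) (hT : T ∈ Cfsg.GU 3 F p)
    (x : GL (Fin 3) F) (hx : x ∈ Cfsg.GU 3 F p ⊓ Cfsg.Geo.specialLinear (Fin 3) F) (z : F)
    (hz : ((x ^ 3 : GL (Fin 3) F) : Matrix (Fin 3) (Fin 3) F) =
      z • (1 : Matrix (Fin 3) (Fin 3) F)) :
    ∃ g ∈ Cfsg.GU 3 F p ⊓ Cfsg.Geo.specialLinear (Fin 3) F,
      g⁻¹ * x * g ∈ Cfsg.Geo.subgroupNormalizer R := by
  classical
  have hpp : p.Prime := Fact.out
  have hxSL := (Subgroup.mem_inf.1 hx).2
  have hdx := (mem_specialLinear_iff3 x).1 hxSL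
  have hz3 := cube_of_scalar_pow x hxSL 3 z hz
  have hz0 : z ≠ 0 := by
    rintro rfl
    simp at hz3
  set zu : Fˣ := Units.mk0 z hz0 with hzu
  have hzuv : (zu : F) = z := rfl
  have hzu3 : zu ^ 3 = 1 := by
    apply Units.ext
    rw [Units.val_pow_eq_pow_val, Units.val_one]
    exact hz3
  have h9' : 9 ∣ Fintype.card F - 1 := by
    rw [hF]
    have : p ^ 2 - 1 = (p + 1) * (p - 1) := by
      have := Nat.sq_sub_sq p 1
      rw [one_pow] at this
      exact this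
    rw [this]
    exact Dvd.dvd.mul_right h9 _
  -- a cube root of `z`
  obtain ⟨α₀, hα₀⟩ : ∃ α₀ : F, α₀ ^ 3 = z := by
    obtain ⟨m, hm⟩ := h9'
    apply Cfsg.Agent.Helper13.POS.exists_pow_eq_of_pow_div_eq_one 3 (by norm_num)
      (Dvd.intro (3 * m) (by rw [hm]; ring)) z hz0
    have : (Fintype.card F - 1) / 3 = 3 * m := by
      rw [hm]
      omega
    rw [this, pow_mul, hz3, one_pow]
  have hprim : IsPrimitiveRoot (γ : F) 3 := by
    haveI : Fact (Nat.Prime 3) := ⟨Nat.prime_three⟩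
    have ho : orderOf γ = 3 := orderOf_eq_prime hE.gamma_pow hE.gamma_ne_one
    have := IsPrimitiveRoot.orderOf γ
    rw [ho] at this
    exact IsPrimitiveRoot.coe_units_iff.2 this
  set Φ : F[X] := X ^ 3 - C z with hΦ
  have hsplit : Φ.Splits := X_pow_sub_C_splits_of_isPrimitiveRoot hprim hα₀
  have hΦmon : Φ.Monic := monic_X_pow_sub_C z (by norm_num)
  have hΦ0 : Φ ≠ 0 := hΦmon.ne_zero
  have hΦsq : Squarefree Φ := (separable_X_pow_sub_C z (by exact_mod_cast hE.h3) hz0).squarefree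
  set S := Cfsg.Agent.Helper13.SS.irrFactors Φ with hS
  have hprod : ∏ f ∈ S, f = Φ := Cfsg.Agent.Helper13.SS.irrFactors_prod hΦmon hΦsq
  have hirr : ∀ f ∈ S, Irreducible f := fun f hf => Cfsg.Agent.Helper13.SS.irrFactors_irreducible hf
  have hmon : ∀ f ∈ S, f.Monic := fun f hf => Cfsg.Agent.Helper13.SS.irrFactors_monic hf
  have hk : aeval (Cfsg.Agent.Helper13.SS.L x) (∏ f ∈ S, f) = 0 := by
    rw [hprod, hΦ, map_sub, map_pow, aeval_X, aeval_C, ← Cfsg.Agent.Helper13.SS.L_pow]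
    unfold Cfsg.Agent.Helper13.SS.L
    rw [hz, map_smul, Matrix.toLin'_one, Algebra.algebraMap_eq_smul_one, sub_eq_zero]
    rfl
  have hchar := Cfsg.Agent.Helper13.SS.charpoly_eq_prod S hirr hmon
    (Cfsg.Agent.Helper13.SS.L x) hk
  rw [Cfsg.Agent.Helper13.SS.charpoly_L] at hchar
  set P := (x : Matrix (Fin 3) (Fin 3) F).charpoly with hP
  have hPmon : P.Monic := Matrix.charpoly_monic _
  have hP0 : P ≠ 0 := hPmon.ne_zero
  have hsp : P.Splits := by
    rw [hchar]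
    apply Splits.prod
    intro f hf
    exact (Splits.of_dvd hsplit hΦ0 (Cfsg.Agent.Helper13.SS.irrFactors_dvd hf)).pow _
  have hroot : ∀ d : F, P.IsRoot d → d ^ 3 = z := by
    intro d hd
    rw [Polynomial.IsRoot, hchar, Polynomial.eval_prod, Finset.prod_eq_zero_iff] at hd
    obtain ⟨f, hf, hfd⟩ := hd
    rw [Polynomial.eval_pow] at hfd
    have hfd' : f.eval d = 0 := by
      by_contra hne
      exact (pow_ne_zero _ hne) hfd
    have := Polynomial.eval_eq_zero_of_dvd_of_eval_eq_zero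
      (Cfsg.Agent.Helper13.SS.irrFactors_dvd hf) hfd'
    rw [hΦ, Polynomial.eval_sub, Polynomial.eval_pow, Polynomial.eval_X, Polynomial.eval_C,
      sub_eq_zero] at this
    exact this
  have hcard : Multiset.card P.roots = 3 := by
    rw [← hsp.natDegree_eq_card_roots, hP, Matrix.charpoly_natDegree_eq_dim, Fintype.card_fin]
  obtain ⟨d0, d1, d2, hroots⟩ := Multiset.card_eq_three.1 hcard
  have hfac : P = (X - C d0) * ((X - C d1) * (X - C d2)) := by
    conv_lhs => rw [hsp.eq_prod_roots_of_monic hPmon, hroots]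
    simp only [Multiset.insert_eq_cons, Multiset.map_cons, Multiset.prod_cons,
      Multiset.map_singleton, Multiset.prod_singleton]
  have hmem : ∀ d ∈ P.roots, d ^ 3 = z := fun d hd => hroot d ((Polynomial.mem_roots hP0).1 hd)
  have hd0 : d0 ^ 3 = z := hmem d0 (by rw [hroots]; simp)
  have hd1 : d1 ^ 3 = z := hmem d1 (by rw [hroots]; simp)
  have hd2 : d2 ^ 3 = z := hmem d2 (by rw [hroots]; simp)
  have hne : ∀ d : F, d ^ 3 = z → d ≠ 0 := by
    rintro d hd rfl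
    apply hz0
    rw [← hd]
    simp
  set du : Fin 3 → Fˣ := ![Units.mk0 d0 (hne d0 hd0), Units.mk0 d1 (hne d1 hd1),
    Units.mk0 d2 (hne d2 hd2)] with hdu
  have hdu3 : ∀ j, du j ^ 3 = zu := by
    intro j
    apply Units.ext
    rw [Units.val_pow_eq_pow_val, hzuv]
    fin_cases j
    · exact hd0
    · exact hd1
    · exact hd2
  have hdu9 : ∀ j, du j ^ 9 = 1 := by
    intro j
    have : du j ^ 9 = (du j ^ 3) ^ 3 := by rw [← pow_mul]
    rw [this, hdu3, hzu3]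
  set y : GL (Fin 3) F := T * Dg du * T⁻¹ with hy
  have hyN : y ∈ Cfsg.Geo.subgroupNormalizer R := hE.Dg_mem du zu hdu3
  have hyGU : y ∈ Cfsg.GU 3 F p := by
    apply mul_mem (mul_mem hT _) (inv_mem hT)
    apply Dg_mem_GU hF
    intro i
    apply norm_one_of_pow hF 9 h9
    rw [← Units.val_pow_eq_pow_val, hdu9, Units.val_one]
  have hcy : (y : Matrix (Fin 3) (Fin 3) F).charpoly = P := by
    have : (y : Matrix (Fin 3) (Fin 3) F) =
        (T : Matrix (Fin 3) (Fin 3) F) * (Dg du : GL (Fin 3) F) *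
          (T : Matrix (Fin 3) (Fin 3) F)⁻¹ := by
      rw [hy, Units.val_mul, Units.val_mul, Matrix.coe_units_inv]
    rw [this, Matrix.charpoly_units_conj, Dg_val, Matrix.charpoly_diagonal, Fin.prod_univ_three,
      hfac, mul_assoc]
    rfl
  have hdy : (y : Matrix (Fin 3) (Fin 3) F).det = 1 := by
    have h1 := Matrix.det_eq_sign_charpoly_coeff (y : Matrix (Fin 3) (Fin 3) F)
    have h2 := Matrix.det_eq_sign_charpoly_coeff (x : Matrix (Fin 3) (Fin 3) F)
    rw [hcy] at h1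
    rw [h1, ← h2, hdx]
  have hySL : y ∈ Cfsg.Geo.specialLinear (Fin 3) F := (mem_specialLinear_iff3 y).2 hdy
  have hx9 : x ^ 9 = 1 := by
    have h3 : x ^ 3 = Dg (fun _ => zu) := by
      apply Units.ext
      rw [hz, Dg_const_val, hzuv]
    have : x ^ 9 = (x ^ 3) ^ 3 := by rw [← pow_mul]
    rw [this, h3, Dg_pow]
    have : ((fun _ => zu) ^ 3 : Fin 3 → Fˣ) = 1 := by
      funext j
      exact hzu3
    rw [this, Dg_one]
  have hy9 : y ^ 9 = 1 := by
    rw [hy, conj_pow, Dg_pow]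
    have : (du ^ 9 : Fin 3 → Fˣ) = 1 := by
      funext j
      exact hdu9 j
    rw [this, Dg_one, mul_one, mul_inv_cancel]
  have h9c : Nat.Coprime 9 p := by
    have h3 : Nat.Coprime 3 p := (Nat.coprime_primes Nat.prime_three hpp).2 (Ne.symm hp3)
    exact Nat.Coprime.pow_left 2 h3
  exact su_conj_into_of_charpoly hF _ x y hx (Subgroup.mem_inf.2 ⟨hyGU, hySL⟩) hyN 9
    (by norm_num) h9c hx9 hy9 hcy.symm

end umain

section ucard

variable {F : Type*} [Field F] [Fintype F] {p : ℕ} [Fact p.Prime]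
variable {R : Subgroup (GL (Fin 3) F)} {γ : Fˣ} {T : GL (Fin 3) F}

theorem card_SU3 (hF : Fintype.card F = p ^ 2) :
    Nat.card ↥(Cfsg.GU 3 F p ⊓ Cfsg.Geo.specialLinear (Fin 3) F) =
      p ^ 3 * ((p ^ 2 - 1) * (p ^ 3 + 1)) := by
  obtain ⟨φ, hφ⟩ := exists_frob hF
  have h1 : Nat.card ↥(Cfsg.GU 3 F p ⊓ Cfsg.Geo.specialLinear (Fin 3) F) =
      Nat.card (Cfsg.SU 3 F p) := by
    apply Nat.card_congr
    refine
      { toFun := fun g => ⟨mkSL ((g : GL (Fin 3) F) : Matrix (Fin 3) (Fin 3) F)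
            ((mem_specialLinear_iff3 _).1 (Subgroup.mem_inf.1 g.2).2), ?_⟩
        invFun := fun s => ⟨SpecialLinearGroup.toGL s.1, Subgroup.mem_inf.2 ⟨?_, ?_⟩⟩
        left_inv := ?_
        right_inv := ?_ }
    · rw [mem_SU_iff_isU φ hφ]
      exact (mem_GU_iff_isU φ hφ 3 _).1 (Subgroup.mem_inf.1 g.2).1
    · rw [mem_GU_iff_isU φ hφ]
      exact (mem_SU_iff_isU φ hφ 3 s.1).1 s.2
    · rw [mem_specialLinear_iff3]
      exact s.1.2
    · intro g
      apply Subtype.ext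
      apply Units.ext
      rfl
    · intro s
      apply Subtype.ext
      apply Subtype.ext
      rfl
  have h2 := card_GU_eq_SU hF 3 (by norm_num)
  have h3 := card_GU hF 3
  rw [h1]
  have hpos : 0 < p + 1 := Nat.succ_pos _
  apply Nat.eq_of_mul_eq_mul_left hpos
  rw [h2, h3]
  unfold guOrder
  have he1 : ¬ Even 1 := by decide
  have he2 : Even 2 := by decide
  simp only [Finset.prod_range_succ, Finset.prod_range_zero, one_mul, Even.zero, if_true,
    zero_add, he1, if_false, he2]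
  norm_num
  ring

theorem mod81U : ∀ m : ZMod 81, (m.val % 9 = 2 ∨ m.val % 9 = 5) →
    m ^ 3 * ((m ^ 2 - 1) * (m ^ 3 + 1)) ≠ 0 := by decide

theorem three_not_dvd_relIndexU (hF : Fintype.card F = p ^ 2)
    (hp3 : p % 3 = 2) (hp9 : p % 9 ≠ 8) (hcard : Nat.card ↥R = 27) (hE : EData R γ T)
    (hRU : R ≤ Cfsg.GU 3 F p) :
    ¬ 3 ∣ (Cfsg.Geo.subgroupNormalizer R).relIndex
      (Cfsg.GU 3 F p ⊓ Cfsg.Geo.specialLinear (Fin 3) F) := by
  intro h3
  have hpp : p.Prime := Fact.out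
  set SU := Cfsg.GU 3 F p ⊓ Cfsg.Geo.specialLinear (Fin 3) F with hSU
  set N := Cfsg.Geo.subgroupNormalizer R with hN
  have hRSU : R ≤ SU := le_inf hRU hE.le_specialLinear
  have hmul : Nat.card ↥(N.subgroupOf SU) * (N.subgroupOf SU).index = Nat.card ↥SU :=
    Subgroup.card_mul_index _
  have h27 : 27 ∣ Nat.card ↥(N.subgroupOf SU) := by
    have hle : R.subgroupOf SU ≤ N.subgroupOf SU := by
      intro g hg
      exact le_normalizer3 R hg
    have hc : Nat.card ↥(R.subgroupOf SU) = 27 := by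
      rw [Nat.card_congr (Subgroup.subgroupOfEquivOfLe hRSU).toEquiv, hcard]
    rw [← hc]
    exact Subgroup.card_dvd_of_le hle
  have h81 : 81 ∣ Nat.card ↥SU := by
    rw [← hmul]
    have : (81 : ℕ) = 27 * 3 := by norm_num
    rw [this]
    exact mul_dvd_mul h27 h3
  rw [hSU, card_SU3 hF] at h81
  have hp2 : 2 ≤ p := hpp.two_le
  have hzm : ((p : ZMod 81)) ^ 3 * (((p : ZMod 81) ^ 2 - 1) * ((p : ZMod 81) ^ 3 + 1)) = 0 := by
    have := (ZMod.natCast_eq_zero_iff _ 81).2 h81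
    have h1 : (1 : ℕ) ≤ p ^ 2 := Nat.one_le_pow _ _ (by omega)
    push_cast [Nat.cast_sub h1] at this
    exact this
  apply mod81U (p : ZMod 81) _ hzm
  rw [ZMod.val_natCast, Nat.mod_mod_of_dvd _ (by norm_num : 9 ∣ 81)]
  omega

end ucard

end Cfsg.Agent.Helper13.E27
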