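import Mathlib
import Cfsg.Agent.Lib.Helper13.InvariantTower
import Cfsg.Agent.Lib.Helper13.PrimeOrderSemisimple

/-!
# Elements of prime order of `SL_n(q)` and their invariant subspaces

Tools for the Burness–Giudici `r`-elusivity statements for linear groups:
* `exists_inv_isCompl`: a Maschke-type lemma for `f ^ r = c • 1`;
* `no_T2`: arithmetic obstruction to elements with `x ^ r` a non-`r`-th power scalar;
* `exists_sl_of_linearMap` and the `transport_*` lemmas: realising abstract linear maps as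
  matrices in `SL_n`;
* `exists_T1`, `exists_T2`: the derangements.
-/

set_option autoImplicit false
set_option linter.style.haveILetI false
set_option linter.unusedSectionVars false
set_option linter.unusedVariables false

namespace Cfsg.Agent.Helper13.Elus

open Module Polynomial Cfsg.Agent.Helper13.InvTow Cfsg.Agent.Helper13.POS

universe u

section maschke

variable {F : Type*} [Field F] {V : Type*} [AddCommGroup V] [Module F V]

/-- Maschke-type lemma: if `f ^ r = c • 1` with `c ≠ 0` and `r` invertible in `F`, every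
`f`-invariant subspace has an `f`-invariant complement. -/
theorem exists_inv_isCompl (r : ℕ) (hr : 0 < r) (hrF : (r : F) ≠ 0) (c : F) (hc : c ≠ 0)
    (f : V →ₗ[F] V) (hf : f ^ r = c • 1) (U : Submodule F V) (hU : Inv f U) :
    ∃ W : Submodule F V, Inv f W ∧ IsCompl U W := by
  obtain ⟨U', hU'⟩ := Submodule.exists_isCompl U
  set π₀ : V →ₗ[F] V := U.subtype ∘ₗ (Submodule.projectionOnto U U' hU') with hπ₀
  have hπ₀U : ∀ v, π₀ v ∈ U := fun v => (Submodule.projectionOnto U U' hU' v).2
  have hπ₀id : ∀ u ∈ U, π₀ u = u := fun u hu => by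
    have := Submodule.projectionOnto_apply_left hU' ⟨u, hu⟩
    simp only [hπ₀, LinearMap.comp_apply, Submodule.subtype_apply]
    exact congrArg Subtype.val this
  set g : V →ₗ[F] V := c⁻¹ • f ^ (r - 1) with hg
  have hfg : f * g = 1 := by
    rw [hg, mul_smul_comm, ← pow_succ', Nat.sub_add_cancel hr, hf, smul_smul, inv_mul_cancel₀ hc,
      one_smul]
  have hgf : g * f = 1 := by
    rw [hg, smul_mul_assoc, ← pow_succ, Nat.sub_add_cancel hr, hf, smul_smul, inv_mul_cancel₀ hc,
      one_smul]
  have hcomm : Commute f g := hfg.trans hgf.symm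
  have hgU : Inv g U := fun v hv => by
    rw [hg, LinearMap.smul_apply]
    exact U.smul_mem _ (hU.pow (r - 1) v hv)
  have hgr : g ^ r = c⁻¹ • 1 := by
    have h1 : g ^ r * f ^ r = 1 := by rw [← hcomm.symm.mul_pow, hgf, one_pow]
    rw [hf, mul_smul_comm, mul_one] at h1
    rw [← h1, smul_smul, inv_mul_cancel₀ hc, one_smul]
  set S : V →ₗ[F] V := ∑ k ∈ Finset.range r, f ^ k * π₀ * g ^ k with hS
  set π : V →ₗ[F] V := (r : F)⁻¹ • S with hπ
  have hSU : ∀ v, S v ∈ U := by
    intro v
    rw [hS, LinearMap.sum_apply]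
    apply Submodule.sum_mem
    intro k _
    rw [Module.End.mul_apply, Module.End.mul_apply]
    exact hU.pow k _ (hπ₀U _)
  have hπU : ∀ v, π v ∈ U := fun v => by
    rw [hπ, LinearMap.smul_apply]; exact U.smul_mem _ (hSU v)
  have hSid : ∀ u ∈ U, S u = (r : F) • u := by
    intro u hu
    rw [hS, LinearMap.sum_apply]
    have : ∀ k ∈ Finset.range r, (f ^ k * π₀ * g ^ k) u = u := by
      intro k _
      rw [Module.End.mul_apply, Module.End.mul_apply, hπ₀id _ (hgU.pow k u hu),
        ← Module.End.mul_apply, ← hcomm.mul_pow, hfg, one_pow, Module.End.one_apply]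
    rw [Finset.sum_congr rfl this, Finset.sum_const, Finset.card_range, Nat.cast_smul_eq_nsmul]
  have hπid : ∀ u ∈ U, π u = u := fun u hu => by
    rw [hπ, LinearMap.smul_apply, hSid u hu, smul_smul, inv_mul_cancel₀ hrF, one_smul]
  have hfSg : f * S * g = S := by
    rw [hS, Finset.mul_sum, Finset.sum_mul]
    have h1 : ∀ k ∈ Finset.range r, f * (f ^ k * π₀ * g ^ k) * g = f ^ (k + 1) * π₀ * g ^ (k + 1) := by
      intro k _
      rw [pow_succ' f k, pow_succ g k]
      simp only [mul_assoc]
    rw [Finset.sum_congr rfl h1]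
    have h2 := Finset.sum_range_succ' (fun k => f ^ k * π₀ * g ^ k) r
    have h3 := Finset.sum_range_succ (fun k => f ^ k * π₀ * g ^ k) r
    rw [h2] at h3
    simp only [pow_zero, one_mul, mul_one] at h3
    have h4 : f ^ r * π₀ * g ^ r = π₀ := by
      rw [hf, hgr, smul_mul_assoc, one_mul, mul_smul_comm, mul_one, smul_smul, inv_mul_cancel₀ hc,
        one_smul]
    rw [h4] at h3
    exact add_right_cancel h3
  have hfS : f * S = S * f := by
    calc f * S = f * S * (g * f) := by rw [hgf, mul_one]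
      _ = (f * S * g) * f := by simp only [mul_assoc]
      _ = S * f := by rw [hfSg]
  have hfπ : ∀ v, f (π v) = π (f v) := by
    intro v
    rw [hπ, LinearMap.smul_apply, LinearMap.smul_apply, map_smul]
    congr 1
    rw [← Module.End.mul_apply, hfS, Module.End.mul_apply]
  set π' : V →ₗ[F] U := π.codRestrict U hπU with hπ'
  refine ⟨LinearMap.ker π', ?_, ?_⟩
  · intro w hw
    rw [LinearMap.mem_ker] at hw ⊢
    apply Subtype.ext
    have h1 : π w = 0 := congrArg Subtype.val hw
    change π (f w) = 0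
    rw [← hfπ, h1, map_zero]
  · apply LinearMap.isCompl_of_proj
    intro u
    apply Subtype.ext
    exact hπid u u.2

end maschke

section noT2

variable {F : Type*} [Field F] [Fintype F]

/-- under the arithmetic conditions there is no element of `SL` with `f ^ r = c` for a
non-`r`-th power `c`. -/
theorem no_T2 (r : ℕ) [Fact r.Prime] (hrq : r ∣ Fintype.card F - 1)
    {V : Type u} [AddCommGroup V] [Module F V] [FiniteDimensional F V]
    (f : V →ₗ[F] V) (c : F) (hc : ∀ d : F, d ^ r ≠ c) (hf : f ^ r = c • 1)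
    (hdet : LinearMap.det f = 1) (n : ℕ) (hn : finrank F V = n) (hnpos : 0 < n)
    (hval : padicValNat r n ≤ padicValNat r (Fintype.card F - 1))
    (h2 : r = 2 → Even n → Fintype.card F % 4 = 1) : False := by
  have hr : r.Prime := Fact.out
  have hirr : Irreducible (X ^ r - C c : F[X]) := X_pow_sub_C_irreducible_of_prime hr hc
  have hrn : r ∣ n := by
    have := dvd_finrank_of_irreducible r hr.pos c hirr f hf ⊤ (inv_top f)
    rwa [finrank_top, hn] at this
  have hdet' := det_of_irreducible r hr.pos c hirr n V f hf hn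
  rw [hdet] at hdet'
  have hc0 : c ≠ 0 := fun h => hc 0 (by rw [h, zero_pow hr.ne_zero])
  obtain ⟨n', hn'⟩ := hrn
  have hn'0 : n' ≠ 0 := fun h => by rw [h, mul_zero] at hn'; omega
  have hdiv : n / r = n' := by rw [hn', Nat.mul_div_cancel_left _ hr.pos]
  rw [hdiv] at hdet'
  have hv1 : padicValNat r n = padicValNat r n' + 1 := by
    rw [hn', padicValNat.mul hr.ne_zero hn'0, padicValNat_self, add_comm]
  have hval' : padicValNat r n' < padicValNat r (Fintype.card F - 1) := by omega
  rcases hr.eq_two_or_odd with h | h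
  · -- r = 2
    have hq4 := h2 h (by rw [hn', h]; exact even_two_mul n')
    have hsq : IsSquare (-1 : F) := by
      rw [FiniteField.isSquare_neg_one_iff]; omega
    obtain ⟨z, hz⟩ := hsq
    have h3 : ((-1 : F) ^ (r + 1)) = -1 := by rw [h]; norm_num
    rw [h3] at hdet'
    obtain ⟨y, hy⟩ := exists_pow_eq_of_pow_eq_one r hrq (-1 * c) (by simpa using hc0) n' hn'0
      hdet'.symm hval'
    apply hc (z * y)
    rw [mul_pow, hy, h, ← neg_one_mul, ← mul_assoc, sq, ← hz]
    ring
  · have h3 : ((-1 : F) ^ (r + 1)) = 1 := by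
      apply Even.neg_one_pow
      rw [Nat.even_add_one, Nat.not_even_iff]; exact h
    rw [h3, one_mul] at hdet'
    obtain ⟨y, hy⟩ := exists_pow_eq_of_pow_eq_one r hrq c hc0 n' hn'0 hdet'.symm hval'
    exact hc y hy

end noT2


section transport

variable {F : Type*} [Field F] {V : Type*} [AddCommGroup V] [Module F V] [FiniteDimensional F V]

/-- realise a linear map of determinant one on an `n`-dimensional space as a matrix in `SL_n`. -/
theorem exists_sl_of_linearMap (n : ℕ) (hn : finrank F V = n) (f : V →ₗ[F] V)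
    (hdet : LinearMap.det f = 1) :
    ∃ (x : Matrix.SpecialLinearGroup (Fin n) F) (e : V ≃ₗ[F] (Fin n → F)),
      ∀ v, Matrix.toLin' (x : Matrix (Fin n) (Fin n) F) (e v) = e (f v) := by
  have e : V ≃ₗ[F] (Fin n → F) := LinearEquiv.ofFinrankEq V (Fin n → F) (by simp [hn])
  have hd : (LinearMap.toMatrix' (e.conj f)).det = 1 := by
    rw [LinearMap.det_toMatrix', LinearEquiv.conj_apply, LinearMap.comp_assoc,
      LinearMap.det_conj, hdet]
  refine ⟨⟨LinearMap.toMatrix' (e.conj f), hd⟩, e, fun v => ?_⟩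
  change Matrix.toLin' (LinearMap.toMatrix' (e.conj f)) (e v) = e (f v)
  rw [Matrix.toLin'_toMatrix', LinearEquiv.conj_apply]
  simp

variable {n : ℕ} (x : Matrix (Fin n) (Fin n) F) (e : V ≃ₗ[F] (Fin n → F)) (f : V →ₗ[F] V)
  (hxe : ∀ v, Matrix.toLin' x (e v) = e (f v))

include hxe

theorem transport_pow (k : ℕ) : ∀ v, Matrix.toLin' (x ^ k) (e v) = e ((f ^ k) v) := by
  induction k with
  | zero => intro v; simp
  | succ k ih =>
    intro v
    rw [pow_succ, Matrix.toLin'_mul, LinearMap.comp_apply, hxe, ih, pow_succ,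
      Module.End.mul_apply]

theorem transport_pow_eq_smul (k : ℕ) (c : F) (hf : f ^ k = c • 1) :
    x ^ k = c • (1 : Matrix (Fin n) (Fin n) F) := by
  apply Matrix.toLin'.injective
  apply LinearMap.ext
  intro w
  obtain ⟨v, rfl⟩ := e.surjective w
  rw [transport_pow x e f hxe k v, hf]
  simp

theorem transport_ne_smul (hf : ∀ c : F, f ≠ c • 1) :
    ∀ c : F, x ≠ c • (1 : Matrix (Fin n) (Fin n) F) := by
  intro c hc
  apply hf c
  apply LinearMap.ext
  intro v
  apply e.injective
  rw [← hxe, hc]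
  simp

theorem transport_inv (W : Submodule F (Fin n → F)) (hW : W.map (Matrix.toLin' x) ≤ W) :
    Inv f (W.comap (e : V →ₗ[F] (Fin n → F))) := by
  intro v hv
  rw [Submodule.mem_comap] at hv ⊢
  change e (f v) ∈ W
  rw [← hxe]
  exact hW ⟨e v, hv, rfl⟩

omit hxe in
theorem transport_finrank (W : Submodule F (Fin n → F)) :
    finrank F ↥(W.comap (e : V →ₗ[F] (Fin n → F))) = finrank F W := by
  have h : W.comap (e : V →ₗ[F] (Fin n → F)) = W.map (e.symm : (Fin n → F) →ₗ[F] V) :=
    (Submodule.map_equiv_eq_comap_symm e.symm W).symm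
  rw [h]
  exact LinearEquiv.finrank_map_eq e.symm W

theorem transport_fixed :
    finrank F ↥(LinearMap.ker (Matrix.toLin' x - 1)) = finrank F ↥(LinearMap.ker (f - 1)) := by
  rw [← transport_finrank e (LinearMap.ker (Matrix.toLin' x - 1))]
  have h : (LinearMap.ker (Matrix.toLin' x - 1)).comap (e : V →ₗ[F] (Fin n → F)) =
      LinearMap.ker (f - 1) := by
    ext v
    rw [Submodule.mem_comap, LinearMap.mem_ker, LinearMap.mem_ker, LinearMap.sub_apply,
      LinearMap.sub_apply]
    change Matrix.toLin' x (e v) - e v = 0 ↔ f v - v = 0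
    rw [hxe, ← map_sub, EmbeddingLike.map_eq_zero_iff]
  rw [h]

end transport


section T1

variable {F : Type*} [Field F] [Fintype F]

/-- in a finite field, `d ^ r = 1` with `r` prime not dividing `q - 1` forces `d = 1`. -/
theorem eq_one_of_pow_eq_one_of_not_dvd (r : ℕ) [Fact r.Prime] (hrq : ¬ r ∣ Fintype.card F - 1)
    (d : F) (hd : d ^ r = 1) : d = 1 := by
  have hr : r.Prime := Fact.out
  have hd0 : d ≠ 0 := fun h => by rw [h, zero_pow hr.ne_zero] at hd; exact zero_ne_one hd
  have h1 : orderOf d ∣ r := orderOf_dvd_of_pow_eq_one hd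
  have h2 : orderOf d ∣ Fintype.card F - 1 :=
    orderOf_dvd_of_pow_eq_one (FiniteField.pow_card_sub_one_eq_one d hd0)
  rcases (Nat.dvd_prime hr).mp h1 with h | h
  · exact orderOf_eq_one_iff.mp h
  · rw [h] at h2; exact absurd h2 hrq

theorem not_dvd_of_two_le_orderOf (r : ℕ) [Fact r.Prime]
    (hi2 : 2 ≤ orderOf ((Fintype.card F : ℕ) : ZMod r)) : ¬ r ∣ Fintype.card F - 1 := by
  intro h
  have := (pow_card_eq_one_iff r (Fintype.card F) 1 Fintype.card_pos).mp (by rwa [pow_one])
  have := Nat.le_of_dvd one_pos this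
  omega


/-- abstract `T1` element: acts freely on a complement of a `n % i`-dimensional space. -/
theorem exists_T1_linear (r : ℕ) [Fact r.Prime] (hrF : (r : F) ≠ 0) (n : ℕ)
    (hi2 : 2 ≤ orderOf ((Fintype.card F : ℕ) : ZMod r))
    (hin : orderOf ((Fintype.card F : ℕ) : ZMod r) ≤ n) :
    ∃ (V' : Type u_1) (_ : AddCommGroup V') (_ : Module F V') (_ : FiniteDimensional F V')
      (f : V' →ₗ[F] V'), finrank F V' = n ∧ f ^ r = 1 ∧ LinearMap.det f = 1 ∧
        (∀ c : F, f ≠ c • 1) ∧
        finrank F ↥(LinearMap.ker (f - 1)) ≤ n % orderOf ((Fintype.card F : ℕ) : ZMod r) := by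
  classical
  set i := orderOf ((Fintype.card F : ℕ) : ZMod r) with hi
  have hr : r.Prime := Fact.out
  obtain ⟨p, hp⟩ := CharP.exists F
  haveI : Fact p.Prime := ⟨CharP.char_is_prime F p⟩
  haveI : NeZero i := ⟨by omega⟩
  let K := FiniteField.Extension F p i
  haveI : Fintype K := Fintype.ofFinite K
  have hcardK : Nat.card Kˣ = Fintype.card F ^ i - 1 := by
    rw [Nat.card_units, FiniteField.natCard_extension, Nat.card_eq_fintype_card]
  have hr_dvd : r ∣ Nat.card Kˣ := by
    rw [hcardK, pow_card_eq_one_iff r _ _ Fintype.card_pos]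
  obtain ⟨η, hη⟩ := exists_prime_orderOf_dvd_card' r hr_dvd
  have hη1 : (η : K) ≠ 1 := by
    intro h
    have : η = 1 := Units.ext h
    rw [this, orderOf_one] at hη
    exact hr.one_lt.ne hη
  have hηr : (η : K) ^ r = 1 := by
    rw [← Units.val_pow_eq_pow_val, ← hη, pow_orderOf_eq_one, Units.val_one]
  let f₁ : (Fin (n / i) → K) →ₗ[F] (Fin (n / i) → K) :=
    DistribSMul.toLinearMap F (Fin (n / i) → K) (η : K)
  let f : ((Fin (n / i) → K) × (Fin (n % i) → F)) →ₗ[F] ((Fin (n / i) → K) × (Fin (n % i) → F)) :=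
    LinearMap.prodMap f₁ LinearMap.id
  have hfapp : ∀ a b, f (a, b) = ((η : K) • a, b) := fun a b => rfl
  have hfpow : ∀ k a b, (f ^ k) (a, b) = ((η : K) ^ k • a, b) := by
    intro k
    induction k with
    | zero => intro a b; simp
    | succ k ih =>
      intro a b
      rw [pow_succ, Module.End.mul_apply, hfapp, ih, smul_smul, ← pow_succ]
  have hfr : f ^ r = 1 := by
    apply LinearMap.ext
    rintro ⟨a, b⟩
    rw [hfpow, hηr, one_smul, Module.End.one_apply]
  have hfin : finrank F ((Fin (n / i) → K) × (Fin (n % i) → F)) = n := by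
    rw [Module.finrank_prod, Module.finrank_pi_fintype, Module.finrank_fin_fun]
    simp only [Finset.sum_const, Finset.card_univ, Fintype.card_fin, smul_eq_mul]
    have hK : finrank F K = i := FiniteField.finrank_extension F p i
    rw [hK]
    exact Nat.div_add_mod' n i
  have hrq : ¬ r ∣ Fintype.card F - 1 := not_dvd_of_two_le_orderOf r hi2
  have hdet : LinearMap.det f = 1 := by
    apply eq_one_of_pow_eq_one_of_not_dvd r hrq
    rw [← map_pow, hfr, map_one]
  have hk : 0 < n / i := Nat.div_pos hin (by omega)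
  have hns : ∀ c : F, f ≠ c • 1 := by
    intro c hc
    have h1 := hfapp (Pi.single ⟨0, hk⟩ 1) 0
    rw [hc] at h1
    have h2 := congrArg (fun v => v.1 ⟨0, hk⟩) h1
    simp only [LinearMap.smul_apply, Module.End.one_apply, Prod.smul_mk, Pi.smul_apply,
      Pi.single_eq_same, smul_eq_mul, mul_one] at h2
    -- h2 : c • 1 = η
    have h3 : (algebraMap F K c) ^ r = 1 := by
      rw [Algebra.algebraMap_eq_smul_one, h2, hηr]
    rw [← map_pow, ← map_one (algebraMap F K)] at h3
    have h4 : c ^ r = 1 := (algebraMap F K).injective h3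
    have h5 : c = 1 := eq_one_of_pow_eq_one_of_not_dvd r hrq c h4
    rw [h5, one_smul] at h2
    exact hη1 h2.symm
  have hfix : finrank F ↥(LinearMap.ker (f - 1)) ≤ n % i := by
    have hle : LinearMap.ker (f - 1) ≤
        LinearMap.range (LinearMap.inr F (Fin (n / i) → K) (Fin (n % i) → F)) := by
      rintro ⟨a, b⟩ hab
      rw [LinearMap.mem_ker, LinearMap.sub_apply, hfapp, Module.End.one_apply] at hab
      have h1 : (η : K) • a - a = 0 := congrArg Prod.fst hab
      have ha : a = 0 := by
        funext j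
        have h2 := congrFun h1 j
        simp only [Pi.sub_apply, Pi.smul_apply, smul_eq_mul, Pi.zero_apply] at h2
        have h3 : ((η : K) - 1) * a j = 0 := by rw [sub_mul, one_mul]; exact h2
        rcases mul_eq_zero.mp h3 with h | h
        · exact absurd (sub_eq_zero.mp h) hη1
        · exact h
      rw [ha]
      exact ⟨b, rfl⟩
    calc finrank F ↥(LinearMap.ker (f - 1))
        ≤ finrank F ↥(LinearMap.range (LinearMap.inr F (Fin (n / i) → K) (Fin (n % i) → F))) :=
          Submodule.finrank_mono hle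
      _ = n % i := by
        rw [LinearMap.finrank_range_of_inj LinearMap.inr_injective, Module.finrank_fin_fun]
  exact ⟨_, _, _, inferInstance, f, hfin, hfr, hdet, hns, hfix⟩

end T1


section T2

variable {F : Type*} [Field F] [Fintype F]

/-- a non-`r`-th power of `r`-power order. -/
theorem exists_nonpower (r : ℕ) [Fact r.Prime] (hrq : r ∣ Fintype.card F - 1) :
    ∃ c₁ : F, (∀ d : F, d ^ r ≠ c₁) ∧ c₁ ^ (r ^ padicValNat r (Fintype.card F - 1)) = 1 := by
  classical
  have hr : r.Prime := Fact.out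
  obtain ⟨ζ, hζ⟩ := IsCyclic.exists_generator (α := Fˣ)
  have hord : orderOf ζ = Fintype.card F - 1 := by
    rw [orderOf_eq_card_of_forall_mem_zpowers hζ, Nat.card_eq_fintype_card, Fintype.card_units]
  set N := Fintype.card F - 1 with hN
  have hN0 : N ≠ 0 := by
    have := Fintype.one_lt_card (α := F); omega
  set s := padicValNat r N with hs
  obtain ⟨N', hN'⟩ : r ^ s ∣ N := pow_padicValNat_dvd
  have hrN' : ¬ r ∣ N' := by
    rintro ⟨t, ht⟩
    have h1 : r ^ (s + 1) ∣ N := ⟨t, by rw [hN', ht, pow_succ, mul_assoc]⟩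
    have := (padicValNat_dvd_iff_le hN0).mp h1
    omega
  refine ⟨((ζ ^ N' : Fˣ) : F), ?_, ?_⟩
  · intro d hd
    have hd0 : d ≠ 0 := by
      intro h
      rw [h, zero_pow hr.ne_zero] at hd
      exact (Units.ne_zero _) hd.symm
    obtain ⟨t, ht⟩ := Subgroup.mem_zpowers_iff.mp (hζ (Units.mk0 d hd0))
    have h1 : ζ ^ (t * (r : ℤ)) = ζ ^ (N' : ℤ) := by
      rw [zpow_mul, ht, zpow_natCast, zpow_natCast]
      apply Units.ext
      rw [Units.val_pow_eq_pow_val, Units.val_mk0, hd]
    rw [zpow_eq_zpow_iff_modEq, hord] at h1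
    have h2 : (r : ℤ) ∣ (N : ℤ) := by exact_mod_cast hrq
    have h3 : (r : ℤ) ∣ (N' : ℤ) - t * (r : ℤ) := h2.trans h1.dvd
    have h4 : (r : ℤ) ∣ (N' : ℤ) := by
      have := dvd_add h3 (Dvd.intro_left t rfl : (r : ℤ) ∣ t * (r : ℤ))
      simpa using this
    exact hrN' (by exact_mod_cast h4)
  · rw [← Units.val_pow_eq_pow_val, ← pow_mul, mul_comm, ← hN', ← hord, pow_orderOf_eq_one,
      Units.val_one]

/-- the parameter `c` of a `T2` element. -/
theorem exists_T2_param (r : ℕ) [Fact r.Prime] (hrq : r ∣ Fintype.card F - 1) (n : ℕ)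
    (hn : 0 < n)
    (hcond : ¬ (padicValNat r n ≤ padicValNat r (Fintype.card F - 1) ∧
      (r = 2 → Even n → Fintype.card F % 4 = 1))) :
    r ∣ n ∧ ∃ c : F, (∀ d : F, d ^ r ≠ c) ∧ ((-1) ^ (r + 1) * c) ^ (n / r) = 1 := by
  classical
  have hr : r.Prime := Fact.out
  have hN0 : Fintype.card F - 1 ≠ 0 := by
    have := Fintype.one_lt_card (α := F); omega
  have hs1 : 1 ≤ padicValNat r (Fintype.card F - 1) :=
    one_le_padicValNat_of_dvd hN0 hrq
  by_cases hcase : r = 2 ∧ Even n ∧ Fintype.card F % 4 ≠ 1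
  · -- c = -1
    obtain ⟨h2, hev, hq4⟩ := hcase
    have hrn : r ∣ n := by rw [h2]; exact hev.two_dvd
    refine ⟨hrn, -1, ?_, ?_⟩
    · intro d hd
      have hodd : Fintype.card F % 2 = 1 := by
        rw [h2] at hrq
        have := Fintype.one_lt_card (α := F)
        omega
      have hsq : IsSquare (-1 : F) := ⟨d, by rw [← hd, h2, sq]⟩
      rw [FiniteField.isSquare_neg_one_iff] at hsq
      omega
    · rw [h2]
      norm_num
  · -- v_r(n) > s
    have hval : padicValNat r (Fintype.card F - 1) < padicValNat r n := by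
      by_contra hle
      push Not at hle
      apply hcond
      refine ⟨hle, fun h2 hev => ?_⟩
      by_contra hq4
      exact hcase ⟨h2, hev, hq4⟩
    have hrn : r ∣ n := by
      apply dvd_of_one_le_padicValNat
      omega
    obtain ⟨c₁, hc₁, hc₁o⟩ := exists_nonpower (F := F) r hrq
    -- ε is an r-th power
    have hε : ∃ e : F, e ^ r = (-1) ^ (r + 1) := by
      rcases hr.eq_two_or_odd with h2 | hodd
      · have hev : Even n := by rw [h2] at hrn; exact (even_iff_two_dvd).mpr hrn
        have hq4 : Fintype.card F % 4 = 1 := by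
          by_contra h
          exact hcase ⟨h2, hev, h⟩
        have hsq : IsSquare (-1 : F) := by
          rw [FiniteField.isSquare_neg_one_iff]; omega
        obtain ⟨z, hz⟩ := hsq
        refine ⟨z, ?_⟩
        rw [h2, sq, ← hz]; norm_num
      · refine ⟨1, ?_⟩
        rw [one_pow, Even.neg_one_pow]
        rw [Nat.even_add_one, Nat.not_even_iff]; exact hodd
    obtain ⟨e, he⟩ := hε
    have he0 : e ≠ 0 := by
      intro h
      rw [h, zero_pow hr.ne_zero] at he
      have : ((-1 : F) ^ (r + 1)) ≠ 0 := pow_ne_zero _ (neg_ne_zero.mpr one_ne_zero)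
      exact this he.symm
    have hεsq : ((-1 : F) ^ (r + 1)) * ((-1 : F) ^ (r + 1)) = 1 := by
      rw [← pow_add, ← two_mul, pow_mul]; norm_num
    refine ⟨hrn, (-1) ^ (r + 1) * c₁, ?_, ?_⟩
    · intro d hd
      apply hc₁ (d / e)
      rw [div_pow, hd, he, mul_comm, mul_div_assoc, div_self, mul_one]
      rw [← he]; exact pow_ne_zero _ he0
    · rw [← mul_assoc, hεsq, one_mul]
      obtain ⟨n', hn'⟩ := hrn
      have hn'0 : n' ≠ 0 := fun h => by rw [h, mul_zero] at hn'; omega
      have hdiv : n / r = n' := by rw [hn', Nat.mul_div_cancel_left _ hr.pos]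
      rw [hdiv]
      have hv1 : padicValNat r n = padicValNat r n' + 1 := by
        rw [hn', padicValNat.mul hr.ne_zero hn'0, padicValNat_self, add_comm]
      have h1 : r ^ padicValNat r (Fintype.card F - 1) ∣ n' := by
        apply (padicValNat_dvd_iff_le hn'0).mpr
        omega
      obtain ⟨t, ht⟩ := h1
      rw [ht, pow_mul, hc₁o, one_pow]

/-- abstract `T2` element. -/
theorem exists_T2_linear (r : ℕ) [Fact r.Prime] (n : ℕ) (hn : 0 < n) (hrn : r ∣ n)
    (c : F) (hc : ∀ d : F, d ^ r ≠ c) (hδ : ((-1) ^ (r + 1) * c) ^ (n / r) = 1) :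
    Irreducible (X ^ r - C c : F[X]) ∧
    ∃ (V' : Type u_1) (_ : AddCommGroup V') (_ : Module F V') (_ : FiniteDimensional F V')
      (f : V' →ₗ[F] V'), finrank F V' = n ∧ f ^ r = c • 1 ∧ LinearMap.det f = 1 ∧
        (∀ c' : F, f ≠ c' • 1) := by
  classical
  have hr : r.Prime := Fact.out
  have hirr : Irreducible (X ^ r - C c : F[X]) := X_pow_sub_C_irreducible_of_prime hr hc
  refine ⟨hirr, ?_⟩
  haveI : Fact (Irreducible (X ^ r - C c : F[X])) := ⟨hirr⟩
  let K := AdjoinRoot (X ^ r - C c : F[X])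
  let pb := AdjoinRoot.powerBasis hirr.ne_zero
  haveI : Module.Finite F K := pb.finite
  have hK : finrank F K = r := by
    rw [pb.finrank, AdjoinRoot.powerBasis_dim, natDegree_X_pow_sub_C]
  set α : K := AdjoinRoot.root (X ^ r - C c : F[X]) with hα
  have hαr : α ^ r = algebraMap F K c := by
    have h1 : aeval α (X ^ r - C c : F[X]) = 0 := by
      rw [AdjoinRoot.aeval_eq]; exact AdjoinRoot.mk_self
    rw [map_sub, map_pow, aeval_X, aeval_C, sub_eq_zero] at h1
    exact h1
  let f : (Fin (n / r) → K) →ₗ[F] (Fin (n / r) → K) :=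
    DistribSMul.toLinearMap F (Fin (n / r) → K) α
  have hfapp : ∀ a, f a = α • a := fun a => rfl
  have hfpow : ∀ k a, (f ^ k) a = α ^ k • a := by
    intro k
    induction k with
    | zero => intro a; simp
    | succ k ih =>
      intro a
      rw [pow_succ, Module.End.mul_apply, hfapp, ih, smul_smul, ← pow_succ]
  have hfr : f ^ r = c • 1 := by
    apply LinearMap.ext
    intro a
    rw [hfpow, hαr, LinearMap.smul_apply, Module.End.one_apply, algebraMap_smul]
  have hfin : finrank F (Fin (n / r) → K) = n := by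
    rw [Module.finrank_pi_fintype]
    simp only [Finset.sum_const, Finset.card_univ, Fintype.card_fin, smul_eq_mul]
    rw [hK]
    exact Nat.div_mul_cancel hrn
  have hdet : LinearMap.det f = 1 := by
    rw [det_of_irreducible r hr.pos c hirr n _ f hfr hfin, hδ]
  have hns : ∀ c' : F, f ≠ c' • 1 := by
    intro c' hc'
    have hpos : 0 < finrank F (Fin (n / r) → K) := by rw [hfin]; exact hn
    obtain ⟨v, hv⟩ := Module.finrank_pos_iff_exists_ne_zero.mp hpos
    have h1 : (f ^ r) v = c • v := by rw [hfr]; simp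
    rw [hc', _root_.smul_pow, one_pow, LinearMap.smul_apply, Module.End.one_apply] at h1
    have h2 : (c' ^ r - c) • v = 0 := by rw [sub_smul, h1, sub_self]
    rcases smul_eq_zero.mp h2 with h | h
    · exact hc c' (sub_eq_zero.mp h)
    · exact hv h
  exact ⟨_, _, _, inferInstance, f, hfin, hfr, hdet, hns⟩

end T2

section matrixForms

variable {F : Type*} [Field F] [Fintype F]

/-- `T1` derangement as a matrix. -/
theorem exists_T1 (r : ℕ) [Fact r.Prime] (hrF : (r : F) ≠ 0) (n : ℕ)
    (hi2 : 2 ≤ orderOf ((Fintype.card F : ℕ) : ZMod r))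
    (hin : orderOf ((Fintype.card F : ℕ) : ZMod r) ≤ n) :
    ∃ x : Matrix.SpecialLinearGroup (Fin n) F,
      ((x ^ r : Matrix.SpecialLinearGroup (Fin n) F) : Matrix (Fin n) (Fin n) F) = 1 ∧
      (∀ c : F, (x : Matrix (Fin n) (Fin n) F) ≠ c • 1) ∧
      finrank F ↥(LinearMap.ker (Matrix.toLin' (x : Matrix (Fin n) (Fin n) F) - 1)) ≤
        n % orderOf ((Fintype.card F : ℕ) : ZMod r) := by
  obtain ⟨V', _, _, _, f, hfin, hfr, hdet, hns, hfix⟩ := exists_T1_linear r hrF n hi2 hin
  obtain ⟨x, e, hxe⟩ := exists_sl_of_linearMap n hfin f hdet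
  refine ⟨x, ?_, transport_ne_smul _ e f hxe hns, ?_⟩
  · have := transport_pow_eq_smul (x : Matrix (Fin n) (Fin n) F) e f hxe r 1
      (by rw [hfr, one_smul])
    rw [Matrix.SpecialLinearGroup.coe_pow, this, one_smul]
  · rw [transport_fixed _ e f hxe]; exact hfix

/-- `T2` derangement as a matrix. -/
theorem exists_T2 (r : ℕ) [Fact r.Prime] (hrq : r ∣ Fintype.card F - 1) (n : ℕ)
    (hn : 0 < n)
    (hcond : ¬ (padicValNat r n ≤ padicValNat r (Fintype.card F - 1) ∧
      (r = 2 → Even n → Fintype.card F % 4 = 1))) :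
    ∃ (x : Matrix.SpecialLinearGroup (Fin n) F) (c : F),
      Irreducible (X ^ r - C c : F[X]) ∧
      ((x ^ r : Matrix.SpecialLinearGroup (Fin n) F) : Matrix (Fin n) (Fin n) F) = c • 1 ∧
      (∀ c' : F, (x : Matrix (Fin n) (Fin n) F) ≠ c' • 1) := by
  obtain ⟨hrn, c, hc, hδ⟩ := exists_T2_param r hrq n hn hcond
  obtain ⟨hirr, V', _, _, _, f, hfin, hfr, hdet, hns⟩ := exists_T2_linear r n hn hrn c hc hδ
  obtain ⟨x, e, hxe⟩ := exists_sl_of_linearMap n hfin f hdet
  refine ⟨x, c, hirr, ?_, transport_ne_smul _ e f hxe hns⟩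
  rw [Matrix.SpecialLinearGroup.coe_pow]
  exact transport_pow_eq_smul (x : Matrix (Fin n) (Fin n) F) e f hxe r c hfr

/-- if `r ∤ q - 1` every element of `F` is an `r`-th power. -/
theorem exists_pow_eq_of_not_dvd (r : ℕ) [Fact r.Prime] (hrq : ¬ r ∣ Fintype.card F - 1)
    (c : F) : ∃ d : F, d ^ r = c := by
  have hr : r.Prime := Fact.out
  have hinj : Function.Injective (fun d : F => d ^ r) := by
    intro a b hab
    simp only at hab
    by_cases hb : b = 0
    · rw [hb, zero_pow hr.ne_zero] at hab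
      rw [hb]; exact pow_eq_zero_iff hr.ne_zero |>.mp hab
    · have h1 : (a / b) ^ r = 1 := by rw [div_pow, hab, div_self (pow_ne_zero _ hb)]
      have h2 := eq_one_of_pow_eq_one_of_not_dvd r hrq _ h1
      exact (div_eq_one_iff_eq hb).mp h2
  exact (Finite.injective_iff_surjective.mp hinj) c

end matrixForms

end Cfsg.Agent.Helper13.Elus
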