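import Mathlib
import Cfsg.Agent.Lib.Helper13.InvariantTower
import Cfsg.Agent.Lib.Helper13.PrimeOrderSemisimple
import Cfsg.Agent.Lib.Helper13.Elusive

set_option autoImplicit false
set_option linter.style.haveILetI false
set_option linter.unusedSectionVars false
set_option linter.unusedVariables false

namespace Cfsg.Agent.Helper13.Elus

open Module Polynomial Cfsg.Agent.Helper13.InvTow Cfsg.Agent.Helper13.POS

universe u

section arith

theorem sub_mod_of_mod_le (n m i : ℕ) (hi : 0 < i) (hm : m ≤ n) (h : m % i ≤ n % i) :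
    (n - m) % i = n % i - m % i := by
  have h1 := Nat.div_add_mod n i
  have h2 := Nat.div_add_mod m i
  have h3 : m / i ≤ n / i := Nat.div_le_div_right hm
  have h3' : i * (m / i) ≤ i * (n / i) := Nat.mul_le_mul_left _ h3
  have h4 : n - m = i * (n / i - m / i) + (n % i - m % i) := by
    rw [Nat.mul_sub]; omega
  have h5 := Nat.mod_lt n hi
  rw [h4, Nat.mul_add_mod, Nat.mod_eq_of_lt]
  omega

theorem mod_eq_of_dvd_sub (i m a ρ : ℕ) (hdvd : i ∣ m - a) (ham : a ≤ m) (haρ : a ≤ ρ)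
    (hρ : ρ < i) : m % i = a := by
  obtain ⟨t, ht⟩ := hdvd
  have h1 : m = a + i * t := by omega
  rw [h1, Nat.add_mul_mod_self_left, Nat.mod_eq_of_lt]
  omega

theorem not_dvd_sub_of_lt (i n j M : ℕ) (hi : 0 < i) (hj : j < M) (hM : M ≤ n % i) :
    ¬ i ∣ n - j := by
  intro hdvd
  have h1 := Nat.div_add_mod n i
  have h5 := Nat.mod_lt n hi
  have h4 : n - j = i * (n / i) + (n % i - j) := by omega
  have h6 : (n - j) % i = n % i - j := by
    rw [h4, Nat.mul_add_mod, Nat.mod_eq_of_lt]; omega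
  have := Nat.eq_zero_of_dvd_of_lt hdvd
  rw [Nat.dvd_iff_mod_eq_zero] at hdvd
  omega

theorem two_mul_mod_le (i n m a a' : ℕ) (hi : 0 < i) (hm : m ≤ n) (h1 : m % i = a)
    (h2 : (n - m) % i = a') (haa : a ≤ a') (ha' : a' ≤ n % i) : 2 * a ≤ n % i := by
  have h3 : n % i = (a + a') % i := by
    conv_lhs => rw [show n = m + (n - m) by omega]
    rw [Nat.add_mod, h1, h2]
  have h5 := Nat.mod_lt n hi
  by_cases hlt : a + a' < i
  · rw [Nat.mod_eq_of_lt hlt] at h3; omega
  · push Not at hlt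
    have ha'i : a' < i := by omega
    have hai : a < i := by omega
    have h7 : (a + a') % i = a + a' - i := by
      rw [Nat.mod_eq_sub_mod hlt]
      exact Nat.mod_eq_of_lt (by omega)
    rw [h7] at h3
    omega

end arith

section good

variable {F : Type*} [Field F] [Fintype F]
variable {V : Type*} [AddCommGroup V] [Module F V] [FiniteDimensional F V]

/-- invariant `m`-spaces for an element with `f ^ r` scalar. -/
theorem exists_inv_subspace (r : ℕ) [Fact r.Prime] (hrF : (r : F) ≠ 0) (f : V →ₗ[F] V) (c : F)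
    (hc0 : c ≠ 0) (hf : f ^ r = c • 1) (n m : ℕ) (hn : finrank F V = n) (hm : m ≤ n)
    (h1 : m % orderOf ((Fintype.card F : ℕ) : ZMod r) ≤
      n % orderOf ((Fintype.card F : ℕ) : ZMod r))
    (h2 : (∀ d : F, d ^ r ≠ c) → r ∣ m) :
    ∃ W : Submodule F V, Inv f W ∧ finrank F W = m := by
  have hr : r.Prime := Fact.out
  by_cases hd : ∃ d : F, d ^ r = c
  · obtain ⟨d, hd⟩ := hd
    have hd0 : d ≠ 0 := fun h => by rw [h, zero_pow hr.ne_zero] at hd; exact hc0 hd.symm
    have hg : (d⁻¹ • f) ^ r = 1 := by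
      rw [_root_.smul_pow, hf, smul_smul, inv_pow, hd, inv_mul_cancel₀ hc0, one_smul]
    obtain ⟨W, hW, hWd⟩ := exists_inv_of_pow_eq_one r hrF (d⁻¹ • f) hg n m hn hm h1
    refine ⟨W, fun v hv => ?_, hWd⟩
    have := W.smul_mem d (hW v hv)
    rwa [LinearMap.smul_apply, smul_smul, mul_inv_cancel₀ hd0, one_smul] at this
  · push Not at hd
    have hirr : Irreducible (X ^ r - C c : F[X]) := X_pow_sub_C_irreducible_of_prime hr hd
    obtain ⟨b, hb⟩ := h2 hd
    obtain ⟨Z, hZ, hZd⟩ := exists_inv_of_irreducible r hr.pos c hirr f hf b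
      (by rw [hn, ← hb]; exact hm)
    exact ⟨Z, hZ, by rw [hZd, hb]⟩

/-- invariant decompositions for an element with `f ^ r` scalar. -/
theorem exists_inv_decomp (r : ℕ) [Fact r.Prime] (hrF : (r : F) ≠ 0) (f : V →ₗ[F] V) (c : F)
    (hc0 : c ≠ 0) (hf : f ^ r = c • 1) (n m : ℕ) (hn : finrank F V = n) (hm : m ≤ n)
    (h1 : m % orderOf ((Fintype.card F : ℕ) : ZMod r) ≤
      n % orderOf ((Fintype.card F : ℕ) : ZMod r))
    (h2 : (∀ d : F, d ^ r ≠ c) → r ∣ m) :
    ∃ U W : Submodule F V, IsCompl U W ∧ finrank F U = m ∧ Inv f U ∧ Inv f W := by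
  have hr : r.Prime := Fact.out
  obtain ⟨U, hU, hUd⟩ := exists_inv_subspace r hrF f c hc0 hf n m hn hm h1 h2
  obtain ⟨W, hW, hUW⟩ := exists_inv_isCompl r hr.pos hrF c hc0 f hf U hU
  exact ⟨U, W, hUW, hUd, hU, hW⟩

/-- invariant flags for an element with `f ^ r` scalar. -/
theorem exists_inv_flag (r : ℕ) [Fact r.Prime] (hrF : (r : F) ≠ 0) (f : V →ₗ[F] V) (c : F)
    (hc0 : c ≠ 0) (hf : f ^ r = c • 1) (n m : ℕ) (hn : finrank F V = n) (hm : 2 * m ≤ n)
    (h1 : 2 * (m % orderOf ((Fintype.card F : ℕ) : ZMod r)) ≤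
      n % orderOf ((Fintype.card F : ℕ) : ZMod r))
    (h2 : (∀ d : F, d ^ r ≠ c) → r ∣ m) :
    ∃ U W : Submodule F V, U ≤ W ∧ finrank F U = m ∧ finrank F W = n - m ∧ Inv f U ∧ Inv f W := by
  have hr : r.Prime := Fact.out
  set i := orderOf ((Fintype.card F : ℕ) : ZMod r) with hi
  have hipos : 0 < i := orderOf_card_pos r hrF
  have hsub : (n - m) % i = n % i - m % i := sub_mod_of_mod_le n m i hipos (by omega) (by omega)
  obtain ⟨W, hW, hWd⟩ := exists_inv_subspace r hrF f c hc0 hf n (n - m) hn (by omega)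
    (by rw [← hi, hsub]; omega)
    (fun hd => by
      have hirr : Irreducible (X ^ r - C c : F[X]) := X_pow_sub_C_irreducible_of_prime hr hd
      have h3 := dvd_finrank_of_irreducible r hr.pos c hirr f hf ⊤ (inv_top f)
      rw [finrank_top, hn] at h3
      exact (Nat.dvd_sub h3 (h2 hd)))
  have hW' : ∀ x ∈ W, f x ∈ W := hW
  have hf' : (f.restrict hW') ^ r = c • 1 := by
    rw [Module.End.pow_restrict]
    apply LinearMap.ext
    intro w
    apply Subtype.ext
    rw [LinearMap.coe_restrict_apply, hf]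
    simp
  obtain ⟨U', hU', hU'd⟩ := exists_inv_subspace r hrF (f.restrict hW') c hc0 hf' (n - m) m hWd
    (by omega) (by rw [← hi, hsub]; omega) h2
  refine ⟨U'.map W.subtype, W, Submodule.map_subtype_le W U', ?_, hWd, ?_, hW⟩
  · rw [Submodule.finrank_map_subtype_eq, hU'd]
  · rintro _ ⟨u, hu, rfl⟩
    refine ⟨f.restrict hW' u, hU' u hu, ?_⟩
    rw [Submodule.subtype_apply, Submodule.subtype_apply, LinearMap.coe_restrict_apply]

end good

section assembly

variable {F : Type*} [Field F] [Fintype F]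

theorem natCast_ne_zero_of_ne_char {p : ℕ} [Fact p.Prime] [CharP F p] (r : ℕ) [Fact r.Prime]
    (hrp : r ≠ p) : (r : F) ≠ 0 := by
  intro h
  rw [CharP.cast_eq_zero_iff F p r] at h
  exact hrp ((Nat.prime_dvd_prime_iff_eq (Fact.out : p.Prime) (Fact.out : r.Prime)).mp h).symm

theorem dvd_card_sub_one_iff (r : ℕ) [Fact r.Prime] :
    r ∣ Fintype.card F - 1 ↔ orderOf ((Fintype.card F : ℕ) : ZMod r) = 1 := by
  have := pow_card_eq_one_iff r (Fintype.card F) 1 Fintype.card_pos
  rw [pow_one] at this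
  rw [this, Nat.dvd_one]

/-- data attached to `x ∈ SL_n` with `x ^ r` scalar. -/
theorem sl_data {n : ℕ} (hn : 0 < n) (r : ℕ) (x : Matrix.SpecialLinearGroup (Fin n) F) (c : F)
    (hx : ((x ^ r : Matrix.SpecialLinearGroup (Fin n) F) : Matrix (Fin n) (Fin n) F) =
      c • (1 : Matrix (Fin n) (Fin n) F)) :
    c ≠ 0 ∧ (Matrix.toLin' (x : Matrix (Fin n) (Fin n) F)) ^ r = c • 1 ∧
      LinearMap.det (Matrix.toLin' (x : Matrix (Fin n) (Fin n) F)) = 1 := by
  refine ⟨?_, ?_, ?_⟩
  · intro hc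
    haveI : Nonempty (Fin n) := ⟨⟨0, hn⟩⟩
    have h1 := (x ^ r).det_coe
    rw [hx, hc, zero_smul, Matrix.det_zero] at h1
    exact zero_ne_one h1
  · rw [← Matrix.toLin'_pow, ← Matrix.SpecialLinearGroup.coe_pow, hx, map_smul, Matrix.toLin'_one]
    rfl
  · rw [LinearMap.det_toLin', x.det_coe]

/-- the core of the elusivity criterion for `m`-spaces. -/
theorem subspaces_core {p : ℕ} [Fact p.Prime] [CharP F p] (n m : ℕ) (hm : 1 ≤ m) (hmn : m ≤ n)
    (r : ℕ) [Fact r.Prime] (hrp : r ≠ p)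
    (hj : ∃ j, j < m ∧ r ∣ Fintype.card F ^ (n - j) - 1) :
    (∀ x : Matrix.SpecialLinearGroup (Fin n) F,
      (∃ c : F, ((x ^ r : Matrix.SpecialLinearGroup (Fin n) F) : Matrix (Fin n) (Fin n) F) =
        c • (1 : Matrix (Fin n) (Fin n) F)) →
      (∀ c : F, (x : Matrix (Fin n) (Fin n) F) ≠ c • (1 : Matrix (Fin n) (Fin n) F)) →
      ∃ W : Submodule F (Fin n → F), Module.finrank F ↥W = m ∧
        W.map (Matrix.toLin' (x : Matrix (Fin n) (Fin n) F)) ≤ W) ↔
    ((orderOf ((Fintype.card F : ℕ) : ZMod r) = 1 ∧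
        (r ∣ m ∨ (padicValNat r n ≤ padicValNat r (Fintype.card F - 1) ∧
          (r = 2 → Even n → Fintype.card F % 4 = 1)))) ∨
      (2 ≤ orderOf ((Fintype.card F : ℕ) : ZMod r) ∧
        orderOf ((Fintype.card F : ℕ) : ZMod r) ≤ m ∧
        m % orderOf ((Fintype.card F : ℕ) : ZMod r) ≤
          n % orderOf ((Fintype.card F : ℕ) : ZMod r))) := by
  have hr : r.Prime := Fact.out
  have hrF : (r : F) ≠ 0 := natCast_ne_zero_of_ne_char r hrp
  set i := orderOf ((Fintype.card F : ℕ) : ZMod r) with hi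
  have hipos : 0 < i := orderOf_card_pos r hrF
  have hnpos : 0 < n := by omega
  constructor
  · intro hL
    by_cases hi1 : i = 1
    · left
      refine ⟨hi1, ?_⟩
      by_contra hcon
      obtain ⟨hrm, hcond⟩ := not_or.mp hcon
      have hrq : r ∣ Fintype.card F - 1 := (dvd_card_sub_one_iff r).mpr hi1
      obtain ⟨x, c, hirr, hx, hns⟩ := exists_T2 (F := F) r hrq n hnpos hcond
      obtain ⟨W, hWd, hW⟩ := hL x ⟨c, hx⟩ hns
      obtain ⟨-, hf, -⟩ := sl_data hnpos r x c hx
      have := dvd_finrank_of_irreducible r hr.pos c hirr _ hf W ((inv_iff_map_le _ _).mpr hW)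
      rw [hWd] at this
      exact hrm this
    · right
      have hi2 : 2 ≤ i := by omega
      obtain ⟨j, hjm, hjr⟩ := hj
      have hij : i ∣ n - j := (pow_card_eq_one_iff r _ _ Fintype.card_pos).mp hjr
      have hin : i ≤ n := le_trans (Nat.le_of_dvd (by omega) hij) (Nat.sub_le _ _)
      obtain ⟨x, hx, hns, hfix⟩ := exists_T1 (F := F) r hrF n hi2 hin
      have hx' : ((x ^ r : Matrix.SpecialLinearGroup (Fin n) F) : Matrix (Fin n) (Fin n) F) =
          (1 : F) • (1 : Matrix (Fin n) (Fin n) F) := by rw [hx, one_smul]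
      obtain ⟨W, hWd, hW⟩ := hL x ⟨1, hx'⟩ hns
      obtain ⟨-, hf, -⟩ := sl_data hnpos r x 1 hx'
      rw [one_smul] at hf
      have hdvd := orderOf_dvd_finrank_sub r hrF _ hf W ((inv_iff_map_le _ _).mpr hW)
      rw [hWd] at hdvd
      set a := finrank F ↥(W ⊓ LinearMap.ker (Matrix.toLin' (x : Matrix (Fin n) (Fin n) F) - 1))
        with ha
      have ham : a ≤ m := by rw [← hWd]; exact Submodule.finrank_mono inf_le_left
      have haρ : a ≤ n % i := le_trans (Submodule.finrank_mono inf_le_right) hfix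
      have hmod : m % i = a := mod_eq_of_dvd_sub i m a (n % i) hdvd ham haρ (Nat.mod_lt n hipos)
      have hle : m % i ≤ n % i := by rw [hmod]; exact haρ
      refine ⟨hi2, ?_, hle⟩
      by_contra hlt
      push Not at hlt
      rw [Nat.mod_eq_of_lt hlt] at hle
      exact not_dvd_sub_of_lt i n j m hipos hjm hle hij
  · intro hR x ⟨c, hx⟩ hns
    obtain ⟨hc0, hf, hdet⟩ := sl_data hnpos r x c hx
    have h1 : m % i ≤ n % i := by
      rcases hR with ⟨hi1, -⟩ | ⟨-, -, h⟩
      · rw [hi1, Nat.mod_one]; exact Nat.zero_le _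
      · exact h
    have h2 : (∀ d : F, d ^ r ≠ c) → r ∣ m := by
      intro hd
      rcases hR with ⟨hi1, hrm | ⟨hval, h2'⟩⟩ | ⟨hi2, -, -⟩
      · exact hrm
      · have hrq : r ∣ Fintype.card F - 1 := (dvd_card_sub_one_iff r).mpr hi1
        exact (no_T2 r hrq _ c hd hf hdet n (Module.finrank_fin_fun F) hnpos hval h2').elim
      · obtain ⟨d, hd'⟩ := exists_pow_eq_of_not_dvd r (not_dvd_of_two_le_orderOf r hi2) c
        exact (hd d hd').elim
    obtain ⟨W, hW, hWd⟩ := exists_inv_subspace r hrF _ c hc0 hf n m (Module.finrank_fin_fun F)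
      hmn h1 h2
    exact ⟨W, hWd, (inv_iff_map_le _ _).mp hW⟩

end assembly

section flags

variable {F : Type*} [Field F] [Fintype F]

/-- the core of the elusivity criterion for flags `U ≤ W` of dimensions `m`, `n - m`. -/
theorem flags_core {p : ℕ} [Fact p.Prime] [CharP F p] (n m : ℕ) (hm : 1 ≤ m) (hmn : 2 * m < n)
    (r : ℕ) [Fact r.Prime] (hrp : r ≠ p)
    (hj : ∃ j, j < 2 * m ∧ r ∣ Fintype.card F ^ (n - j) - 1) :
    (∀ x : Matrix.SpecialLinearGroup (Fin n) F,
      (∃ c : F, ((x ^ r : Matrix.SpecialLinearGroup (Fin n) F) : Matrix (Fin n) (Fin n) F) =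
        c • (1 : Matrix (Fin n) (Fin n) F)) →
      (∀ c : F, (x : Matrix (Fin n) (Fin n) F) ≠ c • (1 : Matrix (Fin n) (Fin n) F)) →
      ∃ U W : Submodule F (Fin n → F), U ≤ W ∧ Module.finrank F ↥U = m ∧
        Module.finrank F ↥W = n - m ∧
        U.map (Matrix.toLin' (x : Matrix (Fin n) (Fin n) F)) ≤ U ∧
        W.map (Matrix.toLin' (x : Matrix (Fin n) (Fin n) F)) ≤ W) ↔
    ((orderOf ((Fintype.card F : ℕ) : ZMod r) = 1 ∧
        (r ∣ m ∨ (padicValNat r n ≤ padicValNat r (Fintype.card F - 1) ∧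
          (r = 2 → Even n → Fintype.card F % 4 = 1)))) ∨
      (2 ≤ orderOf ((Fintype.card F : ℕ) : ZMod r) ∧
        orderOf ((Fintype.card F : ℕ) : ZMod r) ≤ m ∧
        2 * (m % orderOf ((Fintype.card F : ℕ) : ZMod r)) ≤
          n % orderOf ((Fintype.card F : ℕ) : ZMod r))) := by
  have hr : r.Prime := Fact.out
  have hrF : (r : F) ≠ 0 := natCast_ne_zero_of_ne_char r hrp
  set i := orderOf ((Fintype.card F : ℕ) : ZMod r) with hi
  have hipos : 0 < i := orderOf_card_pos r hrF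
  have hnpos : 0 < n := by omega
  constructor
  · intro hL
    by_cases hi1 : i = 1
    · left
      refine ⟨hi1, ?_⟩
      by_contra hcon
      obtain ⟨hrm, hcond⟩ := not_or.mp hcon
      have hrq : r ∣ Fintype.card F - 1 := (dvd_card_sub_one_iff r).mpr hi1
      obtain ⟨x, c, hirr, hx, hns⟩ := exists_T2 (F := F) r hrq n hnpos hcond
      obtain ⟨U, W, -, hUd, -, hU, -⟩ := hL x ⟨c, hx⟩ hns
      obtain ⟨-, hf, -⟩ := sl_data hnpos r x c hx
      have := dvd_finrank_of_irreducible r hr.pos c hirr _ hf U ((inv_iff_map_le _ _).mpr hU)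
      rw [hUd] at this
      exact hrm this
    · right
      have hi2 : 2 ≤ i := by omega
      obtain ⟨j, hjm, hjr⟩ := hj
      have hij : i ∣ n - j := (pow_card_eq_one_iff r _ _ Fintype.card_pos).mp hjr
      have hin : i ≤ n := le_trans (Nat.le_of_dvd (by omega) hij) (Nat.sub_le _ _)
      obtain ⟨x, hx, hns, hfix⟩ := exists_T1 (F := F) r hrF n hi2 hin
      have hx' : ((x ^ r : Matrix.SpecialLinearGroup (Fin n) F) : Matrix (Fin n) (Fin n) F) =
          (1 : F) • (1 : Matrix (Fin n) (Fin n) F) := by rw [hx, one_smul]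
      obtain ⟨U, W, hUW, hUd, hWd, hU, hW⟩ := hL x ⟨1, hx'⟩ hns
      obtain ⟨-, hf, -⟩ := sl_data hnpos r x 1 hx'
      rw [one_smul] at hf
      have hdvdU := orderOf_dvd_finrank_sub r hrF _ hf U ((inv_iff_map_le _ _).mpr hU)
      have hdvdW := orderOf_dvd_finrank_sub r hrF _ hf W ((inv_iff_map_le _ _).mpr hW)
      rw [hUd] at hdvdU
      rw [hWd] at hdvdW
      set a := finrank F ↥(U ⊓ LinearMap.ker (Matrix.toLin' (x : Matrix (Fin n) (Fin n) F) - 1))
        with ha
      set a' := finrank F ↥(W ⊓ LinearMap.ker (Matrix.toLin' (x : Matrix (Fin n) (Fin n) F) - 1))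
        with ha'
      have ham : a ≤ m := by rw [← hUd]; exact Submodule.finrank_mono inf_le_left
      have ham' : a' ≤ n - m := by rw [← hWd]; exact Submodule.finrank_mono inf_le_left
      have haa : a ≤ a' := Submodule.finrank_mono (inf_le_inf_right _ hUW)
      have haρ' : a' ≤ n % i := le_trans (Submodule.finrank_mono inf_le_right) hfix
      have hρ := Nat.mod_lt n hipos
      have hmod : m % i = a := mod_eq_of_dvd_sub i m a (n % i) hdvdU ham (by omega) hρ
      have hmod' : (n - m) % i = a' := mod_eq_of_dvd_sub i (n - m) a' (n % i) hdvdW ham' haρ' hρ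
      have hle : 2 * (m % i) ≤ n % i := by
        rw [hmod]
        exact two_mul_mod_le i n m a a' hipos (by omega) hmod hmod' haa haρ'
      refine ⟨hi2, ?_, hle⟩
      by_contra hlt
      push Not at hlt
      rw [Nat.mod_eq_of_lt hlt] at hle
      exact not_dvd_sub_of_lt i n j (2 * m) hipos hjm hle hij
  · intro hR x ⟨c, hx⟩ hns
    obtain ⟨hc0, hf, hdet⟩ := sl_data hnpos r x c hx
    have h1 : 2 * (m % i) ≤ n % i := by
      rcases hR with ⟨hi1, -⟩ | ⟨-, -, h⟩
      · rw [hi1, Nat.mod_one]; exact Nat.zero_le _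
      · exact h
    have h2 : (∀ d : F, d ^ r ≠ c) → r ∣ m := by
      intro hd
      rcases hR with ⟨hi1, hrm | ⟨hval, h2'⟩⟩ | ⟨hi2, -, -⟩
      · exact hrm
      · have hrq : r ∣ Fintype.card F - 1 := (dvd_card_sub_one_iff r).mpr hi1
        exact (no_T2 r hrq _ c hd hf hdet n (Module.finrank_fin_fun F) hnpos hval h2').elim
      · obtain ⟨d, hd'⟩ := exists_pow_eq_of_not_dvd r (not_dvd_of_two_le_orderOf r hi2) c
        exact (hd d hd').elim
    obtain ⟨U, W, hUW, hUd, hWd, hU, hW⟩ := exists_inv_flag r hrF _ c hc0 hf n m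
      (Module.finrank_fin_fun F) (by omega) h1 h2
    exact ⟨U, W, hUW, hUd, hWd, (inv_iff_map_le _ _).mp hU, (inv_iff_map_le _ _).mp hW⟩

end flags

end Cfsg.Agent.Helper13.Elus
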