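import Mathlib

set_option autoImplicit false

/-!
# Chain bases (Jordan bases) of nilpotent endomorphisms
-/

namespace Cfsg.Agent.Helper13.Nilp

open Module

section complement
variable {F V : Type*} [Field F] [AddCommGroup V] [Module F V] [FiniteDimensional F V]

/-- the chain map `c ↦ Σ c_j N^j v` -/
noncomputable def chainMap (N : Module.End F V) (v : V) (e : ℕ) : (Fin e → F) →ₗ[F] V :=
  Fintype.linearCombination F (fun j : Fin e => (N ^ (j : ℕ)) v)

theorem chainMap_apply (N : Module.End F V) (v : V) (e : ℕ) (c : Fin e → F) :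
    chainMap N v e c = ∑ j : Fin e, c j • (N ^ (j : ℕ)) v := by
  unfold chainMap
  rw [Fintype.linearCombination_apply]

/-- the test map `x ↦ (φ (N^(e-1-i) x))_i` -/
noncomputable def testMap (N : Module.End F V) (φ : Module.Dual F V) (e : ℕ) :
    V →ₗ[F] (Fin e → F) :=
  LinearMap.pi (fun i : Fin e => φ.comp (N ^ (e - 1 - (i : ℕ))))

theorem testMap_apply (N : Module.End F V) (φ : Module.Dual F V) (e : ℕ) (x : V) (i : Fin e) :
    testMap N φ e x i = φ ((N ^ (e - 1 - (i : ℕ))) x) := rfl

theorem testMap_chainMap_injective (N : Module.End F V) (v : V) (e : ℕ) (he : N ^ e = 0)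
    (φ : Module.Dual F V) (hφ : φ ((N ^ (e - 1)) v) = 1) :
    Function.Injective ((testMap N φ e).comp (chainMap N v e)) := by
  rw [← LinearMap.ker_eq_bot, LinearMap.ker_eq_bot']
  intro c hc
  have hzero : ∀ m : ℕ, e ≤ m → (N ^ m) v = 0 := by
    intro m hm
    obtain ⟨d, rfl⟩ := Nat.exists_eq_add_of_le hm
    rw [pow_add, he, zero_mul, LinearMap.zero_apply]
  have key : ∀ j : ℕ, ∀ hj : j < e, c ⟨j, hj⟩ = 0 := by
    intro j
    induction j using Nat.strong_induction_on with
    | _ j ih =>
      intro hj
      have h1 := congrFun hc ⟨j, hj⟩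
      rw [LinearMap.comp_apply, testMap_apply, chainMap_apply, map_sum, map_sum] at h1
      rw [Finset.sum_eq_single (⟨j, hj⟩ : Fin e)] at h1
      · simp only [map_smul, smul_eq_mul, Pi.zero_apply] at h1
        have h2 : (N ^ (e - 1 - j)) ((N ^ j) v) = (N ^ (e - 1)) v := by
          rw [← Module.End.mul_apply, ← pow_add]
          congr 2
          omega
        rw [h2, hφ, mul_one] at h1
        exact h1
      · intro i _ hi
        rcases lt_or_gt_of_ne (fun h => hi (Fin.ext h) : (i : ℕ) ≠ j) with h | h
        · rw [ih i h i.2, zero_smul, map_zero, map_zero]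
        · have h2 : (N ^ (e - 1 - j)) ((N ^ (i : ℕ)) v) = 0 := by
            rw [← Module.End.mul_apply, ← pow_add]
            exact hzero _ (by omega)
          rw [map_smul, h2, smul_zero, map_zero]
      · intro h
        exact absurd (Finset.mem_univ _) h
  ext i
  exact key i i.2

/-- **cyclic complement**: a chain of maximal length splits off -/
theorem exists_invariant_compl (N : Module.End F V) (v : V) (e : ℕ) (he1 : 1 ≤ e)
    (he : N ^ e = 0) (hv : (N ^ (e - 1)) v ≠ 0) :
    ∃ W : Submodule F V, (∀ w ∈ W, N w ∈ W) ∧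
      IsCompl (LinearMap.range (chainMap N v e)) W ∧
      Function.Injective (chainMap N v e) := by
  obtain ⟨φ, hφ⟩ := Module.Projective.exists_dual_eq_one F hv
  have hinj := testMap_chainMap_injective N v e he φ hφ
  have hsurj : Function.Surjective ((testMap N φ e).comp (chainMap N v e)) :=
    LinearMap.injective_iff_surjective.1 hinj
  have hGinj : Function.Injective (chainMap N v e) := by
    intro c c' h
    apply hinj
    rw [LinearMap.comp_apply, LinearMap.comp_apply, h]
  refine ⟨LinearMap.ker (testMap N φ e), ?_, ?_, ?_⟩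
  · intro w hw
    rw [LinearMap.mem_ker] at hw ⊢
    ext i
    rw [testMap_apply, Pi.zero_apply]
    by_cases hi : (i : ℕ) = 0
    · have h1 : (N ^ (e - 1 - (i : ℕ))) (N w) = (N ^ e) w := by
        rw [← Module.End.mul_apply, ← pow_succ]
        congr 2
        omega
      rw [h1, he, LinearMap.zero_apply, map_zero]
    · have h1 : (N ^ (e - 1 - (i : ℕ))) (N w) = (N ^ (e - 1 - ((i : ℕ) - 1))) w := by
        rw [← Module.End.mul_apply, ← pow_succ]
        congr 2
        omega
      rw [h1]
      have h2 := congrFun hw ⟨(i : ℕ) - 1, by omega⟩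
      rw [testMap_apply] at h2
      exact h2
  · constructor
    · rw [Submodule.disjoint_def]
      rintro x ⟨c, rfl⟩ hx
      rw [LinearMap.mem_ker] at hx
      have : c = 0 := hinj (by rw [LinearMap.comp_apply, hx, map_zero])
      rw [this, map_zero]
    · rw [codisjoint_iff, eq_top_iff]
      intro x _
      obtain ⟨c, hc⟩ := hsurj (testMap N φ e x)
      rw [LinearMap.comp_apply] at hc
      have h1 : x - chainMap N v e c ∈ LinearMap.ker (testMap N φ e) := by
        rw [LinearMap.mem_ker, map_sub, hc, sub_self]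
      have h2 : x = chainMap N v e c + (x - chainMap N v e c) := by abel
      rw [h2]
      exact Submodule.add_mem_sup ⟨c, rfl⟩ h1
  · exact hGinj

theorem chainMap_single (N : Module.End F V) (v : V) (e : ℕ) (j : Fin e) :
    chainMap N v e (Pi.single j 1) = (N ^ (j : ℕ)) v := by
  unfold chainMap
  rw [Fintype.linearCombination_apply_single, one_smul]

end complement

section chain
variable {F : Type*} [Field F]

/-- a Jordan basis of a nilpotent endomorphism: a basis made of chains
`x, N x, N² x, …` -/
structure ChainBasis {V : Type*} [AddCommGroup V] [Module F V] (N : Module.End F V) where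
  ι : Type
  fin : Fintype ι
  k : ι → ℕ
  kpos : ∀ i, 0 < k i
  b : Basis (Σ i : ι, Fin (k i)) F V
  chain : ∀ (i : ι) (j : Fin (k i)),
    N (b ⟨i, j⟩) = if h : (j : ℕ) + 1 < k i then b ⟨i, ⟨(j : ℕ) + 1, h⟩⟩ else 0

/-- index bookkeeping for adding one chain -/
def glueEquiv (e : ℕ) {ι : Type} (k : ι → ℕ) :
    (Σ x : Unit ⊕ ι, Fin (Sum.elim (fun _ => e) k x)) ≃ Fin e ⊕ (Σ i : ι, Fin (k i)) where
  toFun := fun p => match p with
    | ⟨.inl _, j⟩ => .inl j
    | ⟨.inr i, j⟩ => .inr ⟨i, j⟩
  invFun := Sum.elim (fun j => ⟨.inl (), j⟩) (fun p => ⟨.inr p.1, p.2⟩)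
  left_inv := by rintro ⟨x | x, j⟩ <;> rfl
  right_inv := by rintro (j | ⟨i, j⟩) <;> rfl

universe u

theorem exists_chainBasis_aux : ∀ (n : ℕ) (V : Type u) [AddCommGroup V] [Module F V]
    [FiniteDimensional F V] (N : Module.End F V), IsNilpotent N → finrank F V = n →
    Nonempty (ChainBasis N) := by
  intro n
  induction n using Nat.strong_induction_on with
  | _ n ih =>
    intro V _ _ _ N hN hn
    by_cases hV : finrank F V = 0
    · have hss : Subsingleton V := finrank_zero_iff.1 hV
      exact ⟨{ ι := Empty, fin := inferInstance, k := fun i => i.elim, kpos := fun i => i.elim,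
               b := Basis.empty V, chain := fun i => i.elim }⟩
    · have hnt : Nontrivial V := by
        by_contra hcon
        rw [not_nontrivial_iff_subsingleton] at hcon
        exact hV (finrank_zero_iff.2 hcon)
      -- nilpotency index
      classical
      have hex : ∃ m, N ^ m = 0 := hN
      set e := Nat.find hex with he_def
      have he : N ^ e = 0 := Nat.find_spec hex
      have he1 : 1 ≤ e := by
        by_contra h0
        have h00 : e = 0 := by omega
        rw [h00, pow_zero] at he
        obtain ⟨x, hx⟩ := exists_ne (0 : V)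
        have := congrArg (fun f : Module.End F V => f x) he
        simp at this
        exact hx this
      have hmin : N ^ (e - 1) ≠ 0 := Nat.find_min hex (by omega)
      obtain ⟨v, hv⟩ : ∃ v, (N ^ (e - 1)) v ≠ 0 := by
        by_contra hcon
        push Not at hcon
        exact hmin (LinearMap.ext hcon)
      obtain ⟨W, hWinv, hcompl, hGinj⟩ := exists_invariant_compl N v e he1 he hv
      -- dimensions
      have hCdim : finrank F (LinearMap.range (chainMap N v e)) = e := by
        rw [LinearMap.finrank_range_of_inj hGinj, Module.finrank_fin_fun]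
      have hdim := Submodule.finrank_add_eq_of_isCompl hcompl
      rw [hCdim] at hdim
      -- the restricted endomorphism
      let NW : Module.End F W := N.restrict hWinv
      have hNWpow : ∀ (m : ℕ) (w : W), ((NW ^ m) w : V) = (N ^ m) (w : V) := by
        intro m
        induction m with
        | zero => intro w; simp
        | succ m ihm =>
          intro w
          rw [pow_succ, Module.End.mul_apply, ihm, pow_succ, Module.End.mul_apply]
          rfl
      have hNWnil : IsNilpotent NW := by
        refine ⟨e, ?_⟩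
        ext w
        rw [hNWpow, he]
        rfl
      obtain ⟨cb⟩ := ih (finrank F W) (by omega) W NW hNWnil rfl
      letI := cb.fin
      -- bases
      let bC : Basis (Fin e) F (LinearMap.range (chainMap N v e)) :=
        (Pi.basisFun F (Fin e)).map (LinearEquiv.ofInjective (chainMap N v e) hGinj)
      have hbC : ∀ j : Fin e, ((bC j : LinearMap.range (chainMap N v e)) : V) = (N ^ (j : ℕ)) v := by
        intro j
        change chainMap N v e (Pi.basisFun F (Fin e) j) = _
        rw [Pi.basisFun_apply, chainMap_single]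
      let bV : Basis (Fin e ⊕ (Σ i : cb.ι, Fin (cb.k i))) F V :=
        (bC.prod cb.b).map (Submodule.prodEquivOfIsCompl _ _ hcompl)
      have hbV1 : ∀ j : Fin e, bV (Sum.inl j) = (N ^ (j : ℕ)) v := by
        intro j
        simp only [bV, Basis.map_apply, Basis.prod_apply, Sum.elim_inl, Function.comp_apply,
          LinearMap.coe_inl, Submodule.coe_prodEquivOfIsCompl', Submodule.coe_zero, add_zero, hbC]
      have hbV2 : ∀ x : (Σ i : cb.ι, Fin (cb.k i)), bV (Sum.inr x) = (cb.b x : V) := by
        intro x
        simp only [bV, Basis.map_apply, Basis.prod_apply, Sum.elim_inr, Function.comp_apply,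
          LinearMap.coe_inr, Submodule.coe_prodEquivOfIsCompl', Submodule.coe_zero, zero_add]
      refine ⟨ChainBasis.mk (Unit ⊕ cb.ι) inferInstance (Sum.elim (fun _ => e) cb.k) ?_
        (bV.reindex (glueEquiv e cb.k).symm) ?_⟩
      · rintro (x | i)
        · exact he1
        · exact cb.kpos i
      · rintro (x | i) ⟨j, hj⟩
        · have hj' : j < e := hj
          simp only [Basis.reindex_apply, Equiv.symm_symm]
          change N (bV (Sum.inl ⟨j, hj'⟩)) =
            if h : j + 1 < e then bV (Sum.inl ⟨j + 1, h⟩) else 0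
          rw [hbV1, ← Module.End.mul_apply, ← pow_succ']
          by_cases h : j + 1 < e
          · rw [dif_pos h, hbV1]
          · rw [dif_neg h]
            have hje : j + 1 = e := by omega
            rw [hje, he, LinearMap.zero_apply]
        · simp only [Basis.reindex_apply, Equiv.symm_symm]
          change N (bV (Sum.inr ⟨i, ⟨j, hj⟩⟩)) =
            if h : j + 1 < cb.k i then bV (Sum.inr ⟨i, ⟨j + 1, h⟩⟩) else 0
          rw [hbV2]
          have h1 : N ((cb.b ⟨i, ⟨j, hj⟩⟩ : W) : V) = ((NW (cb.b ⟨i, ⟨j, hj⟩⟩) : W) : V) := rfl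
          rw [h1, cb.chain i ⟨j, hj⟩]
          by_cases h : j + 1 < cb.k i
          · rw [dif_pos h, dif_pos h, hbV2]
          · rw [dif_neg h, dif_neg h]
            rfl

theorem exists_chainBasis {V : Type u} [AddCommGroup V] [Module F V] [FiniteDimensional F V]
    (N : Module.End F V) (hN : IsNilpotent N) : Nonempty (ChainBasis N) :=
  exists_chainBasis_aux _ V N hN rfl

namespace ChainBasis
variable {V : Type*} [AddCommGroup V] [Module F V] {N : Module.End F V} (cb : ChainBasis N)

/-- the multiset of chain lengths -/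
def type : Multiset ℕ := @Multiset.map cb.ι ℕ cb.k (@Finset.univ cb.ι cb.fin).val

theorem pow_apply (m : ℕ) (i : cb.ι) (j : Fin (cb.k i)) :
    (N ^ m) (cb.b ⟨i, j⟩) =
      if h : (j : ℕ) + m < cb.k i then cb.b ⟨i, ⟨(j : ℕ) + m, h⟩⟩ else 0 := by
  induction m with
  | zero =>
    rw [pow_zero, dif_pos (by simp)]
    rfl
  | succ m ih =>
    rw [pow_succ', Module.End.mul_apply, ih]
    by_cases h : (j : ℕ) + m < cb.k i
    · rw [dif_pos h, cb.chain]
      by_cases h' : (j : ℕ) + (m + 1) < cb.k i
      · rw [dif_pos h', dif_pos (by simpa [add_assoc] using h')]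
        rfl
      · rw [dif_neg h', dif_neg (by simpa [add_assoc] using h')]
    · rw [dif_neg h, map_zero, dif_neg (by omega)]

theorem pow_eq_zero_iff (m : ℕ) : N ^ m = 0 ↔ ∀ i, cb.k i ≤ m := by
  constructor
  · intro h i
    by_contra hlt
    push Not at hlt
    have h1 := cb.pow_apply m i ⟨0, cb.kpos i⟩
    rw [h, LinearMap.zero_apply, dif_pos (by simpa using hlt)] at h1
    exact cb.b.ne_zero _ h1.symm
  · intro h
    apply cb.b.ext
    rintro ⟨i, j⟩
    rw [cb.pow_apply, dif_neg (by have := h i; omega), LinearMap.zero_apply]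

/-- the index set of the basis vectors spanning the range of `N ^ m` -/
def tailEquiv (m : ℕ) :
    {x : (Σ i : cb.ι, Fin (cb.k i)) // m ≤ (x.2 : ℕ)} ≃
      Σ i : cb.ι, {j : Fin (cb.k i) // m ≤ (j : ℕ)} where
  toFun x := ⟨x.1.1, ⟨x.1.2, x.2⟩⟩
  invFun y := ⟨⟨y.1, y.2.1⟩, y.2.2⟩
  left_inv := by rintro ⟨⟨i, j⟩, h⟩; rfl
  right_inv := by rintro ⟨i, ⟨j, h⟩⟩; rfl

theorem range_pow (m : ℕ) :
    LinearMap.range (N ^ m) = Submodule.span F (Set.range
      (fun x : {x : (Σ i : cb.ι, Fin (cb.k i)) // m ≤ (x.2 : ℕ)} => cb.b x.1)) := by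
  apply le_antisymm
  · rintro _ ⟨x, rfl⟩
    have hx : x ∈ Submodule.span F (Set.range cb.b) := by rw [cb.b.span_eq]; trivial
    induction hx using Submodule.span_induction with
    | mem y hy =>
      obtain ⟨⟨i, j⟩, rfl⟩ := hy
      rw [cb.pow_apply]
      by_cases h : (j : ℕ) + m < cb.k i
      · rw [dif_pos h]
        exact Submodule.subset_span ⟨⟨⟨i, ⟨(j : ℕ) + m, h⟩⟩, by simp⟩, rfl⟩
      · rw [dif_neg h]
        exact Submodule.zero_mem _
    | zero => rw [map_zero]; exact Submodule.zero_mem _
    | add a b _ _ ha hb => rw [map_add]; exact Submodule.add_mem _ ha hb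
    | smul c a _ ha => rw [map_smul]; exact Submodule.smul_mem _ _ ha
  · rw [Submodule.span_le]
    rintro _ ⟨⟨⟨i, j⟩, hj⟩, rfl⟩
    have hj' : m ≤ (j : ℕ) := hj
    refine ⟨cb.b ⟨i, ⟨(j : ℕ) - m, by omega⟩⟩, ?_⟩
    rw [cb.pow_apply, dif_pos (by simp only; omega)]
    congr 2
    apply Fin.ext
    simp only
    omega

theorem finrank_range_pow (m : ℕ) :
    finrank F (LinearMap.range (N ^ m)) = (cb.type.map (fun a => a - m)).sum := by
  classical
  letI := cb.fin
  have hli : LinearIndependent F
      (fun x : {x : (Σ i : cb.ι, Fin (cb.k i)) // m ≤ (x.2 : ℕ)} => cb.b x.1) :=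
    cb.b.linearIndependent.comp _ Subtype.val_injective
  rw [cb.range_pow, finrank_span_eq_card hli,
    Fintype.card_congr (cb.tailEquiv m), Fintype.card_sigma]
  unfold type
  rw [Multiset.map_map]
  change _ = (Finset.univ.sum (fun i => cb.k i - m))
  apply Finset.sum_congr rfl
  intro i _
  have h1 : Fintype.card {j : Fin (cb.k i) // m ≤ (j : ℕ)} =
      Fintype.card (Fin (cb.k i)) - Fintype.card {j : Fin (cb.k i) // (j : ℕ) < m} := by
    rw [← Fintype.card_subtype_compl]
    apply Fintype.card_congr
    exact Equiv.subtypeEquivRight (fun j => by simp)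
  rw [h1, Fintype.card_fin, Fintype.card_subtype, Fin.card_filter_val_lt]
  omega

end ChainBasis

end chain

section multiset

theorem sum_sub_succ (s : Multiset ℕ) (m : ℕ) :
    (s.map (fun a => a - m)).sum =
      (s.map (fun a => a - (m + 1))).sum + s.countP (fun a => m < a) := by
  induction s using Multiset.induction_on with
  | empty => simp
  | cons a s ih =>
    rw [Multiset.map_cons, Multiset.sum_cons, Multiset.map_cons, Multiset.sum_cons, ih,
      Multiset.countP_cons]
    split_ifs with h <;> omega

theorem countP_lt_eq (s : Multiset ℕ) (m : ℕ) :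
    s.countP (fun a => m < a) = s.count (m + 1) + s.countP (fun a => m + 1 < a) := by
  induction s using Multiset.induction_on with
  | empty => simp
  | cons a s ih =>
    rw [Multiset.countP_cons, Multiset.countP_cons, Multiset.count_cons, ih]
    split_ifs <;> omega

/-- a multiset of positive integers is determined by the sums `Σ (a - m)` -/
theorem multiset_eq_of_sub_sums (s t : Multiset ℕ) (hs : ∀ a ∈ s, 0 < a) (ht : ∀ a ∈ t, 0 < a)
    (h : ∀ m, (s.map (fun a => a - m)).sum = (t.map (fun a => a - m)).sum) : s = t := by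
  have hc : ∀ m, s.countP (fun a => m < a) = t.countP (fun a => m < a) := by
    intro m
    have h1 := sum_sub_succ s m
    have h2 := sum_sub_succ t m
    have h3 := h m
    have h4 := h (m + 1)
    omega
  ext a
  rcases Nat.eq_zero_or_pos a with rfl | ha
  · rw [Multiset.count_eq_zero_of_notMem (fun h0 => absurd (hs 0 h0) (lt_irrefl 0)),
      Multiset.count_eq_zero_of_notMem (fun h0 => absurd (ht 0 h0) (lt_irrefl 0))]
  · obtain ⟨m, rfl⟩ : ∃ m, a = m + 1 := ⟨a - 1, by omega⟩
    have h1 := countP_lt_eq s m
    have h2 := countP_lt_eq t m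
    have h3 := hc m
    have h4 := hc (m + 1)
    omega

end multiset

section similar
variable {F : Type*} [Field F]

/-- index bookkeeping for matching two chain bases -/
noncomputable def idxEquiv {ι ι' : Type} {k : ι → ℕ} {k' : ι' → ℕ} (σ : ι ≃ ι')
    (h : ∀ i, k' (σ i) = k i) : (Σ i : ι, Fin (k i)) ≃ (Σ i' : ι', Fin (k' i')) :=
  Equiv.ofBijective (fun x => ⟨σ x.1, ⟨x.2, by rw [h]; exact x.2.2⟩⟩) (by
    constructor
    · rintro ⟨i, j⟩ ⟨i', j'⟩ hxy
      obtain ⟨h1, h2⟩ := Sigma.mk.inj_iff.1 hxy
      obtain rfl := σ.injective h1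
      have h3 := eq_of_heq h2
      have h4 : (j : ℕ) = (j' : ℕ) := Fin.mk.inj_iff.1 h3
      rw [Fin.ext h4]
    · rintro ⟨i', j'⟩
      obtain ⟨i, rfl⟩ := σ.surjective i'
      exact ⟨⟨i, ⟨j', by rw [← h i]; exact j'.2⟩⟩, rfl⟩)

theorem idxEquiv_apply {ι ι' : Type} {k : ι → ℕ} {k' : ι' → ℕ} (σ : ι ≃ ι')
    (h : ∀ i, k' (σ i) = k i) (i : ι) (j : ℕ) (hj : j < k i) :
    idxEquiv σ h ⟨i, ⟨j, hj⟩⟩ = ⟨σ i, ⟨j, by rw [h]; exact hj⟩⟩ := rfl

/-- two nilpotent endomorphisms with chain bases of the same type are similar -/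
theorem ChainBasis.exists_equiv {V V' : Type*} [AddCommGroup V] [Module F V] [AddCommGroup V']
    [Module F V'] {N : Module.End F V} {N' : Module.End F V'} (cb : ChainBasis N)
    (cb' : ChainBasis N') (h : cb.type = cb'.type) :
    ∃ T : V ≃ₗ[F] V', ∀ x, T (N x) = N' (T x) := by
  classical
  let _ := cb.fin
  let _ := cb'.fin
  have hcard : ∀ a : ℕ, Fintype.card {i : cb.ι // cb.k i = a} =
      Fintype.card {i' : cb'.ι // cb'.k i' = a} := by
    intro a
    have h1 := congrArg (Multiset.count a) h
    unfold ChainBasis.type at h1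
    rw [Multiset.count_map, Multiset.count_map] at h1
    rw [Fintype.card_subtype, Fintype.card_subtype]
    have e1 : (Finset.univ.filter (fun i : cb.ι => cb.k i = a)).card =
        Multiset.card (Multiset.filter (fun i => a = cb.k i) (Finset.univ : Finset cb.ι).val) := by
      rw [Finset.card, Finset.filter_val]
      congr 1
      apply Multiset.filter_congr
      intro i _
      exact eq_comm
    have e2 : (Finset.univ.filter (fun i : cb'.ι => cb'.k i = a)).card =
        Multiset.card (Multiset.filter (fun i => a = cb'.k i)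
          (Finset.univ : Finset cb'.ι).val) := by
      rw [Finset.card, Finset.filter_val]
      congr 1
      apply Multiset.filter_congr
      intro i _
      exact eq_comm
    rw [e1, e2]
    exact h1
  let σ : cb.ι ≃ cb'.ι := Equiv.ofFiberEquiv (fun a => Fintype.equivOfCardEq (hcard a))
  have hσ : ∀ i, cb'.k (σ i) = cb.k i := fun i => Equiv.ofFiberEquiv_map _ i
  let T : V ≃ₗ[F] V' := cb.b.equiv cb'.b (idxEquiv σ hσ)
  refine ⟨T, ?_⟩
  have hT : ∀ x, T (cb.b x) = cb'.b (idxEquiv σ hσ x) := fun x => Basis.equiv_apply _ _ _ _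
  suffices hlin : (T : V →ₗ[F] V').comp N = N'.comp (T : V →ₗ[F] V') by
    intro x
    exact congrArg (fun f : V →ₗ[F] V' => f x) hlin
  apply cb.b.ext
  rintro ⟨i, ⟨j, hj⟩⟩
  simp only [LinearMap.comp_apply, LinearEquiv.coe_coe]
  rw [hT, idxEquiv_apply, cb.chain, cb'.chain]
  by_cases hlt : j + 1 < cb.k i
  · rw [dif_pos hlt, dif_pos (show j + 1 < cb'.k (σ i) by rw [hσ]; exact hlt), hT,
      idxEquiv_apply]
  · rw [dif_neg hlt, dif_neg (show ¬ j + 1 < cb'.k (σ i) by rw [hσ]; exact hlt), map_zero]

end similar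

end Cfsg.Agent.Helper13.Nilp
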