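import Mathlib
import Cfsg.Agent.Lib.Helper13.NilpotentChain
import Cfsg.Agent.S2577

set_option autoImplicit false

/-!
# Unipotent classes of `GL_n` over a field: Jordan types
-/

namespace Cfsg.Agent.Helper13.Nilp

open Matrix Module

section
variable {F : Type*} [Field F] {n : ℕ}

/-- the nilpotent part `g - 1` as a matrix -/
def nilMat (g : GL (Fin n) F) : Matrix (Fin n) (Fin n) F := (g : Matrix (Fin n) (Fin n) F) - 1

/-- the nilpotent part `g - 1` as an endomorphism -/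
noncomputable def nilOf (g : GL (Fin n) F) : Module.End F (Fin n → F) :=
  Matrix.toLinAlgEquiv' (nilMat g)

theorem nilOf_pow (g : GL (Fin n) F) (m : ℕ) :
    (nilOf g) ^ m = Matrix.toLinAlgEquiv' (nilMat g ^ m) := by
  unfold nilOf
  rw [map_pow]

theorem finrank_range_nilOf_pow (g : GL (Fin n) F) (m : ℕ) :
    finrank F (LinearMap.range ((nilOf g) ^ m)) = (nilMat g ^ m).rank := by
  rw [nilOf_pow, Matrix.rank]
  rfl

theorem nilOf_pow_eq_zero_iff (g : GL (Fin n) F) (m : ℕ) :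
    (nilOf g) ^ m = 0 ↔ nilMat g ^ m = 0 := by
  rw [nilOf_pow]
  exact map_eq_zero_iff _ (Matrix.toLinAlgEquiv' (R := F) (n := Fin n)).injective

theorem gln_mul_inv (g : GL (Fin n) F) :
    (g : Matrix (Fin n) (Fin n) F) * ((g⁻¹ : GL (Fin n) F) : Matrix (Fin n) (Fin n) F) = 1 := by
  rw [← Units.val_mul, mul_inv_cancel]; rfl

theorem gln_inv_mul (g : GL (Fin n) F) :
    ((g⁻¹ : GL (Fin n) F) : Matrix (Fin n) (Fin n) F) * (g : Matrix (Fin n) (Fin n) F) = 1 := by
  rw [← Units.val_mul, inv_mul_cancel]; rfl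

theorem nilMat_conj (g y : GL (Fin n) F) :
    nilMat (y * g * y⁻¹) = (y : Matrix (Fin n) (Fin n) F) * nilMat g *
      ((y⁻¹ : GL (Fin n) F) : Matrix (Fin n) (Fin n) F) := by
  unfold nilMat
  rw [Matrix.mul_sub, Matrix.sub_mul, Matrix.mul_one, gln_mul_inv]
  rfl

theorem conj_pow_mat (Y Y' M : Matrix (Fin n) (Fin n) F) (h : Y' * Y = 1) (m : ℕ) :
    (Y * M * Y') ^ m * Y = Y * M ^ m := by
  induction m with
  | zero => simp
  | succ m ih =>
    calc (Y * M * Y') ^ (m + 1) * Y = (Y * M * Y') ^ m * ((Y * M * Y') * Y) := by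
          rw [pow_succ, Matrix.mul_assoc]
      _ = (Y * M * Y') ^ m * (Y * M) := by
          rw [Matrix.mul_assoc (Y * M) Y' Y, h, Matrix.mul_one]
      _ = ((Y * M * Y') ^ m * Y) * M := by
          rw [Matrix.mul_assoc ((Y * M * Y') ^ m) Y M]
      _ = Y * M ^ m * M := by rw [ih]
      _ = Y * M ^ (m + 1) := by rw [Matrix.mul_assoc, ← pow_succ]

theorem rank_nilMat_pow_conj (g y : GL (Fin n) F) (m : ℕ) :
    (nilMat (y * g * y⁻¹) ^ m).rank = (nilMat g ^ m).rank := by
  rw [nilMat_conj]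
  have h1 := conj_pow_mat (y : Matrix (Fin n) (Fin n) F)
    ((y⁻¹ : GL (Fin n) F) : Matrix (Fin n) (Fin n) F) (nilMat g)
    (gln_inv_mul y) m
  have h2 : ((y : Matrix (Fin n) (Fin n) F) * nilMat g *
      ((y⁻¹ : GL (Fin n) F) : Matrix (Fin n) (Fin n) F)) ^ m =
      (y : Matrix (Fin n) (Fin n) F) * nilMat g ^ m *
        ((y⁻¹ : GL (Fin n) F) : Matrix (Fin n) (Fin n) F) := by
    calc _ = (((y : Matrix (Fin n) (Fin n) F) * nilMat g *
        ((y⁻¹ : GL (Fin n) F) : Matrix (Fin n) (Fin n) F)) ^ m * (y : Matrix (Fin n) (Fin n) F)) *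
        ((y⁻¹ : GL (Fin n) F) : Matrix (Fin n) (Fin n) F) := by
          rw [Matrix.mul_assoc _ (y : Matrix (Fin n) (Fin n) F), gln_mul_inv, Matrix.mul_one]
      _ = _ := by rw [h1]
  rw [h2, Cfsg.Agent.S2577.rank_conj]

theorem ChainBasis.type_pos {V : Type*} [AddCommGroup V] [Module F V] {N : Module.End F V}
    (cb : ChainBasis N) : ∀ a ∈ cb.type, 0 < a := by
  intro a ha
  unfold ChainBasis.type at ha
  obtain ⟨i, -, rfl⟩ := Multiset.mem_map.1 ha
  exact cb.kpos i

theorem ChainBasis.type_sum {V : Type*} [AddCommGroup V] [Module F V] {N : Module.End F V}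
    (cb : ChainBasis N) : cb.type.sum = finrank F V := by
  classical
  let _ := cb.fin
  rw [Module.finrank_eq_card_basis cb.b, Fintype.card_sigma]
  unfold ChainBasis.type
  simp only [Fintype.card_fin]
  rfl

theorem ChainBasis.le_iff {V : Type*} [AddCommGroup V] [Module F V] {N : Module.End F V}
    (cb : ChainBasis N) (m : ℕ) : N ^ m = 0 ↔ ∀ a ∈ cb.type, a ≤ m := by
  rw [cb.pow_eq_zero_iff]
  unfold ChainBasis.type
  constructor
  · intro h a ha
    obtain ⟨i, -, rfl⟩ := Multiset.mem_map.1 ha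
    exact h i
  · intro h i
    exact h _ (Multiset.mem_map.2 ⟨i, @Finset.mem_univ _ cb.fin i, rfl⟩)

theorem type_eq_of_isConj {g g' : GL (Fin n) F} (h : IsConj g g') (cb : ChainBasis (nilOf g))
    (cb' : ChainBasis (nilOf g')) : cb.type = cb'.type := by
  obtain ⟨y, rfl⟩ := isConj_iff.1 h
  apply multiset_eq_of_sub_sums _ _ cb.type_pos cb'.type_pos
  intro m
  rw [← cb.finrank_range_pow, ← cb'.finrank_range_pow, finrank_range_nilOf_pow,
    finrank_range_nilOf_pow, rank_nilMat_pow_conj]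

theorem toLin'_eq_nilOf_add (g : GL (Fin n) F) (x : Fin n → F) :
    Matrix.toLin' (g : Matrix (Fin n) (Fin n) F) x = nilOf g x + x := by
  unfold nilOf nilMat
  rw [Matrix.toLinAlgEquiv'_apply, Matrix.toLin'_apply, Matrix.sub_mulVec, Matrix.one_mulVec]
  abel

theorem isConj_of_type_eq {g g' : GL (Fin n) F} (cb : ChainBasis (nilOf g))
    (cb' : ChainBasis (nilOf g')) (h : cb.type = cb'.type) : IsConj g g' := by
  obtain ⟨T, hT⟩ := cb.exists_equiv cb' h
  apply Cfsg.Agent.S2577.isConj_of_intertwiner g g' T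
  intro v
  rw [toLin'_eq_nilOf_add, toLin'_eq_nilOf_add, map_add, hT]

theorem type_sum_gl (g : GL (Fin n) F) (cb : ChainBasis (nilOf g)) : cb.type.sum = n := by
  rw [cb.type_sum, Module.finrank_fin_fun]

theorem nilMat_pow_eq_zero_iff (g : GL (Fin n) F) (cb : ChainBasis (nilOf g)) (m : ℕ) :
    nilMat g ^ m = 0 ↔ ∀ a ∈ cb.type, a ≤ m := by
  rw [← nilOf_pow_eq_zero_iff, cb.le_iff]

/-- realisation of a Jordan type -/
theorem exists_of_type (μ : Multiset ℕ) (hpos : ∀ a ∈ μ, 0 < a) (hsum : μ.sum = n) :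
    ∃ g : GL (Fin n) F, ∃ cb : ChainBasis (nilOf g), cb.type = μ := by
  classical
  obtain ⟨l, rfl⟩ := Quot.exists_rep μ
  let k : Fin l.length → ℕ := fun i => l.get i
  have hk : Finset.univ.val.map k = (l : Multiset ℕ) := by
    rw [Fin.univ_val_map, List.ofFn_get]
  have hkpos : ∀ i, 0 < k i := fun i => hpos _ (by
    show l.get i ∈ (l : Multiset ℕ)
    exact Multiset.mem_coe.2 (List.get_mem l i))
  have hcard : Fintype.card (Σ i : Fin l.length, Fin (k i)) = Fintype.card (Fin n) := by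
    rw [Fintype.card_sigma, Fintype.card_fin]
    simp only [Fintype.card_fin]
    rw [← hsum]
    change (Finset.univ.val.map k).sum = _
    rw [hk]
    rfl
  let E₀ : (Σ i : Fin l.length, Fin (k i)) ≃ Fin n := Fintype.equivOfCardEq hcard
  let b : Basis (Σ i : Fin l.length, Fin (k i)) F (Fin n → F) :=
    (Pi.basisFun F (Fin n)).reindex E₀.symm
  let N : Module.End F (Fin n → F) := b.constr F
    (fun x => if h : (x.2 : ℕ) + 1 < k x.1 then b ⟨x.1, ⟨(x.2 : ℕ) + 1, h⟩⟩ else 0)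
  have hchain : ∀ (i : Fin l.length) (j : Fin (k i)),
      N (b ⟨i, j⟩) = if h : (j : ℕ) + 1 < k i then b ⟨i, ⟨(j : ℕ) + 1, h⟩⟩ else 0 := by
    intro i j
    exact Basis.constr_basis b F _ ⟨i, j⟩
  let cb : ChainBasis N := ⟨Fin l.length, inferInstance, k, hkpos, b, hchain⟩
  have htype : cb.type = (l : Multiset ℕ) := hk
  have hnil : N ^ n = 0 := by
    rw [cb.le_iff, htype]
    intro a ha
    rw [← hsum]
    exact Multiset.le_sum_of_mem ha
  have hMnil : IsNilpotent (LinearMap.toMatrix' N) := by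
    refine ⟨n, ?_⟩
    have h1 : LinearMap.toMatrix' N = (Matrix.toLinAlgEquiv' (R := F) (n := Fin n)).symm N := rfl
    rw [h1, ← map_pow, hnil, map_zero]
  let g : GL (Fin n) F := (hMnil.isUnit_one_add).unit
  have hg : (g : Matrix (Fin n) (Fin n) F) = 1 + LinearMap.toMatrix' N := rfl
  have hgN : nilOf g = N := by
    unfold nilOf nilMat
    rw [hg, add_sub_cancel_left]
    exact Matrix.toLin'_toMatrix' N
  refine ⟨g, ?_⟩
  rw [hgN]
  exact ⟨cb, htype⟩

end

end Cfsg.Agent.Helper13.Nilp
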