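import Mathlib
import Cfsg.Agent.Lib.Helper13.NilpotentChain
import Cfsg.Agent.Lib.Helper13.NilpotentGL
import Cfsg.Agent.Lib.Helper13.InvariantTower
import Cfsg.Agent.Lib.Helper13.Elusive
import Cfsg.Agent.Lib.Helper13.ElusiveCore

/-!
# Unipotent elements of order `p` and invariant decompositions
-/

set_option autoImplicit false
set_option linter.style.haveILetI false
set_option linter.unusedSectionVars false
set_option linter.unusedVariables false

namespace Cfsg.Agent.Helper13.Elus

open Module Cfsg.Agent.Helper13.InvTow Cfsg.Agent.Helper13.Nilp Cfsg.Agent.Helper13.POS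

universe u

section multiset

theorem exists_le_map_eq {α β : Type*} (f : α → β) (s : Multiset α) (ν : Multiset β)
    (h : ν ≤ s.map f) : ∃ S, S ≤ s ∧ S.map f = ν := by
  induction s using Quotient.inductionOn with
  | _ l₂ =>
    induction ν using Quotient.inductionOn with
    | _ l₁ =>
      obtain ⟨l, hl, hsub⟩ := h
      obtain ⟨l', hl', rfl⟩ := List.sublist_map_iff.mp hsub
      exact ⟨(l' : Multiset α), hl'.subperm, Quot.sound hl⟩

end multiset

section chain

variable {F : Type*} [Field F] {V : Type*} [AddCommGroup V] [Module F V]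

/-- sub-multisets of the Jordan type give invariant decompositions. -/
theorem exists_decomp_of_chainBasis (N : Module.End F V) (cb : ChainBasis N) (ν : Multiset ℕ)
    (hν : ν ≤ cb.type) :
    ∃ U W : Submodule F V, IsCompl U W ∧ finrank F U = ν.sum ∧ Inv N U ∧ Inv N W := by
  classical
  letI := cb.fin
  obtain ⟨S, hS, hSν⟩ := exists_le_map_eq cb.k Finset.univ.val ν hν
  have hnd : S.Nodup := Multiset.nodup_of_le hS Finset.univ.nodup
  set S' : Finset cb.ι := ⟨S, hnd⟩ with hS'
  set s : Set (Σ i : cb.ι, Fin (cb.k i)) := {x | x.1 ∈ S'} with hs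
  set t : Set (Σ i : cb.ι, Fin (cb.k i)) := {x | x.1 ∉ S'} with ht
  have hst : Disjoint s t := by
    rw [Set.disjoint_left]
    intro x hx hx'
    exact hx' hx
  have hun : s ∪ t = Set.univ := by
    ext x
    simp only [Set.mem_union, Set.mem_univ, iff_true, hs, ht, Set.mem_ofPred_eq]
    exact em _
  have hinv : ∀ (s' : Set (Σ i : cb.ι, Fin (cb.k i))),
      (∀ x ∈ s', ∀ y : (Σ i : cb.ι, Fin (cb.k i)), y.1 = x.1 → y ∈ s') →
      Inv N (Submodule.span F (cb.b '' s')) := by
    intro s' hs'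
    rw [inv_iff_map_le, Submodule.map_span_le]
    rintro _ ⟨⟨i, j⟩, hx, rfl⟩
    rw [cb.chain]
    by_cases h : (j : ℕ) + 1 < cb.k i
    · rw [dif_pos h]
      exact Submodule.subset_span ⟨_, hs' _ hx ⟨i, ⟨(j : ℕ) + 1, h⟩⟩ rfl, rfl⟩
    · rw [dif_neg h]
      exact Submodule.zero_mem _
  refine ⟨Submodule.span F (cb.b '' s), Submodule.span F (cb.b '' t), ⟨?_, ?_⟩, ?_, ?_, ?_⟩
  · exact cb.b.linearIndependent.disjoint_span_image hst
  · rw [codisjoint_iff, ← Submodule.span_union, ← Set.image_union, hun, Set.image_univ,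
      cb.b.span_eq]
  · have hli : LinearIndependent F (fun x : {x : (Σ i : cb.ι, Fin (cb.k i)) // x.1 ∈ S'} =>
        cb.b x.1) := cb.b.linearIndependent.comp _ Subtype.val_injective
    have himg : cb.b '' s = Set.range (fun x : {x : (Σ i : cb.ι, Fin (cb.k i)) // x.1 ∈ S'} =>
        cb.b x.1) := by
      ext v
      constructor
      · rintro ⟨x, hx, rfl⟩
        exact ⟨⟨x, hx⟩, rfl⟩
      · rintro ⟨⟨x, hx⟩, rfl⟩
        exact ⟨x, hx, rfl⟩
    rw [himg, finrank_span_eq_card hli,
      Fintype.card_congr (Equiv.subtypeSigmaEquiv (fun i : cb.ι => Fin (cb.k i))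
        (fun i => i ∈ S')), Fintype.card_sigma]
    simp only [Fintype.card_fin]
    rw [← hSν]
    rw [Finset.sum_coe_sort S' cb.k]
    rfl
  · exact hinv s (fun x hx y hy => by
      simp only [hs, Set.mem_ofPred_eq] at hx ⊢; rw [hy]; exact hx)
  · exact hinv t (fun x hx y hy => by
      simp only [ht, Set.mem_ofPred_eq] at hx ⊢; rw [hy]; exact hx)

end chain

section rank

variable {F : Type*} [Field F] {V : Type u} [AddCommGroup V] [Module F V] [FiniteDimensional F V]

theorem finrank_range_restrict (g : Module.End F V) (U : Submodule F V)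
    (hU : ∀ x ∈ U, g x ∈ U) :
    finrank F ↥(LinearMap.range (g.restrict hU)) = finrank F ↥(U.map g) := by
  rw [← Submodule.finrank_map_subtype_eq U (LinearMap.range (g.restrict hU))]
  have h : (LinearMap.range (g.restrict hU)).map U.subtype = U.map g := by
    ext v
    constructor
    · rintro ⟨_, ⟨u, rfl⟩, rfl⟩
      exact ⟨u, u.2, rfl⟩
    · rintro ⟨u, hu, rfl⟩
      exact ⟨g.restrict hU ⟨u, hu⟩, ⟨⟨u, hu⟩, rfl⟩, rfl⟩
  rw [h]

/-- additivity of the rank over an invariant decomposition. -/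
theorem finrank_range_of_isCompl (g : Module.End F V) (U W : Submodule F V) (hUW : IsCompl U W)
    (hU : ∀ x ∈ U, g x ∈ U) (hW : ∀ x ∈ W, g x ∈ W) :
    finrank F ↥(LinearMap.range g) =
      finrank F ↥(LinearMap.range (g.restrict hU)) +
        finrank F ↥(LinearMap.range (g.restrict hW)) := by
  rw [finrank_range_restrict, finrank_range_restrict]
  have h1 : LinearMap.range g = U.map g ⊔ W.map g := by
    rw [← Submodule.map_sup, hUW.sup_eq_top, Submodule.map_top]
  have h2 : U.map g ⊓ W.map g = ⊥ := by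
    rw [eq_bot_iff]
    have hU' : U.map g ≤ U := by rintro _ ⟨u, hu, rfl⟩; exact hU u hu
    have hW' : W.map g ≤ W := by rintro _ ⟨u, hu, rfl⟩; exact hW u hu
    exact le_trans (inf_le_inf hU' hW') (le_of_eq hUW.inf_eq_bot)
  have h3 := Submodule.finrank_sup_add_finrank_inf_eq (U.map g) (W.map g)
  rw [h2, finrank_bot, add_zero] at h3
  rw [h1, h3]

/-- the Jordan type of the restriction to an invariant summand is a sub-multiset. -/
theorem exists_type_le_of_isCompl (N : Module.End F V) (cb : ChainBasis N)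
    (U W : Submodule F V) (hUW : IsCompl U W) (hU : Inv N U) (hW : Inv N W) :
    ∃ ν : Multiset ℕ, ν ≤ cb.type ∧ ν.sum = finrank F U := by
  have hU' : ∀ x ∈ U, N x ∈ U := hU
  have hW' : ∀ x ∈ W, N x ∈ W := hW
  have hnil : IsNilpotent N := by
    refine ⟨finrank F V, ?_⟩
    rw [cb.le_iff]
    intro a ha
    rw [← cb.type_sum]
    exact Multiset.le_sum_of_mem ha
  obtain ⟨k₀, hk₀⟩ := hnil
  have hnilU : IsNilpotent (N.restrict hU') := by
    refine ⟨k₀, ?_⟩
    rw [Module.End.pow_restrict]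
    apply LinearMap.ext
    intro u
    apply Subtype.ext
    rw [LinearMap.coe_restrict_apply, hk₀]
    rfl
  have hnilW : IsNilpotent (N.restrict hW') := by
    refine ⟨k₀, ?_⟩
    rw [Module.End.pow_restrict]
    apply LinearMap.ext
    intro u
    apply Subtype.ext
    rw [LinearMap.coe_restrict_apply, hk₀]
    rfl
  obtain ⟨cbU⟩ := exists_chainBasis (N.restrict hU') hnilU
  obtain ⟨cbW⟩ := exists_chainBasis (N.restrict hW') hnilW
  have hsum : cb.type = cbU.type + cbW.type := by
    apply multiset_eq_of_sub_sums _ _ cb.type_pos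
    · intro a ha
      rcases Multiset.mem_add.mp ha with h | h
      · exact cbU.type_pos a h
      · exact cbW.type_pos a h
    · intro k
      rw [Multiset.map_add, Multiset.sum_add, ← cb.finrank_range_pow, ← cbU.finrank_range_pow,
        ← cbW.finrank_range_pow, Module.End.pow_restrict, Module.End.pow_restrict]
      exact finrank_range_of_isCompl (N ^ k) U W hUW _ _
  refine ⟨cbU.type, ?_, cbU.type_sum⟩
  rw [hsum]
  exact Multiset.le_add_right _ _

end rank

section comb

/-- the partition condition for `p = 2`. -/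
theorem partCond_two (n m : ℕ) (hmn : m ≤ n) :
    (∀ μ : Multiset ℕ, (∀ a ∈ μ, 0 < a ∧ a ≤ 2) → μ.sum = n →
      ∃ ν : Multiset ℕ, ν ≤ μ ∧ ν.sum = m) ↔ (Odd n ∨ Even m) := by
  constructor
  · intro h
    by_contra hcon
    obtain ⟨hn, hm⟩ := not_or.mp hcon
    rw [Nat.not_odd_iff_even] at hn
    obtain ⟨k, hk⟩ := hn
    obtain ⟨ν, hν, hνs⟩ := h (Multiset.replicate k 2)
      (fun a ha => by rw [Multiset.eq_of_mem_replicate ha]; omega)
      (by rw [Multiset.sum_replicate, smul_eq_mul]; omega)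
    have h2 : ∀ b ∈ ν, b = 2 := fun b hb =>
      Multiset.eq_of_mem_replicate (Multiset.mem_of_le hν hb)
    rw [Multiset.eq_replicate_of_mem h2, Multiset.sum_replicate, smul_eq_mul] at hνs
    apply hm
    rw [← hνs]
    exact even_two.mul_left _
  · intro h μ hμ hsum
    set a := Multiset.count 2 μ with ha
    set b := Multiset.count 1 μ with hb
    have hμeq : μ = Multiset.replicate a 2 + Multiset.replicate b 1 := by
      ext x
      rw [Multiset.count_add, Multiset.count_replicate, Multiset.count_replicate]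
      by_cases h2 : x = 2
      · subst h2; simp [ha]
      · by_cases h1 : x = 1
        · subst h1; simp [hb]
        · rw [if_neg (Ne.symm h2), if_neg (Ne.symm h1)]
          apply Multiset.count_eq_zero_of_notMem
          intro hx
          have := hμ x hx
          omega
    have hn : n = 2 * a + b := by
      rw [← hsum]
      conv_lhs => rw [hμeq]
      rw [Multiset.sum_add, Multiset.sum_replicate, Multiset.sum_replicate, smul_eq_mul,
        smul_eq_mul]
      omega
    have h' : n % 2 = 1 ∨ m % 2 = 0 := by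
      rcases h with h | h
      · left; exact Nat.odd_iff.mp h
      · right; exact Nat.even_iff.mp h
    refine ⟨Multiset.replicate (min a (m / 2)) 2 +
      Multiset.replicate (m - 2 * min a (m / 2)) 1, ?_, ?_⟩
    · rw [hμeq]
      apply add_le_add
      · exact Multiset.replicate_mono 2 (min_le_left _ _)
      · apply Multiset.replicate_mono 1
        omega
    · rw [Multiset.sum_add, Multiset.sum_replicate, Multiset.sum_replicate, smul_eq_mul,
        smul_eq_mul]
      omega

end comb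

section unip

variable {F : Type*} [Field F] [Fintype F]

theorem char_not_dvd_card_sub_one (p : ℕ) [Fact p.Prime] [CharP F p] :
    ¬ p ∣ Fintype.card F - 1 := by
  intro h
  have hp : p.Prime := Fact.out
  have hpq : p ∣ Fintype.card F := by
    rw [← CharP.cast_eq_zero_iff F p]
    exact Nat.cast_card_eq_zero F
  have h4 : 1 ≤ Fintype.card F := Fintype.card_pos
  have h5 : p ∣ 1 := by
    have := Nat.dvd_sub hpq h
    rwa [Nat.sub_sub_self h4] at this
  exact hp.one_lt.ne' (Nat.dvd_one.mp h5)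

/-- for `r = p`: the partition condition gives invariant decompositions. -/
theorem unipotent_good {p : ℕ} [Fact p.Prime] [CharP F p] (n m : ℕ) (hn : 0 < n)
    (hpc : ∀ μ : Multiset ℕ, (∀ a ∈ μ, 0 < a ∧ a ≤ p) → μ.sum = n →
      ∃ ν : Multiset ℕ, ν ≤ μ ∧ ν.sum = m)
    (x : Matrix.SpecialLinearGroup (Fin n) F) (c : F)
    (hx : ((x ^ p : Matrix.SpecialLinearGroup (Fin n) F) : Matrix (Fin n) (Fin n) F) =
      c • (1 : Matrix (Fin n) (Fin n) F)) :
    ∃ U W : Submodule F (Fin n → F), IsCompl U W ∧ finrank F ↥U = m ∧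
      U.map (Matrix.toLin' (x : Matrix (Fin n) (Fin n) F)) ≤ U ∧
      W.map (Matrix.toLin' (x : Matrix (Fin n) (Fin n) F)) ≤ W := by
  classical
  have hp : p.Prime := Fact.out
  haveI : Nonempty (Fin n) := ⟨⟨0, hn⟩⟩
  haveI : CharP (Matrix (Fin n) (Fin n) F) p := Matrix.charP p
  obtain ⟨hc0, hf, -⟩ := sl_data hn p x c hx
  obtain ⟨d, hd⟩ := exists_pow_eq_of_not_dvd p (char_not_dvd_card_sub_one (F := F) p) c
  have hd0 : d ≠ 0 := fun h => by rw [h, zero_pow hp.ne_zero] at hd; exact hc0 hd.symm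
  set M : Matrix (Fin n) (Fin n) F := d⁻¹ • (x : Matrix (Fin n) (Fin n) F) - 1 with hM
  have hMp : M ^ p = 0 := by
    rw [hM, sub_pow_char_of_commute p (Commute.one_right _), one_pow, smul_pow,
      ← Matrix.SpecialLinearGroup.coe_pow, hx, smul_smul, inv_pow, hd, inv_mul_cancel₀ hc0,
      one_smul, sub_self]
  set N : Module.End F (Fin n → F) := Matrix.toLin' M with hN
  have hNp : N ^ p = 0 := by
    rw [hN, ← Matrix.toLin'_pow, hMp, map_zero]
  obtain ⟨cb⟩ := exists_chainBasis N ⟨p, hNp⟩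
  obtain ⟨ν, hν, hνs⟩ := hpc cb.type
    (fun a ha => ⟨cb.type_pos a ha, (cb.le_iff p).mp hNp a ha⟩)
    (by rw [cb.type_sum, Module.finrank_fin_fun])
  obtain ⟨U, W, hUW, hUd, hU, hW⟩ := exists_decomp_of_chainBasis N cb ν hν
  have hxN : ∀ v, Matrix.toLin' (x : Matrix (Fin n) (Fin n) F) v = d • (N v + v) := by
    intro v
    rw [hN, hM, map_sub, map_smul, Matrix.toLin'_one, LinearMap.sub_apply, LinearMap.smul_apply,
      LinearMap.id_apply, sub_add_cancel, smul_smul, mul_inv_cancel₀ hd0, one_smul]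
  refine ⟨U, W, hUW, by rw [hUd, hνs], ?_, ?_⟩
  · rintro _ ⟨v, hv, rfl⟩
    rw [hxN]
    exact U.smul_mem _ (U.add_mem (hU v hv) hv)
  · rintro _ ⟨v, hv, rfl⟩
    rw [hxN]
    exact W.smul_mem _ (W.add_mem (hW v hv) hv)

/-- for `r = p`: invariant decompositions for all elements of order `p` force the partition
condition. -/
theorem unipotent_bad {p : ℕ} [Fact p.Prime] [CharP F p] (n m : ℕ) (hn : 0 < n) (hm : m ≤ n)
    (hL : ∀ x : Matrix.SpecialLinearGroup (Fin n) F,
      (∃ c : F, ((x ^ p : Matrix.SpecialLinearGroup (Fin n) F) : Matrix (Fin n) (Fin n) F) =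
        c • (1 : Matrix (Fin n) (Fin n) F)) →
      (∀ c : F, (x : Matrix (Fin n) (Fin n) F) ≠ c • (1 : Matrix (Fin n) (Fin n) F)) →
      ∃ U W : Submodule F (Fin n → F), IsCompl U W ∧ finrank F ↥U = m ∧
        U.map (Matrix.toLin' (x : Matrix (Fin n) (Fin n) F)) ≤ U ∧
        W.map (Matrix.toLin' (x : Matrix (Fin n) (Fin n) F)) ≤ W) :
    ∀ μ : Multiset ℕ, (∀ a ∈ μ, 0 < a ∧ a ≤ p) → μ.sum = n →
      ∃ ν : Multiset ℕ, ν ≤ μ ∧ ν.sum = m := by
  classical
  have hp : p.Prime := Fact.out
  haveI : Nonempty (Fin n) := ⟨⟨0, hn⟩⟩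
  haveI : CharP (Matrix (Fin n) (Fin n) F) p := Matrix.charP p
  intro μ hμ hsum
  by_cases h1 : ∀ a ∈ μ, a = 1
  · have hμeq := Multiset.eq_replicate_of_mem h1
    have hcard : Multiset.card μ = n := by
      rw [← hsum]
      conv_rhs => rw [hμeq]
      rw [Multiset.sum_replicate, smul_eq_mul, mul_one]
    refine ⟨Multiset.replicate m 1, ?_, ?_⟩
    · rw [hμeq, hcard]
      exact Multiset.replicate_mono 1 hm
    · rw [Multiset.sum_replicate, smul_eq_mul, mul_one]
  · push Not at h1
    obtain ⟨a₀, ha₀, ha₀1⟩ := h1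
    obtain ⟨g, cb, hcb⟩ := exists_of_type (F := F) μ (fun a ha => (hμ a ha).1) hsum
    have hnil : nilMat g ^ p = 0 :=
      (nilMat_pow_eq_zero_iff g cb p).mpr (by rw [hcb]; intro a ha; exact (hμ a ha).2)
    have hgp : (g : Matrix (Fin n) (Fin n) F) ^ p = 1 := by
      have h2 := sub_pow_char_of_commute p
        (Commute.one_right (g : Matrix (Fin n) (Fin n) F))
      rw [one_pow] at h2
      have h3 : ((g : Matrix (Fin n) (Fin n) F) - 1) ^ p = 0 := hnil
      rw [h3] at h2
      exact (sub_eq_zero.mp h2.symm)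
    have hdet : (g : Matrix (Fin n) (Fin n) F).det = 1 := by
      apply eq_one_of_pow_eq_one_of_not_dvd p (char_not_dvd_card_sub_one (F := F) p)
      rw [← Matrix.det_pow, hgp, Matrix.det_one]
    let x : Matrix.SpecialLinearGroup (Fin n) F := ⟨(g : Matrix (Fin n) (Fin n) F), hdet⟩
    have hxg : (x : Matrix (Fin n) (Fin n) F) = (g : Matrix (Fin n) (Fin n) F) := rfl
    have hxp : ((x ^ p : Matrix.SpecialLinearGroup (Fin n) F) : Matrix (Fin n) (Fin n) F) =
        (1 : F) • (1 : Matrix (Fin n) (Fin n) F) := by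
      rw [Matrix.SpecialLinearGroup.coe_pow, hxg, hgp, one_smul]
    have hns : ∀ c : F, (x : Matrix (Fin n) (Fin n) F) ≠ c • (1 : Matrix (Fin n) (Fin n) F) := by
      intro c hc
      rw [hxg] at hc
      have h2 : nilMat g = (c - 1) • (1 : Matrix (Fin n) (Fin n) F) := by
        unfold nilMat
        rw [hc, sub_smul, one_smul]
      have h3 : ((c - 1) ^ p) • (1 : Matrix (Fin n) (Fin n) F) = 0 := by
        rw [← hnil, h2, smul_pow, one_pow]
      have h4 : (c - 1) ^ p = 0 := by
        have := congrFun (congrFun h3 ⟨0, hn⟩) ⟨0, hn⟩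
        simpa using this
      have h5 : c - 1 = 0 := pow_eq_zero_iff hp.ne_zero |>.mp h4
      have h6 : nilMat g ^ 1 = 0 := by rw [pow_one, h2, h5, zero_smul]
      have h7 := (nilMat_pow_eq_zero_iff g cb 1).mp h6 a₀ (by rw [hcb]; exact ha₀)
      have := (hμ a₀ ha₀).1
      omega
    obtain ⟨U, W, hUW, hUd, hU, hW⟩ := hL x ⟨1, hxp⟩ hns
    have hinv : ∀ Z : Submodule F (Fin n → F),
        Z.map (Matrix.toLin' (x : Matrix (Fin n) (Fin n) F)) ≤ Z → Inv (nilOf g) Z := by
      intro Z hZ v hv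
      have h2 : nilOf g v = Matrix.toLin' (g : Matrix (Fin n) (Fin n) F) v - v := by
        rw [toLin'_eq_nilOf_add, add_sub_cancel_right]
      rw [h2]
      exact Z.sub_mem (hZ ⟨v, hv, rfl⟩) hv
    obtain ⟨ν, hν, hνs⟩ := exists_type_le_of_isCompl (nilOf g) cb U W hUW (hinv U hU) (hinv W hW)
    exact ⟨ν, by rw [← hcb]; exact hν, by rw [hνs, hUd]⟩

end unip

section decomp

variable {F : Type*} [Field F] [Fintype F]

/-- the core of the elusivity criterion for decompositions, `r ≠ p`. -/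
theorem decomp_core {p : ℕ} [Fact p.Prime] [CharP F p] (n m : ℕ) (hm : 1 ≤ m) (hmn : m ≤ n)
    (r : ℕ) [Fact r.Prime] (hrp : r ≠ p)
    (hj : ∃ j, j < m ∧ r ∣ Fintype.card F ^ (n - j) - 1) :
    (∀ x : Matrix.SpecialLinearGroup (Fin n) F,
      (∃ c : F, ((x ^ r : Matrix.SpecialLinearGroup (Fin n) F) : Matrix (Fin n) (Fin n) F) =
        c • (1 : Matrix (Fin n) (Fin n) F)) →
      (∀ c : F, (x : Matrix (Fin n) (Fin n) F) ≠ c • (1 : Matrix (Fin n) (Fin n) F)) →
      ∃ U W : Submodule F (Fin n → F), IsCompl U W ∧ Module.finrank F ↥U = m ∧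
        U.map (Matrix.toLin' (x : Matrix (Fin n) (Fin n) F)) ≤ U ∧
        W.map (Matrix.toLin' (x : Matrix (Fin n) (Fin n) F)) ≤ W) ↔
    ((orderOf ((Fintype.card F : ℕ) : ZMod r) = 1 ∧
        (r ∣ m ∨ (padicValNat r n ≤ padicValNat r (Fintype.card F - 1) ∧
          (r = 2 → Even n → Fintype.card F % 4 = 1)))) ∨
      (2 ≤ orderOf ((Fintype.card F : ℕ) : ZMod r) ∧
        orderOf ((Fintype.card F : ℕ) : ZMod r) ≤ m ∧
        m % orderOf ((Fintype.card F : ℕ) : ZMod r) ≤
          n % orderOf ((Fintype.card F : ℕ) : ZMod r))) := by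
  have hr : r.Prime := Fact.out
  have hrF : (r : F) ≠ 0 := natCast_ne_zero_of_ne_char r hrp
  have hnpos : 0 < n := by omega
  rw [← subspaces_core n m hm hmn r hrp hj]
  constructor
  · intro h x hx hns
    obtain ⟨U, W, -, hUd, hU, -⟩ := h x hx hns
    exact ⟨U, hUd, hU⟩
  · intro h x hx hns
    obtain ⟨U, hUd, hU⟩ := h x hx hns
    obtain ⟨c, hxc⟩ := hx
    obtain ⟨hc0, hf, -⟩ := sl_data hnpos r x c hxc
    obtain ⟨W, hW, hUW⟩ := exists_inv_isCompl r hr.pos hrF c hc0 _ hf U
      ((inv_iff_map_le _ _).mpr hU)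
    exact ⟨U, W, hUW, hUd, hU, (inv_iff_map_le _ _).mp hW⟩

end decomp

end Cfsg.Agent.Helper13.Elus
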