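import Mathlib
import Cfsg.Agent.Lib.Helper13.ElusiveUnipotent

/-!
# Elements of order `p` and imprimitive decompositions
-/

set_option autoImplicit false
set_option linter.style.haveILetI false
set_option linter.unusedSectionVars false
set_option linter.unusedVariables false

namespace Cfsg.Agent.Helper13.Elus

open Module Polynomial Cfsg.Agent.Helper13.InvTow Cfsg.Agent.Helper13.Nilp Cfsg.Agent.Helper13.POS

universe u

section imprim

theorem sum_map_sub_eq_count (μ : Multiset ℕ) (p : ℕ) (hp : 1 ≤ p) (h : ∀ b ∈ μ, b ≤ p) :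
    (μ.map (fun b => b - (p - 1))).sum = μ.count p := by
  induction μ using Multiset.induction_on with
  | empty => simp
  | cons b μ ih =>
    rw [Multiset.map_cons, Multiset.sum_cons, Multiset.count_cons,
      ih (fun c hc => h c (Multiset.mem_cons_of_mem hc))]
    have hb := h b (Multiset.mem_cons_self b μ)
    split_ifs with hpb <;> omega

theorem X_sub_one_pow_eq_geom_sum {F : Type*} [Field F] (p : ℕ) [Fact p.Prime] [CharP F p] :
    (X - 1 : F[X]) ^ (p - 1) = ∑ k ∈ Finset.range p, (X : F[X]) ^ k := by
  have hp : p.Prime := Fact.out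
  have h1 : (X - 1 : F[X]) * (X - 1) ^ (p - 1) = X ^ p - 1 := by
    rw [← pow_succ', Nat.sub_add_cancel hp.pos, sub_pow_char, one_pow]
  have h2 : (X - 1 : F[X]) * ∑ k ∈ Finset.range p, (X : F[X]) ^ k = X ^ p - 1 :=
    mul_geom_sum X p
  have h3 : (X - 1 : F[X]) ≠ 0 := X_sub_C_ne_zero (1 : F)
  exact mul_left_cancel₀ h3 (h1.trans h2.symm)

variable {F : Type*} [Field F] {V : Type*} [AddCommGroup V] [Module F V]

theorem map_pow_eq_of_perm {t : ℕ} (u : Module.End F V) (D : Fin t → Submodule F V)
    (σ : Equiv.Perm (Fin t)) (h : ∀ j, (D j).map u = D (σ j)) (k : ℕ) :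
    ∀ j, (D j).map (u ^ k) = D ((σ ^ k) j) := by
  induction k with
  | zero =>
    intro j
    rw [pow_zero, pow_zero, Module.End.one_eq_id, Submodule.map_id]
    rfl
  | succ k ih =>
    intro j
    rw [pow_succ, Module.End.mul_eq_comp, Submodule.map_comp, h, ih, pow_succ,
      Equiv.Perm.mul_apply]

end imprim

section imprim

variable {F : Type*} [Field F] [Fintype F]

/-- for `r = p`: if all elements of order `p` stabilize a decomposition into `t` blocks of
dimension `a`, the partition condition holds. -/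
theorem imprimitive_unipotent_bad {p : ℕ} [Fact p.Prime] [CharP F p] (n a t : ℕ)
    (hat : n = a * t) (ha : 1 ≤ a) (ht : 2 ≤ t)
    (hL : ∀ x : Matrix.SpecialLinearGroup (Fin n) F,
      (∃ z : F, ((x ^ p : Matrix.SpecialLinearGroup (Fin n) F) : Matrix (Fin n) (Fin n) F) =
        z • (1 : Matrix (Fin n) (Fin n) F)) →
      (∀ z : F, (x : Matrix (Fin n) (Fin n) F) ≠ z • (1 : Matrix (Fin n) (Fin n) F)) →
      ∃ D : Fin t → Submodule F (Fin n → F), (∀ i, finrank F (D i) = a) ∧ iSupIndep D ∧
        iSup D = ⊤ ∧ ∃ σ : Equiv.Perm (Fin t),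
          ∀ j, (D j).map (Matrix.toLin' (x : Matrix (Fin n) (Fin n) F)) = D (σ j)) :
    ∀ μ : Multiset ℕ, (∀ b ∈ μ, 0 < b ∧ b ≤ p) → μ.sum = n → μ.count p < a →
      ∃ ν : Multiset ℕ, ν ≤ μ ∧ ν.sum = a := by
  classical
  have hp : p.Prime := Fact.out
  have hn : 0 < n := by rw [hat]; positivity
  have han : a ≤ n := by rw [hat]; exact Nat.le_mul_of_pos_right a (by omega)
  haveI : Nonempty (Fin n) := ⟨⟨0, hn⟩⟩
  haveI : CharP (Matrix (Fin n) (Fin n) F) p := Matrix.charP p
  intro μ hμ hsum hcount
  by_cases h1 : ∀ b ∈ μ, b = 1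
  · have hμeq := Multiset.eq_replicate_of_mem h1
    have hcard : Multiset.card μ = n := by
      rw [← hsum]
      conv_rhs => rw [hμeq]
      rw [Multiset.sum_replicate, smul_eq_mul, mul_one]
    refine ⟨Multiset.replicate a 1, ?_, ?_⟩
    · rw [hμeq, hcard]
      exact Multiset.replicate_mono 1 han
    · rw [Multiset.sum_replicate, smul_eq_mul, mul_one]
  · push Not at h1
    obtain ⟨a₀, ha₀, ha₀1⟩ := h1
    obtain ⟨g, cb, hcb⟩ := exists_of_type (F := F) μ (fun b hb => (hμ b hb).1) hsum
    have hnil : nilMat g ^ p = 0 :=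
      (nilMat_pow_eq_zero_iff g cb p).mpr (by rw [hcb]; intro b hb; exact (hμ b hb).2)
    have hgp : (g : Matrix (Fin n) (Fin n) F) ^ p = 1 := by
      have h2 := sub_pow_char_of_commute p
        (Commute.one_right (g : Matrix (Fin n) (Fin n) F))
      rw [one_pow] at h2
      have h3 : ((g : Matrix (Fin n) (Fin n) F) - 1) ^ p = 0 := hnil
      rw [h3] at h2
      exact (sub_eq_zero.mp h2.symm)
    have hdet : (g : Matrix (Fin n) (Fin n) F).det = 1 := by
      apply eq_one_of_pow_eq_one_of_not_dvd p (char_not_dvd_card_sub_one (F := F) p)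
      rw [← Matrix.det_pow, hgp, Matrix.det_one]
    let x : Matrix.SpecialLinearGroup (Fin n) F := ⟨(g : Matrix (Fin n) (Fin n) F), hdet⟩
    have hxg : (x : Matrix (Fin n) (Fin n) F) = (g : Matrix (Fin n) (Fin n) F) := rfl
    have hxp : ((x ^ p : Matrix.SpecialLinearGroup (Fin n) F) : Matrix (Fin n) (Fin n) F) =
        (1 : F) • (1 : Matrix (Fin n) (Fin n) F) := by
      rw [Matrix.SpecialLinearGroup.coe_pow, hxg, hgp, one_smul]
    have hns : ∀ c : F, (x : Matrix (Fin n) (Fin n) F) ≠ c • (1 : Matrix (Fin n) (Fin n) F) := by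
      intro c hc
      rw [hxg] at hc
      have h2 : nilMat g = (c - 1) • (1 : Matrix (Fin n) (Fin n) F) := by
        unfold nilMat
        rw [hc, sub_smul, one_smul]
      have h3 : ((c - 1) ^ p) • (1 : Matrix (Fin n) (Fin n) F) = 0 := by
        rw [← hnil, h2, _root_.smul_pow, one_pow]
      have h4 : (c - 1) ^ p = 0 := by
        have := congrFun (congrFun h3 ⟨0, hn⟩) ⟨0, hn⟩
        simpa using this
      have h5 : c - 1 = 0 := pow_eq_zero_iff hp.ne_zero |>.mp h4
      have h6 : nilMat g ^ 1 = 0 := by rw [pow_one, h2, h5, zero_smul]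
      have h7 := (nilMat_pow_eq_zero_iff g cb 1).mp h6 a₀ (by rw [hcb]; exact ha₀)
      have := (hμ a₀ ha₀).1
      omega
    obtain ⟨D, hD1, hD2, hD3, σ, hσ⟩ := hL x ⟨1, hxp⟩ hns
    rw [hxg] at hσ
    set u : Module.End F (Fin n → F) := Matrix.toLin' (g : Matrix (Fin n) (Fin n) F) with hu
    have huN : ∀ v, nilOf g v = u v - v := by
      intro v
      rw [hu, toLin'_eq_nilOf_add, add_sub_cancel_right]
    have hup : u ^ p = 1 := by
      rw [hu, ← Matrix.toLin'_pow, hgp, Matrix.toLin'_one]; rfl
    have hinv : ∀ Z : Submodule F (Fin n → F), Z.map u ≤ Z → Inv (nilOf g) Z := by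
      intro Z hZ v hv
      rw [huN]
      exact Z.sub_mem (hZ ⟨v, hv, rfl⟩) hv
    by_cases hfix : ∃ j, σ j = j
    · obtain ⟨j, hj⟩ := hfix
      set W : Submodule F (Fin n → F) := ⨆ i, ⨆ (_ : i ≠ j), D i with hW
      have hUW : IsCompl (D j) W := by
        refine ⟨hD2 j, ?_⟩
        rw [codisjoint_iff, eq_top_iff, ← hD3]
        apply iSup_le
        intro i
        by_cases hij : i = j
        · rw [hij]; exact le_sup_left
        · exact le_trans (le_iSup₂ (f := fun i (_ : i ≠ j) => D i) i hij) le_sup_right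
      have hU : (D j).map u ≤ D j := by rw [hσ, hj]
      have hWinv : W.map u ≤ W := by
        rw [hW, Submodule.map_iSup]
        apply iSup_le
        intro i
        rw [Submodule.map_iSup]
        apply iSup_le
        intro hij
        rw [hσ]
        have : σ i ≠ j := fun h => hij (σ.injective (h.trans hj.symm))
        exact le_iSup₂ (f := fun i (_ : i ≠ j) => D i) (σ i) this
      obtain ⟨ν, hν, hνs⟩ := exists_type_le_of_isCompl (nilOf g) cb (D j) W hUW (hinv _ hU)
        (hinv _ hWinv)
      exact ⟨ν, by rw [← hcb]; exact hν, by rw [hνs, hD1]⟩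
    · exfalso
      push Not at hfix
      have hDinj : Function.Injective D := hD2.injective (fun i h => by
        have := hD1 i
        rw [h, finrank_bot] at this
        omega)
      have hpow := map_pow_eq_of_perm u D σ hσ
      have hσp : ∀ j, (σ ^ p) j = j := by
        intro j
        apply hDinj
        rw [← hpow p j, hup, Module.End.one_eq_id, Submodule.map_id]
      let j₀ : Fin t := ⟨0, by omega⟩
      have hne : ∀ k, 0 < k → k < p → (σ ^ k) j₀ ≠ j₀ := by
        intro k hk0 hkp hk
        have h1 : Function.IsPeriodicPt σ k j₀ := by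
          unfold Function.IsPeriodicPt Function.IsFixedPt
          rw [Equiv.Perm.iterate_eq_pow]; exact hk
        have h2 : Function.IsPeriodicPt σ p j₀ := by
          unfold Function.IsPeriodicPt Function.IsFixedPt
          rw [Equiv.Perm.iterate_eq_pow]; exact hσp j₀
        have h3 := h1.gcd h2
        have hcop : Nat.gcd k p = 1 := by
          rw [Nat.gcd_comm]
          exact (hp.coprime_iff_not_dvd).mpr
            (fun hd => by have := Nat.le_of_dvd hk0 hd; omega)
        rw [hcop] at h3
        exact hfix j₀ h3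
      -- N^(p-1) = Σ u^k
      have hNpow : (nilOf g) ^ (p - 1) = ∑ k ∈ Finset.range p, u ^ k := by
        have h1 := congrArg (aeval u) (X_sub_one_pow_eq_geom_sum (F := F) p)
        rw [map_pow, map_sub, aeval_X, map_one, map_sum] at h1
        simp only [map_pow, aeval_X] at h1
        rw [← h1]
        congr 1
        apply LinearMap.ext
        intro v
        rw [huN]; rfl
      -- injectivity on D j₀
      have hinj : Disjoint (D j₀) (LinearMap.ker ((nilOf g) ^ (p - 1))) := by
        rw [Submodule.disjoint_def]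
        intro v hv hker
        rw [LinearMap.mem_ker, hNpow, LinearMap.sum_apply] at hker
        have hsplit : ∑ k ∈ Finset.range p, (u ^ k) v =
            v + ∑ k ∈ Finset.Ico 1 p, (u ^ k) v := by
          rw [Finset.range_eq_Ico, Finset.sum_eq_sum_Ico_succ_bot hp.pos]
          simp
        rw [hsplit] at hker
        have hmem : ∑ k ∈ Finset.Ico 1 p, (u ^ k) v ∈ ⨆ i, ⨆ (_ : i ≠ j₀), D i := by
          apply Submodule.sum_mem
          intro k hk
          rw [Finset.mem_Ico] at hk
          have h3 : (u ^ k) v ∈ D ((σ ^ k) j₀) := by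
            rw [← hpow k j₀]; exact ⟨v, hv, rfl⟩
          exact (le_iSup₂ (f := fun i (_ : i ≠ j₀) => D i) ((σ ^ k) j₀)
            (hne k (by omega) hk.2)) h3
        have hv' : v = -∑ k ∈ Finset.Ico 1 p, (u ^ k) v := eq_neg_of_add_eq_zero_left hker
        have hv2 : v ∈ ⨆ i, ⨆ (_ : i ≠ j₀), D i := by
          rw [hv']; exact Submodule.neg_mem _ hmem
        exact (Submodule.disjoint_def.mp (hD2 j₀)) v hv hv2
      have hrank : a ≤ finrank F ↥(LinearMap.range ((nilOf g) ^ (p - 1))) := by
        rw [← hD1 j₀]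
        have h1 : finrank F ↥((D j₀).map ((nilOf g) ^ (p - 1))) = finrank F ↥(D j₀) := by
          have hinj' : Function.Injective (((nilOf g) ^ (p - 1)).domRestrict (D j₀)) := by
            rw [← LinearMap.ker_eq_bot, LinearMap.ker_domRestrict, Submodule.eq_bot_iff]
            intro w hw
            have := (Submodule.disjoint_def.mp hinj) (w : Fin n → F) w.2 hw
            exact Subtype.ext this
          have h2 := LinearMap.finrank_range_of_inj hinj'
          rw [LinearMap.range_domRestrict] at h2
          exact h2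
        rw [← h1]
        apply Submodule.finrank_mono
        exact LinearMap.map_le_range
      rw [cb.finrank_range_pow, hcb, sum_map_sub_eq_count μ p hp.pos (fun b hb => (hμ b hb).2)]
        at hrank
      omega

end imprim

end Cfsg.Agent.Helper13.Elus
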