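import Mathlib
import Cfsg.Agent.Lib.Helper13.F4TTab

/-!
# S2372, pieces COREW (part 0): the vocabulary of the table checks and the algebra of `chiZ`
-/

set_option autoImplicit false

namespace Cfsg.Agent.Helper13.F4T

namespace CW

/-- componentwise sum -/
def ad (a b : ℤ × ℤ × ℤ × ℤ) : ℤ × ℤ × ℤ × ℤ := (a.1 + b.1, a.2.1 + b.2.1, a.2.2.1 + b.2.2.1, a.2.2.2 + b.2.2.2)

/-- scalar multiple -/
def sm (n : ℤ) (a : ℤ × ℤ × ℤ × ℤ) : ℤ × ℤ × ℤ × ℤ := (n * a.1, n * a.2.1, n * a.2.2.1, n * a.2.2.2)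

/-- the linear combination with coefficients `a` -/
def lin4 (a b0 b1 b2 b3 : ℤ × ℤ × ℤ × ℤ) : ℤ × ℤ × ℤ × ℤ :=
  ad (ad (ad (sm a.1 b0) (sm a.2.1 b1)) (sm a.2.2.1 b2)) (sm a.2.2.2 b3)

/-- the linear form with coefficients `e` -/
def dot (a : ℤ × ℤ × ℤ × ℤ) (e0 e1 e2 e3 : ℤ) : ℤ := a.1 * e0 + a.2.1 * e1 + a.2.2.1 * e2 + a.2.2.2 * e3

/-- four-fold application -/
def it4 (L : List ℕ) (v : ℕ) : ℕ := L.getD (L.getD (L.getD (L.getD v 0) 0) 0) 0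

/-- twelve-fold application -/
def it12 (L : List ℕ) (v : ℕ) : ℕ := it4 L (it4 L (it4 L v))

/-- `L` is linear in the coordinates -/
def LinL (L : List ℕ) : Prop :=
  ∀ v < 48, rcv (L.getD v 0) =
    lin4 (rcv v) (rcv (L.getD 33 0)) (rcv (L.getD 27 0)) (rcv (L.getD 25 0)) (rcv (L.getD 24 0))

instance (L : List ℕ) : Decidable (LinL L) := by unfold LinL; infer_instance

/-- the properties of a row `(L, c, c')` of `conjTab` -/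
def RowOK (t : List ℕ × List ℕ × List ℕ) : Prop :=
  (∀ v < 48, t.1.getD (t.2.1.getD v 0) 0 = t.2.1.getD (L0.getD v 0) 0) ∧
  (∀ v < 48, t.2.1.getD (t.2.2.getD v 0) 0 = v) ∧ (∀ v < 48, t.2.2.getD (t.2.1.getD v 0) 0 = v) ∧
  (∀ v < 48, t.2.1.getD v 0 < 48) ∧ (∀ v < 48, t.2.2.getD v 0 < 48) ∧ LinL t.2.1 ∧ LinL t.2.2

instance (t : List ℕ × List ℕ × List ℕ) : Decidable (RowOK t) := by unfold RowOK; infer_instance

/-- the certificate `(v, u, e)` of a row of `wTab` is valid -/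
def CertOK (p : List ℕ × List ℕ × (ℕ × ℕ × ℕ)) : Prop :=
  (p.2.2.2.2 = 0 ∧ p.1 = idL) ∨
  (p.2.2.1 < 48 ∧ p.2.2.2.1 < 48 ∧
    ((p.2.2.2.2 = 1 ∧ rcv p.2.2.1 = ad (rcv (p.1.getD p.2.2.1 0)) (rcv p.2.2.2.1)) ∨
     (p.2.2.2.2 = 2 ∧ rcv p.2.2.1 = ad (rcv (p.1.getD p.2.2.1 0)) (sm 2 (rcv p.2.2.2.1))) ∨
     (p.2.2.2.2 = 3 ∧ p.1.getD p.2.2.1 0 < 48 ∧
        ad (ad (rcv p.2.2.1) (rcv (p.1.getD p.2.2.1 0))) (rcv (p.1.getD (p.1.getD p.2.2.1 0) 0)) = (0, 0, 0, 0))))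

instance (p : List ℕ × List ℕ × (ℕ × ℕ × ℕ)) : Decidable (CertOK p) := by unfold CertOK; infer_instance

/-- the certificate of `regTab` for the root `v` is valid -/
def RegOK (v : ℕ) : Prop :=
  (regTab.getD v (0, 0, 0, 0, 0)).1 ≤ 1 ∧
  sm (2 ^ (regTab.getD v (0, 0, 0, 0, 0)).1) (rcv 27) =
    ad (ad (ad (sm (regTab.getD v (0, 0, 0, 0, 0)).2.1 (rcv v))
      (sm (regTab.getD v (0, 0, 0, 0, 0)).2.2.1 (rcv (L0.getD v 0))))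
      (sm (regTab.getD v (0, 0, 0, 0, 0)).2.2.2.1 (rcv (L0.getD (L0.getD v 0) 0))))
      (sm (regTab.getD v (0, 0, 0, 0, 0)).2.2.2.2 (rcv (L0.getD (L0.getD (L0.getD v 0) 0) 0)))

instance (v : ℕ) : Decidable (RegOK v) := by unfold RegOK; infer_instance

/-- a property of the rows of `wTab` may be checked chunk by chunk -/
theorem forall_wTab (P : List ℕ × List ℕ × (ℕ × ℕ × ℕ) → Prop)
    (h0 : ∀ p ∈ wTab0, P p)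
    (h1 : ∀ p ∈ wTab1, P p)
    (h2 : ∀ p ∈ wTab2, P p)
    (h3 : ∀ p ∈ wTab3, P p)
    (h4 : ∀ p ∈ wTab4, P p)
    (h5 : ∀ p ∈ wTab5, P p)
    (h6 : ∀ p ∈ wTab6, P p)
    (h7 : ∀ p ∈ wTab7, P p)
    (h8 : ∀ p ∈ wTab8, P p)
    (h9 : ∀ p ∈ wTab9, P p)
    (h10 : ∀ p ∈ wTab10, P p)
    (h11 : ∀ p ∈ wTab11, P p)
    (h12 : ∀ p ∈ wTab12, P p)
    (h13 : ∀ p ∈ wTab13, P p)
    (h14 : ∀ p ∈ wTab14, P p)
    (h15 : ∀ p ∈ wTab15, P p)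
    (h16 : ∀ p ∈ wTab16, P p)
    (h17 : ∀ p ∈ wTab17, P p)
    : ∀ p ∈ wTab, P p := by
  intro p hp
  obtain ⟨c, hc, hpc⟩ := List.mem_flatten.1 hp
  simp only [wChunks, List.mem_cons, List.not_mem_nil, or_false] at hc
  rcases hc with rfl | rfl | rfl | rfl | rfl | rfl | rfl | rfl | rfl | rfl | rfl | rfl | rfl | rfl | rfl | rfl | rfl | rfl
  · exact h0 p hpc
  · exact h1 p hpc
  · exact h2 p hpc
  · exact h3 p hpc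
  · exact h4 p hpc
  · exact h5 p hpc
  · exact h6 p hpc
  · exact h7 p hpc
  · exact h8 p hpc
  · exact h9 p hpc
  · exact h10 p hpc
  · exact h11 p hpc
  · exact h12 p hpc
  · exact h13 p hpc
  · exact h14 p hpc
  · exact h15 p hpc
  · exact h16 p hpc
  · exact h17 p hpc

/-- a property of the rows of `conjTab` may be checked chunk by chunk -/
theorem forall_conjTab (P : List ℕ × List ℕ × List ℕ → Prop)
    (h0 : ∀ t ∈ conjTab0, P t)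
    (h1 : ∀ t ∈ conjTab1, P t)
    (h2 : ∀ t ∈ conjTab2, P t)
    (h3 : ∀ t ∈ conjTab3, P t)
    (h4 : ∀ t ∈ conjTab4, P t)
    (h5 : ∀ t ∈ conjTab5, P t)
    : ∀ t ∈ conjTab, P t := by
  intro p hp
  obtain ⟨c, hc, hpc⟩ := List.mem_flatten.1 hp
  simp only [List.mem_cons, List.not_mem_nil, or_false] at hc
  rcases hc with rfl | rfl | rfl | rfl | rfl | rfl
  · exact h0 p hpc
  · exact h1 p hpc
  · exact h2 p hpc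
  · exact h3 p hpc
  · exact h4 p hpc
  · exact h5 p hpc

section alg

variable {K : Type*} [Field K] (x0 x1 x2 x3 : Kˣ)

theorem chiZ_zero : chiZ x0 x1 x2 x3 (0, 0, 0, 0) = 1 := by
  simp [chiZ]

theorem chiZ_ad (a b : ℤ × ℤ × ℤ × ℤ) :
    chiZ x0 x1 x2 x3 (ad a b) = chiZ x0 x1 x2 x3 a * chiZ x0 x1 x2 x3 b := by
  simp only [chiZ, ad, zpow_add]
  rw [mul_mul_mul_comm (x0 ^ a.1 * x1 ^ a.2.1 * x2 ^ a.2.2.1), mul_mul_mul_comm (x0 ^ a.1 * x1 ^ a.2.1),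
    mul_mul_mul_comm (x0 ^ a.1)]

theorem chiZ_sm (n : ℤ) (a : ℤ × ℤ × ℤ × ℤ) :
    chiZ x0 x1 x2 x3 (sm n a) = chiZ x0 x1 x2 x3 a ^ n := by
  simp only [chiZ, sm, mul_zpow, ← zpow_mul]
  simp only [mul_comm n]

theorem chiZ_lin4 (a b0 b1 b2 b3 : ℤ × ℤ × ℤ × ℤ) :
    chiZ x0 x1 x2 x3 (lin4 a b0 b1 b2 b3) =
      chiZ (chiZ x0 x1 x2 x3 b0) (chiZ x0 x1 x2 x3 b1) (chiZ x0 x1 x2 x3 b2) (chiZ x0 x1 x2 x3 b3) a := by
  rw [lin4, chiZ_ad, chiZ_ad, chiZ_ad, chiZ_sm, chiZ_sm, chiZ_sm, chiZ_sm]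
  rfl

theorem chiZ_zpow (ζ : Kˣ) (e0 e1 e2 e3 : ℤ) (a : ℤ × ℤ × ℤ × ℤ) :
    chiZ (ζ ^ e0) (ζ ^ e1) (ζ ^ e2) (ζ ^ e3) a = ζ ^ dot a e0 e1 e2 e3 := by
  simp only [chiZ, dot, ← zpow_mul, zpow_add]
  simp only [mul_comm]

theorem chiZ_pow (n : ℕ) (a : ℤ × ℤ × ℤ × ℤ) :
    chiZ x0 x1 x2 x3 a ^ n = chiZ (x0 ^ n) (x1 ^ n) (x2 ^ n) (x3 ^ n) a := by
  simp only [chiZ, mul_pow]
  rw [← zpow_natCast (x0 ^ a.1), ← zpow_natCast (x1 ^ a.2.1), ← zpow_natCast (x2 ^ a.2.2.1),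
    ← zpow_natCast (x3 ^ a.2.2.2), ← zpow_natCast x0, ← zpow_natCast x1, ← zpow_natCast x2, ← zpow_natCast x3,
    ← zpow_mul, ← zpow_mul, ← zpow_mul, ← zpow_mul, ← zpow_mul, ← zpow_mul, ← zpow_mul, ← zpow_mul,
    mul_comm a.1, mul_comm a.2.1, mul_comm a.2.2.1, mul_comm a.2.2.2]

theorem chiZ_one (a : ℤ × ℤ × ℤ × ℤ) : chiZ (1 : Kˣ) 1 1 1 a = 1 := by
  simp [chiZ]

theorem dot_lin4 (a b0 b1 b2 b3 : ℤ × ℤ × ℤ × ℤ) (e0 e1 e2 e3 : ℤ) :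
    dot (lin4 a b0 b1 b2 b3) e0 e1 e2 e3 =
      a.1 * dot b0 e0 e1 e2 e3 + a.2.1 * dot b1 e0 e1 e2 e3 + a.2.2.1 * dot b2 e0 e1 e2 e3 +
        a.2.2.2 * dot b3 e0 e1 e2 e3 := by
  simp only [dot, lin4, ad, sm]
  ring

end alg

end CW

end Cfsg.Agent.Helper13.F4T
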