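import Mathlib
import Cfsg.Agent.Lib.Helper13.F4TCW0

/-!
# S2372, pieces COREW (part 1): table checks on `wTab` (`decide +kernel`, chunk by chunk to keep the memory low)
-/

set_option autoImplicit false

namespace Cfsg.Agent.Helper13.F4T

namespace CW

set_option maxRecDepth 100000 in
theorem tab_lt_0 : ∀ p ∈ wTab0, ∀ v < 48, p.1.getD v 0 < 48 := by decide +kernel

set_option maxRecDepth 100000 in
theorem tab_lt_1 : ∀ p ∈ wTab1, ∀ v < 48, p.1.getD v 0 < 48 := by decide +kernel

set_option maxRecDepth 100000 in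
theorem tab_lt_2 : ∀ p ∈ wTab2, ∀ v < 48, p.1.getD v 0 < 48 := by decide +kernel

set_option maxRecDepth 100000 in
theorem tab_lt_3 : ∀ p ∈ wTab3, ∀ v < 48, p.1.getD v 0 < 48 := by decide +kernel

set_option maxRecDepth 100000 in
theorem tab_lt_4 : ∀ p ∈ wTab4, ∀ v < 48, p.1.getD v 0 < 48 := by decide +kernel

set_option maxRecDepth 100000 in
theorem tab_lt_5 : ∀ p ∈ wTab5, ∀ v < 48, p.1.getD v 0 < 48 := by decide +kernel

set_option maxRecDepth 100000 in
theorem tab_lt_6 : ∀ p ∈ wTab6, ∀ v < 48, p.1.getD v 0 < 48 := by decide +kernel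

set_option maxRecDepth 100000 in
theorem tab_lt_7 : ∀ p ∈ wTab7, ∀ v < 48, p.1.getD v 0 < 48 := by decide +kernel

set_option maxRecDepth 100000 in
theorem tab_lt_8 : ∀ p ∈ wTab8, ∀ v < 48, p.1.getD v 0 < 48 := by decide +kernel

set_option maxRecDepth 100000 in
theorem tab_lt_9 : ∀ p ∈ wTab9, ∀ v < 48, p.1.getD v 0 < 48 := by decide +kernel

set_option maxRecDepth 100000 in
theorem tab_lt_10 : ∀ p ∈ wTab10, ∀ v < 48, p.1.getD v 0 < 48 := by decide +kernel

set_option maxRecDepth 100000 in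
theorem tab_lt_11 : ∀ p ∈ wTab11, ∀ v < 48, p.1.getD v 0 < 48 := by decide +kernel

set_option maxRecDepth 100000 in
theorem tab_lt_12 : ∀ p ∈ wTab12, ∀ v < 48, p.1.getD v 0 < 48 := by decide +kernel

set_option maxRecDepth 100000 in
theorem tab_lt_13 : ∀ p ∈ wTab13, ∀ v < 48, p.1.getD v 0 < 48 := by decide +kernel

set_option maxRecDepth 100000 in
theorem tab_lt_14 : ∀ p ∈ wTab14, ∀ v < 48, p.1.getD v 0 < 48 := by decide +kernel

set_option maxRecDepth 100000 in
theorem tab_lt_15 : ∀ p ∈ wTab15, ∀ v < 48, p.1.getD v 0 < 48 := by decide +kernel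

set_option maxRecDepth 100000 in
theorem tab_lt_16 : ∀ p ∈ wTab16, ∀ v < 48, p.1.getD v 0 < 48 := by decide +kernel

set_option maxRecDepth 100000 in
theorem tab_lt_17 : ∀ p ∈ wTab17, ∀ v < 48, p.1.getD v 0 < 48 := by decide +kernel

theorem tab_lt : ∀ p ∈ wTab, ∀ v < 48, p.1.getD v 0 < 48 :=
  forall_wTab _ tab_lt_0 tab_lt_1 tab_lt_2 tab_lt_3 tab_lt_4 tab_lt_5 tab_lt_6 tab_lt_7 tab_lt_8 tab_lt_9 tab_lt_10 tab_lt_11 tab_lt_12 tab_lt_13 tab_lt_14 tab_lt_15 tab_lt_16 tab_lt_17

set_option maxRecDepth 100000 in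
theorem tab_cert_0 : ∀ p ∈ wTab0, CertOK p := by decide +kernel

set_option maxRecDepth 100000 in
theorem tab_cert_1 : ∀ p ∈ wTab1, CertOK p := by decide +kernel

set_option maxRecDepth 100000 in
theorem tab_cert_2 : ∀ p ∈ wTab2, CertOK p := by decide +kernel

set_option maxRecDepth 100000 in
theorem tab_cert_3 : ∀ p ∈ wTab3, CertOK p := by decide +kernel

set_option maxRecDepth 100000 in
theorem tab_cert_4 : ∀ p ∈ wTab4, CertOK p := by decide +kernel

set_option maxRecDepth 100000 in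
theorem tab_cert_5 : ∀ p ∈ wTab5, CertOK p := by decide +kernel

set_option maxRecDepth 100000 in
theorem tab_cert_6 : ∀ p ∈ wTab6, CertOK p := by decide +kernel

set_option maxRecDepth 100000 in
theorem tab_cert_7 : ∀ p ∈ wTab7, CertOK p := by decide +kernel

set_option maxRecDepth 100000 in
theorem tab_cert_8 : ∀ p ∈ wTab8, CertOK p := by decide +kernel

set_option maxRecDepth 100000 in
theorem tab_cert_9 : ∀ p ∈ wTab9, CertOK p := by decide +kernel

set_option maxRecDepth 100000 in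
theorem tab_cert_10 : ∀ p ∈ wTab10, CertOK p := by decide +kernel

set_option maxRecDepth 100000 in
theorem tab_cert_11 : ∀ p ∈ wTab11, CertOK p := by decide +kernel

set_option maxRecDepth 100000 in
theorem tab_cert_12 : ∀ p ∈ wTab12, CertOK p := by decide +kernel

set_option maxRecDepth 100000 in
theorem tab_cert_13 : ∀ p ∈ wTab13, CertOK p := by decide +kernel

set_option maxRecDepth 100000 in
theorem tab_cert_14 : ∀ p ∈ wTab14, CertOK p := by decide +kernel

set_option maxRecDepth 100000 in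
theorem tab_cert_15 : ∀ p ∈ wTab15, CertOK p := by decide +kernel

set_option maxRecDepth 100000 in
theorem tab_cert_16 : ∀ p ∈ wTab16, CertOK p := by decide +kernel

set_option maxRecDepth 100000 in
theorem tab_cert_17 : ∀ p ∈ wTab17, CertOK p := by decide +kernel

theorem tab_cert : ∀ p ∈ wTab, CertOK p :=
  forall_wTab _ tab_cert_0 tab_cert_1 tab_cert_2 tab_cert_3 tab_cert_4 tab_cert_5 tab_cert_6 tab_cert_7 tab_cert_8 tab_cert_9 tab_cert_10 tab_cert_11 tab_cert_12 tab_cert_13 tab_cert_14 tab_cert_15 tab_cert_16 tab_cert_17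

end CW

end Cfsg.Agent.Helper13.F4T
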