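import Mathlib
import Cfsg.Agent.Lib.Helper13.F4TCW1

/-!
# S2372, pieces COREW (part 2): every element of `W(F₄)` has `L ^ 12 = 1` or belongs to `conjTab` (`decide +kernel`, chunk by chunk to keep the memory low)
-/

set_option autoImplicit false

namespace Cfsg.Agent.Helper13.F4T

namespace CW

set_option maxRecDepth 100000 in
theorem tab_dich_0 : ∀ p ∈ wTab0, (∀ v < 48, it12 p.1 v = v) ∨ p.1 ∈ conjTab.map (·.1) := by
  decide +kernel

set_option maxRecDepth 100000 in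
theorem tab_dich_1 : ∀ p ∈ wTab1, (∀ v < 48, it12 p.1 v = v) ∨ p.1 ∈ conjTab.map (·.1) := by
  decide +kernel

set_option maxRecDepth 100000 in
theorem tab_dich_2 : ∀ p ∈ wTab2, (∀ v < 48, it12 p.1 v = v) ∨ p.1 ∈ conjTab.map (·.1) := by
  decide +kernel

set_option maxRecDepth 100000 in
theorem tab_dich_3 : ∀ p ∈ wTab3, (∀ v < 48, it12 p.1 v = v) ∨ p.1 ∈ conjTab.map (·.1) := by
  decide +kernel

set_option maxRecDepth 100000 in
theorem tab_dich_4 : ∀ p ∈ wTab4, (∀ v < 48, it12 p.1 v = v) ∨ p.1 ∈ conjTab.map (·.1) := by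
  decide +kernel

set_option maxRecDepth 100000 in
theorem tab_dich_5 : ∀ p ∈ wTab5, (∀ v < 48, it12 p.1 v = v) ∨ p.1 ∈ conjTab.map (·.1) := by
  decide +kernel

set_option maxRecDepth 100000 in
theorem tab_dich_6 : ∀ p ∈ wTab6, (∀ v < 48, it12 p.1 v = v) ∨ p.1 ∈ conjTab.map (·.1) := by
  decide +kernel

set_option maxRecDepth 100000 in
theorem tab_dich_7 : ∀ p ∈ wTab7, (∀ v < 48, it12 p.1 v = v) ∨ p.1 ∈ conjTab.map (·.1) := by
  decide +kernel

set_option maxRecDepth 100000 in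
theorem tab_dich_8 : ∀ p ∈ wTab8, (∀ v < 48, it12 p.1 v = v) ∨ p.1 ∈ conjTab.map (·.1) := by
  decide +kernel

set_option maxRecDepth 100000 in
theorem tab_dich_9 : ∀ p ∈ wTab9, (∀ v < 48, it12 p.1 v = v) ∨ p.1 ∈ conjTab.map (·.1) := by
  decide +kernel

set_option maxRecDepth 100000 in
theorem tab_dich_10 : ∀ p ∈ wTab10, (∀ v < 48, it12 p.1 v = v) ∨ p.1 ∈ conjTab.map (·.1) := by
  decide +kernel

set_option maxRecDepth 100000 in
theorem tab_dich_11 : ∀ p ∈ wTab11, (∀ v < 48, it12 p.1 v = v) ∨ p.1 ∈ conjTab.map (·.1) := by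
  decide +kernel

set_option maxRecDepth 100000 in
theorem tab_dich_12 : ∀ p ∈ wTab12, (∀ v < 48, it12 p.1 v = v) ∨ p.1 ∈ conjTab.map (·.1) := by
  decide +kernel

set_option maxRecDepth 100000 in
theorem tab_dich_13 : ∀ p ∈ wTab13, (∀ v < 48, it12 p.1 v = v) ∨ p.1 ∈ conjTab.map (·.1) := by
  decide +kernel

set_option maxRecDepth 100000 in
theorem tab_dich_14 : ∀ p ∈ wTab14, (∀ v < 48, it12 p.1 v = v) ∨ p.1 ∈ conjTab.map (·.1) := by
  decide +kernel

set_option maxRecDepth 100000 in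
theorem tab_dich_15 : ∀ p ∈ wTab15, (∀ v < 48, it12 p.1 v = v) ∨ p.1 ∈ conjTab.map (·.1) := by
  decide +kernel

set_option maxRecDepth 100000 in
theorem tab_dich_16 : ∀ p ∈ wTab16, (∀ v < 48, it12 p.1 v = v) ∨ p.1 ∈ conjTab.map (·.1) := by
  decide +kernel

set_option maxRecDepth 100000 in
theorem tab_dich_17 : ∀ p ∈ wTab17, (∀ v < 48, it12 p.1 v = v) ∨ p.1 ∈ conjTab.map (·.1) := by
  decide +kernel

theorem tab_dich : ∀ p ∈ wTab, (∀ v < 48, it12 p.1 v = v) ∨ p.1 ∈ conjTab.map (·.1) :=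
  forall_wTab _ tab_dich_0 tab_dich_1 tab_dich_2 tab_dich_3 tab_dich_4 tab_dich_5 tab_dich_6 tab_dich_7 tab_dich_8 tab_dich_9 tab_dich_10 tab_dich_11 tab_dich_12 tab_dich_13 tab_dich_14 tab_dich_15 tab_dich_16 tab_dich_17

end CW

end Cfsg.Agent.Helper13.F4T
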