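import Mathlib
import Cfsg.Agent.Lib.Helper13.F4TCW2

/-!
# S2372, pieces COREW (part 3): table checks on `conjTab`, `regTab`, `L0` (`decide +kernel`, chunk by chunk to keep the memory low)
-/

set_option autoImplicit false

namespace Cfsg.Agent.Helper13.F4T

namespace CW

set_option maxRecDepth 100000 in
theorem tab_row_0 : ∀ t ∈ conjTab0, RowOK t := by decide +kernel

set_option maxRecDepth 100000 in
theorem tab_row_1 : ∀ t ∈ conjTab1, RowOK t := by decide +kernel

set_option maxRecDepth 100000 in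
theorem tab_row_2 : ∀ t ∈ conjTab2, RowOK t := by decide +kernel

set_option maxRecDepth 100000 in
theorem tab_row_3 : ∀ t ∈ conjTab3, RowOK t := by decide +kernel

set_option maxRecDepth 100000 in
theorem tab_row_4 : ∀ t ∈ conjTab4, RowOK t := by decide +kernel

set_option maxRecDepth 100000 in
theorem tab_row_5 : ∀ t ∈ conjTab5, RowOK t := by decide +kernel

theorem tab_row : ∀ t ∈ conjTab, RowOK t :=
  forall_conjTab _ tab_row_0 tab_row_1 tab_row_2 tab_row_3 tab_row_4 tab_row_5

set_option maxRecDepth 100000 in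
theorem tab_good_mem_0 : ∀ t ∈ conjTab0, t.1 ∈ wActsF4 := by decide +kernel

set_option maxRecDepth 100000 in
theorem tab_good_mem_1 : ∀ t ∈ conjTab1, t.1 ∈ wActsF4 := by decide +kernel

set_option maxRecDepth 100000 in
theorem tab_good_mem_2 : ∀ t ∈ conjTab2, t.1 ∈ wActsF4 := by decide +kernel

set_option maxRecDepth 100000 in
theorem tab_good_mem_3 : ∀ t ∈ conjTab3, t.1 ∈ wActsF4 := by decide +kernel

set_option maxRecDepth 100000 in
theorem tab_good_mem_4 : ∀ t ∈ conjTab4, t.1 ∈ wActsF4 := by decide +kernel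

set_option maxRecDepth 100000 in
theorem tab_good_mem_5 : ∀ t ∈ conjTab5, t.1 ∈ wActsF4 := by decide +kernel

theorem tab_good_mem : ∀ t ∈ conjTab, t.1 ∈ wActsF4 :=
  forall_conjTab _ tab_good_mem_0 tab_good_mem_1 tab_good_mem_2 tab_good_mem_3 tab_good_mem_4 tab_good_mem_5

set_option maxRecDepth 100000 in
theorem tab_good_surj_0 : ∀ t ∈ conjTab0, ∀ u < 48, ∃ v < 48, t.1.getD v 0 = u := by decide +kernel

set_option maxRecDepth 100000 in
theorem tab_good_surj_1 : ∀ t ∈ conjTab1, ∀ u < 48, ∃ v < 48, t.1.getD v 0 = u := by decide +kernel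

set_option maxRecDepth 100000 in
theorem tab_good_surj_2 : ∀ t ∈ conjTab2, ∀ u < 48, ∃ v < 48, t.1.getD v 0 = u := by decide +kernel

set_option maxRecDepth 100000 in
theorem tab_good_surj_3 : ∀ t ∈ conjTab3, ∀ u < 48, ∃ v < 48, t.1.getD v 0 = u := by decide +kernel

set_option maxRecDepth 100000 in
theorem tab_good_surj_4 : ∀ t ∈ conjTab4, ∀ u < 48, ∃ v < 48, t.1.getD v 0 = u := by decide +kernel

set_option maxRecDepth 100000 in
theorem tab_good_surj_5 : ∀ t ∈ conjTab5, ∀ u < 48, ∃ v < 48, t.1.getD v 0 = u := by decide +kernel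

theorem tab_good_surj : ∀ t ∈ conjTab, ∀ u < 48, ∃ v < 48, t.1.getD v 0 = u :=
  forall_conjTab _ tab_good_surj_0 tab_good_surj_1 tab_good_surj_2 tab_good_surj_3 tab_good_surj_4 tab_good_surj_5

theorem tab_reg : ∀ v < 48, RegOK v := by decide +kernel

theorem tab_L0_lin : LinL L0 := by decide +kernel

theorem tab_L0_lt : ∀ v < 48, L0.getD v 0 < 48 := by decide +kernel

theorem tab_neg : ∀ v < 48, rcv (47 - v) = sm (-1) (rcv v) := by decide +kernel

end CW

end Cfsg.Agent.Helper13.F4T
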