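import Mathlib
import Cfsg.Agent.Lib.Helper13.F4TCW3
import Cfsg.Agent.Lib.Helper25.F4TARITH

/-!
# S2372, pieces COREW1, COREW2, COREW3: the combinatorics of `W(F₄)` behind the torus of order `q⁴ + 1`

* `corew1`: `χ ∘ L = χ ^ q` with `χ ≠ 1` of prime order `r ∣ q⁴ + 1`, `r` odd, forces `L ^ 4 = -1` (`IsGood L`) and `χ` regular;
* `corew2`: `χ ∘ L = χ` with `χ` regular of prime order `r ≠ 2, 3` forces `L = 1`;
* `corew3`: for a good `L`, the characters with `χ ∘ L = χ ^ q` are parametrized by `μ_{q⁴+1}`.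

The good elements are conjugate to the reference element `L0` (`conjTab`); for `L0` everything is explicit:
`χ(α₁) = ζ`, `ζ ^ (q⁴+1) = 1`, `χ(α₀) = ζ ^ (q+q²)`, `χ(α₂) = ζ ^ (-1-q²)`, `χ(α₃) = ζ ^ (-q-q³)`.
-/

set_option autoImplicit false

namespace Cfsg.Agent.Helper13.F4T

open CW

section basic

variable {K : Type*} [Field K]

theorem cw_rcv33 : rcv 33 = (1, 0, 0, 0) := by decide
theorem cw_rcv27 : rcv 27 = (0, 1, 0, 0) := by decide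
theorem cw_rcv25 : rcv 25 = (0, 0, 1, 0) := by decide
theorem cw_rcv24 : rcv 24 = (0, 0, 0, 1) := by decide

theorem chiV_33 (x0 x1 x2 x3 : Kˣ) : chiV x0 x1 x2 x3 33 = x0 := by
  simp [chiV, cw_rcv33, chiZ]

theorem chiV_27 (x0 x1 x2 x3 : Kˣ) : chiV x0 x1 x2 x3 27 = x1 := by
  simp [chiV, cw_rcv27, chiZ]

theorem chiV_25 (x0 x1 x2 x3 : Kˣ) : chiV x0 x1 x2 x3 25 = x2 := by
  simp [chiV, cw_rcv25, chiZ]

theorem chiV_24 (x0 x1 x2 x3 : Kˣ) : chiV x0 x1 x2 x3 24 = x3 := by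
  simp [chiV, cw_rcv24, chiZ]

theorem cw_mem_wActs (L : List ℕ) (hL : L ∈ wActsF4) : ∃ p ∈ wTab, p.1 = L := by
  unfold wActsF4 at hL
  obtain ⟨p, hp, e⟩ := List.mem_map.1 hL
  exact ⟨p, hp, e⟩

theorem cw_mem_good (L : List ℕ) (hL : IsGood L) : ∃ t ∈ conjTab, t.1 = L := by
  unfold IsGood at hL
  obtain ⟨t, ht, e⟩ := List.mem_map.1 hL
  exact ⟨t, ht, e⟩

theorem acts_lt (L : List ℕ) (hL : L ∈ wActsF4) (v : ℕ) (hv : v < 48) : L.getD v 0 < 48 := by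
  obtain ⟨p, hp, rfl⟩ := cw_mem_wActs L hL
  exact tab_lt p hp v hv

theorem good_mem (L : List ℕ) (hL : IsGood L) : L ∈ wActsF4 := by
  obtain ⟨t, ht, rfl⟩ := cw_mem_good L hL
  exact tab_good_mem t ht

/-- a good `L` is onto (it is a permutation of the roots) -/
theorem good_surj (L : List ℕ) (hL : IsGood L) (u : ℕ) (hu : u < 48) : ∃ v < 48, L.getD v 0 = u := by
  obtain ⟨t, ht, rfl⟩ := cw_mem_good L hL
  exact tab_good_surj t ht u hu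

/-- a root of unity of two coprime orders is `1` -/
theorem cw_eq_one_of_coprime (x : Kˣ) (a b : ℕ) (hab : Nat.Coprime a b) (ha : x ^ a = 1) (hb : x ^ b = 1) :
    x = 1 := by
  have h1 : orderOf x ∣ a := orderOf_dvd_of_pow_eq_one ha
  have h2 : orderOf x ∣ b := orderOf_dvd_of_pow_eq_one hb
  have h3 : orderOf x ∣ 1 := by
    have := Nat.dvd_gcd h1 h2
    rwa [hab] at this
  exact orderOf_eq_one_iff.1 (Nat.dvd_one.1 h3)

theorem cw_chiV_pow (x0 x1 x2 x3 : Kˣ) (r : ℕ) (h0 : x0 ^ r = 1) (h1 : x1 ^ r = 1) (h2 : x2 ^ r = 1)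
    (h3 : x3 ^ r = 1) (v : ℕ) : chiV x0 x1 x2 x3 v ^ r = 1 := by
  unfold chiV
  rw [chiZ_pow, h0, h1, h2, h3, chiZ_one]

/-- the transport of a character along a linear permutation of the roots -/
theorem cw_chiV_comp (c : List ℕ) (hc : LinL c) (x0 x1 x2 x3 : Kˣ) (v : ℕ) (hv : v < 48) :
    chiV x0 x1 x2 x3 (c.getD v 0) =
      chiV (chiV x0 x1 x2 x3 (c.getD 33 0)) (chiV x0 x1 x2 x3 (c.getD 27 0)) (chiV x0 x1 x2 x3 (c.getD 25 0))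
        (chiV x0 x1 x2 x3 (c.getD 24 0)) v := by
  unfold chiV
  rw [hc v hv, chiZ_lin4]

/-- iterating `χ ∘ L = χ ^ q` -/
theorem cw_cond_iter (q : ℕ) (L : List ℕ) (hlt : ∀ v < 48, L.getD v 0 < 48) (x0 x1 x2 x3 : Kˣ)
    (h : Cond q L x0 x1 x2 x3) (k : ℕ) :
    ∀ v < 48, (fun u => L.getD u 0)^[k] v < 48 ∧
      chiV x0 x1 x2 x3 ((fun u => L.getD u 0)^[k] v) = chiV x0 x1 x2 x3 v ^ (q ^ k) := by
  induction k with
  | zero =>
    intro v hv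
    exact ⟨hv, by rw [pow_zero, pow_one]; rfl⟩
  | succ k ih =>
    intro v hv
    rw [Function.iterate_succ_apply]
    obtain ⟨h1, h2⟩ := ih (L.getD v 0) (hlt v hv)
    refine ⟨h1, ?_⟩
    rw [h2, h v hv, ← pow_mul, pow_succ, mul_comm]

end basic

section L0

variable {K : Type*} [Field K]

/-- the exponents for the reference element `L0` -/
def cwE0 (q : ℕ) : ℤ := ((q + q ^ 2 : ℕ) : ℤ)

/-- the exponents for the reference element `L0` -/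
def cwE2 (q : ℕ) : ℤ := -((1 + q ^ 2 : ℕ) : ℤ)

/-- the exponents for the reference element `L0` -/
def cwE3 (q : ℕ) : ℤ := -((q + q ^ 3 : ℕ) : ℤ)

theorem cw_L0_27 : L0.getD 27 0 = 35 := by decide
theorem cw_L0_35 : L0.getD 35 0 = 19 := by decide
theorem cw_L0_19 : L0.getD 19 0 = 11 := by decide
theorem cw_L0_11 : L0.getD 11 0 = 20 := by decide
theorem cw_L0_33 : L0.getD 33 0 = 8 := by decide
theorem cw_L0_25 : L0.getD 25 0 = 24 := by decide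
theorem cw_L0_24 : L0.getD 24 0 = 30 := by decide
theorem cw_r33 : rcv 33 = ad (rcv 35) (rcv 19) := by decide
theorem cw_r25 : rcv 25 = ad (sm (-1) (rcv 27)) (sm (-1) (rcv 19)) := by decide
theorem cw_r24 : rcv 24 = ad (sm (-1) (rcv 35)) (sm (-1) (rcv 11)) := by decide
theorem cw_r20 : rcv 20 = sm (-1) (rcv 27) := by decide
theorem cw_r8 : rcv 8 = (-1, -2, -2, -1) := by decide
theorem cw_r35 : rcv 35 = (1, 1, 1, 0) := by decide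
theorem cw_r30 : rcv 30 = (0, 2, 1, 0) := by decide

/-- the forward direction for `L0` -/
theorem cw_L0_fwd (q : ℕ) (x0 x1 x2 x3 : Kˣ) (h : Cond q L0 x0 x1 x2 x3) :
    x1 ^ (q ^ 4 + 1) = 1 ∧ x0 = x1 ^ cwE0 q ∧ x2 = x1 ^ cwE2 q ∧ x3 = x1 ^ cwE3 q := by
  have k1 : chiV x0 x1 x2 x3 35 = x1 ^ q := by
    have := h 27 (by norm_num)
    rwa [cw_L0_27, chiV_27] at this
  have k2 : chiV x0 x1 x2 x3 19 = (x1 ^ q) ^ q := by
    have := h 35 (by norm_num)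
    rwa [cw_L0_35, k1] at this
  have k3 : chiV x0 x1 x2 x3 11 = ((x1 ^ q) ^ q) ^ q := by
    have := h 19 (by norm_num)
    rwa [cw_L0_19, k2] at this
  have k4 : chiV x0 x1 x2 x3 20 = (((x1 ^ q) ^ q) ^ q) ^ q := by
    have := h 11 (by norm_num)
    rwa [cw_L0_11, k3] at this
  have n20 : chiV x0 x1 x2 x3 20 = x1⁻¹ := by
    have : chiV x0 x1 x2 x3 20 = chiV x0 x1 x2 x3 27 ^ (-1 : ℤ) := by
      unfold chiV
      rw [cw_r20, chiZ_sm]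
    rw [this, chiV_27, zpow_neg_one]
  have e33 : x0 = chiV x0 x1 x2 x3 35 * chiV x0 x1 x2 x3 19 := by
    have : chiV x0 x1 x2 x3 33 = chiV x0 x1 x2 x3 35 * chiV x0 x1 x2 x3 19 := by
      unfold chiV
      rw [cw_r33, chiZ_ad]
    rwa [chiV_33] at this
  have e25 : x2 = (chiV x0 x1 x2 x3 27) ^ (-1 : ℤ) * (chiV x0 x1 x2 x3 19) ^ (-1 : ℤ) := by
    have : chiV x0 x1 x2 x3 25 =
        (chiV x0 x1 x2 x3 27) ^ (-1 : ℤ) * (chiV x0 x1 x2 x3 19) ^ (-1 : ℤ) := by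
      unfold chiV
      rw [cw_r25, chiZ_ad, chiZ_sm, chiZ_sm]
    rwa [chiV_25] at this
  have e24 : x3 = (chiV x0 x1 x2 x3 35) ^ (-1 : ℤ) * (chiV x0 x1 x2 x3 11) ^ (-1 : ℤ) := by
    have : chiV x0 x1 x2 x3 24 =
        (chiV x0 x1 x2 x3 35) ^ (-1 : ℤ) * (chiV x0 x1 x2 x3 11) ^ (-1 : ℤ) := by
      unfold chiV
      rw [cw_r24, chiZ_ad, chiZ_sm, chiZ_sm]
    rwa [chiV_24] at this
  refine ⟨?_, ?_, ?_, ?_⟩
  · have : x1 ^ (q ^ 4) = x1⁻¹ := by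
      rw [← n20, k4, ← pow_mul, ← pow_mul, ← pow_mul]
      congr 1
      ring
    rw [pow_succ, this, inv_mul_cancel]
  · rw [e33, k1, k2, ← pow_mul, ← pow_add, cwE0, zpow_natCast]
    congr 1
    ring
  · rw [e25, chiV_27, k2, ← pow_mul, cwE2, zpow_neg_one, zpow_neg_one, ← mul_inv, zpow_neg, zpow_natCast,
      ← pow_succ']
    congr 2
    ring
  · rw [e24, k1, k3, cwE3, zpow_neg_one, zpow_neg_one, ← mul_inv, zpow_neg, zpow_natCast, ← pow_mul, ← pow_mul,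
      ← pow_add]
    congr 2
    ring

/-- the backward direction for `L0` -/
theorem cw_L0_bwd (q : ℕ) (ζ : Kˣ) (hζ : ζ ^ (q ^ 4 + 1) = 1) :
    Cond q L0 (ζ ^ cwE0 q) (ζ ^ (1 : ℤ)) (ζ ^ cwE2 q) (ζ ^ cwE3 q) := by
  intro v hv
  unfold chiV
  rw [chiZ_zpow, chiZ_zpow, tab_L0_lin v hv, dot_lin4, cw_L0_33, cw_L0_27, cw_L0_25, cw_L0_24, cw_r8, cw_r35,
    cw_rcv24, cw_r30, ← zpow_natCast, ← zpow_mul]
  have hz : ζ ^ (((q ^ 4 + 1 : ℕ) : ℤ)) = 1 := by rw [zpow_natCast]; exact hζ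
  have key : (rcv v).1 * dot (-1, -2, -2, -1) (cwE0 q) 1 (cwE2 q) (cwE3 q) +
      (rcv v).2.1 * dot (1, 1, 1, 0) (cwE0 q) 1 (cwE2 q) (cwE3 q) +
      (rcv v).2.2.1 * dot (0, 0, 0, 1) (cwE0 q) 1 (cwE2 q) (cwE3 q) +
      (rcv v).2.2.2 * dot (0, 2, 1, 0) (cwE0 q) 1 (cwE2 q) (cwE3 q) =
      dot (rcv v) (cwE0 q) 1 (cwE2 q) (cwE3 q) * (q : ℤ) + ((q ^ 4 + 1 : ℕ) : ℤ) * (rcv v).2.2.2 := by
    simp only [dot, cwE0, cwE2, cwE3]
    push_cast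
    ring
  rw [key, zpow_add, zpow_mul _ (((q ^ 4 + 1 : ℕ) : ℤ)), hz, one_zpow, mul_one]

/-- regularity for `L0` -/
theorem cw_L0_reg (q r : ℕ) (hr : r.Prime) (hr2 : r ≠ 2) (x0 x1 x2 x3 : Kˣ)
    (h1 : x1 ^ r = 1) (hne : ¬ (x0 = 1 ∧ x1 = 1 ∧ x2 = 1 ∧ x3 = 1))
    (h : Cond q L0 x0 x1 x2 x3) : ∀ v < 48, chiV x0 x1 x2 x3 v ≠ 1 := by
  intro v hv hv1
  apply hne
  obtain ⟨f1, f0, f2, f3⟩ := cw_L0_fwd q x0 x1 x2 x3 h
  have it := cw_cond_iter q L0 tab_L0_lt x0 x1 x2 x3 h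
  have i1 : chiV x0 x1 x2 x3 (L0.getD v 0) = 1 := by
    have := (it 1 v hv).2
    rw [hv1, one_pow] at this
    exact this
  have i2 : chiV x0 x1 x2 x3 (L0.getD (L0.getD v 0) 0) = 1 := by
    have := (it 2 v hv).2
    rw [hv1, one_pow] at this
    exact this
  have i3 : chiV x0 x1 x2 x3 (L0.getD (L0.getD (L0.getD v 0) 0) 0) = 1 := by
    have := (it 3 v hv).2
    rw [hv1, one_pow] at this
    exact this
  obtain ⟨hk, hreg⟩ := tab_reg v hv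
  have e := congrArg (chiZ x0 x1 x2 x3) hreg
  rw [chiZ_sm, chiZ_ad, chiZ_ad, chiZ_ad, chiZ_sm, chiZ_sm, chiZ_sm, chiZ_sm] at e
  change chiV x0 x1 x2 x3 27 ^ _ = chiV x0 x1 x2 x3 v ^ _ * chiV x0 x1 x2 x3 (L0.getD v 0) ^ _ *
    chiV x0 x1 x2 x3 (L0.getD (L0.getD v 0) 0) ^ _ *
    chiV x0 x1 x2 x3 (L0.getD (L0.getD (L0.getD v 0) 0) 0) ^ _ at e
  rw [hv1, i1, i2, i3, one_zpow, one_zpow, one_zpow, one_zpow, mul_one, mul_one, mul_one, chiV_27] at e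
  have hx1sq : x1 ^ 2 = 1 := by
    rcases Nat.le_one_iff_eq_zero_or_eq_one.1 hk with h0 | h0
    · rw [h0, pow_zero, zpow_one] at e
      rw [e, one_pow]
    · rw [h0, pow_one] at e
      exact_mod_cast e
  have hx1 : x1 = 1 := by
    apply cw_eq_one_of_coprime x1 2 r _ hx1sq h1
    exact (Nat.coprime_primes Nat.prime_two hr).2 (Ne.symm hr2)
  refine ⟨?_, hx1, ?_, ?_⟩
  · rw [f0, hx1, one_zpow]
  · rw [f2, hx1, one_zpow]
  · rw [f3, hx1, one_zpow]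

end L0

section transport

variable {K : Type*} [Field K]

/-- transport of the condition along a row of `conjTab`: `χ' = χ ∘ c` satisfies the condition for `L0` -/
theorem cw_cond_transport (q : ℕ) (t : List ℕ × List ℕ × List ℕ) (ht : RowOK t) (x0 x1 x2 x3 : Kˣ)
    (h : Cond q t.1 x0 x1 x2 x3) :
    Cond q L0 (chiV x0 x1 x2 x3 (t.2.1.getD 33 0)) (chiV x0 x1 x2 x3 (t.2.1.getD 27 0))
      (chiV x0 x1 x2 x3 (t.2.1.getD 25 0)) (chiV x0 x1 x2 x3 (t.2.1.getD 24 0)) := by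
  obtain ⟨hLc, hcc', hc'c, hclt, hc'lt, hlinc, hlinc'⟩ := ht
  intro v hv
  rw [← cw_chiV_comp t.2.1 hlinc x0 x1 x2 x3 _ (tab_L0_lt v hv), ← cw_chiV_comp t.2.1 hlinc x0 x1 x2 x3 v hv,
    ← hLc v hv]
  exact h _ (hclt v hv)

/-- `χ = χ' ∘ c'` -/
theorem cw_back (t : List ℕ × List ℕ × List ℕ) (ht : RowOK t) (x0 x1 x2 x3 : Kˣ) (u : ℕ) (hu : u < 48) :
    chiV x0 x1 x2 x3 u =
      chiV (chiV x0 x1 x2 x3 (t.2.1.getD 33 0)) (chiV x0 x1 x2 x3 (t.2.1.getD 27 0))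
        (chiV x0 x1 x2 x3 (t.2.1.getD 25 0)) (chiV x0 x1 x2 x3 (t.2.1.getD 24 0)) (t.2.2.getD u 0) := by
  obtain ⟨hLc, hcc', hc'c, hclt, hc'lt, hlinc, hlinc'⟩ := ht
  rw [← cw_chiV_comp t.2.1 hlinc x0 x1 x2 x3 _ (hc'lt u hu), hcc' u hu]

end transport

section main

variable {K : Type*} [Field K]

/-- PIECE COREW1: `χ ∘ L = χ ^ q`, `χ ≠ 1` of order `r` ⟹ `L ^ 4 = -1` and `χ` is regular -/
theorem corew1 (q r : ℕ) (hr : GoodPrime8 q r) (x0 x1 x2 x3 : Kˣ)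
    (h0 : x0 ^ r = 1) (h1 : x1 ^ r = 1) (h2 : x2 ^ r = 1) (h3 : x3 ^ r = 1)
    (hne : ¬ (x0 = 1 ∧ x1 = 1 ∧ x2 = 1 ∧ x3 = 1)) (L : List ℕ) (hL : L ∈ wActsF4)
    (h : Cond q L x0 x1 x2 x3) : IsGood L ∧ ∀ v < 48, chiV x0 x1 x2 x3 v ≠ 1 := by
  obtain ⟨p, hp, rfl⟩ := cw_mem_wActs L hL
  rcases tab_dich p hp with h12 | hgood
  · -- `L ^ 12 = 1`: impossible
    exfalso
    apply hne
    have hcop := (arith8_coprime q r hr).1
    have it := cw_cond_iter q p.1 (tab_lt p hp) x0 x1 x2 x3 h 12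
    have hq12 : 1 ≤ q ^ 12 := Nat.one_le_pow _ _ (f4tarith_pos q r hr)
    have key : ∀ v < 48, chiV x0 x1 x2 x3 v = 1 := by
      intro v hv
      have e := (it v hv).2
      have e' : (fun u => p.1.getD u 0)^[12] v = v := h12 v hv
      rw [e'] at e
      have e2 : chiV x0 x1 x2 x3 v ^ (q ^ 12 - 1) = 1 := by
        have : chiV x0 x1 x2 x3 v ^ (q ^ 12 - 1) * chiV x0 x1 x2 x3 v = chiV x0 x1 x2 x3 v := by
          rw [← pow_succ, Nat.sub_add_cancel hq12]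
          exact e.symm
        exact mul_eq_right.1 this
      exact cw_eq_one_of_coprime _ _ _ hcop e2 (cw_chiV_pow x0 x1 x2 x3 r h0 h1 h2 h3 v)
    refine ⟨?_, ?_, ?_, ?_⟩
    · rw [← chiV_33 x0 x1 x2 x3]; exact key 33 (by norm_num)
    · rw [← chiV_27 x0 x1 x2 x3]; exact key 27 (by norm_num)
    · rw [← chiV_25 x0 x1 x2 x3]; exact key 25 (by norm_num)
    · rw [← chiV_24 x0 x1 x2 x3]; exact key 24 (by norm_num)
  · refine ⟨hgood, ?_⟩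
    obtain ⟨t, ht, et⟩ := cw_mem_good p.1 hgood
    have hrow := tab_row t ht
    rw [← et] at h
    have hc0 := cw_cond_transport q t hrow x0 x1 x2 x3 h
    have hback := cw_back t hrow x0 x1 x2 x3
    set y0 := chiV x0 x1 x2 x3 (t.2.1.getD 33 0) with hy0
    set y1 := chiV x0 x1 x2 x3 (t.2.1.getD 27 0) with hy1
    set y2 := chiV x0 x1 x2 x3 (t.2.1.getD 25 0) with hy2
    set y3 := chiV x0 x1 x2 x3 (t.2.1.getD 24 0) with hy3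
    have hyne : ¬ (y0 = 1 ∧ y1 = 1 ∧ y2 = 1 ∧ y3 = 1) := by
      rintro ⟨e0, e1, e2, e3⟩
      apply hne
      have key : ∀ u < 48, chiV x0 x1 x2 x3 u = 1 := by
        intro u hu
        rw [hback u hu, e0, e1, e2, e3]
        exact chiZ_one _
      refine ⟨?_, ?_, ?_, ?_⟩
      · rw [← chiV_33 x0 x1 x2 x3]; exact key 33 (by norm_num)
      · rw [← chiV_27 x0 x1 x2 x3]; exact key 27 (by norm_num)
      · rw [← chiV_25 x0 x1 x2 x3]; exact key 25 (by norm_num)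
      · rw [← chiV_24 x0 x1 x2 x3]; exact key 24 (by norm_num)
    have hreg0 := cw_L0_reg q r hr.prime hr.ne2 y0 y1 y2 y3
      (cw_chiV_pow x0 x1 x2 x3 r h0 h1 h2 h3 _) hyne hc0
    intro u hu
    rw [hback u hu]
    exact hreg0 _ (hrow.2.2.2.2.1 u hu)

/-- PIECE COREW2: `χ ∘ L = χ`, `χ` regular of order `r ≠ 2, 3` ⟹ `L = 1` -/
theorem corew2 (r : ℕ) (hr : r.Prime) (hr2 : r ≠ 2) (hr3 : r ≠ 3) (x0 x1 x2 x3 : Kˣ)
    (h0 : x0 ^ r = 1) (h1 : x1 ^ r = 1) (h2 : x2 ^ r = 1) (h3 : x3 ^ r = 1)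
    (hreg : ∀ v < 48, chiV x0 x1 x2 x3 v ≠ 1) (L : List ℕ) (hL : L ∈ wActsF4)
    (h : ∀ v < 48, chiV x0 x1 x2 x3 (L.getD v 0) = chiV x0 x1 x2 x3 v) : L = idL := by
  obtain ⟨p, hp, rfl⟩ := cw_mem_wActs L hL
  have hpow := cw_chiV_pow x0 x1 x2 x3 r h0 h1 h2 h3
  rcases tab_cert p hp with ⟨_, hid⟩ | ⟨hv, hu, hc⟩
  · exact hid
  · exfalso
    rcases hc with ⟨_, e⟩ | ⟨_, e⟩ | ⟨_, hlv, e⟩
    · have e1 := congrArg (chiZ x0 x1 x2 x3) e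
      rw [chiZ_ad] at e1
      change chiV x0 x1 x2 x3 p.2.2.1 = chiV x0 x1 x2 x3 (p.1.getD p.2.2.1 0) * chiV x0 x1 x2 x3 p.2.2.2.1 at e1
      rw [h _ hv] at e1
      exact hreg _ hu (left_eq_mul.1 e1)
    · have e1 := congrArg (chiZ x0 x1 x2 x3) e
      rw [chiZ_ad, chiZ_sm] at e1
      change chiV x0 x1 x2 x3 p.2.2.1 =
        chiV x0 x1 x2 x3 (p.1.getD p.2.2.1 0) * chiV x0 x1 x2 x3 p.2.2.2.1 ^ (2 : ℤ) at e1
      rw [h _ hv] at e1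
      have e2 : chiV x0 x1 x2 x3 p.2.2.2.1 ^ 2 = 1 := by
        have := left_eq_mul.1 e1
        exact_mod_cast this
      apply hreg _ hu
      exact cw_eq_one_of_coprime _ 2 r ((Nat.coprime_primes Nat.prime_two hr).2 (Ne.symm hr2)) e2 (hpow _)
    · have e1 := congrArg (chiZ x0 x1 x2 x3) e
      rw [chiZ_ad, chiZ_ad, chiZ_zero] at e1
      change chiV x0 x1 x2 x3 p.2.2.1 * chiV x0 x1 x2 x3 (p.1.getD p.2.2.1 0) *
        chiV x0 x1 x2 x3 (p.1.getD (p.1.getD p.2.2.1 0) 0) = 1 at e1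
      rw [h _ hlv, h _ hv] at e1
      have e2 : chiV x0 x1 x2 x3 p.2.2.1 ^ 3 = 1 := by
        rw [pow_succ, pow_two]
        exact e1
      apply hreg _ hv
      exact cw_eq_one_of_coprime _ 3 r ((Nat.coprime_primes Nat.prime_three hr).2 (Ne.symm hr3)) e2 (hpow _)

/-- PIECE COREW3: for a good `L`, `{χ : χ ∘ L = χ ^ q} ≅ μ_{q⁴+1}` through `χ ↦ χ(u)` for a suitable root `u` -/
theorem corew3 (q : ℕ) (L : List ℕ) (hL : IsGood L) :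
    ∃ u < 48, ∃ e0 e1 e2 e3 : ℤ,
      (∀ x0 x1 x2 x3 : Kˣ, Cond q L x0 x1 x2 x3 →
        chiV x0 x1 x2 x3 u ^ (q ^ 4 + 1) = 1 ∧ x0 = chiV x0 x1 x2 x3 u ^ e0 ∧
          x1 = chiV x0 x1 x2 x3 u ^ e1 ∧ x2 = chiV x0 x1 x2 x3 u ^ e2 ∧ x3 = chiV x0 x1 x2 x3 u ^ e3) ∧
      (∀ ζ : Kˣ, ζ ^ (q ^ 4 + 1) = 1 →
        Cond q L (ζ ^ e0) (ζ ^ e1) (ζ ^ e2) (ζ ^ e3) ∧ chiV (ζ ^ e0) (ζ ^ e1) (ζ ^ e2) (ζ ^ e3) u = ζ) := by
  obtain ⟨t, ht, rfl⟩ := cw_mem_good L hL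
  have hrow := tab_row t ht
  obtain ⟨hLc, hcc', hc'c, hclt, hc'lt, hlinc, hlinc'⟩ := hrow
  refine ⟨t.2.1.getD 27 0, hclt 27 (by norm_num),
    dot (rcv (t.2.2.getD 33 0)) (cwE0 q) 1 (cwE2 q) (cwE3 q),
    dot (rcv (t.2.2.getD 27 0)) (cwE0 q) 1 (cwE2 q) (cwE3 q),
    dot (rcv (t.2.2.getD 25 0)) (cwE0 q) 1 (cwE2 q) (cwE3 q),
    dot (rcv (t.2.2.getD 24 0)) (cwE0 q) 1 (cwE2 q) (cwE3 q), ?_, ?_⟩
  · intro x0 x1 x2 x3 h
    have hc0 := cw_cond_transport q t (tab_row t ht) x0 x1 x2 x3 h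
    have hback := cw_back t (tab_row t ht) x0 x1 x2 x3
    obtain ⟨f1, f0, f2, f3⟩ := cw_L0_fwd q _ _ _ _ hc0
    set ζ := chiV x0 x1 x2 x3 (t.2.1.getD 27 0) with hζ
    have key : ∀ u < 48, chiV x0 x1 x2 x3 u = ζ ^ dot (rcv (t.2.2.getD u 0)) (cwE0 q) 1 (cwE2 q) (cwE3 q) := by
      intro u hu
      rw [hback u hu, f0, f2, f3]
      conv_lhs => rw [show ζ = ζ ^ (1 : ℤ) from (zpow_one ζ).symm]
      unfold chiV
      rw [← zpow_mul, ← zpow_mul, ← zpow_mul, one_mul, one_mul, one_mul]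
      exact chiZ_zpow ζ _ _ _ _ _
    refine ⟨f1, ?_, ?_, ?_, ?_⟩
    · rw [← key 33 (by norm_num), chiV_33]
    · rw [← key 27 (by norm_num), chiV_27]
    · rw [← key 25 (by norm_num), chiV_25]
    · rw [← key 24 (by norm_num), chiV_24]
  · intro ζ hζ
    have hc0 := cw_L0_bwd q ζ hζ
    -- `χ = χ' ∘ c'` where `χ'` is the character for `L0`
    have key : ∀ v < 48,
        chiV (ζ ^ dot (rcv (t.2.2.getD 33 0)) (cwE0 q) 1 (cwE2 q) (cwE3 q))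
          (ζ ^ dot (rcv (t.2.2.getD 27 0)) (cwE0 q) 1 (cwE2 q) (cwE3 q))
          (ζ ^ dot (rcv (t.2.2.getD 25 0)) (cwE0 q) 1 (cwE2 q) (cwE3 q))
          (ζ ^ dot (rcv (t.2.2.getD 24 0)) (cwE0 q) 1 (cwE2 q) (cwE3 q)) v =
        chiV (ζ ^ cwE0 q) (ζ ^ (1 : ℤ)) (ζ ^ cwE2 q) (ζ ^ cwE3 q) (t.2.2.getD v 0) := by
      intro v hv
      rw [cw_chiV_comp t.2.2 hlinc' _ _ _ _ v hv]
      unfold chiV
      rw [chiZ_zpow ζ (cwE0 q) 1 (cwE2 q) (cwE3 q) (rcv (t.2.2.getD 33 0)),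
        chiZ_zpow ζ (cwE0 q) 1 (cwE2 q) (cwE3 q) (rcv (t.2.2.getD 27 0)),
        chiZ_zpow ζ (cwE0 q) 1 (cwE2 q) (cwE3 q) (rcv (t.2.2.getD 25 0)),
        chiZ_zpow ζ (cwE0 q) 1 (cwE2 q) (cwE3 q) (rcv (t.2.2.getD 24 0))]
    constructor
    · intro v hv
      have hLv : t.1.getD v 0 = t.2.1.getD (L0.getD (t.2.2.getD v 0) 0) 0 := by
        rw [← hLc _ (hc'lt v hv), hcc' v hv]
      have hLvlt : t.1.getD v 0 < 48 := by
        rw [hLv]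
        exact hclt _ (tab_L0_lt _ (hc'lt v hv))
      rw [key _ hLvlt, key v hv, hLv, hc'c _ (tab_L0_lt _ (hc'lt v hv))]
      exact hc0 _ (hc'lt v hv)
    · rw [key _ (hclt 27 (by norm_num)), hc'c 27 (by norm_num), chiV_27, zpow_one]

end main

end Cfsg.Agent.Helper13.F4T
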