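import Mathlib
import Cfsg.Agent.Lib.Helper13.F4TDefs
import Cfsg.Agent.Lib.Lead.G2TTC

/-!
# S2372, piece TC: torus conjugation through the sharp Bruhat form, for `F₄(K)` (an instance of Lead's general form)
-/

set_option autoImplicit false

namespace Cfsg.Agent.Helper13.F4T

open Cfsg Cfsg.Lie Cfsg.Agent.Lead.Chev Cfsg.Agent.Lead.Tw

theorem torus_conj {K : Type*} [Field K] (y h h' : GL chevF4.Idx K) (hy : y ∈ chevF4.group K)
    (hh : h ∈ chevF4.diagonalSubgroup K) (hh' : h' ∈ chevF4.diagonalSubgroup K) (e : y * h' = h * y) :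
    ∃ u ∈ chevF4.posUnipotent K, ∃ t ∈ chevF4.diagonalSubgroup K, ∃ w : List ℕ, (∀ i ∈ w, i < 4) ∧
      ∃ u' ∈ chevF4.posUnipotent K,
        y = u * t * nWordGL chevF4 (f4F K).xadd w * u' ∧
        nWordGL chevF4 (f4F K).xadd w * h' * (nWordGL chevF4 (f4F K).xadd w)⁻¹ = h ∧
        h * u * h⁻¹ = u ∧ h' * u' * h'⁻¹ = u' :=
  Cfsg.Agent.Helper11.G2T.TC.torus_conj_gen (f4F K) f4S y h h' hy hh hh' e

end Cfsg.Agent.Helper13.F4T
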