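import Mathlib
import Cfsg.Prelude.Def_GeometricClasses
import Cfsg.Agent.Lib.Helper12.FieldSubalg2

/-!
# Singer fields of matrices: orbit maps and eigenvectors of normalizing elements (helper13)
-/

set_option autoImplicit false
set_option linter.style.haveILetI false
set_option linter.unusedSectionVars false
set_option linter.unusedVariables false

namespace Cfsg.Agent.Helper13.FN

open Matrix Cfsg.Agent.Helper12.FieldSub

section basic

variable {F : Type*} [Field F] {n : ℕ}
variable {K : Subalgebra F (Matrix (Fin n) (Fin n) F)}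

/-- the orbit map `k ↦ k v` -/
def iota (K : Subalgebra F (Matrix (Fin n) (Fin n) F)) (v : Fin n → F) :
    ↥K →ₗ[F] (Fin n → F) where
  toFun k := (k : Matrix (Fin n) (Fin n) F) *ᵥ v
  map_add' x y := by rw [Subalgebra.coe_add, Matrix.add_mulVec]
  map_smul' c x := by
    rw [Subalgebra.coe_smul, Matrix.smul_mulVec]
    rfl

theorem iota_apply (v : Fin n → F) (k : ↥K) :
    iota K v k = (k : Matrix (Fin n) (Fin n) F) *ᵥ v := rfl

theorem iota_injective (hK : Cfsg.Geo.IsFieldSubalgebra n K) {v : Fin n → F} (hv : v ≠ 0) :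
    Function.Injective (iota K v) := by
  rw [← LinearMap.ker_eq_bot, LinearMap.ker_eq_bot']
  intro k hk
  by_contra hne
  exact hv (mulVec_eq_zero hK.inv k.2 (fun h => hne (Subtype.ext h)) hk)

theorem iota_surjective (hK : Cfsg.Geo.IsFieldSubalgebra n K) {v : Fin n → F} (hv : v ≠ 0) :
    Function.Surjective (iota K v) := by
  have h : Module.finrank F ↥K = Module.finrank F (Fin n → F) := by
    rw [hK.finrank_eq, Module.finrank_fin_fun]
  exact (LinearMap.injective_iff_surjective_of_finrank_eq_finrank h).1 (iota_injective hK hv)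

/-- a non-scalar element normalizing a Singer field of prime degree has eigenspaces of dimension
at most one (for eigenvalues in the base field). -/
theorem scalar_of_eigen (hn : n.Prime) (hK : Cfsg.Geo.IsFieldSubalgebra n K) (y : GL (Fin n) F)
    (hy : ∀ k ∈ K, (y : Matrix (Fin n) (Fin n) F) * k *
      ((y⁻¹ : GL (Fin n) F) : Matrix (Fin n) (Fin n) F) ∈ K)
    (l : F) (v w : Fin n → F) (hv : (y : Matrix (Fin n) (Fin n) F) *ᵥ v = l • v)
    (hw : (y : Matrix (Fin n) (Fin n) F) *ᵥ w = l • w) (hv0 : v ≠ 0)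
    (hvw : ¬ ∃ c : F, w = c • v) :
    (y : Matrix (Fin n) (Fin n) F) = l • (1 : Matrix (Fin n) (Fin n) F) := by
  classical
  set Y : Matrix (Fin n) (Fin n) F := (y : Matrix (Fin n) (Fin n) F) with hY
  set Yi : Matrix (Fin n) (Fin n) F := ((y⁻¹ : GL (Fin n) F) : Matrix (Fin n) (Fin n) F) with hYi
  have hYYi : Y * Yi = 1 := by rw [hY, hYi, ← Units.val_mul, mul_inv_cancel, Units.val_one]
  have hYiY : Yi * Y = 1 := by rw [hY, hYi, ← Units.val_mul, inv_mul_cancel, Units.val_one]
  have hl0 : l ≠ 0 := by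
    rintro rfl
    rw [zero_smul] at hv
    apply hv0
    have : (Yi * Y) *ᵥ v = 0 := by rw [← Matrix.mulVec_mulVec, hv, Matrix.mulVec_zero]
    rwa [hYiY, Matrix.one_mulVec] at this
  have hYiv : Yi *ᵥ v = l⁻¹ • v := by
    have : (Yi * Y) *ᵥ v = l • (Yi *ᵥ v) := by
      rw [← Matrix.mulVec_mulVec, hv, Matrix.mulVec_smul]
    rw [hYiY, Matrix.one_mulVec] at this
    calc Yi *ᵥ v = l⁻¹ • (l • (Yi *ᵥ v)) := by rw [smul_smul, inv_mul_cancel₀ hl0, one_smul]
      _ = l⁻¹ • v := by rw [← this]
  obtain ⟨κ, hκ⟩ := iota_surjective hK hv0 w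
  rw [iota_apply] at hκ
  -- `y` commutes with `κ`
  have hτ : Y * (κ : Matrix (Fin n) (Fin n) F) * Yi = κ := by
    by_contra hne
    apply hv0
    have hmem : Y * (κ : Matrix (Fin n) (Fin n) F) * Yi - κ ∈ K := K.sub_mem (hy κ κ.2) κ.2
    apply mulVec_eq_zero hK.inv hmem (sub_ne_zero.2 hne)
    rw [Matrix.sub_mulVec, ← Matrix.mulVec_mulVec, ← Matrix.mulVec_mulVec, hYiv,
      Matrix.mulVec_smul, Matrix.mulVec_smul, hκ, hw, smul_smul, inv_mul_cancel₀ hl0, one_smul,
      sub_self]
  have hκcomm : Y * (κ : Matrix (Fin n) (Fin n) F) = κ * Y := by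
    calc Y * (κ : Matrix (Fin n) (Fin n) F) = Y * κ * (Yi * Y) := by rw [hYiY, mul_one]
      _ = (Y * κ * Yi) * Y := by simp only [mul_assoc]
      _ = κ * Y := by rw [hτ]
  -- the subalgebra of the elements commuting with `y`
  let D : Subalgebra F ↥K :=
    { carrier := {k | Y * (k : Matrix (Fin n) (Fin n) F) = k * Y}
      mul_mem' := by
        intro a b ha hb
        show Y * ((a * b : ↥K) : Matrix (Fin n) (Fin n) F) = ((a * b : ↥K) : Matrix _ _ F) * Y
        have ha' : Y * (a : Matrix (Fin n) (Fin n) F) = a * Y := ha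
        have hb' : Y * (b : Matrix (Fin n) (Fin n) F) = b * Y := hb
        rw [Subalgebra.coe_mul, ← mul_assoc, ha', mul_assoc, hb', mul_assoc]
      one_mem' := by
        show Y * ((1 : ↥K) : Matrix (Fin n) (Fin n) F) = ((1 : ↥K) : Matrix _ _ F) * Y
        rw [Subalgebra.coe_one, mul_one, one_mul]
      add_mem' := by
        intro a b ha hb
        show Y * ((a + b : ↥K) : Matrix (Fin n) (Fin n) F) = ((a + b : ↥K) : Matrix _ _ F) * Y
        have ha' : Y * (a : Matrix (Fin n) (Fin n) F) = a * Y := ha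
        have hb' : Y * (b : Matrix (Fin n) (Fin n) F) = b * Y := hb
        rw [Subalgebra.coe_add, mul_add, add_mul, ha', hb']
      zero_mem' := by
        show Y * ((0 : ↥K) : Matrix (Fin n) (Fin n) F) = ((0 : ↥K) : Matrix _ _ F) * Y
        rw [Subalgebra.coe_zero, mul_zero, zero_mul]
      algebraMap_mem' := by
        intro c
        show Y * ((algebraMap F ↥K c : ↥K) : Matrix (Fin n) (Fin n) F) =
          ((algebraMap F ↥K c : ↥K) : Matrix _ _ F) * Y
        rw [Subalgebra.coe_algebraMap, Algebra.algebraMap_eq_smul_one, mul_smul_comm,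
          smul_mul_assoc, mul_one, one_mul] }
  have hn0 : 0 < n := hn.pos
  haveI : IsDomain ↥K := (isField_of hn0 K hK.comm hK.inv).isDomain
  haveI := Subalgebra.isSimpleOrder_of_finrank_prime F ↥K (by rw [hK.finrank_eq]; exact hn)
  rcases eq_bot_or_eq_top D with hD | hD
  · exfalso
    apply hvw
    have hκD : κ ∈ D := hκcomm
    rw [hD, Algebra.mem_bot] at hκD
    obtain ⟨c, hc⟩ := hκD
    refine ⟨c, ?_⟩
    rw [← hκ, ← hc, Subalgebra.coe_algebraMap, Algebra.algebraMap_eq_smul_one,
      Matrix.smul_mulVec, Matrix.one_mulVec]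
  · apply ext_mulVec
    intro u
    obtain ⟨k, hk⟩ := iota_surjective hK hv0 u
    rw [iota_apply] at hk
    have hkD : k ∈ D := by rw [hD]; exact Algebra.mem_top
    have hkc : Y * (k : Matrix (Fin n) (Fin n) F) = k * Y := hkD
    rw [← hk, Matrix.mulVec_mulVec, hkc, ← Matrix.mulVec_mulVec, hv, Matrix.mulVec_smul,
      Matrix.smul_mulVec, Matrix.one_mulVec]

end basic

end Cfsg.Agent.Helper13.FN
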