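import Mathlib
import Cfsg.Agent.Lib.Helper13.FieldNorm1

/-!
# Singer fields of matrices: the Frobenius element of the normalizer (helper13)
-/

set_option autoImplicit false
set_option linter.style.haveILetI false
set_option linter.unusedSectionVars false
set_option linter.unusedVariables false

namespace Cfsg.Agent.Helper13.FN

open Matrix Cfsg.Agent.Helper12.FieldSub

section frob

open Polynomial

variable {F : Type*} [Field F] [Fintype F] {n : ℕ}
variable {K : Subalgebra F (Matrix (Fin n) (Fin n) F)}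

/-- the Frobenius element of the normalizer of a Singer field. -/
theorem exists_frobenius (hn : 0 < n) (hK : Cfsg.Geo.IsFieldSubalgebra n K) :
    ∃ s : Matrix (Fin n) (Fin n) F, (∀ k ∈ K, s * k = k ^ (Fintype.card F) * s) ∧ s ^ n = 1 ∧
      (∀ a : ℕ → F, ∑ i ∈ Finset.range n, a i • s ^ i = 0 → ∀ i < n, a i = 0) := by
  classical
  obtain ⟨p, hchar⟩ := CharP.exists F
  haveI := hchar
  haveI : Fact p.Prime := ⟨CharP.char_is_prime F p⟩
  haveI : Nonempty (Fin n) := ⟨⟨0, hn⟩⟩
  obtain ⟨f, -, hf⟩ := FiniteField.card F p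
  set q := Fintype.card F with hq
  have hq2 : 2 ≤ q := Fintype.one_lt_card
  set v₀ : Fin n → F := Pi.single ⟨0, hn⟩ 1 with hv₀
  have hv₀0 : v₀ ≠ 0 := by
    intro h
    have := congrFun h ⟨0, hn⟩
    simp [hv₀] at this
  set e : ↥K ≃ₗ[F] (Fin n → F) :=
    LinearEquiv.ofBijective (iota K v₀) ⟨iota_injective hK hv₀0, iota_surjective hK hv₀0⟩ with he
  have he_apply : ∀ k : ↥K, e k = (k : Matrix (Fin n) (Fin n) F) *ᵥ v₀ := fun k => rfl
  have hpowmem : ∀ (k : ↥K) (m : ℕ), (k : Matrix (Fin n) (Fin n) F) ^ m ∈ K :=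
    fun k m => K.pow_mem k.2 m
  let φ : ↥K →ₗ[F] ↥K :=
    { toFun := fun k => ⟨(k : Matrix (Fin n) (Fin n) F) ^ q, hpowmem k q⟩
      map_add' := by
        intro a b
        apply Subtype.ext
        show ((a + b : ↥K) : Matrix (Fin n) (Fin n) F) ^ q =
          (a : Matrix (Fin n) (Fin n) F) ^ q + (b : Matrix (Fin n) (Fin n) F) ^ q
        rw [Subalgebra.coe_add, hf]
        exact add_pow_char_pow_of_commute p _ (hK.comm a a.2 b b.2)
      map_smul' := by
        intro c k
        apply Subtype.ext
        show ((c • k : ↥K) : Matrix (Fin n) (Fin n) F) ^ q =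
          c • (k : Matrix (Fin n) (Fin n) F) ^ q
        rw [Subalgebra.coe_smul, _root_.smul_pow, FiniteField.pow_card] }
  set S : (Fin n → F) →ₗ[F] (Fin n → F) :=
    e.toLinearMap ∘ₗ φ ∘ₗ e.symm.toLinearMap with hS
  set s : Matrix (Fin n) (Fin n) F := LinearMap.toMatrix' S with hs
  have key : ∀ k : ↥K, s *ᵥ ((k : Matrix (Fin n) (Fin n) F) *ᵥ v₀) =
      ((k : Matrix (Fin n) (Fin n) F) ^ q) *ᵥ v₀ := by
    intro k
    rw [hs, LinearMap.toMatrix'_mulVec, ← he_apply, hS]
    simp only [LinearMap.comp_apply, LinearEquiv.coe_coe, LinearEquiv.symm_apply_apply]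
    rfl
  have hsemi : ∀ k ∈ K, s * k = k ^ q * s := by
    intro k hk
    apply ext_mulVec
    intro u
    obtain ⟨k', rfl⟩ := e.surjective u
    have h1 := key (⟨k, hk⟩ * k')
    rw [Subalgebra.coe_mul] at h1
    rw [he_apply, ← Matrix.mulVec_mulVec, ← Matrix.mulVec_mulVec, key k',
      Matrix.mulVec_mulVec v₀ k, h1,
      (show Commute k (k' : Matrix (Fin n) (Fin n) F) from hK.comm k hk k' k'.2).mul_pow,
      ← Matrix.mulVec_mulVec]
  have hpow : ∀ (j : ℕ) (k : ↥K), (s ^ j) *ᵥ ((k : Matrix (Fin n) (Fin n) F) *ᵥ v₀) =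
      ((k : Matrix (Fin n) (Fin n) F) ^ (q ^ j)) *ᵥ v₀ := by
    intro j
    induction j with
    | zero =>
      intro k
      rw [pow_zero, Matrix.one_mulVec, pow_zero, pow_one]
    | succ j ih =>
      intro k
      rw [pow_succ, ← Matrix.mulVec_mulVec, key k]
      have := ih ⟨(k : Matrix (Fin n) (Fin n) F) ^ q, hpowmem k q⟩
      rw [this, ← pow_mul, pow_succ']
  -- the field structure
  letI : Field ↥K := (isField_of hn K hK.comm hK.inv).toField
  letI : Fintype ↥K := Fintype.ofFinite _
  have hcard : Fintype.card ↥K = q ^ n := by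
    rw [Module.card_eq_pow_finrank (K := F) (V := ↥K), hK.finrank_eq]
  have hfrob : ∀ k : ↥K, (k : Matrix (Fin n) (Fin n) F) ^ (q ^ n) = k := by
    intro k
    have := FiniteField.pow_card k
    rw [hcard] at this
    have h2 := congrArg (fun x : ↥K => (x : Matrix (Fin n) (Fin n) F)) this
    simpa using h2
  refine ⟨s, hsemi, ?_, ?_⟩
  · apply ext_mulVec
    intro u
    obtain ⟨k, rfl⟩ := e.surjective u
    rw [he_apply, hpow n k, hfrob k, Matrix.one_mulVec]
  · intro a ha
    -- the additive polynomial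
    have hzero : ∀ k : ↥K, ∑ i ∈ Finset.range n, algebraMap F ↥K (a i) * k ^ (q ^ i) = 0 := by
      intro k
      by_contra hne
      apply hv₀0
      apply mulVec_eq_zero hK.inv (Subtype.mem _) (fun h => hne (Subtype.ext h))
      have h1 := congrArg (fun M : Matrix (Fin n) (Fin n) F =>
        M *ᵥ ((k : Matrix (Fin n) (Fin n) F) *ᵥ v₀)) ha
      simp only [Matrix.sum_mulVec, Matrix.smul_mulVec, hpow, Matrix.zero_mulVec] at h1
      rw [← h1]
      have : ((∑ i ∈ Finset.range n, algebraMap F ↥K (a i) * k ^ (q ^ i) : ↥K) :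
          Matrix (Fin n) (Fin n) F) =
          ∑ i ∈ Finset.range n, a i • (k : Matrix (Fin n) (Fin n) F) ^ (q ^ i) := by
        rw [AddSubmonoidClass.coe_finsetSum]
        apply Finset.sum_congr rfl
        intro i _
        rw [Subalgebra.coe_mul, Subalgebra.coe_algebraMap, Algebra.algebraMap_eq_smul_one,
          smul_mul_assoc, one_mul]
        rfl
      rw [this, Matrix.sum_mulVec]
      apply Finset.sum_congr rfl
      intro i _
      rw [Matrix.smul_mulVec]
    set P : (↥K)[X] := ∑ i ∈ Finset.range n, C (algebraMap F ↥K (a i)) * X ^ (q ^ i) with hP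
    have hPeval : ∀ k : ↥K, P.eval k = 0 := by
      intro k
      rw [hP, Polynomial.eval_finsetSum]
      rw [← hzero k]
      apply Finset.sum_congr rfl
      intro i _
      rw [Polynomial.eval_mul, Polynomial.eval_C, Polynomial.eval_pow, Polynomial.eval_X]
    have hPdeg : P.natDegree < Fintype.card ↥K := by
      rw [hcard]
      have h1 : P.natDegree ≤ q ^ (n - 1) := by
        rw [hP]
        apply Polynomial.natDegree_sum_le_of_forall_le
        intro i hi
        have hi' : i ≤ n - 1 := by
          have := Finset.mem_range.1 hi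
          omega
        exact (Polynomial.natDegree_C_mul_X_pow_le _ _).trans
          (Nat.pow_le_pow_right (by omega) hi')
      have h2 : q ^ (n - 1) < q ^ n := Nat.pow_lt_pow_right (by omega) (by omega)
      omega
    have hP0 : P = 0 := Polynomial.eq_zero_of_natDegree_lt_card_of_eval_eq_zero P
      (f := fun k : ↥K => k) Function.injective_id hPeval hPdeg
    intro i hi
    have hcoeff : P.coeff (q ^ i) = algebraMap F ↥K (a i) := by
      rw [hP, Polynomial.finsetSum_coeff]
      rw [Finset.sum_eq_single i]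
      · rw [Polynomial.coeff_C_mul_X_pow, if_pos rfl]
      · intro j _ hji
        rw [Polynomial.coeff_C_mul_X_pow, if_neg]
        intro h
        exact hji (Nat.pow_right_injective hq2 h).symm
      · intro hi'
        exact absurd (Finset.mem_range.2 hi) hi'
    rw [hP0, Polynomial.coeff_zero] at hcoeff
    exact (map_eq_zero (algebraMap F ↥K)).1 hcoeff.symm

end frob

section norm

open Polynomial

variable {F : Type*} [Field F] {n : ℕ}
variable {K : Subalgebra F (Matrix (Fin n) (Fin n) F)}

/-- an invertible matrix conjugating `K` into itself normalizes `K`. -/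
theorem mem_normalizer_of_forall (g : GL (Fin n) F)
    (h : ∀ k ∈ K, (g : Matrix (Fin n) (Fin n) F) * k *
      ((g⁻¹ : GL (Fin n) F) : Matrix (Fin n) (Fin n) F) ∈ K) :
    g ∈ Cfsg.Geo.subalgebraNormalizer K := by
  set G : Matrix (Fin n) (Fin n) F := (g : Matrix (Fin n) (Fin n) F) with hG
  set Gi : Matrix (Fin n) (Fin n) F := ((g⁻¹ : GL (Fin n) F) : Matrix (Fin n) (Fin n) F) with hGi
  have hGGi : G * Gi = 1 := by rw [hG, hGi, ← Units.val_mul, mul_inv_cancel, Units.val_one]
  have hGiG : Gi * G = 1 := by rw [hG, hGi, ← Units.val_mul, inv_mul_cancel, Units.val_one]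
  let c : ↥K →ₗ[F] ↥K :=
    { toFun := fun k => ⟨G * k * Gi, h k k.2⟩
      map_add' := by
        intro a b
        apply Subtype.ext
        show G * ((a + b : ↥K) : Matrix (Fin n) (Fin n) F) * Gi =
          G * (a : Matrix (Fin n) (Fin n) F) * Gi + G * (b : Matrix (Fin n) (Fin n) F) * Gi
        rw [Subalgebra.coe_add, mul_add, add_mul]
      map_smul' := by
        intro r a
        apply Subtype.ext
        show G * ((r • a : ↥K) : Matrix (Fin n) (Fin n) F) * Gi =
          r • (G * (a : Matrix (Fin n) (Fin n) F) * Gi)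
        rw [Subalgebra.coe_smul, mul_smul_comm, smul_mul_assoc] }
  have hinj : Function.Injective c := by
    intro a b hab
    have h1 : G * (a : Matrix (Fin n) (Fin n) F) * Gi = G * (b : Matrix (Fin n) (Fin n) F) * Gi :=
      congrArg Subtype.val hab
    apply Subtype.ext
    calc (a : Matrix (Fin n) (Fin n) F) = Gi * (G * a * Gi) * G := by
          rw [← mul_assoc, ← mul_assoc, hGiG, one_mul, mul_assoc, hGiG, mul_one]
      _ = Gi * (G * b * Gi) * G := by rw [h1]
      _ = b := by rw [← mul_assoc, ← mul_assoc, hGiG, one_mul, mul_assoc, hGiG, mul_one]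
  have hsurj : Function.Surjective c := LinearMap.surjective_of_injective hinj
  show ∀ k : Matrix (Fin n) (Fin n) F, k ∈ K ↔ G * k * Gi ∈ K
  intro k
  constructor
  · intro hk
    exact h k hk
  · intro hk
    obtain ⟨k', hk'⟩ := hsurj ⟨G * k * Gi, hk⟩
    have h1 : G * (k' : Matrix (Fin n) (Fin n) F) * Gi = G * k * Gi := congrArg Subtype.val hk'
    have : (k' : Matrix (Fin n) (Fin n) F) = k := by
      calc (k' : Matrix (Fin n) (Fin n) F) = Gi * (G * k' * Gi) * G := by
            rw [← mul_assoc, ← mul_assoc, hGiG, one_mul, mul_assoc, hGiG, mul_one]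
        _ = Gi * (G * k * Gi) * G := by rw [h1]
        _ = k := by rw [← mul_assoc, ← mul_assoc, hGiG, one_mul, mul_assoc, hGiG, mul_one]
    rw [← this]
    exact k'.2

/-- the characteristic polynomial of a matrix of order `n` whose powers are independent. -/
theorem charpoly_of_indep (hn : 0 < n) (s : Matrix (Fin n) (Fin n) F) (hs : s ^ n = 1)
    (hind : ∀ a : ℕ → F, ∑ i ∈ Finset.range n, a i • s ^ i = 0 → ∀ i < n, a i = 0) :
    s.charpoly = X ^ n - 1 := by
  set P : F[X] := s.charpoly - (X ^ n - 1) with hP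
  have hmon : s.charpoly.Monic := Matrix.charpoly_monic s
  have hdeg : s.charpoly.natDegree = n := by
    rw [Matrix.charpoly_natDegree_eq_dim, Fintype.card_fin]
  have hcoeff_hi : ∀ m, n ≤ m → P.coeff m = 0 := by
    intro m hm
    rw [hP, Polynomial.coeff_sub, Polynomial.coeff_sub, Polynomial.coeff_X_pow,
      Polynomial.coeff_one]
    rcases Nat.eq_or_lt_of_le hm with rfl | hlt
    · have : s.charpoly.coeff n = 1 := by
        have := hmon.coeff_natDegree
        rwa [hdeg] at this
      rw [this, if_pos rfl, if_neg (by omega)]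
      ring
    · rw [Polynomial.coeff_eq_zero_of_natDegree_lt (by rw [hdeg]; exact hlt),
        if_neg (by omega), if_neg (by omega)]
      ring
  have hPdeg : P.natDegree < n := by
    by_cases hP0 : P = 0
    · rw [hP0, Polynomial.natDegree_zero]; exact hn
    · rw [Polynomial.natDegree_lt_iff_degree_lt hP0, Polynomial.degree_lt_iff_coeff_zero]
      exact hcoeff_hi
  have haeval : aeval s P = 0 := by
    rw [hP, map_sub, Matrix.aeval_self_charpoly, map_sub, map_pow, aeval_X, map_one, hs, sub_self,
      sub_zero]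
  have hsum : ∑ i ∈ Finset.range n, P.coeff i • s ^ i = 0 := by
    rw [← haeval]
    conv_rhs => rw [Polynomial.as_sum_range' P n hPdeg]
    rw [map_sum]
    apply Finset.sum_congr rfl
    intro i _
    rw [← Polynomial.C_mul_X_pow_eq_monomial, map_mul, map_pow, aeval_X, aeval_C,
      Algebra.algebraMap_eq_smul_one, smul_mul_assoc, one_mul]
  have hzero := hind (fun i => P.coeff i) hsum
  have : P = 0 := by
    ext m
    rw [Polynomial.coeff_zero]
    rcases Nat.lt_or_ge m n with hm | hm
    · exact hzero m hm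
    · exact hcoeff_hi m hm
  exact sub_eq_zero.1 this

end norm

section sl

open Polynomial

variable {F : Type*} [Field F] [Fintype F] {n : ℕ}
variable {K : Subalgebra F (Matrix (Fin n) (Fin n) F)}

/-- the Frobenius element as an element of `SL_n` (odd `n`). -/
theorem exists_frobenius_sl (hn : 0 < n) (hodd : Odd n) (hK : Cfsg.Geo.IsFieldSubalgebra n K) :
    ∃ s : SpecialLinearGroup (Fin n) F,
      SpecialLinearGroup.toGL s ∈ Cfsg.Geo.subalgebraNormalizer K ∧ s ^ n = 1 ∧
      (s : Matrix (Fin n) (Fin n) F).charpoly = X ^ n - 1 := by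
  obtain ⟨s₀, hsemi, hsn, hind⟩ := exists_frobenius hn hK
  have hchar := charpoly_of_indep hn s₀ hsn hind
  have hdet : s₀.det = 1 := by
    rw [Matrix.det_eq_sign_charpoly_coeff, hchar, Fintype.card_fin, Polynomial.coeff_sub,
      Polynomial.coeff_X_pow, if_neg (by omega), Polynomial.coeff_one_zero, hodd.neg_one_pow]
    ring
  obtain ⟨s, hs⟩ : ∃ s : SpecialLinearGroup (Fin n) F, (s : Matrix (Fin n) (Fin n) F) = s₀ :=
    ⟨⟨s₀, hdet⟩, rfl⟩
  have hval : ((SpecialLinearGroup.toGL s : GL (Fin n) F) : Matrix (Fin n) (Fin n) F) = s₀ := hs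
  refine ⟨s, ?_, ?_, by rw [hs]; exact hchar⟩
  · apply mem_normalizer_of_forall
    intro k hk
    rw [hval, hsemi k hk, mul_assoc]
    have : s₀ * (((SpecialLinearGroup.toGL s)⁻¹ : GL (Fin n) F) :
        Matrix (Fin n) (Fin n) F) = 1 := by
      rw [← hval, ← Units.val_mul, mul_inv_cancel, Units.val_one]
    rw [this, mul_one]
    exact K.pow_mem hk _
  · apply Subtype.ext
    rw [Matrix.SpecialLinearGroup.coe_pow, Matrix.SpecialLinearGroup.coe_one, hs]
    exact hsn

end sl

end Cfsg.Agent.Helper13.FN
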