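import Mathlib
import Cfsg.Agent.Lib.Helper13.FieldNorm2
import Cfsg.Agent.Lib.Helper13.SemisimpleCharpolyGL
import Cfsg.Agent.Lib.Helper2.CardSL

/-!
# Elements of prime order and normalizers of Singer fields (helper13)
-/

set_option autoImplicit false
set_option linter.style.haveILetI false
set_option linter.unusedSectionVars false
set_option linter.unusedVariables false

namespace Cfsg.Agent.Helper13.FN

open Matrix Cfsg.Agent.Helper12.FieldSub

section notconj

variable {F : Type*} [Field F] {n : ℕ}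
variable {K : Subalgebra F (Matrix (Fin n) (Fin n) F)}

/-- a non-scalar element of `SL_n` with a two-dimensional eigenspace is not conjugate into the
normalizer of a Singer field of prime degree. -/
theorem not_conj_of_eigen (hn : n.Prime) (hK : Cfsg.Geo.IsFieldSubalgebra n K)
    (x : SpecialLinearGroup (Fin n) F) (l : F) (v w : Fin n → F)
    (hv : (x : Matrix (Fin n) (Fin n) F) *ᵥ v = l • v)
    (hw : (x : Matrix (Fin n) (Fin n) F) *ᵥ w = l • w) (hv0 : v ≠ 0)
    (hvw : ¬ ∃ c : F, w = c • v)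
    (hns : ∀ z : F, (x : Matrix (Fin n) (Fin n) F) ≠ z • (1 : Matrix (Fin n) (Fin n) F))
    (P : SpecialLinearGroup (Fin n) F)
    (hP : P⁻¹ * x * P ∈ (Cfsg.Geo.subalgebraNormalizer K).comap
      (SpecialLinearGroup.toGL : SpecialLinearGroup (Fin n) F →* GL (Fin n) F)) : False := by
  rw [Subgroup.mem_comap] at hP
  set y : GL (Fin n) F := SpecialLinearGroup.toGL (P⁻¹ * x * P) with hy
  have hyval : (y : Matrix (Fin n) (Fin n) F) =
      (P⁻¹ : SpecialLinearGroup (Fin n) F).1 * x.1 * P.1 := by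
    rw [hy]
    rfl
  have hPiP : (P⁻¹ : SpecialLinearGroup (Fin n) F).1 * P.1 = 1 := by
    rw [← Matrix.SpecialLinearGroup.coe_mul, inv_mul_cancel, Matrix.SpecialLinearGroup.coe_one]
  have hPPi : P.1 * (P⁻¹ : SpecialLinearGroup (Fin n) F).1 = 1 := by
    rw [← Matrix.SpecialLinearGroup.coe_mul, mul_inv_cancel, Matrix.SpecialLinearGroup.coe_one]
  have hnorm : ∀ k ∈ K, (y : Matrix (Fin n) (Fin n) F) * k *
      ((y⁻¹ : GL (Fin n) F) : Matrix (Fin n) (Fin n) F) ∈ K := fun k hk => (hP k).1 hk
  set Pi : Matrix (Fin n) (Fin n) F := (P⁻¹ : SpecialLinearGroup (Fin n) F).1 with hPi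
  have hev : ∀ u : Fin n → F, x.1 *ᵥ u = l • u →
      (y : Matrix (Fin n) (Fin n) F) *ᵥ (Pi *ᵥ u) = l • (Pi *ᵥ u) := by
    intro u hu
    rw [hyval, Matrix.mulVec_mulVec, mul_assoc, mul_assoc, hPPi, mul_one,
      ← Matrix.mulVec_mulVec, hu, Matrix.mulVec_smul]
  have hinj : ∀ u : Fin n → F, Pi *ᵥ u = 0 → u = 0 := by
    intro u hu
    have : (P.1 * Pi) *ᵥ u = 0 := by rw [← Matrix.mulVec_mulVec, hu, Matrix.mulVec_zero]
    rwa [hPPi, Matrix.one_mulVec] at this
  have hscal := scalar_of_eigen hn hK y hnorm l (Pi *ᵥ v) (Pi *ᵥ w) (hev v hv) (hev w hw)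
    (fun h => hv0 (hinj v h)) (by
      rintro ⟨c, hc⟩
      apply hvw
      refine ⟨c, ?_⟩
      have : Pi *ᵥ (w - c • v) = 0 := by
        rw [Matrix.mulVec_sub, Matrix.mulVec_smul, hc, sub_self]
      exact sub_eq_zero.1 (hinj _ this))
  apply hns l
  have : x.1 = P.1 * (y : Matrix (Fin n) (Fin n) F) * Pi := by
    rw [hyval]
    calc x.1 = (P.1 * Pi) * x.1 * (P.1 * Pi) := by rw [hPPi, one_mul, mul_one]
      _ = P.1 * (Pi * x.1 * P.1) * Pi := by simp only [mul_assoc]
  rw [this, hscal, mul_smul_comm, mul_one, smul_mul_assoc, hPPi]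

end notconj

section cube

open Polynomial

variable {F : Type*} [Field F]

/-- the characteristic polynomial of a non-scalar `3 × 3` matrix of determinant one whose cube
is a scalar without cube roots other than for `1`. -/
theorem charpoly_of_cube (M : Matrix (Fin 3) (Fin 3) F) (z : F)
    (hM : M ^ 3 = z • (1 : Matrix (Fin 3) (Fin 3) F)) (hdet : M.det = 1)
    (hns : ∀ c : F, M ≠ c • (1 : Matrix (Fin 3) (Fin 3) F))
    (hroot : ∀ a : F, a ^ 3 = z → z = 1) :
    M.charpoly = X ^ 3 - 1 := by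
  set p := M.charpoly with hp
  have hmon : p.Monic := Matrix.charpoly_monic M
  have hdeg : p.natDegree = 3 := by
    rw [hp, Matrix.charpoly_natDegree_eq_dim, Fintype.card_fin]
  have hform : p = X ^ 3 + C (p.coeff 2) * X ^ 2 + C (p.coeff 1) * X + C (p.coeff 0) := by
    conv_lhs => rw [Polynomial.as_sum_range' p 4 (by rw [hdeg]; norm_num)]
    simp only [Finset.sum_range_succ, Finset.sum_range_zero, zero_add,
      ← C_mul_X_pow_eq_monomial, pow_zero, mul_one, pow_one]
    have h3 : p.coeff 3 = 1 := by rw [← hdeg]; exact hmon.coeff_natDegree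
    rw [h3, map_one, one_mul]
    ring
  have hc0 : p.coeff 0 = -1 := by
    have := Matrix.det_eq_sign_charpoly_coeff M
    rw [hdet, Fintype.card_fin, ← hp] at this
    linear_combination this
  have hCH : aeval M p = 0 := Matrix.aeval_self_charpoly M
  rw [hform] at hCH
  simp only [map_add, map_mul, map_pow, aeval_X, aeval_C,
    Algebra.algebraMap_eq_smul_one] at hCH
  rw [hM, hc0, smul_mul_assoc, one_mul, smul_mul_assoc, one_mul] at hCH
  -- `c₂ M² + c₁ M + (z - 1) = 0`
  set c2 := p.coeff 2 with hc2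
  set c1 := p.coeff 1 with hc1
  have hrel : c2 • M ^ 2 + c1 • M + (z - 1) • (1 : Matrix (Fin 3) (Fin 3) F) = 0 := by
    rw [sub_smul, ← hCH]
    simp only [neg_smul, one_smul]
    abel
  have hscal : ∀ a b : F, a • M = b • (1 : Matrix (Fin 3) (Fin 3) F) → a = 0 := by
    intro a b hab
    by_contra ha
    apply hns (a⁻¹ * b)
    rw [mul_smul, ← hab, smul_smul, inv_mul_cancel₀ ha, one_smul]
  have hone : ∀ b : F, b • (1 : Matrix (Fin 3) (Fin 3) F) = 0 → b = 0 := by
    intro b hb
    have h00 := congrFun (congrFun hb 0) 0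
    simpa using h00
  by_cases h2 : c2 = 0
  · rw [h2, zero_smul, zero_add] at hrel
    have h1 : c1 = 0 := by
      apply hscal c1 (-(z - 1))
      rw [neg_smul]
      exact eq_neg_of_add_eq_zero_left hrel
    rw [h1, zero_smul, zero_add] at hrel
    have hz : z - 1 = 0 := hone _ hrel
    rw [hform, hc0, h2, h1]
    simp only [map_zero, zero_mul, add_zero, map_neg, map_one]
    ring
  · exfalso
    -- `M² = α M + β`
    set α := -(c1 / c2) with hα
    set β := -((z - 1) / c2) with hβ
    have hsq : M ^ 2 = α • M + β • (1 : Matrix (Fin 3) (Fin 3) F) := by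
      have h1 : c2 • M ^ 2 = -(c1 • M) - (z - 1) • (1 : Matrix (Fin 3) (Fin 3) F) := by
        rw [← sub_eq_zero, ← hrel]
        abel
      have h2' := congrArg (fun X => c2⁻¹ • X) h1
      simp only [smul_smul, inv_mul_cancel₀ h2, one_smul, smul_sub, smul_neg] at h2'
      rw [h2', hα, hβ, neg_smul, neg_smul, div_eq_inv_mul, div_eq_inv_mul]
      abel
    have hcube : M ^ 3 = (α ^ 2 + β) • M + (α * β) • (1 : Matrix (Fin 3) (Fin 3) F) := by
      rw [pow_succ, hsq, add_mul, smul_mul_assoc, smul_mul_assoc, one_mul, ← pow_two, hsq,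
        smul_add, smul_smul, smul_smul, add_smul, pow_two]
      abel
    rw [hM] at hcube
    have h3 : α ^ 2 + β = 0 := by
      apply hscal (α ^ 2 + β) (z - α * β)
      rw [sub_smul, hcube]
      abel
    rw [h3, zero_smul, zero_add] at hcube
    have h4 : z = α * β := by
      have := hone (z - α * β) (by rw [sub_smul, hcube, sub_self])
      exact sub_eq_zero.1 this
    have hβ' : β = -α ^ 2 := by linear_combination h3
    have h5 : (-α) ^ 3 = z := by rw [h4, hβ']; ring
    have hz1 := hroot (-α) h5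
    -- now `z = 1`, so `β = 0`
    have hβ0 : β = 0 := by rw [hβ, hz1, sub_self, zero_div, neg_zero]
    rw [hβ0, mul_zero] at h4
    rw [h4] at hz1
    exact zero_ne_one hz1

end cube

end Cfsg.Agent.Helper13.FN
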