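import Mathlib
import Cfsg.Agent.Lib.Helper13.FieldNorm3

/-!
# Elements of order three in `SL₃` and Singer normalizers (helper13)
-/

set_option autoImplicit false
set_option linter.style.haveILetI false
set_option linter.unusedSectionVars false
set_option linter.unusedVariables false

namespace Cfsg.Agent.Helper13.FN

open Matrix

section three0


variable {F : Type*} [Field F] [Fintype F]

theorem card_sl3_int :
    (Nat.card (SpecialLinearGroup (Fin 3) F) : ℤ) =
      (Fintype.card F : ℤ) ^ 3 * ((Fintype.card F : ℤ) ^ 3 - 1) * ((Fintype.card F : ℤ) ^ 2 - 1) := by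
  have hcs := Cfsg.Agent.Helper2.card_SL_mul (F := F) 3 (by norm_num)
  set p := Fintype.card F with hp
  have hp2 : 2 ≤ p := Fintype.one_lt_card
  rw [Fin.prod_univ_three] at hcs
  simp only [Fin.val_zero, Fin.val_one, Fin.val_two, pow_zero, pow_one] at hcs
  have h1 : (1 : ℕ) ≤ p ^ 3 := Nat.one_le_pow _ _ (by omega)
  have h2 : p ≤ p ^ 3 := by
    calc p = p ^ 1 := (pow_one p).symm
      _ ≤ p ^ 3 := Nat.pow_le_pow_right (by omega) (by norm_num)
  have h3' : p ^ 2 ≤ p ^ 3 := Nat.pow_le_pow_right (by omega) (by norm_num)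
  have hz := congrArg (fun n : ℕ => (n : ℤ)) hcs
  simp only [Nat.cast_mul, Nat.cast_sub h1, Nat.cast_sub h2, Nat.cast_sub h3',
    Nat.cast_sub (show 1 ≤ p by omega), Nat.cast_pow, Nat.cast_one] at hz
  have hne : ((p : ℤ) - 1) ≠ 0 := by
    have : (2 : ℤ) ≤ p := by exact_mod_cast hp2
    omega
  apply mul_left_cancel₀ hne
  rw [hz]
  ring

theorem mod9 : ∀ m : ZMod 9, (m.val = 2 ∨ m.val = 5) →
    m ^ 3 * (m ^ 3 - 1) * (m ^ 2 - 1) ≠ 0 := by decide

theorem nine_not_dvd_card_sl3 (h : Fintype.card F % 9 = 2 ∨ Fintype.card F % 9 = 5) :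
    ¬ 9 ∣ Nat.card (SpecialLinearGroup (Fin 3) F) := by
  intro h9
  have h9z : (9 : ℤ) ∣ (Fintype.card F : ℤ) ^ 3 * ((Fintype.card F : ℤ) ^ 3 - 1) *
      ((Fintype.card F : ℤ) ^ 2 - 1) := by
    rw [← card_sl3_int]
    exact_mod_cast h9
  have hzm : ((Fintype.card F : ZMod 9)) ^ 3 * ((Fintype.card F : ZMod 9) ^ 3 - 1) *
      ((Fintype.card F : ZMod 9) ^ 2 - 1) = 0 := by
    have := (ZMod.intCast_zmod_eq_zero_iff_dvd _ 9).2 h9z
    push_cast at this
    exact this
  apply mod9 (Fintype.card F : ZMod 9) _ hzm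
  rw [ZMod.val_natCast]
  exact h

end three0

section three1


variable {F : Type*} [Field F]

theorem exists_bad_char3 [CharP F 3] : ∃ x : SpecialLinearGroup (Fin 3) F,
    (x ^ 3 : SpecialLinearGroup (Fin 3) F).1 = (1 : F) • (1 : Matrix (Fin 3) (Fin 3) F) ∧
    (∀ z : F, x.1 ≠ z • (1 : Matrix (Fin 3) (Fin 3) F)) ∧
    ∃ v w : Fin 3 → F, x.1 *ᵥ v = (1 : F) • v ∧ x.1 *ᵥ w = (1 : F) • w ∧ v ≠ 0 ∧
      ¬ ∃ c : F, w = c • v := by
  set M : Matrix (Fin 3) (Fin 3) F := Matrix.transvection 0 1 1 with hM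
  have hdet : M.det = 1 := Matrix.det_transvection_of_ne 0 1 (by decide) 1
  obtain ⟨x, hx⟩ : ∃ x : SpecialLinearGroup (Fin 3) F, x.1 = M := ⟨⟨M, hdet⟩, rfl⟩
  have h3 : (3 : F) = 0 := by
    have := CharP.cast_eq_zero F 3
    exact_mod_cast this
  refine ⟨x, ?_, ?_, Pi.single 0 1, Pi.single 2 1, ?_, ?_, ?_, ?_⟩
  · rw [Matrix.SpecialLinearGroup.coe_pow, hx, one_smul, pow_succ, pow_two, hM,
      Matrix.transvection_mul_transvection_same 0 1 (by decide : (0 : Fin 3) ≠ 1),
      Matrix.transvection_mul_transvection_same 0 1 (by decide : (0 : Fin 3) ≠ 1)]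
    have : (1 : F) + 1 + 1 = 0 := by rw [← h3]; norm_num
    rw [this, Matrix.transvection_zero]
  · intro z hz
    rw [hx] at hz
    have := congrFun (congrFun hz 0) 1
    simp [hM, Matrix.transvection, Matrix.single] at this
  · rw [hx, hM, Matrix.transvection, Matrix.add_mulVec, Matrix.one_mulVec, one_smul]
    ext i
    fin_cases i <;> simp [Matrix.single]
  · rw [hx, hM, Matrix.transvection, Matrix.add_mulVec, Matrix.one_mulVec, one_smul]
    ext i
    fin_cases i <;> simp [Matrix.single]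
  · intro h
    have := congrFun h 0
    simp at this
  · rintro ⟨c, hc⟩
    have := congrFun hc 2
    simp at this

end three1

section three2


variable {F : Type*} [Field F]

theorem exists_bad_nine [Fintype F] (h9 : 9 ∣ Fintype.card F - 1) :
    ∃ x : SpecialLinearGroup (Fin 3) F,
    (∃ z : F, (x ^ 3 : SpecialLinearGroup (Fin 3) F).1 = z • (1 : Matrix (Fin 3) (Fin 3) F)) ∧
    (∀ z : F, x.1 ≠ z • (1 : Matrix (Fin 3) (Fin 3) F)) ∧
    ∃ (l : F) (v w : Fin 3 → F), x.1 *ᵥ v = l • v ∧ x.1 *ᵥ w = l • w ∧ v ≠ 0 ∧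
      ¬ ∃ c : F, w = c • v := by
  classical
  obtain ⟨ε, hε⟩ : ∃ ε : Fˣ, orderOf ε = 9 := by
    have h1 := IsCyclic.card_orderOf_eq_totient (α := Fˣ) (d := 9)
      (by rw [Fintype.card_units]; exact h9)
    have h2 : 0 < (9 : ℕ).totient := Nat.totient_pos.2 (by norm_num)
    rw [← h1] at h2
    obtain ⟨ε, hε⟩ := Finset.card_pos.1 h2
    exact ⟨ε, (Finset.mem_filter.1 hε).2⟩
  have hε9 : (ε : F) ^ 9 = 1 := by
    rw [← Units.val_pow_eq_pow_val, ← hε, pow_orderOf_eq_one, Units.val_one]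
  have hε6 : (ε : F) ^ 6 ≠ 1 := by
    intro h
    have h' : ε ^ 6 = 1 := by
      apply Units.ext
      rw [Units.val_pow_eq_pow_val, h, Units.val_one]
    have := orderOf_dvd_of_pow_eq_one h'
    rw [hε] at this
    omega
  have hε0 : (ε : F) ≠ 0 := ε.ne_zero
  set d : Fin 3 → F := ![(ε : F), (ε : F), (ε : F) ^ 7] with hd
  set M : Matrix (Fin 3) (Fin 3) F := Matrix.diagonal d with hM
  have hdet : M.det = 1 := by
    rw [hM, Matrix.det_diagonal, Fin.prod_univ_three]
    simp only [hd, Matrix.cons_val_zero, Matrix.cons_val_one, Matrix.cons_val_two,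
      Matrix.head_cons, Matrix.tail_cons]
    rw [← hε9]
    ring
  obtain ⟨x, hx⟩ : ∃ x : SpecialLinearGroup (Fin 3) F, x.1 = M := ⟨⟨M, hdet⟩, rfl⟩
  refine ⟨x, ⟨(ε : F) ^ 3, ?_⟩, ?_, (ε : F), Pi.single 0 1, Pi.single 1 1, ?_, ?_, ?_, ?_⟩
  · rw [Matrix.SpecialLinearGroup.coe_pow, hx, hM, Matrix.diagonal_pow,
      Matrix.smul_one_eq_diagonal]
    congr 1
    funext i
    fin_cases i
    · simp [hd]
    · simp [hd]
    · simp only [hd, Pi.pow_apply]
      show ((ε : F) ^ 7) ^ 3 = (ε : F) ^ 3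
      calc ((ε : F) ^ 7) ^ 3 = ((ε : F) ^ 9) ^ 2 * (ε : F) ^ 3 := by ring
        _ = (ε : F) ^ 3 := by rw [hε9, one_pow, one_mul]
  · intro z hz
    rw [hx, hM, Matrix.smul_one_eq_diagonal] at hz
    have h0 := congrFun (Matrix.diagonal_injective hz) 0
    have h2 := congrFun (Matrix.diagonal_injective hz) 2
    simp only [hd, Matrix.cons_val_zero, Matrix.cons_val_two, Matrix.head_cons,
      Matrix.tail_cons] at h0 h2
    apply hε6
    have : (ε : F) ^ 7 = (ε : F) := by rw [h2, ← h0]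
    have h3 : (ε : F) * ((ε : F) ^ 6 - 1) = 0 := by
      linear_combination this
    rcases mul_eq_zero.1 h3 with h | h
    · exact absurd h hε0
    · exact sub_eq_zero.1 h
  · rw [hx, hM, Matrix.diagonal_mulVec_single, mul_one, ← Pi.single_smul, smul_eq_mul, mul_one]
    simp [hd]
  · rw [hx, hM, Matrix.diagonal_mulVec_single, mul_one, ← Pi.single_smul, smul_eq_mul, mul_one]
    simp [hd]
  · intro h
    have := congrFun h 0
    simp at this
  · rintro ⟨c, hc⟩
    have := congrFun hc 1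
    simp at this

end three2

section three3


open Polynomial

variable {F : Type*} [Field F] [Fintype F]

theorem char_dvd_card (p : ℕ) [Fact p.Prime] [CharP F p] : p ∣ Fintype.card F := by
  have : (Fintype.card F : F) = 0 := Nat.cast_card_eq_zero F
  exact (CharP.cast_eq_zero_iff F p _).1 this

theorem conj_of_cube3 (p : ℕ) [Fact p.Prime] [CharP F p]
    (hq : Fintype.card F % 9 = 4 ∨ Fintype.card F % 9 = 7 ∨ Fintype.card F % 9 = 8)
    {K : Subalgebra F (Matrix (Fin 3) (Fin 3) F)} (hK : Cfsg.Geo.IsFieldSubalgebra 3 K)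
    (x : SpecialLinearGroup (Fin 3) F) (z : F)
    (hz : (x ^ 3 : SpecialLinearGroup (Fin 3) F).1 = z • (1 : Matrix (Fin 3) (Fin 3) F))
    (hns : ∀ z : F, x.1 ≠ z • (1 : Matrix (Fin 3) (Fin 3) F)) :
    ∃ P : SpecialLinearGroup (Fin 3) F, P⁻¹ * x * P ∈ (Cfsg.Geo.subalgebraNormalizer K).comap
      (SpecialLinearGroup.toGL : SpecialLinearGroup (Fin 3) F →* GL (Fin 3) F) := by
  classical
  have hp : p.Prime := Fact.out
  have hp3 : p ≠ 3 := by
    intro h
    have h1 : p ∣ Fintype.card F := char_dvd_card p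
    rw [h] at h1
    omega
  have hz3 : z ^ 3 = 1 := by
    have h1 := congrArg Matrix.det hz
    rw [(x ^ 3).2, Matrix.det_smul, Matrix.det_one, mul_one, Fintype.card_fin] at h1
    exact h1.symm
  have hroot : ∀ a : F, a ^ 3 = z → z = 1 := by
    intro a ha
    by_contra hz1
    have ha9 : a ^ 9 = 1 := by
      calc a ^ 9 = (a ^ 3) ^ 3 := by ring
        _ = 1 := by rw [ha, hz3]
    have ha0 : a ≠ 0 := by
      intro h
      rw [h] at ha9
      norm_num at ha9
    set u : Fˣ := Units.mk0 a ha0 with hu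
    have hu9 : u ^ 9 = 1 := by
      apply Units.ext
      rw [Units.val_pow_eq_pow_val, Units.val_one]
      exact ha9
    have hd9 : orderOf u ∣ 3 ^ 2 := orderOf_dvd_of_pow_eq_one hu9
    have hdq : orderOf u ∣ Fintype.card F - 1 := by
      rw [← Fintype.card_units]
      exact orderOf_dvd_card
    have hn3 : ¬ orderOf u ∣ 3 := by
      intro h
      have h1 : u ^ 3 = 1 := orderOf_dvd_iff_pow_eq_one.1 h
      apply hz1
      rw [← ha]
      have := congrArg Units.val h1
      rwa [Units.val_pow_eq_pow_val, Units.val_one] at this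
    obtain ⟨m, hm, hmo⟩ := (Nat.dvd_prime_pow Nat.prime_three).1 hd9
    interval_cases m
    · rw [hmo] at hn3
      norm_num at hn3
    · rw [hmo] at hn3
      norm_num at hn3
    · rw [hmo] at hdq
      have : 0 < Fintype.card F := Fintype.card_pos
      omega
  have hM3 : x.1 ^ 3 = z • (1 : Matrix (Fin 3) (Fin 3) F) := by
    rw [← Matrix.SpecialLinearGroup.coe_pow]
    exact hz
  have hchar : x.1.charpoly = X ^ 3 - 1 := charpoly_of_cube x.1 z hM3 x.2 hns hroot
  have hx3 : x ^ 3 = 1 := by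
    apply Subtype.ext
    rw [Matrix.SpecialLinearGroup.coe_pow, Matrix.SpecialLinearGroup.coe_one]
    have := Matrix.aeval_self_charpoly x.1
    rw [hchar, map_sub, map_pow, aeval_X, map_one, sub_eq_zero] at this
    exact this
  obtain ⟨s, hsN, hs3, hschar⟩ := exists_frobenius_sl (by norm_num : 0 < 3) (by decide : Odd 3) hK
  have hcop : Nat.Coprime 3 p := (Nat.coprime_primes Nat.prime_three hp).2 (Ne.symm hp3)
  have hox : (orderOf x).Coprime p :=
    Nat.Coprime.coprime_dvd_left (orderOf_dvd_of_pow_eq_one hx3) hcop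
  have hos : (orderOf s).Coprime p :=
    Nat.Coprime.coprime_dvd_left (orderOf_dvd_of_pow_eq_one hs3) hcop
  have hconj := Cfsg.Agent.Helper13.SS.sl_isConj_of_charpoly_eq (p := p) s x hos hox
    (by rw [hschar, hchar])
  obtain ⟨c, hc⟩ := isConj_iff.1 hconj
  refine ⟨c, ?_⟩
  rw [Subgroup.mem_comap, ← hc]
  have : c⁻¹ * (c * s * c⁻¹) * c = s := by group
  rw [this]
  exact hsN

theorem three_dvd_card_normalizer (p : ℕ) [Fact p.Prime] [CharP F p] (hp3 : p ≠ 3)
    {K : Subalgebra F (Matrix (Fin 3) (Fin 3) F)} (hK : Cfsg.Geo.IsFieldSubalgebra 3 K) :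
    3 ∣ Nat.card ↥((Cfsg.Geo.subalgebraNormalizer K).comap
      (SpecialLinearGroup.toGL : SpecialLinearGroup (Fin 3) F →* GL (Fin 3) F)) := by
  have hp : p.Prime := Fact.out
  obtain ⟨s, hsN, hs3, hschar⟩ := exists_frobenius_sl (by norm_num : 0 < 3) (by decide : Odd 3) hK
  have hs1 : s ≠ 1 := by
    intro h
    have h1 := Matrix.trace_eq_neg_charpoly_coeff s.1
    rw [hschar, h, Matrix.SpecialLinearGroup.coe_one, Matrix.trace_one, Fintype.card_fin] at h1
    simp only [Nat.add_one_sub_one, coeff_sub, coeff_X_pow, coeff_one] at h1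
    norm_num at h1
    have h2 : ((3 : ℕ) : F) = 0 := by exact_mod_cast h1
    have h3 := (CharP.cast_eq_zero_iff F p 3).1 h2
    exact hp3 ((Nat.prime_dvd_prime_iff_eq hp Nat.prime_three).1 h3)
  haveI : Fact (Nat.Prime 3) := ⟨Nat.prime_three⟩
  set H := (Cfsg.Geo.subalgebraNormalizer K).comap
      (SpecialLinearGroup.toGL : SpecialLinearGroup (Fin 3) F →* GL (Fin 3) F) with hH
  have hsH : s ∈ H := Subgroup.mem_comap.2 hsN
  have ho : orderOf (⟨s, hsH⟩ : H) = 3 := by
    rw [Subgroup.orderOf_mk]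
    exact orderOf_eq_prime hs3 hs1
  have := orderOf_dvd_natCard (⟨s, hsH⟩ : H)
  rwa [ho] at this

end three3

end Cfsg.Agent.Helper13.FN
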