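import Mathlib
import Cfsg.Agent.Lib.Helper13.FieldNorm4
import Cfsg.Agent.Lib.Helper13.SemisimpleGL
import Cfsg.Agent.Lib.Helper13.SemisimpleCharpoly

/-!
# Elements of prime order `n` in `SL_n` and Singer normalizers (helper13)
-/

set_option autoImplicit false
set_option linter.style.haveILetI false
set_option linter.unusedSectionVars false
set_option linter.unusedVariables false

namespace Cfsg.Agent.Helper13.FN

open Matrix Polynomial Cfsg.Agent.Helper13.SS

section primeA

variable {F : Type*} [Field F] [Fintype F] {p : ℕ} [Fact p.Prime] [CharP F p] {q : ℕ}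

theorem not_dvd_of_orderOf_ne_one (n : ℕ) (hn : n.Prime) (hq : 0 < q)
    (hc1 : orderOf (q : ZMod n) ≠ 1) : ¬ n ∣ q - 1 := by
  intro h
  apply hc1
  rw [orderOf_eq_one_iff]
  have h1 := (ZMod.natCast_eq_zero_iff (q - 1) n).2 h
  rw [Nat.cast_sub hq, Nat.cast_one, sub_eq_zero] at h1
  exact h1

/-- an element of a finite field whose `n`-th power is one is one, if `n` is a prime not
dividing `q - 1`. -/
theorem eq_one_of_pow_prime (hF : Fintype.card F = q) (n : ℕ) (hn : n.Prime)
    (hnq : ¬ n ∣ q - 1) (z : F) (hz : z ^ n = 1) : z = 1 := by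
  classical
  have hz0 : z ≠ 0 := by
    intro h
    rw [h, zero_pow hn.ne_zero] at hz
    exact zero_ne_one hz
  set u : Fˣ := Units.mk0 z hz0 with hu
  have hun : u ^ n = 1 := by
    apply Units.ext
    rw [Units.val_pow_eq_pow_val, Units.val_one]
    exact hz
  have hdn : orderOf u ∣ n := orderOf_dvd_of_pow_eq_one hun
  have hdq : orderOf u ∣ q - 1 := by
    rw [← hF, ← Fintype.card_units]
    exact orderOf_dvd_card
  rcases (Nat.dvd_prime hn).1 hdn with h | h
  · have : u = 1 := orderOf_eq_one_iff.1 h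
    have := congrArg Units.val this
    rwa [Units.val_one] at this
  · rw [h] at hdq
    exact absurd hdq hnq

theorem fixed_of_mem_ker {n : ℕ} (g : GL (Fin n) F) (u : Fin n → F)
    (hu : u ∈ LinearMap.ker (aeval (L g) (X - 1 : F[X]))) :
    (g : Matrix (Fin n) (Fin n) F) *ᵥ u = (1 : F) • u := by
  rw [LinearMap.mem_ker, map_sub, aeval_X, map_one, LinearMap.sub_apply, sub_eq_zero] at hu
  rw [one_smul]
  exact hu

theorem exists_bad_of_ne_one (hF : Fintype.card F = q) (n : ℕ) (hn : n.Prime) (hn3 : 3 < n)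
    (hnp : n ≠ p) (hc1 : orderOf (q : ZMod n) ≠ 1) (hc : orderOf (q : ZMod n) ≠ n - 1) :
    ∃ x : SpecialLinearGroup (Fin n) F, x ^ n = 1 ∧
      (∀ z : F, x.1 ≠ z • (1 : Matrix (Fin n) (Fin n) F)) ∧
      ∃ v w : Fin n → F, x.1 *ᵥ v = (1 : F) • v ∧ x.1 *ᵥ w = (1 : F) • w ∧ v ≠ 0 ∧
        ¬ ∃ c : F, w = c • v := by
  classical
  have hqpos : 0 < q := by rw [← hF]; exact Fintype.card_pos
  set c := orderOf (q : ZMod n) with hcdef
  have hcard : (cycFactors F n).card * c = n - 1 := cycFactors_card hF hn hnp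
  have hcard2 : 2 ≤ (cycFactors F n).card := by
    by_contra h
    have h' : (cycFactors F n).card = 0 ∨ (cycFactors F n).card = 1 := by omega
    rcases h' with h' | h'
    · rw [h', zero_mul] at hcard
      omega
    · rw [h', one_mul] at hcard
      exact hc hcard
  have hc2 : 2 * c ≤ n - 1 := by
    rw [← hcard]
    exact Nat.mul_le_mul_right c hcard2
  have hcpos : 0 < c := by
    rcases Nat.eq_zero_or_pos c with h | h
    · rw [h, mul_zero] at hcard
      omega
    · exact h
  obtain ⟨f₀, hf₀⟩ : (cycFactors F n).Nonempty := Finset.card_pos.1 (by omega)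
  set b : F[X] → ℕ := fun f => if f = f₀ then 1 else 0 with hb
  have hbsum : ∑ f ∈ cycFactors F n, b f = 1 := by
    simp only [hb]
    rw [Finset.sum_ite_eq', if_pos hf₀]
  obtain ⟨g, hgn, hgk⟩ := exists_gl_of_mult (n := n) hF hn hnp b (by rw [hbsum, one_mul]; omega)
  have hfin := finrank_eq hn hnp g hgn
  have hsum : ∑ f ∈ cycFactors F n, kdim (L g) f = c := by
    rw [Finset.sum_congr rfl hgk, ← Finset.sum_mul, hbsum, one_mul]
  rw [hsum] at hfin
  -- the determinant
  have hnq : ¬ n ∣ q - 1 := not_dvd_of_orderOf_ne_one n hn hqpos hc1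
  have hdet : (g : Matrix (Fin n) (Fin n) F).det = 1 := by
    apply eq_one_of_pow_prime hF n hn hnq
    rw [← Matrix.det_pow, ← Units.val_pow_eq_pow_val, hgn, Units.val_one, Matrix.det_one]
  obtain ⟨x, hx⟩ : ∃ x : SpecialLinearGroup (Fin n) F, x.1 = (g : Matrix (Fin n) (Fin n) F) :=
    ⟨⟨_, hdet⟩, rfl⟩
  set W := LinearMap.ker (aeval (L g) (X - 1 : F[X])) with hW
  have hWdim : Module.finrank F W = n - c := by
    have : Module.finrank F W = kdim (L g) (X - 1) := rfl
    omega
  have hW2 : 1 < Module.finrank F W := by omega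
  obtain ⟨v, hv0⟩ := Module.finrank_pos_iff_exists_ne_zero.1 (by omega : 0 < Module.finrank F W)
  obtain ⟨w, hvw⟩ := exists_linearIndependent_pair_of_one_lt_finrank hW2 hv0
  refine ⟨x, ?_, ?_, (v : Fin n → F), (w : Fin n → F), ?_, ?_, ?_, ?_⟩
  · apply Subtype.ext
    rw [Matrix.SpecialLinearGroup.coe_pow, hx, ← Units.val_pow_eq_pow_val, hgn, Units.val_one,
      Matrix.SpecialLinearGroup.coe_one]
  · intro z hz
    rw [hx] at hz
    have hfix := fixed_of_mem_ker g v v.2
    rw [hz, Matrix.smul_mulVec, Matrix.one_mulVec, one_smul] at hfix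
    have hz1 : z = 1 := by
      by_contra hne
      apply hv0
      apply Subtype.ext
      have h1 : (z - 1) • (v : Fin n → F) = 0 := by rw [sub_smul, hfix, one_smul, sub_self]
      rcases smul_eq_zero.1 h1 with h | h
      · exact absurd (sub_eq_zero.1 h) hne
      · exact h
    rw [hz1, one_smul] at hz
    have hWtop : W = ⊤ := by
      rw [eq_top_iff]
      intro u _
      rw [hW, LinearMap.mem_ker, map_sub, aeval_X, map_one, LinearMap.sub_apply, sub_eq_zero]
      show Matrix.toLin' (g : Matrix (Fin n) (Fin n) F) u = u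
      rw [hz, Matrix.toLin'_one]
      rfl
    rw [hWtop, finrank_top, Module.finrank_fin_fun] at hWdim
    omega
  · rw [hx]
    exact fixed_of_mem_ker g v v.2
  · rw [hx]
    exact fixed_of_mem_ker g w w.2
  · intro h
    apply hv0
    exact Subtype.ext h
  · rintro ⟨a, ha⟩
    have := LinearIndependent.pair_iff.1 hvw a (-1) (by
      apply Subtype.ext
      simp only [Submodule.coe_add, Submodule.coe_smul, neg_smul, one_smul, Submodule.coe_neg,
        ZeroMemClass.coe_zero]
      rw [ha]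
      abel)
    have h2 := this.2
    norm_num at h2

end primeA

section primeB

variable {F : Type*} [Field F] [Fintype F] {q : ℕ}

theorem exists_bad_of_dvd (hF : Fintype.card F = q) (n : ℕ) (hn : n.Prime) (hn3 : 3 < n)
    (hnq : n ∣ q - 1) :
    ∃ x : SpecialLinearGroup (Fin n) F, x ^ n = 1 ∧
      (∀ z : F, x.1 ≠ z • (1 : Matrix (Fin n) (Fin n) F)) ∧
      ∃ v w : Fin n → F, x.1 *ᵥ v = (1 : F) • v ∧ x.1 *ᵥ w = (1 : F) • w ∧ v ≠ 0 ∧
        ¬ ∃ c : F, w = c • v := by
  classical
  haveI : Fact n.Prime := ⟨hn⟩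
  obtain ⟨ω, hω⟩ := exists_prime_orderOf_dvd_card (G := Fˣ) n
    (by rw [Fintype.card_units, hF]; exact hnq)
  have hωn : (ω : F) ^ n = 1 := by
    rw [← Units.val_pow_eq_pow_val, ← hω, pow_orderOf_eq_one, Units.val_one]
  have hω1 : (ω : F) ≠ 1 := by
    intro h
    have : ω = 1 := Units.ext h
    rw [this, orderOf_one] at hω
    omega
  have hωi : ((ω⁻¹ : Fˣ) : F) ^ n = 1 := by
    rw [← Units.val_pow_eq_pow_val, inv_pow, ← hω, pow_orderOf_eq_one, inv_one, Units.val_one]
  set a : Fin n := ⟨0, by omega⟩ with ha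
  set b : Fin n := ⟨1, by omega⟩ with hb
  set c₂ : Fin n := ⟨2, by omega⟩ with hc₂
  set c₃ : Fin n := ⟨3, by omega⟩ with hc₃
  have hab : a ≠ b := by simp [ha, hb, Fin.ext_iff]
  have hac₂ : c₂ ≠ a := by simp [ha, hc₂, Fin.ext_iff]
  have hbc₂ : c₂ ≠ b := by simp [hb, hc₂, Fin.ext_iff]
  have hac₃ : c₃ ≠ a := by simp [ha, hc₃, Fin.ext_iff]
  have hbc₃ : c₃ ≠ b := by simp [hb, hc₃, Fin.ext_iff]
  have hc₂₃ : c₂ ≠ c₃ := by simp [hc₂, hc₃, Fin.ext_iff]
  set d : Fin n → F := fun i => (if i = a then (ω : F) else 1) *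
    (if i = b then ((ω⁻¹ : Fˣ) : F) else 1) with hd
  have hda : d a = (ω : F) := by
    simp only [hd]
    rw [if_neg hab, mul_one]
    simp
  have hdc₂ : d c₂ = 1 := by
    simp only [hd]
    rw [if_neg hac₂, if_neg hbc₂, mul_one]
  have hdc₃ : d c₃ = 1 := by
    simp only [hd]
    rw [if_neg hac₃, if_neg hbc₃, mul_one]
  set M : Matrix (Fin n) (Fin n) F := Matrix.diagonal d with hM
  have hdet : M.det = 1 := by
    rw [hM, Matrix.det_diagonal]
    simp only [hd]
    rw [Finset.prod_mul_distrib, Fintype.prod_ite_eq', Fintype.prod_ite_eq', ← Units.val_mul,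
      mul_inv_cancel, Units.val_one]
  obtain ⟨x, hx⟩ : ∃ x : SpecialLinearGroup (Fin n) F, x.1 = M := ⟨⟨M, hdet⟩, rfl⟩
  refine ⟨x, ?_, ?_, Pi.single c₂ 1, Pi.single c₃ 1, ?_, ?_, ?_, ?_⟩
  · apply Subtype.ext
    rw [Matrix.SpecialLinearGroup.coe_pow, hx, hM, Matrix.diagonal_pow,
      Matrix.SpecialLinearGroup.coe_one, ← Matrix.diagonal_one]
    congr 1
    funext i
    simp only [hd, Pi.pow_apply, Pi.one_apply, mul_pow]
    by_cases h1 : i = a <;> by_cases h2 : i = b <;> simp [h1, h2, hωn, hωi]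
  · intro z hz
    rw [hx, hM, Matrix.smul_one_eq_diagonal] at hz
    have h0 := congrFun (Matrix.diagonal_injective hz) a
    have h2 := congrFun (Matrix.diagonal_injective hz) c₂
    rw [hda] at h0
    rw [hdc₂] at h2
    apply hω1
    rw [h0, ← h2]
  · rw [hx, hM, Matrix.diagonal_mulVec_single, hdc₂, mul_one, one_smul]
  · rw [hx, hM, Matrix.diagonal_mulVec_single, hdc₃, mul_one, one_smul]
  · intro h
    have := congrFun h c₂
    simp at this
  · rintro ⟨c, hc⟩
    have := congrFun hc c₃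
    rw [Pi.single_eq_same, Pi.smul_apply, Pi.single_eq_of_ne (Ne.symm hc₂₃), smul_zero] at this
    exact one_ne_zero this

end primeB

section primeC

variable {F : Type*} [Field F] [Fintype F] {p : ℕ} [Fact p.Prime] [CharP F p] {q : ℕ}

theorem charpoly_of_order_prime (hF : Fintype.card F = q) (n : ℕ) (hn : n.Prime) (hn3 : 3 < n)
    (hnp : n ≠ p) (hc : orderOf (q : ZMod n) = n - 1)
    (x : SpecialLinearGroup (Fin n) F) (z : F)
    (hz : (x ^ n : SpecialLinearGroup (Fin n) F).1 = z • (1 : Matrix (Fin n) (Fin n) F))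
    (hns : ∀ z : F, x.1 ≠ z • (1 : Matrix (Fin n) (Fin n) F)) :
    x ^ n = 1 ∧ x.1.charpoly = X ^ n - 1 := by
  classical
  have hqpos : 0 < q := by rw [← hF]; exact Fintype.card_pos
  have hc1 : orderOf (q : ZMod n) ≠ 1 := by rw [hc]; omega
  have hnq : ¬ n ∣ q - 1 := not_dvd_of_orderOf_ne_one n hn hqpos hc1
  have hzn : z ^ n = 1 := by
    have h1 := congrArg Matrix.det hz
    rw [(x ^ n).2, Matrix.det_smul, Matrix.det_one, mul_one, Fintype.card_fin] at h1
    exact h1.symm
  have hz1 : z = 1 := eq_one_of_pow_prime hF n hn hnq z hzn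
  rw [hz1, one_smul] at hz
  have hxn : x ^ n = 1 := by
    apply Subtype.ext
    rw [hz, Matrix.SpecialLinearGroup.coe_one]
  refine ⟨hxn, ?_⟩
  set g : GL (Fin n) F := SpecialLinearGroup.toGL x with hg
  have hgval : (g : Matrix (Fin n) (Fin n) F) = x.1 := rfl
  have hgn : g ^ n = 1 := by rw [hg, ← map_pow, hxn, map_one]
  have hcard : (cycFactors F n).card * orderOf (q : ZMod n) = n - 1 := cycFactors_card hF hn hnp
  rw [hc] at hcard
  have hcard1 : (cycFactors F n).card = 1 := by
    have h0 : 0 < n - 1 := by omega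
    exact Nat.eq_of_mul_eq_mul_right h0 (by rw [hcard, one_mul])
  obtain ⟨f₀, hf₀⟩ := Finset.card_eq_one.1 hcard1
  have hf₀mem : f₀ ∈ cycFactors F n := by rw [hf₀]; exact Finset.mem_singleton_self f₀
  have hdeg : f₀.natDegree = n - 1 := by
    rw [cycFactors_natDegree hF hn hnp hf₀mem, hc]
  have hfin := finrank_eq hn hnp g hgn
  rw [hf₀, Finset.sum_singleton] at hfin
  obtain ⟨k, hk⟩ := dvd_kdim (L g) f₀ (cycFactors_irreducible hf₀mem)
  rw [hdeg] at hk
  have hk0 : k ≠ 0 := by
    intro h0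
    rw [h0, mul_zero] at hk
    rw [hk, add_zero] at hfin
    set W := LinearMap.ker (aeval (L g) (X - 1 : F[X])) with hW
    have hWtop : W = ⊤ := by
      apply Submodule.eq_top_of_finrank_eq
      rw [Module.finrank_fin_fun]
      exact hfin.symm
    apply hns 1
    rw [one_smul]
    have hall : ∀ u : Fin n → F, x.1 *ᵥ u = u := by
      intro u
      have hu : u ∈ W := by rw [hWtop]; exact Submodule.mem_top
      rw [hW, LinearMap.mem_ker, map_sub, aeval_X, map_one, LinearMap.sub_apply,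
        sub_eq_zero] at hu
      exact hu
    apply Matrix.toLin'.injective
    apply LinearMap.ext
    intro u
    rw [Matrix.toLin'_apply, hall u, Matrix.toLin'_one]
    rfl
  have hk1 : k = 1 := by
    by_contra hne
    have hk2 : 2 ≤ k := by omega
    have : 2 * (n - 1) ≤ (n - 1) * k := by
      rw [mul_comm]
      exact Nat.mul_le_mul_left _ hk2
    omega
  rw [hk1, mul_one] at hk
  have hkX : kdim (L g) (X - 1) = 1 := by omega
  have hmonX : (X - 1 : F[X]).Monic := by
    rw [← C_1]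
    exact monic_X_sub_C 1
  have hdegX : (X - 1 : F[X]).natDegree = 1 := by
    rw [← C_1]
    exact natDegree_X_sub_C 1
  have hcp := charpoly_eq_prod (insert (X - 1 : F[X]) (cycFactors F n))
    (fun f hf => insert_irreducible hf)
    (fun f hf => by
      rcases Finset.mem_insert.1 hf with rfl | hf
      · exact hmonX
      · exact cycFactors_monic hf)
    (L g) (aeval_prod_eq_zero hn hnp g hgn)
  rw [Finset.prod_insert (X_sub_one_notMem hn hnp), hf₀, Finset.prod_singleton, hkX, hdegX, hk,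
    hdeg, Nat.div_self (by omega : 0 < 1), Nat.div_self (by omega : 0 < n - 1), pow_one,
    pow_one] at hcp
  have hprod := X_sub_one_mul_prod (F := F) hn hnp
  rw [Finset.prod_insert (X_sub_one_notMem hn hnp), hf₀, Finset.prod_singleton] at hprod
  rw [← hgval, ← charpoly_L, hcp, hprod]

theorem conj_of_order_prime (hF : Fintype.card F = q) (n : ℕ) (hn : n.Prime) (hn3 : 3 < n)
    (hnp : n ≠ p) (hc : orderOf (q : ZMod n) = n - 1)
    {K : Subalgebra F (Matrix (Fin n) (Fin n) F)} (hK : Cfsg.Geo.IsFieldSubalgebra n K)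
    (x : SpecialLinearGroup (Fin n) F) (z : F)
    (hz : (x ^ n : SpecialLinearGroup (Fin n) F).1 = z • (1 : Matrix (Fin n) (Fin n) F))
    (hns : ∀ z : F, x.1 ≠ z • (1 : Matrix (Fin n) (Fin n) F)) :
    ∃ P : SpecialLinearGroup (Fin n) F, P⁻¹ * x * P ∈ (Cfsg.Geo.subalgebraNormalizer K).comap
      (SpecialLinearGroup.toGL : SpecialLinearGroup (Fin n) F →* GL (Fin n) F) := by
  have hp : p.Prime := Fact.out
  obtain ⟨hxn, hchar⟩ := charpoly_of_order_prime hF n hn hn3 hnp hc x z hz hns
  have hodd : Odd n := by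
    rcases hn.eq_two_or_odd' with h | h
    · omega
    · exact h
  obtain ⟨s, hsN, hsn, hschar⟩ := exists_frobenius_sl hn.pos hodd hK
  have hcop : Nat.Coprime n p := (Nat.coprime_primes hn hp).2 hnp
  have hox : (orderOf x).Coprime p :=
    Nat.Coprime.coprime_dvd_left (orderOf_dvd_of_pow_eq_one hxn) hcop
  have hos : (orderOf s).Coprime p :=
    Nat.Coprime.coprime_dvd_left (orderOf_dvd_of_pow_eq_one hsn) hcop
  have hconj := Cfsg.Agent.Helper13.SS.sl_isConj_of_charpoly_eq (p := p) s x hos hox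
    (by rw [hschar, hchar])
  obtain ⟨c, hc⟩ := isConj_iff.1 hconj
  refine ⟨c, ?_⟩
  rw [Subgroup.mem_comap, ← hc]
  have : c⁻¹ * (c * s * c⁻¹) * c = s := by group
  rw [this]
  exact hsN

end primeC

end Cfsg.Agent.Helper13.FN
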