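import Mathlib
import Cfsg.Agent.Lib.Helper13.FieldNorm1
import Cfsg.Agent.Lib.Helper12.FieldSubalg

/-!
# Normalizers of fields of matrices: scalar plus rank one elements (helper13)
-/

set_option autoImplicit false
set_option linter.style.haveILetI false
set_option linter.unusedSectionVars false
set_option linter.unusedVariables false

namespace Cfsg.Agent.Helper13.FN

open Matrix Cfsg.Agent.Helper12.FieldSub

section rankone

variable {F : Type*} [Field F] {n : ℕ}
variable {K : Subalgebra F (Matrix (Fin n) (Fin n) F)}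

/-- an element normalizing a field of matrices of degree at least two is not a scalar plus
a rank one matrix (in dimension at least three). -/
theorem not_normalize_of_rank_one (hn : 3 ≤ n) {r : ℕ} (hr : 2 ≤ r)
    (hK : Cfsg.Geo.IsFieldSubalgebra r K) (y : GL (Fin n) F)
    (hy : ∀ k ∈ K, (y : Matrix (Fin n) (Fin n) F) * k *
      ((y⁻¹ : GL (Fin n) F) : Matrix (Fin n) (Fin n) F) ∈ K)
    (l : F) (u : Fin n → F) (φ : (Fin n → F) →ₗ[F] F) (hu : u ≠ 0) (hφ : φ ≠ 0)
    (hyw : ∀ w : Fin n → F, (y : Matrix (Fin n) (Fin n) F) *ᵥ w = l • w + φ w • u) : False := by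
  classical
  set Y : Matrix (Fin n) (Fin n) F := (y : Matrix (Fin n) (Fin n) F) with hY
  set Yi : Matrix (Fin n) (Fin n) F := ((y⁻¹ : GL (Fin n) F) : Matrix (Fin n) (Fin n) F) with hYi
  have hYYi : Y * Yi = 1 := by rw [hY, hYi, ← Units.val_mul, mul_inv_cancel, Units.val_one]
  have hYiY : Yi * Y = 1 := by rw [hY, hYi, ← Units.val_mul, inv_mul_cancel, Units.val_one]
  have hinjY : ∀ w : Fin n → F, Y *ᵥ w = 0 → w = 0 := by
    intro w hw
    have : (Yi * Y) *ᵥ w = 0 := by rw [← Matrix.mulVec_mulVec, hw, Matrix.mulVec_zero]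
    rwa [hYiY, Matrix.one_mulVec] at this
  -- `Y k = τ(k) Y`
  have hτ : ∀ k ∈ K, Y * k = (Y * k * Yi) * Y := by
    intro k hk
    rw [mul_assoc, mul_assoc, hYiY, mul_one]
  by_cases hcent : ∀ k ∈ K, Y * k * Yi = k
  · -- centralizing case
    obtain ⟨w, hw⟩ : ∃ w, φ w ≠ 0 := by
      by_contra h
      push Not at h
      apply hφ
      apply LinearMap.ext
      intro w
      rw [h w, LinearMap.zero_apply]
    have hKu : ∀ k ∈ K, ∃ c : F, k *ᵥ u = c • u := by
      intro k hk
      have h1 : Y * k = k * Y := by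
        have := hτ k hk
        rw [hcent k hk] at this
        exact this
      have h2 : (Y * k) *ᵥ w = (k * Y) *ᵥ w := by rw [h1]
      rw [← Matrix.mulVec_mulVec, ← Matrix.mulVec_mulVec, hyw, hyw, Matrix.mulVec_add,
        Matrix.mulVec_smul, Matrix.mulVec_smul] at h2
      have h3 : φ w • k *ᵥ u = φ (k *ᵥ w) • u := by
        have := add_left_cancel h2
        exact this.symm
      refine ⟨(φ w)⁻¹ * φ (k *ᵥ w), ?_⟩
      rw [mul_smul, ← h3, smul_smul, inv_mul_cancel₀ hw, one_smul]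
    -- the orbit map of `u` has image in the line spanned by `u`
    have hinj : Function.Injective (iota K u) := by
      rw [← LinearMap.ker_eq_bot, LinearMap.ker_eq_bot']
      intro k hk
      by_contra hne
      exact hu (mulVec_eq_zero hK.inv k.2 (fun h => hne (Subtype.ext h)) hk)
    have hrange : LinearMap.range (iota K u) ≤ Submodule.span F {u} := by
      rintro _ ⟨k, rfl⟩
      obtain ⟨c, hc⟩ := hKu k.1 k.2
      rw [iota_apply, hc]
      exact Submodule.smul_mem _ _ (Submodule.mem_span_singleton_self u)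
    have h1 : Module.finrank F ↥K = Module.finrank F (LinearMap.range (iota K u)) :=
      (LinearMap.finrank_range_of_inj hinj).symm
    have h2 : Module.finrank F (LinearMap.range (iota K u)) ≤
        Module.finrank F (Submodule.span F {u}) := Submodule.finrank_mono hrange
    have h3 : Module.finrank F (Submodule.span F {u}) = 1 := finrank_span_singleton hu
    rw [hK.finrank_eq] at h1
    omega
  · -- non-centralizing case
    push Not at hcent
    obtain ⟨κ, hκ, hκne⟩ := hcent
    set κ' := Y * κ * Yi with hκ'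
    have hκ'K : κ' ∈ K := hy κ hκ
    have hfr : 3 ≤ Module.finrank F (Fin n → F) := by
      rw [Module.finrank_fin_fun]
      exact hn
    obtain ⟨v, hv0, hv1, hv2⟩ := exists_ne_zero_of_two φ
      (φ.comp (Matrix.toLin' κ)) hfr
    rw [LinearMap.comp_apply, Matrix.toLin'_apply] at hv2
    have e1 : Y *ᵥ v = l • v := by rw [hyw, hv1, zero_smul, add_zero]
    have e2 : Y *ᵥ (κ *ᵥ v) = l • (κ *ᵥ v) := by rw [hyw, hv2, zero_smul, add_zero]
    have hl : l ≠ 0 := by
      intro hl0
      rw [hl0, zero_smul] at e1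
      exact hv0 (hinjY v e1)
    have e3 : (Y * κ) *ᵥ v = (κ' * Y) *ᵥ v := by rw [hτ κ hκ]
    rw [← Matrix.mulVec_mulVec, ← Matrix.mulVec_mulVec, e2, e1, Matrix.mulVec_smul] at e3
    have e4 : (κ' - κ) *ᵥ v = 0 := by
      rw [Matrix.sub_mulVec]
      have := smul_right_injective (Fin n → F) hl e3
      rw [this, sub_self]
    exact hv0 (mulVec_eq_zero hK.inv (K.sub_mem hκ'K hκ) (sub_ne_zero.2 hκne) e4)

end rankone

section rankone2

variable {F : Type*} [Field F] {n : ℕ}
variable {K : Subalgebra F (Matrix (Fin n) (Fin n) F)}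

/-- a scalar plus rank one element of `SL_n` is not conjugate into the normalizer of a field
of matrices of degree at least two. -/
theorem not_conj_of_rank_one (hn : 3 ≤ n) {r : ℕ} (hr : 2 ≤ r)
    (hK : Cfsg.Geo.IsFieldSubalgebra r K) (x : SpecialLinearGroup (Fin n) F)
    (l : F) (u : Fin n → F) (φ : (Fin n → F) →ₗ[F] F) (hu : u ≠ 0) (hφ : φ ≠ 0)
    (hxw : ∀ w : Fin n → F, (x : Matrix (Fin n) (Fin n) F) *ᵥ w = l • w + φ w • u)
    (P : SpecialLinearGroup (Fin n) F)
    (hP : P⁻¹ * x * P ∈ (Cfsg.Geo.subalgebraNormalizer K).comap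
      (SpecialLinearGroup.toGL : SpecialLinearGroup (Fin n) F →* GL (Fin n) F)) : False := by
  rw [Subgroup.mem_comap] at hP
  set y : GL (Fin n) F := SpecialLinearGroup.toGL (P⁻¹ * x * P) with hy
  have hyval : (y : Matrix (Fin n) (Fin n) F) =
      (P⁻¹ : SpecialLinearGroup (Fin n) F).1 * x.1 * P.1 := by
    rw [hy]
    rfl
  have hPiP : (P⁻¹ : SpecialLinearGroup (Fin n) F).1 * P.1 = 1 := by
    rw [← Matrix.SpecialLinearGroup.coe_mul, inv_mul_cancel, Matrix.SpecialLinearGroup.coe_one]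
  have hPPi : P.1 * (P⁻¹ : SpecialLinearGroup (Fin n) F).1 = 1 := by
    rw [← Matrix.SpecialLinearGroup.coe_mul, mul_inv_cancel, Matrix.SpecialLinearGroup.coe_one]
  have hnorm : ∀ k ∈ K, (y : Matrix (Fin n) (Fin n) F) * k *
      ((y⁻¹ : GL (Fin n) F) : Matrix (Fin n) (Fin n) F) ∈ K := fun k hk => (hP k).1 hk
  set Pi : Matrix (Fin n) (Fin n) F := (P⁻¹ : SpecialLinearGroup (Fin n) F).1 with hPi
  have hinj : ∀ w : Fin n → F, Pi *ᵥ w = 0 → w = 0 := by
    intro w hw
    have : (P.1 * Pi) *ᵥ w = 0 := by rw [← Matrix.mulVec_mulVec, hw, Matrix.mulVec_zero]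
    rwa [hPPi, Matrix.one_mulVec] at this
  apply not_normalize_of_rank_one hn hr hK y hnorm l (Pi *ᵥ u) (φ.comp (Matrix.toLin' P.1))
    (fun h => hu (hinj u h))
  · intro h
    apply hφ
    apply LinearMap.ext
    intro w
    have := congrArg (fun ψ : (Fin n → F) →ₗ[F] F => ψ (Pi *ᵥ w)) h
    simp only [LinearMap.comp_apply, Matrix.toLin'_apply, LinearMap.zero_apply] at this
    rw [Matrix.mulVec_mulVec, hPPi, Matrix.one_mulVec] at this
    rw [this, LinearMap.zero_apply]
  · intro w
    rw [hyval, ← Matrix.mulVec_mulVec, ← Matrix.mulVec_mulVec, hxw, Matrix.mulVec_add,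
      Matrix.mulVec_smul, Matrix.mulVec_smul, Matrix.mulVec_mulVec, hPiP, Matrix.one_mulVec,
      LinearMap.comp_apply, Matrix.toLin'_apply]

end rankone2

section badinv

variable {F : Type*} [Field F] {n : ℕ}

/-- a transvection in characteristic two. -/
theorem exists_bad_transvection [CharP F 2] (hn : 2 ≤ n) :
    ∃ x : SpecialLinearGroup (Fin n) F, x ^ 2 = 1 ∧
      (∀ z : F, x.1 ≠ z • (1 : Matrix (Fin n) (Fin n) F)) ∧
      ∃ (l : F) (u : Fin n → F) (φ : (Fin n → F) →ₗ[F] F), u ≠ 0 ∧ φ ≠ 0 ∧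
        ∀ w : Fin n → F, x.1 *ᵥ w = l • w + φ w • u := by
  classical
  set i0 : Fin n := ⟨0, by omega⟩ with hi0
  set i1 : Fin n := ⟨1, by omega⟩ with hi1
  have h01 : i0 ≠ i1 := by simp [hi0, hi1, Fin.ext_iff]
  set M : Matrix (Fin n) (Fin n) F := Matrix.transvection i0 i1 1 with hM
  have hdet : M.det = 1 := Matrix.det_transvection_of_ne i0 i1 h01 1
  obtain ⟨x, hx⟩ : ∃ x : SpecialLinearGroup (Fin n) F, x.1 = M := ⟨⟨M, hdet⟩, rfl⟩
  have h2 : (2 : F) = 0 := by
    have := CharP.cast_eq_zero F 2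
    exact_mod_cast this
  refine ⟨x, ?_, ?_, 1, Pi.single i0 1, LinearMap.proj i1, ?_, ?_, ?_⟩
  · apply Subtype.ext
    rw [Matrix.SpecialLinearGroup.coe_pow, hx, pow_two, hM,
      Matrix.transvection_mul_transvection_same i0 i1 h01, Matrix.SpecialLinearGroup.coe_one]
    have : (1 : F) + 1 = 0 := by rw [← h2]; norm_num
    rw [this, Matrix.transvection_zero]
  · intro z hz
    rw [hx] at hz
    have := congrFun (congrFun hz i0) i1
    rw [hM, Matrix.transvection, Matrix.add_apply, Matrix.one_apply_ne h01, zero_add,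
      Matrix.single_apply_same, Matrix.smul_apply, Matrix.one_apply_ne h01, smul_zero] at this
    exact one_ne_zero this
  · intro h
    have := congrFun h i0
    simp at this
  · intro h
    have := congrArg (fun ψ : (Fin n → F) →ₗ[F] F => ψ (Pi.single i1 1)) h
    simp at this
  · intro w
    rw [hx, hM, Matrix.transvection, Matrix.add_mulVec, Matrix.one_mulVec, one_smul]
    congr 1
    ext j
    rw [Matrix.single_mulVec]
    simp only [LinearMap.proj_apply, Pi.smul_apply, smul_eq_mul, one_mul]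
    by_cases hj : j = i0
    · subst hj
      simp
    · simp [hj, Function.update_of_ne hj]

/-- a scalar multiple of a reflection. -/
theorem exists_bad_reflection (hn : 2 ≤ n) (h2 : (2 : F) ≠ 0) (a : F) (ha : a ^ n = -1) :
    ∃ x : SpecialLinearGroup (Fin n) F,
      (x ^ 2 : SpecialLinearGroup (Fin n) F).1 = (a ^ 2) • (1 : Matrix (Fin n) (Fin n) F) ∧
      (∀ z : F, x.1 ≠ z • (1 : Matrix (Fin n) (Fin n) F)) ∧
      ∃ (l : F) (u : Fin n → F) (φ : (Fin n → F) →ₗ[F] F), u ≠ 0 ∧ φ ≠ 0 ∧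
        ∀ w : Fin n → F, x.1 *ᵥ w = l • w + φ w • u := by
  classical
  have ha0 : a ≠ 0 := by
    intro h
    rw [h, zero_pow (by omega)] at ha
    exact zero_ne_one (neg_eq_zero.1 ha.symm).symm
  set i0 : Fin n := ⟨0, by omega⟩ with hi0
  set i1 : Fin n := ⟨1, by omega⟩ with hi1
  have h01 : i0 ≠ i1 := by simp [hi0, hi1, Fin.ext_iff]
  set d : Fin n → F := fun i => a * (if i = i0 then (-1 : F) else 1) with hd
  set M : Matrix (Fin n) (Fin n) F := Matrix.diagonal d with hM
  have hdet : M.det = 1 := by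
    rw [hM, Matrix.det_diagonal]
    simp only [hd]
    rw [Finset.prod_mul_distrib, Fintype.prod_ite_eq', Finset.prod_const, Finset.card_univ,
      Fintype.card_fin, ha]
    ring
  obtain ⟨x, hx⟩ : ∃ x : SpecialLinearGroup (Fin n) F, x.1 = M := ⟨⟨M, hdet⟩, rfl⟩
  have h2a : (2 : F) * a ≠ 0 := mul_ne_zero h2 ha0
  refine ⟨x, ?_, ?_, a, Pi.single i0 1, (-(2 * a)) • LinearMap.proj i0, ?_, ?_, ?_⟩
  · rw [Matrix.SpecialLinearGroup.coe_pow, hx, hM, Matrix.diagonal_pow,
      Matrix.smul_one_eq_diagonal]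
    congr 1
    funext i
    simp only [hd, Pi.pow_apply, mul_pow]
    by_cases h : i = i0 <;> simp [h]
  · intro z hz
    rw [hx, hM, Matrix.smul_one_eq_diagonal] at hz
    have e0 := congrFun (Matrix.diagonal_injective hz) i0
    have e1 := congrFun (Matrix.diagonal_injective hz) i1
    simp only [hd, if_neg (Ne.symm h01)] at e0 e1
    simp only [if_true] at e0
    apply h2a
    have : a * (-1) = a * 1 := by rw [e0, e1]
    linear_combination -this
  · intro h
    have := congrFun h i0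
    simp at this
  · intro h
    have := congrArg (fun ψ : (Fin n → F) →ₗ[F] F => ψ (Pi.single i0 1)) h
    simp only [LinearMap.smul_apply, LinearMap.proj_apply, Pi.single_eq_same, smul_eq_mul,
      mul_one, LinearMap.zero_apply, neg_eq_zero] at this
    exact h2a this
  · intro w
    rw [hx, hM]
    ext j
    rw [Matrix.mulVec_diagonal]
    simp only [hd, Pi.add_apply, Pi.smul_apply, LinearMap.smul_apply, LinearMap.proj_apply,
      smul_eq_mul]
    by_cases hj : j = i0
    · subst hj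
      simp only [if_true, Pi.single_eq_same]
      ring
    · simp only [if_neg hj, Pi.single_eq_of_ne hj]
      ring

end badinv

section arith

variable {F : Type*} [Field F] [Fintype F]

theorem two_pow_odd_of_pos (n : ℕ) (hn : 0 < n) :
    ∃ m : ℕ, Odd m ∧ n = 2 ^ padicValNat 2 n * m := by
  obtain ⟨k, m, hm, hnk⟩ := Nat.exists_eq_two_pow_mul_odd (Nat.pos_iff_ne_zero.1 hn)
  refine ⟨m, hm, ?_⟩
  have hm0 : m ≠ 0 := by
    rintro rfl
    exact (Nat.not_odd_iff_even.2 (by decide : Even 0)) hm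
  have : padicValNat 2 n = k := by
    rw [hnk, padicValNat.mul (pow_ne_zero _ (by norm_num)) hm0, padicValNat.prime_pow,
      padicValNat.eq_zero_of_not_dvd (Nat.two_dvd_ne_zero.2 (Nat.odd_iff.1 hm)), add_zero]
  rw [this]
  exact hnk

theorem exists_pow_eq_neg_one (hq : Odd (Fintype.card F)) (n : ℕ) (hn : 0 < n)
    (h : padicValNat 2 n < padicValNat 2 (Fintype.card F - 1)) : ∃ a : F, a ^ n = -1 := by
  classical
  set e := padicValNat 2 n with he
  have hq1 : Fintype.card F - 1 ≠ 0 := by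
    intro h0
    rw [h0] at h
    simp at h
  haveI : Fact (Nat.Prime 2) := ⟨Nat.prime_two⟩
  have hdvd : 2 ^ (e + 1) ∣ Fintype.card F - 1 := (padicValNat_dvd_iff_le hq1).2 (by omega)
  obtain ⟨g, hg⟩ : ∃ g : Fˣ, orderOf g = 2 ^ (e + 1) := by
    have h1 := IsCyclic.card_orderOf_eq_totient (α := Fˣ) (d := 2 ^ (e + 1))
      (by rw [Fintype.card_units]; exact hdvd)
    have h2 : 0 < (2 ^ (e + 1)).totient := Nat.totient_pos.2 (by positivity)
    rw [← h1] at h2
    obtain ⟨g, hg⟩ := Finset.card_pos.1 h2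
    exact ⟨g, (Finset.mem_filter.1 hg).2⟩
  have hsq : ((g : F) ^ 2 ^ e) ^ 2 = 1 := by
    rw [← pow_mul, ← pow_succ, ← Units.val_pow_eq_pow_val, ← hg, pow_orderOf_eq_one,
      Units.val_one]
  have hne : (g : F) ^ 2 ^ e ≠ 1 := by
    intro h1
    have h2 : g ^ 2 ^ e = 1 := by
      apply Units.ext
      rw [Units.val_pow_eq_pow_val, h1, Units.val_one]
    have h3 := orderOf_dvd_of_pow_eq_one h2
    rw [hg] at h3
    have h4 := Nat.le_of_dvd (by positivity) h3
    rw [pow_succ] at h4
    have : 0 < 2 ^ e := by positivity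
    omega
  have hm1 : (g : F) ^ 2 ^ e = -1 := by
    have h1 : ((g : F) ^ 2 ^ e - 1) * ((g : F) ^ 2 ^ e + 1) = 0 := by
      linear_combination hsq
    rcases mul_eq_zero.1 h1 with h2 | h2
    · exact absurd (sub_eq_zero.1 h2) hne
    · exact eq_neg_of_add_eq_zero_left h2
  obtain ⟨m, hm, hnm⟩ := two_pow_odd_of_pos n hn
  refine ⟨(g : F), ?_⟩
  rw [hnm, pow_mul, ← he, hm1, hm.neg_one_pow]

theorem pow_ne_neg_one (h2 : (2 : F) ≠ 0) (n : ℕ) (hn : 0 < n)
    (h : padicValNat 2 (Fintype.card F - 1) ≤ padicValNat 2 n) (a : F) : a ^ n ≠ -1 := by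
  intro ha
  have ha0 : a ≠ 0 := by
    intro h0
    rw [h0, zero_pow (by omega)] at ha
    exact zero_ne_one (neg_eq_zero.1 ha.symm).symm
  have hcard : 1 < Fintype.card F := Fintype.one_lt_card
  obtain ⟨u, hu, hqu⟩ := two_pow_odd_of_pos (Fintype.card F - 1) (by omega)
  obtain ⟨m, hm, hnm⟩ := two_pow_odd_of_pos n hn
  set f := padicValNat 2 (Fintype.card F - 1) with hf
  set e := padicValNat 2 n with he
  have h1 : a ^ (2 ^ f * u) = 1 := by
    rw [← hqu]
    exact FiniteField.pow_card_sub_one_eq_one a ha0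
  have h3 : (a ^ n) ^ u = 1 := by
    have : n * u = (2 ^ f * u) * (2 ^ (e - f) * m) := by
      rw [hnm]
      have : 2 ^ e = 2 ^ f * 2 ^ (e - f) := by rw [← pow_add]; congr 1; omega
      rw [this]
      ring
    rw [← pow_mul, this, pow_mul, h1, one_pow]
  rw [ha, hu.neg_one_pow] at h3
  apply h2
  have : (2 : F) = 1 - (-1) := by ring
  rw [this, h3, sub_self]

end arith

end Cfsg.Agent.Helper13.FN
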