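import Mathlib
import Cfsg.Agent.Lib.Helper13.FieldNorm1
import Cfsg.Agent.Lib.Helper12.FieldSubalg2
import Cfsg.Agent.Lib.Helper13.SemisimpleCharpoly

/-!
# Fields of matrices: the module structure, centralizing reflections, square roots (helper13)
-/

set_option autoImplicit false
set_option linter.style.haveILetI false
set_option linter.unusedSectionVars false
set_option linter.unusedVariables false

namespace Cfsg.Agent.Helper13.FN

open Matrix Module Polynomial Cfsg.Agent.Helper12.FieldSub Cfsg.Agent.Helper13.SS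

section kmod

variable {F : Type*} [Field F] {n : ℕ}
variable {K : Subalgebra F (Matrix (Fin n) (Fin n) F)}

open scoped Classical in
/-- the field structure on a ring that is a field (reducible, extending the ring structure) -/
noncomputable abbrev fieldOf {R : Type*} [Ring R] (h : IsField R) : Field R where
  __ := ‹Ring R›
  __ := h
  inv a := if ha : a = 0 then 0 else Classical.choose (h.mul_inv_cancel ha)
  inv_zero := dif_pos rfl
  mul_inv_cancel a ha := by
    convert Classical.choose_spec (h.mul_inv_cancel ha)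
    exact dif_neg ha
  nnqsmul := _
  nnqsmul_def _ _ := rfl
  qsmul := _
  qsmul_def _ _ := rfl

/-- a subalgebra of matrices that is a field -/
class IsFld (K : Subalgebra F (Matrix (Fin n) (Fin n) F)) : Prop where
  isField : IsField ↥K

noncomputable instance instFieldOfIsFld [h : IsFld K] : Field ↥K := fieldOf h.isField

theorem fld_smul_def [IsFld K] (k : ↥K) (v : Fin n → F) :
    k • v = (k : Matrix (Fin n) (Fin n) F) *ᵥ v := rfl

/-- a general field: subspaces of every dimension with complements -/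
theorem exists_isCompl_finrank {L W : Type*} [Field L] [AddCommGroup W] [Module L W]
    [FiniteDimensional L W] (t : ℕ) (ht : t ≤ finrank L W) :
    ∃ U U' : Submodule L W, IsCompl U U' ∧ finrank L U = t := by
  obtain ⟨b, hb⟩ := exists_linearIndependent_of_le_finrank ht
  refine ⟨Submodule.span L (Set.range b), ?_⟩
  obtain ⟨U', hU'⟩ := Submodule.exists_isCompl (Submodule.span L (Set.range b))
  exact ⟨U', hU', by rw [finrank_span_eq_card hb, Fintype.card_fin]⟩

/-- complementary `K`-stable subspaces of every dimension divisible by the degree -/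
theorem exists_stable_isCompl (hn : 0 < n) {r : ℕ} (hK : Cfsg.Geo.IsFieldSubalgebra r K)
    (t : ℕ) (ht : r * t ≤ n) :
    ∃ U U' : Submodule F (Fin n → F), IsCompl U U' ∧ finrank F U = r * t ∧
      (∀ k ∈ K, ∀ v ∈ U, k *ᵥ v ∈ U) ∧ (∀ k ∈ K, ∀ v ∈ U', k *ᵥ v ∈ U') := by
  classical
  haveI : IsFld K := ⟨isField_of hn K hK.comm hK.inv⟩
  haveI : FiniteDimensional ↥K (Fin n → F) := FiniteDimensional.right F ↥K (Fin n → F)
  have hmul : finrank F ↥K * finrank ↥K (Fin n → F) = finrank F (Fin n → F) :=
    Module.finrank_mul_finrank F ↥K (Fin n → F)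
  rw [hK.finrank_eq, Module.finrank_fin_fun] at hmul
  have hr0 : 0 < r := by
    rcases Nat.eq_zero_or_pos r with h | h
    · rw [h, zero_mul] at hmul
      omega
    · exact h
  have htle : t ≤ finrank ↥K (Fin n → F) := by
    by_contra hlt
    push Not at hlt
    have : r * (finrank ↥K (Fin n → F) + 1) ≤ r * t := Nat.mul_le_mul_left r hlt
    rw [mul_add, hmul] at this
    omega
  obtain ⟨U, U', hUU', hUt⟩ := exists_isCompl_finrank (L := ↥K) (W := Fin n → F) t htle
  refine ⟨U.restrictScalars F, U'.restrictScalars F, ?_, ?_, ?_, ?_⟩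
  · constructor
    · rw [Submodule.disjoint_def]
      intro v hv hv'
      exact (Submodule.disjoint_def.1 hUU'.disjoint) v hv hv'
    · rw [codisjoint_iff, eq_top_iff]
      intro v _
      have hv : v ∈ U ⊔ U' := by rw [hUU'.sup_eq_top]; exact Submodule.mem_top
      obtain ⟨u, hu, u', hu', rfl⟩ := Submodule.mem_sup.1 hv
      exact Submodule.add_mem_sup (Submodule.restrictScalars_mem F U u |>.2 hu)
        (Submodule.restrictScalars_mem F U' u' |>.2 hu')
  · have h1 : finrank F ↥K * finrank ↥K ↥U = finrank F ↥U :=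
      Module.finrank_mul_finrank F ↥K ↥U
    rw [hK.finrank_eq, hUt] at h1
    rw [h1]
    rfl
  · intro k hk v hv
    have := U.smul_mem (⟨k, hk⟩ : ↥K) hv
    exact this
  · intro k hk v hv
    have := U'.smul_mem (⟨k, hk⟩ : ↥K) hv
    exact this

end kmod

section kinv

variable {F : Type*} [Field F] {n : ℕ}
variable {K : Subalgebra F (Matrix (Fin n) (Fin n) F)}

/-- the scalar multiple of the reflection attached to a pair of complementary `K`-stable
subspaces -/
theorem exists_centralizing_of_isCompl (h2 : (2 : F) ≠ 0) (a : F) (ha : a ≠ 0)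
    (U U' : Submodule F (Fin n → F)) (hUU' : IsCompl U U')
    (hU : ∀ k ∈ K, ∀ v ∈ U, k *ᵥ v ∈ U) (hU' : ∀ k ∈ K, ∀ v ∈ U', k *ᵥ v ∈ U') :
    ∃ Y : Matrix (Fin n) (Fin n) F, Y * Y = (a * a) • (1 : Matrix (Fin n) (Fin n) F) ∧
      (∀ k ∈ K, Y * k = k * Y) ∧
      LinearMap.ker (Matrix.toLin' (Y + a • (1 : Matrix (Fin n) (Fin n) F))) = U := by
  classical
  set P : (Fin n → F) →ₗ[F] (Fin n → F) := U.subtype ∘ₗ (U.projectionOnto U' hUU') with hP
  have hPmem : ∀ v, P v ∈ U := fun v => ((U.projectionOnto U' hUU') v).2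
  have hPU : ∀ v ∈ U, P v = v := by
    intro v hv
    have := Submodule.projectionOnto_apply_left hUU' ⟨v, hv⟩
    rw [hP, LinearMap.comp_apply]
    simp only [] at this
    rw [this]
    rfl
  have hPU' : ∀ v ∈ U', P v = 0 := by
    intro v hv
    have := Submodule.projectionOnto_apply_right hUU' ⟨v, hv⟩
    rw [hP, LinearMap.comp_apply]
    simp only [] at this
    rw [this]
    rfl
  have hPP : ∀ v, P (P v) = P v := fun v => hPU _ (hPmem v)
  have hsub : ∀ v, v - P v ∈ U' := by
    intro v
    rw [← Submodule.projectionOnto_apply_eq_zero_iff hUU', map_sub]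
    have : (U.projectionOnto U' hUU') (P v) = (U.projectionOnto U' hUU') v := by
      have := Submodule.projectionOnto_apply_left hUU' ⟨P v, hPmem v⟩
      simp only [] at this
      rw [this]
      rfl
    rw [this, sub_self]
  have hPk : ∀ k ∈ K, ∀ v, P (k *ᵥ v) = k *ᵥ (P v) := by
    intro k hk v
    have h1 : k *ᵥ v = k *ᵥ (P v) + k *ᵥ (v - P v) := by
      rw [← Matrix.mulVec_add, add_sub_cancel]
    rw [h1, map_add, hPU _ (hU k hk _ (hPmem v)), hPU' _ (hU' k hk _ (hsub v)), add_zero]
  set E : (Fin n → F) →ₗ[F] (Fin n → F) := a • (LinearMap.id - (2 : F) • P) with hE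
  have hEv : ∀ v, E v = a • (v - (2 : F) • P v) := fun v => rfl
  set Y : Matrix (Fin n) (Fin n) F := LinearMap.toMatrix' E with hY
  have hYv : ∀ v, Y *ᵥ v = a • (v - (2 : F) • P v) := by
    intro v
    rw [hY, ← Matrix.toLin'_apply, Matrix.toLin'_toMatrix', hEv]
  refine ⟨Y, ?_, ?_, ?_⟩
  · apply ext_mulVec
    intro v
    rw [← Matrix.mulVec_mulVec, hYv, hYv, Matrix.smul_mulVec, Matrix.one_mulVec, map_smul,
      map_sub, map_smul, hPP]
    module
  · intro k hk
    apply ext_mulVec
    intro v
    rw [← Matrix.mulVec_mulVec, ← Matrix.mulVec_mulVec, hYv, hYv, hPk k hk, Matrix.mulVec_smul,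
      Matrix.mulVec_sub, Matrix.mulVec_smul]
  · ext v
    rw [LinearMap.mem_ker, Matrix.toLin'_apply, Matrix.add_mulVec, Matrix.smul_mulVec,
      Matrix.one_mulVec, hYv]
    have h2a : (2 : F) * a ≠ 0 := mul_ne_zero h2 ha
    constructor
    · intro h
      have h1 : ((2 : F) * a) • (v - P v) = 0 := by
        rw [← h]
        module
      rcases smul_eq_zero.1 h1 with h3 | h3
      · exact absurd h3 h2a
      · rw [sub_eq_zero] at h3
        rw [h3]
        exact hPmem v
    · intro hv
      rw [hPU v hv]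
      module

end kinv

section sqchar

variable {F : Type*} [Field F] {n : ℕ}

theorem aeval_toLin'_X_add_C (M : Matrix (Fin n) (Fin n) F) (a : F) :
    aeval (Matrix.toLin' M) (X + C a : F[X]) =
      Matrix.toLin' (M + a • (1 : Matrix (Fin n) (Fin n) F)) := by
  rw [map_add, aeval_X, aeval_C, map_add, map_smul, Matrix.toLin'_one,
    Algebra.algebraMap_eq_smul_one]
  rfl

/-- the characteristic polynomial of a matrix whose square is a nonzero square scalar -/
theorem charpoly_of_sq_split (h2 : (2 : F) ≠ 0) (a : F) (ha : a ≠ 0)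
    (M : Matrix (Fin n) (Fin n) F) (hM : M * M = (a * a) • (1 : Matrix (Fin n) (Fin n) F)) :
    M.charpoly = (X - C a) ^
        (n - finrank F (LinearMap.ker (Matrix.toLin' (M + a • (1 : Matrix (Fin n) (Fin n) F))))) *
      (X + C a) ^ finrank F (LinearMap.ker (Matrix.toLin' (M + a • (1 : Matrix (Fin n) (Fin n) F)))) := by
  classical
  set g : Module.End F (Fin n → F) := Matrix.toLin' M with hg
  have hne : (X - C a : F[X]) ≠ X + C a := by
    intro h
    have h1 := congrArg (Polynomial.eval 0) h
    simp only [eval_sub, eval_X, eval_C, eval_add, zero_sub, zero_add] at h1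
    apply mul_ne_zero h2 ha
    linear_combination -h1
  set S : Finset F[X] := {X - C a, X + C a} with hS
  have hXp : (X + C a : F[X]) = X - C (-a) := by rw [map_neg, sub_neg_eq_add]
  have hirr : ∀ f ∈ S, Irreducible f := by
    intro f hf
    rcases Finset.mem_insert.1 hf with rfl | hf
    · exact irreducible_X_sub_C a
    · rw [Finset.mem_singleton] at hf
      rw [hf, hXp]
      exact irreducible_X_sub_C (-a)
  have hmon : ∀ f ∈ S, f.Monic := by
    intro f hf
    rcases Finset.mem_insert.1 hf with rfl | hf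
    · exact monic_X_sub_C a
    · rw [Finset.mem_singleton] at hf
      rw [hf]
      exact monic_X_add_C a
  have hprod : ∏ f ∈ S, f = X ^ 2 - C (a * a) := by
    rw [hS, Finset.prod_pair hne, map_mul]
    ring
  have hkill : aeval g (∏ f ∈ S, f) = 0 := by
    rw [hprod, map_sub, map_pow, aeval_X, aeval_C, hg, pow_two, Module.End.mul_eq_comp, ← Matrix.toLin'_mul, hM,
      map_smul, Matrix.toLin'_one, Algebra.algebraMap_eq_smul_one]
    exact sub_self _
  have hcp := charpoly_eq_prod S hirr hmon g hkill
  have hfin := finrank_eq_sum_kdim g S (pairwise_coprime_of_monic_irreducible S hirr hmon) hkill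
  rw [hS, Finset.prod_pair hne] at hcp
  rw [hS, Finset.sum_pair hne, Module.finrank_fin_fun] at hfin
  have hd1 : (X - C a : F[X]).natDegree = 1 := natDegree_X_sub_C a
  have hd2 : (X + C a : F[X]).natDegree = 1 := natDegree_X_add_C a
  rw [hd1, hd2, Nat.div_one, Nat.div_one] at hcp
  have hk2 : kdim g (X + C a) =
      finrank F (LinearMap.ker (Matrix.toLin' (M + a • (1 : Matrix (Fin n) (Fin n) F)))) := by
    unfold kdim
    rw [hg, aeval_toLin'_X_add_C]
  rw [← Matrix.charpoly_toLin', ← hg, hcp, ← hk2]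
  congr 2
  omega

/-- the characteristic polynomial of a matrix whose square is a non-square scalar -/
theorem charpoly_of_sq_nonsplit (z : F) (hz : ¬ IsSquare z)
    (M : Matrix (Fin n) (Fin n) F) (hM : M * M = z • (1 : Matrix (Fin n) (Fin n) F)) :
    M.charpoly = (X ^ 2 - C z) ^ (n / 2) := by
  classical
  set g : Module.End F (Fin n → F) := Matrix.toLin' M with hg
  set f : F[X] := X ^ 2 - C z with hf
  have hfdeg : f.natDegree = 2 := natDegree_X_pow_sub_C
  have hfmon : f.Monic := monic_X_pow_sub_C z (by norm_num)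
  have hfirr : Irreducible f := by
    rw [Polynomial.Monic.irreducible_iff_roots_eq_zero_of_degree_le_three hfmon
      (by rw [hfdeg]) (by rw [hfdeg]; norm_num)]
    rw [Multiset.eq_zero_iff_forall_notMem]
    intro c hc
    rw [mem_roots hfmon.ne_zero, IsRoot.def, hf, eval_sub, eval_pow, eval_X, eval_C,
      sub_eq_zero] at hc
    exact hz ⟨c, by rw [← hc, pow_two]⟩
  set S : Finset F[X] := {f} with hS
  have hkill : aeval g (∏ f ∈ S, f) = 0 := by
    rw [hS, Finset.prod_singleton, hf, map_sub, map_pow, aeval_X, aeval_C, hg, pow_two,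
      Module.End.mul_eq_comp, ← Matrix.toLin'_mul, hM, map_smul, Matrix.toLin'_one, Algebra.algebraMap_eq_smul_one]
    exact sub_self _
  have hcp := charpoly_eq_prod S (fun x hx => by rw [Finset.mem_singleton.1 hx]; exact hfirr)
    (fun x hx => by rw [Finset.mem_singleton.1 hx]; exact hfmon) g hkill
  rw [hS, Finset.prod_singleton, hfdeg] at hcp
  have hk : kdim g f = n := by
    unfold kdim
    rw [hS, Finset.prod_singleton] at hkill
    rw [hkill, LinearMap.ker_zero, finrank_top, Module.finrank_fin_fun]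
  rw [← Matrix.charpoly_toLin', ← hg, hcp, hk]

end sqchar

section ksqrt

variable {F : Type*} [Field F] {n : ℕ}
variable {K : Subalgebra F (Matrix (Fin n) (Fin n) F)}

/-- square roots of scalars in a quadratic field of matrices over a finite field of odd
characteristic -/
theorem exists_sqrt_of_field [Fintype F] (h2 : (2 : F) ≠ 0) (hn : 0 < n)
    (hK : Cfsg.Geo.IsFieldSubalgebra 2 K) (z : F) :
    ∃ κ ∈ K, κ * κ = z • (1 : Matrix (Fin n) (Fin n) F) := by
  classical
  haveI : Nonempty (Fin n) := ⟨⟨0, hn⟩⟩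
  by_cases hz : z = 0
  · exact ⟨0, K.zero_mem, by rw [hz, zero_smul, mul_zero]⟩
  haveI : IsFld K := ⟨isField_of hn K hK.comm hK.inv⟩
  haveI : Finite ↥K := Module.finite_of_finite F
  letI : Fintype ↥K := Fintype.ofFinite ↥K
  set q := Fintype.card F with hq
  have hcard : Fintype.card ↥K = q ^ 2 := by
    rw [← Nat.card_eq_fintype_card, Module.natCard_eq_pow_finrank (K := F) (V := ↥K),
      hK.finrank_eq, Nat.card_eq_fintype_card]
  have hqodd : Odd q := by
    rcases Nat.even_or_odd q with he | ho
    · exfalso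
      obtain ⟨p, hp⟩ := CharP.exists F
      haveI := hp
      haveI : Fact p.Prime := ⟨CharP.char_is_prime F p⟩
      obtain ⟨⟨k, hk⟩, -, hk2⟩ := FiniteField.card F p
      have h2q : 2 ∣ p ^ k := by
        have : 2 ∣ q := he.two_dvd
        rw [hq, hk2] at this
        exact this
      have h2p : 2 ∣ p := Nat.Prime.dvd_of_dvd_pow Nat.prime_two h2q
      have hp2 : p = 2 :=
        ((Nat.prime_dvd_prime_iff_eq Nat.prime_two (Fact.out : p.Prime)).1 h2p).symm
      apply h2
      have := CharP.cast_eq_zero F p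
      rw [hp2] at this
      exact_mod_cast this
    · exact ho
  set c : ↥K := algebraMap F ↥K z with hc
  have hc0 : c ≠ 0 := by
    intro h
    apply hz
    have h1 : (c : Matrix (Fin n) (Fin n) F) = 0 := by rw [h]; rfl
    have h2' : (c : Matrix (Fin n) (Fin n) F) = z • 1 := by
      rw [hc]
      exact Algebra.algebraMap_eq_smul_one z
    rw [h2'] at h1
    have := congrFun (congrFun h1 ⟨0, hn⟩) ⟨0, hn⟩
    simpa using this
  have hchar : ringChar ↥K ≠ 2 := by
    intro h
    have h1 : ((ringChar ↥K : ℕ) : ↥K) = 0 := ringChar.Nat.cast_ringChar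
    rw [h] at h1
    have h3 : ((2 : ↥K) : Matrix (Fin n) (Fin n) F) = 0 := by
      have : ((2 : ℕ) : ↥K) = (2 : ↥K) := by norm_cast
      rw [← this, h1]
      rfl
    have h4 : ((2 : ↥K) : Matrix (Fin n) (Fin n) F) = 2 := rfl
    rw [h4] at h3
    have h5 : (2 : Matrix (Fin n) (Fin n) F) = 1 + 1 := by norm_num
    rw [h5] at h3
    have := congrFun (congrFun h3 ⟨0, hn⟩) ⟨0, hn⟩
    rw [Matrix.add_apply, Matrix.one_apply_eq, Matrix.zero_apply, one_add_one_eq_two] at this
    exact h2 this
  have hpow : c ^ (Fintype.card ↥K / 2) = 1 := by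
    rw [hcard]
    obtain ⟨m, hm⟩ := hqodd
    have h1 : q ^ 2 / 2 = (q - 1) * (m + 1) := by
      have hq1 : q - 1 = 2 * m := by omega
      have : q ^ 2 = 2 * ((q - 1) * (m + 1)) + 1 := by
        rw [hq1, hm]
        ring
      omega
    rw [h1, pow_mul, hc, ← map_pow, FiniteField.pow_card_sub_one_eq_one z hz, map_one, one_pow]
  obtain ⟨κ, hκ⟩ := (FiniteField.isSquare_iff hchar hc0).2 hpow
  refine ⟨(κ : Matrix (Fin n) (Fin n) F), κ.2, ?_⟩
  have h1 : (c : Matrix (Fin n) (Fin n) F) = z • 1 := by
    rw [hc]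
    exact Algebra.algebraMap_eq_smul_one z
  rw [← h1, hκ]
  rfl

end ksqrt

end Cfsg.Agent.Helper13.FN
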