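import Mathlib
import Cfsg.Agent.Lib.Helper13.FieldNorm7
import Cfsg.Agent.Lib.Helper13.FieldNorm6
import Cfsg.Agent.Lib.Helper13.FieldNorm2
import Cfsg.Agent.Lib.Helper13.SemisimpleCharpolyGL

/-!
# Elements with scalar square and normalizers of quadratic fields of matrices (helper13)
-/

set_option autoImplicit false
set_option linter.style.haveILetI false
set_option linter.unusedSectionVars false
set_option linter.unusedVariables false

namespace Cfsg.Agent.Helper13.FN

open Matrix Module Polynomial Cfsg.Agent.Helper12.FieldSub Cfsg.Agent.Helper13.SS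

section conjsq

variable {F : Type*} [Field F] [Fintype F] {p : ℕ} [Fact p.Prime] [CharP F p] {n : ℕ}
variable {K : Subalgebra F (Matrix (Fin n) (Fin n) F)}

theorem two_ne_zero_of_char_ne (hp2 : p ≠ 2) : (2 : F) ≠ 0 := by
  intro h
  have h1 : ((2 : ℕ) : F) = 0 := by exact_mod_cast h
  have h2 := (CharP.cast_eq_zero_iff F p 2).1 h1
  exact hp2 ((Nat.prime_dvd_prime_iff_eq (Fact.out : p.Prime) Nat.prime_two).1 h2)

/-- the order of an element of `SL_n` whose square is a nonzero scalar is prime to the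
characteristic (odd). -/
theorem orderOf_coprime_of_sq (hp2 : p ≠ 2) (x : SpecialLinearGroup (Fin n) F) (z : F)
    (hz : z ≠ 0) (hx : (x ^ 2 : SpecialLinearGroup (Fin n) F).1 =
      z • (1 : Matrix (Fin n) (Fin n) F)) : (orderOf x).Coprime p := by
  have hp : p.Prime := Fact.out
  have h1 : x ^ (2 * (Fintype.card F - 1)) = 1 := by
    apply Subtype.ext
    rw [pow_mul, Matrix.SpecialLinearGroup.coe_pow, hx, _root_.smul_pow, one_pow,
      FiniteField.pow_card_sub_one_eq_one z hz, one_smul, Matrix.SpecialLinearGroup.coe_one]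
  apply Nat.Coprime.coprime_dvd_left (orderOf_dvd_of_pow_eq_one h1)
  apply Nat.Coprime.mul_left
  · exact (Nat.coprime_primes Nat.prime_two hp).2 (Ne.symm hp2)
  · have := coprime_card_pow_sub_one (F := F) (p := p) rfl 1 (by norm_num)
    rwa [pow_one] at this

/-- conjugating an element with a prescribed characteristic polynomial into the normalizer -/
theorem conj_into_of_charpoly (hp2 : p ≠ 2) (x : SpecialLinearGroup (Fin n) F) (z : F)
    (hz : z ≠ 0) (hx : (x ^ 2 : SpecialLinearGroup (Fin n) F).1 =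
      z • (1 : Matrix (Fin n) (Fin n) F))
    (Y : Matrix (Fin n) (Fin n) F) (hY : Y * Y = z • (1 : Matrix (Fin n) (Fin n) F))
    (hYK : ∀ k ∈ K, ∃ k' ∈ K, Y * k = k' * Y) (hchar : Y.charpoly = x.1.charpoly) :
    ∃ P : SpecialLinearGroup (Fin n) F, P⁻¹ * x * P ∈ (Cfsg.Geo.subalgebraNormalizer K).comap
      (SpecialLinearGroup.toGL : SpecialLinearGroup (Fin n) F →* GL (Fin n) F) := by
  have hdet : Y.det = 1 := by
    rw [Matrix.det_eq_sign_charpoly_coeff, hchar, ← Matrix.det_eq_sign_charpoly_coeff]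
    exact x.2
  obtain ⟨y, hy⟩ : ∃ y : SpecialLinearGroup (Fin n) F, y.1 = Y := ⟨⟨Y, hdet⟩, rfl⟩
  have hy2 : (y ^ 2 : SpecialLinearGroup (Fin n) F).1 = z • (1 : Matrix (Fin n) (Fin n) F) := by
    rw [Matrix.SpecialLinearGroup.coe_pow, hy, pow_two, hY]
  have hyN : SpecialLinearGroup.toGL y ∈ Cfsg.Geo.subalgebraNormalizer K := by
    apply mem_normalizer_of_forall
    intro k hk
    have hval : ((SpecialLinearGroup.toGL y : GL (Fin n) F) : Matrix (Fin n) (Fin n) F) = Y := hy
    obtain ⟨k', hk', hkk'⟩ := hYK k hk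
    rw [hval, hkk', mul_assoc]
    have : Y * (((SpecialLinearGroup.toGL y)⁻¹ : GL (Fin n) F) : Matrix (Fin n) (Fin n) F) = 1 := by
      rw [← hval, ← Units.val_mul, mul_inv_cancel, Units.val_one]
    rw [this, mul_one]
    exact hk'
  have hconj := sl_isConj_of_charpoly_eq (p := p) y x (orderOf_coprime_of_sq hp2 y z hz hy2)
    (orderOf_coprime_of_sq hp2 x z hz hx) (by rw [hy, hchar])
  obtain ⟨c, hc⟩ := isConj_iff.1 hconj
  refine ⟨c, ?_⟩
  rw [Subgroup.mem_comap, ← hc]
  have : c⁻¹ * (c * y * c⁻¹) * c = y := by group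
  rw [this]
  exact hyN

theorem conj_of_sq_nonsplit (hp2 : p ≠ 2) (hn : 0 < n) (hK : Cfsg.Geo.IsFieldSubalgebra 2 K)
    (x : SpecialLinearGroup (Fin n) F) (z : F) (hz : ¬ IsSquare z)
    (hx : (x ^ 2 : SpecialLinearGroup (Fin n) F).1 = z • (1 : Matrix (Fin n) (Fin n) F)) :
    ∃ P : SpecialLinearGroup (Fin n) F, P⁻¹ * x * P ∈ (Cfsg.Geo.subalgebraNormalizer K).comap
      (SpecialLinearGroup.toGL : SpecialLinearGroup (Fin n) F →* GL (Fin n) F) := by
  have h2 : (2 : F) ≠ 0 := two_ne_zero_of_char_ne (p := p) hp2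
  have hz0 : z ≠ 0 := fun h => hz (h ▸ IsSquare.zero)
  obtain ⟨κ, hκK, hκ⟩ := exists_sqrt_of_field h2 hn hK z
  have hxM : x.1 * x.1 = z • (1 : Matrix (Fin n) (Fin n) F) := by
    rw [← pow_two, ← Matrix.SpecialLinearGroup.coe_pow]
    exact hx
  apply conj_into_of_charpoly hp2 x z hz0 hx κ hκ (fun k hk => ⟨k, hk, hK.comm κ hκK k hk⟩)
  rw [charpoly_of_sq_nonsplit z hz κ hκ, charpoly_of_sq_nonsplit z hz x.1 hxM]

theorem conj_of_sq_split (hp2 : p ≠ 2) (hn : 0 < n) (hne : Even n)
    (hK : Cfsg.Geo.IsFieldSubalgebra 2 K)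
    (hv : padicValNat 2 (Fintype.card F - 1) ≤ padicValNat 2 n)
    (x : SpecialLinearGroup (Fin n) F) (a : F) (ha : a ≠ 0)
    (hx : (x ^ 2 : SpecialLinearGroup (Fin n) F).1 = (a * a) • (1 : Matrix (Fin n) (Fin n) F)) :
    ∃ P : SpecialLinearGroup (Fin n) F, P⁻¹ * x * P ∈ (Cfsg.Geo.subalgebraNormalizer K).comap
      (SpecialLinearGroup.toGL : SpecialLinearGroup (Fin n) F →* GL (Fin n) F) := by
  have h2 : (2 : F) ≠ 0 := two_ne_zero_of_char_ne (p := p) hp2
  have hxM : x.1 * x.1 = (a * a) • (1 : Matrix (Fin n) (Fin n) F) := by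
    rw [← pow_two, ← Matrix.SpecialLinearGroup.coe_pow]
    exact hx
  set j := finrank F (LinearMap.ker (Matrix.toLin' (x.1 + a • (1 : Matrix (Fin n) (Fin n) F))))
    with hj
  have hcx := charpoly_of_sq_split h2 a ha x.1 hxM
  rw [← hj] at hcx
  have hjn : j ≤ n := by
    have := Submodule.finrank_le
      (LinearMap.ker (Matrix.toLin' (x.1 + a • (1 : Matrix (Fin n) (Fin n) F))))
    rwa [Module.finrank_fin_fun] at this
  -- parity of `j`
  have hjeven : Even j := by
    by_contra hodd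
    rw [Nat.not_even_iff_odd] at hodd
    have hdet := Matrix.det_eq_sign_charpoly_coeff x.1
    rw [x.2, Fintype.card_fin, hne.neg_one_pow, one_mul, hcx, coeff_zero_eq_eval_zero, eval_mul,
      eval_pow, eval_pow, eval_sub, eval_add, eval_X, eval_C, zero_sub, zero_add] at hdet
    have hnj : Odd (n - j) := by
      obtain ⟨m, hm⟩ := hne
      obtain ⟨l, hl⟩ := hodd
      exact ⟨m - l - 1, by omega⟩
    rw [hnj.neg_pow, neg_mul, ← pow_add, Nat.sub_add_cancel hjn] at hdet
    apply pow_ne_neg_one h2 n hn hv a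
    rw [hdet, neg_neg]
  obtain ⟨t, ht⟩ := hjeven
  obtain ⟨U, U', hUU', hUt, hUK, hU'K⟩ := exists_stable_isCompl hn hK t (by omega)
  obtain ⟨Y, hYY, hYK, hYker⟩ := exists_centralizing_of_isCompl (K := K) h2 a ha U U' hUU' hUK hU'K
  apply conj_into_of_charpoly hp2 x (a * a) (mul_ne_zero ha ha) hx Y hYY
    (fun k hk => ⟨k, hk, hYK k hk⟩)
  rw [hcx, charpoly_of_sq_split h2 a ha Y hYY, hYker, hUt, ht, two_mul]

end conjsq

section dimtwo

variable {F : Type*} [Field F]

/-- a non-scalar `2 × 2` matrix with scalar square -/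
theorem charpoly_two_of_sq (M : Matrix (Fin 2) (Fin 2) F) (z : F)
    (hM : M * M = z • (1 : Matrix (Fin 2) (Fin 2) F))
    (hns : ∀ c : F, M ≠ c • (1 : Matrix (Fin 2) (Fin 2) F)) :
    M.charpoly = X ^ 2 - C z ∧ M.det = -z := by
  have hcp := Matrix.charpoly_fin_two M
  have hCH := Matrix.aeval_self_charpoly M
  rw [hcp] at hCH
  simp only [map_add, map_sub, map_mul, map_pow, aeval_X, aeval_C,
    Algebra.algebraMap_eq_smul_one] at hCH
  rw [pow_two, hM, smul_mul_assoc, one_mul] at hCH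
  have ht : M.trace = 0 := by
    by_contra ht
    apply hns (M.trace⁻¹ * (z + M.det))
    have h1 : M.trace • M = (z + M.det) • (1 : Matrix (Fin 2) (Fin 2) F) := by
      rw [add_smul]
      rw [sub_add_eq_add_sub, sub_eq_zero] at hCH
      exact hCH.symm
    rw [mul_smul, ← h1, smul_smul, inv_mul_cancel₀ ht, one_smul]
  rw [ht, zero_smul, sub_zero, ← add_smul] at hCH
  have hd : z + M.det = 0 := by
    have := congrFun (congrFun hCH 0) 0
    simpa using this
  have hdet : M.det = -z := by linear_combination hd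
  refine ⟨?_, hdet⟩
  rw [hcp, ht, hdet, map_zero, zero_mul, sub_zero, map_neg, sub_eq_add_neg]

end dimtwo

end Cfsg.Agent.Helper13.FN
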