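import Mathlib
import Cfsg.Agent.Lib.Helper13.CyclicVec

set_option autoImplicit false

/-!
# Regular nilpotent endomorphisms: conjugacy, determinants of the commutant
-/

namespace Cfsg.Agent.Helper13

open Module LinearMap Polynomial

section conj
variable {K V : Type*} [Field K] [AddCommGroup V] [Module K V] [FiniteDimensional K V]

/-- the Jordan basis `v, f v, …, f^(n-1) v` of a regular nilpotent endomorphism -/
theorem exists_jordan_basis (f : Module.End K V) (h1 : finrank K (ker f) ≤ 1)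
    (hn : f ^ (finrank K V) = 0) (v : V) (hv : (f ^ (finrank K V - 1)) v ≠ 0) :
    ∃ b : Basis (Fin (finrank K V)) K V, ∀ i : Fin (finrank K V), b i = (f ^ (i : ℕ)) v := by
  have hcyc := cyclicSpan_eq_top_of_top_vector f h1 hn v hv
  have hspan : ⊤ ≤ Submodule.span K (Set.range fun i : Fin (finrank K V) => (f ^ (i : ℕ)) v) := by
    rw [← hcyc]
    unfold cyclicSpan
    apply Submodule.span_le.2
    rintro _ ⟨i, rfl⟩
    by_cases hi : i < finrank K V
    · exact Submodule.subset_span ⟨⟨i, hi⟩, rfl⟩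
    · have : f ^ i = 0 := by
        obtain ⟨c, rfl⟩ := Nat.exists_eq_add_of_le (not_lt.1 hi)
        rw [pow_add, hn, zero_mul]
      simp only [this, LinearMap.zero_apply]
      exact Submodule.zero_mem _
  refine ⟨basisOfTopLeSpanOfCardEqFinrank _ hspan (by simp), fun i => ?_⟩
  rw [coe_basisOfTopLeSpanOfCardEqFinrank]

/-- two regular nilpotent endomorphisms are conjugate -/
theorem exists_conj_regular_nilpotent (f f' : Module.End K V)
    (h1 : finrank K (ker f) ≤ 1) (hn : f ^ (finrank K V) = 0)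
    (h1' : finrank K (ker f') ≤ 1) (hn' : f' ^ (finrank K V) = 0) (hpos : 0 < finrank K V) :
    ∃ g : V ≃ₗ[K] V, ∀ x, g (f x) = f' (g x) := by
  obtain ⟨v, hv⟩ := exists_top_vector f h1 hn hpos
  obtain ⟨v', hv'⟩ := exists_top_vector f' h1' hn' hpos
  obtain ⟨b, hb⟩ := exists_jordan_basis f h1 hn v hv
  obtain ⟨b', hb'⟩ := exists_jordan_basis f' h1' hn' v' hv'
  refine ⟨b.equiv b' (Equiv.refl _), ?_⟩
  have key : (b.equiv b' (Equiv.refl _) : V →ₗ[K] V) ∘ₗ f = f' ∘ₗ (b.equiv b' (Equiv.refl _) : V →ₗ[K] V) := by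
    apply b.ext
    intro i
    simp only [LinearMap.comp_apply, LinearEquiv.coe_coe, Basis.equiv_apply, Equiv.refl_apply]
    rw [hb i, hb' i, ← Module.End.mul_apply, ← Module.End.mul_apply, ← pow_succ', ← pow_succ']
    by_cases hi : (i : ℕ) + 1 < finrank K V
    · have e1 : (f ^ ((i : ℕ) + 1)) v = b ⟨(i : ℕ) + 1, hi⟩ := (hb ⟨(i : ℕ) + 1, hi⟩).symm
      have e2 : (f' ^ ((i : ℕ) + 1)) v' = b' ⟨(i : ℕ) + 1, hi⟩ := (hb' ⟨(i : ℕ) + 1, hi⟩).symm
      rw [e1, e2, Basis.equiv_apply, Equiv.refl_apply]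
    · have hi' : (i : ℕ) + 1 = finrank K V := by have := i.2; omega
      rw [hi', hn, hn']
      simp
  intro x
  have := congrArg (fun φ : V →ₗ[K] V => φ x) key
  simpa using this

end conj

section matrix
variable {F : Type*} [Field F] {n : ℕ}

/-- data of a regular nilpotent matrix in terms of the associated endomorphism -/
theorem regular_data (N : Matrix (Fin n) (Fin n) F) (hnil : N ^ n = 0) (hreg : N.rank = n - 1)
    (hn : 1 ≤ n) :
    finrank F (ker (Matrix.toLin' N)) ≤ 1 ∧
      (Matrix.toLin' N) ^ (finrank F (Fin n → F)) = 0 := by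
  have hfr : finrank F (Fin n → F) = n := Module.finrank_fin_fun F
  have hrk : finrank F (range (Matrix.toLin' N)) = n - 1 := by
    rw [← hreg, Matrix.rank, Matrix.toLin'_apply']
  constructor
  · have := LinearMap.finrank_range_add_finrank_ker (Matrix.toLin' N)
    rw [hfr, hrk] at this
    omega
  · rw [hfr, ← Matrix.toLin'_pow, hnil, map_zero]

/-- two regular nilpotent matrices are conjugate under `GL_n` -/
theorem exists_GL_conj_regular_nilpotent (N N' : Matrix (Fin n) (Fin n) F)
    (hnil : N ^ n = 0) (hreg : N.rank = n - 1) (hnil' : N' ^ n = 0) (hreg' : N'.rank = n - 1)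
    (hn : 1 ≤ n) :
    ∃ G : GL (Fin n) F, (G : Matrix (Fin n) (Fin n) F) * N = N' * (G : Matrix (Fin n) (Fin n) F) := by
  obtain ⟨h1, h2⟩ := regular_data N hnil hreg hn
  obtain ⟨h1', h2'⟩ := regular_data N' hnil' hreg' hn
  have hpos : 0 < finrank F (Fin n → F) := by rw [Module.finrank_fin_fun]; omega
  obtain ⟨g, hg⟩ := exists_conj_regular_nilpotent _ _ h1 h2 h1' h2' hpos
  set H : Matrix (Fin n) (Fin n) F := LinearMap.toMatrix' (g : (Fin n → F) →ₗ[F] (Fin n → F)) with hH
  have hHdet : H.det ≠ 0 := by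
    rw [hH, LinearMap.det_toMatrix']
    exact (LinearEquiv.isUnit_det' g).ne_zero
  refine ⟨Matrix.GeneralLinearGroup.mkOfDetNeZero H hHdet, ?_⟩
  change H * N = N' * H
  have hcomm : (g : (Fin n → F) →ₗ[F] (Fin n → F)) ∘ₗ Matrix.toLin' N =
      Matrix.toLin' N' ∘ₗ (g : (Fin n → F) →ₗ[F] (Fin n → F)) := by
    apply LinearMap.ext
    intro x
    simp only [LinearMap.comp_apply, LinearEquiv.coe_coe]
    exact hg x
  have := congrArg LinearMap.toMatrix' hcomm
  rw [LinearMap.toMatrix'_comp, LinearMap.toMatrix'_comp, LinearMap.toMatrix'_toLin',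
    LinearMap.toMatrix'_toLin'] at this
  exact this

/-- determinant of scalar plus nilpotent -/
theorem det_smul_one_add_nilpotent (a : F) (M : Matrix (Fin n) (Fin n) F) (hM : IsNilpotent M) :
    (a • (1 : Matrix (Fin n) (Fin n) F) + M).det = a ^ n := by
  have hM' : IsNilpotent (-M) := hM.neg
  have h1 : IsNilpotent ((-M).charpoly - X ^ Fintype.card (Fin n)) :=
    Matrix.isNilpotent_charpoly_sub_pow_of_isNilpotent hM'
  have h2 : (-M).charpoly = X ^ Fintype.card (Fin n) := sub_eq_zero.mp h1.eq_zero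
  have h3 := Matrix.eval_charpoly (-M) a
  rw [h2, Fintype.card_fin, eval_pow, eval_X, sub_neg_eq_add] at h3
  rw [h3]
  congr 1
  congr 1
  ext i j
  simp [Matrix.scalar_apply, Matrix.diagonal_apply, Matrix.one_apply]

/-- the determinant of a matrix commuting with a regular nilpotent matrix is an `n`-th power -/
theorem det_of_commute_regular_nilpotent (N C : Matrix (Fin n) (Fin n) F)
    (hnil : N ^ n = 0) (hreg : N.rank = n - 1) (hn : 1 ≤ n) (hC : C * N = N * C) :
    ∃ a : F, C.det = a ^ n := by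
  obtain ⟨h1, h2⟩ := regular_data N hnil hreg hn
  have hpos : 0 < finrank F (Fin n → F) := by rw [Module.finrank_fin_fun]; omega
  obtain ⟨v, hv⟩ := exists_top_vector _ h1 h2 hpos
  have hcyc := cyclicSpan_eq_top_of_top_vector _ h1 h2 v hv
  have hcomm : Commute (Matrix.toLin' C) (Matrix.toLin' N) := by
    show Matrix.toLin' C * Matrix.toLin' N = Matrix.toLin' N * Matrix.toLin' C
    rw [Module.End.mul_eq_comp, Module.End.mul_eq_comp, ← Matrix.toLin'_mul, ← Matrix.toLin'_mul, hC]
  obtain ⟨p, hp⟩ := exists_aeval_of_commute _ v hcyc _ hcomm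
  -- transfer to matrices
  have hCp : C = aeval N p := by
    apply Matrix.toLin'.injective
    rw [hp]
    exact (Polynomial.aeval_algHom_apply (Matrix.toLinAlgEquiv' : Matrix (Fin n) (Fin n) F ≃ₐ[F] _).toAlgHom N p)
  refine ⟨p.coeff 0, ?_⟩
  have hdecomp : aeval N p = (p.coeff 0) • (1 : Matrix (Fin n) (Fin n) F) + N * aeval N p.divX := by
    conv_lhs => rw [← Polynomial.divX_mul_X_add p]
    rw [map_add, map_mul, aeval_X, aeval_C, Algebra.algebraMap_eq_smul_one, add_comm]
    congr 1
    exact ((Algebra.commute_of_mem_adjoin_self (aeval_mem_adjoin_singleton F N))).eq.symm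
  have hNnil : IsNilpotent N := ⟨n, hnil⟩
  have hnil2 : IsNilpotent (N * aeval N p.divX) := by
    exact Commute.isNilpotent_mul_right
      (Algebra.commute_of_mem_adjoin_self (aeval_mem_adjoin_singleton F N)) hNnil
  rw [hCp, hdecomp, det_smul_one_add_nilpotent _ _ hnil2]

end matrix

end Cfsg.Agent.Helper13
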