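import Mathlib
import Cfsg.Agent.Lib.Helper13.FieldNorm8
import Cfsg.Agent.Lib.Helper13.RegNilConj

/-!
# Quadratic fields of `2 × 2` matrices: elements with scalar square (helper13)
-/

set_option autoImplicit false
set_option linter.style.haveILetI false
set_option linter.unusedSectionVars false
set_option linter.unusedVariables false

namespace Cfsg.Agent.Helper13.FN

open Matrix Module Polynomial Cfsg.Agent.Helper12.FieldSub Cfsg.Agent.Helper13.SS

section twoodd

variable {F : Type*} [Field F] [Fintype F] {p : ℕ} [Fact p.Prime] [CharP F p]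
variable {K : Subalgebra F (Matrix (Fin 2) (Fin 2) F)}

theorem conj_two_odd (hp2 : p ≠ 2) (hK : Cfsg.Geo.IsFieldSubalgebra 2 K)
    (x : SpecialLinearGroup (Fin 2) F) (z : F)
    (hx : (x ^ 2 : SpecialLinearGroup (Fin 2) F).1 = z • (1 : Matrix (Fin 2) (Fin 2) F))
    (hns : ∀ c : F, x.1 ≠ c • (1 : Matrix (Fin 2) (Fin 2) F)) :
    ∃ P : SpecialLinearGroup (Fin 2) F, P⁻¹ * x * P ∈ (Cfsg.Geo.subalgebraNormalizer K).comap
      (SpecialLinearGroup.toGL : SpecialLinearGroup (Fin 2) F →* GL (Fin 2) F) := by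
  classical
  have h2 : (2 : F) ≠ 0 := two_ne_zero_of_char_ne (p := p) hp2
  have hxM : x.1 * x.1 = z • (1 : Matrix (Fin 2) (Fin 2) F) := by
    rw [← pow_two, ← Matrix.SpecialLinearGroup.coe_pow]
    exact hx
  obtain ⟨hcx, hdx⟩ := charpoly_two_of_sq x.1 z hxM hns
  have hz : z = -1 := by
    rw [x.2] at hdx
    linear_combination hdx
  set q := Fintype.card F with hq
  have hq2 : 2 ≤ q := Fintype.one_lt_card
  have hqodd : Odd q := by
    rcases Nat.even_or_odd q with he | ho
    · exfalso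
      obtain ⟨⟨k, hk⟩, -, hk2⟩ := FiniteField.card F p
      have h2q : 2 ∣ p ^ k := by
        have : 2 ∣ q := he.two_dvd
        rw [hq, hk2] at this
        exact this
      have h2p : 2 ∣ p := Nat.Prime.dvd_of_dvd_pow Nat.prime_two h2q
      exact hp2 ((Nat.prime_dvd_prime_iff_eq Nat.prime_two (Fact.out : p.Prime)).1 h2p).symm
    · exact ho
  obtain ⟨s, hs, hs2, hind⟩ := exists_frobenius (by norm_num : 0 < 2) hK
  obtain ⟨ζ, hζK, hζ⟩ := exists_generator (by norm_num : 0 < 2) K hK.comm hK.inv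
  rw [hK.finrank_eq, ← hq] at hζ
  obtain ⟨m, hm⟩ := hqodd
  have hq1 : q - 1 = 2 * m := by omega
  have hqq : q ^ 2 - 1 = 2 * (m * (q + 1)) := by
    have : q ^ 2 = 2 * (m * (q + 1)) + 1 := by
      rw [hm]
      ring
    omega
  have hm0 : 0 < m := by omega
  set κ := ζ ^ m with hκ
  have hκK : κ ∈ K := K.pow_mem hζK m
  set c := ζ ^ (m * (q + 1)) with hc
  have hcK : c ∈ K := K.pow_mem hζK _
  have hcc : c * c = 1 := by
    rw [hc, ← pow_add, ← two_mul, ← hqq]
    exact (hζ _).2 dvd_rfl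
  have hc1 : c ≠ 1 := by
    intro h
    have := (hζ _).1 h
    rw [hqq] at this
    have hpos : 0 < m * (q + 1) := by positivity
    have := Nat.le_of_dvd hpos this
    omega
  have hcm1 : c = -1 := by
    have h1 : (c - 1) * (c + 1) = 0 := by
      rw [sub_mul, mul_add, mul_add, hcc]
      noncomm_ring
    obtain ⟨d, hdK, hd⟩ := hK.inv (c - 1) (K.sub_mem hcK K.one_mem) (sub_ne_zero.2 hc1)
    have hd' : d * (c - 1) = 1 := by rw [hK.comm d hdK _ (K.sub_mem hcK K.one_mem)]; exact hd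
    have h3 : c + 1 = 0 := by
      calc c + 1 = (d * (c - 1)) * (c + 1) := by rw [hd', one_mul]
        _ = d * ((c - 1) * (c + 1)) := by rw [mul_assoc]
        _ = 0 := by rw [h1, mul_zero]
    exact eq_neg_of_add_eq_zero_left h3
  set Y := κ * s with hY
  have hss : s * s = 1 := by rw [← pow_two]; exact hs2
  have hκq : κ * κ ^ q = c := by
    rw [hκ, hc, ← pow_mul, ← pow_add]
    congr 1
    ring
  have hYk : ∀ k ∈ K, Y * k = k ^ q * Y := by
    intro k hk
    rw [hY, mul_assoc, hs k hk, ← mul_assoc, ← mul_assoc, hK.comm κ hκK _ (K.pow_mem hk q)]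
  have hYY : Y * Y = z • (1 : Matrix (Fin 2) (Fin 2) F) := by
    have h1 : Y * Y = Y * κ * s := by rw [hY]; simp only [mul_assoc]
    rw [h1, hYk κ hκK, hY, mul_assoc, mul_assoc, hss, mul_one,
      hK.comm _ (K.pow_mem hκK q) κ hκK, hκq, hcm1, hz, neg_smul, one_smul]
  have hYns : ∀ c' : F, Y ≠ c' • (1 : Matrix (Fin 2) (Fin 2) F) := by
    intro c' hc'
    have hc'0 : c' ≠ 0 := by
      intro h0
      rw [hc', h0, zero_smul, mul_zero, hz] at hYY
      have := congrFun (congrFun hYY 0) 0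
      simp at this
    have h1 := hYk ζ hζK
    rw [hc', smul_mul_assoc, one_mul, mul_smul_comm, mul_one] at h1
    have h3 : ζ = ζ ^ q := smul_right_injective _ hc'0 h1
    have hζinv : ζ ^ (q ^ 2 - 1) = 1 := (hζ _).2 dvd_rfl
    have h4 : ζ ^ (q - 1) = 1 := by
      have e1 : ζ ^ (q ^ 2 - 1 - 1) * ζ = 1 := by
        rw [← pow_succ, Nat.sub_add_cancel (by
          have : 0 < m * (q + 1) := by positivity
          omega), hζinv]
      calc ζ ^ (q - 1) = (ζ ^ (q ^ 2 - 1 - 1) * ζ) * ζ ^ (q - 1) := by rw [e1, one_mul]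
        _ = ζ ^ (q ^ 2 - 1 - 1) * ζ ^ q := by
          rw [mul_assoc, ← pow_succ', Nat.sub_add_cancel (by omega)]
        _ = ζ ^ (q ^ 2 - 1 - 1) * ζ := by rw [← h3]
        _ = 1 := e1
    have h5 := (hζ _).1 h4
    have h6 := Nat.le_of_dvd (by omega) h5
    have : q ^ 2 = q * q := pow_two q
    nlinarith
  obtain ⟨hcY, -⟩ := charpoly_two_of_sq Y z hYY hYns
  have hz0 : z ≠ 0 := by rw [hz]; exact neg_ne_zero.2 one_ne_zero
  exact conj_into_of_charpoly hp2 x z hz0 hx Y hYY
    (fun k hk => ⟨k ^ q, K.pow_mem hk q, hYk k hk⟩) (by rw [hcY, hcx])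

end twoodd

section twoeven

variable {F : Type*} [Field F]

theorem rank_eq_one_of_sq_zero (M : Matrix (Fin 2) (Fin 2) F) (hM : M * M = 0) (hM0 : M ≠ 0) :
    M.rank = 1 := by
  have hrk : M.rank = finrank F (LinearMap.range (Matrix.toLin' M)) := by
    rw [Matrix.rank, Matrix.toLin'_apply']
  have hle : LinearMap.range (Matrix.toLin' M) ≤ LinearMap.ker (Matrix.toLin' M) := by
    rintro _ ⟨v, rfl⟩
    rw [LinearMap.mem_ker, Matrix.toLin'_apply, Matrix.toLin'_apply, Matrix.mulVec_mulVec, hM,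
      Matrix.zero_mulVec]
  have h1 := LinearMap.finrank_range_add_finrank_ker (Matrix.toLin' M)
  rw [Module.finrank_fin_fun] at h1
  have h2 := Submodule.finrank_mono hle
  have h3 : 0 < finrank F (LinearMap.range (Matrix.toLin' M)) := by
    rw [Module.finrank_pos_iff_exists_ne_zero]
    by_contra hcon
    push Not at hcon
    apply hM0
    apply ext_mulVec
    intro v
    have := hcon ⟨Matrix.toLin' M v, LinearMap.mem_range_self _ v⟩
    have h4 := congrArg Subtype.val this
    rw [Matrix.zero_mulVec]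
    rw [← Matrix.toLin'_apply]
    exact h4
  omega

variable [Fintype F]
variable {K : Subalgebra F (Matrix (Fin 2) (Fin 2) F)}

theorem conj_two_even [CharP F 2] (hK : Cfsg.Geo.IsFieldSubalgebra 2 K)
    (x : SpecialLinearGroup (Fin 2) F) (z : F)
    (hx : (x ^ 2 : SpecialLinearGroup (Fin 2) F).1 = z • (1 : Matrix (Fin 2) (Fin 2) F))
    (hns : ∀ c : F, x.1 ≠ c • (1 : Matrix (Fin 2) (Fin 2) F)) :
    ∃ P : SpecialLinearGroup (Fin 2) F, P⁻¹ * x * P ∈ (Cfsg.Geo.subalgebraNormalizer K).comap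
      (SpecialLinearGroup.toGL : SpecialLinearGroup (Fin 2) F →* GL (Fin 2) F) := by
  classical
  have h2 : (2 : F) = 0 := by
    have := CharP.cast_eq_zero F 2
    exact_mod_cast this
  have hneg : (-1 : F) = 1 := by linear_combination -h2
  have hxM : x.1 * x.1 = z • (1 : Matrix (Fin 2) (Fin 2) F) := by
    rw [← pow_two, ← Matrix.SpecialLinearGroup.coe_pow]
    exact hx
  obtain ⟨-, hdx⟩ := charpoly_two_of_sq x.1 z hxM hns
  have hz : z = 1 := by
    rw [x.2] at hdx
    linear_combination hdx + hneg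
  rw [hz, one_smul] at hxM
  have h2M : ∀ A : Matrix (Fin 2) (Fin 2) F, A + A = 0 := by
    intro A
    rw [← two_smul F A, h2, zero_smul]
  have hsq : ∀ A : Matrix (Fin 2) (Fin 2) F, A * A = 1 → (A - 1) * (A - 1) = 0 := by
    intro A hA
    rw [sub_mul, mul_sub, mul_sub, hA, mul_one, one_mul, mul_one]
    have := h2M (1 - A)
    rw [← this]
    abel
  set N := x.1 - 1 with hN
  have hNN : N * N = 0 := hsq x.1 hxM
  have hN0 : N ≠ 0 := by
    intro h
    apply hns 1
    rw [one_smul]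
    exact sub_eq_zero.1 h
  obtain ⟨s, hs, hs2, hind⟩ := exists_frobenius (by norm_num : 0 < 2) hK
  have hss : s * s = 1 := by rw [← pow_two]; exact hs2
  have hs1 : s ≠ 1 := by
    intro h
    have := hind (fun i => if i = 0 then 1 else -1) (by
      rw [Finset.sum_range_succ, Finset.sum_range_one]
      simp [h]) 0 (by norm_num)
    simp at this
  set N' := s - 1 with hN'
  have hNN' : N' * N' = 0 := hsq s hss
  have hN'0 : N' ≠ 0 := fun h => hs1 (sub_eq_zero.1 h)
  obtain ⟨G, hG⟩ := Cfsg.Agent.Helper13.exists_GL_conj_regular_nilpotent N N'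
    (by rw [pow_two]; exact hNN) (by rw [rank_eq_one_of_sq_zero N hNN hN0])
    (by rw [pow_two]; exact hNN') (by rw [rank_eq_one_of_sq_zero N' hNN' hN'0]) (by norm_num)
  set δ := (G : Matrix (Fin 2) (Fin 2) F).det with hδ
  have hδ0 : δ ≠ 0 := by
    exact (Matrix.GeneralLinearGroup.det G).ne_zero
  obtain ⟨c, hc⟩ := FiniteField.isSquare_of_char_two (ringChar.eq F 2) δ⁻¹
  set P₀ : Matrix (Fin 2) (Fin 2) F := c • (G : Matrix (Fin 2) (Fin 2) F) with hP₀
  have hP₀det : P₀.det = 1 := by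
    rw [hP₀, Matrix.det_smul, Fintype.card_fin, pow_two, ← hc, ← hδ, inv_mul_cancel₀ hδ0]
  have hP₀x : P₀ * x.1 = s * P₀ := by
    have e1 : x.1 = 1 + N := by rw [hN]; abel
    have e2 : s = 1 + N' := by rw [hN']; abel
    rw [e1, e2, mul_add, add_mul, mul_one, one_mul, hP₀, smul_mul_assoc, mul_smul_comm, hG]
  have hsdet : s.det = 1 := by
    have h1 : s.det * s.det = 1 := by rw [← Matrix.det_mul, hss, Matrix.det_one]
    have h3 : (s.det - 1) * (s.det - 1) = 0 := by
      have : (s.det - 1) * (s.det - 1) = s.det * s.det - 2 * s.det + 1 := by ring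
      rw [this, h1, h2]
      linear_combination h2
    have := mul_self_eq_zero.1 h3
    exact sub_eq_zero.1 this
  obtain ⟨sS, hsS⟩ : ∃ y : SpecialLinearGroup (Fin 2) F, y.1 = s := ⟨⟨s, hsdet⟩, rfl⟩
  obtain ⟨Q, hQ⟩ : ∃ y : SpecialLinearGroup (Fin 2) F, y.1 = P₀ := ⟨⟨P₀, hP₀det⟩, rfl⟩
  have hsN : SpecialLinearGroup.toGL sS ∈ Cfsg.Geo.subalgebraNormalizer K := by
    apply mem_normalizer_of_forall
    intro k hk
    have hval : ((SpecialLinearGroup.toGL sS : GL (Fin 2) F) : Matrix (Fin 2) (Fin 2) F) = s := hsS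
    rw [hval, hs k hk, mul_assoc]
    have : s * (((SpecialLinearGroup.toGL sS)⁻¹ : GL (Fin 2) F) : Matrix (Fin 2) (Fin 2) F) = 1 := by
      rw [← hval, ← Units.val_mul, mul_inv_cancel, Units.val_one]
    rw [this, mul_one]
    exact K.pow_mem hk _
  have hQx : Q * x = sS * Q := by
    apply Subtype.ext
    rw [Matrix.SpecialLinearGroup.coe_mul, Matrix.SpecialLinearGroup.coe_mul, hQ, hsS]
    exact hP₀x
  refine ⟨Q⁻¹, ?_⟩
  rw [Subgroup.mem_comap, inv_inv, hQx, mul_inv_cancel_right]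
  exact hsN

end twoeven

end Cfsg.Agent.Helper13.FN
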