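import Mathlib
import Cfsg.Agent.Lib.Helper13.SubspaceCount

/-!
# Counting flags `U ≤ W` of subspaces of a finite vector space
-/

set_option autoImplicit false
set_option linter.style.haveILetI false
set_option linter.unusedSectionVars false
set_option linter.unusedVariables false

namespace Cfsg.Agent.Helper13.SubCnt

open Module

variable {F V : Type*} [Field F] [Fintype F] [AddCommGroup V] [Module F V] [Finite V]

/-- the flags `U ≤ W` with `W` fixed are the subspaces of `W`. -/
noncomputable def flagFiberEquiv (m d : ℕ) (W : {W : Submodule F V // finrank F W = d})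
    (π : {P : Submodule F V × Submodule F V //
        P.1 ≤ P.2 ∧ finrank F P.1 = m ∧ finrank F P.2 = d} →
      {W : Submodule F V // finrank F W = d})
    (hπ : ∀ P, (π P).1 = P.1.2) :
    {P : {P : Submodule F V × Submodule F V //
        P.1 ≤ P.2 ∧ finrank F P.1 = m ∧ finrank F P.2 = d} // π P = W} ≃
      {U : Submodule F ↥W.1 // finrank F U = m} where
  toFun P := ⟨P.1.1.1.comap W.1.subtype, by
    have hW : P.1.1.2 = W.1 := by rw [← hπ, P.2]
    have hle : P.1.1.1 ≤ W.1 := hW ▸ P.1.2.1
    rw [(Submodule.comapSubtypeEquivOfLe hle).finrank_eq]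
    exact P.1.2.2.1⟩
  invFun U := ⟨⟨(U.1.map W.1.subtype, W.1),
    Submodule.map_subtype_le W.1 U.1, by
      rw [Submodule.finrank_map_subtype_eq]; exact U.2, W.2⟩, Subtype.ext (by rw [hπ])⟩
  left_inv P := by
    have hW : P.1.1.2 = W.1 := by rw [← hπ, P.2]
    have hle : P.1.1.1 ≤ W.1 := hW ▸ P.1.2.1
    apply Subtype.ext
    apply Subtype.ext
    apply Prod.ext
    · change (P.1.1.1.comap W.1.subtype).map W.1.subtype = P.1.1.1
      rw [Submodule.map_comap_subtype, inf_eq_right.mpr hle]
    · exact hW.symm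
  right_inv U := by
    apply Subtype.ext
    change (U.1.map W.1.subtype).comap W.1.subtype = U.1
    exact Submodule.comap_map_eq_of_injective W.1.injective_subtype U.1

theorem card_flags_mul (n m d : ℕ) (hn : finrank F V = n) (hd : d ≤ n) (hm : m ≤ d) :
    Nat.card {P : Submodule F V × Submodule F V //
        P.1 ≤ P.2 ∧ finrank F P.1 = m ∧ finrank F P.2 = d} *
      ∏ j : Fin m, (Fintype.card F ^ (m - j.val) - 1) =
    Nat.card {W : Submodule F V // finrank F W = d} *
      ∏ j : Fin m, (Fintype.card F ^ (d - j.val) - 1) := by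
  classical
  haveI : Finite (Submodule F V) := Finite.of_injective (fun W => (W : Set V)) SetLike.coe_injective
  haveI : Fintype {W : Submodule F V // finrank F W = d} := Fintype.ofFinite _
  let π : {P : Submodule F V × Submodule F V //
        P.1 ≤ P.2 ∧ finrank F P.1 = m ∧ finrank F P.2 = d} →
      {W : Submodule F V // finrank F W = d} := fun P => ⟨P.1.2, P.2.2.2⟩
  rw [Nat.card_congr (Equiv.sigmaFiberEquiv π).symm, Nat.card_sigma, Finset.sum_mul]
  have : ∀ W : {W : Submodule F V // finrank F W = d},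
      Nat.card {P : {P : Submodule F V × Submodule F V //
        P.1 ≤ P.2 ∧ finrank F P.1 = m ∧ finrank F P.2 = d} // π P = W} *
        ∏ j : Fin m, (Fintype.card F ^ (m - j.val) - 1) =
      ∏ j : Fin m, (Fintype.card F ^ (d - j.val) - 1) := by
    intro W
    rw [Nat.card_congr (flagFiberEquiv m d W π (fun P => rfl))]
    exact card_subspaces_mul' (F := F) (V := ↥W.1) d m W.2 hm
  simp only [this]
  rw [Finset.sum_const, Finset.card_univ, smul_eq_mul, Nat.card_eq_fintype_card]

/-- the symmetric form of the count of subspaces: subspaces of codimension `m`. -/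
theorem card_subspaces_symm (n m : ℕ) (hn : finrank F V = n) (hm : 2 * m ≤ n) :
    Nat.card {W : Submodule F V // finrank F W = n - m} *
      ∏ j : Fin m, (Fintype.card F ^ (m - j.val) - 1) =
    ∏ j : Fin m, (Fintype.card F ^ (n - j.val) - 1) := by
  have h := card_subspaces_mul' (F := F) (V := V) n (n - m) hn (Nat.sub_le _ _)
  set q := Fintype.card F with hq
  have hq2 : 2 ≤ q := Fintype.one_lt_card
  rw [Fin.prod_univ_eq_prod_range (fun j => q ^ (n - m - j) - 1) (n - m),
    Fin.prod_univ_eq_prod_range (fun j => q ^ (n - j) - 1) (n - m)] at h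
  rw [Fin.prod_univ_eq_prod_range (fun j => q ^ (m - j) - 1) m,
    Fin.prod_univ_eq_prod_range (fun j => q ^ (n - j) - 1) m]
  have e1 : n - m = (n - 2 * m) + m := by omega
  have e2 : n - m = m + (n - 2 * m) := by omega
  have h1 : ∏ j ∈ Finset.range (n - m), (q ^ (n - m - j) - 1) =
      (∏ j ∈ Finset.range (n - 2 * m), (q ^ (n - m - j) - 1)) *
        ∏ j ∈ Finset.range m, (q ^ (m - j) - 1) := by
    have := Finset.prod_range_add (fun j => q ^ (n - m - j) - 1) (n - 2 * m) m
    rw [← e1] at this
    rw [this]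
    congr 1
    apply Finset.prod_congr rfl
    intro j hj
    rw [Finset.mem_range] at hj
    have e3 : n - m - (n - 2 * m + j) = m - j := by omega
    simp only [e3]
  have h2 : ∏ j ∈ Finset.range (n - m), (q ^ (n - j) - 1) =
      (∏ j ∈ Finset.range m, (q ^ (n - j) - 1)) *
        ∏ j ∈ Finset.range (n - 2 * m), (q ^ (n - m - j) - 1) := by
    have := Finset.prod_range_add (fun j => q ^ (n - j) - 1) m (n - 2 * m)
    rw [← e2] at this
    rw [this]
    congr 1
    apply Finset.prod_congr rfl
    intro j hj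
    have e3 : n - (m + j) = n - m - j := by omega
    simp only [e3]
  rw [h1, h2] at h
  have hX : 0 < ∏ j ∈ Finset.range (n - 2 * m), (q ^ (n - m - j) - 1) := by
    apply Finset.prod_pos
    intro j hj
    rw [Finset.mem_range] at hj
    have h3 : 1 ≤ n - m - j := by omega
    have : 2 ≤ q ^ (n - m - j) :=
      calc 2 ≤ q := hq2
        _ = q ^ 1 := (pow_one q).symm
        _ ≤ q ^ (n - m - j) := Nat.pow_le_pow_right (by omega) h3
    omega
  apply Nat.eq_of_mul_eq_mul_left hX
  calc _ = Nat.card {W : Submodule F V // finrank F W = n - m} *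
        ((∏ j ∈ Finset.range (n - 2 * m), (q ^ (n - m - j) - 1)) *
          ∏ j ∈ Finset.range m, (q ^ (m - j) - 1)) := by ring
    _ = _ := h
    _ = _ := by ring

/-- primes dividing the number of flags `U ≤ W` of dimensions `m`, `n - m`. -/
theorem exists_dvd_of_dvd_card_flags (r : ℕ) (hr : r.Prime) (n m : ℕ)
    (hn : finrank F V = n) (hm : 2 * m ≤ n)
    (h : r ∣ Nat.card {P : Submodule F V × Submodule F V //
        P.1 ≤ P.2 ∧ finrank F P.1 = m ∧ finrank F P.2 = n - m}) :
    ∃ j, j < 2 * m ∧ r ∣ Fintype.card F ^ (n - j) - 1 := by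
  have h1 := card_flags_mul (F := F) (V := V) n m (n - m) hn (Nat.sub_le _ _) (by omega)
  have h2 := card_subspaces_symm (F := F) (V := V) n m hn hm
  have h3 : r ∣ (∏ j : Fin m, (Fintype.card F ^ (n - j.val) - 1)) *
      ∏ j : Fin m, (Fintype.card F ^ (n - m - j.val) - 1) := by
    rw [← h2, mul_right_comm, ← h1]
    exact Dvd.dvd.mul_right (Dvd.dvd.mul_right h _) _
  rcases (Nat.Prime.dvd_mul hr).mp h3 with h4 | h4
  · rw [hr.prime.dvd_finsetProd_iff] at h4
    obtain ⟨j, -, hj⟩ := h4
    exact ⟨j.val, by have := j.2; omega, hj⟩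
  · rw [hr.prime.dvd_finsetProd_iff] at h4
    obtain ⟨j, -, hj⟩ := h4
    refine ⟨m + j.val, by have := j.2; omega, ?_⟩
    rwa [← Nat.sub_sub]

theorem not_char_dvd_card_flags (p : ℕ) [Fact p.Prime] [CharP F p] (n m : ℕ)
    (hn : finrank F V = n) (hm : 2 * m ≤ n) :
    ¬ p ∣ Nat.card {P : Submodule F V × Submodule F V //
        P.1 ≤ P.2 ∧ finrank F P.1 = m ∧ finrank F P.2 = n - m} := by
  intro hdvd
  have hp : p.Prime := Fact.out
  obtain ⟨j, hj, hjd⟩ := exists_dvd_of_dvd_card_flags p hp n m hn hm hdvd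
  have hpq : p ∣ Fintype.card F := by
    rw [← CharP.cast_eq_zero_iff F p]
    exact Nat.cast_card_eq_zero F
  by_cases hm0 : m = 0
  · omega
  have hpos : 0 < n - j := by omega
  have h3 : p ∣ Fintype.card F ^ (n - j) := dvd_pow hpq hpos.ne'
  have h4 : 1 ≤ Fintype.card F ^ (n - j) := Nat.one_le_pow _ _ Fintype.card_pos
  have h5 : p ∣ 1 := by
    have := Nat.dvd_sub h3 hjd
    rwa [Nat.sub_sub_self h4] at this
  exact hp.one_lt.ne' (Nat.dvd_one.mp h5)

end Cfsg.Agent.Helper13.SubCnt
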