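import Mathlib

set_option autoImplicit false

namespace Cfsg.Agent.Helper13

open Matrix

/-- Fredholm alternative for square matrices over a field: `y` is in the column space of `N`
as soon as every row vector killing `N` kills `y`. -/
theorem exists_mulVec_eq_of_forall_vecMul {n K : Type*} [Fintype n] [DecidableEq n] [Field K]
    (N : Matrix n n K) (y : n → K) (h : ∀ g : n → K, g ᵥ* N = 0 → g ⬝ᵥ y = 0) :
    ∃ a : n → K, N *ᵥ a = y := by
  set S : Submodule K (n → K) := LinearMap.range (Matrix.toLin' N) with hS
  have hy : y ∈ S := by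
    rw [← Subspace.dualAnnihilator_dualCoannihilator_eq (W := S), Submodule.mem_dualCoannihilator]
    intro φ hφ
    rw [Submodule.mem_dualAnnihilator] at hφ
    set g : n → K := fun i => φ (fun j => if i = j then 1 else 0) with hg
    have hrep : ∀ x : n → K, φ x = g ⬝ᵥ x := by
      intro x
      rw [LinearMap.pi_apply_eq_sum_univ φ x, dotProduct]
      apply Finset.sum_congr rfl
      intro i _
      rw [smul_eq_mul, mul_comm]
    rw [hrep]
    apply h
    apply _root_.dotProduct_eq_zero
    intro x
    rw [← Matrix.dotProduct_mulVec, ← hrep]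
    apply hφ
    exact ⟨x, by rw [Matrix.toLin'_apply]⟩
  obtain ⟨a, ha⟩ := hy
  exact ⟨a, by rw [← ha, Matrix.toLin'_apply]⟩

end Cfsg.Agent.Helper13
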