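import Mathlib
import Cfsg.Agent.Lib.Helper13.G2IDefs
import Cfsg.Agent.Lib.Helper13.G2I_BASE1A
import Cfsg.Agent.Lib.Helper18.G2I_BASE2A
import Cfsg.Agent.Lib.Helper19.G2I_BASE2C
import Cfsg.Agent.Lib.Helper2.G2I_IDX2
import Cfsg.Agent.Lib.Helper12.SL2Upper

/-!
# S4278 / S4279 piece CARD (fallback copy by helper13): `|K|` and `|C|`
-/

set_option autoImplicit false

namespace Cfsg.Agent.Helper13.G2I

open Cfsg Cfsg.Lie Cfsg.Agent.Lead.Chev Cfsg.Agent.Helper11.G2T Cfsg.Agent.Helper6.SL2Hom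
  Cfsg.Agent.Helper6.ChevL Matrix

variable {F : Type*} [Field F]

/-- the product map `SL₂ × SL₂ → K` -/
noncomputable def card_phiK : SpecialLinearGroup (Fin 2) F × SpecialLinearGroup (Fin 2) F →* GL chevG2.Idx F :=
  (phiL F).noncommCoprod (phiS F) phi_comm

theorem card_phiK_range : (card_phiK (F := F)).range = KK F := by
  unfold card_phiK KK LL LS
  exact MonoidHom.noncommCoprod_range _ _ _

theorem card_neg_one_ne (h2 : (2 : F) ≠ 0) : (-1 : SpecialLinearGroup (Fin 2) F) ≠ 1 := by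
  intro h
  have h00 := congrArg (fun A : SpecialLinearGroup (Fin 2) F => A 0 0) h
  simp at h00
  apply h2
  linear_combination -h00

theorem card_ker (h2 : (2 : F) ≠ 0) : Nat.card (card_phiK (F := F)).ker = 2 := by
  have hmem : ∀ p : SpecialLinearGroup (Fin 2) F × SpecialLinearGroup (Fin 2) F,
      p ∈ (card_phiK (F := F)).ker ↔ p = (1, 1) ∨ p = (-1, -1) := by
    intro p
    rw [MonoidHom.mem_ker]
    unfold card_phiK
    rw [MonoidHom.noncommCoprod_apply]
    constructor
    · intro h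
      rcases phi_prod_eq_one p.1 p.2 h with ⟨a, b⟩ | ⟨a, b⟩
      · left; exact Prod.ext a b
      · right; exact Prod.ext a b
    · rintro (rfl | rfl)
      · simp
      · show phiL F (-1) * phiS F (-1) = 1
        rw [phiL_neg_one, phiS_neg_one, zI_sq]
  rw [Nat.card_eq_two_iff]
  refine ⟨⟨(1, 1), (hmem _).2 (Or.inl rfl)⟩, ⟨(-1, -1), (hmem _).2 (Or.inr rfl)⟩, ?_, ?_⟩
  · intro h
    have := congrArg (fun x => x.1.1) h
    exact card_neg_one_ne h2 this.symm
  · ext ⟨p, hp⟩
    simp only [Set.mem_insert_iff, Set.mem_singleton_iff, Set.mem_univ, iff_true]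
    rcases (hmem p).1 hp with h | h
    · left; exact Subtype.ext h
    · right; exact Subtype.ext h

theorem card_KK [Fintype F] (h2 : (2 : F) ≠ 0) :
    2 * Nat.card (KK F) = (Fintype.card F * (Fintype.card F ^ 2 - 1)) ^ 2 := by
  have h1 := Subgroup.card_mul_index (card_phiK (F := F)).ker
  rw [Subgroup.index_ker, card_phiK_range, card_ker h2, Nat.card_prod, Cfsg.Agent.Helper12.card_SL2] at h1
  rw [h1]
  ring

theorem card_CC [Fintype F] (h2 : (2 : F) ≠ 0) :
    Nat.card (CC F) = Fintype.card F ^ 2 * (Fintype.card F ^ 2 - 1) ^ 2 := by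
  have hle : KK F ≤ CC F := le_sup_left
  have h1 := Subgroup.card_mul_index ((KK F).subgroupOf (CC F))
  have h3 : ((KK F).subgroupOf (CC F)).index = 2 := relIndex_KK_CC h2
  have h4 : Nat.card ((KK F).subgroupOf (CC F)) = Nat.card (KK F) :=
    Nat.card_congr (Subgroup.subgroupOfEquivOfLe hle).toEquiv
  rw [h3, h4] at h1
  have h5 := card_KK (F := F) h2
  rw [← h1, mul_comm, h5]
  ring

end Cfsg.Agent.Helper13.G2I
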