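import Mathlib
import Cfsg.Agent.Lib.Helper13.G2IDefs
import Cfsg.Agent.Lib.Helper13.G2I_BASE1A
import Cfsg.Agent.Lib.Helper13.G2I_BASE1B
import Cfsg.Agent.Lib.Helper13.G2I_CENTU
import Cfsg.Agent.Lib.Helper17.G2I_TYPE1
import Cfsg.Agent.Lib.Helper18.G2I_ARITH
import Cfsg.Agent.Lib.Helper18.G2I_BASE2A
import Cfsg.Agent.Lib.Helper19.G2I_BASE2B
import Cfsg.Agent.Lib.Helper19.G2I_BASE2C
import Cfsg.Agent.Lib.Helper2.G2I_IDX2
import Cfsg.Agent.Lib.Helper2.G2I_TK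
import Cfsg.Agent.Lib.Helper2.G2I_TNORM
import Cfsg.Agent.Lib.Helper22.G2I_GRP1
import Cfsg.Agent.Lib.Helper22.G2I_GRP2
import Cfsg.Agent.Lib.Helper22.G2I_SL2A
import Cfsg.Agent.Lib.Helper22.G2I_SL2B
import Cfsg.Agent.Lib.Helper25.G2I_MT
import Cfsg.Agent.Lib.Helper25.G2I_OUT3
import Cfsg.Agent.Lib.Helper26.G2I_N11
import Cfsg.Agent.Lib.Helper28.G2I_CENTN
import Cfsg.Agent.Lib.Helper28.G2I_GRP3
import Cfsg.Agent.Lib.Helper28.G2I_TORAL
import Cfsg.Agent.Lib.Lead.ChevSimple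
import Cfsg.Agent.S1059
import Cfsg.Agent.Lib.Helper13.G2I_CARD
import Cfsg.Agent.Lib.Helper18.G2I_CENT
import Cfsg.Agent.Lib.Helper12.G2I_B2

/-!
# S4278 / S4279 : assembly (helper13) on the 25 farmed pieces `G2I_*`
-/

set_option autoImplicit false

namespace Cfsg.Agent.Helper13.G2I

open Cfsg Cfsg.Lie Cfsg.Agent.Lead.Chev Cfsg.Agent.Helper11.G2T Cfsg.Agent.Helper6.SL2Hom
  Cfsg.Agent.Helper6.ChevL Matrix

variable {F : Type*} [Field F]

theorem KK_le_CC : KK F ≤ CC F := le_sup_left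

/-! ### the conclusion of S4279 for `z` itself (piece ASMZ) -/

theorem zI_mem_GG : zI F ∈ GG F := (g2F F).diagonal_le_group zI_mem

theorem asmz_LL_le : LL F ≤ GG F := le_trans le_sup_left KK_le_GG
theorem asmz_LS_le : LS F ≤ GG F := le_trans le_sup_right KK_le_GG

theorem asmz_centralizer (h2 : (2 : F) ≠ 0) :
    Subgroup.centralizer ({(⟨zI F, zI_mem_GG⟩ : ↥(GG F))} : Set ↥(GG F)) = (CC F).subgroupOf (GG F) := by
  ext g
  rw [Subgroup.mem_centralizer_iff, Subgroup.mem_subgroupOf, mem_CC_iff_comm h2 _ g.2]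
  constructor
  · intro h
    have := h _ (Set.mem_singleton _)
    have h' := congrArg Subtype.val this
    simpa using h'.symm
  · intro h x hx
    rw [Set.mem_singleton_iff] at hx
    subst hx
    apply Subtype.ext
    simpa using h.symm

theorem invCent_z [Fintype F] (h2 : (2 : F) ≠ 0) :
    InvCent F (Fintype.card F ^ 2 * (Fintype.card F ^ 2 - 1) ^ 2) (⟨zI F, zI_mem_GG⟩ : ↥(GG F)) := by
  refine ⟨?_, (LL F).subgroupOf (GG F), (LS F).subgroupOf (GG F), ?_, ?_, ?_, ?_, ?_, ?_⟩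
  · rw [asmz_centralizer h2, ← card_CC h2]
    exact Nat.card_congr (Subgroup.subgroupOfEquivOfLe CC_le_GG).toEquiv
  · exact ⟨(Subgroup.subgroupOfEquivOfLe asmz_LL_le).trans (MonoidHom.ofInjective phiL_injective).symm⟩
  · exact ⟨(Subgroup.subgroupOfEquivOfLe asmz_LS_le).trans (MonoidHom.ofInjective phiS_injective).symm⟩
  · intro x hx y hy
    obtain ⟨A, hA⟩ := Subgroup.mem_subgroupOf.1 hx
    obtain ⟨B, hB⟩ := Subgroup.mem_subgroupOf.1 hy
    apply Subtype.ext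
    have := (phi_comm A B).eq
    rw [hA, hB] at this
    simpa using this
  · ext g
    rw [Subgroup.mem_inf, Subgroup.mem_subgroupOf, Subgroup.mem_subgroupOf, ← Subgroup.mem_inf, inf_LL_LS,
      Subgroup.mem_zpowers_iff, Subgroup.mem_zpowers_iff]
    constructor
    · rintro ⟨k, hk⟩
      exact ⟨k, Subtype.ext (by simpa using hk)⟩
    · rintro ⟨k, hk⟩
      refine ⟨k, ?_⟩
      have := congrArg Subtype.val hk
      simpa using this
  · rw [asmz_centralizer h2, ← Subgroup.subgroupOf_sup asmz_LL_le asmz_LS_le]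
    intro x hx
    exact Subgroup.mem_subgroupOf.2 (le_sup_left (a := KK F) (Subgroup.mem_subgroupOf.1 hx))
  · rw [asmz_centralizer h2, ← Subgroup.subgroupOf_sup asmz_LL_le asmz_LS_le,
      Subgroup.relIndex_subgroupOf CC_le_GG]
    exact relIndex_KK_CC h2




theorem CJ.refl (u : GL chevG2.Idx F) : CJ F u u := ⟨1, one_mem _, by group⟩

theorem CJ.trans {u v w : GL chevG2.Idx F} (h1 : CJ F u v) (h2 : CJ F v w) : CJ F u w := by
  obtain ⟨g, hg, e1⟩ := h1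
  obtain ⟨k, hk, e2⟩ := h2
  refine ⟨k * g, mul_mem hk hg, ?_⟩
  rw [← e2, ← e1]
  group

theorem CJ.symm {u v : GL chevG2.Idx F} (h : CJ F u v) : CJ F v u := by
  obtain ⟨g, hg, e⟩ := h
  refine ⟨g⁻¹, inv_mem hg, ?_⟩
  rw [← e]
  group

theorem CJ.sq {u v : GL chevG2.Idx F} (h : CJ F u v) (hu : u * u = 1) : v * v = 1 := by
  obtain ⟨g, hg, rfl⟩ := h
  calc g * u * g⁻¹ * (g * u * g⁻¹) = g * (u * u) * g⁻¹ := by group
    _ = 1 := by rw [hu]; group

theorem CJ.ne_one {u v : GL chevG2.Idx F} (h : CJ F u v) (hu : u ≠ 1) : v ≠ 1 := by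
  obtain ⟨g, hg, rfl⟩ := h
  intro h1
  apply hu
  calc u = g⁻¹ * (g * u * g⁻¹) * g := by group
    _ = 1 := by rw [h1]; group

theorem CJ.of_KK {u v : GL chevG2.Idx F} (h : ∃ k ∈ KK F, k * u * k⁻¹ = v) : CJ F u v := by
  obtain ⟨k, hk, e⟩ := h
  exact ⟨k, KK_le_GG hk, e⟩

/-- A1 : involutions of `K` are conjugate to `z` -/
theorem inner_conj [Fintype F] (h2 : (2 : F) ≠ 0) (t : GL chevG2.Idx F) (ht : t ∈ KK F) (hsq : t * t = 1)
    (hne : t ≠ 1) : CJ F t (zI F) := by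
  have hm : CJ F (mI F) (zI F) := by
    by_cases hi : IsSquare (-1 : F)
    · obtain ⟨k, hk, hT⟩ := mI_toral h2 hi
      have c1 : CJ F (mI F) (k * mI F * k⁻¹) := CJ.of_KK ⟨k, hk, rfl⟩
      exact c1.trans (toral h2 _ hT (c1.sq mI_sq) (c1.ne_one (mI_ne h2).1))
    · obtain ⟨g, hg, e, heK, hesq, hene, hez, heC, heK'⟩ := b2 h2 hi
      have c1 : CJ F e (g * e * g⁻¹) := ⟨g, hg, rfl⟩
      obtain ⟨k, hk, hkz⟩ := out3 h2 hi _ heC heK' (c1.sq hesq)
      have c2 : CJ F (g * e * g⁻¹) (zP F) := CJ.of_KK ⟨k, hk, hkz⟩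
      have c12 := c1.trans c2
      have c3 : CJ F (zP F) (zI F) := toral h2 _ zP_mem (c12.sq hesq) (c12.ne_one hene)
      rcases type1 h2 e heK hesq with h | h | h
      · exact absurd h hene
      · exact absurd h hez
      · exact ((CJ.of_KK h).symm.trans c12).trans c3
  rcases type1 h2 t ht hsq with h | h | h
  · exact absurd h hne
  · rw [h]; exact CJ.refl _
  · exact (CJ.of_KK h).trans hm



/-- A2 : all involutions of `G` are conjugate to `z` -/
theorem all_conj [Fintype F] (hF : Odd (Fintype.card F)) (t : GL chevG2.Idx F) (ht : t ∈ GG F)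
    (hsq : t * t = 1) (hne : t ≠ 1) : CJ F t (zI F) := by
  classical
  have h2 : (2 : F) ≠ 0 := two_ne_zero_of_odd hF
  obtain ⟨harith, hodd, hpos⟩ := index_arith (Fintype.card F) hF Fintype.one_lt_card
  have hcardG : Nat.card ↥(GG F) = _ := Cfsg.Agent.S1059.result (F := F) rfl
  have hcardC : Nat.card ((CC F).subgroupOf (GG F)) = Nat.card (CC F) :=
    Nat.card_congr (Subgroup.subgroupOfEquivOfLe CC_le_GG).toEquiv
  have hidx : ((CC F).subgroupOf (GG F)).index = Fintype.card F ^ 4 * (Fintype.card F ^ 4 + Fintype.card F ^ 2 + 1) := by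
    have h1 := Subgroup.card_mul_index ((CC F).subgroupOf (GG F))
    rw [hcardC, card_CC h2, hcardG, harith] at h1
    exact Nat.eq_of_mul_eq_mul_left hpos h1
  have hoddC : Odd ((CC F).subgroupOf (GG F)).index := by rw [hidx]; exact hodd
  -- Sylow step
  obtain ⟨g, hg⟩ := odd_index_conj ((CC F).subgroupOf (GG F)) hoddC (⟨t, ht⟩ : ↥(GG F)) (Subtype.ext hsq)
  have hg' : (g : GL chevG2.Idx F) * t * (g : GL chevG2.Idx F)⁻¹ ∈ CC F := by
    have := Subgroup.mem_subgroupOf.1 hg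
    simpa using this
  have c1 : CJ F t ((g : GL chevG2.Idx F) * t * (g : GL chevG2.Idx F)⁻¹) := ⟨g, g.2, rfl⟩
  set t₁ := (g : GL chevG2.Idx F) * t * (g : GL chevG2.Idx F)⁻¹ with ht₁
  have ht₁G : t₁ ∈ GG F := CC_le_GG hg'
  by_cases hK : t₁ ∈ KK F
  · exact c1.trans (inner_conj h2 t₁ hK (c1.sq hsq) (c1.ne_one hne))
  · -- Thompson transfer
    obtain ⟨a, ha0, ha1⟩ : ∃ a : F, a ≠ 0 ∧ a ≠ 1 := by
      refine ⟨2, h2, ?_⟩
      intro h
      have : (1 : F) = 0 := by linear_combination h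
      exact one_ne_zero this
    obtain ⟨hsimple, hncomm⟩ := chev_simple (F := F) chevG2 (by simp) (fun _ => ⟨a, ha0, ha1⟩)
    have hnc : ∃ a b : ↥(GG F), a * b ≠ b * a := by
      by_contra hcon
      push Not at hcon
      exact hncomm ⟨⟨hcon⟩⟩
    have hrel : ((KK F).subgroupOf (GG F)).relIndex ((CC F).subgroupOf (GG F)) = 2 := by
      rw [Subgroup.relIndex_subgroupOf CC_le_GG]
      exact relIndex_KK_CC h2
    have hKC : (KK F).subgroupOf (GG F) ≤ (CC F).subgroupOf (GG F) := by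
      intro x hx
      exact Subgroup.mem_subgroupOf.2 (KK_le_CC (Subgroup.mem_subgroupOf.1 hx))
    obtain ⟨g', hg'K⟩ := thompson_step hnc ((CC F).subgroupOf (GG F)) ((KK F).subgroupOf (GG F)) hKC hoddC hrel
      (⟨t₁, ht₁G⟩ : ↥(GG F)) (Subgroup.mem_subgroupOf.2 hg') (fun h => hK (Subgroup.mem_subgroupOf.1 h))
      (Subtype.ext (c1.sq hsq))
    have hg'' : (g' : GL chevG2.Idx F) * t₁ * (g' : GL chevG2.Idx F)⁻¹ ∈ KK F := by
      have := Subgroup.mem_subgroupOf.1 hg'K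
      simpa using this
    have c2 : CJ F t₁ ((g' : GL chevG2.Idx F) * t₁ * (g' : GL chevG2.Idx F)⁻¹) := ⟨g', g'.2, rfl⟩
    have c12 := c1.trans c2
    exact c12.trans (inner_conj h2 _ hg'' (c12.sq hsq) (c12.ne_one hne))

theorem orderOf_two_iff {G : Type*} [Group G] (t : G) : orderOf t = 2 ↔ t * t = 1 ∧ t ≠ 1 := by
  rw [orderOf_eq_iff (by norm_num)]
  constructor
  · rintro ⟨h1, h2⟩
    refine ⟨by rw [← pow_two]; exact h1, ?_⟩
    have := h2 1 (by norm_num) (by norm_num)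
    rwa [pow_one] at this
  · rintro ⟨h1, h2⟩
    refine ⟨by rw [pow_two]; exact h1, ?_⟩
    intro m hm hm0
    interval_cases m
    rwa [pow_one]

theorem conj_z_sub [Fintype F] (hF : Odd (Fintype.card F)) (t : ↥(GG F)) (ht : orderOf t = 2) :
    ∃ g : ↥(GG F), g * t * g⁻¹ = ⟨zI F, zI_mem_GG⟩ := by
  obtain ⟨h1, h2⟩ := (orderOf_two_iff t).1 ht
  have h1' : (t : GL chevG2.Idx F) * t = 1 := by
    have := congrArg Subtype.val h1
    simpa using this
  have h2' : (t : GL chevG2.Idx F) ≠ 1 := fun h => h2 (Subtype.ext h)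
  obtain ⟨g, hg, e⟩ := all_conj hF t t.2 h1' h2'
  exact ⟨⟨g, hg⟩, Subtype.ext (by simpa using e)⟩

theorem s4278 [Fintype F] (hF : Odd (Fintype.card F)) (s t : ↥(Cfsg.Lie.chevG2.group F)) (hs : orderOf s = 2)
    (ht : orderOf t = 2) : IsConj s t := by
  obtain ⟨g, hg⟩ := conj_z_sub hF s hs
  obtain ⟨k, hk⟩ := conj_z_sub hF t ht
  rw [isConj_iff]
  refine ⟨k⁻¹ * g, ?_⟩
  have : t = k⁻¹ * (⟨zI F, zI_mem_GG⟩ : ↥(GG F)) * k := by rw [← hk]; group
  rw [this, ← hg]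
  group

theorem s4279 [Fintype F] (hF : Odd (Fintype.card F)) (t : ↥(Cfsg.Lie.chevG2.group F)) (ht : orderOf t = 2) :
    InvCent F (Fintype.card F ^ 2 * (Fintype.card F ^ 2 - 1) ^ 2) t := by
  obtain ⟨k, hk⟩ := conj_z_sub hF t ht
  have h2 : (2 : F) ≠ 0 := two_ne_zero_of_odd hF
  have h := InvCent.conj (F := F) _ _ k⁻¹ (invCent_z (F := F) h2)
  have e : k⁻¹ * (⟨zI F, zI_mem_GG⟩ : ↥(GG F)) * k⁻¹⁻¹ = t := by rw [← hk]; group
  rwa [e] at h


end Cfsg.Agent.Helper13.G2I
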