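import Mathlib
import Cfsg.Agent.Lib.Helper13.InvNDefsC
import Cfsg.Agent.Lib.Lead.ChevWeylTab

/-!
Fast versions (through the packed reflection tables `Ws`) of the table check of Part C.
-/

set_option autoImplicit false
set_option linter.unusedSectionVars false
set_option linter.unusedVariables false

namespace Cfsg.Agent.Helper13.InvN

open Cfsg Cfsg.Lie Cfsg.Agent.Lead.Chev

/-- the root of a frame entry, through the packed tables -/
def frootP (D : ChevalleyDatum) (Ws : List ℕ) (e : List ℕ × ℕ) : ℕ := reflWordP Ws e.1 (D.simple e.2)

/-- `frameOK` through the packed tables -/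
def frameOKP (D : ChevalleyDatum) (Ws : List ℕ) (S : Frame) : Bool :=
  (S.all fun e => e.1.all (fun i => decide (i < D.rank)) && decide (e.2 < D.rank)) &&
    decide ((S.map (frootP D Ws)).Pairwise fun r s => strongOrtho D r s = true)

/-- `entryChk` through the packed tables -/
def entryChkP (D : ChevalleyDatum) (Ws : List ℕ) (w0 : List ℕ) (m : ℕ) (e : JEntry) : Bool :=
  (e.wJ.all fun j => decide (j < D.rank) && m.testBit j) &&
  ((List.range D.rank).all fun j => !m.testBit j || decide (D.IsNegRoot (reflWordP Ws e.wJ (D.simple j)))) &&
  (match e.frame with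
   | none => (List.range D.rank).any fun j =>
       m.testBit j != decide (reflWordP Ws (candWord w0 e.wJ) (D.simple j) = D.simple j)
   | some S => frameOKP D Ws S && (List.range D.rank).all fun k =>
       decide (reflWordP Ws (frameWord S) (D.simple k) = reflWordP Ws (candWord w0 e.wJ) (D.simple k)))

/-- the head of the table check -/
def headChkP (D : ChevalleyDatum) (Ws : List ℕ) (T : Table) : Bool :=
  (T.w0.all fun j => decide (j < D.rank)) &&
  ((List.range D.rank).all fun j => decide (D.IsNegRoot (reflWordP Ws T.w0 (D.simple j)))) &&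
  decide (T.entries.length = 2 ^ D.rank)

/-- the check of the entries `lo, …, lo + n - 1` -/
def chunkChkP (D : ChevalleyDatum) (Ws : List ℕ) (T : Table) (lo n : ℕ) : Bool :=
  ((T.entries.zipIdx.drop lo).take n).all fun p => entryChkP D Ws T.w0 p.2 p.1

end Cfsg.Agent.Helper13.InvN
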