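import Mathlib
import Cfsg.Agent.Lib.Helper13.InvNDefsC
import Cfsg.Agent.Lib.Helper19.InvNCAND
import Cfsg.Agent.Lib.Helper19.InvNBMAINCore
/-!
Part C-GEN of the involution theorem: an involution `w` of the Weyl group with condition (M) acts as the word of one
of the frames of the table of the type.
-/

set_option autoImplicit false
set_option linter.unusedSectionVars false
set_option linter.unusedVariables false
namespace Cfsg.Agent.Helper13.InvN
open Cfsg Cfsg.Lie Cfsg.Agent.Lead.Chev Cfsg.Agent.Helper6.ChevL
variable {F : Type*} [Field F] {D : ChevalleyDatum} (hF : ChevFacts D F) (hS : CorSize D) (hI : CorInj D)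
include hF hS hI

/-- the frame of `w` in the table (piece TABLE of the plan) -/
theorem table_frame_h13 (T : Table) (hT : tableChk D T = true) (w : List ℕ) (hw : WOK D w) (hinv : Invol D w)
    (hM : CondM D w) :
    ∃ S ∈ T.frames, frameOK D S = true ∧ ∀ r < D.nroots, reflWord D w r = reflWord D (frameWord S) r := by
  classical
  unfold tableChk at hT
  simp only [Bool.and_eq_true, List.all_eq_true, decide_eq_true_eq] at hT
  obtain ⟨⟨⟨h0ok, h0neg⟩, hlen⟩, hent⟩ := hT
  have hw0 : WOK D T.w0 := fun j hj => h0ok j hj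
  have h0 : ∀ k < D.rank, D.IsNegRoot (reflWord D T.w0 (D.simple k)) :=
    fun k hk => h0neg k (List.mem_range.2 hk)
  let f : Fin D.rank → Bool := fun j => decide (reflWord D w (D.simple j) = D.simple j)
  have hmlt : Nat.ofBits f < T.entries.length := by rw [hlen]; exact Nat.ofBits_lt_two_pow f
  have htb : ∀ j, (Nat.ofBits f).testBit j = true ↔ j ∈ fixJ D w := by
    intro j
    by_cases hj : j < D.rank
    · rw [Nat.testBit_ofBits_lt f j hj]; simp [f, fixJ, hj]
    · rw [Nat.testBit_ofBits_ge f j (not_lt.1 hj)]; simp [fixJ, hj]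
  have hmem : (T.entries[Nat.ofBits f], Nat.ofBits f) ∈ T.entries.zipIdx := by
    rw [List.mem_zipIdx_iff_getElem?]
    simp [hmlt]
  have he := hent _ hmem
  have hefr : ∀ S, (T.entries[Nat.ofBits f]).frame = some S → S ∈ T.frames := by
    intro S hS'
    unfold Table.frames
    rw [List.mem_filterMap]
    exact ⟨_, List.getElem_mem hmlt, hS'⟩
  generalize T.entries[Nat.ofBits f] = e at he hmem hefr
  unfold entryChk at he
  simp only [Bool.and_eq_true, List.all_eq_true, decide_eq_true_eq, Bool.or_eq_true, Bool.not_eq_true',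
    List.mem_range] at he
  obtain ⟨⟨hwJ, hwJneg⟩, hfr⟩ := he
  have hwJok : WOK D e.wJ := fun j hj => (hwJ j hj).1
  have hJ : ∀ j ∈ e.wJ, j ∈ fixJ D w := fun j hj => (htb j).1 (hwJ j hj).2
  have hneg : ∀ j ∈ fixJ D w, D.IsNegRoot (reflWord D e.wJ (D.simple j)) := by
    intro j hj
    rcases hwJneg j hj.1 with h1 | h1
    · have := (htb j).2 hj
      rw [h1] at this; exact absurd this (by simp)
    · exact h1
  have hact := act_eq_cand hF hS hI w hw hinv hM T.w0 hw0 h0 e.wJ hwJok hJ hneg
  rcases hfe : e.frame with _ | S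
  · exfalso
    rw [hfe] at hfr
    simp only [List.any_eq_true, List.mem_range, bne_iff_ne, ne_eq] at hfr
    obtain ⟨j, hj, hne⟩ := hfr
    apply hne
    rw [← hact _ (hF.simple_lt j hj)]
    by_cases hfix : reflWord D w (D.simple j) = D.simple j
    · rw [(htb j).2 ⟨hj, hfix⟩]; simp [hfix]
    · have : ¬ ((Nat.ofBits f).testBit j = true) := fun h => hfix ((htb j).1 h).2
      simp [hfix, this]
  · rw [hfe] at hfr
    simp only [Bool.and_eq_true, List.all_eq_true, decide_eq_true_eq, List.mem_range] at hfr
    obtain ⟨hok, hagree⟩ := hfr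
    refine ⟨S, hefr S hfe, hok, ?_⟩
    have hSok : WOK D (frameWord S) := bmain_frameWord_ok hF hS hI S hok
    have hcok : WOK D (candWord T.w0 e.wJ) := by
      unfold candWord
      exact hw0.reverse.append hwJok.reverse
    intro r hr
    rw [hact r hr]
    exact (reflWord_eq_of_simple hF hS hI (frameWord S) (candWord T.w0 e.wJ) hSok hcok hagree r hr).symm

end Cfsg.Agent.Helper13.InvN
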