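import Mathlib
import Cfsg.Agent.Lib.Helper13.InvNAsmA
import Cfsg.Agent.Lib.Helper19.InvNBMAIN
import Cfsg.Agent.Lib.Helper13.InvNTableH

/-!
The involution theorem (Parts A + B + C-GEN): over a finite field of characteristic 2, every element of square 1 of a
Chevalley group is conjugate to the product of the root elements `x_β(1)` over one of the frames of the table of the
type.
-/

set_option autoImplicit false
set_option linter.unusedSectionVars false
set_option linter.unusedVariables false

namespace Cfsg.Agent.Helper13.InvN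

open Cfsg Cfsg.Lie Cfsg.Agent.Lead.Chev Cfsg.Agent.Helper6.ChevL

variable {F : Type*} [Field F] {D : ChevalleyDatum} (hF : ChevFacts D F) (hS : CorSize D) (hI : CorInj D)
include hF hS hI

theorem invol_conj_frame [Fintype F] [CharP F 2] (hd : ∀ j < D.rank, D.cartan j (D.simple j) = 2)
    (T : Table) (hT : tableChk D T = true) (g : GL D.Idx F) (hg : g ∈ D.group F) (hgg : g * g = 1) :
    ∃ S ∈ T.frames, CJ D F g (xprod hF (frameRoots D S)) := by
  obtain ⟨c, hc, w, hw, hinv, hM, h, hh, e⟩ := conj_into_N hF hS hI g hg hgg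
  obtain ⟨S, hST, hSok, hact⟩ := table_frame_h13 hF hS hI T hT w hw hinv hM
  refine ⟨S, hST, ?_⟩
  have hsq : (h * nWordGL D hF.xadd w) * (h * nWordGL D hF.xadd w) = 1 := by
    rw [← e]
    have : c * g * c⁻¹ * (c * g * c⁻¹) = c * (g * g) * c⁻¹ := by group
    rw [this, hgg]; group
  have h1 : CJ D F g (h * nWordGL D hF.xadd w) := ⟨c, hc, e⟩
  exact h1.trans (conj_frame hF hS hI hd S hSok w hw hact h hh hsq)

end Cfsg.Agent.Helper13.InvN
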