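import Mathlib
import Cfsg.Agent.Lib.Helper13.InvNDefsC
import Cfsg.Prelude.Def_ChevE8

/-! GENERATED (scratch/inv/gentab.py): the table of type E8 for the involution theorem. -/

set_option autoImplicit false

namespace Cfsg.Agent.Helper13.InvN

open Cfsg Cfsg.Lie

/-- the table of type E8: 256 subsets, 64 of them with a frame -/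
def tabE8 : Table where
  w0 := [0, 1, 2, 0, 3, 1, 2, 0, 3, 2, 4, 3, 1, 2, 0, 3, 2, 4, 3, 1, 5, 4, 3, 1, 2, 0, 3, 2, 4, 3, 1, 5, 4, 3, 2, 0, 6, 5, 4, 3, 1, 2, 0, 3, 2, 4, 3, 1, 5, 4, 3, 2, 0, 6, 5, 4, 3, 1, 2, 3, 4, 5, 6, 7, 6, 5, 4, 3, 1, 2, 0, 3, 2, 4, 3, 1, 5, 4, 3, 2, 0, 6, 5, 4, 3, 1, 2, 3, 4, 5, 6, 7, 6, 5, 4, 3, 1, 2, 0, 3, 2, 4, 3, 1, 5, 4, 3, 2, 0, 6, 5, 4, 3, 1, 2, 3, 4, 5, 6, 7]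
  entries := [
  ⟨[], some [([7, 6, 5, 4, 3, 2, 1, 3, 4, 5, 6, 7, 0, 2, 3, 4, 5, 6, 1, 3, 4, 5, 2, 3, 4, 1, 3, 2], 0), ([0, 2, 3, 4, 5, 6, 1, 3, 4, 5, 2, 3, 4, 1, 3, 2], 0), ([5, 6, 4, 5, 3, 4, 2, 3], 1), ([3, 4, 2, 3], 1), ([], 1), ([], 2), ([], 4), ([], 6)]⟩,
  ⟨[0], some [([7, 6, 5, 4, 3, 2, 1, 3, 4, 5, 6, 7, 0, 2, 3, 4, 5, 6, 1, 3, 4, 5, 2, 3, 4, 1, 3, 2], 0), ([3, 4, 5, 6, 1, 3, 4, 5, 2, 3, 4, 1, 3, 2], 0), ([5, 6, 4, 5, 2, 3, 4, 1, 3, 2], 0), ([2, 3, 4, 1, 3, 2], 0), ([], 1), ([], 4), ([], 6)]⟩,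
  ⟨[1], some [([7, 6, 5, 4, 3, 2, 1, 3, 4, 5, 6, 7, 0, 2, 3, 4, 5, 6, 1, 3, 4, 5, 2, 3, 4, 1, 3, 2], 0), ([0, 2, 3, 4, 5, 6, 1, 3, 4, 5, 2, 3, 4, 1, 3, 2], 0), ([5, 6, 4, 5, 3, 4, 2, 3], 1), ([3, 4, 2, 3], 1), ([], 2), ([], 4), ([], 6)]⟩,
  ⟨[0, 1], some [([7, 6, 5, 4, 3, 2, 1, 3, 4, 5, 6, 7, 0, 2, 3, 4, 5, 6, 1, 3, 4, 5, 2, 3, 4, 1, 3, 2], 0), ([3, 4, 5, 6, 1, 3, 4, 5, 2, 3, 4, 1, 3, 2], 0), ([5, 6, 4, 5, 2, 3, 4, 1, 3, 2], 0), ([2, 3, 4, 1, 3, 2], 0), ([], 4), ([], 6)]⟩,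
  ⟨[2], some [([7, 6, 5, 4, 3, 2, 1, 3, 4, 5, 6, 7, 0, 2, 3, 4, 5, 6, 1, 3, 4, 5, 2, 3, 4, 1, 3, 2], 0), ([0, 2, 3, 4, 5, 6, 1, 3, 4, 5, 2, 3, 4, 1, 3, 2], 0), ([5, 6, 4, 5, 3, 4, 2, 3], 1), ([3, 4, 2, 3], 1), ([], 1), ([], 4), ([], 6)]⟩,
  ⟨[0, 2, 0], none⟩,
  ⟨[1, 2], some [([7, 6, 5, 4, 3, 2, 1, 3, 4, 5, 6, 7, 0, 2, 3, 4, 5, 6, 1, 3, 4, 5, 2, 3, 4, 1, 3, 2], 0), ([0, 2, 3, 4, 5, 6, 1, 3, 4, 5, 2, 3, 4, 1, 3, 2], 0), ([5, 6, 4, 5, 3, 4, 2, 3], 1), ([3, 4, 2, 3], 1), ([], 4), ([], 6)]⟩,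
  ⟨[0, 1, 2, 0], none⟩,
  ⟨[3], some [([7, 6, 5, 4, 3, 2, 1, 3, 4, 5, 6, 7, 0, 2, 3, 4, 5, 6, 1, 3, 4, 5, 2, 3, 4, 1, 3, 2], 0), ([0, 2, 3, 4, 5, 6, 1, 3, 4, 5, 2, 3, 4, 1, 3, 2], 0), ([5, 6, 4, 5, 3, 4, 2, 3], 1), ([2, 3], 1), ([4, 3], 1), ([4, 3], 2), ([], 6)]⟩,
  ⟨[0, 3], some [([7, 6, 5, 4, 3, 2, 1, 3, 4, 5, 6, 7, 0, 2, 3, 4, 5, 6, 1, 3, 4, 5, 2, 3, 4, 1, 3, 2], 0), ([5, 6, 1, 3, 4, 5, 2, 3, 4, 1, 3, 2], 0), ([4, 5, 6, 3, 4, 5, 2, 3, 4, 1, 3, 2], 0), ([2, 3, 4, 1, 3, 2], 0), ([4, 3], 1), ([], 6)]⟩,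
  ⟨[1, 3, 1], none⟩,
  ⟨[0, 1, 3, 1], none⟩,
  ⟨[2, 3, 2], none⟩,
  ⟨[0, 2, 0, 3, 2, 0], none⟩,
  ⟨[1, 2, 3, 1, 2, 3], none⟩,
  ⟨[0, 1, 2, 0, 3, 1, 2, 0, 3, 2], none⟩,
  ⟨[4], some [([7, 6, 5, 4, 3, 2, 1, 3, 4, 5, 6, 7, 0, 2, 3, 4, 5, 6, 1, 3, 4, 5, 2, 3, 4, 1, 3, 2], 0), ([0, 2, 3, 4, 5, 6, 1, 3, 4, 5, 2, 3, 4, 1, 3, 2], 0), ([5, 6, 4, 5, 3, 4, 2, 3], 1), ([3, 4, 2, 3], 1), ([], 1), ([], 2), ([], 6)]⟩,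
  ⟨[0, 4], some [([7, 6, 5, 4, 3, 2, 1, 3, 4, 5, 6, 7, 0, 2, 3, 4, 5, 6, 1, 3, 4, 5, 2, 3, 4, 1, 3, 2], 0), ([3, 4, 5, 6, 1, 3, 4, 5, 2, 3, 4, 1, 3, 2], 0), ([5, 6, 4, 5, 2, 3, 4, 1, 3, 2], 0), ([2, 3, 4, 1, 3, 2], 0), ([], 1), ([], 6)]⟩,
  ⟨[1, 4], some [([7, 6, 5, 4, 3, 2, 1, 3, 4, 5, 6, 7, 0, 2, 3, 4, 5, 6, 1, 3, 4, 5, 2, 3, 4, 1, 3, 2], 0), ([0, 2, 3, 4, 5, 6, 1, 3, 4, 5, 2, 3, 4, 1, 3, 2], 0), ([5, 6, 4, 5, 3, 4, 2, 3], 1), ([3, 4, 2, 3], 1), ([], 2), ([], 6)]⟩,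
  ⟨[0, 1, 4], some [([7, 6, 5, 4, 3, 2, 1, 3, 4, 5, 6, 7, 0, 2, 3, 4, 5, 6, 1, 3, 4, 5, 2, 3, 4, 1, 3, 2], 0), ([3, 4, 5, 6, 1, 3, 4, 5, 2, 3, 4, 1, 3, 2], 0), ([5, 6, 4, 5, 2, 3, 4, 1, 3, 2], 0), ([2, 3, 4, 1, 3, 2], 0), ([], 6)]⟩,
  ⟨[2, 4], some [([7, 6, 5, 4, 3, 2, 1, 3, 4, 5, 6, 7, 0, 2, 3, 4, 5, 6, 1, 3, 4, 5, 2, 3, 4, 1, 3, 2], 0), ([0, 2, 3, 4, 5, 6, 1, 3, 4, 5, 2, 3, 4, 1, 3, 2], 0), ([5, 6, 4, 5, 3, 4, 2, 3], 1), ([3, 4, 2, 3], 1), ([], 1), ([], 6)]⟩,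
  ⟨[0, 2, 0, 4], none⟩,
  ⟨[1, 2, 4], some [([7, 6, 5, 4, 3, 2, 1, 3, 4, 5, 6, 7, 0, 2, 3, 4, 5, 6, 1, 3, 4, 5, 2, 3, 4, 1, 3, 2], 0), ([0, 2, 3, 4, 5, 6, 1, 3, 4, 5, 2, 3, 4, 1, 3, 2], 0), ([5, 6, 4, 5, 3, 4, 2, 3], 1), ([3, 4, 2, 3], 1), ([], 6)]⟩,
  ⟨[0, 1, 2, 0, 4], none⟩,
  ⟨[3, 4, 3], none⟩,
  ⟨[0, 3, 4, 3], none⟩,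
  ⟨[1, 3, 1, 4, 3, 1], none⟩,
  ⟨[0, 1, 3, 1, 4, 3, 1], none⟩,
  ⟨[2, 3, 2, 4, 3, 2], none⟩,
  ⟨[0, 2, 0, 3, 2, 0, 4, 3, 2, 0], none⟩,
  ⟨[1, 2, 3, 1, 2, 3, 4, 3, 1, 2, 3, 4], some [([7, 6, 5, 4, 3, 2, 1, 3, 4, 5, 6, 7, 0, 2, 3, 4, 5, 6, 1, 3, 4, 5, 2, 3, 4, 1, 3, 2], 0), ([0, 2, 3, 4, 5, 6, 1, 3, 4, 5, 2, 3, 4, 1, 3, 2], 0), ([5, 6, 4, 5, 3, 4, 2, 3], 1), ([], 6)]⟩,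
  ⟨[0, 1, 2, 0, 3, 1, 2, 0, 3, 2, 4, 3, 1, 2, 0, 3, 2, 4, 3, 1], none⟩,
  ⟨[5], some [([7, 6, 5, 4, 3, 2, 1, 3, 4, 5, 6, 7, 0, 2, 3, 4, 5, 6, 1, 3, 4, 5, 2, 3, 4, 1, 3, 2], 0), ([0, 2, 3, 4, 5, 6, 1, 3, 4, 5, 2, 3, 4, 1, 3, 2], 0), ([4, 5, 3, 4, 2, 3], 1), ([6, 5, 3, 4, 2, 3], 1), ([], 1), ([], 2), ([6, 5], 4)]⟩,
  ⟨[0, 5], some [([7, 6, 5, 4, 3, 2, 1, 3, 4, 5, 6, 7, 0, 2, 3, 4, 5, 6, 1, 3, 4, 5, 2, 3, 4, 1, 3, 2], 0), ([3, 4, 5, 6, 1, 3, 4, 5, 2, 3, 4, 1, 3, 2], 0), ([4, 5, 2, 3, 4, 1, 3, 2], 0), ([6, 5, 2, 3, 4, 1, 3, 2], 0), ([], 1), ([6, 5], 4)]⟩,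
  ⟨[1, 5], some [([7, 6, 5, 4, 3, 2, 1, 3, 4, 5, 6, 7, 0, 2, 3, 4, 5, 6, 1, 3, 4, 5, 2, 3, 4, 1, 3, 2], 0), ([0, 2, 3, 4, 5, 6, 1, 3, 4, 5, 2, 3, 4, 1, 3, 2], 0), ([4, 5, 3, 4, 2, 3], 1), ([6, 5, 3, 4, 2, 3], 1), ([], 2), ([6, 5], 4)]⟩,
  ⟨[0, 1, 5], some [([7, 6, 5, 4, 3, 2, 1, 3, 4, 5, 6, 7, 0, 2, 3, 4, 5, 6, 1, 3, 4, 5, 2, 3, 4, 1, 3, 2], 0), ([3, 4, 5, 6, 1, 3, 4, 5, 2, 3, 4, 1, 3, 2], 0), ([4, 5, 2, 3, 4, 1, 3, 2], 0), ([6, 5, 2, 3, 4, 1, 3, 2], 0), ([6, 5], 4)]⟩,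
  ⟨[2, 5], some [([7, 6, 5, 4, 3, 2, 1, 3, 4, 5, 6, 7, 0, 2, 3, 4, 5, 6, 1, 3, 4, 5, 2, 3, 4, 1, 3, 2], 0), ([0, 2, 3, 4, 5, 6, 1, 3, 4, 5, 2, 3, 4, 1, 3, 2], 0), ([4, 5, 3, 4, 2, 3], 1), ([6, 5, 3, 4, 2, 3], 1), ([], 1), ([6, 5], 4)]⟩,
  ⟨[0, 2, 0, 5], none⟩,
  ⟨[1, 2, 5], some [([7, 6, 5, 4, 3, 2, 1, 3, 4, 5, 6, 7, 0, 2, 3, 4, 5, 6, 1, 3, 4, 5, 2, 3, 4, 1, 3, 2], 0), ([0, 2, 3, 4, 5, 6, 1, 3, 4, 5, 2, 3, 4, 1, 3, 2], 0), ([4, 5, 3, 4, 2, 3], 1), ([6, 5, 3, 4, 2, 3], 1), ([6, 5], 4)]⟩,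
  ⟨[0, 1, 2, 0, 5], none⟩,
  ⟨[3, 5], some [([7, 6, 5, 4, 3, 2, 1, 3, 4, 5, 6, 7, 0, 2, 3, 4, 5, 6, 1, 3, 4, 5, 2, 3, 4, 1, 3, 2], 0), ([0, 2, 3, 4, 5, 6, 1, 3, 4, 5, 2, 3, 4, 1, 3, 2], 0), ([4, 5, 3, 4, 2, 3], 1), ([2, 3], 1), ([6, 5, 4, 3], 1), ([6, 5, 4, 3], 2)]⟩,
  ⟨[0, 3, 5], some [([7, 6, 5, 4, 3, 2, 1, 3, 4, 5, 6, 7, 0, 2, 3, 4, 5, 6, 1, 3, 4, 5, 2, 3, 4, 1, 3, 2], 0), ([1, 3, 4, 5, 2, 3, 4, 1, 3, 2], 0), ([4, 5, 6, 3, 4, 5, 2, 3, 4, 1, 3, 2], 0), ([6, 5, 2, 3, 4, 1, 3, 2], 0), ([6, 5, 4, 3], 1)]⟩,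
  ⟨[1, 3, 1, 5], none⟩,
  ⟨[0, 1, 3, 1, 5], none⟩,
  ⟨[2, 3, 2, 5], none⟩,
  ⟨[0, 2, 0, 3, 2, 0, 5], none⟩,
  ⟨[1, 2, 3, 1, 2, 3, 5], none⟩,
  ⟨[0, 1, 2, 0, 3, 1, 2, 0, 3, 2, 5], none⟩,
  ⟨[4, 5, 4], none⟩,
  ⟨[0, 4, 5, 4], none⟩,
  ⟨[1, 4, 5, 4], none⟩,
  ⟨[0, 1, 4, 5, 4], none⟩,
  ⟨[2, 4, 5, 4], none⟩,
  ⟨[0, 2, 0, 4, 5, 4], none⟩,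
  ⟨[1, 2, 4, 5, 4], none⟩,
  ⟨[0, 1, 2, 0, 4, 5, 4], none⟩,
  ⟨[3, 4, 3, 5, 4, 3], none⟩,
  ⟨[0, 3, 4, 3, 5, 4, 3], none⟩,
  ⟨[1, 3, 1, 4, 3, 1, 5, 4, 3, 1], none⟩,
  ⟨[0, 1, 3, 1, 4, 3, 1, 5, 4, 3, 1], none⟩,
  ⟨[2, 3, 2, 4, 3, 2, 5, 4, 3, 2], none⟩,
  ⟨[0, 2, 0, 3, 2, 0, 4, 3, 2, 0, 5, 4, 3, 2, 0], none⟩,
  ⟨[1, 2, 3, 1, 2, 3, 4, 3, 1, 2, 3, 4, 5, 4, 3, 1, 2, 3, 4, 5], none⟩,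
  ⟨[0, 1, 2, 0, 3, 1, 2, 0, 3, 2, 4, 3, 1, 2, 0, 3, 2, 4, 3, 1, 5, 4, 3, 1, 2, 0, 3, 2, 4, 3, 1, 5, 4, 3, 2, 0], none⟩,
  ⟨[6], some [([7, 6, 5, 4, 3, 2, 1, 3, 4, 5, 6, 7, 0, 2, 3, 4, 5, 6, 1, 3, 4, 5, 2, 3, 4, 1, 3, 2], 0), ([0, 2, 3, 4, 5, 6, 1, 3, 4, 5, 2, 3, 4, 1, 3, 2], 0), ([5, 6, 4, 5, 3, 4, 2, 3], 1), ([3, 4, 2, 3], 1), ([], 1), ([], 2), ([], 4)]⟩,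
  ⟨[0, 6], some [([7, 6, 5, 4, 3, 2, 1, 3, 4, 5, 6, 7, 0, 2, 3, 4, 5, 6, 1, 3, 4, 5, 2, 3, 4, 1, 3, 2], 0), ([3, 4, 5, 6, 1, 3, 4, 5, 2, 3, 4, 1, 3, 2], 0), ([5, 6, 4, 5, 2, 3, 4, 1, 3, 2], 0), ([2, 3, 4, 1, 3, 2], 0), ([], 1), ([], 4)]⟩,
  ⟨[1, 6], some [([7, 6, 5, 4, 3, 2, 1, 3, 4, 5, 6, 7, 0, 2, 3, 4, 5, 6, 1, 3, 4, 5, 2, 3, 4, 1, 3, 2], 0), ([0, 2, 3, 4, 5, 6, 1, 3, 4, 5, 2, 3, 4, 1, 3, 2], 0), ([5, 6, 4, 5, 3, 4, 2, 3], 1), ([3, 4, 2, 3], 1), ([], 2), ([], 4)]⟩,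
  ⟨[0, 1, 6], some [([7, 6, 5, 4, 3, 2, 1, 3, 4, 5, 6, 7, 0, 2, 3, 4, 5, 6, 1, 3, 4, 5, 2, 3, 4, 1, 3, 2], 0), ([3, 4, 5, 6, 1, 3, 4, 5, 2, 3, 4, 1, 3, 2], 0), ([5, 6, 4, 5, 2, 3, 4, 1, 3, 2], 0), ([2, 3, 4, 1, 3, 2], 0), ([], 4)]⟩,
  ⟨[2, 6], some [([7, 6, 5, 4, 3, 2, 1, 3, 4, 5, 6, 7, 0, 2, 3, 4, 5, 6, 1, 3, 4, 5, 2, 3, 4, 1, 3, 2], 0), ([0, 2, 3, 4, 5, 6, 1, 3, 4, 5, 2, 3, 4, 1, 3, 2], 0), ([5, 6, 4, 5, 3, 4, 2, 3], 1), ([3, 4, 2, 3], 1), ([], 1), ([], 4)]⟩,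
  ⟨[0, 2, 0, 6], none⟩,
  ⟨[1, 2, 6], some [([7, 6, 5, 4, 3, 2, 1, 3, 4, 5, 6, 7, 0, 2, 3, 4, 5, 6, 1, 3, 4, 5, 2, 3, 4, 1, 3, 2], 0), ([0, 2, 3, 4, 5, 6, 1, 3, 4, 5, 2, 3, 4, 1, 3, 2], 0), ([5, 6, 4, 5, 3, 4, 2, 3], 1), ([3, 4, 2, 3], 1), ([], 4)]⟩,
  ⟨[0, 1, 2, 0, 6], none⟩,
  ⟨[3, 6], some [([7, 6, 5, 4, 3, 2, 1, 3, 4, 5, 6, 7, 0, 2, 3, 4, 5, 6, 1, 3, 4, 5, 2, 3, 4, 1, 3, 2], 0), ([0, 2, 3, 4, 5, 6, 1, 3, 4, 5, 2, 3, 4, 1, 3, 2], 0), ([5, 6, 4, 5, 3, 4, 2, 3], 1), ([2, 3], 1), ([4, 3], 1), ([4, 3], 2)]⟩,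
  ⟨[0, 3, 6], some [([7, 6, 5, 4, 3, 2, 1, 3, 4, 5, 6, 7, 0, 2, 3, 4, 5, 6, 1, 3, 4, 5, 2, 3, 4, 1, 3, 2], 0), ([5, 6, 1, 3, 4, 5, 2, 3, 4, 1, 3, 2], 0), ([4, 5, 6, 3, 4, 5, 2, 3, 4, 1, 3, 2], 0), ([2, 3, 4, 1, 3, 2], 0), ([4, 3], 1)]⟩,
  ⟨[1, 3, 1, 6], none⟩,
  ⟨[0, 1, 3, 1, 6], none⟩,
  ⟨[2, 3, 2, 6], none⟩,
  ⟨[0, 2, 0, 3, 2, 0, 6], none⟩,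
  ⟨[1, 2, 3, 1, 2, 3, 6], none⟩,
  ⟨[0, 1, 2, 0, 3, 1, 2, 0, 3, 2, 6], none⟩,
  ⟨[4, 6], some [([7, 6, 5, 4, 3, 2, 1, 3, 4, 5, 6, 7, 0, 2, 3, 4, 5, 6, 1, 3, 4, 5, 2, 3, 4, 1, 3, 2], 0), ([0, 2, 3, 4, 5, 6, 1, 3, 4, 5, 2, 3, 4, 1, 3, 2], 0), ([5, 6, 4, 5, 3, 4, 2, 3], 1), ([3, 4, 2, 3], 1), ([], 1), ([], 2)]⟩,
  ⟨[0, 4, 6], some [([7, 6, 5, 4, 3, 2, 1, 3, 4, 5, 6, 7, 0, 2, 3, 4, 5, 6, 1, 3, 4, 5, 2, 3, 4, 1, 3, 2], 0), ([3, 4, 5, 6, 1, 3, 4, 5, 2, 3, 4, 1, 3, 2], 0), ([5, 6, 4, 5, 2, 3, 4, 1, 3, 2], 0), ([2, 3, 4, 1, 3, 2], 0), ([], 1)]⟩,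
  ⟨[1, 4, 6], some [([7, 6, 5, 4, 3, 2, 1, 3, 4, 5, 6, 7, 0, 2, 3, 4, 5, 6, 1, 3, 4, 5, 2, 3, 4, 1, 3, 2], 0), ([0, 2, 3, 4, 5, 6, 1, 3, 4, 5, 2, 3, 4, 1, 3, 2], 0), ([5, 6, 4, 5, 3, 4, 2, 3], 1), ([3, 4, 2, 3], 1), ([], 2)]⟩,
  ⟨[0, 1, 4, 6], some [([7, 6, 5, 4, 3, 2, 1, 3, 4, 5, 6, 7, 0, 2, 3, 4, 5, 6, 1, 3, 4, 5, 2, 3, 4, 1, 3, 2], 0), ([3, 4, 5, 6, 1, 3, 4, 5, 2, 3, 4, 1, 3, 2], 0), ([5, 6, 4, 5, 2, 3, 4, 1, 3, 2], 0), ([2, 3, 4, 1, 3, 2], 0)]⟩,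
  ⟨[2, 4, 6], some [([7, 6, 5, 4, 3, 2, 1, 3, 4, 5, 6, 7, 0, 2, 3, 4, 5, 6, 1, 3, 4, 5, 2, 3, 4, 1, 3, 2], 0), ([0, 2, 3, 4, 5, 6, 1, 3, 4, 5, 2, 3, 4, 1, 3, 2], 0), ([5, 6, 4, 5, 3, 4, 2, 3], 1), ([3, 4, 2, 3], 1), ([], 1)]⟩,
  ⟨[0, 2, 0, 4, 6], none⟩,
  ⟨[1, 2, 4, 6], some [([7, 6, 5, 4, 3, 2, 1, 3, 4, 5, 6, 7, 0, 2, 3, 4, 5, 6, 1, 3, 4, 5, 2, 3, 4, 1, 3, 2], 0), ([0, 2, 3, 4, 5, 6, 1, 3, 4, 5, 2, 3, 4, 1, 3, 2], 0), ([5, 6, 4, 5, 3, 4, 2, 3], 1), ([3, 4, 2, 3], 1)]⟩,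
  ⟨[0, 1, 2, 0, 4, 6], none⟩,
  ⟨[3, 4, 3, 6], none⟩,
  ⟨[0, 3, 4, 3, 6], none⟩,
  ⟨[1, 3, 1, 4, 3, 1, 6], none⟩,
  ⟨[0, 1, 3, 1, 4, 3, 1, 6], none⟩,
  ⟨[2, 3, 2, 4, 3, 2, 6], none⟩,
  ⟨[0, 2, 0, 3, 2, 0, 4, 3, 2, 0, 6], none⟩,
  ⟨[1, 2, 3, 1, 2, 3, 4, 3, 1, 2, 3, 4, 6], some [([7, 6, 5, 4, 3, 2, 1, 3, 4, 5, 6, 7, 0, 2, 3, 4, 5, 6, 1, 3, 4, 5, 2, 3, 4, 1, 3, 2], 0), ([0, 2, 3, 4, 5, 6, 1, 3, 4, 5, 2, 3, 4, 1, 3, 2], 0), ([5, 6, 4, 5, 3, 4, 2, 3], 1)]⟩,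
  ⟨[0, 1, 2, 0, 3, 1, 2, 0, 3, 2, 4, 3, 1, 2, 0, 3, 2, 4, 3, 1, 6], none⟩,
  ⟨[5, 6, 5], none⟩,
  ⟨[0, 5, 6, 5], none⟩,
  ⟨[1, 5, 6, 5], none⟩,
  ⟨[0, 1, 5, 6, 5], none⟩,
  ⟨[2, 5, 6, 5], none⟩,
  ⟨[0, 2, 0, 5, 6, 5], none⟩,
  ⟨[1, 2, 5, 6, 5], none⟩,
  ⟨[0, 1, 2, 0, 5, 6, 5], none⟩,
  ⟨[3, 5, 6, 5], none⟩,
  ⟨[0, 3, 5, 6, 5], none⟩,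
  ⟨[1, 3, 1, 5, 6, 5], none⟩,
  ⟨[0, 1, 3, 1, 5, 6, 5], none⟩,
  ⟨[2, 3, 2, 5, 6, 5], none⟩,
  ⟨[0, 2, 0, 3, 2, 0, 5, 6, 5], none⟩,
  ⟨[1, 2, 3, 1, 2, 3, 5, 6, 5], none⟩,
  ⟨[0, 1, 2, 0, 3, 1, 2, 0, 3, 2, 5, 6, 5], none⟩,
  ⟨[4, 5, 4, 6, 5, 4], none⟩,
  ⟨[0, 4, 5, 4, 6, 5, 4], none⟩,
  ⟨[1, 4, 5, 4, 6, 5, 4], none⟩,
  ⟨[0, 1, 4, 5, 4, 6, 5, 4], none⟩,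
  ⟨[2, 4, 5, 4, 6, 5, 4], none⟩,
  ⟨[0, 2, 0, 4, 5, 4, 6, 5, 4], none⟩,
  ⟨[1, 2, 4, 5, 4, 6, 5, 4], none⟩,
  ⟨[0, 1, 2, 0, 4, 5, 4, 6, 5, 4], none⟩,
  ⟨[3, 4, 3, 5, 4, 3, 6, 5, 4, 3], none⟩,
  ⟨[0, 3, 4, 3, 5, 4, 3, 6, 5, 4, 3], none⟩,
  ⟨[1, 3, 1, 4, 3, 1, 5, 4, 3, 1, 6, 5, 4, 3, 1], none⟩,
  ⟨[0, 1, 3, 1, 4, 3, 1, 5, 4, 3, 1, 6, 5, 4, 3, 1], none⟩,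
  ⟨[2, 3, 2, 4, 3, 2, 5, 4, 3, 2, 6, 5, 4, 3, 2], none⟩,
  ⟨[0, 2, 0, 3, 2, 0, 4, 3, 2, 0, 5, 4, 3, 2, 0, 6, 5, 4, 3, 2, 0], none⟩,
  ⟨[1, 2, 3, 1, 2, 3, 4, 3, 1, 2, 3, 4, 5, 4, 3, 1, 2, 3, 4, 5, 6, 5, 4, 3, 1, 2, 3, 4, 5, 6], some [([7, 6, 5, 4, 3, 2, 1, 3, 4, 5, 6, 7, 0, 2, 3, 4, 5, 6, 1, 3, 4, 5, 2, 3, 4, 1, 3, 2], 0), ([0, 2, 3, 4, 5, 6, 1, 3, 4, 5, 2, 3, 4, 1, 3, 2], 0)]⟩,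
  ⟨[0, 1, 2, 0, 3, 1, 2, 0, 3, 2, 4, 3, 1, 2, 0, 3, 2, 4, 3, 1, 5, 4, 3, 1, 2, 0, 3, 2, 4, 3, 1, 5, 4, 3, 2, 0, 6, 5, 4, 3, 1, 2, 0, 3, 2, 4, 3, 1, 5, 4, 3, 2, 0, 6, 5, 4, 3, 1, 2, 3, 4, 5, 6], some [([7, 6, 5, 4, 3, 2, 1, 3, 4, 5, 6, 7, 0, 2, 3, 4, 5, 6, 1, 3, 4, 5, 2, 3, 4, 1, 3, 2], 0)]⟩,
  ⟨[7], some [([5, 4, 3, 2, 1, 3, 4, 5, 6, 7, 0, 2, 3, 4, 5, 6, 1, 3, 4, 5, 2, 3, 4, 1, 3, 2], 0), ([6, 7, 0, 2, 3, 4, 5, 6, 1, 3, 4, 5, 2, 3, 4, 1, 3, 2], 0), ([6, 7, 5, 6, 4, 5, 3, 4, 2, 3], 1), ([3, 4, 2, 3], 1), ([], 1), ([], 2), ([], 4)]⟩,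
  ⟨[0, 7], some [([5, 4, 3, 2, 1, 3, 4, 5, 6, 7, 0, 2, 3, 4, 5, 6, 1, 3, 4, 5, 2, 3, 4, 1, 3, 2], 0), ([6, 7, 3, 4, 5, 6, 1, 3, 4, 5, 2, 3, 4, 1, 3, 2], 0), ([6, 7, 5, 6, 4, 5, 2, 3, 4, 1, 3, 2], 0), ([2, 3, 4, 1, 3, 2], 0), ([], 1), ([], 4)]⟩,
  ⟨[1, 7], some [([5, 4, 3, 2, 1, 3, 4, 5, 6, 7, 0, 2, 3, 4, 5, 6, 1, 3, 4, 5, 2, 3, 4, 1, 3, 2], 0), ([6, 7, 0, 2, 3, 4, 5, 6, 1, 3, 4, 5, 2, 3, 4, 1, 3, 2], 0), ([6, 7, 5, 6, 4, 5, 3, 4, 2, 3], 1), ([3, 4, 2, 3], 1), ([], 2), ([], 4)]⟩,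
  ⟨[0, 1, 7], some [([5, 4, 3, 2, 1, 3, 4, 5, 6, 7, 0, 2, 3, 4, 5, 6, 1, 3, 4, 5, 2, 3, 4, 1, 3, 2], 0), ([6, 7, 3, 4, 5, 6, 1, 3, 4, 5, 2, 3, 4, 1, 3, 2], 0), ([6, 7, 5, 6, 4, 5, 2, 3, 4, 1, 3, 2], 0), ([2, 3, 4, 1, 3, 2], 0), ([], 4)]⟩,
  ⟨[2, 7], some [([5, 4, 3, 2, 1, 3, 4, 5, 6, 7, 0, 2, 3, 4, 5, 6, 1, 3, 4, 5, 2, 3, 4, 1, 3, 2], 0), ([6, 7, 0, 2, 3, 4, 5, 6, 1, 3, 4, 5, 2, 3, 4, 1, 3, 2], 0), ([6, 7, 5, 6, 4, 5, 3, 4, 2, 3], 1), ([3, 4, 2, 3], 1), ([], 1), ([], 4)]⟩,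
  ⟨[0, 2, 0, 7], none⟩,
  ⟨[1, 2, 7], some [([5, 4, 3, 2, 1, 3, 4, 5, 6, 7, 0, 2, 3, 4, 5, 6, 1, 3, 4, 5, 2, 3, 4, 1, 3, 2], 0), ([6, 7, 0, 2, 3, 4, 5, 6, 1, 3, 4, 5, 2, 3, 4, 1, 3, 2], 0), ([6, 7, 5, 6, 4, 5, 3, 4, 2, 3], 1), ([3, 4, 2, 3], 1), ([], 4)]⟩,
  ⟨[0, 1, 2, 0, 7], none⟩,
  ⟨[3, 7], some [([5, 4, 3, 2, 1, 3, 4, 5, 6, 7, 0, 2, 3, 4, 5, 6, 1, 3, 4, 5, 2, 3, 4, 1, 3, 2], 0), ([6, 7, 0, 2, 3, 4, 5, 6, 1, 3, 4, 5, 2, 3, 4, 1, 3, 2], 0), ([6, 7, 5, 6, 4, 5, 3, 4, 2, 3], 1), ([2, 3], 1), ([4, 3], 1), ([4, 3], 2)]⟩,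
  ⟨[0, 3, 7], some [([5, 4, 3, 2, 1, 3, 4, 5, 6, 7, 0, 2, 3, 4, 5, 6, 1, 3, 4, 5, 2, 3, 4, 1, 3, 2], 0), ([6, 7, 5, 6, 1, 3, 4, 5, 2, 3, 4, 1, 3, 2], 0), ([6, 7, 4, 5, 6, 3, 4, 5, 2, 3, 4, 1, 3, 2], 0), ([2, 3, 4, 1, 3, 2], 0), ([4, 3], 1)]⟩,
  ⟨[1, 3, 1, 7], none⟩,
  ⟨[0, 1, 3, 1, 7], none⟩,
  ⟨[2, 3, 2, 7], none⟩,
  ⟨[0, 2, 0, 3, 2, 0, 7], none⟩,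
  ⟨[1, 2, 3, 1, 2, 3, 7], none⟩,
  ⟨[0, 1, 2, 0, 3, 1, 2, 0, 3, 2, 7], none⟩,
  ⟨[4, 7], some [([5, 4, 3, 2, 1, 3, 4, 5, 6, 7, 0, 2, 3, 4, 5, 6, 1, 3, 4, 5, 2, 3, 4, 1, 3, 2], 0), ([6, 7, 0, 2, 3, 4, 5, 6, 1, 3, 4, 5, 2, 3, 4, 1, 3, 2], 0), ([6, 7, 5, 6, 4, 5, 3, 4, 2, 3], 1), ([3, 4, 2, 3], 1), ([], 1), ([], 2)]⟩,
  ⟨[0, 4, 7], some [([5, 4, 3, 2, 1, 3, 4, 5, 6, 7, 0, 2, 3, 4, 5, 6, 1, 3, 4, 5, 2, 3, 4, 1, 3, 2], 0), ([6, 7, 3, 4, 5, 6, 1, 3, 4, 5, 2, 3, 4, 1, 3, 2], 0), ([6, 7, 5, 6, 4, 5, 2, 3, 4, 1, 3, 2], 0), ([2, 3, 4, 1, 3, 2], 0), ([], 1)]⟩,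
  ⟨[1, 4, 7], some [([5, 4, 3, 2, 1, 3, 4, 5, 6, 7, 0, 2, 3, 4, 5, 6, 1, 3, 4, 5, 2, 3, 4, 1, 3, 2], 0), ([6, 7, 0, 2, 3, 4, 5, 6, 1, 3, 4, 5, 2, 3, 4, 1, 3, 2], 0), ([6, 7, 5, 6, 4, 5, 3, 4, 2, 3], 1), ([3, 4, 2, 3], 1), ([], 2)]⟩,
  ⟨[0, 1, 4, 7], some [([5, 4, 3, 2, 1, 3, 4, 5, 6, 7, 0, 2, 3, 4, 5, 6, 1, 3, 4, 5, 2, 3, 4, 1, 3, 2], 0), ([6, 7, 3, 4, 5, 6, 1, 3, 4, 5, 2, 3, 4, 1, 3, 2], 0), ([6, 7, 5, 6, 4, 5, 2, 3, 4, 1, 3, 2], 0), ([2, 3, 4, 1, 3, 2], 0)]⟩,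
  ⟨[2, 4, 7], some [([5, 4, 3, 2, 1, 3, 4, 5, 6, 7, 0, 2, 3, 4, 5, 6, 1, 3, 4, 5, 2, 3, 4, 1, 3, 2], 0), ([6, 7, 0, 2, 3, 4, 5, 6, 1, 3, 4, 5, 2, 3, 4, 1, 3, 2], 0), ([6, 7, 5, 6, 4, 5, 3, 4, 2, 3], 1), ([3, 4, 2, 3], 1), ([], 1)]⟩,
  ⟨[0, 2, 0, 4, 7], none⟩,
  ⟨[1, 2, 4, 7], some [([5, 4, 3, 2, 1, 3, 4, 5, 6, 7, 0, 2, 3, 4, 5, 6, 1, 3, 4, 5, 2, 3, 4, 1, 3, 2], 0), ([6, 7, 0, 2, 3, 4, 5, 6, 1, 3, 4, 5, 2, 3, 4, 1, 3, 2], 0), ([6, 7, 5, 6, 4, 5, 3, 4, 2, 3], 1), ([3, 4, 2, 3], 1)]⟩,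
  ⟨[0, 1, 2, 0, 4, 7], none⟩,
  ⟨[3, 4, 3, 7], none⟩,
  ⟨[0, 3, 4, 3, 7], none⟩,
  ⟨[1, 3, 1, 4, 3, 1, 7], none⟩,
  ⟨[0, 1, 3, 1, 4, 3, 1, 7], none⟩,
  ⟨[2, 3, 2, 4, 3, 2, 7], none⟩,
  ⟨[0, 2, 0, 3, 2, 0, 4, 3, 2, 0, 7], none⟩,
  ⟨[1, 2, 3, 1, 2, 3, 4, 3, 1, 2, 3, 4, 7], some [([5, 4, 3, 2, 1, 3, 4, 5, 6, 7, 0, 2, 3, 4, 5, 6, 1, 3, 4, 5, 2, 3, 4, 1, 3, 2], 0), ([6, 7, 0, 2, 3, 4, 5, 6, 1, 3, 4, 5, 2, 3, 4, 1, 3, 2], 0), ([6, 7, 5, 6, 4, 5, 3, 4, 2, 3], 1)]⟩,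
  ⟨[0, 1, 2, 0, 3, 1, 2, 0, 3, 2, 4, 3, 1, 2, 0, 3, 2, 4, 3, 1, 7], none⟩,
  ⟨[5, 7], some [([3, 2, 1, 3, 4, 5, 6, 7, 0, 2, 3, 4, 5, 6, 1, 3, 4, 5, 2, 3, 4, 1, 3, 2], 0), ([4, 5, 6, 7, 0, 2, 3, 4, 5, 6, 1, 3, 4, 5, 2, 3, 4, 1, 3, 2], 0), ([6, 7, 5, 6, 4, 5, 3, 4, 2, 3], 1), ([4, 5, 3, 4, 2, 3], 1), ([], 1), ([], 2)]⟩,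
  ⟨[0, 5, 7], some [([3, 2, 1, 3, 4, 5, 6, 7, 0, 2, 3, 4, 5, 6, 1, 3, 4, 5, 2, 3, 4, 1, 3, 2], 0), ([4, 5, 6, 7, 3, 4, 5, 6, 1, 3, 4, 5, 2, 3, 4, 1, 3, 2], 0), ([6, 7, 5, 6, 4, 5, 2, 3, 4, 1, 3, 2], 0), ([4, 5, 2, 3, 4, 1, 3, 2], 0), ([], 1)]⟩,
  ⟨[1, 5, 7], some [([3, 2, 1, 3, 4, 5, 6, 7, 0, 2, 3, 4, 5, 6, 1, 3, 4, 5, 2, 3, 4, 1, 3, 2], 0), ([4, 5, 6, 7, 0, 2, 3, 4, 5, 6, 1, 3, 4, 5, 2, 3, 4, 1, 3, 2], 0), ([6, 7, 5, 6, 4, 5, 3, 4, 2, 3], 1), ([4, 5, 3, 4, 2, 3], 1), ([], 2)]⟩,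
  ⟨[0, 1, 5, 7], some [([3, 2, 1, 3, 4, 5, 6, 7, 0, 2, 3, 4, 5, 6, 1, 3, 4, 5, 2, 3, 4, 1, 3, 2], 0), ([4, 5, 6, 7, 3, 4, 5, 6, 1, 3, 4, 5, 2, 3, 4, 1, 3, 2], 0), ([6, 7, 5, 6, 4, 5, 2, 3, 4, 1, 3, 2], 0), ([4, 5, 2, 3, 4, 1, 3, 2], 0)]⟩,
  ⟨[2, 5, 7], some [([3, 2, 1, 3, 4, 5, 6, 7, 0, 2, 3, 4, 5, 6, 1, 3, 4, 5, 2, 3, 4, 1, 3, 2], 0), ([4, 5, 6, 7, 0, 2, 3, 4, 5, 6, 1, 3, 4, 5, 2, 3, 4, 1, 3, 2], 0), ([6, 7, 5, 6, 4, 5, 3, 4, 2, 3], 1), ([4, 5, 3, 4, 2, 3], 1), ([], 1)]⟩,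
  ⟨[0, 2, 0, 5, 7], none⟩,
  ⟨[1, 2, 5, 7], some [([3, 2, 1, 3, 4, 5, 6, 7, 0, 2, 3, 4, 5, 6, 1, 3, 4, 5, 2, 3, 4, 1, 3, 2], 0), ([4, 5, 6, 7, 0, 2, 3, 4, 5, 6, 1, 3, 4, 5, 2, 3, 4, 1, 3, 2], 0), ([6, 7, 5, 6, 4, 5, 3, 4, 2, 3], 1), ([4, 5, 3, 4, 2, 3], 1)]⟩,
  ⟨[0, 1, 2, 0, 5, 7], none⟩,
  ⟨[3, 5, 7], some [([1, 3, 4, 5, 6, 7, 0, 2, 3, 4, 5, 6, 1, 3, 4, 5, 2, 3, 4, 1, 3, 2], 0), ([2, 3, 4, 5, 6, 7, 0, 2, 3, 4, 5, 6, 1, 3, 4, 5, 2, 3, 4, 1, 3, 2], 0), ([6, 7, 5, 6, 4, 5, 3, 4, 2, 3], 1), ([4, 5, 3, 4, 2, 3], 1), ([2, 3], 1)]⟩,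
  ⟨[0, 3, 5, 7], some [([2, 3, 4, 5, 6, 7, 0, 2, 3, 4, 5, 6, 1, 3, 4, 5, 2, 3, 4, 1, 3, 2], 0), ([4, 5, 6, 7, 3, 4, 5, 6, 1, 3, 4, 5, 2, 3, 4, 1, 3, 2], 0), ([6, 7, 5, 6, 1, 3, 4, 5, 2, 3, 4, 1, 3, 2], 0), ([1, 3, 4, 5, 2, 3, 4, 1, 3, 2], 0)]⟩,
  ⟨[1, 3, 1, 5, 7], none⟩,
  ⟨[0, 1, 3, 1, 5, 7], none⟩,
  ⟨[2, 3, 2, 5, 7], none⟩,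
  ⟨[0, 2, 0, 3, 2, 0, 5, 7], none⟩,
  ⟨[1, 2, 3, 1, 2, 3, 5, 7], none⟩,
  ⟨[0, 1, 2, 0, 3, 1, 2, 0, 3, 2, 5, 7], none⟩,
  ⟨[4, 5, 4, 7], none⟩,
  ⟨[0, 4, 5, 4, 7], none⟩,
  ⟨[1, 4, 5, 4, 7], none⟩,
  ⟨[0, 1, 4, 5, 4, 7], none⟩,
  ⟨[2, 4, 5, 4, 7], none⟩,
  ⟨[0, 2, 0, 4, 5, 4, 7], none⟩,
  ⟨[1, 2, 4, 5, 4, 7], none⟩,
  ⟨[0, 1, 2, 0, 4, 5, 4, 7], none⟩,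
  ⟨[3, 4, 3, 5, 4, 3, 7], none⟩,
  ⟨[0, 3, 4, 3, 5, 4, 3, 7], none⟩,
  ⟨[1, 3, 1, 4, 3, 1, 5, 4, 3, 1, 7], none⟩,
  ⟨[0, 1, 3, 1, 4, 3, 1, 5, 4, 3, 1, 7], none⟩,
  ⟨[2, 3, 2, 4, 3, 2, 5, 4, 3, 2, 7], none⟩,
  ⟨[0, 2, 0, 3, 2, 0, 4, 3, 2, 0, 5, 4, 3, 2, 0, 7], none⟩,
  ⟨[1, 2, 3, 1, 2, 3, 4, 3, 1, 2, 3, 4, 5, 4, 3, 1, 2, 3, 4, 5, 7], none⟩,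
  ⟨[0, 1, 2, 0, 3, 1, 2, 0, 3, 2, 4, 3, 1, 2, 0, 3, 2, 4, 3, 1, 5, 4, 3, 1, 2, 0, 3, 2, 4, 3, 1, 5, 4, 3, 2, 0, 7], none⟩,
  ⟨[6, 7, 6], none⟩,
  ⟨[0, 6, 7, 6], none⟩,
  ⟨[1, 6, 7, 6], none⟩,
  ⟨[0, 1, 6, 7, 6], none⟩,
  ⟨[2, 6, 7, 6], none⟩,
  ⟨[0, 2, 0, 6, 7, 6], none⟩,
  ⟨[1, 2, 6, 7, 6], none⟩,
  ⟨[0, 1, 2, 0, 6, 7, 6], none⟩,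
  ⟨[3, 6, 7, 6], none⟩,
  ⟨[0, 3, 6, 7, 6], none⟩,
  ⟨[1, 3, 1, 6, 7, 6], none⟩,
  ⟨[0, 1, 3, 1, 6, 7, 6], none⟩,
  ⟨[2, 3, 2, 6, 7, 6], none⟩,
  ⟨[0, 2, 0, 3, 2, 0, 6, 7, 6], none⟩,
  ⟨[1, 2, 3, 1, 2, 3, 6, 7, 6], none⟩,
  ⟨[0, 1, 2, 0, 3, 1, 2, 0, 3, 2, 6, 7, 6], none⟩,
  ⟨[4, 6, 7, 6], none⟩,
  ⟨[0, 4, 6, 7, 6], none⟩,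
  ⟨[1, 4, 6, 7, 6], none⟩,
  ⟨[0, 1, 4, 6, 7, 6], none⟩,
  ⟨[2, 4, 6, 7, 6], none⟩,
  ⟨[0, 2, 0, 4, 6, 7, 6], none⟩,
  ⟨[1, 2, 4, 6, 7, 6], none⟩,
  ⟨[0, 1, 2, 0, 4, 6, 7, 6], none⟩,
  ⟨[3, 4, 3, 6, 7, 6], none⟩,
  ⟨[0, 3, 4, 3, 6, 7, 6], none⟩,
  ⟨[1, 3, 1, 4, 3, 1, 6, 7, 6], none⟩,
  ⟨[0, 1, 3, 1, 4, 3, 1, 6, 7, 6], none⟩,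
  ⟨[2, 3, 2, 4, 3, 2, 6, 7, 6], none⟩,
  ⟨[0, 2, 0, 3, 2, 0, 4, 3, 2, 0, 6, 7, 6], none⟩,
  ⟨[1, 2, 3, 1, 2, 3, 4, 3, 1, 2, 3, 4, 6, 7, 6], none⟩,
  ⟨[0, 1, 2, 0, 3, 1, 2, 0, 3, 2, 4, 3, 1, 2, 0, 3, 2, 4, 3, 1, 6, 7, 6], none⟩,
  ⟨[5, 6, 5, 7, 6, 5], none⟩,
  ⟨[0, 5, 6, 5, 7, 6, 5], none⟩,
  ⟨[1, 5, 6, 5, 7, 6, 5], none⟩,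
  ⟨[0, 1, 5, 6, 5, 7, 6, 5], none⟩,
  ⟨[2, 5, 6, 5, 7, 6, 5], none⟩,
  ⟨[0, 2, 0, 5, 6, 5, 7, 6, 5], none⟩,
  ⟨[1, 2, 5, 6, 5, 7, 6, 5], none⟩,
  ⟨[0, 1, 2, 0, 5, 6, 5, 7, 6, 5], none⟩,
  ⟨[3, 5, 6, 5, 7, 6, 5], none⟩,
  ⟨[0, 3, 5, 6, 5, 7, 6, 5], none⟩,
  ⟨[1, 3, 1, 5, 6, 5, 7, 6, 5], none⟩,
  ⟨[0, 1, 3, 1, 5, 6, 5, 7, 6, 5], none⟩,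
  ⟨[2, 3, 2, 5, 6, 5, 7, 6, 5], none⟩,
  ⟨[0, 2, 0, 3, 2, 0, 5, 6, 5, 7, 6, 5], none⟩,
  ⟨[1, 2, 3, 1, 2, 3, 5, 6, 5, 7, 6, 5], none⟩,
  ⟨[0, 1, 2, 0, 3, 1, 2, 0, 3, 2, 5, 6, 5, 7, 6, 5], none⟩,
  ⟨[4, 5, 4, 6, 5, 4, 7, 6, 5, 4], none⟩,
  ⟨[0, 4, 5, 4, 6, 5, 4, 7, 6, 5, 4], none⟩,
  ⟨[1, 4, 5, 4, 6, 5, 4, 7, 6, 5, 4], none⟩,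
  ⟨[0, 1, 4, 5, 4, 6, 5, 4, 7, 6, 5, 4], none⟩,
  ⟨[2, 4, 5, 4, 6, 5, 4, 7, 6, 5, 4], none⟩,
  ⟨[0, 2, 0, 4, 5, 4, 6, 5, 4, 7, 6, 5, 4], none⟩,
  ⟨[1, 2, 4, 5, 4, 6, 5, 4, 7, 6, 5, 4], none⟩,
  ⟨[0, 1, 2, 0, 4, 5, 4, 6, 5, 4, 7, 6, 5, 4], none⟩,
  ⟨[3, 4, 3, 5, 4, 3, 6, 5, 4, 3, 7, 6, 5, 4, 3], none⟩,
  ⟨[0, 3, 4, 3, 5, 4, 3, 6, 5, 4, 3, 7, 6, 5, 4, 3], none⟩,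
  ⟨[1, 3, 1, 4, 3, 1, 5, 4, 3, 1, 6, 5, 4, 3, 1, 7, 6, 5, 4, 3, 1], none⟩,
  ⟨[0, 1, 3, 1, 4, 3, 1, 5, 4, 3, 1, 6, 5, 4, 3, 1, 7, 6, 5, 4, 3, 1], none⟩,
  ⟨[2, 3, 2, 4, 3, 2, 5, 4, 3, 2, 6, 5, 4, 3, 2, 7, 6, 5, 4, 3, 2], none⟩,
  ⟨[0, 2, 0, 3, 2, 0, 4, 3, 2, 0, 5, 4, 3, 2, 0, 6, 5, 4, 3, 2, 0, 7, 6, 5, 4, 3, 2, 0], none⟩,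
  ⟨[1, 2, 3, 1, 2, 3, 4, 3, 1, 2, 3, 4, 5, 4, 3, 1, 2, 3, 4, 5, 6, 5, 4, 3, 1, 2, 3, 4, 5, 6, 7, 6, 5, 4, 3, 1, 2, 3, 4, 5, 6, 7], none⟩,
  ⟨[0, 1, 2, 0, 3, 1, 2, 0, 3, 2, 4, 3, 1, 2, 0, 3, 2, 4, 3, 1, 5, 4, 3, 1, 2, 0, 3, 2, 4, 3, 1, 5, 4, 3, 2, 0, 6, 5, 4, 3, 1, 2, 0, 3, 2, 4, 3, 1, 5, 4, 3, 2, 0, 6, 5, 4, 3, 1, 2, 3, 4, 5, 6, 7, 6, 5, 4, 3, 1, 2, 0, 3, 2, 4, 3, 1, 5, 4, 3, 2, 0, 6, 5, 4, 3, 1, 2, 3, 4, 5, 6, 7, 6, 5, 4, 3, 1, 2, 0, 3, 2, 4, 3, 1, 5, 4, 3, 2, 0, 6, 5, 4, 3, 1, 2, 3, 4, 5, 6, 7], some []⟩]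

end Cfsg.Agent.Helper13.InvN
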