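import Mathlib
import Cfsg.Agent.Lib.Helper13.InvNDefsC
import Cfsg.Prelude.Def_ChevF4

/-! GENERATED (scratch/inv/gentab.py): the table of type F4 for the involution theorem. -/

set_option autoImplicit false

namespace Cfsg.Agent.Helper13.InvN

open Cfsg Cfsg.Lie

/-- the table of type F4: 16 subsets, 12 of them with a frame -/
def tabF4 : Table where
  w0 := [0, 1, 0, 2, 1, 0, 2, 1, 2, 3, 2, 1, 0, 2, 1, 2, 3, 2, 1, 0, 2, 1, 2, 3]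
  entries := [
  ⟨[], some [([3, 2, 1, 2, 3, 0, 1], 2), ([0, 1], 2), ([1], 2), ([], 2)]⟩,
  ⟨[0], some [([3, 2, 1, 2, 3, 0, 1], 2), ([1, 2, 1], 0), ([], 2)]⟩,
  ⟨[1], some [([3, 2, 1, 2, 3, 0, 1], 2), ([0, 1], 2), ([2], 1)]⟩,
  ⟨[0, 1, 0], none⟩,
  ⟨[2], some [([3, 2, 1, 2, 3, 0, 1], 2), ([0, 1], 2), ([1], 2)]⟩,
  ⟨[0, 2], some [([3, 2, 1, 2, 3, 0, 1], 2), ([1, 2, 1], 0)]⟩,
  ⟨[1, 2, 1, 2], some [([3, 2, 1, 2, 3, 0, 1], 2), ([0, 1], 2)]⟩,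
  ⟨[0, 1, 0, 2, 1, 0, 2, 1, 2], some [([3, 2, 1, 2, 3, 0, 1], 2)]⟩,
  ⟨[3], some [([1, 2, 3, 0, 1], 2), ([2, 3, 0, 1], 2), ([2, 3, 1], 2)]⟩,
  ⟨[0, 3], some [([1, 2, 3, 0, 1], 2), ([2, 3, 1, 2, 1], 0)]⟩,
  ⟨[1, 3], some [([0, 1, 2, 3, 1, 2, 1], 0), ([2, 3, 1], 2)]⟩,
  ⟨[0, 1, 0, 3], none⟩,
  ⟨[2, 3, 2], none⟩,
  ⟨[0, 2, 3, 2], none⟩,
  ⟨[1, 2, 1, 2, 3, 2, 1, 2, 3], some [([0, 1, 2, 3, 1, 2, 1], 0)]⟩,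
  ⟨[0, 1, 0, 2, 1, 0, 2, 1, 2, 3, 2, 1, 0, 2, 1, 2, 3, 2, 1, 0, 2, 1, 2, 3], some []⟩]

end Cfsg.Agent.Helper13.InvN
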