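import Mathlib
import Cfsg.Prelude.Def_JComponents

/-!
# KS12 (J(T)-components): the structure lemma FF — definitions (helper13)

Paper proofs: `plans/KS12_notes.md` (lead) + `plans/JCFF_Skel.lean.txt` (helper13, corrections included).

Abstract setting: a finite group `X` (playing the role of `L ∈ 𝓛(T)`), `Q = O₂(X) = pCore 2 X`,
`V = VX X = ⟨Ω₁Z(S) : S ∈ Syl₂ X⟩`, `C = C_X(V)`, `J = J(X) = thompsonSubgroup 2 X`.
-/

set_option autoImplicit false

namespace Cfsg.Agent.Helper13.JCFF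

open Cfsg

/-- `V = ⟨Ω₁(Z(S)) : S ∈ Syl₂(X)⟩` (the form of S0601) -/
def VX (X : Type*) [Group X] : Subgroup X :=
  ⨆ S : Sylow 2 X, Cfsg.omegaOne 2 ((S : Subgroup X) ⊓ Subgroup.centralizer ((S : Subgroup X) : Set X))

/-- the abstract setting: `X` plays the role of `L ∈ 𝓛(T)`; `hC` is what `hZ` gives (F2) -/
structure KS (X : Type*) [Group X] (T : Subgroup X) : Prop where
  syl : Cfsg.IsSylowTwoIn T ⊤
  solv : IsSolvable X
  hQ : Subgroup.centralizer (Cfsg.pCore 2 X : Set X) ≤ Cfsg.pCore 2 X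
  hJ : ¬ Cfsg.thompsonSubgroupOf 2 T ≤ Cfsg.pCore 2 X
  hC : Subgroup.centralizer (VX X : Set X) ≤ Subgroup.normalizer (T : Set X)

/-- The output of the solvable failure-of-factorization theorem (S0610–S0617) for `V ⊴ X`, pulled back to `X`
(PIECE F3, helper4).  `C = C_X(V)`, `J = J(X)`; `D i` = preimage in `X` of the direct factor `E_i ≅ S₃` of
`JC/C = E_1 × ⋯ × E_r`, `O i` = preimage of `O₃(E_i)`, `W_i = ⁅V, D i⁆`. -/
structure FFData (X : Type*) [Group X] (V : Subgroup X) where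
  r : ℕ
  D : Fin r → Subgroup X
  O : Fin r → Subgroup X
  pos : 0 < r
  C_le_O : ∀ i, Subgroup.centralizer (V : Set X) ≤ O i
  O_le_D : ∀ i, O i ≤ D i
  D_le : ∀ i, D i ≤ Cfsg.thompsonSubgroup 2 X ⊔ Subgroup.centralizer (V : Set X)
  relIndex_O : ∀ i, (Subgroup.centralizer (V : Set X)).relIndex (O i) = 3
  relIndex_D : ∀ i, (O i).relIndex (D i) = 2
  /-- `X` permutes the factors -/
  conj : ∀ (x : X) (i : Fin r), ∃ j : Fin r,
    (D i).map (MulAut.conj x).toMonoidHom = D j ∧ (O i).map (MulAut.conj x).toMonoidHom = O j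
  /-- `JC` normalizes every factor -/
  conj_J : ∀ x ∈ Cfsg.thompsonSubgroup 2 X ⊔ Subgroup.centralizer (V : Set X), ∀ i : Fin r,
    (D i).map (MulAut.conj x).toMonoidHom = D i ∧ (O i).map (MulAut.conj x).toMonoidHom = O i
  comm_DD : ∀ i j : Fin r, i ≠ j → ⁅D i, D j⁆ ≤ Subgroup.centralizer (V : Set X)
  sup_D : ⨆ i, D i = Cfsg.thompsonSubgroup 2 X ⊔ Subgroup.centralizer (V : Set X)
  indep : ∀ i : Fin r, D i ⊓ (Subgroup.centralizer (V : Set X) ⊔ ⨆ j : {j : Fin r // j ≠ i}, D j) =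
    Subgroup.centralizer (V : Set X)
  card_W : ∀ i, Nat.card ↥(⁅V, D i⁆) = 4
  comm_WD : ∀ i j : Fin r, i ≠ j → ⁅⁅V, D i⁆, D j⁆ = ⊥
  W_indep : iSupIndep (fun o : Option (Fin r) =>
    o.elim (V ⊓ Subgroup.centralizer (Cfsg.thompsonSubgroup 2 X : Set X)) (fun i => ⁅V, D i⁆))
  W_sup : (V ⊓ Subgroup.centralizer (Cfsg.thompsonSubgroup 2 X : Set X)) ⊔ ⨆ i, ⁅V, D i⁆ = V
  /-- `D i / C ≅ S₃` acts faithfully on `W_i` -/
  cent_W : ∀ i, D i ⊓ Subgroup.centralizer ((⁅V, D i⁆ : Subgroup X) : Set X) = Subgroup.centralizer (V : Set X)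
  /-- S0610 for `A ∈ 𝒜(X)` -/
  off_card : ∀ A ∈ Cfsg.maxElementaryAbelianSubgroups 2 X,
    (A ⊓ Subgroup.centralizer (V : Set X)).relIndex A * Nat.card ↥(V ⊓ Subgroup.centralizer (A : Set X)) = Nat.card ↥V
  /-- S0612 + S0611 for `A ∈ 𝒜(X)`: `AC/C` is the product of its intersections with the `E_i`, each of order `≤ 2` -/
  off_split : ∀ A ∈ Cfsg.maxElementaryAbelianSubgroups 2 X,
    A ⊔ Subgroup.centralizer (V : Set X) = Subgroup.centralizer (V : Set X) ⊔ ⨆ i, (A ⊓ D i)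
  off_le : ∀ A ∈ Cfsg.maxElementaryAbelianSubgroups 2 X, ∀ i : Fin r,
    (A ⊓ Subgroup.centralizer (V : Set X)).relIndex (A ⊓ D i) ≤ 2

/-- the candidate components: `K_i = O²(O_i ∩ JQ)` -/
def Kc {X : Type*} [Group X] {V : Subgroup X} (F : FFData X V) (i : Fin F.r) : Subgroup X :=
  Subgroup.closure {x : X | x ∈ F.O i ∧ x ∈ Cfsg.thompsonSubgroup 2 X ⊔ Cfsg.pCore 2 X ∧ Odd (orderOf x)}

end Cfsg.Agent.Helper13.JCFF
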