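import Mathlib
import Cfsg.Prelude.Def_JComponents
import Cfsg.Agent.Lib.Helper13.JCFFDefs
import Cfsg.Agent.S0600
import Cfsg.Agent.S0601

/-!
# KS12 / JCFF, piece F1: the subgroup `V = ⟨Ω₁Z(S)⟩` (helper13)
-/

set_option autoImplicit false
set_option linter.unusedVariables false
set_option linter.style.haveILetI false

namespace Cfsg.Agent.Helper13.JCFF

open Cfsg

variable {X : Type*} [Group X] [Finite X]

theorem f1_VX_eq : VX X = ⨆ S : Sylow 2 X, Cfsg.Agent.S0601.zOmega 2 (S : Subgroup X) := rfl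

theorem f1_zOmega_le_VX (S : Sylow 2 X) : Cfsg.Agent.S0601.zOmega 2 (S : Subgroup X) ≤ VX X := by
  rw [f1_VX_eq]
  exact le_iSup (fun S : Sylow 2 X => Cfsg.Agent.S0601.zOmega 2 (S : Subgroup X)) S

theorem VX_normal (hQ : Subgroup.centralizer (pCore 2 X : Set X) ≤ pCore 2 X) : (VX X).Normal := by
  haveI : Fact (Nat.Prime 2) := ⟨Nat.prime_two⟩
  exact (Cfsg.Agent.S0601.aux hQ (VX X) f1_VX_eq).1

theorem VX_elem (hQ : Subgroup.centralizer (pCore 2 X : Set X) ≤ pCore 2 X) :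
    IsElementaryAbelian 2 (VX X) := by
  haveI : Fact (Nat.Prime 2) := ⟨Nat.prime_two⟩
  exact (Cfsg.Agent.S0601.aux hQ (VX X) f1_VX_eq).2.1

/-- `Ω₁Z(S) ≤ C_X(S)` -/
theorem f1_zOmega_le_centralizer (S : Subgroup X) :
    Cfsg.Agent.S0601.zOmega 2 S ≤ Subgroup.centralizer (S : Set X) :=
  (Cfsg.Agent.S0601.zOmega_le 2 S).trans inf_le_right

/-- `V` centralizes `Q` (every `Ω₁Z(S)` does, as `Q ≤ S`) -/
theorem f1_VX_le_centralizer_pCore : VX X ≤ Subgroup.centralizer (pCore 2 X : Set X) := by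
  haveI : Fact (Nat.Prime 2) := ⟨Nat.prime_two⟩
  rw [f1_VX_eq]
  apply iSup_le
  intro S
  haveI : (pCore 2 X).Normal := Helper27.pCore_normal 2
  have hQS : pCore 2 X ≤ (S : Subgroup X) :=
    (Helper27.pCore_isPGroup (G := X) 2).le_sylow_of_normal S
  exact (f1_zOmega_le_centralizer (S : Subgroup X)).trans (Subgroup.centralizer_le hQS)

/-- `V ≤ Ω₁Z(Q)`: `Z(S) ≤ C_X(Q) ≤ Q` for every Sylow `S ⊇ Q` -/
theorem VX_le_pCore (hQ : Subgroup.centralizer (pCore 2 X : Set X) ≤ pCore 2 X) : VX X ≤ pCore 2 X :=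
  f1_VX_le_centralizer_pCore.trans hQ

theorem pCore_le_centralizer_VX (hQ : Subgroup.centralizer (pCore 2 X : Set X) ≤ pCore 2 X) :
    pCore 2 X ≤ Subgroup.centralizer (VX X : Set X) := by
  rw [Subgroup.le_centralizer_iff]
  exact f1_VX_le_centralizer_pCore

theorem f1_VX_gen :
    VX X = ⨆ S : Sylow 2 X, VX X ⊓ Subgroup.centralizer ((S : Subgroup X) : Set X) := by
  apply le_antisymm
  · conv_lhs => rw [f1_VX_eq]
    apply iSup_le
    intro S
    have h1 : Cfsg.Agent.S0601.zOmega 2 (S : Subgroup X) ≤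
        VX X ⊓ Subgroup.centralizer ((S : Subgroup X) : Set X) :=
      le_inf (f1_zOmega_le_VX S) (f1_zOmega_le_centralizer (S : Subgroup X))
    exact h1.trans (le_iSup (fun S : Sylow 2 X =>
      VX X ⊓ Subgroup.centralizer ((S : Subgroup X) : Set X)) S)
  · apply iSup_le
    intro S
    exact inf_le_left

theorem pCore_quot_VX (hQ : Subgroup.centralizer (pCore 2 X : Set X) ≤ pCore 2 X) [(VX X).Normal] :
    pCore 2 (X ⧸ Subgroup.centralizer (VX X : Set X)) = ⊥ := by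
  haveI : Fact (Nat.Prime 2) := ⟨Nat.prime_two⟩
  exact Cfsg.Agent.S0600.result (VX X) (VX_elem hQ) f1_VX_gen

/-- a Sylow 2-subgroup in the sense of `IsSylowTwoIn T ⊤` as a `Sylow 2 X` -/
theorem f1_exists_sylow {T : Subgroup X} (hT : IsSylowTwoIn T ⊤) :
    ∃ S : Sylow 2 X, (S : Subgroup X) = T := by
  haveI : Fact (Nat.Prime 2) := ⟨Nat.prime_two⟩
  obtain ⟨-, hT2, hodd⟩ := hT
  rw [Subgroup.relIndex_top_right] at hodd
  have hnd : ¬ 2 ∣ T.index := by
    intro h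
    exact (Nat.not_even_iff_odd.2 hodd) (even_iff_two_dvd.2 h)
  exact ⟨hT2.toSylow hnd, rfl⟩

theorem omegaCenterOf_le_VX {T : Subgroup X} (hT : IsSylowTwoIn T ⊤) : omegaCenterOf T ≤ VX X := by
  obtain ⟨S, rfl⟩ := f1_exists_sylow hT
  exact f1_zOmega_le_VX S

end Cfsg.Agent.Helper13.JCFF
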