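import Mathlib
import Cfsg.Prelude.Def_JComponents
import Cfsg.Agent.Lib.Helper13.JCFFDefs
import Cfsg.Agent.Lib.Helper13.JCF1
import Cfsg.Agent.Lib.Helper25.JCConj
import Cfsg.Agent.Lib.Helper25.JCSyl
import Cfsg.Agent.Lib.Helper4.ZJElementary
import Cfsg.Agent.S4227

/-!
# KS12 / JCFF, piece F2: consequences of `hC` (helper13)
-/

set_option autoImplicit false
set_option linter.unusedVariables false
set_option linter.unusedSectionVars false
set_option linter.style.haveILetI false

namespace Cfsg.Agent.Helper13.JCFF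

open Cfsg Cfsg.Agent.Helper25.JC Cfsg.Agent.Helper4.ZJ
open scoped commutatorElement

variable {X : Type*} [Group X] [Finite X]

/-- a normal subgroup is fixed by conjugation -/
theorem f2_map_conj_of_normal {N : Subgroup X} (hN : N.Normal) (g : X) :
    N.map (MulAut.conj g).toMonoidHom = N := by
  apply map_conj_eq_of_mem_normalizer
  rw [Subgroup.normalizer_eq_top_iff.2 hN]
  exact Subgroup.mem_top g

theorem f2_centralizer_VX_normal (hQ : Subgroup.centralizer (pCore 2 X : Set X) ≤ pCore 2 X) :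
    (Subgroup.centralizer (VX X : Set X)).Normal := by
  haveI := VX_normal hQ
  infer_instance

theorem KS.conj {T : Subgroup X} (h : KS X T) (g : X) :
    KS X (T.map (MulAut.conj g).toMonoidHom) := by
  refine ⟨?_, h.solv, h.hQ, ?_, ?_⟩
  · have := (isSylowTwoIn_map (MulAut.conj g) (S := T) (L := ⊤)).2 h.syl
    rwa [f2_map_conj_of_normal (inferInstance : (⊤ : Subgroup X).Normal)] at this
  · intro hle
    apply h.hJ
    rw [thompson_map] at hle
    have hQn : (pCore 2 X).Normal := Helper27.pCore_normal 2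
    rw [← f2_map_conj_of_normal hQn g, map_le_map_iff'] at hle
    exact hle
  · have hCn := f2_centralizer_VX_normal h.hQ
    rw [normalizer_map, ← f2_map_conj_of_normal hCn g, map_le_map_iff']
    exact h.hC

theorem KS.psolv {T : Subgroup X} (h : KS X T) : IsPSolvable 2 X := by
  haveI : Fact (Nat.Prime 2) := ⟨Nat.prime_two⟩
  exact Cfsg.Agent.S4227.isPSolvable_of_isSolvable h.solv 2

theorem f2_pCore_le {T : Subgroup X} (hT : IsSylowTwoIn T ⊤) : pCore 2 X ≤ T := by
  haveI : Fact (Nat.Prime 2) := ⟨Nat.prime_two⟩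
  obtain ⟨S, rfl⟩ := f1_exists_sylow hT
  haveI : (pCore 2 X).Normal := Helper27.pCore_normal 2
  exact (Helper27.pCore_isPGroup (G := X) 2).le_sylow_of_normal S

theorem f2_pCoreOf_normal_le {N : Subgroup X} (hN : N.Normal) : pCoreOf 2 N ≤ pCore 2 X := by
  apply Helper27.le_pCore _ (Cfsg.Agent.Helper14.pCoreOf_isPGroup 2 N)
  constructor
  intro n hn g
  have : (pCoreOf 2 N).map (MulAut.conj g).toMonoidHom = pCoreOf 2 N := by
    rw [← pCoreOf_map, f2_map_conj_of_normal hN]
  rw [← this]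
  exact ⟨n, hn, rfl⟩

theorem KS.T_inf_C {T : Subgroup X} (h : KS X T) :
    T ⊓ Subgroup.centralizer (VX X : Set X) = pCore 2 X := by
  have hCn := f2_centralizer_VX_normal h.hQ
  apply le_antisymm
  · have h1 : T ⊓ Subgroup.centralizer (VX X : Set X) ≤
        pCoreOf 2 (Subgroup.centralizer (VX X : Set X)) := by
      apply Cfsg.Agent.Helper14.le_pCoreOf inf_le_right
      · intro c hc
        have hcT := h.hC hc
        rw [Subgroup.mem_normalizer_iff] at hcT ⊢
        intro x
        rw [Subgroup.mem_inf, Subgroup.mem_inf, hcT x]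
        have : x ∈ Subgroup.centralizer (VX X : Set X) ↔
            c * x * c⁻¹ ∈ Subgroup.centralizer (VX X : Set X) := by
          constructor
          · intro hx
            exact Subgroup.mul_mem _ (Subgroup.mul_mem _ hc hx) (Subgroup.inv_mem _ hc)
          · intro hx
            have e : x = c⁻¹ * (c * x * c⁻¹) * c := by group
            rw [e]
            exact Subgroup.mul_mem _ (Subgroup.mul_mem _ (Subgroup.inv_mem _ hc) hx) hc
        rw [this]
      · exact h.syl.2.1.to_le inf_le_left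
    exact h1.trans (f2_pCoreOf_normal_le hCn)
  · exact le_inf (f2_pCore_le h.syl) (pCore_le_centralizer_VX h.hQ)

/-- every 2-subgroup lies in a conjugate of the Sylow 2-subgroup `T` -/
theorem f2_exists_conj {T B : Subgroup X} (hT : IsSylowTwoIn T ⊤) (hB : IsPGroup 2 ↥B) :
    ∃ x : X, B ≤ T.map (MulAut.conj x).toMonoidHom := by
  obtain ⟨S, hBS, hS⟩ := exists_isSylowTwoIn_of_le (le_top : B ≤ ⊤) hB
  obtain ⟨n, -, rfl⟩ := isSylowTwoIn_conj hT hS
  exact ⟨n, hBS⟩

/-- every 2-subgroup of `C` lies in `Q` -/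
theorem KS.le_pCore_of_le_C {T : Subgroup X} (h : KS X T) {B : Subgroup X} (hB : IsPGroup 2 ↥B)
    (hBC : B ≤ Subgroup.centralizer (VX X : Set X)) : B ≤ pCore 2 X := by
  obtain ⟨x, hx⟩ := f2_exists_conj h.syl hB
  rw [← (h.conj x).T_inf_C]
  exact le_inf hx hBC

theorem KS.odd_relIndex {T : Subgroup X} (h : KS X T) :
    Odd ((pCore 2 X).relIndex (Subgroup.centralizer (VX X : Set X))) := by
  haveI : Fact (Nat.Prime 2) := ⟨Nat.prime_two⟩
  obtain ⟨P⟩ := (inferInstance : Nonempty (Sylow 2 ↥(Subgroup.centralizer (VX X : Set X))))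
  have h1 : (P : Subgroup ↥(Subgroup.centralizer (VX X : Set X))).map
      (Subgroup.centralizer (VX X : Set X)).subtype ≤ pCore 2 X :=
    h.le_pCore_of_le_C (P.2.map _) (Subgroup.map_subtype_le _)
  have h2 : (P : Subgroup ↥(Subgroup.centralizer (VX X : Set X))) ≤
      (pCore 2 X).subgroupOf (Subgroup.centralizer (VX X : Set X)) := by
    intro x hx
    rw [Subgroup.mem_subgroupOf]
    exact h1 ⟨x, hx, rfl⟩
  have h3 : (pCore 2 X).subgroupOf (Subgroup.centralizer (VX X : Set X)) = P :=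
    P.is_maximal' ((Helper27.pCore_isPGroup (G := X) 2).comap_of_injective _
      (Subgroup.subtype_injective _)) h2
  unfold Subgroup.relIndex
  rw [h3, ← Nat.not_even_iff_odd, even_iff_two_dvd]
  exact P.not_dvd_index

/-- for a normal subgroup `N`, the elements `j` with `⁅c, j⁆ ∈ N` for all `c ∈ H` form a subgroup -/
def f2CommSub (H N : Subgroup X) (hN : N.Normal) : Subgroup X where
  carrier := {j | ∀ c ∈ H, ⁅c, j⁆ ∈ N}
  one_mem' := by
    intro c hc
    rw [commutatorElement_one_right]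
    exact N.one_mem
  mul_mem' := by
    intro a b ha hb c hc
    rw [commutatorElement_mul_right_eq_mul_conj, mul_assoc, mul_assoc]
    apply N.mul_mem (ha c hc)
    rw [← mul_assoc]
    exact hN.conj_mem _ (hb c hc) a
  inv_mem' := by
    intro a ha c hc
    rw [commutatorElement_inv_right]
    have h1 : ⁅a, c⁆ ∈ N := by
      rw [← commutatorElement_inv]
      exact N.inv_mem (ha c hc)
    have := hN.conj_mem _ h1 a⁻¹
    rwa [inv_inv] at this

theorem f2_commutator_sSup_le {H N : Subgroup X} (hN : N.Normal) {S : Set (Subgroup X)}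
    (hS : ∀ A ∈ S, ⁅H, A⁆ ≤ N) : ⁅H, sSup S⁆ ≤ N := by
  have h1 : sSup S ≤ f2CommSub H N hN := by
    apply sSup_le
    intro A hA a ha c hc
    exact hS A hA (Subgroup.commutator_mem_commutator hc ha)
  rw [Subgroup.commutator_le]
  intro c hc j hj
  exact h1 hj c hc

theorem f2_isPGroup_of_elem {A : Subgroup X} (hA : IsElementaryAbelian 2 A) : IsPGroup 2 ↥A := by
  intro a
  refine ⟨1, ?_⟩
  apply Subtype.ext
  rw [Subgroup.coe_pow, pow_one]
  exact hA.2 a.1 a.2

/-- `[C, T] ≤ Q` -/
theorem KS.comm_C_T {T : Subgroup X} (h : KS X T) :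
    ⁅Subgroup.centralizer (VX X : Set X), T⁆ ≤ pCore 2 X := by
  have hCn := f2_centralizer_VX_normal h.hQ
  rw [← h.T_inf_C, Subgroup.commutator_le]
  intro c hc t ht
  refine Subgroup.mem_inf.2 ⟨?_, ?_⟩
  · have hcT := h.hC hc
    rw [Subgroup.mem_normalizer_iff] at hcT
    rw [commutatorElement_def]
    exact T.mul_mem ((hcT t).1 ht) (T.inv_mem ht)
  · rw [commutatorElement_def, mul_assoc, mul_assoc]
    apply Subgroup.mul_mem _ hc
    rw [← mul_assoc]
    exact hCn.conj_mem _ (Subgroup.inv_mem _ hc) t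

theorem KS.comm_C_J {T : Subgroup X} (h : KS X T) :
    ⁅Subgroup.centralizer (VX X : Set X), thompsonSubgroup 2 X⁆ ≤ pCore 2 X := by
  unfold thompsonSubgroup
  apply f2_commutator_sSup_le (Helper27.pCore_normal 2)
  intro A hA
  obtain ⟨x, hx⟩ := f2_exists_conj h.syl (f2_isPGroup_of_elem hA.1)
  exact (Subgroup.commutator_mono le_rfl hx).trans (h.conj x).comm_C_T

theorem f2_isElementaryAbelian_map {Y : Type*} [Group Y] (f : X →* Y) {A : Subgroup X}
    (hA : IsElementaryAbelian 2 A) : IsElementaryAbelian 2 (A.map f) := by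
  obtain ⟨hc, he⟩ := hA
  refine ⟨Subgroup.map_isMulCommutative A _, ?_⟩
  rintro _ ⟨a, ha, rfl⟩
  rw [← map_pow, he a ha, map_one]

/-- `𝒜(T) ⊆ 𝒜(X)` for a Sylow 2-subgroup `T` -/
theorem f2_famE_subset {T A : Subgroup X} (hT : IsSylowTwoIn T ⊤) (hA : A ∈ famE 2 T) :
    A ∈ maxElementaryAbelianSubgroups 2 X := by
  obtain ⟨hAT, hAe, hmax⟩ := mem_famE.1 hA
  refine ⟨hAe, ?_⟩
  intro B hB
  obtain ⟨x, hx⟩ := f2_exists_conj hT (f2_isPGroup_of_elem hB)
  have h1 : B.map (MulAut.conj x).symm.toMonoidHom ≤ T := by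
    have := Subgroup.map_mono (f := (MulAut.conj x).symm.toMonoidHom) hx
    rwa [map_symm_map] at this
  have h2 := hmax _ h1 (f2_isElementaryAbelian_map _ hB)
  rwa [Subgroup.card_map_of_injective (MulAut.conj x).symm.injective] at h2

theorem KS.JT_le_J {T : Subgroup X} (h : KS X T) : thompsonSubgroupOf 2 T ≤ thompsonSubgroup 2 X := by
  apply thompsonSubgroupOf_le
  intro A hA
  exact le_sSup (f2_famE_subset h.syl hA)

theorem KS.not_J_le_C {T : Subgroup X} (h : KS X T) :
    ¬ thompsonSubgroup 2 X ≤ Subgroup.centralizer (VX X : Set X) := by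
  intro hle
  apply h.hJ
  rw [← h.T_inf_C]
  exact le_inf (thompsonSubgroupOf_le_self T) (h.JT_le_J.trans hle)

end Cfsg.Agent.Helper13.JCFF
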