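import Mathlib
import Cfsg.Prelude.Def_JComponents
import Cfsg.Agent.Lib.Helper13.JCFFDefs
import Cfsg.Agent.Lib.Helper13.JCF1
import Cfsg.Agent.Lib.Helper13.JCF2
import Cfsg.Agent.Lib.Helper4.JCF3KS
import Cfsg.Agent.Lib.Helper15.JCSUBNCore
import Cfsg.Agent.Lib.Helper25.JCF5Core
import Cfsg.Agent.Lib.Helper26.JCF4B
import Cfsg.Agent.Lib.Helper27.JCTR
import Cfsg.Agent.Lib.Helper25.JCSyl
import Cfsg.Agent.Lib.Helper27.JCHC
import Cfsg.Agent.Lib.Helper24.JCF4

/-!
# KS12 / JCFF: assembly, part 1 (helper13).  The consequences of the structure lemma (F1–F5, SUBN) consumed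
by the rows S2942 S2943 S2944: `comp_subnormal`, `comp_eq_of_wOf_meet`, `comp_eq_of_wOf_meet'`.
-/

set_option autoImplicit false
set_option linter.unusedVariables false
set_option linter.unusedSectionVars false
set_option linter.style.haveILetI false

namespace Cfsg.Agent.Helper13.JCFF

open Cfsg

/-! ## PART I : abstract setting -/

section abstract

variable {X : Type*} [Group X] [Finite X]

/-- PIECE F5 (helper25) with F4 (helper24) and F4B (helper26) plugged in -/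
theorem KS.asm_comp_eq_Kc {T : Subgroup X} (h : KS X T) (F : FFData X (VX X)) {K : Subgroup X}
    (hK : IsJComponent T K) : ∃ i : Fin F.r, K = Kc F i ∧ wOf K = ⁅VX X, F.D i⁆ :=
  f5_comp_eq_Kc h F hK (h.J_inf_C_le F) (h.VX_le_JT F)

/-- PIECE SUBN (helper15) with F4 plugged in -/
theorem KS.asm_Kc_subnormal {T : Subgroup X} (h : KS X T) (F : FFData X (VX X)) (i : Fin F.r) :
    (Kc F i).IsSubnormal :=
  subn_core F i (VX_normal h.hQ) (pCore_le_centralizer_VX h.hQ) (h.J_inf_C_le F)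

theorem KS.comp_subnormal {T : Subgroup X} (h : KS X T) {K : Subgroup X} (hK : IsJComponent T K) :
    K.IsSubnormal := by
  obtain ⟨F⟩ := h.exists_ffdata
  obtain ⟨i, rfl, -⟩ := h.asm_comp_eq_Kc F hK
  exact h.asm_Kc_subnormal F i

theorem KS.comp_eq {T : Subgroup X} (h : KS X T) (g : X) {K₁ K₂ : Subgroup X}
    (h₁ : IsJComponent T K₁) (h₂ : IsJComponent (T.map (MulAut.conj g).toMonoidHom) K₂)
    (hW : wOf K₁ ⊓ wOf K₂ ≠ ⊥) : K₁ = K₂ := by
  obtain ⟨F⟩ := h.exists_ffdata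
  obtain ⟨i, rfl, hi⟩ := h.asm_comp_eq_Kc F h₁
  obtain ⟨j, rfl, hj⟩ := (h.conj g).asm_comp_eq_Kc F h₂
  by_cases hij : i = j
  · rw [hij]
  · exfalso
    apply hW
    rw [hi, hj]
    have := F.W_indep.pairwiseDisjoint (i := some i) (j := some j) (by simpa using hij)
    exact disjoint_iff.1 this

end abstract

/-! ## PART III : the consequences in `G` consumed by the rows -/

section rows

variable {G : Type*} [Group G] [Finite G]

theorem asm_map_subgroupOf {H L : Subgroup G} (h : H ≤ L) : (H.subgroupOf L).map L.subtype = H :=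
  Subgroup.map_subgroupOf_eq_of_le h

theorem asm_isJComponent_subgroupOf {T K L : Subgroup G} (hTL : T ≤ L) (hKL : K ≤ L) :
    IsJComponent (T.subgroupOf L) (K.subgroupOf L) ↔ IsJComponent T K := by
  rw [← isJComponent_map_inj L.subtype L.subtype_injective, asm_map_subgroupOf hTL,
    asm_map_subgroupOf hKL]

theorem asm_isJComponent_map {T L : Subgroup G} (hTL : T ≤ L) (K' : Subgroup ↥L) :
    IsJComponent T (K'.map L.subtype) ↔ IsJComponent (T.subgroupOf L) K' := by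
  rw [← isJComponent_map_inj L.subtype L.subtype_injective, asm_map_subgroupOf hTL]

/-- conjugation inside `L` versus conjugation in `G` -/
theorem asm_map_conj {L : Subgroup G} (g : ↥L) (H : Subgroup ↥L) :
    (H.map (MulAut.conj g).toMonoidHom).map L.subtype =
      (H.map L.subtype).map (MulAut.conj (g : G)).toMonoidHom := by
  rw [Subgroup.map_map, Subgroup.map_map]
  congr 1

/-- S2942 -/
theorem comp_subnormal
    (hN : ∀ N : Subgroup G, IsTwoLocal N → IsSolvable ↥N)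
    (hZ : ∀ S : Sylow 2 G, Subgroup.centralizer (omegaCenterOf (S : Subgroup G) : Set G) ≤
      Subgroup.normalizer ((S : Subgroup G) : Set G))
    (T : Subgroup G) (hT1 : T ≠ ⊥) (L : Subgroup G) (hLT : L ∈ jOvergroups T)
    (K : Subgroup G) (hK : IsJComponent T K) (hKL : K ≤ L) : (K.subgroupOf L).IsSubnormal := by
  have h := ks_of_mem_jOvergroups hN hZ T hT1 L hLT
  exact h.comp_subnormal ((asm_isJComponent_subgroupOf hLT.1.1 hKL).2 hK)

/-- for S2943 / S2944 -/
theorem comp_eq_of_wOf_meet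
    (hN : ∀ N : Subgroup G, IsTwoLocal N → IsSolvable ↥N)
    (hZ : ∀ S : Sylow 2 G, Subgroup.centralizer (omegaCenterOf (S : Subgroup G) : Set G) ≤
      Subgroup.normalizer ((S : Subgroup G) : Set G))
    (T : Subgroup G) (hT1 : T ≠ ⊥) (L : Subgroup G) (hLT : L ∈ jOvergroups T)
    (g : G) (hg : g ∈ L) (K₁ K₂ : Subgroup G) (h₁ : IsJComponent T K₁)
    (h₂ : IsJComponent (T.map (MulAut.conj g).toMonoidHom) K₂) (hK₁ : K₁ ≤ L) (hK₂ : K₂ ≤ L)
    (hW : wOf K₁ ⊓ wOf K₂ ≠ ⊥) : K₁ = K₂ := by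
  have h := ks_of_mem_jOvergroups hN hZ T hT1 L hLT
  have hTL : T ≤ L := hLT.1.1
  have h₁' : IsJComponent (T.subgroupOf L) (K₁.subgroupOf L) :=
    (asm_isJComponent_subgroupOf hTL hK₁).2 h₁
  have h₂' : IsJComponent ((T.subgroupOf L).map (MulAut.conj (⟨g, hg⟩ : ↥L)).toMonoidHom)
      (K₂.subgroupOf L) := by
    rw [← isJComponent_map_inj L.subtype L.subtype_injective, asm_map_conj, asm_map_subgroupOf hTL,
      asm_map_subgroupOf hK₂]
    exact h₂
  have hW' : wOf (K₁.subgroupOf L) ⊓ wOf (K₂.subgroupOf L) ≠ ⊥ := by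
    intro h0
    apply hW
    rw [← asm_map_subgroupOf hK₁, ← asm_map_subgroupOf hK₂, wOf_map_inj L.subtype L.subtype_injective,
      wOf_map_inj L.subtype L.subtype_injective, ← Subgroup.map_inf_eq _ _ _ L.subtype_injective, h0,
      Subgroup.map_bot]
  have := h.comp_eq ⟨g, hg⟩ h₁' h₂' hW'
  rw [← asm_map_subgroupOf hK₁, ← asm_map_subgroupOf hK₂, this]

/-- the same with a second Sylow 2-subgroup `T₂` of `L` -/
theorem comp_eq_of_wOf_meet'
    (hN : ∀ N : Subgroup G, IsTwoLocal N → IsSolvable ↥N)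
    (hZ : ∀ S : Sylow 2 G, Subgroup.centralizer (omegaCenterOf (S : Subgroup G) : Set G) ≤
      Subgroup.normalizer ((S : Subgroup G) : Set G))
    (T : Subgroup G) (hT1 : T ≠ ⊥) (L : Subgroup G) (hLT : L ∈ jOvergroups T)
    (T₂ : Subgroup G) (hT₂ : IsSylowTwoIn T₂ L) (K₁ K₂ : Subgroup G) (h₁ : IsJComponent T K₁)
    (h₂ : IsJComponent T₂ K₂) (hK₁ : K₁ ≤ L) (hK₂ : K₂ ≤ L)
    (hW : wOf K₁ ⊓ wOf K₂ ≠ ⊥) : K₁ = K₂ := by
  obtain ⟨n, hn, rfl⟩ := Cfsg.Agent.Helper25.JC.isSylowTwoIn_conj hLT.1 hT₂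
  exact comp_eq_of_wOf_meet hN hZ T hT1 L hLT n hn K₁ K₂ h₁ h₂ hK₁ hK₂ hW

end rows

end Cfsg.Agent.Helper13.JCFF
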