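import Mathlib
import Cfsg.Prelude.Def_JComponents
import Cfsg.Agent.Lib.Helper13.JCASM1
import Cfsg.Agent.Lib.Helper26.JCFRATCore
import Cfsg.Agent.Lib.Helper23.JCF6

/-!
# KS12 / JCFF: assembly, part 2 (helper13).  The consequences of F6 + FRAT consumed by the rows
S2948 S2949: `exists_comp`, `le_of_comps_le`.
-/

set_option autoImplicit false
set_option linter.unusedVariables false
set_option linter.unusedSectionVars false
set_option linter.style.haveILetI false

namespace Cfsg.Agent.Helper13.JCFF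

open Cfsg

section abstract

variable {X : Type*} [Group X] [Finite X]

theorem KS.exists_comp {T : Subgroup X} (h : KS X T) : ∃ K : Subgroup X, IsJComponent T K := by
  obtain ⟨F⟩ := h.exists_ffdata
  exact ⟨Kc F ⟨0, F.pos⟩, h.Kc_isJComponent F _⟩

theorem KS.eq_top_of_comps_le {T : Subgroup X} (h : KS X T) (Y : Subgroup X) (hTY : T ≤ Y)
    (hNY : Subgroup.normalizer (thompsonSubgroupOf 2 T : Set X) ≤ Y)
    (hKY : ∀ K, IsJComponent T K → K ≤ Y) : Y = ⊤ := by
  obtain ⟨F⟩ := h.exists_ffdata
  exact frat_core h F (h.J_inf_C_le F) Y hTY hNY (fun i => hKY _ (h.Kc_isJComponent F i))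

end abstract

section rows

variable {G : Type*} [Group G] [Finite G]

/-- for S2948 -/
theorem exists_comp
    (hN : ∀ N : Subgroup G, IsTwoLocal N → IsSolvable ↥N)
    (hZ : ∀ S : Sylow 2 G, Subgroup.centralizer (omegaCenterOf (S : Subgroup G) : Set G) ≤
      Subgroup.normalizer ((S : Subgroup G) : Set G))
    (T : Subgroup G) (hT1 : T ≠ ⊥) (L : Subgroup G) (hLT : L ∈ jOvergroups T) :
    ∃ K : Subgroup G, IsJComponent T K ∧ K ≤ L := by
  have h := ks_of_mem_jOvergroups hN hZ T hT1 L hLT
  obtain ⟨K', hK'⟩ := h.exists_comp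
  exact ⟨K'.map L.subtype, (asm_isJComponent_map hLT.1.1 K').2 hK', Subgroup.map_subtype_le _⟩

/-- for S2949 (Frattini form) -/
theorem le_of_comps_le
    (hN : ∀ N : Subgroup G, IsTwoLocal N → IsSolvable ↥N)
    (hZ : ∀ S : Sylow 2 G, Subgroup.centralizer (omegaCenterOf (S : Subgroup G) : Set G) ≤
      Subgroup.normalizer ((S : Subgroup G) : Set G))
    (T : Subgroup G) (hT1 : T ≠ ⊥) (L : Subgroup G) (hLT : L ∈ jOvergroups T)
    (Y : Subgroup G) (hTY : T ≤ Y)
    (hNY : L ⊓ Subgroup.normalizer (thompsonSubgroupOf 2 T : Set G) ≤ Y)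
    (hKY : ∀ K, IsJComponent T K → K ≤ L → K ≤ Y) : L ≤ Y := by
  have h := ks_of_mem_jOvergroups hN hZ T hT1 L hLT
  have hTL : T ≤ L := hLT.1.1
  have htop : Y.subgroupOf L = ⊤ := by
    apply h.eq_top_of_comps_le
    · intro x hx
      rw [Subgroup.mem_subgroupOf] at hx ⊢
      exact hTY hx
    · intro x hx
      rw [Subgroup.mem_subgroupOf]
      apply hNY
      refine Subgroup.mem_inf.2 ⟨x.2, ?_⟩
      have hJ : thompsonSubgroupOf 2 T =
          (thompsonSubgroupOf 2 (T.subgroupOf L)).map L.subtype := by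
        rw [← thompsonSubgroupOf_map_inj L.subtype L.subtype_injective, asm_map_subgroupOf hTL]
      rw [hJ, Subgroup.mem_normalizer_iff]
      have hx' := hx
      rw [Subgroup.mem_normalizer_iff] at hx'
      intro y
      constructor
      · rintro ⟨y', hy', rfl⟩
        exact ⟨x * y' * x⁻¹, (hx' y').1 hy', by simp⟩
      · rintro ⟨z, hz, hzy⟩
        refine ⟨x⁻¹ * z * x, ?_, ?_⟩
        · have := (hx' (x⁻¹ * z * x)).2
          apply this
          have e : x * (x⁻¹ * z * x) * x⁻¹ = z := by group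
          rw [e]
          exact hz
        · have : L.subtype (x⁻¹ * z * x) = (x : G)⁻¹ * L.subtype z * (x : G) := by simp
          rw [this, hzy]
          group
    · intro K' hK'
      have h1 : K'.map L.subtype ≤ Y :=
        hKY _ ((asm_isJComponent_map hTL K').2 hK') (Subgroup.map_subtype_le _)
      intro x hx
      rw [Subgroup.mem_subgroupOf]
      exact h1 ⟨x, hx, rfl⟩
  intro x hx
  have : (⟨x, hx⟩ : ↥L) ∈ Y.subgroupOf L := by rw [htop]; exact Subgroup.mem_top _
  rwa [Subgroup.mem_subgroupOf] at this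

end rows

end Cfsg.Agent.Helper13.JCFF
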