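import Mathlib
import Cfsg.Agent.Lib.Helper13.NilpotentGL

/-!
# Explicit Jordan models of unipotent matrices, uniform in the field (helper13)
-/

set_option autoImplicit false

namespace Cfsg.Agent.Helper13.JM

open Matrix Module Cfsg.Agent.Helper13.Nilp

section index

variable {n : ℕ}

theorem card_sigma_list (l : List ℕ) (hsum : l.sum = n) :
    Fintype.card (Σ i : Fin l.length, Fin (l.get i)) = Fintype.card (Fin n) := by
  have hk : Finset.univ.val.map (fun i : Fin l.length => l.get i) = (l : Multiset ℕ) := by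
    rw [Fin.univ_val_map, List.ofFn_get]
  rw [Fintype.card_sigma, Fintype.card_fin]
  simp only [Fintype.card_fin]
  rw [← hsum]
  change (Finset.univ.val.map (fun i : Fin l.length => l.get i)).sum = _
  rw [hk]
  rfl

/-- the bijection between the positions in the Jordan blocks and the coordinates -/
noncomputable def idx (l : List ℕ) (hsum : l.sum = n) :
    (Σ i : Fin l.length, Fin (l.get i)) ≃ Fin n :=
  Fintype.equivOfCardEq (card_sigma_list l hsum)

end index

section model

variable {n : ℕ} (l : List ℕ) (hsum : l.sum = n)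

/-- the nilpotent Jordan matrix with blocks of sizes given by `l`, over any ring -/
noncomputable def jN (R : Type*) [Zero R] [One R] : Matrix (Fin n) (Fin n) R :=
  Matrix.of fun a b =>
    if ((idx l hsum).symm a).1 = ((idx l hsum).symm b).1 ∧
        (((idx l hsum).symm a).2 : ℕ) = (((idx l hsum).symm b).2 : ℕ) + 1 then 1 else 0

theorem jN_apply (R : Type*) [Zero R] [One R] (a b : Fin n) :
    jN l hsum R a b = if ((idx l hsum).symm a).1 = ((idx l hsum).symm b).1 ∧
        (((idx l hsum).symm a).2 : ℕ) = (((idx l hsum).symm b).2 : ℕ) + 1 then 1 else 0 := rfl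

theorem jN_map {R S : Type*} [Semiring R] [Semiring S] (φ : R →+* S) :
    (jN l hsum R).map φ = jN l hsum S := by
  ext a b
  rw [Matrix.map_apply, jN_apply, jN_apply]
  split_ifs
  · exact map_one φ
  · exact map_zero φ

theorem jN_col {R : Type*} [Semiring R] (i : Fin l.length) (j : Fin (l.get i)) :
    (jN l hsum R) *ᵥ Pi.single (idx l hsum ⟨i, j⟩) 1 =
      if h : (j : ℕ) + 1 < l.get i then Pi.single (idx l hsum ⟨i, ⟨(j : ℕ) + 1, h⟩⟩) 1 else 0 := by
  rw [Matrix.mulVec_single_one]
  funext a
  rw [Matrix.col_apply, jN_apply, Equiv.symm_apply_apply]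
  obtain ⟨⟨i', j'⟩, rfl⟩ := (idx l hsum).surjective a
  rw [Equiv.symm_apply_apply]
  simp only
  by_cases h : (j : ℕ) + 1 < l.get i
  · rw [dif_pos h]
    by_cases hc : i' = i ∧ (j' : ℕ) = (j : ℕ) + 1
    · rw [if_pos hc]
      obtain ⟨rfl, hj⟩ := hc
      have : j' = ⟨(j : ℕ) + 1, h⟩ := Fin.ext hj
      rw [this, Pi.single_eq_same]
    · rw [if_neg hc, Pi.single_apply, if_neg]
      intro heq
      have h2 := (idx l hsum).injective heq
      apply hc
      have h3 := congrArg Sigma.fst h2
      simp only at h3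
      subst h3
      refine ⟨rfl, ?_⟩
      have h4 := eq_of_heq (Sigma.mk.inj h2).2
      rw [h4]
  · rw [dif_neg h, if_neg]
    · rfl
    · rintro ⟨rfl, hj⟩
      have := j'.2
      omega

end model

section field

variable {n : ℕ}

/-- the chain basis of the Jordan matrix: the standard basis -/
noncomputable def jcb (l : List ℕ) (hsum : l.sum = n) (hpos : ∀ a ∈ l, 0 < a) (K : Type*)
    [Field K] : ChainBasis (Matrix.toLinAlgEquiv' (jN l hsum K) :
    Module.End K (Fin n → K)) where
  ι := Fin l.length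
  fin := inferInstance
  k := fun i => l.get i
  kpos := fun i => hpos _ (List.get_mem l i)
  b := (Pi.basisFun K (Fin n)).reindex (idx l hsum).symm
  chain := by
    intro i j
    have h1 : ∀ x : (Σ i : Fin l.length, Fin (l.get i)),
        ((Pi.basisFun K (Fin n)).reindex (idx l hsum).symm) x = Pi.single (idx l hsum x) 1 := by
      intro x
      rw [Basis.reindex_apply, Equiv.symm_symm, Pi.basisFun_apply]
    rw [h1, Matrix.toLinAlgEquiv'_apply, jN_col]
    split_ifs with h
    · rw [h1]
    · rfl

theorem jcb_type (l : List ℕ) (hsum : l.sum = n) (hpos : ∀ a ∈ l, 0 < a) (K : Type*)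
    [Field K] : (jcb l hsum hpos K).type = (l : Multiset ℕ) := by
  unfold ChainBasis.type jcb
  simp only
  rw [Fin.univ_val_map, List.ofFn_get]

theorem jN_nilpotent (l : List ℕ) (hsum : l.sum = n) (hpos : ∀ a ∈ l, 0 < a) (K : Type*)
    [Field K] : IsNilpotent (jN l hsum K) := by
  refine ⟨n, ?_⟩
  have h1 := (jcb l hsum hpos K).le_iff n
  rw [jcb_type] at h1
  have h2 : (Matrix.toLinAlgEquiv' (jN l hsum K) : Module.End K (Fin n → K)) ^ n = 0 := by
    rw [h1]
    intro a ha
    rw [← hsum]
    exact List.le_sum_of_mem (Multiset.mem_coe.1 ha)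
  rw [← map_pow] at h2
  exact (map_eq_zero_iff _ (Matrix.toLinAlgEquiv' (R := K) (n := Fin n)).injective).1 h2

/-- the unipotent Jordan matrix as an element of the general linear group -/
noncomputable def jG (l : List ℕ) (hsum : l.sum = n) (hpos : ∀ a ∈ l, 0 < a) (K : Type*)
    [Field K] : GL (Fin n) K :=
  ((jN_nilpotent l hsum hpos K).isUnit_one_add).unit

theorem jG_val (l : List ℕ) (hsum : l.sum = n) (hpos : ∀ a ∈ l, 0 < a) (K : Type*)
    [Field K] : ((jG l hsum hpos K : GL (Fin n) K) : Matrix (Fin n) (Fin n) K) =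
    1 + jN l hsum K := rfl

theorem nilMat_jG (l : List ℕ) (hsum : l.sum = n) (hpos : ∀ a ∈ l, 0 < a) (K : Type*)
    [Field K] : nilMat (jG l hsum hpos K) = jN l hsum K := by
  unfold nilMat
  rw [jG_val, add_sub_cancel_left]

theorem nilOf_jG (l : List ℕ) (hsum : l.sum = n) (hpos : ∀ a ∈ l, 0 < a) (K : Type*)
    [Field K] : nilOf (jG l hsum hpos K) = Matrix.toLinAlgEquiv' (jN l hsum K) := by
  unfold nilOf
  rw [nilMat_jG]

/-- the chain basis of the Jordan model -/
noncomputable def jGcb (l : List ℕ) (hsum : l.sum = n) (hpos : ∀ a ∈ l, 0 < a) (K : Type*)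
    [Field K] : ChainBasis (nilOf (jG l hsum hpos K)) where
  ι := Fin l.length
  fin := inferInstance
  k := fun i => l.get i
  kpos := fun i => hpos _ (List.get_mem l i)
  b := (Pi.basisFun K (Fin n)).reindex (idx l hsum).symm
  chain := by
    intro i j
    rw [nilOf_jG]
    exact (jcb l hsum hpos K).chain i j

theorem jGcb_type (l : List ℕ) (hsum : l.sum = n) (hpos : ∀ a ∈ l, 0 < a) (K : Type*)
    [Field K] : (jGcb l hsum hpos K).type = (l : Multiset ℕ) := by
  unfold ChainBasis.type jGcb
  simp only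
  rw [Fin.univ_val_map, List.ofFn_get]

/-- every unipotent element is conjugate to a Jordan model -/
theorem exists_conj_model {K : Type*} [Field K] (g : GL (Fin n) K)
    (hg : IsNilpotent (nilMat g)) :
    ∃ (l : List ℕ) (hsum : l.sum = n) (hpos : ∀ a ∈ l, 0 < a),
      IsConj g (jG l hsum hpos K) ∧ ∀ m, nilMat g ^ m = 0 → ∀ a ∈ l, a ≤ m := by
  have hnil : IsNilpotent (nilOf g) := by
    obtain ⟨k, hk⟩ := hg
    exact ⟨k, (nilOf_pow_eq_zero_iff g k).2 hk⟩
  obtain ⟨cb⟩ := exists_chainBasis (nilOf g) hnil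
  have hl : (cb.type.toList : Multiset ℕ) = cb.type := Multiset.coe_toList _
  have hsum : cb.type.toList.sum = n := by
    rw [Multiset.sum_toList, type_sum_gl g cb]
  have hpos : ∀ a ∈ cb.type.toList, 0 < a := by
    intro a ha
    exact cb.type_pos a (Multiset.mem_toList.1 ha)
  refine ⟨cb.type.toList, hsum, hpos, ?_, ?_⟩
  · apply isConj_of_type_eq cb (jGcb cb.type.toList hsum hpos K)
    rw [jGcb_type, hl]
  · intro m hm a ha
    exact (nilMat_pow_eq_zero_iff g cb m).1 hm a (Multiset.mem_toList.1 ha)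

end field

section centralizer

variable {n : ℕ}

/-- the diagonal matrix scaling one Jordan block -/
noncomputable def jD (l : List ℕ) (hsum : l.sum = n) (K : Type*) [Field K] (i₀ : Fin l.length)
    (α : K) : Matrix (Fin n) (Fin n) K :=
  Matrix.diagonal (fun a => if ((idx l hsum).symm a).1 = i₀ then α else 1)

theorem jD_comm (l : List ℕ) (hsum : l.sum = n) (K : Type*) [Field K] (i₀ : Fin l.length)
    (α : K) : jD l hsum K i₀ α * jN l hsum K = jN l hsum K * jD l hsum K i₀ α := by
  ext a b
  unfold jD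
  rw [Matrix.diagonal_mul, Matrix.mul_diagonal, jN_apply]
  by_cases h : ((idx l hsum).symm a).1 = ((idx l hsum).symm b).1 ∧
      (((idx l hsum).symm a).2 : ℕ) = (((idx l hsum).symm b).2 : ℕ) + 1
  · rw [if_pos h, h.1, mul_one, one_mul]
  · rw [if_neg h, mul_zero, zero_mul]

theorem det_jD (l : List ℕ) (hsum : l.sum = n) (K : Type*) [Field K] (i₀ : Fin l.length)
    (α : K) : (jD l hsum K i₀ α).det = α ^ (l.get i₀) := by
  classical
  unfold jD
  rw [Matrix.det_diagonal]
  rw [← Fintype.prod_equiv (idx l hsum)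
    (fun x : (Σ i : Fin l.length, Fin (l.get i)) => if x.1 = i₀ then α else 1)
    (fun a => if ((idx l hsum).symm a).1 = i₀ then α else 1)
    (fun x => by rw [Equiv.symm_apply_apply])]
  rw [Fintype.prod_sigma]
  simp only
  have h1 : ∀ i : Fin l.length, (∏ _j : Fin (l.get i), (if i = i₀ then α else 1)) =
      if i = i₀ then α ^ (l.get i₀) else 1 := by
    intro i
    by_cases h : i = i₀
    · subst h
      simp
    · simp [h]
  simp only [h1]
  rw [Finset.prod_ite_eq' Finset.univ i₀ (fun _ => α ^ (l.get i₀)), if_pos (Finset.mem_univ _)]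

end centralizer

end Cfsg.Agent.Helper13.JM
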