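import Mathlib
import Cfsg.Agent.Lib.Helper18.LevDefs

/-!
# S2522 (Lev), piece LEV-DET (helper13): `det (child g e φ) = det g`
-/

set_option autoImplicit false

namespace Cfsg.Agent.Helper18.Lev

open Module

variable {K : Type*} [Field K] {V : Type*} [AddCommGroup V] [Module K V]

/-- the equivalence `V ≃ K × ker φ`, `v ↦ (φ v, v - φ v • e)` (for `φ e = 1`) -/
def det_equiv (e : V) (φ : V →ₗ[K] K) (he : φ e = 1) : V ≃ₗ[K] (K × ↥(LinearMap.ker φ)) where
  toFun v := (φ v, prK e φ v)
  map_add' v w := by simp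
  map_smul' c v := by simp
  invFun x := x.1 • e + (x.2 : V)
  left_inv v := by
    simp [he]
  right_inv x := by
    obtain ⟨l, w⟩ := x
    have hw : φ (w : V) = 0 := w.2
    apply Prod.ext
    · simp [he, hw]
    · apply Subtype.ext
      simp [he, hw]

/-- the map `Q0 v = φ v • e + child (pr v)` -/
def det_Q0 (g : V →ₗ[K] V) (e : V) (φ : V →ₗ[K] K) : V →ₗ[K] V :=
  φ.smulRight e + (LinearMap.ker φ).subtype ∘ₗ child g e φ ∘ₗ prK e φ

theorem det_Q0_apply (g : V →ₗ[K] V) (e : V) (φ : V →ₗ[K] K) (v : V) :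
    det_Q0 g e φ v = φ v • e + ((child g e φ (prK e φ v) : ↥(LinearMap.ker φ)) : V) := by
  simp [det_Q0]

theorem det_Q0_conj (g : V →ₗ[K] V) (e : V) (φ : V →ₗ[K] K) (he : φ e = 1) :
    ((det_equiv e φ he : V →ₗ[K] (K × ↥(LinearMap.ker φ))) ∘ₗ det_Q0 g e φ ∘ₗ
      ((det_equiv e φ he).symm : (K × ↥(LinearMap.ker φ)) →ₗ[K] V)) =
      LinearMap.prodMap LinearMap.id (child g e φ) := by
  apply LinearMap.ext
  rintro ⟨l, w⟩
  have hw : φ (w : V) = 0 := w.2
  have h1 : (det_equiv e φ he).symm (l, w) = l • e + (w : V) := rfl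
  have hpr : prK e φ (l • e + (w : V)) = w := by
    apply Subtype.ext
    simp [he, hw]
  have hφ : φ (l • e + (w : V)) = l := by simp [he, hw]
  show det_equiv e φ he (det_Q0 g e φ ((det_equiv e φ he).symm (l, w))) = _
  rw [h1, det_Q0_apply, hpr, hφ]
  set c := child g e φ w with hc
  have hcφ : φ (c : V) = 0 := c.2
  show (φ (l • e + (c : V)), prK e φ (l • e + (c : V))) = (l, c)
  apply Prod.ext
  · simp [he, hcφ]
  · apply Subtype.ext
    simp [he, hcφ]

theorem det_Q0_eq [FiniteDimensional K V] (g : V →ₗ[K] V) (e : V) (φ : V →ₗ[K] K) (he : φ e = 1) :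
    LinearMap.det (det_Q0 g e φ) = LinearMap.det (child g e φ) := by
  rw [← LinearMap.det_conj (det_Q0 g e φ) (det_equiv e φ he), det_Q0_conj g e φ he,
    LinearMap.det_prodMap, LinearMap.det_id, one_mul]

/-- PIECE LEV-DET. -/
theorem det_child [FiniteDimensional K V] (g : V →ₗ[K] V) (e : V) (φ : V →ₗ[K] K)
    (he : φ e = 1) (hge : φ (g e) = 1) :
    LinearMap.det (child g e φ) = LinearMap.det g := by
  -- the two transvections
  set y : V →ₗ[K] K := childY g φ ∘ₗ prK e φ with hy
  have hye : y e = 0 := by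
    have : prK e φ e = 0 := by
      apply Subtype.ext
      simp
    rw [hy, LinearMap.comp_apply, this, map_zero]
  have hyv : ∀ v, y v = φ (g v) - φ v := by
    intro v
    simp only [hy, LinearMap.comp_apply, childY_apply, prK_coe, he, one_smul, map_sub, map_smul,
      smul_eq_mul, hge, mul_one]
  set R : V →ₗ[K] V := LinearMap.transvection (-y) e with hR
  set x' : V := g e - e with hx'
  have hφx' : φ x' = 0 := by rw [hx', map_sub, hge, he, sub_self]
  set L : V →ₗ[K] V := LinearMap.transvection φ x' with hL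
  have hdetR : LinearMap.det R = 1 := by
    rw [hR, LinearMap.transvection.det, LinearMap.neg_apply, hye, neg_zero, add_zero]
  have hdetL : LinearMap.det L = 1 := by
    rw [hL, LinearMap.transvection.det, hφx', add_zero]
  have hcomp : g ∘ₗ R = L ∘ₗ det_Q0 g e φ := by
    apply LinearMap.ext
    intro v
    rw [LinearMap.comp_apply, LinearMap.comp_apply, hR, hL, LinearMap.transvection.apply,
      LinearMap.transvection.apply, det_Q0_apply, child_coe' g e φ hge, prK_coe, he, one_smul]
    have hw : g (v - φ v • e) = g v - φ v • g e := by rw [map_sub, map_smul]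
    have hφw : φ (g (v - φ v • e)) = φ (g v) - φ v := by
      rw [hw, map_sub, map_smul, smul_eq_mul, hge, mul_one]
    have h1 : φ (φ v • e + (g (v - φ v • e) - φ (g (v - φ v • e)) • g e)) = φ v := by
      rw [hφw, hw]
      simp only [map_add, map_sub, map_smul, smul_eq_mul, he, hge]
      ring
    rw [h1, LinearMap.neg_apply, hyv, hx', map_add, map_smul, hφw, hw]
    module
  have h2 := congrArg LinearMap.det hcomp
  rw [LinearMap.det_comp, LinearMap.det_comp, hdetR, hdetL, mul_one, one_mul, det_Q0_eq g e φ he] at h2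
  exact h2.symm

end Cfsg.Agent.Helper18.Lev
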