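import Mathlib
import Cfsg.Agent.Lib.Helper3.LSDefs
import Cfsg.Agent.Lib.Helper3.LSDefs2

/-!
# S5286, piece LS-TORS (cores): `conj_of_fix` and `torsion`, with the statements of
`Pth_mem`, `pth_of_mem`, `pth_fix_one`, `pth_prefix`, `fix_of_pgroup` as hypotheses.
-/

set_option autoImplicit false

noncomputable section

namespace Cfsg.Agent.Helper3.LS

universe u

variable {Sg : Type u} [Group Sg] (D : Data Sg)

/-- core of `conj_of_fix`. -/
theorem ls_tors_conj_of_fix_core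
    (hmem : ∀ {g : D.W}, D.Pth g → g ∈ D.G)
    (hpth : ∀ g : D.W, g ∈ D.G → D.Pth g)
    (hfix1 : ∀ {g : D.W}, D.Pth g → g • (1 : FreeGroup D.X) = 1 → ∃ s ∈ D.S0, g = D.inS s)
    (H : Subgroup D.W) (hHG : H ≤ D.G) (v : FreeGroup D.X)
    (hv : ∀ h ∈ H, h • v = v) (k : D.W) (hk : D.Pth k) (hkv : k • (1 : FreeGroup D.X) = v) :
    ∀ h ∈ H, ∃ s ∈ D.S0, k⁻¹ * h * k = D.inS s := by
  intro h hh
  have hkG : k ∈ D.G := hmem hk
  have hg : k⁻¹ * h * k ∈ D.G := mul_mem (mul_mem (inv_mem hkG) (hHG hh)) hkG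
  apply hfix1 (hpth _ hg)
  rw [mul_smul, mul_smul, hkv, hv h hh, ← hkv, ← mul_smul, inv_mul_cancel, one_smul]

/-- the order of an element of a finite subgroup of `G` fixing a vertex on a path is a power
of `p`; here: a finite `q`-subgroup of `G` forces `q = p`, if it is non-trivial. -/
theorem ls_tors_prime_eq_core
    (hmem : ∀ {g : D.W}, D.Pth g → g ∈ D.G)
    (hpth : ∀ g : D.W, g ∈ D.G → D.Pth g)
    (hfix1 : ∀ {g : D.W}, D.Pth g → g • (1 : FreeGroup D.X) = 1 → ∃ s ∈ D.S0, g = D.inS s)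
    (hpre : ∀ {g : D.W}, D.Pth g → ∀ u : FreeGroup D.X,
      u.toWord <+: (g • (1 : FreeGroup D.X)).toWord →
      ∃ k, D.Pth k ∧ k • (1 : FreeGroup D.X) = u)
    (hfixp : ∀ (q : ℕ) [Fact q.Prime] (H : Subgroup D.W) [Finite H], IsPGroup q H →
      ∃ v : FreeGroup D.X, (∀ h ∈ H, h • v = v) ∧
        ∃ h ∈ H, v.toWord <+: (h • (1 : FreeGroup D.X)).toWord)
    (q : ℕ) [Fact q.Prime] (H : Subgroup D.W) (hHG : H ≤ D.G) [Finite H] (hq : IsPGroup q H) :
    ∃ k ∈ D.G, ∀ h ∈ H, ∃ s ∈ D.S0, k * h * k⁻¹ = D.inS s := by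
  obtain ⟨v, hv, h0, hh0, hpref⟩ := hfixp q H hq
  obtain ⟨k, hk, hkv⟩ := hpre (hpth h0 (hHG hh0)) v hpref
  refine ⟨k⁻¹, inv_mem (hmem hk), fun h hh => ?_⟩
  rw [inv_inv]
  exact ls_tors_conj_of_fix_core D hmem hpth hfix1 H hHG v hv k hk hkv h hh

/-- core of `torsion` (M3). -/
theorem ls_tors_torsion_core
    (hmem : ∀ {g : D.W}, D.Pth g → g ∈ D.G)
    (hpth : ∀ g : D.W, g ∈ D.G → D.Pth g)
    (hfix1 : ∀ {g : D.W}, D.Pth g → g • (1 : FreeGroup D.X) = 1 → ∃ s ∈ D.S0, g = D.inS s)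
    (hpre : ∀ {g : D.W}, D.Pth g → ∀ u : FreeGroup D.X,
      u.toWord <+: (g • (1 : FreeGroup D.X)).toWord →
      ∃ k, D.Pth k ∧ k • (1 : FreeGroup D.X) = u)
    (hfixp : ∀ (q : ℕ) [Fact q.Prime] (H : Subgroup D.W) [Finite H], IsPGroup q H →
      ∃ v : FreeGroup D.X, (∀ h ∈ H, h • v = v) ∧
        ∃ h ∈ H, v.toWord <+: (h • (1 : FreeGroup D.X)).toWord)
    (p : ℕ) [Fact p.Prime] (hp : IsPGroup p D.S0) (H : Subgroup D.W) (hHG : H ≤ D.G)
    [Finite H] : ∃ k ∈ D.G, ∀ h ∈ H, ∃ s ∈ D.S0, k * h * k⁻¹ = D.inS s := by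
  -- every prime divisor of `|H|` is `p`
  have hprime : ∀ {q : ℕ}, q.Prime → q ∣ Nat.card H → q = p := by
    intro q hqp hqd
    haveI : Fact q.Prime := ⟨hqp⟩
    obtain ⟨x, hx⟩ := exists_prime_orderOf_dvd_card' q hqd
    -- the cyclic subgroup generated by `x` (inside `W`)
    have hxo : orderOf (x : D.W) = q := by rw [Subgroup.orderOf_coe]; exact hx
    let C : Subgroup D.W := Subgroup.zpowers (x : D.W)
    have hCH : C ≤ H := by
      rw [Subgroup.zpowers_le]; exact x.2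
    have hCcard : Nat.card C = q := by rw [Nat.card_zpowers, hxo]
    haveI : Finite C := Nat.finite_of_card_ne_zero (by rw [hCcard]; exact hqp.ne_zero)
    have hCq : IsPGroup q C := IsPGroup.of_card (n := 1) (by rw [hCcard, pow_one])
    obtain ⟨k, hkG, hk⟩ := ls_tors_prime_eq_core D hmem hpth hfix1 hpre hfixp q C
      (hCH.trans hHG) hCq
    obtain ⟨s, hs, hsx⟩ := hk (x : D.W) (Subgroup.mem_zpowers _)
    -- the order of `s` is `q`
    have hso : orderOf s = q := by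
      rw [← orderOf_injective D.inS SemidirectProduct.inr_injective s, ← hsx]
      have := (MulAut.conj k : D.W ≃* D.W).orderOf_eq (x : D.W)
      rw [MulAut.conj_apply] at this
      rw [this, hxo]
    -- and a power of `p`
    obtain ⟨n, hn⟩ := (IsPGroup.iff_orderOf.1 hp) (⟨s, hs⟩ : D.S0)
    rw [Subgroup.orderOf_mk, hso] at hn
    have hn0 : n ≠ 0 := by
      rintro rfl
      rw [pow_zero] at hn
      exact hqp.one_lt.ne' hn
    exact ((Nat.prime_dvd_prime_iff_eq (Fact.out : p.Prime) hqp).1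
      (hn ▸ dvd_pow_self p hn0)).symm
  have hHp : IsPGroup p H :=
    IsPGroup.of_card (Nat.eq_prime_pow_of_unique_prime_dvd Nat.card_pos.ne' hprime)
  exact ls_tors_prime_eq_core D hmem hpth hfix1 hpre hfixp p H hHG hHp

end Cfsg.Agent.Helper3.LS
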