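import Mathlib
import Cfsg.Agent.Lib.Helper3.LSDefs
import Cfsg.Agent.Lib.Helper3.LSDefs2
import Cfsg.Agent.Lib.Helper3.LSPATH
import Cfsg.Agent.Lib.Helper3.LSPATHAUX
import Cfsg.Agent.Lib.Helper13.LSTORSCore

/-!
# S5286, piece LS-TORS: `conj_of_fix` (exact skeleton statement) and `torsion` with only
the statement of `fix_of_pgroup` (piece LS-FIX) as a hypothesis.
-/

set_option autoImplicit false

noncomputable section

namespace Cfsg.Agent.Helper3.LS

universe u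

variable {Sg : Type u} [Group Sg] (D : Data Sg)

theorem conj_of_fix (H : Subgroup D.W) (hHG : H ≤ D.G) (v : FreeGroup D.X)
    (hv : ∀ h ∈ H, h • v = v) (k : D.W) (hk : D.Pth k) (hkv : k • (1 : FreeGroup D.X) = v) :
    ∀ h ∈ H, ∃ s ∈ D.S0, k⁻¹ * h * k = D.inS s :=
  ls_tors_conj_of_fix_core D (fun h => Pth_mem D h) (pth_of_mem D) (fun h h1 => pth_fix_one D h h1)
    H hHG v hv k hk hkv

/-- (M3), with the statement of `fix_of_pgroup` as a hypothesis. -/
theorem ls_tors_torsion_of_fix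
    (hfixp : ∀ (q : ℕ) [Fact q.Prime] (H : Subgroup D.W) [Finite H], IsPGroup q H →
      ∃ v : FreeGroup D.X, (∀ h ∈ H, h • v = v) ∧
        ∃ h ∈ H, v.toWord <+: (h • (1 : FreeGroup D.X)).toWord)
    (p : ℕ) [Fact p.Prime] (hp : IsPGroup p D.S0) (H : Subgroup D.W) (hHG : H ≤ D.G)
    [Finite H] : ∃ k ∈ D.G, ∀ h ∈ H, ∃ s ∈ D.S0, k * h * k⁻¹ = D.inS s :=
  ls_tors_torsion_core D (fun h => Pth_mem D h) (pth_of_mem D) (fun h h1 => pth_fix_one D h h1)
    (fun h u hu => pth_prefix D h u hu) hfixp p hp H hHG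

end Cfsg.Agent.Helper3.LS
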