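import Mathlib
import Cfsg.Agent.Lib.Helper13.LSTORS1
import Cfsg.Agent.Lib.Helper14.LSFIX

/-!
# S5286, piece LS-TORS: `torsion` (M3), exact skeleton statement.
-/

set_option autoImplicit false

noncomputable section

namespace Cfsg.Agent.Helper3.LS

universe u

variable {Sg : Type u} [Group Sg] (D : Data Sg)

/-- (M3) -/
theorem torsion (p : ℕ) [Fact p.Prime] (hp : IsPGroup p D.S0) (H : Subgroup D.W) (hHG : H ≤ D.G)
    [Finite H] : ∃ k ∈ D.G, ∀ h ∈ H, ∃ s ∈ D.S0, k * h * k⁻¹ = D.inS s :=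
  ls_tors_torsion_of_fix D (fun q _ H _ hq => fix_of_pgroup D q H hq) p hp H hHG

end Cfsg.Agent.Helper3.LS
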