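import Mathlib
import Cfsg.Agent.Lib.Helper13.BlockAssign

set_option autoImplicit false
set_option linter.style.haveILetI false
set_option linter.unusedSectionVars false
set_option linter.unusedVariables false

namespace Cfsg.Agent.Helper13.Elus

open Module

section blockSpan

variable {F : Type*} [Field F] {V : Type*} [AddCommGroup V] [Module F V]
variable {I : Type*}

/-- the span of the basis vectors of block `j`. -/
def blockSpan (b : Basis I F V) (β : I → ℕ) (j : ℕ) : Submodule F V :=
  Submodule.span F (b '' {i | β i = j})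

theorem finrank_blockSpan [Fintype I] [DecidableEq I] (b : Basis I F V) (β : I → ℕ) (j : ℕ) :
    finrank F ↥(blockSpan b β j) = (Finset.univ.filter (fun i => β i = j)).card := by
  have hli : LinearIndependent F (fun x : {i : I // β i = j} => b x.1) :=
    b.linearIndependent.comp _ Subtype.val_injective
  have himg : b '' {i | β i = j} = Set.range (fun x : {i : I // β i = j} => b x.1) := by
    ext v
    constructor
    · rintro ⟨x, hx, rfl⟩
      exact ⟨⟨x, hx⟩, rfl⟩
    · rintro ⟨⟨x, hx⟩, rfl⟩
      exact ⟨x, hx, rfl⟩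
  unfold blockSpan
  rw [himg, finrank_span_eq_card hli, Fintype.card_subtype]

theorem iSupIndep_blockSpan (b : Basis I F V) (β : I → ℕ) (t : ℕ) :
    iSupIndep (fun j : Fin t => blockSpan b β (j : ℕ)) := by
  intro j
  have h1 : (⨆ (j' : Fin t) (_ : j' ≠ j), blockSpan b β (j' : ℕ)) ≤
      Submodule.span F (b '' {i | β i ≠ (j : ℕ)}) := by
    apply iSup₂_le
    intro j' hj'
    apply Submodule.span_mono
    apply Set.image_mono
    intro i hi
    simp only [Set.mem_ofPred_eq] at hi ⊢
    rw [hi]
    exact fun h => hj' (Fin.ext h)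
  refine Disjoint.mono_right h1 ?_
  apply b.linearIndependent.disjoint_span_image
  rw [Set.disjoint_left]
  intro i hi hi'
  exact hi' hi

theorem iSup_blockSpan (b : Basis I F V) (β : I → ℕ) (t : ℕ) (h : ∀ i, β i < t) :
    (⨆ j : Fin t, blockSpan b β (j : ℕ)) = ⊤ := by
  rw [eq_top_iff, ← b.span_eq, Submodule.span_le]
  rintro _ ⟨i, rfl⟩
  have h1 : b i ∈ blockSpan b β ((⟨β i, h i⟩ : Fin t) : ℕ) :=
    Submodule.subset_span ⟨i, rfl, rfl⟩
  exact (le_iSup (fun j : Fin t => blockSpan b β (j : ℕ)) ⟨β i, h i⟩) h1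

theorem map_blockSpan_le (f : Module.End F V) (b : Basis I F V) (β : I → ℕ) (σ : ℕ → ℕ)
    (π : I → I) (hfb : ∀ i, f (b i) ∈ Submodule.span F {b (π i)})
    (hβ : ∀ i, β (π i) = σ (β i)) (j : ℕ) :
    (blockSpan b β j).map f ≤ blockSpan b β (σ j) := by
  unfold blockSpan
  rw [Submodule.map_span_le]
  rintro _ ⟨i, hi, rfl⟩
  have h1 : Submodule.span F {b (π i)} ≤ Submodule.span F (b '' {i | β i = σ j}) := by
    apply Submodule.span_mono
    rw [Set.singleton_subset_iff]
    refine ⟨π i, ?_, rfl⟩
    simp only [Set.mem_ofPred_eq] at hi ⊢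
    rw [hβ, hi]
  exact h1 (hfb i)

end blockSpan

section monomial

variable {F : Type*} [Field F] {V : Type*} [AddCommGroup V] [Module F V] [FiniteDimensional F V]

/-- a map which is monomial with respect to a basis, with underlying permutation an
involution, stabilizes a decomposition into `t` blocks of dimension `a`. -/
theorem exists_decomp_of_monomial (n a t : ℕ) (hat : n = a * t) (ha : 1 ≤ a)
    (hn : finrank F V = n) (f : Module.End F V) (hf : Function.Injective f)
    (I : Type) [Fintype I] (π : I → I) (hπ : ∀ i, π (π i) = i) (b : Basis I F V)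
    (hfb : ∀ i, f (b i) ∈ Submodule.span F {b (π i)}) :
    ∃ D : Fin t → Submodule F V, (∀ j, finrank F (D j) = a) ∧ iSupIndep D ∧ iSup D = ⊤ ∧
      ∃ σ : Equiv.Perm (Fin t), ∀ j, (D j).map f = D (σ j) := by
  classical
  have hcardI : Fintype.card I = n := by rw [← hn, Module.finrank_eq_card_basis b]
  let e : I ≃ Fin n := Fintype.equivFinOfCardEq hcardI
  let b' : Basis (Fin n) F V := b.reindex e
  let π' : Fin n → Fin n := fun i => e (π (e.symm i))
  have hπ' : ∀ i, π' (π' i) = i := by
    intro i
    simp only [π', Equiv.symm_apply_apply, hπ, Equiv.apply_symm_apply]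
  have hfb' : ∀ i, f (b' i) ∈ Submodule.span F {b' (π' i)} := by
    intro i
    simp only [b', π', Basis.reindex_apply, Equiv.symm_apply_apply]
    exact hfb _
  obtain ⟨β, σ₀, h1, h2, h3, h4, h5⟩ := exists_blockAssign a ha π' hπ' t Finset.univ
    (fun i _ => Finset.mem_univ _) (by rw [Finset.card_univ, Fintype.card_fin, hat])
  have hD1 : ∀ j : Fin t, finrank F ↥(blockSpan b' β (j : ℕ)) = a := by
    intro j
    rw [finrank_blockSpan, h2 j j.2]
  let σ : Equiv.Perm (Fin t) :=
    { toFun := fun j => ⟨σ₀ j, h3 j j.2⟩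
      invFun := fun j => ⟨σ₀ j, h3 j j.2⟩
      left_inv := fun j => Fin.ext (h4 j j.2)
      right_inv := fun j => Fin.ext (h4 j j.2) }
  refine ⟨fun j => blockSpan b' β (j : ℕ), hD1, iSupIndep_blockSpan b' β t,
    iSup_blockSpan b' β t (fun i => h1 i (Finset.mem_univ _)), σ, ?_⟩
  intro j
  have hle := map_blockSpan_le f b' β σ₀ π' hfb' (fun i => h5 i (Finset.mem_univ _)) (j : ℕ)
  apply Submodule.eq_of_le_of_finrank_eq hle
  have h6 : finrank F ↥((blockSpan b' β (j : ℕ)).map f) = finrank F ↥(blockSpan b' β (j : ℕ)) :=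
    (Submodule.equivMapOfInjective f hf _).symm.finrank_eq
  rw [h6, hD1 j]
  exact (hD1 (σ j)).symm

end monomial

end Cfsg.Agent.Helper13.Elus
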