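import Mathlib

/-!
# Symplectic frames adapted to an isometry (helper13)

Generic peeling induction: a nondegenerate alternating space with an endomorphism `g` has a
symplectic basis made of hyperbolic pairs which are permuted by `g` in a prescribed way, as soon
as every nonzero invariant nondegenerate subspace contains one or two such pairs.
-/

set_option autoImplicit false
set_option linter.style.haveILetI false
set_option linter.unusedSectionVars false
set_option linter.unusedVariables false

namespace Cfsg.Agent.Helper13.SympFrame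

open Module

variable {F : Type*} [Field F] {V : Type*} [AddCommGroup V] [Module F V]

section basic

variable (B : LinearMap.BilinForm F V)

theorem skew (hB : ∀ x, B x x = 0) (x y : V) : B x y = - B y x := by
  have h := hB (x + y)
  simp only [map_add, LinearMap.add_apply, hB, zero_add, add_zero] at h
  exact eq_neg_of_add_eq_zero_right h

/-- nondegeneracy of the restriction to a submodule -/
def NondegOn (N : Submodule F V) : Prop := ∀ u ∈ N, (∀ v ∈ N, B u v = 0) → u = 0

/-- orthogonal complement of the plane `⟨x, y⟩` inside `N` -/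
def perp2 (N : Submodule F V) (x y : V) : Submodule F V :=
  N ⊓ (LinearMap.ker (B x) ⊓ LinearMap.ker (B y))

theorem mem_perp2 {N : Submodule F V} {x y w : V} :
    w ∈ perp2 B N x y ↔ w ∈ N ∧ B x w = 0 ∧ B y w = 0 := by
  simp only [perp2, Submodule.mem_inf, LinearMap.mem_ker]

theorem perp2_le (N : Submodule F V) (x y : V) : perp2 B N x y ≤ N := inf_le_left

theorem decomp (hB : ∀ x, B x x = 0) {N : Submodule F V} {x y : V} (hx : x ∈ N) (hy : y ∈ N)
    (hxy : B x y = 1) {n : V} (hn : n ∈ N) :
    ∃ a b : F, ∃ n' ∈ perp2 B N x y, n = a • x + b • y + n' := by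
  have hyx : B y x = -1 := by rw [skew B hB, hxy]
  refine ⟨B n y, - B n x, n - (B n y) • x + (B n x) • y, ?_, ?_⟩
  · rw [mem_perp2]
    refine ⟨N.add_mem (N.sub_mem hn (N.smul_mem _ hx)) (N.smul_mem _ hy), ?_, ?_⟩
    · simp only [map_add, map_sub, map_smul, smul_eq_mul, hB, hxy, mul_zero, sub_zero, mul_one]
      rw [skew B hB x n]; ring
    · simp only [map_add, map_sub, map_smul, smul_eq_mul, hB, hyx, mul_zero, add_zero]
      rw [skew B hB y n]; ring
  · module

theorem nondegOn_perp2 (hB : ∀ x, B x x = 0) {N : Submodule F V} (hN : NondegOn B N) {x y : V}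
    (hx : x ∈ N) (hy : y ∈ N) (hxy : B x y = 1) : NondegOn B (perp2 B N x y) := by
  intro u hu h
  obtain ⟨huN, hxu, hyu⟩ := (mem_perp2 B).1 hu
  apply hN u huN
  intro n hn
  obtain ⟨a, b, n', hn', rfl⟩ := decomp B hB hx hy hxy hn
  simp only [map_add, map_smul, smul_eq_mul]
  rw [h n' hn', skew B hB u x, skew B hB u y, hxu, hyu]
  ring

theorem perp2_lt (hB : ∀ x, B x x = 0) {N : Submodule F V} {x y : V}
    (hx : x ∈ N) (hxy : B x y = 1) : perp2 B N x y < N := by
  refine lt_of_le_of_ne (perp2_le B N x y) ?_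
  intro h
  have hx' : x ∈ perp2 B N x y := by rw [h]; exact hx
  have := ((mem_perp2 B).1 hx').2.2
  rw [skew B hB, hxy] at this
  simp at this

theorem eq_zero_of_span {s t : Set V} (h : ∀ a ∈ s, ∀ b ∈ t, B a b = 0) :
    ∀ u ∈ Submodule.span F s, ∀ v ∈ Submodule.span F t, B u v = 0 := by
  intro u hu v hv
  induction hu using Submodule.span_induction with
  | mem a ha =>
    induction hv using Submodule.span_induction with
    | mem b hb => exact h a ha b hb
    | zero => simp
    | add p q _ _ hp hq => rw [map_add, hp, hq, add_zero]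
    | smul c p _ hp => rw [map_smul, hp, smul_zero]
  | zero => simp
  | add p q _ _ hp hq => rw [map_add, LinearMap.add_apply, hp, hq, add_zero]
  | smul c p _ hp => rw [map_smul, LinearMap.smul_apply, hp, smul_zero]

end basic

section frame

variable (B : LinearMap.BilinForm F V)

/-- `e, f` is a symplectic basis of `N`. -/
structure IsFrame (N : Submodule F V) {I : Type*} (e f : I → V) : Prop where
  ef_self : ∀ i, B (e i) (f i) = 1
  ef_ne : ∀ i j, i ≠ j → B (e i) (f j) = 0
  ee : ∀ i j, B (e i) (e j) = 0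
  ff : ∀ i j, B (f i) (f j) = 0
  e_mem : ∀ i, e i ∈ N
  f_mem : ∀ i, f i ∈ N
  le_span : N ≤ Submodule.span F (Set.range e ∪ Set.range f)

theorem IsFrame.fe_self (hB : ∀ x, B x x = 0) {N : Submodule F V} {I : Type*} {e f : I → V}
    (h : IsFrame B N e f) (i : I) : B (f i) (e i) = -1 := by
  rw [skew B hB, h.ef_self]

theorem IsFrame.fe_ne (hB : ∀ x, B x x = 0) {N : Submodule F V} {I : Type*} {e f : I → V}
    (h : IsFrame B N e f) (i j : I) (hij : i ≠ j) : B (f i) (e j) = 0 := by
  rw [skew B hB, h.ef_ne j i hij.symm, neg_zero]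

theorem IsFrame.span_eq {N : Submodule F V} {I : Type*} {e f : I → V}
    (h : IsFrame B N e f) : Submodule.span F (Set.range e ∪ Set.range f) = N := by
  apply le_antisymm _ h.le_span
  rw [Submodule.span_le]
  rintro _ (⟨i, rfl⟩ | ⟨i, rfl⟩)
  · exact h.e_mem i
  · exact h.f_mem i

theorem isFrame_bot : IsFrame B (⊥ : Submodule F V) (fun i : Empty => i.elim)
    (fun i : Empty => i.elim) :=
  ⟨fun i => i.elim, fun i => i.elim, fun i => i.elim, fun i => i.elim, fun i => i.elim,
    fun i => i.elim, bot_le⟩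

theorem IsFrame.cons (hB : ∀ x, B x x = 0) {N : Submodule F V} {x y : V} (hx : x ∈ N)
    (hy : y ∈ N) (hxy : B x y = 1) {I : Type*} {e f : I → V}
    (h : IsFrame B (perp2 B N x y) e f) :
    IsFrame B N (fun o : Option I => o.elim x e) (fun o : Option I => o.elim y f) := by
  have hxe : ∀ i, B x (e i) = 0 := fun i => ((mem_perp2 B).1 (h.e_mem i)).2.1
  have hye : ∀ i, B y (e i) = 0 := fun i => ((mem_perp2 B).1 (h.e_mem i)).2.2
  have hxf : ∀ i, B x (f i) = 0 := fun i => ((mem_perp2 B).1 (h.f_mem i)).2.1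
  have hyf : ∀ i, B y (f i) = 0 := fun i => ((mem_perp2 B).1 (h.f_mem i)).2.2
  have hex : ∀ i, B (e i) x = 0 := fun i => by rw [skew B hB, hxe, neg_zero]
  have hey : ∀ i, B (e i) y = 0 := fun i => by rw [skew B hB, hye, neg_zero]
  have hfx : ∀ i, B (f i) x = 0 := fun i => by rw [skew B hB, hxf, neg_zero]
  have hfy : ∀ i, B (f i) y = 0 := fun i => by rw [skew B hB, hyf, neg_zero]
  refine ⟨?_, ?_, ?_, ?_, ?_, ?_, ?_⟩
  · rintro (_ | i)
    · exact hxy
    · exact h.ef_self i
  · rintro (_ | i) (_ | j) hij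
    · exact absurd rfl hij
    · exact hxf j
    · exact hey i
    · exact h.ef_ne i j (fun h => hij (by rw [h]))
  · rintro (_ | i) (_ | j)
    · exact hB x
    · exact hxe j
    · exact hex i
    · exact h.ee i j
  · rintro (_ | i) (_ | j)
    · exact hB y
    · exact hyf j
    · exact hfy i
    · exact h.ff i j
  · rintro (_ | i)
    · exact hx
    · exact perp2_le B N x y (h.e_mem i)
  · rintro (_ | i)
    · exact hy
    · exact perp2_le B N x y (h.f_mem i)
  · intro n hn
    obtain ⟨a, b, n', hn', rfl⟩ := decomp B hB hx hy hxy hn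
    have hxs : x ∈ Submodule.span F (Set.range (fun o : Option I => o.elim x e) ∪
        Set.range (fun o : Option I => o.elim y f)) :=
      Submodule.subset_span (Or.inl ⟨none, rfl⟩)
    have hys : y ∈ Submodule.span F (Set.range (fun o : Option I => o.elim x e) ∪
        Set.range (fun o : Option I => o.elim y f)) :=
      Submodule.subset_span (Or.inr ⟨none, rfl⟩)
    have hle : Submodule.span F (Set.range e ∪ Set.range f) ≤
        Submodule.span F (Set.range (fun o : Option I => o.elim x e) ∪
        Set.range (fun o : Option I => o.elim y f)) := by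
      apply Submodule.span_mono
      rintro _ (⟨i, rfl⟩ | ⟨i, rfl⟩)
      · exact Or.inl ⟨some i, rfl⟩
      · exact Or.inr ⟨some i, rfl⟩
    exact Submodule.add_mem _ (Submodule.add_mem _ (Submodule.smul_mem _ _ hxs)
      (Submodule.smul_mem _ _ hys)) (hle (h.le_span hn'))

/-- the symplectic basis as a linearly independent family -/
theorem IsFrame.linearIndependent (hB : ∀ x, B x x = 0) {N : Submodule F V} {I : Type*}
    [Fintype I] {e f : I → V} (h : IsFrame B N e f) :
    LinearIndependent F (Sum.elim e f) := by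
  classical
  rw [Fintype.linearIndependent_iff]
  intro c hc
  rw [Fintype.sum_sum_type] at hc
  simp only [Sum.elim_inl, Sum.elim_inr] at hc
  have key1 : ∀ j, c (Sum.inl j) = 0 := by
    intro j
    have h1 := congrArg (fun v => B v (f j)) hc
    simp only [map_add, map_sum, map_smul, LinearMap.add_apply, LinearMap.sum_apply,
      LinearMap.smul_apply, smul_eq_mul, map_zero, LinearMap.zero_apply, h.ff, mul_zero,
      Finset.sum_const_zero, add_zero] at h1
    rw [Finset.sum_eq_single j (fun i _ hij => by rw [h.ef_ne i j hij, mul_zero])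
      (fun hj => absurd (Finset.mem_univ j) hj), h.ef_self, mul_one] at h1
    exact h1
  have key2 : ∀ j, c (Sum.inr j) = 0 := by
    intro j
    have h1 := congrArg (fun v => B v (e j)) hc
    simp only [map_add, map_sum, map_smul, LinearMap.add_apply, LinearMap.sum_apply,
      LinearMap.smul_apply, smul_eq_mul, map_zero, LinearMap.zero_apply, h.ee, mul_zero,
      Finset.sum_const_zero, zero_add] at h1
    rw [Finset.sum_eq_single j (fun i _ hij => by rw [h.fe_ne B hB i j hij, mul_zero])
      (fun hj => absurd (Finset.mem_univ j) hj), h.fe_self B hB, mul_neg, mul_one,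
      neg_eq_zero] at h1
    exact h1
  rintro (j | j)
  · exact key1 j
  · exact key2 j

theorem IsFrame.range_sum_elim {I : Type*} (e f : I → V) :
    Set.range (Sum.elim e f) = Set.range e ∪ Set.range f := Set.Sum.elim_range e f

/-- the symplectic basis as a basis -/
noncomputable def IsFrame.basis (hB : ∀ x, B x x = 0) {I : Type*}
    [Fintype I] {e f : I → V} (h : IsFrame B (⊤ : Submodule F V) e f) :
    Basis (I ⊕ I) F V :=
  Basis.mk (h.linearIndependent B hB) (by
    rw [Set.Sum.elim_range]
    exact h.le_span)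

theorem IsFrame.basis_inl (hB : ∀ x, B x x = 0) {I : Type*}
    [Fintype I] {e f : I → V} (h : IsFrame B (⊤ : Submodule F V) e f) (i : I) :
    h.basis B hB (Sum.inl i) = e i := by
  rw [IsFrame.basis, Basis.mk_apply, Sum.elim_inl]

theorem IsFrame.basis_inr (hB : ∀ x, B x x = 0) {I : Type*}
    [Fintype I] {e f : I → V} (h : IsFrame B (⊤ : Submodule F V) e f) (i : I) :
    h.basis B hB (Sum.inr i) = f i := by
  rw [IsFrame.basis, Basis.mk_apply, Sum.elim_inr]

theorem IsFrame.two_mul_card (hB : ∀ x, B x x = 0) {I : Type*}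
    [Fintype I] {e f : I → V} (h : IsFrame B (⊤ : Submodule F V) e f) :
    finrank F V = 2 * Fintype.card I := by
  rw [Module.finrank_eq_card_basis (h.basis B hB), Fintype.card_sum, two_mul]

end frame

section generic

variable (B : LinearMap.BilinForm F V)

/-- a symplectic frame of `N` whose hyperbolic pairs are related by `R` along an involution. -/
def HasFrame (R : V → V → V → V → Prop) (N : Submodule F V) : Prop :=
  ∃ (I : Type) (_ : Fintype I) (e f : I → V) (π : I → I),
    IsFrame B N e f ∧ (∀ i, π (π i) = i) ∧ ∀ i, R (e i) (f i) (e (π i)) (f (π i))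

theorem HasFrame.cons1 (hB : ∀ x, B x x = 0) (R : V → V → V → V → Prop) {N : Submodule F V}
    {x y : V} (hx : x ∈ N) (hy : y ∈ N) (hxy : B x y = 1) (hR : R x y x y)
    (h : HasFrame B R (perp2 B N x y)) : HasFrame B R N := by
  obtain ⟨I, hI, e, f, π, hfr, hπ, hRe⟩ := h
  refine ⟨Option I, inferInstance, fun o => o.elim x e, fun o => o.elim y f, Option.map π,
    hfr.cons B hB hx hy hxy, ?_, ?_⟩
  · rintro (_ | i)
    · rfl
    · simp only [Option.map_some, hπ]
  · rintro (_ | i)
    · exact hR
    · exact hRe i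

theorem HasFrame.cons2 (hB : ∀ x, B x x = 0) (R : V → V → V → V → Prop) {N : Submodule F V}
    {x y x' y' : V} (hx : x ∈ N) (hy : y ∈ N) (hxy : B x y = 1)
    (hx' : x' ∈ perp2 B N x y) (hy' : y' ∈ perp2 B N x y) (hxy' : B x' y' = 1)
    (hR : R x y x' y') (hR' : R x' y' x y)
    (h : HasFrame B R (perp2 B (perp2 B N x y) x' y')) : HasFrame B R N := by
  obtain ⟨I, hI, e, f, π, hfr, hπ, hRe⟩ := h
  have h1 := hfr.cons B hB hx' hy' hxy'
  have h2 := h1.cons B hB hx hy hxy
  let π' : Option (Option I) → Option (Option I) := fun o =>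
    match o with
    | none => some none
    | some none => none
    | some (some i) => some (some (π i))
  refine ⟨Option (Option I), inferInstance, _, _, π', h2, ?_, ?_⟩
  · rintro (_ | _ | i)
    · rfl
    · rfl
    · simp only [π', hπ]
  · rintro (_ | _ | i)
    · exact hR
    · exact hR'
    · exact hRe i

/-- Generic peeling induction. -/
theorem hasFrame_of_step [FiniteDimensional F V] (hB : ∀ x, B x x = 0) (g : V →ₗ[F] V)
    (R : V → V → V → V → Prop)
    (step : ∀ N : Submodule F V, N ≠ ⊥ → (∀ n ∈ N, g n ∈ N) → NondegOn B N →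
      (∃ x ∈ N, ∃ y ∈ N, B x y = 1 ∧ (∀ w ∈ perp2 B N x y, g w ∈ perp2 B N x y) ∧ R x y x y) ∨
      (∃ x ∈ N, ∃ y ∈ N, ∃ x' ∈ perp2 B N x y, ∃ y' ∈ perp2 B N x y, B x y = 1 ∧ B x' y' = 1 ∧
        (∀ w ∈ perp2 B (perp2 B N x y) x' y', g w ∈ perp2 B (perp2 B N x y) x' y') ∧
        R x y x' y' ∧ R x' y' x y)) :
    ∀ N : Submodule F V, (∀ n ∈ N, g n ∈ N) → NondegOn B N → HasFrame B R N := by
  intro N
  induction hk : finrank F N using Nat.strong_induction_on generalizing N with
  | _ k ih =>
    intro hgN hN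
    by_cases hbot : N = ⊥
    · subst hbot
      exact ⟨Empty, inferInstance, _, _, id, isFrame_bot B, fun i => i.elim, fun i => i.elim⟩
    rcases step N hbot hgN hN with ⟨x, hx, y, hy, hxy, hinv, hR⟩ |
      ⟨x, hx, y, hy, x', hx', y', hy', hxy, hxy', hinv, hR, hR'⟩
    · have hlt := Submodule.finrank_lt_finrank_of_lt (perp2_lt B hB hx hxy)
      have := ih _ (by rw [← hk]; exact hlt) (perp2 B N x y) rfl hinv
        (nondegOn_perp2 B hB hN hx hy hxy)
      exact HasFrame.cons1 B hB R hx hy hxy hR this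
    · have hlt1 := Submodule.finrank_lt_finrank_of_lt (perp2_lt B hB hx hxy)
      have hlt2 := Submodule.finrank_lt_finrank_of_lt
        (perp2_lt B hB (N := perp2 B N x y) hx' hxy')
      have hnd1 := nondegOn_perp2 B hB hN hx hy hxy
      have := ih _ (by rw [← hk]; exact hlt2.trans hlt1) (perp2 B (perp2 B N x y) x' y') rfl hinv
        (nondegOn_perp2 B hB hnd1 hx' hy' hxy')
      exact HasFrame.cons2 B hB R hx hy hxy hx' hy' hxy' hR hR' this

end generic

section invariance

variable (B : LinearMap.BilinForm F V)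

/-- the orthogonal complement of an invariant hyperbolic plane is invariant -/
theorem perp2_invariant (g : V →ₗ[F] V) (hg : ∀ u v, B (g u) (g v) = B u v) (ε : F) (hε : ε ≠ 0)
    (hgg : ∀ v, g (g v) = ε • v) {N : Submodule F V} (hgN : ∀ n ∈ N, g n ∈ N) {x y : V}
    (hgx : g x ∈ Submodule.span F {x, y}) (hgy : g y ∈ Submodule.span F {x, y}) :
    ∀ w ∈ perp2 B N x y, g w ∈ perp2 B N x y := by
  intro w hw
  obtain ⟨hwN, hxw, hyw⟩ := (mem_perp2 B).1 hw
  have key : ∀ z, B z (g w) = ε⁻¹ * B (g z) w := by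
    intro z
    have : z = ε⁻¹ • g (g z) := by rw [hgg, smul_smul, inv_mul_cancel₀ hε, one_smul]
    conv_lhs => rw [this]
    rw [← map_smul, hg, map_smul, LinearMap.smul_apply, smul_eq_mul]
  rw [mem_perp2]
  refine ⟨hgN w hwN, ?_, ?_⟩
  · obtain ⟨a, b, hab⟩ := Submodule.mem_span_pair.1 hgx
    rw [key, ← hab, map_add, map_smul, map_smul, LinearMap.add_apply, LinearMap.smul_apply,
      LinearMap.smul_apply, hxw, hyw]
    simp
  · obtain ⟨a, b, hab⟩ := Submodule.mem_span_pair.1 hgy
    rw [key, ← hab, map_add, map_smul, map_smul, LinearMap.add_apply, LinearMap.smul_apply,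
      LinearMap.smul_apply, hxw, hyw]
    simp

/-- the orthogonal complement of a pair of swapped hyperbolic planes is invariant -/
theorem perp2_perp2_invariant (g : V →ₗ[F] V) (hg : ∀ u v, B (g u) (g v) = B u v) (ε : F)
    (hε : ε ≠ 0) (hgg : ∀ v, g (g v) = ε • v) {N : Submodule F V} (hgN : ∀ n ∈ N, g n ∈ N)
    (x y : V) :
    ∀ w ∈ perp2 B (perp2 B N x y) (g x) (g y), g w ∈ perp2 B (perp2 B N x y) (g x) (g y) := by
  intro w hw
  obtain ⟨hw1, hgxw, hgyw⟩ := (mem_perp2 B).1 hw
  obtain ⟨hwN, hxw, hyw⟩ := (mem_perp2 B).1 hw1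
  have key : ∀ z, B z (g w) = ε⁻¹ * B (g z) w := by
    intro z
    have : z = ε⁻¹ • g (g z) := by rw [hgg, smul_smul, inv_mul_cancel₀ hε, one_smul]
    conv_lhs => rw [this]
    rw [← map_smul, hg, map_smul, LinearMap.smul_apply, smul_eq_mul]
  rw [mem_perp2, mem_perp2]
  refine ⟨⟨hgN w hwN, ?_, ?_⟩, ?_, ?_⟩
  · rw [key, hgxw, mul_zero]
  · rw [key, hgyw, mul_zero]
  · rw [hg, hxw]
  · rw [hg, hyw]

end invariance

end Cfsg.Agent.Helper13.SympFrame
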