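import Mathlib
import Cfsg.Agent.Lib.Helper13.SympFrame
import Cfsg.Agent.Lib.Helper13.MonomialDecomp

/-!
# Symplectic frames adapted to an isometry whose square is a scalar (helper13)
-/

set_option autoImplicit false
set_option linter.style.haveILetI false
set_option linter.unusedSectionVars false
set_option linter.unusedVariables false

namespace Cfsg.Agent.Helper13.SympFrame

open Module

variable {F : Type*} [Field F] {V : Type*} [AddCommGroup V] [Module F V]

section steps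

variable (B : LinearMap.BilinForm F V)

theorem exists_pairing {N : Submodule F V} (hN : NondegOn B N) {x : V} (hx : x ∈ N)
    (hx0 : x ≠ 0) : ∃ y ∈ N, B x y ≠ 0 := by
  by_contra h
  push Not at h
  exact hx0 (hN x hx h)

/-- `g ^ 2 = 1`, odd characteristic: a hyperbolic pair of eigenvectors. -/
theorem step_L1 (hB : ∀ x, B x x = 0) (h2 : (2 : F) ≠ 0) (g : V →ₗ[F] V)
    (hg : ∀ u v, B (g u) (g v) = B u v) (hgg : ∀ v, g (g v) = v) {N : Submodule F V}
    (hbot : N ≠ ⊥) (hgN : ∀ n ∈ N, g n ∈ N) (hN : NondegOn B N) :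
    ∃ x ∈ N, ∃ y ∈ N, B x y = 1 ∧ g x ∈ Submodule.span F {x} ∧ g y ∈ Submodule.span F {y} := by
  obtain ⟨n, hn, hn0⟩ := Submodule.exists_mem_ne_zero_of_ne_bot hbot
  have hx : ∃ x ∈ N, x ≠ 0 ∧ ∃ l : F, l * l = 1 ∧ g x = l • x := by
    by_cases h : g n + n = 0
    · refine ⟨n, hn, hn0, -1, by ring, ?_⟩
      rw [neg_smul, one_smul]
      exact eq_neg_of_add_eq_zero_left h
    · refine ⟨g n + n, N.add_mem (hgN n hn) hn, h, 1, by ring, ?_⟩
      rw [map_add, hgg, one_smul, add_comm]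
  obtain ⟨x, hxN, hx0, l, hl, hgx⟩ := hx
  obtain ⟨y0, hy0N, hy0⟩ := exists_pairing B hN hxN hx0
  set y1 := y0 + l • g y0 with hy1
  have hy1N : y1 ∈ N := N.add_mem hy0N (N.smul_mem _ (hgN y0 hy0N))
  have hgy1 : g y1 = l • y1 := by
    rw [hy1, map_add, map_smul, hgg, smul_add, smul_smul, hl, one_smul, add_comm]
  have hxgy0 : B x (g y0) = l * B x y0 := by
    have : B (g x) (g (g y0)) = B x (g y0) := hg x (g y0)
    rw [← this, hgg, hgx, map_smul, LinearMap.smul_apply, smul_eq_mul]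
  have hxy1 : B x y1 = 2 * B x y0 := by
    rw [hy1, map_add, map_smul, hxgy0, smul_eq_mul, ← mul_assoc, hl]
    ring
  have hne : B x y1 ≠ 0 := by
    rw [hxy1]
    exact mul_ne_zero h2 hy0
  refine ⟨x, hxN, (B x y1)⁻¹ • y1, N.smul_mem _ hy1N, ?_, ?_, ?_⟩
  · rw [map_smul, smul_eq_mul, inv_mul_cancel₀ hne]
  · rw [hgx]
    exact Submodule.smul_mem _ _ (Submodule.mem_span_singleton_self x)
  · rw [map_smul, hgy1, smul_comm]
    exact Submodule.smul_mem _ _ (Submodule.mem_span_singleton_self _)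

/-- `g ^ 2 = -1`, odd characteristic: a hyperbolic pair swapped by `g`. -/
theorem step_L2 (hB : ∀ x, B x x = 0) (h2 : (2 : F) ≠ 0) (g : V →ₗ[F] V)
    (hg : ∀ u v, B (g u) (g v) = B u v) (hgg : ∀ v, g (g v) = -v) {N : Submodule F V}
    (hbot : N ≠ ⊥) (hgN : ∀ n ∈ N, g n ∈ N) (hN : NondegOn B N) :
    ∃ x ∈ N, ∃ y ∈ N, B x y = 1 ∧ g x ∈ Submodule.span F {y} ∧ g y ∈ Submodule.span F {x} := by
  obtain ⟨n, hn, hn0⟩ := Submodule.exists_mem_ne_zero_of_ne_bot hbot
  have hex : ∃ x ∈ N, B x (g x) ≠ 0 := by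
    by_contra hcon
    push Not at hcon
    apply hn0
    apply hN n hn
    intro w hw
    -- w = g v with v = - g w
    set v := - g w with hv
    have hvN : v ∈ N := N.neg_mem (hgN w hw)
    have hgv : g v = w := by rw [hv, map_neg, hgg, neg_neg]
    have h1 := hcon (n + v) (N.add_mem hn hvN)
    simp only [map_add, LinearMap.add_apply, hcon n hn, hcon v hvN, zero_add, add_zero] at h1
    have h3 : B v (g n) = B n (g v) := by
      have : B (g v) (g (g n)) = B v (g n) := hg v (g n)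
      rw [← this, hgg, map_neg, skew B hB (g v) n, neg_neg]
    rw [h3, ← two_mul] at h1
    rw [← hgv]
    exact (mul_eq_zero.1 h1).resolve_left h2
  obtain ⟨x, hxN, hc⟩ := hex
  set c := B x (g x) with hcdef
  refine ⟨x, hxN, c⁻¹ • g x, N.smul_mem _ (hgN x hxN), ?_, ?_, ?_⟩
  · rw [map_smul, smul_eq_mul, inv_mul_cancel₀ hc]
  · refine Submodule.mem_span_singleton.2 ⟨c, ?_⟩
    rw [smul_smul, mul_inv_cancel₀ hc, one_smul]
  · rw [map_smul, hgg]
    exact Submodule.smul_mem _ _ (Submodule.neg_mem _ (Submodule.mem_span_singleton_self _))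

/-- characteristic two, `g ^ 2 = 1`: one invariant hyperbolic plane or two swapped ones. -/
theorem step_P2 (hB : ∀ x, B x x = 0) (h2 : (2 : F) = 0) (g : V →ₗ[F] V)
    (hg : ∀ u v, B (g u) (g v) = B u v) (hgg : ∀ v, g (g v) = v) {N : Submodule F V}
    (hbot : N ≠ ⊥) (hgN : ∀ n ∈ N, g n ∈ N) (hN : NondegOn B N) :
    (∃ x ∈ N, ∃ y ∈ N, B x y = 1 ∧ g x ∈ Submodule.span F {x, y} ∧
      g y ∈ Submodule.span F {x, y}) ∨
    (∃ x ∈ N, ∃ y ∈ N, B x y = 1 ∧ g x ∈ perp2 B N x y ∧ g y ∈ perp2 B N x y) := by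
  obtain ⟨n, hn, hn0⟩ := Submodule.exists_mem_ne_zero_of_ne_bot hbot
  by_cases hA : ∃ v ∈ N, B v (g v) ≠ 0
  · left
    obtain ⟨v, hvN, hc⟩ := hA
    set c := B v (g v) with hcdef
    refine ⟨v, hvN, c⁻¹ • g v, N.smul_mem _ (hgN v hvN), ?_, ?_, ?_⟩
    · rw [map_smul, smul_eq_mul, inv_mul_cancel₀ hc]
    · refine Submodule.mem_span_pair.2 ⟨0, c, ?_⟩
      rw [zero_smul, zero_add, smul_smul, mul_inv_cancel₀ hc, one_smul]
    · rw [map_smul, hgg]
      exact Submodule.smul_mem _ _ (Submodule.subset_span (by simp))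
  push Not at hA
  by_cases hB1 : ∀ v ∈ N, g v = v
  · left
    obtain ⟨y0, hy0N, hy0⟩ := exists_pairing B hN hn hn0
    refine ⟨n, hn, (B n y0)⁻¹ • y0, N.smul_mem _ hy0N, ?_, ?_, ?_⟩
    · rw [map_smul, smul_eq_mul, inv_mul_cancel₀ hy0]
    · rw [hB1 n hn]
      exact Submodule.subset_span (by simp)
    · rw [hB1 _ (N.smul_mem _ hy0N)]
      exact Submodule.subset_span (by simp)
  right
  push Not at hB1
  obtain ⟨v, hvN, hgv⟩ := hB1
  have hs0 : g v - v ≠ 0 := sub_ne_zero.2 hgv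
  have hsN : g v - v ∈ N := N.sub_mem (hgN v hvN) hvN
  obtain ⟨w', hw'N, hw'⟩ := exists_pairing B hN hsN hs0
  rw [map_sub, LinearMap.sub_apply] at hw'
  have hneg : ∀ a : F, -a = a := by
    intro a
    have : a + a = 0 := by rw [← two_mul, h2, zero_mul]
    exact neg_eq_of_add_eq_zero_left this
  -- find w with B v w ≠ 0 and B (g v) w = 0
  have hw : ∃ w ∈ N, B v w ≠ 0 ∧ B (g v) w = 0 := by
    by_cases hα : B v w' = 0
    · refine ⟨g w', hgN w' hw'N, ?_, ?_⟩
      · have : B (g v) (g (g w')) = B v (g w') := hg v (g w')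
        rw [← this, hgg]
        rw [hα, sub_zero] at hw'
        exact hw'
      · rw [hg, hα]
    · set α := B v w' with hαdef
      set β := B (g v) w' with hβdef
      have hvgw : B v (g w') = β := by
        have : B (g v) (g (g w')) = B v (g w') := hg v (g w')
        rw [← this, hgg]
      have hgvgw : B (g v) (g w') = α := hg v w'
      refine ⟨w' - (β / α) • g w', N.sub_mem hw'N (N.smul_mem _ (hgN w' hw'N)), ?_, ?_⟩
      · rw [map_sub, map_smul, hvgw, smul_eq_mul]
        have hsum : α + β ≠ 0 := by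
          intro h
          apply hw'
          have : β = -α := eq_neg_of_add_eq_zero_right h
          rw [this, hneg, sub_self]
        have : α - β / α * β = (α - β) * (α + β) / α := by
          field_simp
          ring
        rw [← hαdef, this]
        have hd : α - β ≠ 0 := by
          intro h
          apply hw'
          rw [← neg_sub, h, neg_zero]
        exact div_ne_zero (mul_ne_zero hd hsum) hα
      · rw [map_sub, map_smul, hgvgw, smul_eq_mul]
        field_simp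
        ring
  obtain ⟨w, hwN, hvw, hgvw⟩ := hw
  set y := (B v w)⁻¹ • w with hy
  have hyN : y ∈ N := N.smul_mem _ hwN
  have hvy : B v y = 1 := by rw [hy, map_smul, smul_eq_mul, inv_mul_cancel₀ hvw]
  have hgvy : B (g v) y = 0 := by rw [hy, map_smul, hgvw, smul_zero]
  refine ⟨v, hvN, y, hyN, hvy, ?_, ?_⟩
  · rw [mem_perp2]
    refine ⟨hgN v hvN, hA v hvN, ?_⟩
    rw [skew B hB, hgvy, neg_zero]
  · rw [mem_perp2]
    refine ⟨hgN y hyN, ?_, hA y hyN⟩
    have : B (g v) (g (g y)) = B v (g y) := hg v (g y)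
    rw [← this, hgg, hgvy]

end steps

section frames

variable (B : LinearMap.BilinForm F V)

/-- frames of eigenvector pairs for `g ^ 2 = 1` in odd characteristic. -/
theorem hasFrame_L1 [FiniteDimensional F V] (hB : ∀ x, B x x = 0) (h2 : (2 : F) ≠ 0)
    (g : V →ₗ[F] V) (hg : ∀ u v, B (g u) (g v) = B u v) (hgg : ∀ v, g (g v) = v)
    (hnd : NondegOn B ⊤) :
    HasFrame B (fun x y _ _ => g x ∈ Submodule.span F {x} ∧ g y ∈ Submodule.span F {y}) ⊤ := by
  refine hasFrame_of_step B hB g _ ?_ ⊤ (fun _ _ => Submodule.mem_top) hnd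
  intro N hbot hgN hN
  left
  obtain ⟨x, hx, y, hy, hxy, hgx, hgy⟩ := step_L1 B hB h2 g hg hgg hbot hgN hN
  refine ⟨x, hx, y, hy, hxy, ?_, hgx, hgy⟩
  apply perp2_invariant B g hg 1 one_ne_zero (fun v => by rw [hgg, one_smul]) hgN
  · exact Submodule.span_mono (by simp) hgx
  · exact Submodule.span_mono (by simp) hgy

/-- frames of swapped pairs for `g ^ 2 = -1` in odd characteristic. -/
theorem hasFrame_L2 [FiniteDimensional F V] (hB : ∀ x, B x x = 0) (h2 : (2 : F) ≠ 0)
    (g : V →ₗ[F] V) (hg : ∀ u v, B (g u) (g v) = B u v) (hgg : ∀ v, g (g v) = -v)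
    (hnd : NondegOn B ⊤) :
    HasFrame B (fun x y _ _ => g x ∈ Submodule.span F {y} ∧ g y ∈ Submodule.span F {x}) ⊤ := by
  refine hasFrame_of_step B hB g _ ?_ ⊤ (fun _ _ => Submodule.mem_top) hnd
  intro N hbot hgN hN
  left
  obtain ⟨x, hx, y, hy, hxy, hgx, hgy⟩ := step_L2 B hB h2 g hg hgg hbot hgN hN
  refine ⟨x, hx, y, hy, hxy, ?_, hgx, hgy⟩
  apply perp2_invariant B g hg (-1) (neg_ne_zero.2 one_ne_zero)
    (fun v => by rw [hgg, neg_smul, one_smul]) hgN
  · exact Submodule.span_mono (by simp) hgx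
  · exact Submodule.span_mono (by simp) hgy

/-- the relation "the plane `⟨x, y⟩` is mapped into the plane `⟨x', y'⟩`". -/
def RPlane (g : V →ₗ[F] V) (x y x' y' : V) : Prop :=
  g x ∈ Submodule.span F {x', y'} ∧ g y ∈ Submodule.span F {x', y'}

/-- frames of hyperbolic planes permuted by `g`, `g ^ 2 = ε` with `ε ^ 2 = 1`. -/
theorem hasFrame_plane [FiniteDimensional F V] (hB : ∀ x, B x x = 0)
    (g : V →ₗ[F] V) (hg : ∀ u v, B (g u) (g v) = B u v) (ε : F) (hε : ε * ε = 1)
    (hgg : ∀ v, g (g v) = ε • v) (hnd : NondegOn B ⊤) :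
    HasFrame B (RPlane g) ⊤ := by
  by_cases h2 : (2 : F) = 0
  · -- characteristic two
    have hε1 : ε = 1 := by
      have : (ε - 1) * (ε - 1) = 0 := by
        have : (ε - 1) * (ε - 1) = ε * ε - 2 * ε + 1 := by ring
        rw [this, hε, h2, zero_mul, sub_zero, one_add_one_eq_two, h2]
      have := mul_self_eq_zero.1 this
      exact sub_eq_zero.1 this
    have hgg' : ∀ v, g (g v) = v := fun v => by rw [hgg, hε1, one_smul]
    refine hasFrame_of_step B hB g _ ?_ ⊤ (fun _ _ => Submodule.mem_top) hnd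
    intro N hbot hgN hN
    rcases step_P2 B hB h2 g hg hgg' hbot hgN hN with ⟨x, hx, y, hy, hxy, hgx, hgy⟩ |
      ⟨x, hx, y, hy, hxy, hgx, hgy⟩
    · left
      refine ⟨x, hx, y, hy, hxy, ?_, hgx, hgy⟩
      exact perp2_invariant B g hg 1 one_ne_zero (fun v => by rw [hgg', one_smul]) hgN hgx hgy
    · right
      refine ⟨x, hx, y, hy, g x, hgx, g y, hgy, hxy, by rw [hg, hxy], ?_, ?_, ?_⟩
      · exact perp2_perp2_invariant B g hg 1 one_ne_zero (fun v => by rw [hgg', one_smul]) hgN x y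
      · exact ⟨Submodule.subset_span (by simp), Submodule.subset_span (by simp)⟩
      · refine ⟨?_, ?_⟩
        · rw [hgg']; exact Submodule.subset_span (by simp)
        · rw [hgg']; exact Submodule.subset_span (by simp)
  · have hε' : ε = 1 ∨ ε = -1 := by
      have : (ε - 1) * (ε + 1) = 0 := by
        have : (ε - 1) * (ε + 1) = ε * ε - 1 := by ring
        rw [this, hε, sub_self]
      rcases mul_eq_zero.1 this with h | h
      · left; exact sub_eq_zero.1 h
      · right; exact eq_neg_of_add_eq_zero_left h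
    rcases hε' with rfl | rfl
    · obtain ⟨I, hI, e, f, π, hfr, hπ, hR⟩ := hasFrame_L1 B hB h2 g hg
        (fun v => by rw [hgg, one_smul]) hnd
      refine ⟨I, hI, e, f, id, hfr, fun _ => rfl, fun i => ⟨?_, ?_⟩⟩
      · exact Submodule.span_mono (by simp) (hR i).1
      · exact Submodule.span_mono (by simp) (hR i).2
    · obtain ⟨I, hI, e, f, π, hfr, hπ, hR⟩ := hasFrame_L2 B hB h2 g hg
        (fun v => by rw [hgg, neg_smul, one_smul]) hnd
      refine ⟨I, hI, e, f, id, hfr, fun _ => rfl, fun i => ⟨?_, ?_⟩⟩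
      · exact Submodule.span_mono (by simp) (hR i).1
      · exact Submodule.span_mono (by simp) (hR i).2

end frames

end Cfsg.Agent.Helper13.SympFrame
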