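import Mathlib
import Cfsg.Agent.Lib.Helper13.SympInvolFrame

/-!
# Involutions of projective symplectic groups stabilise Lagrangian pairs and orthogonal
decompositions (helper13)
-/

set_option autoImplicit false
set_option linter.style.haveILetI false
set_option linter.unusedSectionVars false
set_option linter.unusedVariables false

namespace Cfsg.Agent.Helper13.SympFrame

open Module Cfsg.Agent.Helper13.Elus

variable {F : Type*} [Field F] {V : Type*} [AddCommGroup V] [Module F V]

section lagrangian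

variable (B : LinearMap.BilinForm F V)

theorem IsFrame.isCompl_span (hB : ∀ x, B x x = 0) {I : Type*} [Fintype I] {e f : I → V}
    (h : IsFrame B (⊤ : Submodule F V) e f) :
    IsCompl (Submodule.span F (Set.range e)) (Submodule.span F (Set.range f)) := by
  have hli := h.linearIndependent B hB
  constructor
  · have hd : Disjoint (Set.range (Sum.inl : I → I ⊕ I)) (Set.range (Sum.inr : I → I ⊕ I)) := by
      rw [Set.disjoint_left]
      rintro _ ⟨i, rfl⟩ ⟨j, hj⟩
      exact Sum.inr_ne_inl hj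
    have := hli.disjoint_span_image hd
    rwa [← Set.range_comp, ← Set.range_comp, Sum.elim_comp_inl, Sum.elim_comp_inr] at this
  · rw [codisjoint_iff, ← Submodule.span_union]
    exact top_le_iff.1 h.le_span

theorem map_eq_of_le_le (g : V →ₗ[F] V) (ε : F) (hε : ε ≠ 0) (hgg : ∀ v, g (g v) = ε • v)
    {U U' : Submodule F V} (h1 : U.map g ≤ U') (h2 : U'.map g ≤ U) : U.map g = U' := by
  apply le_antisymm h1
  intro u hu
  refine ⟨ε⁻¹ • g u, U.smul_mem _ (h2 ⟨u, hu, rfl⟩), ?_⟩
  rw [map_smul, hgg, smul_smul, inv_mul_cancel₀ hε, one_smul]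

theorem map_span_range_le (g : V →ₗ[F] V) {I : Type*} (e e' : I → V)
    (h : ∀ i, g (e i) ∈ Submodule.span F {e' i}) :
    (Submodule.span F (Set.range e)).map g ≤ Submodule.span F (Set.range e') := by
  rw [Submodule.map_span_le]
  rintro _ ⟨i, rfl⟩
  exact Submodule.span_mono (by
    rw [Set.singleton_subset_iff]; exact ⟨i, rfl⟩) (h i)

/-- an isometry of a symplectic space in odd characteristic whose square is `± 1` fixes or swaps
the members of a pair of complementary Lagrangians. -/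
theorem exists_lagrangian_pair [FiniteDimensional F V] (hB : ∀ x, B x x = 0) (h2 : (2 : F) ≠ 0)
    (g : V →ₗ[F] V) (hg : ∀ u v, B (g u) (g v) = B u v) (ε : F) (hε : ε = 1 ∨ ε = -1)
    (hgg : ∀ v, g (g v) = ε • v) (hnd : ∀ u, (∀ v, B u v = 0) → u = 0) :
    ∃ U W : Submodule F V, IsCompl U W ∧ (∀ u ∈ U, ∀ v ∈ U, B u v = 0) ∧
      (∀ u ∈ W, ∀ v ∈ W, B u v = 0) ∧
      ((U.map g = U ∧ W.map g = W) ∨ (U.map g = W ∧ W.map g = U)) := by
  have hnd' : NondegOn B ⊤ := fun u _ h => hnd u (fun v => h v Submodule.mem_top)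
  rcases hε with rfl | rfl
  · obtain ⟨I, hI, e, f, π, hfr, hπ, hR⟩ := hasFrame_L1 B hB h2 g hg
      (fun v => by rw [hgg, one_smul]) hnd'
    refine ⟨Submodule.span F (Set.range e), Submodule.span F (Set.range f),
      hfr.isCompl_span B hB, ?_, ?_, Or.inl ⟨?_, ?_⟩⟩
    · apply eq_zero_of_span
      rintro _ ⟨i, rfl⟩ _ ⟨j, rfl⟩
      exact hfr.ee i j
    · apply eq_zero_of_span
      rintro _ ⟨i, rfl⟩ _ ⟨j, rfl⟩
      exact hfr.ff i j
    · have := map_span_range_le g e e (fun i => (hR i).1)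
      exact map_eq_of_le_le g 1 one_ne_zero hgg this this
    · have := map_span_range_le g f f (fun i => (hR i).2)
      exact map_eq_of_le_le g 1 one_ne_zero hgg this this
  · obtain ⟨I, hI, e, f, π, hfr, hπ, hR⟩ := hasFrame_L2 B hB h2 g hg
      (fun v => by rw [hgg, neg_smul, one_smul]) hnd'
    have h1 := map_span_range_le g e f (fun i => (hR i).1)
    have h2' := map_span_range_le g f e (fun i => (hR i).2)
    refine ⟨Submodule.span F (Set.range e), Submodule.span F (Set.range f),
      hfr.isCompl_span B hB, ?_, ?_, Or.inr ⟨?_, ?_⟩⟩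
    · apply eq_zero_of_span
      rintro _ ⟨i, rfl⟩ _ ⟨j, rfl⟩
      exact hfr.ee i j
    · apply eq_zero_of_span
      rintro _ ⟨i, rfl⟩ _ ⟨j, rfl⟩
      exact hfr.ff i j
    · exact map_eq_of_le_le g (-1) (neg_ne_zero.2 one_ne_zero) hgg h1 h2'
    · exact map_eq_of_le_le g (-1) (neg_ne_zero.2 one_ne_zero) hgg h2' h1

end lagrangian

section blocks

variable (B : LinearMap.BilinForm F V)

theorem map_blockSpan_le' {J : Type*} (g : Module.End F V) (b : Basis J F V) (β : J → ℕ)
    (σ : ℕ → ℕ) (hgb : ∀ x, g (b x) ∈ blockSpan b β (σ (β x))) (j : ℕ) :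
    (blockSpan b β j).map g ≤ blockSpan b β (σ j) := by
  unfold blockSpan
  rw [Submodule.map_span_le]
  rintro _ ⟨x, hx, rfl⟩
  simp only [Set.mem_ofPred_eq] at hx
  have := hgb x
  rw [hx] at this
  exact this

theorem blockSpan_orth {J : Type*} (b : Basis J F V) (β : J → ℕ)
    (hb : ∀ x y, β x ≠ β y → B (b x) (b y) = 0) {j j' : ℕ} (hjj : j ≠ j') :
    ∀ u ∈ blockSpan b β j, ∀ v ∈ blockSpan b β j', B u v = 0 := by
  apply eq_zero_of_span
  rintro _ ⟨x, hx, rfl⟩ _ ⟨y, hy, rfl⟩
  simp only [Set.mem_ofPred_eq] at hx hy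
  exact hb x y (by rw [hx, hy]; exact hjj)

theorem blockSpan_nondeg {J : Type*} (b : Basis J F V) (β : J → ℕ)
    (hb : ∀ x y, β x ≠ β y → B (b x) (b y) = 0) (hnd : ∀ u, (∀ v, B u v = 0) → u = 0) (j : ℕ) :
    ∀ u ∈ blockSpan b β j, u ≠ 0 → ∃ v ∈ blockSpan b β j, B u v ≠ 0 := by
  intro u hu hu0
  by_contra hcon
  push Not at hcon
  apply hu0
  apply hnd
  intro v
  have hv : v ∈ Submodule.span F (Set.range b) := by rw [b.span_eq]; exact Submodule.mem_top
  induction hv using Submodule.span_induction with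
  | mem w hw =>
    obtain ⟨x, rfl⟩ := hw
    by_cases hx : β x = j
    · exact hcon _ (Submodule.subset_span ⟨x, hx, rfl⟩)
    · have h0 : B (b x) u = 0 :=
        blockSpan_orth B b β hb hx (b x) (Submodule.subset_span ⟨x, rfl, rfl⟩) u hu
      -- need symmetry: use the orthogonality in the other order
      have h1 : B u (b x) = 0 :=
        blockSpan_orth B b β hb (Ne.symm hx) u hu (b x) (Submodule.subset_span ⟨x, rfl, rfl⟩)
      exact h1
  | zero => simp
  | add p q _ _ hp hq => rw [map_add, hp, hq, add_zero]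
  | smul c p _ hp => rw [map_smul, hp, smul_zero]

/-- an isometry of a symplectic space whose square is a scalar permutes the members of an
orthogonal decomposition into `t` nondegenerate subspaces of any even dimension `a`. -/
theorem exists_orth_decomp [FiniteDimensional F V] (hB : ∀ x, B x x = 0)
    (g : V →ₗ[F] V) (hg : ∀ u v, B (g u) (g v) = B u v) (ε : F) (hε : ε * ε = 1)
    (hgg : ∀ v, g (g v) = ε • v) (hnd : ∀ u, (∀ v, B u v = 0) → u = 0)
    (a t : ℕ) (ha : 2 ≤ a) (hae : Even a) (hat : finrank F V = a * t) :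
    ∃ D : Fin t → Submodule F V, (∀ j, finrank F (D j) = a) ∧ iSupIndep D ∧ iSup D = ⊤ ∧
      (∀ j, ∀ u ∈ D j, u ≠ 0 → ∃ v ∈ D j, B u v ≠ 0) ∧
      (∀ j j', j ≠ j' → ∀ u ∈ D j, ∀ v ∈ D j', B u v = 0) ∧
      ∃ σ : Equiv.Perm (Fin t), ∀ j, (D j).map g = D (σ j) := by
  classical
  have hnd' : NondegOn B ⊤ := fun u _ h => hnd u (fun v => h v Submodule.mem_top)
  have hε0 : ε ≠ 0 := by
    rintro rfl
    simp at hε
  obtain ⟨I, hI, e, f, π, hfr, hπ, hR⟩ := hasFrame_plane B hB g hg ε hε hgg hnd'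
  obtain ⟨a', rfl⟩ := hae
  have ha' : 1 ≤ a' := by omega
  have hcard : Fintype.card I = a' * t := by
    have h1 := hfr.two_mul_card B hB
    rw [hat] at h1
    have h2 : 2 * (a' * t) = 2 * Fintype.card I := by rw [← h1]; ring
    omega
  letI : LinearOrder I :=
    LinearOrder.lift' (Fintype.equivFin I) (Fintype.equivFin I).injective
  obtain ⟨β, σ₀, h1, h2, h3, h4, h5⟩ := exists_blockAssign a' ha' π hπ t Finset.univ
    (fun i _ => Finset.mem_univ _) (by rw [Finset.card_univ, hcard])
  set b := hfr.basis B hB with hbdef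
  have hbl : ∀ i, b (Sum.inl i) = e i := hfr.basis_inl B hB
  have hbr : ∀ i, b (Sum.inr i) = f i := hfr.basis_inr B hB
  set β' : I ⊕ I → ℕ := Sum.elim β β with hβ'
  have hβ't : ∀ x, β' x < t := by
    rintro (i | i)
    · exact h1 i (Finset.mem_univ _)
    · exact h1 i (Finset.mem_univ _)
  have hD1 : ∀ j : Fin t, finrank F ↥(blockSpan b β' (j : ℕ)) = a' + a' := by
    intro j
    rw [finrank_blockSpan, Finset.card_filter, Fintype.sum_sum_type]
    simp only [hβ', Sum.elim_inl, Sum.elim_inr]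
    rw [← Finset.card_filter, h2 j j.2]
  have hpair : ∀ i, Submodule.span F {e (π i), f (π i)} ≤ blockSpan b β' (σ₀ (β i)) := by
    intro i
    unfold blockSpan
    apply Submodule.span_mono
    rintro _ (rfl | rfl)
    · refine ⟨Sum.inl (π i), ?_, hbl _⟩
      simp only [Set.mem_ofPred_eq, hβ', Sum.elim_inl]
      exact h5 i (Finset.mem_univ _)
    · refine ⟨Sum.inr (π i), ?_, hbr _⟩
      simp only [Set.mem_ofPred_eq, hβ', Sum.elim_inr]
      exact h5 i (Finset.mem_univ _)
  have hgb : ∀ x, g (b x) ∈ blockSpan b β' (σ₀ (β' x)) := by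
    rintro (i | i)
    · rw [hbl]
      exact hpair i (hR i).1
    · rw [hbr]
      exact hpair i (hR i).2
  have hb : ∀ x y, β' x ≠ β' y → B (b x) (b y) = 0 := by
    rintro (i | i) (j | j) hne
    · rw [hbl, hbl]; exact hfr.ee i j
    · rw [hbl, hbr]
      exact hfr.ef_ne i j (fun h => hne (by rw [h]; rfl))
    · rw [hbr, hbl]
      exact hfr.fe_ne B hB i j (fun h => hne (by rw [h]; rfl))
    · rw [hbr, hbr]; exact hfr.ff i j
  have hinj : Function.Injective g := by
    intro u v huv
    have := congrArg g huv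
    rw [hgg, hgg] at this
    exact smul_right_injective V hε0 this
  let σ : Equiv.Perm (Fin t) :=
    { toFun := fun j => ⟨σ₀ j, h3 j j.2⟩
      invFun := fun j => ⟨σ₀ j, h3 j j.2⟩
      left_inv := fun j => Fin.ext (h4 j j.2)
      right_inv := fun j => Fin.ext (h4 j j.2) }
  refine ⟨fun j => blockSpan b β' (j : ℕ), hD1, iSupIndep_blockSpan b β' t,
    iSup_blockSpan b β' t hβ't, ?_, ?_, σ, ?_⟩
  · intro j
    exact blockSpan_nondeg B b β' hb hnd j
  · intro j j' hjj
    exact blockSpan_orth B b β' hb (fun h => hjj (Fin.ext h))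
  · intro j
    have hle := map_blockSpan_le' g b β' σ₀ hgb (j : ℕ)
    apply Submodule.eq_of_le_of_finrank_eq hle
    have h6 : finrank F ↥((blockSpan b β' (j : ℕ)).map g) =
        finrank F ↥(blockSpan b β' (j : ℕ)) :=
      (Submodule.equivMapOfInjective g hinj _).symm.finrank_eq
    rw [h6, hD1 j]
    exact (hD1 (σ j)).symm

end blocks

end Cfsg.Agent.Helper13.SympFrame
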