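import Mathlib
import Cfsg.Agent.Lib.Helper13.SympInvolDecomp

/-!
# Counting pairs of complementary Lagrangians through symplectic bases (helper13)
-/

set_option autoImplicit false
set_option linter.style.haveILetI false
set_option linter.unusedSectionVars false
set_option linter.unusedVariables false

namespace Cfsg.Agent.Helper13.LagCount

open Module Cfsg.Agent.Helper13.SympFrame

section abstract

variable {F : Type*} [Field F] {V : Type*} [AddCommGroup V] [Module F V] [FiniteDimensional F V]
variable (B : LinearMap.BilinForm F V)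

/-- a family satisfying the Gram conditions of a symplectic basis, of the right size, is a
symplectic basis of the whole space. -/
theorem isFrame_top_of_gram (hB : ∀ x, B x x = 0) {I : Type*} [Fintype I] (e f : I → V)
    (h1 : ∀ i, B (e i) (f i) = 1) (h2 : ∀ i j, i ≠ j → B (e i) (f j) = 0)
    (h3 : ∀ i j, B (e i) (e j) = 0) (h4 : ∀ i j, B (f i) (f j) = 0)
    (hcard : finrank F V = 2 * Fintype.card I) : IsFrame B ⊤ e f := by
  have hN : IsFrame B (Submodule.span F (Set.range e ∪ Set.range f)) e f :=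
    ⟨h1, h2, h3, h4, fun i => Submodule.subset_span (Or.inl ⟨i, rfl⟩),
      fun i => Submodule.subset_span (Or.inr ⟨i, rfl⟩), le_refl _⟩
  have hli := hN.linearIndependent B hB
  have hNtop : Submodule.span F (Set.range e ∪ Set.range f) = ⊤ := by
    apply Submodule.eq_top_of_finrank_eq
    rw [← Set.Sum.elim_range, finrank_span_eq_card hli, Fintype.card_sum, hcard, two_mul]
  exact ⟨h1, h2, h3, h4, fun _ => Submodule.mem_top, fun _ => Submodule.mem_top,
    by rw [hNtop]⟩

theorem nondegenerate_of (hB : ∀ x, B x x = 0) (hnd : ∀ u, (∀ v, B u v = 0) → u = 0) :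
    B.Nondegenerate :=
  ⟨hnd, fun y hy => hnd y (fun x => by rw [skew B hB, hy, neg_zero])⟩

theorem two_mul_finrank_le (hB : ∀ x, B x x = 0) (hnd : ∀ u, (∀ v, B u v = 0) → u = 0)
    (U : Submodule F V) (hU : ∀ u ∈ U, ∀ v ∈ U, B u v = 0) :
    2 * finrank F U ≤ finrank F V := by
  have h1 := LinearMap.BilinForm.finrank_orthogonal (nondegenerate_of B hB hnd) U
  have h2 : U ≤ B.orthogonal U := fun u hu =>
    LinearMap.BilinForm.mem_orthogonal_iff.2 (fun n hn => hU n hn u hu)
  have h3 := Submodule.finrank_mono h2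
  have h4 := Submodule.finrank_le U
  omega

theorem finrank_of_pair (hB : ∀ x, B x x = 0) (hnd : ∀ u, (∀ v, B u v = 0) → u = 0) (d : ℕ)
    (hd : finrank F V = 2 * d) {U W : Submodule F V} (hUW : IsCompl U W)
    (hU : ∀ u ∈ U, ∀ v ∈ U, B u v = 0) (hW : ∀ u ∈ W, ∀ v ∈ W, B u v = 0) :
    finrank F U = d ∧ finrank F W = d := by
  have h1 := Submodule.finrank_add_eq_of_isCompl hUW
  have h2 := two_mul_finrank_le B hB hnd U hU
  have h3 := two_mul_finrank_le B hB hnd W hW
  omega

/-- a vector of `W` orthogonal to a spanning family of `U` vanishes. -/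
theorem eq_zero_of_perp (hB : ∀ x, B x x = 0) (hnd : ∀ u, (∀ v, B u v = 0) → u = 0)
    {U W : Submodule F V} (hUW : IsCompl U W) (hW : ∀ u ∈ W, ∀ v ∈ W, B u v = 0)
    {I : Type*} (e : I → V) (hspan : Submodule.span F (Set.range e) = U) {w : V} (hw : w ∈ W)
    (h : ∀ i, B (e i) w = 0) : w = 0 := by
  apply (nondegenerate_of B hB hnd).2
  intro x
  have hx : x ∈ U ⊔ W := by rw [hUW.sup_eq_top]; exact Submodule.mem_top
  obtain ⟨u, hu, w', hw', rfl⟩ := Submodule.mem_sup.1 hx
  rw [map_add, LinearMap.add_apply, hW w' hw' w hw, add_zero]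
  have h0 := eq_zero_of_span B (s := Set.range e) (t := {w}) (by
    rintro _ ⟨i, rfl⟩ b hb
    rw [Set.mem_singleton_iff.1 hb]
    exact h i)
  exact h0 u (by rw [hspan]; exact hu) w (Submodule.subset_span rfl)

theorem span_eq_of_li (d : ℕ) {U : Submodule F V} (hdU : finrank F U = d) (e : Fin d → V)
    (he : ∀ i, e i ∈ U) (hli : LinearIndependent F e) :
    Submodule.span F (Set.range e) = U := by
  apply Submodule.eq_of_le_of_finrank_eq
  · rw [Submodule.span_le]
    rintro _ ⟨i, rfl⟩
    exact he i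
  · rw [finrank_span_eq_card hli, Fintype.card_fin, hdU]

/-- the dual family in `W` of a basis of `U`. -/
theorem exists_dual (hB : ∀ x, B x x = 0) (hnd : ∀ u, (∀ v, B u v = 0) → u = 0) (d : ℕ)
    (hd : finrank F V = 2 * d) {U W : Submodule F V} (hUW : IsCompl U W)
    (hU : ∀ u ∈ U, ∀ v ∈ U, B u v = 0) (hW : ∀ u ∈ W, ∀ v ∈ W, B u v = 0)
    (e : Fin d → V) (he : ∀ i, e i ∈ U) (hli : LinearIndependent F e) :
    ∃ f : Fin d → V, (∀ j, f j ∈ W) ∧ (∀ i, B (e i) (f i) = 1) ∧
      (∀ i j, i ≠ j → B (e i) (f j) = 0) := by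
  classical
  obtain ⟨hdU, hdW⟩ := finrank_of_pair B hB hnd d hd hUW hU hW
  have hspan := span_eq_of_li d hdU e he hli
  let τ : W →ₗ[F] (Fin d → F) := LinearMap.pi (fun i => (B (e i)).comp W.subtype)
  have hτ : ∀ w i, τ w i = B (e i) (w : V) := fun w i => rfl
  have hinj : Function.Injective τ := by
    rw [injective_iff_map_eq_zero]
    intro w hw
    apply Subtype.ext
    apply eq_zero_of_perp B hB hnd hUW hW e hspan w.2
    intro i
    rw [← hτ, hw]
    rfl
  have hsurj : Function.Surjective τ :=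
    (LinearMap.injective_iff_surjective_of_finrank_eq_finrank
      (by rw [hdW, Module.finrank_fintype_fun_eq_card, Fintype.card_fin])).1 hinj
  choose f hf using fun j => hsurj (Pi.single j 1)
  refine ⟨fun j => (f j : V), fun j => (f j).2, ?_, ?_⟩
  · intro i
    rw [← hτ, hf, Pi.single_eq_same]
  · intro i j hij
    rw [← hτ, hf, Pi.single_eq_of_ne hij]

end abstract

section count

variable {F : Type*} [Field F] [Fintype F] {V : Type*} [AddCommGroup V] [Module F V]
  [FiniteDimensional F V]
variable (B : LinearMap.BilinForm F V)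

/-- ordered pairs of complementary totally isotropic subspaces -/
abbrev Pairs : Type _ :=
  {P : Submodule F V × Submodule F V // IsCompl P.1 P.2 ∧ (∀ u ∈ P.1, ∀ v ∈ P.1, B u v = 0) ∧
    (∀ u ∈ P.2, ∀ v ∈ P.2, B u v = 0)}

/-- symplectic bases -/
abbrev Frames (d : ℕ) : Type _ :=
  {p : (Fin d → V) × (Fin d → V) // IsFrame B ⊤ p.1 p.2}

/-- the Lagrangian pair spanned by a symplectic basis -/
noncomputable def toPair (hB : ∀ x, B x x = 0) (d : ℕ) (s : Frames B d) : Pairs B :=
  ⟨(Submodule.span F (Set.range s.1.1), Submodule.span F (Set.range s.1.2)),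
    s.2.isCompl_span B hB,
    eq_zero_of_span B (by rintro _ ⟨i, rfl⟩ _ ⟨j, rfl⟩; exact s.2.ee i j),
    eq_zero_of_span B (by rintro _ ⟨i, rfl⟩ _ ⟨j, rfl⟩; exact s.2.ff i j)⟩

theorem card_fiber (hB : ∀ x, B x x = 0) (hnd : ∀ u, (∀ v, B u v = 0) → u = 0) (d : ℕ)
    (hd : finrank F V = 2 * d) (P : Pairs B) :
    Nat.card {s : Frames B d // toPair B hB d s = P} =
      Nat.card {e : Fin d → P.1.1 // LinearIndependent F e} := by
  classical
  obtain ⟨⟨U, W⟩, hUW, hU, hW⟩ := P
  obtain ⟨hdU, hdW⟩ := finrank_of_pair B hB hnd d hd hUW hU hW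
  have hfib : ∀ s : {s : Frames B d // toPair B hB d s = ⟨(U, W), hUW, hU, hW⟩},
      Submodule.span F (Set.range s.1.1.1) = U ∧ Submodule.span F (Set.range s.1.1.2) = W := by
    intro s
    have h := congrArg Subtype.val s.2
    exact ⟨congrArg Prod.fst h, congrArg Prod.snd h⟩
  have hli : ∀ s : Frames B d, LinearIndependent F s.1.1 := by
    intro s
    have := (s.2.linearIndependent B hB).comp Sum.inl Sum.inl_injective
    rwa [Sum.elim_comp_inl] at this
  have hli2 : ∀ s : Frames B d, LinearIndependent F s.1.2 := by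
    intro s
    have := (s.2.linearIndependent B hB).comp Sum.inr Sum.inr_injective
    rwa [Sum.elim_comp_inr] at this
  let Ψ : {s : Frames B d // toPair B hB d s = ⟨(U, W), hUW, hU, hW⟩} →
      {e : Fin d → U // LinearIndependent F e} := fun s =>
    ⟨fun i => ⟨s.1.1.1 i, (hfib s).1.le (Submodule.subset_span ⟨i, rfl⟩)⟩, by
      apply LinearIndependent.of_comp U.subtype
      exact hli s.1⟩
  apply Nat.card_eq_of_bijective Ψ
  constructor
  · intro s s' hss
    have he : s.1.1.1 = s'.1.1.1 := by
      funext i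
      have := congrFun (congrArg Subtype.val hss) i
      exact congrArg Subtype.val this
    have hf : s.1.1.2 = s'.1.1.2 := by
      funext j
      rw [← sub_eq_zero]
      have hjW : s.1.1.2 j ∈ W := (hfib s).2.le (Submodule.subset_span ⟨j, rfl⟩)
      have hjW' : s'.1.1.2 j ∈ W := (hfib s').2.le (Submodule.subset_span ⟨j, rfl⟩)
      apply eq_zero_of_perp B hB hnd hUW hW s.1.1.1 (hfib s).1 (W.sub_mem hjW hjW')
      intro i
      rw [map_sub]
      by_cases hij : i = j
      · subst hij
        rw [s.1.2.ef_self, he, s'.1.2.ef_self, sub_self]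
      · rw [s.1.2.ef_ne i j hij, he, s'.1.2.ef_ne i j hij, sub_self]
    apply Subtype.ext
    apply Subtype.ext
    exact Prod.ext he hf
  · rintro ⟨e', hli'⟩
    set e : Fin d → V := fun i => (e' i : V) with he
    have heU : ∀ i, e i ∈ U := fun i => (e' i).2
    have hlie : LinearIndependent F e :=
      hli'.map' U.subtype (Submodule.ker_subtype U)
    obtain ⟨f, hfW, hf1, hf2⟩ := exists_dual B hB hnd d hd hUW hU hW e heU hlie
    have hfr : IsFrame B ⊤ e f :=
      isFrame_top_of_gram B hB e f hf1 hf2 (fun i j => hU _ (heU i) _ (heU j))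
        (fun i j => hW _ (hfW i) _ (hfW j)) (by rw [hd, Fintype.card_fin])
    have hspan1 : Submodule.span F (Set.range e) = U := span_eq_of_li d hdU e heU hlie
    have hlif : LinearIndependent F f := hli2 ⟨(e, f), hfr⟩
    have hspan2 : Submodule.span F (Set.range f) = W := span_eq_of_li d hdW f hfW hlif
    refine ⟨⟨⟨(e, f), hfr⟩, ?_⟩, ?_⟩
    · apply Subtype.ext
      exact Prod.ext hspan1 hspan2
    · apply Subtype.ext
      funext i
      rfl

/-- the number of symplectic bases is the number of Lagrangian pairs times the number of bases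
of a `d`-dimensional space. -/
theorem card_frames_eq (hB : ∀ x, B x x = 0) (hnd : ∀ u, (∀ v, B u v = 0) → u = 0) (d : ℕ)
    (hd : finrank F V = 2 * d) :
    Nat.card (Frames B d) =
      Nat.card (Pairs B) * ∏ i : Fin d, (Fintype.card F ^ d - Fintype.card F ^ (i : ℕ)) := by
  classical
  haveI : Finite V := Module.finite_of_finite F
  haveI : Finite (Submodule F V) := Finite.of_injective (fun W => (W : Set V)) SetLike.coe_injective
  haveI : Fintype (Pairs B) := Fintype.ofFinite _
  rw [Nat.card_congr (Equiv.sigmaFiberEquiv (toPair B hB d)).symm, Nat.card_sigma]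
  have : ∀ P : Pairs B, Nat.card {s : Frames B d // toPair B hB d s = P} =
      ∏ i : Fin d, (Fintype.card F ^ d - Fintype.card F ^ (i : ℕ)) := by
    intro P
    rw [card_fiber B hB hnd d hd P]
    have hdU := (finrank_of_pair B hB hnd d hd P.2.1 P.2.2.1 P.2.2.2).1
    rw [card_linearIndependent (K := F) (V := P.1.1) (k := d) (by rw [hdU]), hdU]
  simp only [this]
  rw [Finset.sum_const, Finset.card_univ, smul_eq_mul, Nat.card_eq_fintype_card]

end count

end Cfsg.Agent.Helper13.LagCount
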