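import Mathlib
import Cfsg.Agent.Lib.Helper28.SympIso

/-!
# Matrix-level facts about the standard symplectic form (helper13)
-/

set_option autoImplicit false
set_option linter.style.haveILetI false
set_option linter.unusedSectionVars false
set_option linter.unusedVariables false

namespace Cfsg.Agent.Helper13.SympFrame

open Module Cfsg.Agent.Helper28.SympIso

variable {F : Type*} [Field F] (d : ℕ)

theorem two_ne_zero_of_odd_card [Fintype F] (hodd : Odd (Fintype.card F)) : (2 : F) ≠ 0 := by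
  apply Ring.two_ne_zero
  intro h
  have := FiniteField.even_card_of_char_two h
  rw [Nat.odd_iff] at hodd
  omega

theorem sympBil_self (u : Fin d ⊕ Fin d → F) : sympBil d F u u = 0 := sympBil_isAlt d u

theorem sympBil_sep (u : Fin d ⊕ Fin d → F) (h : ∀ v, sympBil d F u v = 0) : u = 0 :=
  (sympBil_nondegenerate (F := F) d).1 u h

theorem sympBil_toLin' (x : Matrix.symplecticGroup (Fin d) F) (u v : Fin d ⊕ Fin d → F) :
    sympBil d F (Matrix.toLin' (x : Matrix (Fin d ⊕ Fin d) (Fin d ⊕ Fin d) F) u)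
      (Matrix.toLin' (x : Matrix (Fin d ⊕ Fin d) (Fin d ⊕ Fin d) F) v) = sympBil d F u v := by
  rw [Matrix.toLin'_apply, Matrix.toLin'_apply, sympBil_apply, sympBil_apply]
  exact Cfsg.Agent.Helper2.Symp.Bf_mulVec x.2 u v

theorem toLin'_toLin' (x : Matrix.symplecticGroup (Fin d) F) (z : F) (r : ℕ)
    (hz : ((x ^ r : Matrix.symplecticGroup (Fin d) F) : Matrix (Fin d ⊕ Fin d) (Fin d ⊕ Fin d) F) =
      z • (1 : Matrix (Fin d ⊕ Fin d) (Fin d ⊕ Fin d) F)) (v : Fin d ⊕ Fin d → F) :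
    ((Matrix.toLin' (x : Matrix (Fin d ⊕ Fin d) (Fin d ⊕ Fin d) F)) ^ r) v = z • v := by
  rw [← Matrix.toLin'_pow, ← SubmonoidClass.coe_pow, hz, Matrix.toLin'_apply, Matrix.smul_mulVec,
    Matrix.one_mulVec]

theorem toLin'_sq (x : Matrix.symplecticGroup (Fin d) F) (z : F)
    (hz : ((x ^ 2 : Matrix.symplecticGroup (Fin d) F) : Matrix (Fin d ⊕ Fin d) (Fin d ⊕ Fin d) F) =
      z • (1 : Matrix (Fin d ⊕ Fin d) (Fin d ⊕ Fin d) F)) (v : Fin d ⊕ Fin d → F) :
    Matrix.toLin' (x : Matrix (Fin d ⊕ Fin d) (Fin d ⊕ Fin d) F)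
      (Matrix.toLin' (x : Matrix (Fin d ⊕ Fin d) (Fin d ⊕ Fin d) F) v) = z • v := by
  have := toLin'_toLin' d x z 2 hz v
  rwa [pow_two, Module.End.mul_apply] at this

theorem exists_sympBil_ne_zero (hd1 : 1 ≤ d) :
    ∃ u v : Fin d ⊕ Fin d → F, sympBil d F u v ≠ 0 := by
  classical
  set u : Fin d ⊕ Fin d → F := Pi.single (Sum.inl ⟨0, hd1⟩) 1 with hu
  have hu0 : u ≠ 0 := by
    intro h
    have := congrFun h (Sum.inl ⟨0, hd1⟩)
    rw [hu, Pi.single_eq_same] at this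
    exact one_ne_zero this
  by_contra hcon
  push Not at hcon
  exact hu0 (sympBil_sep d u (hcon u))

theorem scalar_mul_self_eq_one (hd1 : 1 ≤ d) (x : Matrix.symplecticGroup (Fin d) F) (z : F)
    (r : ℕ)
    (hz : ((x ^ r : Matrix.symplecticGroup (Fin d) F) : Matrix (Fin d ⊕ Fin d) (Fin d ⊕ Fin d) F) =
      z • (1 : Matrix (Fin d ⊕ Fin d) (Fin d ⊕ Fin d) F)) : z * z = 1 := by
  obtain ⟨u, v, huv⟩ := exists_sympBil_ne_zero (F := F) d hd1
  have h1 := sympBil_toLin' d (x ^ r) u v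
  rw [hz, Matrix.toLin'_apply, Matrix.toLin'_apply, Matrix.smul_mulVec, Matrix.smul_mulVec,
    Matrix.one_mulVec, Matrix.one_mulVec, map_smul, map_smul, LinearMap.smul_apply, smul_eq_mul,
    smul_eq_mul, ← mul_assoc] at h1
  exact mul_right_cancel₀ huv (by rw [h1, one_mul])

theorem scalar_eq_one_or_neg_one (hd1 : 1 ≤ d) (x : Matrix.symplecticGroup (Fin d) F) (z : F)
    (hz : ((x ^ 2 : Matrix.symplecticGroup (Fin d) F) : Matrix (Fin d ⊕ Fin d) (Fin d ⊕ Fin d) F) =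
      z • (1 : Matrix (Fin d ⊕ Fin d) (Fin d ⊕ Fin d) F)) : z = 1 ∨ z = -1 := by
  have h := scalar_mul_self_eq_one d hd1 x z 2 hz
  have : (z - 1) * (z + 1) = 0 := by
    have : (z - 1) * (z + 1) = z * z - 1 := by ring
    rw [this, h, sub_self]
  rcases mul_eq_zero.1 this with h | h
  · left; exact sub_eq_zero.1 h
  · right; exact eq_neg_of_add_eq_zero_left h

end Cfsg.Agent.Helper13.SympFrame
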