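import Mathlib
import Cfsg.Agent.Lib.Helper13.LagrangianCount
import Cfsg.Agent.Lib.Helper13.SympMatrix
import Cfsg.Agent.Lib.Helper13.CycloFactors
import Cfsg.Agent.Lib.Helper2.SympCard

/-!
# The number of pairs of complementary Lagrangians of the standard symplectic space (helper13)
-/

set_option autoImplicit false
set_option linter.style.haveILetI false
set_option linter.unusedSectionVars false
set_option linter.unusedVariables false

namespace Cfsg.Agent.Helper13.LagCount

open Module Matrix Cfsg.Agent.Helper13.SympFrame Cfsg.Agent.Helper28.SympIso Cfsg.Agent.Helper2.Symp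

section gram

variable {F : Type*} [Field F] {V V' : Type*} [AddCommGroup V] [Module F V]
  [AddCommGroup V'] [Module F V']

/-- two symplectic bases have the same Gram matrix. -/
theorem gram_eq (B : LinearMap.BilinForm F V) (B' : LinearMap.BilinForm F V')
    (hB : ∀ x, B x x = 0) (hB' : ∀ x, B' x x = 0) {I : Type*}
    {N : Submodule F V} {N' : Submodule F V'} {e f : I → V} {e' f' : I → V'}
    (h : IsFrame B N e f) (h' : IsFrame B' N' e' f') (c c' : I ⊕ I) :
    B (Sum.elim f e c) (Sum.elim f e c') = B' (Sum.elim f' e' c) (Sum.elim f' e' c') := by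
  classical
  rcases c with i | i <;> rcases c' with j | j
  · simp only [Sum.elim_inl]; rw [h.ff, h'.ff]
  · simp only [Sum.elim_inl, Sum.elim_inr]
    by_cases hij : i = j
    · subst hij; rw [h.fe_self B hB, h'.fe_self B' hB']
    · rw [h.fe_ne B hB i j hij, h'.fe_ne B' hB' i j hij]
  · simp only [Sum.elim_inl, Sum.elim_inr]
    by_cases hij : i = j
    · subst hij; rw [h.ef_self, h'.ef_self]
    · rw [h.ef_ne i j hij, h'.ef_ne i j hij]
  · simp only [Sum.elim_inr]; rw [h.ee, h'.ee]

end gram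

section standard

variable {F : Type*} [Field F] (d : ℕ)

theorem finrank_std : finrank F (Fin d ⊕ Fin d → F) = 2 * d := by
  rw [Module.finrank_fintype_fun_eq_card, Fintype.card_sum, Fintype.card_fin, two_mul]

/-- the standard symplectic basis `(f_i, e_i)`. -/
theorem isFrame_std : IsFrame (sympBil d F) ⊤ (fun i : Fin d => (fV i : Fin d ⊕ Fin d → F))
    (fun i : Fin d => (eV i : Fin d ⊕ Fin d → F)) := by
  classical
  apply isFrame_top_of_gram (sympBil d F) (sympBil_self d)
  · intro i
    rw [sympBil_apply]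
    exact Bf_fV_eV i
  · intro i j hij
    rw [sympBil_apply]
    refine (Bf_eV_right (fV i : Fin d ⊕ Fin d → F) j).trans ?_
    unfold fV
    rw [Pi.single_apply, if_neg]
    intro h
    exact hij (Sum.inr_injective h).symm
  · intro i j
    rw [sympBil_apply]
    refine (Bf_fV_right (fV i : Fin d ⊕ Fin d → F) j).trans ?_
    unfold fV
    rw [Pi.single_apply, if_neg (by simp), neg_zero]
  · intro i j
    rw [sympBil_apply]
    refine (Bf_eV_right (eV i : Fin d ⊕ Fin d → F) j).trans ?_
    unfold eV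
    rw [Pi.single_apply, if_neg (by simp)]
  · rw [finrank_std, Fintype.card_fin]

/-- the symplectic basis made of the columns of a symplectic matrix. -/
noncomputable def frameOfSp (g : Matrix.symplecticGroup (Fin d) F) : Frames (sympBil d F) d :=
  ⟨(fun i => (g : Matrix (Fin d ⊕ Fin d) (Fin d ⊕ Fin d) F) *ᵥ fV i,
    fun i => (g : Matrix (Fin d ⊕ Fin d) (Fin d ⊕ Fin d) F) *ᵥ eV i), by
    have hstd := isFrame_std (F := F) d
    have hinv : ∀ u v, sympBil d F ((g : Matrix (Fin d ⊕ Fin d) (Fin d ⊕ Fin d) F) *ᵥ u)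
        ((g : Matrix (Fin d ⊕ Fin d) (Fin d ⊕ Fin d) F) *ᵥ v) = sympBil d F u v := by
      intro u v
      rw [sympBil_apply, sympBil_apply]
      exact Bf_mulVec g.2 u v
    apply isFrame_top_of_gram (sympBil d F) (sympBil_self d)
    · intro i; rw [hinv]; exact hstd.ef_self i
    · intro i j hij; rw [hinv]; exact hstd.ef_ne i j hij
    · intro i j; rw [hinv]; exact hstd.ee i j
    · intro i j; rw [hinv]; exact hstd.ff i j
    · rw [finrank_std, Fintype.card_fin]⟩

theorem frameOfSp_bijective : Function.Bijective (frameOfSp (F := F) d) := by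
  classical
  constructor
  · intro g g' h
    have h1 := congrArg (fun s : Frames (sympBil d F) d => s.1.1) h
    have h2 := congrArg (fun s : Frames (sympBil d F) d => s.1.2) h
    simp only [frameOfSp] at h1 h2
    apply Subtype.ext
    ext a c
    rcases c with i | i
    · have := congrFun (congrFun h2 i) a
      unfold eV at this
      rw [Matrix.mulVec_single_one, Matrix.mulVec_single_one] at this
      exact this
    · have := congrFun (congrFun h1 i) a
      unfold fV at this
      rw [Matrix.mulVec_single_one, Matrix.mulVec_single_one] at this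
      exact this
  · rintro ⟨⟨e, f⟩, hfr⟩
    set G : Matrix (Fin d ⊕ Fin d) (Fin d ⊕ Fin d) F :=
      Matrix.of (fun a c => Sum.elim f e c a) with hG
    have hcol : ∀ c, G *ᵥ Pi.single c 1 = Sum.elim f e c := by
      intro c
      rw [Matrix.mulVec_single_one]
      rfl
    have hstd := isFrame_std (F := F) d
    have hGmem : G ∈ Matrix.symplecticGroup (Fin d) F := by
      apply mem_symplectic_of_preserves
      have hform : (sympBil d F).compl₁₂ (Matrix.toLin' G) (Matrix.toLin' G) = sympBil d F := by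
        apply LinearMap.ext_basis (Pi.basisFun F (Fin d ⊕ Fin d)) (Pi.basisFun F (Fin d ⊕ Fin d))
        intro c c'
        rw [LinearMap.compl₁₂_apply, Pi.basisFun_apply, Pi.basisFun_apply, Matrix.toLin'_apply,
          Matrix.toLin'_apply, hcol, hcol]
        have := gram_eq (sympBil d F) (sympBil d F) (sympBil_self d) (sympBil_self d) hfr hstd c c'
        rw [this]
        rcases c with i | i <;> rcases c' with j | j <;> rfl
      intro u v
      have := LinearMap.congr_fun₂ hform u v
      rw [LinearMap.compl₁₂_apply, Matrix.toLin'_apply, Matrix.toLin'_apply, sympBil_apply,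
        sympBil_apply] at this
      exact this
    refine ⟨⟨G, hGmem⟩, ?_⟩
    apply Subtype.ext
    apply Prod.ext
    · funext i
      show G *ᵥ fV i = e i
      unfold fV
      rw [hcol]
      rfl
    · funext i
      show G *ᵥ eV i = f i
      unfold eV
      rw [hcol]
      rfl

theorem card_frames_std [Fintype F] :
    Nat.card (Frames (sympBil d F) d) = Nat.card (Matrix.symplecticGroup (Fin d) F) :=
  (Nat.card_eq_of_bijective _ (frameOfSp_bijective d)).symm

end standard

section arith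

theorem sq_sub_one (a : ℕ) (ha : 1 ≤ a) : a ^ 2 - 1 = (a - 1) * (a + 1) := by
  obtain ⟨b, rfl⟩ : ∃ b, a = b + 1 := ⟨a - 1, by omega⟩
  have : (b + 1) ^ 2 = (b + 1 - 1) * (b + 1 + 1) + 1 := by
    simp only [Nat.add_sub_cancel]
    ring
  omega

/-- cancelling the order of `GL_d(q)` against that of `Sp_{2d}(q)`. -/
theorem card_cancel (M q d : ℕ) (hq : 2 ≤ q)
    (h : M * ∏ i : Fin d, (q ^ d - q ^ (i : ℕ)) =
      q ^ (d ^ 2) * ∏ i ∈ Finset.range d, (q ^ (2 * (i + 1)) - 1)) :
    M * ∏ i ∈ Finset.range d, q ^ i = q ^ (d ^ 2) * ∏ i ∈ Finset.range d, (q ^ (i + 1) + 1) := by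
  have hq0 : 0 < q := by omega
  have h1 : ∏ i : Fin d, (q ^ d - q ^ (i : ℕ)) =
      (∏ i ∈ Finset.range d, q ^ i) * ∏ i ∈ Finset.range d, (q ^ (i + 1) - 1) := by
    rw [Fin.prod_univ_eq_prod_range (fun i => q ^ d - q ^ i) d,
      ← Finset.prod_range_reflect (fun i => q ^ (i + 1) - 1) d, ← Finset.prod_mul_distrib]
    apply Finset.prod_congr rfl
    intro i hi
    have hid : i < d := Finset.mem_range.1 hi
    have h2 : d - 1 - i + 1 = d - i := by omega
    rw [h2, Nat.mul_sub, mul_one, ← pow_add]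
    congr 2
    omega
  have h2 : ∏ i ∈ Finset.range d, (q ^ (2 * (i + 1)) - 1) =
      (∏ i ∈ Finset.range d, (q ^ (i + 1) - 1)) * ∏ i ∈ Finset.range d, (q ^ (i + 1) + 1) := by
    rw [← Finset.prod_mul_distrib]
    apply Finset.prod_congr rfl
    intro i _
    have : q ^ (2 * (i + 1)) = (q ^ (i + 1)) ^ 2 := by rw [← pow_mul, mul_comm]
    rw [this, sq_sub_one _ (Nat.one_le_pow _ _ hq0)]
  rw [h1, h2] at h
  have hP : 0 < ∏ i ∈ Finset.range d, (q ^ (i + 1) - 1) := by
    apply Finset.prod_pos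
    intro i _
    have : 2 ≤ q ^ (i + 1) := by
      calc 2 ≤ q := hq
        _ = q ^ 1 := (pow_one q).symm
        _ ≤ q ^ (i + 1) := Nat.pow_le_pow_right hq0 (by omega)
    omega
  apply Nat.eq_of_mul_eq_mul_right hP
  calc (M * ∏ i ∈ Finset.range d, q ^ i) * ∏ i ∈ Finset.range d, (q ^ (i + 1) - 1)
      = M * ((∏ i ∈ Finset.range d, q ^ i) * ∏ i ∈ Finset.range d, (q ^ (i + 1) - 1)) := by ring
    _ = q ^ (d ^ 2) * ((∏ i ∈ Finset.range d, (q ^ (i + 1) - 1)) *
        ∏ i ∈ Finset.range d, (q ^ (i + 1) + 1)) := h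
    _ = _ := by ring

end arith

section main

variable {F : Type*} [Field F] [Fintype F] (d : ℕ)

/-- the number of ordered pairs of complementary Lagrangians of the standard space. -/
theorem card_pairs_mul :
    Nat.card (Pairs (sympBil d F)) * ∏ i ∈ Finset.range d, Fintype.card F ^ i =
      Fintype.card F ^ (d ^ 2) * ∏ i ∈ Finset.range d, (Fintype.card F ^ (i + 1) + 1) := by
  apply card_cancel _ _ _ Fintype.one_lt_card
  rw [← card_frames_eq (sympBil d F) (sympBil_self d) (sympBil_sep d) d (finrank_std d),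
    card_frames_std, Cfsg.Agent.Helper2.Symp.card_symplecticGroup]

/-- the type of pairs in the form used by the statements. -/
theorem card_pairs_eq :
    Nat.card {P : Submodule F (Fin d ⊕ Fin d → F) × Submodule F (Fin d ⊕ Fin d → F) //
      IsCompl P.1 P.2 ∧ (∀ u ∈ P.1, ∀ v ∈ P.1, Cfsg.sympForm d F u v = 0) ∧
      (∀ u ∈ P.2, ∀ v ∈ P.2, Cfsg.sympForm d F u v = 0)} = Nat.card (Pairs (sympBil d F)) := by
  apply Nat.card_congr
  apply Equiv.subtypeEquivRight
  intro P
  simp only [sympBil_apply]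

/-- an odd prime other than the characteristic dividing half the number of Lagrangian pairs
divides some `q ^ j + 1` with `1 ≤ j ≤ d`. -/
theorem exists_dvd_of_dvd_card_pairs {p : ℕ} [Fact p.Prime] [CharP F p] (hd : 1 ≤ d)
    (hodd : Odd (Fintype.card F)) (r : ℕ) (hr : r.Prime) (hrp : r ≠ p)
    (h : r ∣ Nat.card {P : Submodule F (Fin d ⊕ Fin d → F) × Submodule F (Fin d ⊕ Fin d → F) //
      IsCompl P.1 P.2 ∧ (∀ u ∈ P.1, ∀ v ∈ P.1, Cfsg.sympForm d F u v = 0) ∧
      (∀ u ∈ P.2, ∀ v ∈ P.2, Cfsg.sympForm d F u v = 0)} / 2) :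
    ∃ j, 1 ≤ j ∧ j ≤ d ∧ r ∣ Fintype.card F ^ j + 1 := by
  rw [card_pairs_eq] at h
  have hmul := card_pairs_mul (F := F) d
  set M := Nat.card (Pairs (sympBil d F)) with hM
  set q := Fintype.card F with hq
  have hp : p.Prime := Fact.out
  obtain ⟨k, hk, hqk⟩ := Cfsg.Agent.Helper13.SS.exists_card_pow (F := F) (p := p) (q := q) rfl
  have hQodd : ¬ 2 ∣ ∏ i ∈ Finset.range d, q ^ i := by
    rw [Nat.prime_two.prime.dvd_finset_prod_iff]
    rintro ⟨i, _, hi⟩
    have := Nat.prime_two.dvd_of_dvd_pow hi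
    rw [Nat.odd_iff] at hodd
    omega
  have h2M : 2 ∣ M := by
    have h2 : 2 ∣ M * ∏ i ∈ Finset.range d, q ^ i := by
      rw [hmul]
      apply Dvd.dvd.mul_left
      apply Dvd.dvd.trans _ (Finset.dvd_prod_of_mem _ (Finset.mem_range.2 hd))
      rw [Nat.odd_iff] at hodd
      simp only [zero_add, pow_one]
      omega
    rcases (Nat.Prime.dvd_mul Nat.prime_two).1 h2 with h3 | h3
    · exact h3
    · exact absurd h3 hQodd
  have hrM : r ∣ M := by
    obtain ⟨c, hc⟩ := h2M
    rw [hc, Nat.mul_div_cancel_left c (by norm_num)] at h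
    rw [hc]
    exact Dvd.dvd.mul_left h 2
  have hrq : ¬ r ∣ q := by
    intro h1
    rw [hqk] at h1
    exact hrp ((Nat.prime_dvd_prime_iff_eq hr hp).1 (hr.dvd_of_dvd_pow h1))
  have h3 : r ∣ q ^ (d ^ 2) * ∏ i ∈ Finset.range d, (q ^ (i + 1) + 1) := by
    rw [← hmul]
    exact Dvd.dvd.mul_right hrM _
  rcases (Nat.Prime.dvd_mul hr).1 h3 with h4 | h4
  · exact absurd (hr.dvd_of_dvd_pow h4) hrq
  · rw [hr.prime.dvd_finset_prod_iff] at h4
    obtain ⟨i, hi, hdvd⟩ := h4
    exact ⟨i + 1, by omega, by have := Finset.mem_range.1 hi; omega, hdvd⟩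

end main

end Cfsg.Agent.Helper13.LagCount

namespace Cfsg.Agent.Helper13.LagCount

/-- if `r` is an odd prime dividing `q ^ j + 1` then the order of `q` modulo `r` is even and
divides `2 j`. -/
theorem even_orderOf_of_dvd_pow_add_one (r : ℕ) [Fact r.Prime] (hr2 : r ≠ 2) (q j : ℕ)
    (h : r ∣ q ^ j + 1) :
    Even (orderOf (q : ZMod r)) ∧ orderOf (q : ZMod r) ∣ 2 * j := by
  have hr : r.Prime := Fact.out
  have h1 : (q : ZMod r) ^ j = -1 := by
    have := (ZMod.natCast_eq_zero_iff (q ^ j + 1) r).2 h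
    push_cast at this
    exact eq_neg_of_add_eq_zero_left this
  have h2 : (q : ZMod r) ^ (2 * j) = 1 := by
    rw [mul_comm, pow_mul, h1]
    ring
  have hdvd : orderOf (q : ZMod r) ∣ 2 * j := orderOf_dvd_of_pow_eq_one h2
  refine ⟨?_, hdvd⟩
  by_contra hodd
  rw [Nat.not_even_iff_odd] at hodd
  have hcop : Nat.Coprime (orderOf (q : ZMod r)) 2 := Nat.Coprime.symm (Nat.coprime_two_left.2 hodd)
  have h3 : orderOf (q : ZMod r) ∣ j := hcop.dvd_of_dvd_mul_left hdvd
  have h4 : (q : ZMod r) ^ j = 1 := orderOf_dvd_iff_pow_eq_one.1 h3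
  rw [h1] at h4
  have h5 : (2 : ZMod r) = 0 := by
    have : (1 : ZMod r) + 1 = 0 := by
      nth_rewrite 1 [← h4]
      ring
    rw [← this]
    ring
  have h6 : ((2 : ℕ) : ZMod r) = 0 := by exact_mod_cast h5
  rw [ZMod.natCast_eq_zero_iff] at h6
  exact hr2 ((Nat.prime_dvd_prime_iff_eq hr Nat.prime_two).1 h6)

end Cfsg.Agent.Helper13.LagCount
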