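import Mathlib

set_option autoImplicit false

/-!
# Fixed vectors of injective Frobenius-semilinear maps over an algebraically closed field
-/

namespace Cfsg.Agent.Helper13.Lang

open Polynomial Module

section poly
variable {K : Type*} [Field K]

/-- the coefficient polynomials -/
noncomputable def coefPoly (Q : ℕ) (c : ℕ → K) : ℕ → K[X]
  | 0 => C (c 0) * X
  | (i + 1) => (coefPoly Q c i) ^ Q + C (c (i + 1)) * X

theorem coefPoly_zero (Q : ℕ) (c : ℕ → K) : coefPoly Q c 0 = C (c 0) * X := rfl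

theorem coefPoly_succ (Q : ℕ) (c : ℕ → K) (i : ℕ) :
    coefPoly Q c (i + 1) = (coefPoly Q c i) ^ Q + C (c (i + 1)) * X := rfl

theorem X_dvd_coefPoly {Q : ℕ} (hQ : 2 ≤ Q) (c : ℕ → K) (i : ℕ) : X ∣ coefPoly Q c i := by
  induction i with
  | zero => exact Dvd.intro_left _ rfl
  | succ i ih =>
    rw [coefPoly_succ]
    apply dvd_add
    · exact dvd_trans ih (dvd_pow_self _ (by omega))
    · exact Dvd.intro_left _ rfl

theorem coefPoly_natDegree {Q : ℕ} (hQ : 2 ≤ Q) (c : ℕ → K) (hc0 : c 0 ≠ 0) (i : ℕ) :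
    (coefPoly Q c i).natDegree = Q ^ i := by
  induction i with
  | zero =>
    rw [coefPoly_zero, natDegree_C_mul_X _ hc0, pow_zero]
  | succ i ih =>
    rw [coefPoly_succ]
    have h1 : ((coefPoly Q c i) ^ Q).natDegree = Q ^ (i + 1) := by
      rw [natDegree_pow, ih, pow_succ, mul_comm]
    have h2 : (C (c (i + 1)) * X : K[X]).natDegree ≤ 1 := by
      calc (C (c (i + 1)) * X : K[X]).natDegree ≤ (C (c (i + 1)) : K[X]).natDegree + (X : K[X]).natDegree :=
            natDegree_mul_le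
        _ ≤ 0 + 1 := by
            apply Nat.add_le_add
            · rw [natDegree_C]
            · exact natDegree_X_le
        _ = 1 := by norm_num
    have h3 : 1 < Q ^ (i + 1) := Nat.one_lt_pow (by omega) (by omega)
    rw [natDegree_add_eq_left_of_natDegree_lt (by omega), h1]

variable [IsAlgClosed K]

theorem exists_root_coefPoly {Q : ℕ} (hQ : 2 ≤ Q) (c : ℕ → K) (hc0 : c 0 ≠ 0) (m : ℕ) :
    ∃ t : K, t ≠ 0 ∧ (eval t (coefPoly Q c m)) ^ Q = t := by
  set A := coefPoly Q c m with hA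
  set P : K[X] := A ^ Q - X with hP
  obtain ⟨B, hB⟩ := X_dvd_coefPoly hQ c m
  have hAQ : A ^ Q = X * (X ^ (Q - 1) * B ^ Q) := by
    rw [← hA] at hB
    rw [hB, mul_pow, ← mul_assoc, ← pow_succ', Nat.sub_add_cancel (by omega)]
  have hPX : P = X * (X ^ (Q - 1) * B ^ Q - 1) := by
    rw [hP, hAQ]
    ring
  set R : K[X] := X ^ (Q - 1) * B ^ Q - 1 with hR
  have hR0 : R.coeff 0 = -1 := by
    rw [hR, coeff_sub, coeff_one_zero, coeff_X_pow_mul', if_neg (by omega), zero_sub]
  have hPdeg : P.natDegree = Q ^ (m + 1) := by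
    have h1 : (A ^ Q).natDegree = Q ^ (m + 1) := by
      rw [natDegree_pow, hA, coefPoly_natDegree hQ c hc0, pow_succ, mul_comm]
    have h3 : 1 < Q ^ (m + 1) := Nat.one_lt_pow (by omega) (by omega)
    rw [hP, natDegree_sub_eq_left_of_natDegree_lt (by rw [natDegree_X, h1]; exact h3), h1]
  have hRne : R ≠ 0 := by
    intro h
    rw [h, coeff_zero] at hR0
    exact absurd hR0 (by norm_num)
  have hRdeg : R.natDegree + 1 = Q ^ (m + 1) := by
    rw [← hPdeg, hPX, natDegree_X_mul hRne]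
  have hRdeg' : R.degree ≠ 0 := by
    intro h
    have h1 : R.natDegree = 0 := natDegree_eq_zero_iff_degree_le_zero.2 h.le
    have h3 : 1 < Q ^ (m + 1) := Nat.one_lt_pow (by omega) (by omega)
    omega
  obtain ⟨t, ht⟩ := IsAlgClosed.exists_root R hRdeg'
  refine ⟨t, ?_, ?_⟩
  · intro h0
    rw [h0, IsRoot.def, ← coeff_zero_eq_eval_zero, hR0] at ht
    exact absurd ht (by norm_num)
  · have h1 : eval t P = 0 := by
      rw [hPX, eval_mul, ht.eq_zero, mul_zero]
    rw [hP, eval_sub, eval_pow, eval_X, sub_eq_zero] at h1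
    exact h1

theorem exists_artin_schreier {Q : ℕ} (hQ : 2 ≤ Q) (c : K) : ∃ t : K, t - t ^ Q = c := by
  set P : K[X] := X ^ Q - X + C c with hP
  have hdeg : P.natDegree = Q := by
    rw [hP, natDegree_add_C, natDegree_sub_eq_left_of_natDegree_lt (by
      rw [natDegree_X, natDegree_X_pow]; omega), natDegree_X_pow]
  have hdeg' : P.degree ≠ 0 := by
    intro h
    have h1 : P.natDegree = 0 := natDegree_eq_zero_iff_degree_le_zero.2 h.le
    omega
  obtain ⟨t, ht⟩ := IsAlgClosed.exists_root P hdeg'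
  refine ⟨t, ?_⟩
  rw [IsRoot.def, hP, eval_add, eval_sub, eval_pow, eval_X, eval_C] at ht
  linear_combination -ht

end poly

section semilinear
variable {K : Type*} [Field K] [IsAlgClosed K] {σ : K →+* K}
variable {V : Type*} [AddCommGroup V] [Module K V]

/-- the span of the first `j` iterates -/
def iterSpan (φ : V →ₛₗ[σ] V) (v₀ : V) (j : ℕ) : Submodule K V :=
  Submodule.span K (Set.range (fun i : Fin j => (φ^[i]) v₀))

theorem sum_mem_iterSpan (φ : V →ₛₗ[σ] V) (v₀ : V) (j : ℕ) (d : ℕ → K) :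
    ∑ i ∈ Finset.range j, d i • (φ^[i]) v₀ ∈ iterSpan φ v₀ j := by
  apply Submodule.sum_mem
  intro i hi
  apply Submodule.smul_mem
  exact Submodule.subset_span ⟨⟨i, Finset.mem_range.1 hi⟩, rfl⟩

theorem exists_sum_of_mem_iterSpan (φ : V →ₛₗ[σ] V) (v₀ : V) (j : ℕ) (x : V)
    (hx : x ∈ iterSpan φ v₀ j) :
    ∃ d : ℕ → K, x = ∑ i ∈ Finset.range j, d i • (φ^[i]) v₀ := by
  unfold iterSpan at hx
  rw [Submodule.mem_span_range_iff_exists_fun] at hx
  obtain ⟨c, hc⟩ := hx
  refine ⟨fun i => if h : i < j then c ⟨i, h⟩ else 0, ?_⟩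
  rw [← hc, ← Fin.sum_univ_eq_sum_range (fun i => (if h : i < j then c ⟨i, h⟩ else 0) • (φ^[i]) v₀)]
  apply Finset.sum_congr rfl
  intro i _
  rw [dif_pos i.2]

theorem iterSpan_le_succ (φ : V →ₛₗ[σ] V) (v₀ : V) (j : ℕ) :
    iterSpan φ v₀ j ≤ iterSpan φ v₀ (j + 1) := by
  unfold iterSpan
  rw [Submodule.span_le]
  rintro x ⟨i, rfl⟩
  exact Submodule.subset_span ⟨⟨i, by omega⟩, rfl⟩

theorem iter_mem_iterSpan_succ (φ : V →ₛₗ[σ] V) (v₀ : V) (j : ℕ) :
    (φ^[j]) v₀ ∈ iterSpan φ v₀ (j + 1) :=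
  Submodule.subset_span ⟨⟨j, by omega⟩, rfl⟩

variable [FiniteDimensional K V]

theorem exists_iter_mem_iterSpan (φ : V →ₛₗ[σ] V) (v₀ : V) :
    ∃ m : ℕ, (φ^[m]) v₀ ∈ iterSpan φ v₀ m := by
  by_contra hcon
  push Not at hcon
  have hlt : ∀ j, j ≤ finrank K (iterSpan φ v₀ j) := by
    intro j
    induction j with
    | zero => exact Nat.zero_le _
    | succ j ih =>
      have h1 : iterSpan φ v₀ j < iterSpan φ v₀ (j + 1) := by
        apply lt_of_le_of_ne (iterSpan_le_succ φ v₀ j)
        intro h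
        apply hcon j
        rw [h]
        exact iter_mem_iterSpan_succ φ v₀ j
      have h2 := Submodule.finrank_lt_finrank_of_lt h1
      omega
  have h1 := hlt (finrank K V + 1)
  have h2 := Submodule.finrank_le (iterSpan φ v₀ (finrank K V + 1))
  omega

/-- an injective semilinear map with respect to a surjective power map has a nonzero fixed
vector -/
theorem exists_fixed_ne_zero {Q : ℕ} (hQ : 2 ≤ Q) (hσ : ∀ x, σ x = x ^ Q)
    (hσs : Function.Surjective σ) (φ : V →ₛₗ[σ] V) (hφ : Function.Injective φ) (v₀ : V)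
    (hv₀ : v₀ ≠ 0) : ∃ w : V, w ≠ 0 ∧ φ w = w := by
  classical
  have hex := exists_iter_mem_iterSpan φ v₀
  set m := Nat.find hex with hm
  have hmem : (φ^[m]) v₀ ∈ iterSpan φ v₀ m := Nat.find_spec hex
  have hm0 : m ≠ 0 := by
    intro h0
    rw [h0] at hmem
    unfold iterSpan at hmem
    have : Set.range (fun i : Fin 0 => (φ^[(i : ℕ)]) v₀) = ∅ := Set.range_eq_empty _
    rw [this, Submodule.span_empty, Submodule.mem_bot] at hmem
    exact hv₀ hmem
  obtain ⟨m', hm'⟩ := Nat.exists_eq_succ_of_ne_zero hm0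
  have hnot : (φ^[m']) v₀ ∉ iterSpan φ v₀ m' := by
    apply Nat.find_min hex
    rw [← hm, hm']
    exact Nat.lt_succ_self m'
  rw [hm'] at hmem
  obtain ⟨c, hc⟩ := exists_sum_of_mem_iterSpan φ v₀ (m' + 1) _ hmem
  set e : ℕ → V := fun i => (φ^[i]) v₀ with he
  have hes : ∀ i, e (i + 1) = φ (e i) := by
    intro i
    exact Function.iterate_succ_apply' _ _ _
  have hc' : e (m' + 1) = ∑ i ∈ Finset.range (m' + 1), c i • e i := hc
  -- the constant coefficient is nonzero
  have hc0 : c 0 ≠ 0 := by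
    intro h0
    rw [Finset.sum_range_succ', h0, zero_smul, add_zero] at hc'
    choose d hd using fun i => hσs (c (i + 1))
    have h1 : φ (e m') = φ (∑ i ∈ Finset.range m', d i • e i) := by
      rw [← hes, hc', map_sum]
      apply Finset.sum_congr rfl
      intro i _
      rw [LinearMap.map_smulₛₗ, hd, hes]
    have h2 := hφ h1
    apply hnot
    show e m' ∈ _
    rw [h2]
    exact sum_mem_iterSpan φ v₀ m' d
  obtain ⟨t, ht0, ht⟩ := exists_root_coefPoly hQ c hc0 m'
  set a : ℕ → K := fun i => eval t (coefPoly Q c i) with ha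
  have ha0 : a 0 = c 0 * t := by
    simp only [ha, coefPoly_zero, eval_mul, eval_C, eval_X]
  have has : ∀ i, a (i + 1) = (a i) ^ Q + c (i + 1) * t := by
    intro i
    simp only [ha, coefPoly_succ, eval_add, eval_pow, eval_mul, eval_C, eval_X]
  have hat : (a m') ^ Q = t := ht
  have ham : a m' ≠ 0 := by
    intro h
    rw [h, zero_pow (by omega)] at hat
    exact ht0 hat.symm
  set w : V := ∑ i ∈ Finset.range (m' + 1), a i • e i with hw
  refine ⟨w, ?_, ?_⟩
  · intro hw0
    rw [hw, Finset.sum_range_succ] at hw0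
    apply hnot
    show e m' ∈ _
    have h1 : e m' = (a m')⁻¹ • (a m' • e m') := by
      rw [smul_smul, inv_mul_cancel₀ ham, one_smul]
    have h2 : a m' • e m' = -∑ i ∈ Finset.range m', a i • e i := by
      rw [eq_neg_iff_add_eq_zero, add_comm]
      exact hw0
    rw [h1, h2]
    apply Submodule.smul_mem
    apply Submodule.neg_mem
    exact sum_mem_iterSpan φ v₀ m' a
  · have h1 : φ w = ∑ i ∈ Finset.range (m' + 1), (a i) ^ Q • e (i + 1) := by
      rw [hw, map_sum]
      apply Finset.sum_congr rfl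
      intro i _
      rw [LinearMap.map_smulₛₗ, hσ, hes]
    rw [h1, Finset.sum_range_succ, hat, hc', hw, Finset.sum_range_succ' (fun i => a i • e i),
      Finset.sum_range_succ' (fun i => c i • e i), ha0, smul_add, Finset.smul_sum,
      ← add_assoc, ← Finset.sum_add_distrib]
    congr 1
    · apply Finset.sum_congr rfl
      intro i _
      rw [has, add_smul, smul_smul, mul_comm]
    · rw [smul_smul, mul_comm]

/-- the span of the fixed vectors -/
def fixedSpan (φ : V →ₛₗ[σ] V) : Submodule K V :=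
  Submodule.span K {v : V | φ v = v}

omit [IsAlgClosed K] [FiniteDimensional K V] in
theorem fixedSpan_le_comap (φ : V →ₛₗ[σ] V) : fixedSpan φ ≤ (fixedSpan φ).comap φ := by
  unfold fixedSpan
  rw [Submodule.span_le]
  intro v hv
  rw [Set.mem_setOf_eq] at hv
  rw [SetLike.mem_coe, Submodule.mem_comap, hv]
  exact Submodule.subset_span hv

omit [IsAlgClosed K] [FiniteDimensional K V] in
/-- every element of the span of fixed vectors is the image of one -/
theorem exists_preimage_of_mem_fixedSpan (hσs : Function.Surjective σ) (φ : V →ₛₗ[σ] V)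
    (x : V) (hx : x ∈ fixedSpan φ) : ∃ y ∈ fixedSpan φ, φ y = x := by
  unfold fixedSpan at hx
  induction hx using Submodule.span_induction with
  | mem v hv => exact ⟨v, Submodule.subset_span hv, hv⟩
  | zero => exact ⟨0, Submodule.zero_mem _, map_zero _⟩
  | add x y _ _ hx hy =>
    obtain ⟨x', hx', hx''⟩ := hx
    obtain ⟨y', hy', hy''⟩ := hy
    exact ⟨x' + y', Submodule.add_mem _ hx' hy', by rw [map_add, hx'', hy'']⟩
  | smul c x _ hx =>
    obtain ⟨x', hx', hx''⟩ := hx
    obtain ⟨d, hd⟩ := hσs c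
    exact ⟨d • x', Submodule.smul_mem _ _ hx', by rw [LinearMap.map_smulₛₗ, hd, hx'']⟩

omit [FiniteDimensional K V] in
/-- Artin–Schreier in the span of the fixed vectors -/
theorem exists_sub_of_mem_fixedSpan {Q : ℕ} (hQ : 2 ≤ Q) (hσ : ∀ x, σ x = x ^ Q)
    (φ : V →ₛₗ[σ] V) (x : V) (hx : x ∈ fixedSpan φ) :
    ∀ c : K, ∃ s ∈ fixedSpan φ, s - φ s = c • x := by
  unfold fixedSpan at hx
  induction hx using Submodule.span_induction with
  | mem v hv =>
    intro c
    rw [Set.mem_setOf_eq] at hv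
    obtain ⟨t, ht⟩ := exists_artin_schreier hQ c
    refine ⟨t • v, Submodule.smul_mem _ _ (Submodule.subset_span hv), ?_⟩
    rw [LinearMap.map_smulₛₗ, hσ, hv, ← sub_smul, ht]
  | zero =>
    intro c
    exact ⟨0, Submodule.zero_mem _, by simp⟩
  | add x y _ _ hx hy =>
    intro c
    obtain ⟨x', hx', hx''⟩ := hx c
    obtain ⟨y', hy', hy''⟩ := hy c
    refine ⟨x' + y', Submodule.add_mem _ hx' hy', ?_⟩
    rw [map_add, smul_add, ← hx'', ← hy'']
    abel
  | smul a x _ hx =>
    intro c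
    obtain ⟨x', hx', hx''⟩ := hx (c * a)
    exact ⟨x', hx', by rw [hx'', mul_smul]⟩

/-- the fixed vectors of an injective Frobenius-semilinear map span the space -/
theorem fixedSpan_eq_top {Q : ℕ} (hQ : 2 ≤ Q) (hσ : ∀ x, σ x = x ^ Q)
    (hσs : Function.Surjective σ) (φ : V →ₛₗ[σ] V) (hφ : Function.Injective φ) :
    fixedSpan φ = ⊤ := by
  by_contra hne
  set W := fixedSpan φ with hW
  have hlt : W < ⊤ := lt_top_iff_ne_top.2 hne
  haveI : Nontrivial (V ⧸ W) := Submodule.Quotient.nontrivial_iff.2 hne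
  set ψ : (V ⧸ W) →ₛₗ[σ] (V ⧸ W) := W.mapQ W φ (fixedSpan_le_comap φ) with hψ
  have hψinj : Function.Injective ψ := by
    rw [← LinearMap.ker_eq_bot, LinearMap.ker_eq_bot']
    intro x hx
    obtain ⟨u, rfl⟩ := Submodule.Quotient.mk_surjective W x
    rw [hψ, Submodule.mapQ_apply, Submodule.Quotient.mk_eq_zero] at hx
    obtain ⟨y, hy, hy'⟩ := exists_preimage_of_mem_fixedSpan hσs φ _ hx
    have : y = u := hφ hy'
    rw [Submodule.Quotient.mk_eq_zero, ← this]
    exact hy
  obtain ⟨x₀, hx₀⟩ := exists_ne (0 : V ⧸ W)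
  obtain ⟨x, hx0, hx⟩ := exists_fixed_ne_zero hQ hσ hσs ψ hψinj x₀ hx₀
  obtain ⟨u, rfl⟩ := Submodule.Quotient.mk_surjective W x
  rw [hψ, Submodule.mapQ_apply, Submodule.Quotient.eq] at hx
  obtain ⟨s, hs, hs'⟩ := exists_sub_of_mem_fixedSpan hQ hσ φ _ hx 1
  rw [one_smul] at hs'
  have hfix : φ (u + s) = u + s := by
    rw [map_add]
    have : φ s = s - (φ u - u) := by rw [← hs']; abel
    rw [this]
    abel
  have hmem : u + s ∈ W := Submodule.subset_span hfix
  have hu : u ∈ W := by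
    have := Submodule.sub_mem _ hmem hs
    rwa [add_sub_cancel_right] at this
  apply hx0
  rw [Submodule.Quotient.mk_eq_zero]
  exact hu

end semilinear

end Cfsg.Agent.Helper13.Lang
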