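import Mathlib
import Cfsg.Agent.Lib.Helper3.M24IdxDefs
import Cfsg.Agent.Lib.Helper29.SchurM24a

/-!
# S1589, piece IDX-P0B: a subgroup of `M24` of order divisible by 1024 has a conjugate containing `P0`
-/

set_option autoImplicit false
open Cfsg

namespace Cfsg.Agent.Helper3.M24Idx

open Cfsg.Agent.Helper27 Cfsg.Agent.Helper29 Cfsg.Agent.Helper29.M24
open Cfsg.Agent.Helper29.M23Idx
open Cfsg.Agent.Helper29.FusM23 (Q23)
open Cfsg.Agent.Helper29.Syl2 (P0)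
open Cfsg.Agent.Helper29.IdxTools
open Cfsg.Agent.S0358 (idx)
open scoped Pointwise

theorem m24idx_p0b_fact2 : (244823040 : ℕ).factorization 2 = 10 := by
  have h : (244823040 : ℕ) = 2 ^ 10 * 239085 := by norm_num
  rw [h, Nat.factorization_mul (by norm_num) (by norm_num), Finsupp.add_apply,
    Nat.factorization_pow, Finsupp.smul_apply, Nat.prime_two.factorization_self,
    Nat.factorization_eq_zero_of_not_dvd (by norm_num)]
  rfl

/-- IDX-P0B -/
theorem conj_to_P0 (K : Subgroup (Equiv.Perm GolayPt)) (hKM : K ≤ Cfsg.M24)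
    (h : 1024 ∣ Nat.card K) : ∃ g ∈ Cfsg.M24, P0 ≤ conjS g K := by
  have : Fact (Nat.Prime 2) := ⟨Nat.prime_two⟩
  have : Finite ↥Cfsg.M24 := Nat.finite_of_card_ne_zero (by rw [card_M24]; norm_num)
  obtain ⟨S, hS⟩ := SchurM24.sylow2
  have hcS : Nat.card (S : Subgroup ↥Cfsg.M24) = 1024 := by
    rw [S.card_eq_multiplicity, card_M24, m24idx_p0b_fact2]
    norm_num
  have hcK : Nat.card (K.subgroupOf Cfsg.M24) = Nat.card K :=
    Nat.card_congr (Subgroup.subgroupOfEquivOfLe hKM).toEquiv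
  obtain ⟨h0, hh0⟩ := exists_conj_sylow_le 2 S (K.subgroupOf Cfsg.M24)
    (by rw [hcS, hcK]; exact h)
  have hh0M : (h0 : Equiv.Perm GolayPt) ∈ Cfsg.M24 := h0.2
  refine ⟨(h0 : Equiv.Perm GolayPt)⁻¹, Subgroup.inv_mem _ hh0M, ?_⟩
  intro q hq
  rw [mem_conjS, inv_inv]
  have hqM : q ∈ Cfsg.M24 := SchurM24.P0_le_M24 hq
  have h1 : (⟨q, hqM⟩ : ↥Cfsg.M24) ∈ (S : Subgroup ↥Cfsg.M24) := by
    rw [hS]
    exact Subgroup.mem_subgroupOf.2 hq
  have h2 := hh0 _ h1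
  rw [Subgroup.mem_subgroupOf] at h2
  simpa using h2

end Cfsg.Agent.Helper3.M24Idx
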