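import Mathlib

/-!
# Orders of matrices over finite fields

* `exists_dvd_card_pow_sub_one`, `exists_dvd_of_prime_pow_dvd_orderOf`: if a prime power `r^a`
  (`r` not the characteristic) divides the order of an `n × n` matrix over a field with `q`
  elements then `r^a ∣ q^d - 1` for some `1 ≤ d ≤ n`.
* `exists_singer`, `exists_orderOf_eq_card_pow_sub_one`: matrices of order `q^d - 1`.
* `exists_short_tuple`, `range_orderOf_pi_eq`: abstract lemmas on the spectrum of a direct power.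
-/

set_option autoImplicit false
set_option linter.style.haveILetI false
set_option linter.unusedSectionVars false

namespace Cfsg.Agent.Helper13.MatOrd

open Polynomial

variable {F : Type*} [Field F] [Fintype F]


/-- A matrix of prime-power order `r^a` (with `r` invertible in `F`) forces `r^a ∣ q^d - 1`
for some `1 ≤ d ≤ n`. -/
theorem exists_dvd_card_pow_sub_one {n : Type*} [Fintype n] [DecidableEq n]
    (A : Matrix n n F) (r a : ℕ) (hr : r.Prime) (hrF : (r : F) ≠ 0) (ha : 1 ≤ a)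
    (hA : A ^ (r ^ a) = 1) (hA' : A ^ (r ^ (a - 1)) ≠ 1) :
    ∃ d, 1 ≤ d ∧ d ≤ Fintype.card n ∧ r ^ a ∣ Fintype.card F ^ d - 1 := by
  classical
  set μ := minpoly F A with hμdef
  have hμ0 : μ ≠ 0 := minpoly.ne_zero (Matrix.isIntegral A)
  set P : F[X] := X ^ (r ^ (a - 1)) - 1 with hP
  set Φ : F[X] := ∑ j ∈ Finset.range r, (X ^ (r ^ (a - 1))) ^ j with hΦ
  have hQ : P * Φ = X ^ (r ^ a) - 1 := by
    rw [hP, hΦ, mul_geom_sum, ← pow_mul, ← pow_succ, Nat.sub_add_cancel ha]
  have hμQ : μ ∣ X ^ (r ^ a) - 1 := minpoly.dvd F A (by simp [hA])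
  have hμP : ¬ μ ∣ P := by
    intro h
    apply hA'
    have := (minpoly.dvd_iff (A := F) (x := A)).mp h
    simpa [hP, sub_eq_zero] using this
  have hsep : (X ^ (r ^ a) - 1 : F[X]).Separable := by
    have := separable_X_pow_sub_C (1 : F) (n := r ^ a)
      (by simpa using pow_ne_zero a hrF) one_ne_zero
    simpa using this
  have hncop : ¬ IsCoprime μ Φ := fun h =>
    hμP (h.dvd_of_dvd_mul_right (hQ ▸ hμQ))
  obtain ⟨f, hf, hfμ, hfΦ⟩ : ∃ f, Irreducible f ∧ f ∣ μ ∧ f ∣ Φ := by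
    by_contra hcon
    push Not at hcon
    exact hncop (isCoprime_of_irreducible_dvd (fun h => hμ0 h.1)
      (fun z hz hzμ hzΦ => hcon z hz hzμ hzΦ))
  haveI : Fact (Irreducible f) := ⟨hf⟩
  set α : AdjoinRoot f := AdjoinRoot.root f with hα
  have hmk : ∀ g : F[X], f ∣ g → aeval α g = 0 := by
    intro g hg
    rw [AdjoinRoot.aeval_eq]
    exact AdjoinRoot.mk_eq_zero.mpr hg
  have h1 : α ^ (r ^ a) = 1 := by
    have := hmk _ (hfμ.trans hμQ)
    simpa [sub_eq_zero] using this
  have hrK : ((r : ℕ) : AdjoinRoot f) ≠ 0 := by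
    have : ((r : ℕ) : AdjoinRoot f) = algebraMap F (AdjoinRoot f) (r : F) := by simp
    rw [this]
    exact (_root_.map_ne_zero _).mpr hrF
  have h2 : ¬ α ^ (r ^ (a - 1)) = 1 := by
    intro h
    have := hmk _ hfΦ
    simp [hΦ, h] at this
    exact hrK this
  haveI : Fact r.Prime := ⟨hr⟩
  have hord : orderOf α = r ^ a := by
    have := orderOf_eq_prime_pow (x := α) (p := r) (n := a - 1) h2
      (by rwa [Nat.sub_add_cancel ha])
    rwa [Nat.sub_add_cancel ha] at this
  have hα0 : α ≠ 0 := by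
    intro h
    rw [h, zero_pow (pow_ne_zero _ hr.ne_zero)] at h1
    exact zero_ne_one h1
  haveI : Module.Finite F (AdjoinRoot f) := (AdjoinRoot.powerBasis hf.ne_zero).finite
  haveI : Finite (AdjoinRoot f) := Module.finite_of_finite F
  haveI : Fintype (AdjoinRoot f) := Fintype.ofFinite _
  have hcard : Fintype.card (AdjoinRoot f) = Fintype.card F ^ f.natDegree := by
    rw [Module.card_eq_pow_finrank (K := F), (AdjoinRoot.powerBasis hf.ne_zero).finrank,
      AdjoinRoot.powerBasis_dim]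
  refine ⟨f.natDegree, hf.natDegree_pos, ?_, ?_⟩
  · calc f.natDegree ≤ μ.natDegree := natDegree_le_of_dvd hfμ hμ0
      _ ≤ A.charpoly.natDegree :=
        natDegree_le_of_dvd (Matrix.minpoly_dvd_charpoly A) (Matrix.charpoly_monic A).ne_zero
      _ = Fintype.card n := Matrix.charpoly_natDegree_eq_dim A
  · rw [← hcard, ← Fintype.card_units, ← hord]
    have : orderOf (Units.mk0 α hα0) = orderOf α := by
      rw [← orderOf_units, Units.val_mk0]
    rw [← this]
    exact orderOf_dvd_card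


theorem exists_dvd_of_prime_pow_dvd_orderOf {n : Type*} [Fintype n] [DecidableEq n]
    (A : Matrix n n F) (r a : ℕ) (hr : r.Prime) (hrF : (r : F) ≠ 0) (ha : 1 ≤ a)
    (hpos : 0 < orderOf A) (h : r ^ a ∣ orderOf A) :
    ∃ d, 1 ≤ d ∧ d ≤ Fintype.card n ∧ r ^ a ∣ Fintype.card F ^ d - 1 := by
  have hra : 0 < r ^ a := pow_pos hr.pos a
  set B := A ^ (orderOf A / r ^ a) with hB
  have hordB : orderOf B = r ^ a := by
    rw [hB, orderOf_pow_of_dvd (Nat.div_pos (Nat.le_of_dvd hpos h) hra).ne'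
      (Nat.div_dvd_of_dvd h), Nat.div_div_self h hpos.ne']
  apply exists_dvd_card_pow_sub_one B r a hr hrF ha
  · rw [← hordB]; exact pow_orderOf_eq_one B
  · intro h1
    have := orderOf_dvd_of_pow_eq_one h1
    rw [hordB] at this
    have := (Nat.pow_dvd_pow_iff_le_right hr.one_lt).mp this
    omega


theorem prime_pow_dvd_lcm_two {r a x y : ℕ} (hr : r.Prime) (h : r ^ a ∣ Nat.lcm x y) :
    r ^ a ∣ x ∨ r ^ a ∣ y := by
  rcases eq_or_ne x 0 with rfl | hx
  · left; exact dvd_zero _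
  rcases eq_or_ne y 0 with rfl | hy
  · right; exact dvd_zero _
  rw [hr.pow_dvd_iff_le_factorization (Nat.lcm_ne_zero hx hy), Nat.factorization_lcm hx hy,
    Finsupp.sup_apply, le_sup_iff] at h
  rcases h with h | h
  · left; exact (hr.pow_dvd_iff_le_factorization hx).mpr h
  · right; exact (hr.pow_dvd_iff_le_factorization hy).mpr h

theorem exists_of_prime_pow_dvd_lcm {ι : Type*} [DecidableEq ι] (s : Finset ι) (g : ι → ℕ)
    (r a : ℕ) (hr : r.Prime) (ha : 1 ≤ a) (h : r ^ a ∣ s.lcm g) : ∃ i ∈ s, r ^ a ∣ g i := by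
  induction s using Finset.induction_on with
  | empty =>
    exfalso
    simp only [Finset.lcm_empty, Nat.dvd_one] at h
    have := Nat.one_lt_pow (by omega : a ≠ 0) hr.one_lt
    omega
  | insert i s hi ih =>
    rw [Finset.lcm_insert] at h
    rcases prime_pow_dvd_lcm_two hr h with h | h
    · exact ⟨i, Finset.mem_insert_self _ _, h⟩
    · obtain ⟨j, hj, hj'⟩ := ih h
      exact ⟨j, Finset.mem_insert_of_mem hj, hj'⟩

theorem exists_orderOf_eq_of_dvd {L : Type*} [Group L] (g : L) (m : ℕ) (hpos : 0 < orderOf g)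
    (h : m ∣ orderOf g) : ∃ g' : L, orderOf g' = m := by
  refine ⟨g ^ (orderOf g / m), ?_⟩
  have hm : m ≠ 0 := fun h0 => by rw [h0, zero_dvd_iff] at h; omega
  rw [orderOf_pow_of_dvd (Nat.div_pos (Nat.le_of_dvd hpos h) (Nat.pos_of_ne_zero hm)).ne'
    (Nat.div_dvd_of_dvd h), Nat.div_div_self h hpos.ne']

theorem exists_short_tuple {L : Type*} [Group L] [Finite L] (n : ℕ)
    (H1 : ∀ d, n / 2 < d → d ≤ n → ∃ g : L, orderOf g = 2 ^ d - 1)
    (H2 : ∀ (g : L) (r a : ℕ), r.Prime → r ≠ 2 → 1 ≤ a → r ^ a ∣ orderOf g →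
      ∃ d, n / 2 < d ∧ d ≤ n ∧ r ^ a ∣ 2 ^ d - 1)
    {k : ℕ} (f : Fin k → L) : ∃ f' : Fin ((n + 3) / 2) → L, orderOf f' = orderOf f := by
  classical
  set N := orderOf f with hN
  have hNpos : 0 < N := orderOf_pos f
  have hNlcm : N = Finset.univ.lcm (fun i => orderOf (f i)) := Pi.orderOf f
  have key : ∀ r a : ℕ, r.Prime → 1 ≤ a → r ^ a ∣ N → ∃ i, r ^ a ∣ orderOf (f i) := by
    intro r a hr ha h
    rw [hNlcm] at h
    obtain ⟨i, -, hi⟩ := exists_of_prime_pow_dvd_lcm _ _ r a hr ha h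
    exact ⟨i, hi⟩
  set e := N.factorization 2 with he
  have h2e : 2 ^ e ∣ N := Nat.ordProj_dvd N 2
  obtain ⟨g0, hg0⟩ : ∃ g0 : L, orderOf g0 = 2 ^ e := by
    rcases Nat.eq_zero_or_pos e with h0 | h0
    · exact ⟨1, by simp [h0]⟩
    · obtain ⟨i, hi⟩ := key 2 e Nat.prime_two h0 h2e
      exact exists_orderOf_eq_of_dvd (f i) _ (orderOf_pos _) hi
  have hG : ∀ d, ∃ g : L, (n / 2 < d ∧ d ≤ n) → orderOf g = Nat.gcd N (2 ^ d - 1) := by
    intro d
    by_cases hd : n / 2 < d ∧ d ≤ n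
    · obtain ⟨g, hg⟩ := H1 d hd.1 hd.2
      obtain ⟨g', hg'⟩ := exists_orderOf_eq_of_dvd g (Nat.gcd N (2 ^ d - 1)) (orderOf_pos _)
        (hg ▸ Nat.gcd_dvd_right _ _)
      exact ⟨g', fun _ => hg'⟩
    · exact ⟨1, fun h => absurd h hd⟩
  choose G hGo using hG
  refine ⟨fun i => if i.val = 0 then g0 else G (n / 2 + i.val), ?_⟩
  set f' : Fin ((n + 3) / 2) → L := fun i => if i.val = 0 then g0 else G (n / 2 + i.val) with hf'
  apply Nat.dvd_antisymm
  · rw [orderOf_dvd_iff_pow_eq_one]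
    funext i
    rw [Pi.pow_apply, Pi.one_apply, hf']
    by_cases hi : i.val = 0
    · simp only [hi, if_true]
      rw [← orderOf_dvd_iff_pow_eq_one, hg0]; exact h2e
    · simp only [hi, if_false]
      rw [← orderOf_dvd_iff_pow_eq_one, hGo _ ⟨by omega, by have := i.2; omega⟩]
      exact Nat.gcd_dvd_left _ _
  · rw [Nat.dvd_iff_prime_pow_dvd_dvd]
    intro r a hr hra
    rcases Nat.eq_zero_or_pos a with h0 | hapos
    · simp [h0]
    by_cases hr2 : r = 2
    · subst hr2
      have hae : a ≤ e := (Nat.prime_two.pow_dvd_iff_le_factorization hNpos.ne').mp hra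
      have h0lt : 0 < (n + 3) / 2 := by omega
      have := orderOf_apply_dvd_orderOf (x := f') ⟨0, h0lt⟩
      have h00 : f' ⟨0, h0lt⟩ = g0 := by simp [hf']
      rw [h00, hg0] at this
      exact (pow_dvd_pow 2 hae).trans this
    · obtain ⟨i, hi⟩ := key r a hr hapos hra
      obtain ⟨d, hd1, hd2, hd3⟩ := H2 (f i) r a hr hr2 hapos hi
      have hlt : d - n / 2 < (n + 3) / 2 := by omega
      have := orderOf_apply_dvd_orderOf (x := f') ⟨d - n / 2, hlt⟩
      have h00 : f' ⟨d - n / 2, hlt⟩ = G d := by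
        have h1 : ¬ (d - n / 2 = 0) := by omega
        have h2 : n / 2 + (d - n / 2) = d := by omega
        simp [hf', h1, h2]
      rw [h00, hGo d ⟨hd1, hd2⟩] at this
      exact (Nat.dvd_gcd hra hd3).trans this

theorem range_orderOf_pi_eq {L : Type*} [Group L] (k₀ k : ℕ) (hk : k₀ ≤ k)
    (H : ∀ f : Fin k → L, ∃ f' : Fin k₀ → L, orderOf f' = orderOf f) :
    Set.range (orderOf : (Fin k → L) → ℕ) = Set.range (orderOf : (Fin k₀ → L) → ℕ) := by
  apply Set.Subset.antisymm
  · rintro _ ⟨f, rfl⟩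
    obtain ⟨f', hf'⟩ := H f
    exact ⟨f', hf'⟩
  · rintro _ ⟨f', rfl⟩
    refine ⟨fun i => if h : i.val < k₀ then f' ⟨i.val, h⟩ else 1, ?_⟩
    rw [orderOf_eq_orderOf_iff]
    intro m
    simp only [funext_iff, Pi.pow_apply, Pi.one_apply]
    constructor
    · intro h i
      have := h ⟨i.val, lt_of_lt_of_le i.2 hk⟩
      simpa [i.2] using this
    · intro h i
      by_cases hi : i.val < k₀
      · simp only [hi, dite_true]; exact h _
      · simp [hi]



/-- Singer cycle: a `d × d` matrix of order `q^d - 1`. -/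
theorem exists_singer (d : ℕ) (hd : 1 ≤ d) :
    ∃ A : Matrix (Fin d) (Fin d) F, orderOf A = Fintype.card F ^ d - 1 := by
  classical
  obtain ⟨p, hp⟩ := CharP.exists F
  haveI : Fact p.Prime := ⟨CharP.char_is_prime F p⟩
  haveI : NeZero d := ⟨by omega⟩
  let K := FiniteField.Extension F p d
  haveI : Fintype K := Fintype.ofFinite K
  obtain ⟨ζ, hζ⟩ := IsCyclic.exists_generator (α := Kˣ)
  have hord : orderOf ζ = Fintype.card F ^ d - 1 := by
    rw [orderOf_eq_card_of_forall_mem_zpowers hζ, Nat.card_units,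
      FiniteField.natCard_extension, Nat.card_eq_fintype_card]
  let b : Module.Basis (Fin d) F K := Module.finBasisOfFinrankEq F K
    (FiniteField.finrank_extension F p d)
  refine ⟨Algebra.leftMulMatrix b (ζ : K), ?_⟩
  have := orderOf_injective
    ((Algebra.leftMulMatrix b : K →ₐ[F] Matrix (Fin d) (Fin d) F) : K →* Matrix (Fin d) (Fin d) F)
    (by intro x y hxy; exact Algebra.leftMulMatrix_injective b hxy) (ζ : K)
  rw [← hord, ← orderOf_units (y := ζ)]
  exact this

/-- block embedding of `d × d` matrices into `n × n` matrices, `d ≤ n`. -/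
noncomputable def blockEmbed (d n : ℕ) (h : d ≤ n) :
    Matrix (Fin d) (Fin d) F →* Matrix (Fin n) (Fin n) F where
  toFun M := Matrix.reindexAlgEquiv F F
    (finSumFinEquiv.trans (finCongr (Nat.add_sub_cancel' h)))
    (Matrix.fromBlocks M 0 0 (1 : Matrix (Fin (n - d)) (Fin (n - d)) F))
  map_one' := by
    rw [Matrix.fromBlocks_one, map_one]
  map_mul' M N := by
    rw [← map_mul, Matrix.fromBlocks_multiply]
    simp

theorem blockEmbed_injective (d n : ℕ) (h : d ≤ n) :
    Function.Injective (blockEmbed (F := F) d n h) := by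
  intro M N hMN
  have := (Matrix.reindexAlgEquiv F F
    (finSumFinEquiv.trans (finCongr (Nat.add_sub_cancel' h)))).injective hMN
  exact (Matrix.fromBlocks_inj.mp this).1

theorem exists_orderOf_eq_card_pow_sub_one (d n : ℕ) (hd : 1 ≤ d) (h : d ≤ n) :
    ∃ A : Matrix (Fin n) (Fin n) F, orderOf A = Fintype.card F ^ d - 1 := by
  obtain ⟨A, hA⟩ := exists_singer (F := F) d hd
  exact ⟨blockEmbed d n h A, by rw [orderOf_injective _ (blockEmbed_injective d n h), hA]⟩

end Cfsg.Agent.Helper13.MatOrd
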