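import Mathlib
import Cfsg.Agent.Lib.Helper13.InvariantTower
import Cfsg.Agent.Lib.Helper13.PrimeOrderSemisimple
import Cfsg.Agent.Lib.Helper13.NilpotentChain
import Cfsg.Agent.Lib.Helper13.ElusiveCore
import Cfsg.Agent.Lib.Helper13.MonomialDecomp

/-!
# Monomial bases for maps with scalar square, and involutions of `SL_n(q)` on decompositions
-/

set_option autoImplicit false
set_option linter.style.haveILetI false
set_option linter.unusedSectionVars false
set_option linter.unusedVariables false

namespace Cfsg.Agent.Helper13.Elus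

open Module Polynomial Cfsg.Agent.Helper13.InvTow Cfsg.Agent.Helper13.POS Cfsg.Agent.Helper13.Nilp

universe u

section irreducibleCase

variable {F : Type*} [Field F] {V : Type*} [AddCommGroup V] [Module F V] [FiniteDimensional F V]

/-- the family `(i, e) ↦ f^e (w i)`. -/
def cycFamily {j : ℕ} (f : Module.End F V) (w : Fin j → V) : Fin j × Fin 2 → V :=
  fun x => (f ^ (x.2 : ℕ)) (w x.1)

theorem cycFamily_zero {j : ℕ} (f : Module.End F V) (w : Fin j → V) (i : Fin j) :
    cycFamily f w (i, 0) = w i := by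
  simp [cycFamily]

theorem cycFamily_one {j : ℕ} (f : Module.End F V) (w : Fin j → V) (i : Fin j) :
    cycFamily f w (i, 1) = f (w i) := by
  simp [cycFamily]

theorem map_cycFamily {j : ℕ} (f : Module.End F V) (z : F) (hf : f ^ 2 = z • 1) (w : Fin j → V)
    (x : Fin j × Fin 2) :
    f (cycFamily f w x) ∈ Submodule.span F {cycFamily f w (x.1, Fin.rev x.2)} := by
  obtain ⟨i, e⟩ := x
  fin_cases e
  · have h1 : f (cycFamily f w (i, 0)) = cycFamily f w (i, 1) := by
      rw [cycFamily_zero, cycFamily_one]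
    change f (cycFamily f w (i, 0)) ∈ Submodule.span F {cycFamily f w (i, Fin.rev 0)}
    rw [h1]
    exact Submodule.subset_span rfl
  · have h1 : f (cycFamily f w (i, 1)) = z • cycFamily f w (i, 0) := by
      rw [cycFamily_zero, cycFamily_one, ← Module.End.mul_apply, ← sq, hf]
      simp
    change f (cycFamily f w (i, 1)) ∈ Submodule.span F {cycFamily f w (i, Fin.rev 1)}
    rw [h1]
    exact Submodule.smul_mem _ _ (Submodule.subset_span rfl)

theorem inv_span_cycFamily {j : ℕ} (f : Module.End F V) (z : F) (hf : f ^ 2 = z • 1)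
    (w : Fin j → V) : Inv f (Submodule.span F (Set.range (cycFamily f w))) := by
  rw [inv_iff_map_le, Submodule.map_span_le]
  rintro _ ⟨x, rfl⟩
  have h1 := map_cycFamily f z hf w x
  have h2 : Submodule.span F {cycFamily f w (x.1, Fin.rev x.2)} ≤
      Submodule.span F (Set.range (cycFamily f w)) := by
    apply Submodule.span_mono
    rw [Set.singleton_subset_iff]
    exact ⟨_, rfl⟩
  exact h2 h1

theorem exists_cycFamily (f : Module.End F V) (z : F)
    (hirr : Irreducible (X ^ 2 - C z : F[X])) (hf : f ^ 2 = z • 1) :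
    ∀ j : ℕ, 2 * j ≤ finrank F V → ∃ w : Fin j → V,
      finrank F ↥(Submodule.span F (Set.range (cycFamily f w))) = 2 * j := by
  intro j
  induction j with
  | zero =>
    intro _
    refine ⟨Fin.elim0, ?_⟩
    have : Set.range (cycFamily f (Fin.elim0 : Fin 0 → V)) = ∅ := by
      rw [Set.range_eq_empty_iff]
      exact ⟨fun x => x.1.elim0⟩
    rw [this, Submodule.span_empty, finrank_bot]
  | succ j ih =>
    intro hj
    obtain ⟨w, hw⟩ := ih (by omega)
    set Z := Submodule.span F (Set.range (cycFamily f w)) with hZ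
    have hZtop : Z < ⊤ := by
      rw [lt_top_iff_ne_top]
      intro h
      rw [h, finrank_top] at hw
      omega
    obtain ⟨w', -, hw'⟩ := SetLike.exists_of_lt hZtop
    refine ⟨Fin.snoc w w', ?_⟩
    set Z' := Submodule.span F (Set.range (cycFamily f (Fin.snoc w w' : Fin (j + 1) → V)))
      with hZ'
    have h1 : Z ≤ Z' := by
      apply Submodule.span_mono
      rintro _ ⟨⟨i, e⟩, rfl⟩
      refine ⟨(Fin.castSucc i, e), ?_⟩
      simp [cycFamily]
    have h2 : w' ∈ Z' := by
      apply Submodule.subset_span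
      refine ⟨(Fin.last j, 0), ?_⟩
      simp [cycFamily]
    have h3 : Inv f Z' := inv_span_cycFamily f z hf _
    have h4 : finrank F ↥Z' ≤ 2 * (j + 1) := by
      have h := finrank_range_le_card (R := F) (cycFamily f (Fin.snoc w w' : Fin (j + 1) → V))
      have hc : Fintype.card (Fin (j + 1) × Fin 2) = 2 * (j + 1) := by
        rw [Fintype.card_prod, Fintype.card_fin, Fintype.card_fin, mul_comm]
      rw [hc] at h
      exact h
    have h5 : 2 ∣ finrank F ↥Z' := dvd_finrank_of_irreducible 2 (by norm_num) z hirr f hf Z' h3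
    have h6 : finrank F ↥Z < finrank F ↥Z' := by
      apply Submodule.finrank_lt_finrank_of_lt
      exact lt_of_le_of_ne h1 (fun h => hw' (h ▸ h2))
    omega

/-- monomial basis in the irreducible case. -/
theorem exists_monomial_basis_irreducible (f : Module.End F V) (z : F)
    (hirr : Irreducible (X ^ 2 - C z : F[X])) (hf : f ^ 2 = z • 1) :
    ∃ (I : Type) (_ : Fintype I) (π : I → I), (∀ i, π (π i) = i) ∧
      ∃ b : Basis I F V, ∀ i, f (b i) ∈ Submodule.span F {b (π i)} := by
  have h2 : 2 ∣ finrank F V := by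
    have := dvd_finrank_of_irreducible 2 (by norm_num) z hirr f hf ⊤ (inv_top f)
    rwa [finrank_top] at this
  obtain ⟨m, hm⟩ := h2
  obtain ⟨w, hw⟩ := exists_cycFamily f z hirr hf m (by omega)
  have htop : Submodule.span F (Set.range (cycFamily f w)) = ⊤ :=
    Submodule.eq_top_of_finrank_eq (by rw [hw, hm])
  have hcard : Fintype.card (Fin m × Fin 2) = finrank F V := by
    rw [Fintype.card_prod, Fintype.card_fin, Fintype.card_fin, hm, mul_comm]
  let b : Basis (Fin m × Fin 2) F V :=
    basisOfTopLeSpanOfCardEqFinrank (cycFamily f w) (le_of_eq htop.symm) hcard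
  have hb : ∀ x, b x = cycFamily f w x := fun x => by
    simp only [b, coe_basisOfTopLeSpanOfCardEqFinrank]
  refine ⟨Fin m × Fin 2, inferInstance, fun x => (x.1, Fin.rev x.2), ?_, b, ?_⟩
  · intro x
    simp
  · intro x
    rw [hb, hb]
    exact map_cycFamily f z hf w x

end irreducibleCase

section splitCase

variable {F : Type*} [Field F] {V : Type u} [AddCommGroup V] [Module F V] [FiniteDimensional F V]

/-- monomial (here: eigen-) basis in the split semisimple case. -/
theorem exists_monomial_basis_split (f : Module.End F V) (d : F) (hd : d ≠ 0)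
    (h2 : (2 : F) ≠ 0) (hf : f ^ 2 = (d ^ 2) • 1) :
    ∃ (I : Type) (_ : Fintype I) (π : I → I), (∀ i, π (π i) = i) ∧
      ∃ b : Basis I F V, ∀ i, f (b i) ∈ Submodule.span F {b (π i)} := by
  have hff : ∀ v, f (f v) = d ^ 2 • v := by
    intro v
    rw [← Module.End.mul_apply, ← sq, hf]; simp
  set Vp : Submodule F V := LinearMap.ker (f - d • 1) with hVp
  set Vm : Submodule F V := LinearMap.ker (f + d • 1) with hVm
  have hmemp : ∀ v, v ∈ Vp ↔ f v = d • v := by
    intro v
    rw [hVp, LinearMap.mem_ker, LinearMap.sub_apply, LinearMap.smul_apply, Module.End.one_apply,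
      sub_eq_zero]
  have hmemm : ∀ v, v ∈ Vm ↔ f v = -(d • v) := by
    intro v
    rw [hVm, LinearMap.mem_ker, LinearMap.add_apply, LinearMap.smul_apply, Module.End.one_apply,
      add_eq_zero_iff_eq_neg]
  have h2d : (2 : F) * d ≠ 0 := mul_ne_zero h2 hd
  have hcompl : IsCompl Vp Vm := by
    constructor
    · rw [Submodule.disjoint_def]
      intro v hp hm
      rw [hmemp] at hp
      rw [hmemm] at hm
      have h3 : (2 * d) • v = 0 := by
        rw [mul_smul, two_smul]
        nth_rewrite 1 [← hp]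
        rw [hm]; simp
      exact (smul_eq_zero.mp h3).resolve_left h2d
    · rw [codisjoint_iff, eq_top_iff]
      intro v _
      rw [Submodule.mem_sup]
      refine ⟨(2 * d)⁻¹ • (f v + d • v), ?_, (2 * d)⁻¹ • (d • v - f v), ?_, ?_⟩
      · apply Submodule.smul_mem
        rw [hmemp, map_add, map_smul, hff, smul_add, smul_smul, sq, add_comm]
      · apply Submodule.smul_mem
        rw [hmemm, map_sub, map_smul, hff, smul_sub, smul_smul, sq, neg_sub]
      · rw [← smul_add]
        have : f v + d • v + (d • v - f v) = (2 * d) • v := by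
          rw [mul_smul, two_smul]; abel
        rw [this, smul_smul, inv_mul_cancel₀ h2d, one_smul]
  let bp := Module.finBasis F ↥Vp
  let bm := Module.finBasis F ↥Vm
  let b : Basis (Fin (finrank F ↥Vp) ⊕ Fin (finrank F ↥Vm)) F V :=
    (bp.prod bm).map (Submodule.prodEquivOfIsCompl Vp Vm hcompl)
  refine ⟨_, inferInstance, id, fun _ => rfl, b, ?_⟩
  rintro (i | i)
  · have h3 : b (Sum.inl i) = (bp i : V) := by
      simp [b, Submodule.coe_prodEquivOfIsCompl']
    have h4 : f (b (Sum.inl i)) = d • b (Sum.inl i) := by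
      rw [h3]; exact (hmemp _).mp (bp i).2
    rw [id, h4]
    exact Submodule.smul_mem _ _ (Submodule.subset_span rfl)
  · have h3 : b (Sum.inr i) = (bm i : V) := by
      simp [b, Submodule.coe_prodEquivOfIsCompl']
    have h4 : f (b (Sum.inr i)) = (-d) • b (Sum.inr i) := by
      rw [h3, neg_smul]; exact (hmemm _).mp (bm i).2
    rw [id, h4]
    exact Submodule.smul_mem _ _ (Submodule.subset_span rfl)

end splitCase

section charTwoCase

variable {F : Type*} [Field F] {V : Type u} [AddCommGroup V] [Module F V] [FiniteDimensional F V]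

/-- monomial basis in the unipotent case (characteristic two). -/
theorem exists_monomial_basis_charTwo (f : Module.End F V) (d : F) (hd : d ≠ 0)
    (h2 : (2 : F) = 0) (hf : f ^ 2 = (d ^ 2) • 1) :
    ∃ (I : Type) (_ : Fintype I) (π : I → I), (∀ i, π (π i) = i) ∧
      ∃ b : Basis I F V, ∀ i, f (b i) ∈ Submodule.span F {b (π i)} := by
  classical
  have hff : ∀ v, f (f v) = d ^ 2 • v := by
    intro v
    rw [← Module.End.mul_apply, ← sq, hf]; simp
  set N : Module.End F V := d⁻¹ • f - 1 with hN
  have hNapp : ∀ v, N v = d⁻¹ • f v - v := fun v => by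
    rw [hN, LinearMap.sub_apply, LinearMap.smul_apply, Module.End.one_apply]
  have hfN : ∀ v, f v = d • (N v + v) := by
    intro v
    rw [hNapp, sub_add_cancel, smul_smul, mul_inv_cancel₀ hd, one_smul]
  have hN2 : N ^ 2 = 0 := by
    apply LinearMap.ext
    intro v
    rw [sq, Module.End.mul_apply, hNapp, hNapp, map_sub, map_smul, hff, smul_sub, smul_smul,
      smul_smul, LinearMap.zero_apply]
    have h3 : d⁻¹ * d⁻¹ * d ^ 2 = 1 := by field_simp
    rw [h3, one_smul]
    have h4 : v - d⁻¹ • f v - (d⁻¹ • f v - v) = (2 : F) • v - (2 : F) • (d⁻¹ • f v) := by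
      rw [two_smul, two_smul]; abel
    rw [h4, h2, zero_smul, zero_smul, sub_zero]
  obtain ⟨cb⟩ := exists_chainBasis N ⟨2, hN2⟩
  letI := cb.fin
  have hk2 : ∀ i, cb.k i ≤ 2 := (cb.pow_eq_zero_iff 2).mp hN2
  let b₀ : cb.ι → V := fun i => cb.b ⟨i, ⟨0, cb.kpos i⟩⟩
  have hNb₀ : ∀ i, N (b₀ i) = if h : 0 + 1 < cb.k i then cb.b ⟨i, ⟨0 + 1, h⟩⟩ else 0 :=
    fun i => cb.chain i ⟨0, cb.kpos i⟩
  let v : (Σ i : cb.ι, Fin (cb.k i)) → V := fun x => (f ^ (x.2 : ℕ)) (b₀ x.1)
  have key : ∀ i (j : ℕ), j < cb.k i →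
      f ((f ^ j) (b₀ i)) ∈ Submodule.span F {(f ^ (cb.k i - (j + 1))) (b₀ i)} := by
    intro i j hj
    have hk := hk2 i
    have hpos := cb.kpos i
    obtain h | h : cb.k i = 1 ∨ cb.k i = 2 := by omega
    · have hj0 : j = 0 := by omega
      subst hj0
      rw [h]
      simp only [pow_zero, Module.End.one_apply, Nat.sub_self]
      have h3 : N (b₀ i) = 0 := by
        rw [hNb₀, dif_neg (by omega)]
      rw [hfN, h3, zero_add]
      exact Submodule.smul_mem _ _ (Submodule.subset_span rfl)
    · obtain hj0 | hj1 : j = 0 ∨ j = 1 := by omega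
      · subst hj0
        rw [h]
        simp only [pow_zero, Module.End.one_apply, zero_add, Nat.add_one_sub_one, pow_one]
        exact Submodule.subset_span rfl
      · subst hj1
        rw [h]
        simp only [pow_one, Nat.sub_self, pow_zero, Module.End.one_apply, Nat.reduceAdd]
        rw [hff]
        exact Submodule.smul_mem _ _ (Submodule.subset_span rfl)
  have hspan : Submodule.span F (Set.range v) = ⊤ := by
    rw [eq_top_iff, ← cb.b.span_eq, Submodule.span_le]
    rintro _ ⟨⟨i, ⟨j, hj⟩⟩, rfl⟩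
    have hk := hk2 i
    obtain hj0 | hj1 : j = 0 ∨ j = 1 := by omega
    · subst hj0
      apply Submodule.subset_span
      refine ⟨⟨i, ⟨0, hj⟩⟩, ?_⟩
      simp [v, b₀]
    · subst hj1
      have h3 : N (b₀ i) = cb.b ⟨i, ⟨1, hj⟩⟩ := by
        rw [hNb₀, dif_pos (by omega)]
      have h4 : cb.b ⟨i, ⟨1, hj⟩⟩ = d⁻¹ • v ⟨i, ⟨1, hj⟩⟩ - v ⟨i, ⟨0, by omega⟩⟩ := by
        rw [← h3, hNapp]
        simp [v]
      change cb.b ⟨i, ⟨1, hj⟩⟩ ∈ _
      rw [h4]
      exact Submodule.sub_mem _ (Submodule.smul_mem _ _ (Submodule.subset_span ⟨_, rfl⟩))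
        (Submodule.subset_span ⟨_, rfl⟩)
  have hcard : Fintype.card (Σ i : cb.ι, Fin (cb.k i)) = finrank F V :=
    (Module.finrank_eq_card_basis cb.b).symm
  let b : Basis (Σ i : cb.ι, Fin (cb.k i)) F V :=
    basisOfTopLeSpanOfCardEqFinrank v (le_of_eq hspan.symm) hcard
  have hb : ∀ x, b x = v x := fun x => by
    simp only [b, coe_basisOfTopLeSpanOfCardEqFinrank]
  refine ⟨_, inferInstance, fun x => ⟨x.1, Fin.rev x.2⟩, ?_, b, ?_⟩
  · rintro ⟨i, j⟩
    simp
  · rintro ⟨i, ⟨j, hj⟩⟩
    rw [hb, hb]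
    have := key i j hj
    simpa [v, Fin.val_rev] using this

end charTwoCase

section involution

variable {F : Type*} [Field F] [Fintype F]

/-- every "involution" of `SL_n(q)` (square a scalar) stabilizes a decomposition into `t`
blocks of dimension `a`. -/
theorem involution_stabilizes (n a t : ℕ) (hat : n = a * t) (ha : 1 ≤ a) (ht : 2 ≤ t)
    (x : Matrix.SpecialLinearGroup (Fin n) F) (z : F)
    (hx : ((x ^ 2 : Matrix.SpecialLinearGroup (Fin n) F) : Matrix (Fin n) (Fin n) F) =
      z • (1 : Matrix (Fin n) (Fin n) F)) :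
    ∃ D : Fin t → Submodule F (Fin n → F), (∀ j, finrank F (D j) = a) ∧ iSupIndep D ∧
      iSup D = ⊤ ∧ ∃ σ : Equiv.Perm (Fin t),
        ∀ j, (D j).map (Matrix.toLin' (x : Matrix (Fin n) (Fin n) F)) = D (σ j) := by
  have hn : 0 < n := by rw [hat]; positivity
  obtain ⟨hz0, hf, -⟩ := sl_data hn 2 x z hx
  set f : Module.End F (Fin n → F) := Matrix.toLin' (x : Matrix (Fin n) (Fin n) F) with hfdef
  have hff : ∀ v, f (f v) = z • v := by
    intro v
    rw [← Module.End.mul_apply, ← sq, hf]; simp
  have hinj : Function.Injective f := by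
    rw [← LinearMap.ker_eq_bot, Submodule.eq_bot_iff]
    intro v hv
    rw [LinearMap.mem_ker] at hv
    have h1 := hff v
    rw [hv, map_zero] at h1
    exact (smul_eq_zero.mp h1.symm).resolve_left hz0
  have hmono : ∃ (I : Type) (_ : Fintype I) (π : I → I), (∀ i, π (π i) = i) ∧
      ∃ b : Basis I F (Fin n → F), ∀ i, f (b i) ∈ Submodule.span F {b (π i)} := by
    by_cases hsq : ∃ d : F, d ^ 2 = z
    · obtain ⟨d, hd⟩ := hsq
      have hd0 : d ≠ 0 := fun h => by rw [h, zero_pow two_ne_zero] at hd; exact hz0 hd.symm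
      rw [← hd] at hf
      by_cases h2 : (2 : F) = 0
      · exact exists_monomial_basis_charTwo f d hd0 h2 hf
      · exact exists_monomial_basis_split f d hd0 h2 hf
    · have hirr : Irreducible (X ^ 2 - C z : F[X]) :=
        X_pow_sub_C_irreducible_of_prime Nat.prime_two (fun b hb => hsq ⟨b, hb⟩)
      exact exists_monomial_basis_irreducible f z hirr hf
  obtain ⟨I, hI, π, hπ, b, hfb⟩ := hmono
  haveI := hI
  exact exists_decomp_of_monomial n a t hat ha (Module.finrank_fin_fun F) f hinj I π hπ b hfb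

end involution

end Cfsg.Agent.Helper13.Elus
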