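import Mathlib
import Cfsg.Agent.Lib.Helper13.StabChain

set_option autoImplicit false
set_option linter.unusedSectionVars false

/-! # The order of `O⁻₄(2)` is at most `5!` -/

namespace Cfsg.Agent.Helper13.O4Minus

open Matrix

abbrev I4 := (Fin 1 ⊕ Fin 1) ⊕ Fin 2
abbrev V4 := I4 → ZMod 2
abbrev Q4 : V4 → ZMod 2 := Cfsg.quadFormMinus 1 (ZMod 2) 1 1
abbrev O4 : Subgroup (GL I4 (ZMod 2)) :=
  Cfsg.isometryGroup (ZMod 2) (Cfsg.quadFormMinus 1 (ZMod 2) 1 1)

/-- the polar form -/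
def B4 (u v : V4) : ZMod 2 := Q4 (u + v) + Q4 u + Q4 v

def b₁ : V4 := Pi.single (Sum.inl (Sum.inl 0)) 1
def b₂ : V4 := Pi.single (Sum.inl (Sum.inr 0)) 1
def b₃ : V4 := Pi.single (Sum.inr 0) 1
def b₄ : V4 := Pi.single (Sum.inr 1) 1

theorem Q4_smul (g : O4) (u : V4) : Q4 (g • u) = Q4 u := isom_smul _ g u

theorem B4_smul (g : O4) (u v : V4) : B4 (g • u) (g • v) = B4 u v := by
  unfold B4
  have h : g • u + g • v = g • (u + v) := (gl_smul_add (g : GL I4 (ZMod 2)) u v).symm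
  rw [h, Q4_smul, Q4_smul, Q4_smul]

theorem B4_fix {s : Set V4} {g : O4} (hg : g ∈ fixingSubgroup O4 s) {c : V4} (hc : c ∈ s) (u : V4) :
    B4 c (g • u) = B4 c u := by
  have h := (mem_fixingSubgroup_iff O4).1 hg c hc
  nth_rewrite 1 [← h]
  exact B4_smul g c u

theorem smul_ne_zero' (g : O4) {v : V4} (hv : v ≠ 0) : g • v ≠ 0 :=
  gl_smul_ne_zero (g : GL I4 (ZMod 2)) hv

def T₁ : Finset V4 := Finset.univ.filter (fun u => Q4 u = 0 ∧ u ≠ 0)
def T₂ : Finset V4 := Finset.univ.filter (fun u => Q4 u = 0 ∧ B4 b₁ u = 1)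
def T₃ : Finset V4 :=
  Finset.univ.filter (fun u => Q4 u = 1 ∧ B4 b₁ u = 0 ∧ B4 b₂ u = 0)
def T₄ : Finset V4 :=
  Finset.univ.filter (fun u => Q4 u = 1 ∧ B4 b₁ u = 0 ∧ B4 b₂ u = 0 ∧ B4 b₃ u = 1)

set_option maxRecDepth 1000000 in
theorem card_T₁ : T₁.card = 5 := by decide
set_option maxRecDepth 1000000 in
theorem card_T₂ : T₂.card = 4 := by decide
set_option maxRecDepth 1000000 in
theorem card_T₃ : T₃.card = 3 := by decide
set_option maxRecDepth 1000000 in
theorem card_T₄ : T₄.card = 2 := by decide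

set_option maxRecDepth 1000000 in
theorem base_facts :
    Q4 b₁ = 0 ∧ Q4 b₂ = 0 ∧ Q4 b₃ = 1 ∧ Q4 b₄ = 1 ∧ b₁ ≠ 0 ∧ B4 b₁ b₂ = 1 ∧ B4 b₁ b₃ = 0 ∧
    B4 b₂ b₃ = 0 ∧ B4 b₁ b₄ = 0 ∧ B4 b₂ b₄ = 0 ∧ B4 b₃ b₄ = 1 := by
  decide

theorem card_O4_le : Nat.card O4 ≤ 120 := by
  obtain ⟨q1, q2, q3, q4, n1, b12, b13, b23, b14, b24, b34⟩ := base_facts
  have e1 := card_fixing_le (G := O4) (∅ : Set V4) b₁ T₁ (by
    intro g _
    simp only [T₁, Finset.mem_filter, Finset.mem_univ, true_and]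
    exact ⟨by rw [Q4_smul, q1], smul_ne_zero' g n1⟩)
  have e2 := card_fixing_le (G := O4) ({b₁} : Set V4) b₂ T₂ (by
    intro g hg
    simp only [T₂, Finset.mem_filter, Finset.mem_univ, true_and]
    refine ⟨by rw [Q4_smul, q2], ?_⟩
    rw [B4_fix hg (by simp), b12])
  have e3 := card_fixing_le (G := O4) ({b₂, b₁} : Set V4) b₃ T₃ (by
    intro g hg
    simp only [T₃, Finset.mem_filter, Finset.mem_univ, true_and]
    refine ⟨by rw [Q4_smul, q3], ?_, ?_⟩
    · rw [B4_fix hg (by simp), b13]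
    · rw [B4_fix hg (by simp), b23])
  have e4 := card_fixing_le (G := O4) ({b₃, b₂, b₁} : Set V4) b₄ T₄ (by
    intro g hg
    simp only [T₄, Finset.mem_filter, Finset.mem_univ, true_and]
    refine ⟨by rw [Q4_smul, q4], ?_, ?_, ?_⟩
    · rw [B4_fix hg (by simp), b14]
    · rw [B4_fix hg (by simp), b24]
    · rw [B4_fix hg (by simp), b34])
  have e5 : Nat.card (fixingSubgroup O4 ({b₄, b₃, b₂, b₁} : Set V4)) ≤ 1 := by
    rw [Finite.card_le_one_iff_subsingleton]
    have key : ∀ g : fixingSubgroup O4 ({b₄, b₃, b₂, b₁} : Set V4), g = 1 := by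
      intro g
      have hfix := (mem_fixingSubgroup_iff O4).1 g.2
      apply Subtype.ext
      apply Subtype.ext
      apply gl_eq_one_of_fix
      rintro ((i | i) | i)
      · have : (Pi.single (Sum.inl (Sum.inl i)) 1 : V4) = b₁ := by
          fin_cases i; rfl
        rw [this]
        apply hfix
        simp
      · have : (Pi.single (Sum.inl (Sum.inr i)) 1 : V4) = b₂ := by
          fin_cases i; rfl
        rw [this]
        apply hfix
        simp
      · fin_cases i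
        · have : (Pi.single (Sum.inr ⟨0, by norm_num⟩) 1 : V4) = b₃ := rfl
          rw [this]
          apply hfix
          simp
        · have : (Pi.single (Sum.inr ⟨1, by norm_num⟩) 1 : V4) = b₄ := rfl
          rw [this]
          apply hfix
          simp
    exact ⟨fun a b => by rw [key a, key b]⟩
  rw [card_fixing_empty] at e1
  rw [card_T₁] at e1
  rw [card_T₂] at e2
  rw [card_T₃] at e3
  rw [card_T₄] at e4
  rw [insert_empty_eq] at e1
  calc Nat.card O4 ≤ 5 * (4 * (3 * (2 * 1))) := by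
        refine e1.trans (Nat.mul_le_mul_left _ (e2.trans (Nat.mul_le_mul_left _
          (e3.trans (Nat.mul_le_mul_left _ (e4.trans (Nat.mul_le_mul_left _ e5)))))))
    _ = 120 := by norm_num

end Cfsg.Agent.Helper13.O4Minus
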