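import Mathlib
import Cfsg.Agent.Lib.Helper13.OInvDefs
import Cfsg.Agent.Lib.Lead.ChevWeylTab

/-!
# Computable checks for the centralizer-order certificates (ODDINV)
-/

set_option autoImplicit false
set_option linter.unusedSectionVars false
set_option linter.unusedVariables false

namespace Cfsg.Agent.Helper13.OInv

open Cfsg Cfsg.Lie Cfsg.Agent.Lead.Chev Cfsg.Agent.Lead.Tw

/-- the fundamental reflections of `K` fix the sign vector -/
def kfixChk (D : ChevalleyDatum) (Ws : List ℕ) (Kl : List ℕ) (chiL : List Bool) : Bool :=
  Kl.all fun k => decide (k < D.rank) && (List.range D.nroots).all fun r =>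
    chiL.getD (unpack8 (Ws.getD k 0) r) false == chiL.getD r false

/-- the roots in the span of `K` have trivial sign -/
def spanChk (D : ChevalleyDatum) (Kl : List ℕ) (chiL : List Bool) : Bool :=
  (List.range D.nroots).all fun r =>
    !(chiL.getD r false) || (List.range D.rank).any fun j => !(decide (j ∈ Kl)) && decide (cv D r j ≠ 0)

/-- the number of positive roots with trivial sign, computably -/
def nPosChiP (D : ChevalleyDatum) (chiL : List Bool) : ℕ :=
  ((List.range' (D.nroots / 2) (D.nroots / 2)).filter fun r => !(chiL.getD r false)).length

/-- the list of the relative lengths of the sign-fixing representatives -/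
def fixLens (D : ChevalleyDatum) (Ws : List ℕ) (chiL : List Bool) (Reps : List Rep) : List ℕ :=
  (Reps.filter fun e => chiFixP D Ws chiL e.x).map fun e => nNegChiP D Ws chiL e.x

end Cfsg.Agent.Helper13.OInv
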