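import Mathlib
import Cfsg.Agent.Lib.Helper13.OInvDefs2

/-!
# A light certificate for the set of the `K`-positive actions (ODDINV): distinct `K`-positive words, as many as
`|W| / |W_K|` (counted with Lead's chains); no hints, the codes sorted.
-/

set_option autoImplicit false
set_option linter.unusedSectionVars false
set_option linter.unusedVariables false

namespace Cfsg.Agent.Helper13.OInv

open Cfsg Cfsg.Lie Cfsg.Agent.Lead.Chev Cfsg.Agent.Lead.Tw

/-- the code of a word: the images of the roots of `Lam`, in base `nroots` -/
def sepCode (D : ChevalleyDatum) (Ws : List ℕ) (Lam : List ℕ) (x : List ℕ) : ℕ :=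
  Lam.foldl (fun acc r => acc * D.nroots + reflWordP Ws x r) 0

/-- strictly increasing -/
def sortedChk : List ℕ → Bool
  | [] => true
  | [_] => true
  | a :: b :: t => decide (a < b) && sortedChk (b :: t)

/-- the words are valid, `K`-positive, and their codes strictly increase -/
def posChk (D : ChevalleyDatum) (Ws : List ℕ) (Kl Lam : List ℕ) (xs : List (List ℕ)) : Bool :=
  decide (D.nroots = 2 * (D.nroots / 2)) && Lam.all (fun r => decide (r < D.nroots)) &&
    Kl.all (fun k => decide (k < D.rank)) &&
    xs.all (fun x => x.all (fun i => decide (i < D.rank)) &&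
      Kl.all (fun k => decide (D.nroots / 2 ≤ reflWordP Ws x (D.simple k)))) &&
    sortedChk (xs.map (sepCode D Ws Lam))

/-- the list of the relative lengths of the sign-fixing words -/
def fixLensW (D : ChevalleyDatum) (Ws : List ℕ) (chiL : List Bool) (xs : List (List ℕ)) : List ℕ :=
  (xs.filter fun x => chiFixP D Ws chiL x).map fun x => nNegChiP D Ws chiL x

end Cfsg.Agent.Helper13.OInv
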