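import Mathlib
import Cfsg.Agent.Lib.Helper13.OInvAsm
import Cfsg.Agent.Lib.Helper17.OInvCERT2

set_option autoImplicit false
set_option linter.unusedSectionVars false
set_option linter.unusedVariables false

namespace Cfsg.Agent.Helper13.OInv

open Cfsg Cfsg.Lie Cfsg.Agent.Lead.Chev Cfsg.Agent.Lead.Tw Cfsg.Agent.Lead.PolyL

variable {F : Type*} [Field F] {D : ChevalleyDatum}

/-- the order of the centralizer of `s = T(signC I)` from the certificates -/
theorem card_centralizer_of_cert2 [Fintype F] (hF : ChevFacts D F) (hS : CorSize D) (hC : CorComb D) (hI : CorInj D)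
    (hcn : ∀ i < D.rank, ∀ r < D.nroots, D.cartan i (D.neg r) = - D.cartan i r)
    (hn : D.nroots = 2 * (D.nroots / 2)) (h2 : (-1 : F) ≠ 1)
    (I : List ℕ) (hI1 : I.Nodup) (hI2 : ∀ i ∈ I, i < D.rank)
    (s : GL D.Idx F) (hs : s ∈ D.diagonalSubgroup F) (hsc : (s : Matrix D.Idx D.Idx F) = Tmat D (signC F I))
    (Ws : List ℕ) (hWs : ∀ i < D.rank, ∀ v < D.nroots, unpack8 (Ws.getD i 0) v = D.reflectRoot i v)
    (Kl Lam : List ℕ) (xs : List (List ℕ)) (hchk : posChk D Ws Kl Lam xs = true)
    (stepsAll : List (List ℕ × List ℕ × List Rep)) (hall : ChainOK D Ws (List.range D.rank) stepsAll)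
    (hKfix : kfixChk D Ws Kl (chiList D I) = true) (hspan : spanChk D Kl (chiList D I) = true)
    (steps : List (List ℕ × List ℕ × List Rep)) (hchain : ChainOK D Ws Kl steps)
    (hcount : xs.length * (steps.map fun s => s.2.2.length).prod = (stepsAll.map fun s => s.2.2.length).prod)
    (hpos : 0 < (steps.map fun s => s.2.2.length).prod)
    (fixNs : List ℕ) (hfix : fixLensW D Ws (chiList D I) xs = fixNs)
    (Npos : ℕ) (hNpos : nPosChiP D (chiList D I) = Npos)
    (ds : List ℕ)
    (hpoly : mulL (prodP (List.replicate D.rank (pm1L 1))) (mulL (powSumL fixNs) (prodP (steps.map stepPoly))) =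
      prodP (ds.map pm1L))
    (hH : Nat.card ↥(D.diagonalSubgroup F) = (Fintype.card F - 1) ^ D.rank) :
    Nat.card {g : GL D.Idx F // g ∈ D.group F ∧ s * g = g * s} =
      Fintype.card F ^ Npos * (ds.map fun k => Fintype.card F ^ k - 1).prod := by
  set q := Fintype.card F with hq
  have hq1 : 1 ≤ q := Fintype.card_pos
  have hcnt := card_centralizer_diag hF hS hC hI hcn (signC F I) (fun i _ => signC_ne_zero I i) s hs hsc
    (chiOf (chiList D I)) (fun r hr => chi_signC I hI1 hI2 r hr) h2
  rw [hcnt, sum_weylSetChi_factor hF hS {i | i ∈ Kl} (chiOf (chiList D I))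
    (fun k hk _ r hr => kfix_of_chk hF Ws hWs Kl _ hKfix k hk r hr) (span_of_chk Kl _ hspan) q,
    sum_weylSetPosChi_of_count hF hS hI Ws hWs Kl Lam xs hchk
      (card_weylSetPos_of_chains hF hS hI Ws hWs Kl stepsAll steps hall hchain xs.length hcount hpos) (chiList D I) q,
    hF.sum_weylSet_of_chain hS hI Ws hWs steps Kl hchain q, nPosChi_eq hF hn, hNpos, hH, ← hq]
  have hfix' : ((xs.filter fun x => chiFixP D Ws (chiList D I) x).map
      fun x => q ^ nNegChiP D Ws (chiList D I) x) = fixNs.map fun n => q ^ n := by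
    rw [← hfix, fixLensW, List.map_map]
    rfl
  rw [hfix']
  -- the polynomial identity, over the integers
  have hZ : ((q - 1 : ℕ) : ℤ) ^ D.rank * (((fixNs.map fun n => q ^ n).sum : ℕ) *
      ((steps.map fun s => (s.2.2.map fun e => q ^ e.N).sum).prod : ℕ)) =
      (((ds.map fun k => q ^ k - 1).prod : ℕ) : ℤ) := by
    have e1 := congrArg (fun P => evalL P (q : ℤ)) hpoly
    simp only [evalL_mulL, evalL_prodP] at e1
    have a1 : ((List.replicate D.rank (pm1L 1)).map fun P => evalL P (q : ℤ)).prod = ((q - 1 : ℕ) : ℤ) ^ D.rank := by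
      rw [List.map_replicate, List.prod_replicate, evalL_pm1L, pow_one, Nat.cast_sub hq1, Nat.cast_one]
    have a2 : ((steps.map stepPoly).map fun P => evalL P (q : ℤ)).prod =
        (((steps.map fun s => (s.2.2.map fun e => q ^ e.N).sum).prod : ℕ) : ℤ) := by
      rw [List.map_map, Nat.cast_list_prod, List.map_map]
      congr 1
      apply List.map_congr_left
      intro s _
      simp only [Function.comp_apply, stepPoly]
      rw [evalL_powSumL, Nat.cast_list_sum, List.map_map, List.map_map]
      congr 1 <;> (apply List.map_congr_left; intro e _; simp)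
    have a3 : ((ds.map pm1L).map fun P => evalL P (q : ℤ)).prod = (((ds.map fun k => q ^ k - 1).prod : ℕ) : ℤ) := by
      rw [List.map_map, Nat.cast_list_prod, List.map_map]
      congr 1
      apply List.map_congr_left
      intro k _
      simp only [Function.comp_apply]
      rw [evalL_pm1L, Nat.cast_sub (Nat.one_le_pow _ _ hq1), Nat.cast_pow, Nat.cast_one]
    have a4 : evalL (powSumL fixNs) (q : ℤ) = (((fixNs.map fun n => q ^ n).sum : ℕ) : ℤ) := by
      rw [evalL_powSumL, Nat.cast_list_sum, List.map_map]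
      congr 1
    rw [a1, a2, a3, a4] at e1
    exact e1
  have hN : (q - 1) ^ D.rank * ((fixNs.map fun n => q ^ n).sum *
      (steps.map fun s => (s.2.2.map fun e => q ^ e.N).sum).prod) = (ds.map fun k => q ^ k - 1).prod := by
    have := hZ
    rw [← Nat.cast_pow, ← Nat.cast_mul, ← Nat.cast_mul] at this
    exact Nat.cast_injective this
  rw [← hN]
  ring

end Cfsg.Agent.Helper13.OInv
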