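import Mathlib
import Cfsg.Agent.Lib.Lead.WeylCert
import Cfsg.Agent.Lib.Lead.ChevWsTab
import Cfsg.Prelude.Def_ChevE8

set_option autoImplicit false

namespace Cfsg.Agent.Helper13.OInv

open Cfsg Cfsg.Lie Cfsg.Agent.Lead.Chev

def oJ_E8c1 : List ℕ := [1, 2, 3, 4, 5, 6, 7]
def oK_E8c1 : List ℕ := [1, 2, 3, 4, 5, 6]
def oLam_E8c1 : List ℕ := [0]
def oReps_E8c1 : List Rep := [
  ⟨[], [162, 141, 135, 130, 126, 123, 121, 120], [15, 16, 17, 18, 19, 20, 1], [0], 0⟩,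
  ⟨[7], [162, 141, 135, 130, 126, 123, 122, 119], [15, 16, 17, 18, 19, 2, 0], [1], 1⟩,
  ⟨[6, 7], [162, 141, 135, 130, 126, 124, 120, 117], [15, 16, 17, 18, 3, 1, 20], [2], 2⟩,
  ⟨[5, 6, 7], [162, 141, 135, 130, 127, 121, 120, 114], [15, 16, 17, 4, 2, 19, 20], [3], 3⟩,
  ⟨[4, 5, 6, 7], [162, 141, 135, 131, 123, 121, 120, 110], [15, 16, 5, 3, 18, 19, 20], [4], 4⟩,
  ⟨[3, 4, 5, 6, 7], [162, 142, 136, 126, 123, 121, 120, 105], [6, 7, 4, 17, 18, 19, 20], [5], 5⟩,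
  ⟨[1, 3, 4, 5, 6, 7], [162, 130, 147, 126, 123, 121, 120, 93], [5, 8, 15, 17, 18, 19, 20], [7], 6⟩,
  ⟨[2, 3, 4, 5, 6, 7], [163, 147, 130, 126, 123, 121, 120, 99], [8, 5, 16, 17, 18, 19, 20], [6], 6⟩,
  ⟨[2, 1, 3, 4, 5, 6, 7], [163, 136, 142, 126, 123, 121, 120, 88], [7, 6, 9, 17, 18, 19, 20], [8], 7⟩,
  ⟨[3, 2, 1, 3, 4, 5, 6, 7], [164, 135, 141, 131, 123, 121, 120, 84], [16, 15, 8, 10, 18, 19, 20], [9], 8⟩,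
  ⟨[4, 3, 2, 1, 3, 4, 5, 6, 7], [165, 135, 141, 130, 127, 121, 120, 81], [16, 15, 17, 9, 11, 19, 20], [10], 9⟩,
  ⟨[5, 4, 3, 2, 1, 3, 4, 5, 6, 7], [166, 135, 141, 130, 126, 124, 120, 79], [16, 15, 17, 18, 10, 12, 20], [11], 10⟩,
  ⟨[6, 5, 4, 3, 2, 1, 3, 4, 5, 6, 7], [167, 135, 141, 130, 126, 123, 122, 78], [16, 15, 17, 18, 19, 11, 13], [12], 11⟩,
  ⟨[7, 6, 5, 4, 3, 2, 1, 3, 4, 5, 6, 7], [168, 135, 141, 130, 126, 123, 121, 78], [16, 15, 17, 18, 19, 20, 12], [13], 12⟩]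

set_option maxRecDepth 1000000 in
theorem oChk_E8c1 : stepChk chevE8 (wsOf chevE8) oJ_E8c1 oK_E8c1 oLam_E8c1 oReps_E8c1 = true := by
  decide +kernel

def oJ_E8c2 : List ℕ := [1, 2, 3, 4, 5, 6]
def oK_E8c2 : List ℕ := [1, 2, 3, 4, 5]
def oLam_E8c2 : List ℕ := [1]
def oReps_E8c2 : List Rep := [
  ⟨[], [162, 141, 135, 130, 126, 123, 121, 120], [13, 14, 15, 16, 17, 1], [1], 0⟩,
  ⟨[6], [162, 141, 135, 130, 126, 124, 118, 122], [13, 14, 15, 16, 2, 0], [2], 1⟩,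
  ⟨[5, 6], [162, 141, 135, 130, 127, 121, 115, 125], [13, 14, 15, 3, 1, 17], [3], 2⟩,
  ⟨[4, 5, 6], [162, 141, 135, 131, 123, 121, 111, 129], [13, 14, 4, 2, 16, 17], [4], 3⟩,
  ⟨[3, 4, 5, 6], [162, 142, 136, 126, 123, 121, 106, 134], [5, 6, 3, 15, 16, 17], [5], 4⟩,
  ⟨[1, 3, 4, 5, 6], [162, 130, 147, 126, 123, 121, 94, 146], [4, 7, 13, 15, 16, 17], [7], 5⟩,
  ⟨[2, 3, 4, 5, 6], [163, 147, 130, 126, 123, 121, 100, 140], [7, 4, 14, 15, 16, 17], [6], 5⟩,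
  ⟨[2, 1, 3, 4, 5, 6], [163, 136, 142, 126, 123, 121, 89, 151], [6, 5, 8, 15, 16, 17], [8], 6⟩,
  ⟨[3, 2, 1, 3, 4, 5, 6], [164, 135, 141, 131, 123, 121, 85, 155], [14, 13, 7, 9, 16, 17], [9], 7⟩,
  ⟨[4, 3, 2, 1, 3, 4, 5, 6], [165, 135, 141, 130, 127, 121, 82, 158], [14, 13, 15, 8, 10, 17], [10], 8⟩,
  ⟨[5, 4, 3, 2, 1, 3, 4, 5, 6], [166, 135, 141, 130, 126, 124, 80, 160], [14, 13, 15, 16, 9, 11], [11], 9⟩,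
  ⟨[6, 5, 4, 3, 2, 1, 3, 4, 5, 6], [167, 135, 141, 130, 126, 123, 80, 161], [14, 13, 15, 16, 17, 10], [12], 10⟩]

set_option maxRecDepth 1000000 in
theorem oChk_E8c2 : stepChk chevE8 (wsOf chevE8) oJ_E8c2 oK_E8c2 oLam_E8c2 oReps_E8c2 = true := by
  decide +kernel

end Cfsg.Agent.Helper13.OInv
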