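import Mathlib
import Cfsg.Agent.Lib.Lead.WeylCert
import Cfsg.Agent.Lib.Lead.ChevWsTab
import Cfsg.Prelude.Def_ChevF4

set_option autoImplicit false

namespace Cfsg.Agent.Helper13.OInv

open Cfsg Cfsg.Lie Cfsg.Agent.Lead.Chev

def oJ_F4a : List ℕ := [0, 1, 2, 3]
def oK_F4a : List ℕ := [1, 2, 3]
def oLam_F4a : List ℕ := [3]
def oReps_F4a : List Rep := [
  ⟨[], [33, 27, 25, 24], [1, 25, 26, 27], [3], 0⟩,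
  ⟨[0], [14, 34, 25, 24], [0, 2, 26, 27], [7], 1⟩,
  ⟨[1, 0], [13, 33, 30, 24], [25, 1, 3, 27], [8], 2⟩,
  ⟨[2, 1, 0], [12, 33, 30, 26], [25, 4, 2, 5], [9], 3⟩,
  ⟨[1, 2, 1, 0], [10, 34, 25, 31], [6, 3, 26, 7], [11], 4⟩,
  ⟨[3, 2, 1, 0], [11, 33, 31, 25], [25, 7, 27, 3], [10], 4⟩,
  ⟨[0, 1, 2, 1, 0], [10, 27, 25, 42], [4, 25, 26, 8], [18], 5⟩,
  ⟨[3, 1, 2, 1, 0], [9, 34, 26, 30], [8, 5, 9, 4], [12], 5⟩,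
  ⟨[3, 0, 1, 2, 1, 0], [9, 27, 26, 41], [7, 25, 10, 6], [19], 6⟩,
  ⟨[2, 3, 1, 2, 1, 0], [8, 35, 24, 30], [10, 11, 7, 26], [13], 6⟩,
  ⟨[2, 3, 0, 1, 2, 1, 0], [8, 28, 24, 41], [9, 12, 8, 26], [20], 7⟩,
  ⟨[1, 2, 3, 1, 2, 1, 0], [7, 37, 24, 25], [13, 9, 27, 26], [14], 7⟩,
  ⟨[1, 2, 3, 0, 1, 2, 1, 0], [7, 28, 24, 41], [14, 10, 15, 26], [27], 8⟩,
  ⟨[0, 1, 2, 3, 1, 2, 1, 0], [3, 37, 24, 25], [11, 14, 27, 26], [33], 8⟩,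
  ⟨[0, 1, 2, 3, 0, 1, 2, 1, 0], [3, 35, 24, 30], [12, 13, 16, 26], [34], 9⟩,
  ⟨[2, 1, 2, 3, 0, 1, 2, 1, 0], [7, 27, 26, 41], [16, 25, 12, 17], [28], 9⟩,
  ⟨[2, 0, 1, 2, 3, 0, 1, 2, 1, 0], [3, 34, 26, 30], [15, 18, 14, 19], [35], 10⟩,
  ⟨[3, 2, 1, 2, 3, 0, 1, 2, 1, 0], [7, 27, 25, 42], [19, 25, 26, 15], [29], 10⟩,
  ⟨[1, 2, 0, 1, 2, 3, 0, 1, 2, 1, 0], [3, 33, 31, 25], [25, 16, 27, 20], [37], 11⟩,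
  ⟨[3, 2, 0, 1, 2, 3, 0, 1, 2, 1, 0], [3, 34, 25, 31], [17, 20, 26, 16], [36], 11⟩,
  ⟨[3, 1, 2, 0, 1, 2, 3, 0, 1, 2, 1, 0], [3, 33, 30, 26], [25, 19, 21, 18], [38], 12⟩,
  ⟨[2, 3, 1, 2, 0, 1, 2, 3, 0, 1, 2, 1, 0], [3, 33, 30, 24], [25, 22, 20, 27], [39], 13⟩,
  ⟨[1, 2, 3, 1, 2, 0, 1, 2, 3, 0, 1, 2, 1, 0], [3, 34, 25, 24], [23, 21, 26, 27], [40], 14⟩,
  ⟨[0, 1, 2, 3, 1, 2, 0, 1, 2, 3, 0, 1, 2, 1, 0], [7, 27, 25, 24], [22, 25, 26, 27], [44], 15⟩]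

set_option maxRecDepth 1000000 in
theorem oChk_F4a : stepChk chevF4 (wsOf chevF4) oJ_F4a oK_F4a oLam_F4a oReps_F4a = true := by
  decide +kernel

def oJ_F4a1 : List ℕ := [1, 2, 3]
def oK_F4a1 : List ℕ := [2, 3]
def oLam_F4a1 : List ℕ := [7]
def oReps_F4a1 : List Rep := [
  ⟨[], [33, 27, 25, 24], [1, 10, 11], [7], 0⟩,
  ⟨[1], [34, 20, 30, 24], [0, 2, 11], [8], 1⟩,
  ⟨[2, 1], [35, 19, 30, 26], [3, 1, 4], [9], 2⟩,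
  ⟨[1, 2, 1], [37, 19, 25, 31], [2, 10, 5], [11], 3⟩,
  ⟨[3, 2, 1], [36, 18, 31, 25], [5, 11, 2], [10], 3⟩,
  ⟨[3, 1, 2, 1], [38, 18, 26, 30], [4, 6, 3], [12], 4⟩,
  ⟨[2, 3, 1, 2, 1], [39, 18, 24, 30], [7, 5, 10], [13], 5⟩,
  ⟨[1, 2, 3, 1, 2, 1], [40, 18, 24, 25], [6, 11, 10], [14], 6⟩]

set_option maxRecDepth 1000000 in
theorem oChk_F4a1 : stepChk chevF4 (wsOf chevF4) oJ_F4a1 oK_F4a1 oLam_F4a1 oReps_F4a1 = true := by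
  decide +kernel

def oJ_F4a2 : List ℕ := [2, 3]
def oK_F4a2 : List ℕ := [3]
def oLam_F4a2 : List ℕ := [2]
def oReps_F4a2 : List Rep := [
  ⟨[], [33, 27, 25, 24], [1, 6], [2], 0⟩,
  ⟨[2], [33, 28, 22, 26], [0, 2], [1], 1⟩,
  ⟨[3, 2], [33, 29, 21, 25], [6, 1], [0], 2⟩]

set_option maxRecDepth 1000000 in
theorem oChk_F4a2 : stepChk chevF4 (wsOf chevF4) oJ_F4a2 oK_F4a2 oLam_F4a2 oReps_F4a2 = true := by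
  decide +kernel

def oJ_F4a3 : List ℕ := [3]
def oK_F4a3 : List ℕ := []
def oLam_F4a3 : List ℕ := [0]
def oReps_F4a3 : List Rep := [
  ⟨[], [33, 27, 25, 24], [1], [0], 0⟩,
  ⟨[3], [33, 27, 26, 23], [0], [1], 1⟩]

set_option maxRecDepth 1000000 in
theorem oChk_F4a3 : stepChk chevF4 (wsOf chevF4) oJ_F4a3 oK_F4a3 oLam_F4a3 oReps_F4a3 = true := by
  decide +kernel

end Cfsg.Agent.Helper13.OInv
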