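import Mathlib
import Cfsg.Agent.Lib.Helper13.OInvDefs2
import Cfsg.Agent.Lib.Lead.ChevHCard

/-!
# The fusion table for the sign elements of `H` (ODDINV), with bit masks
-/

set_option autoImplicit false
set_option linter.unusedSectionVars false
set_option linter.unusedVariables false

namespace Cfsg.Agent.Helper13.OInv

open Cfsg Cfsg.Lie Cfsg.Agent.Lead.Chev Cfsg.Agent.Lead.Tw

/-- the element `T(signC I)` of `H` -/
noncomputable def sgnElt (D : ChevalleyDatum) (F : Type*) [Field F] (I : List ℕ) : GL D.Idx F :=
  torusHom D F (fun i => if i.val ∈ I then -1 else 1)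

/-- the subset of `range l` coded by the bits of `b` -/
def bitsOf (l b : ℕ) : List ℕ := (List.range l).filter fun i => b.testBit i

/-- `masks[i]` has bit `r` set iff `⟨r, α_i^∨⟩` is odd -/
def maskChk (D : ChevalleyDatum) (masks : List ℕ) : Bool :=
  (List.range D.rank).all fun i => (List.range D.nroots).all fun r =>
    (masks.getD i 0).testBit r == decide (D.cartan i r % 2 ≠ 0)

/-- the sign vector of `bitsOf l b`, as a bit mask -/
def maskOf (masks : List ℕ) (l b : ℕ) : ℕ :=
  (List.range l).foldl (fun acc i => if b.testBit i then acc ^^^ masks.getD i 0 else acc) 0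

/-- the word `w` carries the sign vector `mb` to `mt` -/
def fuseEntry (nroots : ℕ) (Ws : List ℕ) (mb mt : ℕ) (w : List ℕ) : Bool :=
  (List.range nroots).all fun r => mb.testBit (reflWordP Ws w r) == mt.testBit r

/-- the fusion table: entry `b` is a word `w` and a flag; `w` carries the sign vector of `bitsOf l b` to that of
`bitsOf l bs` (flag `false`) or `bitsOf l bt` (flag `true`) -/
def fuseChk (D : ChevalleyDatum) (Ws masks : List ℕ) (bs bt : ℕ) (tab : List (List ℕ × Bool)) : Bool :=
  (List.range (2 ^ D.rank)).all fun b =>
    b == 0 ||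
      (tab.getD b ([], false)).1.all (fun i => decide (i < D.rank)) &&
        fuseEntry D.nroots Ws (maskOf masks D.rank b)
          (maskOf masks D.rank (if (tab.getD b ([], false)).2 then bt else bs)) (tab.getD b ([], false)).1

end Cfsg.Agent.Helper13.OInv
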