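import Mathlib
import Cfsg.Agent.Lib.Helper13.OInvAsm2
import Cfsg.Agent.Lib.Helper23.OInvSGN
import Cfsg.Agent.Lib.Helper13.OInvData_E8b
import Cfsg.Agent.Lib.Helper13.OInvData_E8c
import Cfsg.Agent.Lib.Lead.ChevOrderForm

set_option autoImplicit false
set_option linter.unusedSectionVars false
set_option linter.unusedVariables false

namespace Cfsg.Agent.Helper13.OInv

open Cfsg Cfsg.Lie Cfsg.Agent.Lead.Chev Cfsg.Agent.Lead.Tw Cfsg.Agent.Lead.PolyL

set_option maxRecDepth 100000 in
theorem cartan_neg_E8 : ∀ i < chevE8.rank, ∀ r < chevE8.nroots, chevE8.cartan i (chevE8.neg r) = - chevE8.cartan i r := by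
  decide +kernel

def isE8 : List ℕ := [1, 2]
def itE8 : List ℕ := [1, 4, 6]

set_option maxRecDepth 100000 in
theorem kfix_E8s : kfixChk chevE8 (wsOf chevE8) oK_E8b (chiList chevE8 isE8) = true := by decide +kernel
set_option maxRecDepth 100000 in
theorem span_E8s : spanChk chevE8 oK_E8b (chiList chevE8 isE8) = true := by decide +kernel
set_option maxRecDepth 100000 in
theorem fix_E8s : fixLensW chevE8 (wsOf chevE8) (chiList chevE8 isE8) oXs_E8b =
    [0, 1, 2, 3, 4, 5, 6, 7, 7, 8, 9, 10, 11, 12, 13, 14] := by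
  decide +kernel

set_option maxRecDepth 100000 in
theorem npos_E8s : nPosChiP chevE8 (chiList chevE8 isE8) = 56 := by decide +kernel

def stepsE8s : List (List ℕ × List ℕ × List Rep) :=
  (oK_E8c1, oLam_E8c1, oReps_E8c1) :: (oK_E8c2, oLam_E8c2, oReps_E8c2) :: weylSteps_E8.drop 3

theorem chain_E8s : ChainOK chevE8 (wsOf chevE8) oK_E8b stepsE8s :=
  ⟨oChk_E8c1, oChk_E8c2, weylChain_E8.2.2.2⟩

set_option maxRecDepth 1000000 in
theorem count_E8s : oXs_E8b.length * (stepsE8s.map fun s => s.2.2.length).prod =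
    (weylSteps_E8.map fun s => s.2.2.length).prod := by decide +kernel

set_option maxRecDepth 1000000 in
theorem pos_E8s : 0 < (stepsE8s.map fun s => s.2.2.length).prod := by decide +kernel

set_option maxRecDepth 1000000 in
theorem poly_E8s : mulL (prodP (List.replicate chevE8.rank (pm1L 1)))
    (mulL (powSumL [0, 1, 2, 3, 4, 5, 6, 7, 7, 8, 9, 10, 11, 12, 13, 14]) (prodP (stepsE8s.map stepPoly))) =
      prodP ([2, 4, 6, 8, 10, 12, 14, 8].map pm1L) := by
  decide +kernel

set_option maxRecDepth 100000 in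
theorem kfix_E8t : kfixChk chevE8 (wsOf chevE8) weylK_E8_0 (chiList chevE8 itE8) = true := by decide +kernel
set_option maxRecDepth 100000 in
theorem span_E8t : spanChk chevE8 weylK_E8_0 (chiList chevE8 itE8) = true := by decide +kernel
set_option maxRecDepth 100000 in
theorem fix_E8t : fixLens chevE8 (wsOf chevE8) (chiList chevE8 itE8) weylReps_E8_0 = [0, 1] := by
  decide +kernel
set_option maxRecDepth 100000 in
theorem npos_E8t : nPosChiP chevE8 (chiList chevE8 itE8) = 64 := by decide +kernel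

set_option maxRecDepth 1000000 in
theorem poly_E8t : mulL (prodP (List.replicate chevE8.rank (pm1L 1)))
    (mulL (powSumL [0, 1]) (prodP (weylSteps_E8.tail.map stepPoly))) =
      prodP ([2, 2, 6, 8, 10, 12, 14, 18].map pm1L) := by
  decide +kernel

variable {F : Type*} [Field F] [Fintype F]

theorem memE8 : chevE8 ∈ [chevG2, chevB2, chevD4, chevF4, chevE6, chevE7, chevE8] := by simp

theorem card_cent_E8s (h2 : (-1 : F) ≠ 1) :
    Nat.card {g : GL chevE8.Idx F // g ∈ chevE8.group F ∧ sgnElt chevE8 F isE8 * g = g * sgnElt chevE8 F isE8} =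
      Fintype.card F ^ 56 * (([2, 4, 6, 8, 10, 12, 14, 8] : List ℕ).map fun k => Fintype.card F ^ k - 1).prod := by
  have hF : ChevFacts chevE8 F := chevFacts_of_mem chevE8 memE8
  refine card_centralizer_of_cert2 hF (corSize_of_mem _ memE8) (corComb_of_mem _ memE8) (corInj_of_mem _ memE8)
    cartan_neg_E8 (by decide) h2 isE8 (by decide) (by decide) _ (sgnElt_mem hF _) (sgnElt_val _)
    (wsOf chevE8) (wsTab_of_mem _ memE8) oK_E8b oLam_E8b oXs_E8b oPosChk_E8b weylSteps_E8 weylChain_E8
    kfix_E8s span_E8s stepsE8s chain_E8s count_E8s pos_E8s _ fix_E8s 56 npos_E8s [2, 4, 6, 8, 10, 12, 14, 8] poly_E8s ?_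
  have := Cfsg.Agent.S1035.result (F := F) rfl (chevE8, 1) (by simp)
  simpa using this

theorem card_cent_E8t (h2 : (-1 : F) ≠ 1) :
    Nat.card {g : GL chevE8.Idx F // g ∈ chevE8.group F ∧ sgnElt chevE8 F itE8 * g = g * sgnElt chevE8 F itE8} =
      Fintype.card F ^ 64 * (([2, 2, 6, 8, 10, 12, 14, 18] : List ℕ).map fun k => Fintype.card F ^ k - 1).prod := by
  have hF : ChevFacts chevE8 F := chevFacts_of_mem chevE8 memE8
  refine card_centralizer_of_cert hF (corSize_of_mem _ memE8) (corComb_of_mem _ memE8) (corInj_of_mem _ memE8)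
    cartan_neg_E8 (by decide) h2 itE8 (by decide) (by decide) _ (sgnElt_mem hF _) (sgnElt_val _)
    (wsOf chevE8) (wsTab_of_mem _ memE8) weylK_E8_0 weylLam_E8_0 weylReps_E8_0 weylChk_E8_0 kfix_E8t span_E8t
    weylSteps_E8.tail weylChain_E8.2 _ fix_E8t 64 npos_E8t [2, 2, 6, 8, 10, 12, 14, 18] poly_E8t ?_
  have := Cfsg.Agent.S1035.result (F := F) rfl (chevE8, 1) (by simp)
  simpa using this

end Cfsg.Agent.Helper13.OInv
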