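import Mathlib
import Cfsg.Agent.Lib.Helper13.OInvAsm
import Cfsg.Agent.Lib.Helper23.OInvSGN
import Cfsg.Agent.Lib.Helper13.OInvData_F4a
import Cfsg.Agent.Lib.Lead.ChevOrderForm

set_option autoImplicit false
set_option linter.unusedSectionVars false
set_option linter.unusedVariables false

namespace Cfsg.Agent.Helper13.OInv

open Cfsg Cfsg.Lie Cfsg.Agent.Lead.Chev Cfsg.Agent.Lead.Tw Cfsg.Agent.Lead.PolyL

set_option maxRecDepth 100000 in
theorem cartan_neg_F4 : ∀ i < chevF4.rank, ∀ r < chevF4.nroots, chevF4.cartan i (chevF4.neg r) = - chevF4.cartan i r := by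
  decide +kernel

def isF4 : List ℕ := [1]
def itF4 : List ℕ := [0, 2]

set_option maxRecDepth 100000 in
theorem kfix_F4s : kfixChk chevF4 (wsOf chevF4) oK_F4a (chiList chevF4 isF4) = true := by decide +kernel
set_option maxRecDepth 100000 in
theorem span_F4s : spanChk chevF4 oK_F4a (chiList chevF4 isF4) = true := by decide +kernel
set_option maxRecDepth 100000 in
theorem fix_F4s : fixLens chevF4 (wsOf chevF4) (chiList chevF4 isF4) oReps_F4a = [0, 1, 2, 3, 4, 5, 6, 7] := by
  decide +kernel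
set_option maxRecDepth 100000 in
theorem npos_F4s : nPosChiP chevF4 (chiList chevF4 isF4) = 16 := by decide +kernel

def stepsF4s : List (List ℕ × List ℕ × List Rep) :=
  [(oK_F4a1, oLam_F4a1, oReps_F4a1), (oK_F4a2, oLam_F4a2, oReps_F4a2), (oK_F4a3, oLam_F4a3, oReps_F4a3)]

theorem chain_F4s : ChainOK chevF4 (wsOf chevF4) oK_F4a stepsF4s :=
  ⟨oChk_F4a1, oChk_F4a2, oChk_F4a3, rfl⟩

set_option maxRecDepth 1000000 in
theorem poly_F4s : mulL (prodP (List.replicate chevF4.rank (pm1L 1)))
    (mulL (powSumL [0, 1, 2, 3, 4, 5, 6, 7]) (prodP (stepsF4s.map stepPoly))) = prodP ([2, 4, 6, 8].map pm1L) := by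
  decide +kernel

set_option maxRecDepth 100000 in
theorem kfix_F4t : kfixChk chevF4 (wsOf chevF4) weylK_F4_0 (chiList chevF4 itF4) = true := by decide +kernel
set_option maxRecDepth 100000 in
theorem span_F4t : spanChk chevF4 weylK_F4_0 (chiList chevF4 itF4) = true := by decide +kernel
set_option maxRecDepth 100000 in
theorem fix_F4t : fixLens chevF4 (wsOf chevF4) (chiList chevF4 itF4) weylReps_F4_0 = [0, 1] := by
  decide +kernel
set_option maxRecDepth 100000 in
theorem npos_F4t : nPosChiP chevF4 (chiList chevF4 itF4) = 10 := by decide +kernel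

set_option maxRecDepth 1000000 in
theorem poly_F4t : mulL (prodP (List.replicate chevF4.rank (pm1L 1)))
    (mulL (powSumL [0, 1]) (prodP (weylSteps_F4.tail.map stepPoly))) = prodP ([2, 2, 4, 6].map pm1L) := by
  decide +kernel

variable {F : Type*} [Field F] [Fintype F]

theorem memF4 : chevF4 ∈ [chevG2, chevB2, chevD4, chevF4, chevE6, chevE7, chevE8] := by simp

theorem card_cent_F4s (h2 : (-1 : F) ≠ 1) :
    Nat.card {g : GL chevF4.Idx F // g ∈ chevF4.group F ∧ sgnElt chevF4 F isF4 * g = g * sgnElt chevF4 F isF4} =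
      Fintype.card F ^ 16 * (([2, 4, 6, 8] : List ℕ).map fun k => Fintype.card F ^ k - 1).prod := by
  have hF : ChevFacts chevF4 F := chevFacts_of_mem chevF4 memF4
  refine card_centralizer_of_cert hF (corSize_of_mem _ memF4) (corComb_of_mem _ memF4) (corInj_of_mem _ memF4)
    cartan_neg_F4 (by decide) h2 isF4 (by decide) (by decide) _ (sgnElt_mem hF _) (sgnElt_val _)
    (wsOf chevF4) (wsTab_of_mem _ memF4) oK_F4a oLam_F4a oReps_F4a oChk_F4a kfix_F4s span_F4s
    stepsF4s chain_F4s _ fix_F4s 16 npos_F4s [2, 4, 6, 8] poly_F4s ?_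
  have := Cfsg.Agent.S1035.result (F := F) rfl (chevF4, 1) (by simp)
  simpa using this

theorem card_cent_F4t (h2 : (-1 : F) ≠ 1) :
    Nat.card {g : GL chevF4.Idx F // g ∈ chevF4.group F ∧ sgnElt chevF4 F itF4 * g = g * sgnElt chevF4 F itF4} =
      Fintype.card F ^ 10 * (([2, 2, 4, 6] : List ℕ).map fun k => Fintype.card F ^ k - 1).prod := by
  have hF : ChevFacts chevF4 F := chevFacts_of_mem chevF4 memF4
  refine card_centralizer_of_cert hF (corSize_of_mem _ memF4) (corComb_of_mem _ memF4) (corInj_of_mem _ memF4)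
    cartan_neg_F4 (by decide) h2 itF4 (by decide) (by decide) _ (sgnElt_mem hF _) (sgnElt_val _)
    (wsOf chevF4) (wsTab_of_mem _ memF4) weylK_F4_0 weylLam_F4_0 weylReps_F4_0 weylChk_F4_0 kfix_F4t span_F4t
    weylSteps_F4.tail weylChain_F4.2 _ fix_F4t 10 npos_F4t [2, 2, 4, 6] poly_F4t ?_
  have := Cfsg.Agent.S1035.result (F := F) rfl (chevF4, 1) (by simp)
  simpa using this

end Cfsg.Agent.Helper13.OInv
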