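import Mathlib

set_option autoImplicit false

namespace Cfsg.Agent.Helper13.OInv

def fuseTab_E8 : List (List ℕ × Bool) := [
  ([], false),
  ([2, 3, 4, 5, 6, 7, 1, 3, 4, 5, 6, 2, 3, 4, 5, 1, 3, 4, 2, 3, 0, 2, 1, 3, 4, 5, 6, 7], true),
  ([3, 4, 5, 6, 7, 2, 3, 4, 5, 6, 0, 2, 3, 4, 5, 1, 3, 4, 2, 3, 0, 2, 1, 3, 4, 5, 6, 7], true),
  ([2, 0], false),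
  ([3, 4, 5, 6, 7, 1, 3, 4, 5, 6, 0, 2, 3, 4, 5, 1, 3, 4, 2, 3, 0, 2, 1, 3, 4, 5, 6, 7], true),
  ([3, 4, 5, 6, 7, 1, 3, 4, 5, 6, 2, 3, 4, 5, 1, 3, 4, 2, 3, 0, 2, 1, 3, 4, 5, 6, 7], true),
  ([], false),
  ([0], false),
  ([4, 5, 6, 7, 2, 1, 3, 4, 5, 6, 0, 2, 3, 4, 5, 1, 3, 4, 2, 3, 0, 2, 1, 3, 4, 5, 6, 7], true),
  ([1, 3, 2, 0], false),
  ([4, 5, 6, 7, 2, 3, 4, 5, 6, 0, 2, 3, 4, 5, 1, 3, 4, 2, 3, 0, 2, 1, 3, 4, 5, 6, 7], true),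
  ([3, 2, 0], false),
  ([4, 5, 6, 7, 1, 3, 4, 5, 6, 0, 2, 3, 4, 5, 1, 3, 4, 2, 3, 0, 2, 1, 3, 4, 5, 6, 7], true),
  ([4, 5, 6, 7, 1, 3, 4, 5, 6, 2, 3, 4, 5, 1, 3, 4, 2, 3, 0, 2, 1, 3, 4, 5, 6, 7], true),
  ([4, 5, 6, 7, 3, 4, 5, 6, 0, 2, 3, 4, 5, 1, 3, 4, 2, 3, 0, 2, 1, 3, 4, 5, 6, 7], true),
  ([4, 5, 6, 7, 3, 4, 5, 6, 2, 3, 4, 5, 1, 3, 4, 2, 3, 0, 2, 1, 3, 4, 5, 6, 7], true),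
  ([5, 6, 7, 3, 2, 1, 3, 4, 5, 6, 0, 2, 3, 4, 5, 1, 3, 4, 2, 3, 0, 2, 1, 3, 4, 5, 6, 7], true),
  ([3, 4, 1, 3, 2, 0], false),
  ([5, 4, 3, 2, 1, 3, 4, 5, 0, 2, 3, 4, 1, 3, 2, 0], false),
  ([5, 6, 7, 4, 5, 6, 3, 4, 5, 1, 3, 4, 2, 3, 0, 2, 1, 3, 4, 5, 6, 7], true),
  ([0, 2, 3, 4, 1, 3, 2, 0], false),
  ([2, 3, 4, 1, 3, 2, 0], false),
  ([5, 6, 7, 4, 5, 6, 0, 2, 3, 4, 5, 1, 3, 4, 2, 3, 0, 2, 1, 3, 4, 5, 6, 7], true),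
  ([5, 6, 7, 4, 5, 6, 2, 3, 4, 5, 1, 3, 4, 2, 3, 0, 2, 1, 3, 4, 5, 6, 7], true),
  ([5, 6, 7, 2, 1, 3, 4, 5, 6, 0, 2, 3, 4, 5, 1, 3, 4, 2, 3, 0, 2, 1, 3, 4, 5, 6, 7], true),
  ([4, 1, 3, 2, 0], false),
  ([5, 6, 7, 2, 3, 4, 5, 6, 0, 2, 3, 4, 5, 1, 3, 4, 2, 3, 0, 2, 1, 3, 4, 5, 6, 7], true),
  ([4, 3, 2, 0], false),
  ([5, 6, 7, 1, 3, 4, 5, 6, 0, 2, 3, 4, 5, 1, 3, 4, 2, 3, 0, 2, 1, 3, 4, 5, 6, 7], true),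
  ([5, 6, 7, 1, 3, 4, 5, 6, 2, 3, 4, 5, 1, 3, 4, 2, 3, 0, 2, 1, 3, 4, 5, 6, 7], true),
  ([5, 6, 7, 3, 4, 5, 6, 0, 2, 3, 4, 5, 1, 3, 4, 2, 3, 0, 2, 1, 3, 4, 5, 6, 7], true),
  ([5, 6, 7, 3, 4, 5, 6, 2, 3, 4, 5, 1, 3, 4, 2, 3, 0, 2, 1, 3, 4, 5, 6, 7], true),
  ([6, 7, 4, 3, 2, 1, 3, 4, 5, 6, 0, 2, 3, 4, 5, 1, 3, 4, 2, 3, 0, 2, 1, 3, 4, 5, 6, 7], true),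
  ([4, 5, 3, 4, 1, 3, 2, 0], false),
  ([3, 2, 1, 3, 4, 5, 0, 2, 3, 4, 1, 3, 2, 0], false),
  ([6, 7, 5, 6, 3, 4, 5, 1, 3, 4, 2, 3, 0, 2, 1, 3, 4, 5, 6, 7], true),
  ([4, 5, 0, 2, 3, 4, 1, 3, 2, 0], false),
  ([4, 5, 2, 3, 4, 1, 3, 2, 0], false),
  ([6, 7, 5, 6, 0, 2, 3, 4, 5, 1, 3, 4, 2, 3, 0, 2, 1, 3, 4, 5, 6, 7], true),
  ([6, 7, 5, 6, 2, 3, 4, 5, 1, 3, 4, 2, 3, 0, 2, 1, 3, 4, 5, 6, 7], true),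
  ([2, 3, 4, 5, 0, 2, 3, 4, 1, 3, 2, 0], false),
  ([6, 7, 5, 6, 4, 5, 3, 4, 2, 3, 0, 2, 1, 3, 4, 5, 6, 7], true),
  ([2, 1, 3, 4, 5, 0, 2, 3, 4, 1, 3, 2, 0], false),
  ([6, 7, 5, 6, 4, 5, 1, 3, 4, 2, 3, 0, 2, 1, 3, 4, 5, 6, 7], true),
  ([3, 4, 5, 0, 2, 3, 4, 1, 3, 2, 0], false),
  ([3, 4, 5, 2, 3, 4, 1, 3, 2, 0], false),
  ([1, 3, 4, 5, 0, 2, 3, 4, 1, 3, 2, 0], false),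
  ([1, 3, 4, 5, 2, 3, 4, 1, 3, 2, 0], false),
  ([6, 7, 3, 2, 1, 3, 4, 5, 6, 0, 2, 3, 4, 5, 1, 3, 4, 2, 3, 0, 2, 1, 3, 4, 5, 6, 7], true),
  ([5, 3, 4, 1, 3, 2, 0], false),
  ([4, 3, 2, 1, 3, 4, 5, 0, 2, 3, 4, 1, 3, 2, 0], false),
  ([6, 7, 4, 5, 6, 3, 4, 5, 1, 3, 4, 2, 3, 0, 2, 1, 3, 4, 5, 6, 7], true),
  ([5, 0, 2, 3, 4, 1, 3, 2, 0], false),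
  ([5, 2, 3, 4, 1, 3, 2, 0], false),
  ([6, 7, 4, 5, 6, 0, 2, 3, 4, 5, 1, 3, 4, 2, 3, 0, 2, 1, 3, 4, 5, 6, 7], true),
  ([6, 7, 4, 5, 6, 2, 3, 4, 5, 1, 3, 4, 2, 3, 0, 2, 1, 3, 4, 5, 6, 7], true),
  ([6, 7, 2, 1, 3, 4, 5, 6, 0, 2, 3, 4, 5, 1, 3, 4, 2, 3, 0, 2, 1, 3, 4, 5, 6, 7], true),
  ([5, 4, 1, 3, 2, 0], false),
  ([6, 7, 2, 3, 4, 5, 6, 0, 2, 3, 4, 5, 1, 3, 4, 2, 3, 0, 2, 1, 3, 4, 5, 6, 7], true),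
  ([5, 4, 3, 2, 0], false),
  ([6, 7, 1, 3, 4, 5, 6, 0, 2, 3, 4, 5, 1, 3, 4, 2, 3, 0, 2, 1, 3, 4, 5, 6, 7], true),
  ([6, 7, 1, 3, 4, 5, 6, 2, 3, 4, 5, 1, 3, 4, 2, 3, 0, 2, 1, 3, 4, 5, 6, 7], true),
  ([6, 7, 3, 4, 5, 6, 0, 2, 3, 4, 5, 1, 3, 4, 2, 3, 0, 2, 1, 3, 4, 5, 6, 7], true),
  ([6, 7, 3, 4, 5, 6, 2, 3, 4, 5, 1, 3, 4, 2, 3, 0, 2, 1, 3, 4, 5, 6, 7], true),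
  ([7, 5, 4, 3, 2, 1, 3, 4, 5, 6, 0, 2, 3, 4, 5, 1, 3, 4, 2, 3, 0, 2, 1, 3, 4, 5, 6, 7], true),
  ([5, 6, 4, 5, 3, 4, 1, 3, 2, 0], false),
  ([5, 6, 3, 2, 1, 3, 4, 5, 0, 2, 3, 4, 1, 3, 2, 0], false),
  ([7, 6, 3, 4, 5, 1, 3, 4, 2, 3, 0, 2, 1, 3, 4, 5, 6, 7], true),
  ([5, 6, 4, 5, 0, 2, 3, 4, 1, 3, 2, 0], false),
  ([5, 6, 4, 5, 2, 3, 4, 1, 3, 2, 0], false),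
  ([7, 6, 0, 2, 3, 4, 5, 1, 3, 4, 2, 3, 0, 2, 1, 3, 4, 5, 6, 7], true),
  ([7, 6, 2, 3, 4, 5, 1, 3, 4, 2, 3, 0, 2, 1, 3, 4, 5, 6, 7], true),
  ([5, 6, 2, 3, 4, 5, 0, 2, 3, 4, 1, 3, 2, 0], false),
  ([7, 6, 4, 5, 3, 4, 2, 3, 0, 2, 1, 3, 4, 5, 6, 7], true),
  ([5, 6, 2, 1, 3, 4, 5, 0, 2, 3, 4, 1, 3, 2, 0], false),
  ([7, 6, 4, 5, 1, 3, 4, 2, 3, 0, 2, 1, 3, 4, 5, 6, 7], true),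
  ([5, 6, 3, 4, 5, 0, 2, 3, 4, 1, 3, 2, 0], false),
  ([5, 6, 3, 4, 5, 2, 3, 4, 1, 3, 2, 0], false),
  ([5, 6, 1, 3, 4, 5, 0, 2, 3, 4, 1, 3, 2, 0], false),
  ([5, 6, 1, 3, 4, 5, 2, 3, 4, 1, 3, 2, 0], false),
  ([3, 4, 5, 6, 2, 3, 4, 5, 0, 2, 3, 4, 1, 3, 2, 0], false),
  ([7, 6, 5, 4, 2, 3, 0, 2, 1, 3, 4, 5, 6, 7], true),
  ([], true),
  ([2, 3, 4, 5, 6, 1, 3, 4, 5, 2, 3, 4, 1, 3, 2, 0], false),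
  ([7, 6, 5, 4, 3, 2, 1, 3, 4, 5, 6, 7], true),
  ([7, 6, 5, 4, 3, 0, 2, 1, 3, 4, 5, 6, 7], true),
  ([3, 4, 5, 6, 1, 3, 4, 5, 0, 2, 3, 4, 1, 3, 2, 0], false),
  ([3, 4, 5, 6, 1, 3, 4, 5, 2, 3, 4, 1, 3, 2, 0], false),
  ([4, 5, 6, 2, 3, 4, 5, 0, 2, 3, 4, 1, 3, 2, 0], false),
  ([7, 6, 5, 3, 4, 2, 3, 0, 2, 1, 3, 4, 5, 6, 7], true),
  ([4, 5, 6, 2, 1, 3, 4, 5, 0, 2, 3, 4, 1, 3, 2, 0], false),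
  ([7, 6, 5, 1, 3, 4, 2, 3, 0, 2, 1, 3, 4, 5, 6, 7], true),
  ([4, 5, 6, 3, 4, 5, 0, 2, 3, 4, 1, 3, 2, 0], false),
  ([4, 5, 6, 3, 4, 5, 2, 3, 4, 1, 3, 2, 0], false),
  ([4, 5, 6, 1, 3, 4, 5, 0, 2, 3, 4, 1, 3, 2, 0], false),
  ([4, 5, 6, 1, 3, 4, 5, 2, 3, 4, 1, 3, 2, 0], false),
  ([7, 4, 3, 2, 1, 3, 4, 5, 6, 0, 2, 3, 4, 5, 1, 3, 4, 2, 3, 0, 2, 1, 3, 4, 5, 6, 7], true),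
  ([6, 4, 5, 3, 4, 1, 3, 2, 0], false),
  ([6, 3, 2, 1, 3, 4, 5, 0, 2, 3, 4, 1, 3, 2, 0], false),
  ([7, 5, 6, 3, 4, 5, 1, 3, 4, 2, 3, 0, 2, 1, 3, 4, 5, 6, 7], true),
  ([6, 4, 5, 0, 2, 3, 4, 1, 3, 2, 0], false),
  ([6, 4, 5, 2, 3, 4, 1, 3, 2, 0], false),
  ([7, 5, 6, 0, 2, 3, 4, 5, 1, 3, 4, 2, 3, 0, 2, 1, 3, 4, 5, 6, 7], true),
  ([7, 5, 6, 2, 3, 4, 5, 1, 3, 4, 2, 3, 0, 2, 1, 3, 4, 5, 6, 7], true),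
  ([6, 2, 3, 4, 5, 0, 2, 3, 4, 1, 3, 2, 0], false),
  ([7, 5, 6, 4, 5, 3, 4, 2, 3, 0, 2, 1, 3, 4, 5, 6, 7], true),
  ([6, 2, 1, 3, 4, 5, 0, 2, 3, 4, 1, 3, 2, 0], false),
  ([7, 5, 6, 4, 5, 1, 3, 4, 2, 3, 0, 2, 1, 3, 4, 5, 6, 7], true),
  ([6, 3, 4, 5, 0, 2, 3, 4, 1, 3, 2, 0], false),
  ([6, 3, 4, 5, 2, 3, 4, 1, 3, 2, 0], false),
  ([6, 1, 3, 4, 5, 0, 2, 3, 4, 1, 3, 2, 0], false),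
  ([6, 1, 3, 4, 5, 2, 3, 4, 1, 3, 2, 0], false),
  ([7, 3, 2, 1, 3, 4, 5, 6, 0, 2, 3, 4, 5, 1, 3, 4, 2, 3, 0, 2, 1, 3, 4, 5, 6, 7], true),
  ([6, 5, 3, 4, 1, 3, 2, 0], false),
  ([6, 4, 3, 2, 1, 3, 4, 5, 0, 2, 3, 4, 1, 3, 2, 0], false),
  ([7, 4, 5, 6, 3, 4, 5, 1, 3, 4, 2, 3, 0, 2, 1, 3, 4, 5, 6, 7], true),
  ([6, 5, 0, 2, 3, 4, 1, 3, 2, 0], false),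
  ([6, 5, 2, 3, 4, 1, 3, 2, 0], false),
  ([7, 4, 5, 6, 0, 2, 3, 4, 5, 1, 3, 4, 2, 3, 0, 2, 1, 3, 4, 5, 6, 7], true),
  ([7, 4, 5, 6, 2, 3, 4, 5, 1, 3, 4, 2, 3, 0, 2, 1, 3, 4, 5, 6, 7], true),
  ([7, 2, 1, 3, 4, 5, 6, 0, 2, 3, 4, 5, 1, 3, 4, 2, 3, 0, 2, 1, 3, 4, 5, 6, 7], true),
  ([6, 5, 4, 1, 3, 2, 0], false),
  ([7, 2, 3, 4, 5, 6, 0, 2, 3, 4, 5, 1, 3, 4, 2, 3, 0, 2, 1, 3, 4, 5, 6, 7], true),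
  ([6, 5, 4, 3, 2, 0], false),
  ([7, 1, 3, 4, 5, 6, 0, 2, 3, 4, 5, 1, 3, 4, 2, 3, 0, 2, 1, 3, 4, 5, 6, 7], true),
  ([7, 1, 3, 4, 5, 6, 2, 3, 4, 5, 1, 3, 4, 2, 3, 0, 2, 1, 3, 4, 5, 6, 7], true),
  ([7, 3, 4, 5, 6, 0, 2, 3, 4, 5, 1, 3, 4, 2, 3, 0, 2, 1, 3, 4, 5, 6, 7], true),
  ([7, 3, 4, 5, 6, 2, 3, 4, 5, 1, 3, 4, 2, 3, 0, 2, 1, 3, 4, 5, 6, 7], true),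
  ([6, 5, 4, 3, 2, 1, 3, 4, 5, 6, 0, 2, 3, 4, 5, 1, 3, 4, 2, 3, 0, 2, 1, 3, 4, 5, 6, 7], true),
  ([6, 7, 5, 6, 4, 5, 3, 4, 1, 3, 2, 0], false),
  ([6, 7, 5, 6, 3, 2, 1, 3, 4, 5, 0, 2, 3, 4, 1, 3, 2, 0], false),
  ([3, 4, 5, 1, 3, 4, 2, 3, 0, 2, 1, 3, 4, 5, 6, 7], true),
  ([6, 7, 5, 6, 4, 5, 0, 2, 3, 4, 1, 3, 2, 0], false),
  ([6, 7, 5, 6, 4, 5, 2, 3, 4, 1, 3, 2, 0], false),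
  ([0, 2, 3, 4, 5, 1, 3, 4, 2, 3, 0, 2, 1, 3, 4, 5, 6, 7], true),
  ([2, 3, 4, 5, 1, 3, 4, 2, 3, 0, 2, 1, 3, 4, 5, 6, 7], true),
  ([6, 7, 5, 6, 2, 3, 4, 5, 0, 2, 3, 4, 1, 3, 2, 0], false),
  ([4, 5, 3, 4, 2, 3, 0, 2, 1, 3, 4, 5, 6, 7], true),
  ([6, 7, 5, 6, 2, 1, 3, 4, 5, 0, 2, 3, 4, 1, 3, 2, 0], false),
  ([4, 5, 1, 3, 4, 2, 3, 0, 2, 1, 3, 4, 5, 6, 7], true),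
  ([6, 7, 5, 6, 3, 4, 5, 0, 2, 3, 4, 1, 3, 2, 0], false),
  ([6, 7, 5, 6, 3, 4, 5, 2, 3, 4, 1, 3, 2, 0], false),
  ([6, 7, 5, 6, 1, 3, 4, 5, 0, 2, 3, 4, 1, 3, 2, 0], false),
  ([6, 7, 5, 6, 1, 3, 4, 5, 2, 3, 4, 1, 3, 2, 0], false),
  ([6, 7, 3, 4, 5, 6, 2, 3, 4, 5, 0, 2, 3, 4, 1, 3, 2, 0], false),
  ([5, 4, 2, 3, 0, 2, 1, 3, 4, 5, 6, 7], true),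
  ([6, 7], true),
  ([6, 7, 2, 3, 4, 5, 6, 1, 3, 4, 5, 2, 3, 4, 1, 3, 2, 0], false),
  ([5, 4, 3, 2, 1, 3, 4, 5, 6, 7], true),
  ([5, 4, 3, 0, 2, 1, 3, 4, 5, 6, 7], true),
  ([6, 7, 3, 4, 5, 6, 1, 3, 4, 5, 0, 2, 3, 4, 1, 3, 2, 0], false),
  ([6, 7, 3, 4, 5, 6, 1, 3, 4, 5, 2, 3, 4, 1, 3, 2, 0], false),
  ([6, 7, 4, 5, 6, 2, 3, 4, 5, 0, 2, 3, 4, 1, 3, 2, 0], false),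
  ([5, 3, 4, 2, 3, 0, 2, 1, 3, 4, 5, 6, 7], true),
  ([6, 7, 4, 5, 6, 2, 1, 3, 4, 5, 0, 2, 3, 4, 1, 3, 2, 0], false),
  ([5, 1, 3, 4, 2, 3, 0, 2, 1, 3, 4, 5, 6, 7], true),
  ([6, 7, 4, 5, 6, 3, 4, 5, 0, 2, 3, 4, 1, 3, 2, 0], false),
  ([6, 7, 4, 5, 6, 3, 4, 5, 2, 3, 4, 1, 3, 2, 0], false),
  ([6, 7, 4, 5, 6, 1, 3, 4, 5, 0, 2, 3, 4, 1, 3, 2, 0], false),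
  ([6, 7, 4, 5, 6, 1, 3, 4, 5, 2, 3, 4, 1, 3, 2, 0], false),
  ([4, 5, 6, 7, 3, 4, 5, 6, 2, 3, 4, 5, 0, 2, 3, 4, 1, 3, 2, 0], false),
  ([2, 3, 0, 2, 1, 3, 4, 5, 6, 7], true),
  ([4, 5, 6, 7], true),
  ([4, 5, 6, 7, 2, 3, 4, 5, 6, 1, 3, 4, 5, 2, 3, 4, 1, 3, 2, 0], false),
  ([3, 2, 1, 3, 4, 5, 6, 7], true),
  ([3, 0, 2, 1, 3, 4, 5, 6, 7], true),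
  ([4, 5, 6, 7, 3, 4, 5, 6, 1, 3, 4, 5, 0, 2, 3, 4, 1, 3, 2, 0], false),
  ([4, 5, 6, 7, 3, 4, 5, 6, 1, 3, 4, 5, 2, 3, 4, 1, 3, 2, 0], false),
  ([1, 3, 4, 5, 6, 7], true),
  ([1, 3, 4, 5, 6, 7, 2, 3, 4, 5, 6, 1, 3, 4, 5, 2, 3, 4, 1, 3, 2, 0], false),
  ([3, 4, 5, 6, 7], true),
  ([3, 4, 5, 6, 7, 2, 3, 4, 5, 6, 1, 3, 4, 5, 2, 3, 4, 1, 3, 2, 0], false),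
  ([2, 1, 3, 4, 5, 6, 7], true),
  ([0, 2, 1, 3, 4, 5, 6, 7], true),
  ([2, 3, 4, 5, 6, 7], true),
  ([0, 2, 3, 4, 5, 6, 7], true),
  ([5, 6, 7, 3, 4, 5, 6, 2, 3, 4, 5, 0, 2, 3, 4, 1, 3, 2, 0], false),
  ([4, 2, 3, 0, 2, 1, 3, 4, 5, 6, 7], true),
  ([5, 6, 7], true),
  ([5, 6, 7, 2, 3, 4, 5, 6, 1, 3, 4, 5, 2, 3, 4, 1, 3, 2, 0], false),
  ([4, 3, 2, 1, 3, 4, 5, 6, 7], true),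
  ([4, 3, 0, 2, 1, 3, 4, 5, 6, 7], true),
  ([5, 6, 7, 3, 4, 5, 6, 1, 3, 4, 5, 0, 2, 3, 4, 1, 3, 2, 0], false),
  ([5, 6, 7, 3, 4, 5, 6, 1, 3, 4, 5, 2, 3, 4, 1, 3, 2, 0], false),
  ([5, 6, 7, 4, 5, 6, 2, 3, 4, 5, 0, 2, 3, 4, 1, 3, 2, 0], false),
  ([3, 4, 2, 3, 0, 2, 1, 3, 4, 5, 6, 7], true),
  ([5, 6, 7, 4, 5, 6, 2, 1, 3, 4, 5, 0, 2, 3, 4, 1, 3, 2, 0], false),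
  ([1, 3, 4, 2, 3, 0, 2, 1, 3, 4, 5, 6, 7], true),
  ([5, 6, 7, 4, 5, 6, 3, 4, 5, 0, 2, 3, 4, 1, 3, 2, 0], false),
  ([5, 6, 7, 4, 5, 6, 3, 4, 5, 2, 3, 4, 1, 3, 2, 0], false),
  ([5, 6, 7, 4, 5, 6, 1, 3, 4, 5, 0, 2, 3, 4, 1, 3, 2, 0], false),
  ([5, 6, 7, 4, 5, 6, 1, 3, 4, 5, 2, 3, 4, 1, 3, 2, 0], false),
  ([5, 4, 3, 2, 1, 3, 4, 5, 6, 0, 2, 3, 4, 5, 1, 3, 4, 2, 3, 0, 2, 1, 3, 4, 5, 6, 7], true),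
  ([7, 5, 6, 4, 5, 3, 4, 1, 3, 2, 0], false),
  ([7, 5, 6, 3, 2, 1, 3, 4, 5, 0, 2, 3, 4, 1, 3, 2, 0], false),
  ([6, 3, 4, 5, 1, 3, 4, 2, 3, 0, 2, 1, 3, 4, 5, 6, 7], true),
  ([7, 5, 6, 4, 5, 0, 2, 3, 4, 1, 3, 2, 0], false),
  ([7, 5, 6, 4, 5, 2, 3, 4, 1, 3, 2, 0], false),
  ([6, 0, 2, 3, 4, 5, 1, 3, 4, 2, 3, 0, 2, 1, 3, 4, 5, 6, 7], true),
  ([6, 2, 3, 4, 5, 1, 3, 4, 2, 3, 0, 2, 1, 3, 4, 5, 6, 7], true),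
  ([7, 5, 6, 2, 3, 4, 5, 0, 2, 3, 4, 1, 3, 2, 0], false),
  ([6, 4, 5, 3, 4, 2, 3, 0, 2, 1, 3, 4, 5, 6, 7], true),
  ([7, 5, 6, 2, 1, 3, 4, 5, 0, 2, 3, 4, 1, 3, 2, 0], false),
  ([6, 4, 5, 1, 3, 4, 2, 3, 0, 2, 1, 3, 4, 5, 6, 7], true),
  ([7, 5, 6, 3, 4, 5, 0, 2, 3, 4, 1, 3, 2, 0], false),
  ([7, 5, 6, 3, 4, 5, 2, 3, 4, 1, 3, 2, 0], false),
  ([7, 5, 6, 1, 3, 4, 5, 0, 2, 3, 4, 1, 3, 2, 0], false),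
  ([7, 5, 6, 1, 3, 4, 5, 2, 3, 4, 1, 3, 2, 0], false),
  ([7, 3, 4, 5, 6, 2, 3, 4, 5, 0, 2, 3, 4, 1, 3, 2, 0], false),
  ([6, 5, 4, 2, 3, 0, 2, 1, 3, 4, 5, 6, 7], true),
  ([7], true),
  ([7, 2, 3, 4, 5, 6, 1, 3, 4, 5, 2, 3, 4, 1, 3, 2, 0], false),
  ([6, 5, 4, 3, 2, 1, 3, 4, 5, 6, 7], true),
  ([6, 5, 4, 3, 0, 2, 1, 3, 4, 5, 6, 7], true),
  ([7, 3, 4, 5, 6, 1, 3, 4, 5, 0, 2, 3, 4, 1, 3, 2, 0], false),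
  ([7, 3, 4, 5, 6, 1, 3, 4, 5, 2, 3, 4, 1, 3, 2, 0], false),
  ([7, 4, 5, 6, 2, 3, 4, 5, 0, 2, 3, 4, 1, 3, 2, 0], false),
  ([6, 5, 3, 4, 2, 3, 0, 2, 1, 3, 4, 5, 6, 7], true),
  ([7, 4, 5, 6, 2, 1, 3, 4, 5, 0, 2, 3, 4, 1, 3, 2, 0], false),
  ([6, 5, 1, 3, 4, 2, 3, 0, 2, 1, 3, 4, 5, 6, 7], true),
  ([7, 4, 5, 6, 3, 4, 5, 0, 2, 3, 4, 1, 3, 2, 0], false),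
  ([7, 4, 5, 6, 3, 4, 5, 2, 3, 4, 1, 3, 2, 0], false),
  ([7, 4, 5, 6, 1, 3, 4, 5, 0, 2, 3, 4, 1, 3, 2, 0], false),
  ([7, 4, 5, 6, 1, 3, 4, 5, 2, 3, 4, 1, 3, 2, 0], false),
  ([4, 3, 2, 1, 3, 4, 5, 6, 0, 2, 3, 4, 5, 1, 3, 4, 2, 3, 0, 2, 1, 3, 4, 5, 6, 7], true),
  ([7, 6, 4, 5, 3, 4, 1, 3, 2, 0], false),
  ([7, 6, 3, 2, 1, 3, 4, 5, 0, 2, 3, 4, 1, 3, 2, 0], false),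
  ([5, 6, 3, 4, 5, 1, 3, 4, 2, 3, 0, 2, 1, 3, 4, 5, 6, 7], true),
  ([7, 6, 4, 5, 0, 2, 3, 4, 1, 3, 2, 0], false),
  ([7, 6, 4, 5, 2, 3, 4, 1, 3, 2, 0], false),
  ([5, 6, 0, 2, 3, 4, 5, 1, 3, 4, 2, 3, 0, 2, 1, 3, 4, 5, 6, 7], true),
  ([5, 6, 2, 3, 4, 5, 1, 3, 4, 2, 3, 0, 2, 1, 3, 4, 5, 6, 7], true),
  ([7, 6, 2, 3, 4, 5, 0, 2, 3, 4, 1, 3, 2, 0], false),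
  ([5, 6, 4, 5, 3, 4, 2, 3, 0, 2, 1, 3, 4, 5, 6, 7], true),
  ([7, 6, 2, 1, 3, 4, 5, 0, 2, 3, 4, 1, 3, 2, 0], false),
  ([5, 6, 4, 5, 1, 3, 4, 2, 3, 0, 2, 1, 3, 4, 5, 6, 7], true),
  ([7, 6, 3, 4, 5, 0, 2, 3, 4, 1, 3, 2, 0], false),
  ([7, 6, 3, 4, 5, 2, 3, 4, 1, 3, 2, 0], false),
  ([7, 6, 1, 3, 4, 5, 0, 2, 3, 4, 1, 3, 2, 0], false),
  ([7, 6, 1, 3, 4, 5, 2, 3, 4, 1, 3, 2, 0], false),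
  ([3, 2, 1, 3, 4, 5, 6, 0, 2, 3, 4, 5, 1, 3, 4, 2, 3, 0, 2, 1, 3, 4, 5, 6, 7], true),
  ([7, 6, 5, 3, 4, 1, 3, 2, 0], false),
  ([7, 6, 4, 3, 2, 1, 3, 4, 5, 0, 2, 3, 4, 1, 3, 2, 0], false),
  ([4, 5, 6, 3, 4, 5, 1, 3, 4, 2, 3, 0, 2, 1, 3, 4, 5, 6, 7], true),
  ([7, 6, 5, 0, 2, 3, 4, 1, 3, 2, 0], false),
  ([7, 6, 5, 2, 3, 4, 1, 3, 2, 0], false),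
  ([4, 5, 6, 0, 2, 3, 4, 5, 1, 3, 4, 2, 3, 0, 2, 1, 3, 4, 5, 6, 7], true),
  ([4, 5, 6, 2, 3, 4, 5, 1, 3, 4, 2, 3, 0, 2, 1, 3, 4, 5, 6, 7], true),
  ([2, 1, 3, 4, 5, 6, 0, 2, 3, 4, 5, 1, 3, 4, 2, 3, 0, 2, 1, 3, 4, 5, 6, 7], true),
  ([7, 6, 5, 4, 1, 3, 2, 0], false),
  ([2, 3, 4, 5, 6, 0, 2, 3, 4, 5, 1, 3, 4, 2, 3, 0, 2, 1, 3, 4, 5, 6, 7], true),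
  ([7, 6, 5, 4, 3, 2, 0], false),
  ([1, 3, 4, 5, 6, 0, 2, 3, 4, 5, 1, 3, 4, 2, 3, 0, 2, 1, 3, 4, 5, 6, 7], true),
  ([1, 3, 4, 5, 6, 2, 3, 4, 5, 1, 3, 4, 2, 3, 0, 2, 1, 3, 4, 5, 6, 7], true),
  ([3, 4, 5, 6, 0, 2, 3, 4, 5, 1, 3, 4, 2, 3, 0, 2, 1, 3, 4, 5, 6, 7], true),
  ([3, 4, 5, 6, 2, 3, 4, 5, 1, 3, 4, 2, 3, 0, 2, 1, 3, 4, 5, 6, 7], true)]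

end Cfsg.Agent.Helper13.OInv
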