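import Mathlib

set_option autoImplicit false

namespace Cfsg.Agent.Helper13.OInv

def fuseTab_F4 : List (List ℕ × Bool) := [
  ([], false),
  ([1, 0], false),
  ([], false),
  ([0], false),
  ([3, 1, 2, 0, 1, 2, 3], true),
  ([], true),
  ([3, 2, 0, 1, 2, 3], true),
  ([3, 2, 1, 2, 3], true),
  ([2, 1, 2, 0, 1, 2, 3], true),
  ([2, 3], true),
  ([0, 1, 2, 3], true),
  ([1, 2, 3], true),
  ([1, 2, 0, 1, 2, 3], true),
  ([3], true),
  ([2, 0, 1, 2, 3], true),
  ([2, 1, 2, 3], true)]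

end Cfsg.Agent.Helper13.OInv
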