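import Mathlib
import Cfsg.Agent.Lib.Helper13.OInvF4Top
import Cfsg.Agent.Lib.Helper13.OInvE8Top
import Cfsg.Agent.Lib.Helper13.OInvFuse_F4
import Cfsg.Agent.Lib.Helper13.OInvFuse_E8
import Cfsg.Agent.Lib.Helper15.OInvFUSE
import Cfsg.Agent.Lib.Helper6.OInvHINV
import Cfsg.Agent.Lib.Helper4.OInvGLUE
import Cfsg.Agent.Lib.Helper19.OInvARITH

/-!
# ODDINV: the involutions of `F₄(q)` and `E₈(q)`, `q` odd — final assembly, modulo STEP1 (every element of square 1 is
conjugate into the diagonal subgroup `H`), which enters as the hypothesis `hS1`.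
-/

set_option autoImplicit false
set_option linter.unusedSectionVars false
set_option linter.unusedVariables false

namespace Cfsg.Agent.Helper13.OInv

open Cfsg Cfsg.Lie Cfsg.Agent.Lead.Chev Cfsg.Agent.Lead.Tw Cfsg.Agent.Lead.PolyL

def rowMasks_F4 : List ℕ := [18812898130056, 2190433353600, 119630370288438, 218222832852579]
def rowMasks_E8 : List ℕ := [20704396542038367424733491914620092534419798955723322403167678861672256, 51844003768978489081421662274780806913344498170800302062942232843960800, 51790031219548570289272509125489850590178084342756496724708560256041440, 88038125446849077264088890466515657962332146859841734315069280643810096, 168250932007776485175152212492995670102577025804607859085322436827350552, 332588348540278792202362407411527717188554811114544883376037069549079564, 663219912165574452665303100924087069728600367515865440902256417544345606, 1325461430136442926808816863125755873400476431580858341075940120903299075]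

set_option maxRecDepth 1000000 in
theorem maskChk_F4 : maskChk chevF4 rowMasks_F4 = true := by decide +kernel
set_option maxRecDepth 1000000 in
theorem maskChk_E8 : maskChk chevE8 rowMasks_E8 = true := by decide +kernel

-- bs = 2 (I = [1]), bt = 5 (I = [0,2])
set_option maxRecDepth 1000000 in
theorem fuseChk_F4 : fuseChk chevF4 (wsOf chevF4) rowMasks_F4 2 5 fuseTab_F4 = true := by decide +kernel

-- bs = 6 (I = [1,2]), bt = 82 (I = [1,4,6])
set_option maxRecDepth 1000000 in
theorem fuseChk_E8 : fuseChk chevE8 (wsOf chevE8) rowMasks_E8 6 82 fuseTab_E8 = true := by decide +kernel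

theorem bits_F4s : bitsOf chevF4.rank 2 = isF4 := by decide
theorem bits_F4t : bitsOf chevF4.rank 5 = itF4 := by decide
theorem bits_E8s : bitsOf chevE8.rank 6 = isE8 := by decide
theorem bits_E8t : bitsOf chevE8.rank 82 = itE8 := by decide

variable {F : Type*} [Field F] {D : ChevalleyDatum}

/-- every element of order 2 is conjugate to one of the two sign elements, given STEP1 -/
theorem all_invol_of_parts [Fintype F]
    (hS1 : ∀ g ∈ D.group F, g * g = 1 → ∃ c ∈ D.group F, c * g * c⁻¹ ∈ D.diagonalSubgroup F)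
    (hF : ChevFacts D F) (h2 : (-1 : F) ≠ 1)
    (hH : Nat.card ↥(D.diagonalSubgroup F) = (Fintype.card F - 1) ^ D.rank) (Ws : List ℕ)
    (hWs : ∀ i < D.rank, ∀ v < D.nroots, unpack8 (Ws.getD i 0) v = D.reflectRoot i v)
    (masks : List ℕ) (hmask : maskChk D masks = true) (bs bt : ℕ)
    (tab : List (List ℕ × Bool)) (hchk : fuseChk D Ws masks bs bt tab = true)
    (u : GL D.Idx F) (hu : u ∈ D.group F) (huu : u * u = 1) (hu1 : u ≠ 1) :
    ∃ c ∈ D.group F, c * u * c⁻¹ = sgnElt D F (bitsOf D.rank bs) ∨ c * u * c⁻¹ = sgnElt D F (bitsOf D.rank bt) := by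
  obtain ⟨c, hc, hcu⟩ := hS1 u hu huu
  set v := c * u * c⁻¹ with hv
  have hvv : v * v = 1 := by
    have : v * v = c * (u * u) * c⁻¹ := by rw [hv]; group
    rw [this, huu]; group
  obtain ⟨I, hI1, hI2, hvI⟩ := diag_sq_one hF hH v hcu hvv
  have hI0 : I ≠ [] := by
    rintro rfl
    apply hu1
    have h1 : sgnElt D F [] = 1 := by
      unfold sgnElt
      have : (fun i : Fin D.rank => if i.val ∈ ([] : List ℕ) then (-1 : Fˣ) else 1) = 1 := by
        funext i; simp
      rw [this, map_one]
    rw [h1] at hvI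
    have : u = c⁻¹ * v * c := by rw [hv]; group
    rw [this, hvI]; group
  obtain ⟨n, hn, hnI⟩ := fuse_of_chk hF h2 Ws hWs masks hmask bs bt tab hchk I hI1 hI2 hI0
  refine ⟨n * c, mul_mem hn hc, ?_⟩
  have e : n * c * u * (n * c)⁻¹ = n * v * n⁻¹ := by rw [hv]; group
  rw [e, hvI]
  exact hnI

/-- odd order of the field: `-1 ≠ 1` -/
theorem neg_one_ne_one_of_odd [Fintype F] (hodd : Odd (Fintype.card F)) : (-1 : F) ≠ 1 := by
  intro h
  have h20 : (2 : F) = 0 := by
    have : (1 : F) + 1 = 0 := by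
      nth_rewrite 1 [← h]
      exact neg_add_cancel 1
    rw [← this]; norm_num
  haveI : CharP F 2 := by
    apply CharTwo.of_one_ne_zero_of_two_eq_zero one_ne_zero h20
  have := FiniteField.even_card_of_char_two (F := F) (CharP.ringChar_of_prime_eq_zero Nat.prime_two h20)
  exact (Nat.not_even_iff_odd.2 hodd) (Nat.even_iff.2 this)

theorem two_le_card [Fintype F] : 2 ≤ Fintype.card F := Fintype.one_lt_card

/-- **S4280 modulo STEP1** -/
theorem main_F4 [Fintype F] (hodd : Odd (Fintype.card F))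
    (hS1 : ∀ g ∈ chevF4.group F, g * g = 1 → ∃ c ∈ chevF4.group F, c * g * c⁻¹ ∈ chevF4.diagonalSubgroup F) :
    ∃ s t : ↥(chevF4.group F), orderOf s = 2 ∧ orderOf t = 2 ∧ ¬ IsConj s t ∧
      (∀ u : ↥(chevF4.group F), orderOf u = 2 → IsConj u s ∨ IsConj u t) ∧
      Nat.card (Subgroup.centralizer ({s} : Set ↥(chevF4.group F))) =
        Fintype.card F ^ 16 * (Fintype.card F ^ 2 - 1) * (Fintype.card F ^ 4 - 1) * (Fintype.card F ^ 6 - 1) *
          (Fintype.card F ^ 8 - 1) ∧
      Nat.card (Subgroup.centralizer ({t} : Set ↥(chevF4.group F))) =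
        Fintype.card F ^ 10 * (Fintype.card F ^ 2 - 1) ^ 2 * (Fintype.card F ^ 4 - 1) * (Fintype.card F ^ 6 - 1) := by
  have h2 := neg_one_ne_one_of_odd hodd
  have hF : ChevFacts chevF4 F := chevFacts_of_mem chevF4 memF4
  have hH : Nat.card ↥(chevF4.diagonalSubgroup F) = (Fintype.card F - 1) ^ chevF4.rank := by
    have := Cfsg.Agent.S1035.result (F := F) rfl (chevF4, 1) (by simp)
    simpa using this
  have hA := card_cent_F4s (F := F) h2
  have hB := card_cent_F4t (F := F) h2
  have hA' : Nat.card {g : GL chevF4.Idx F // g ∈ chevF4.group F ∧ sgnElt chevF4 F isF4 * g = g * sgnElt chevF4 F isF4} =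
      Fintype.card F ^ 16 * (Fintype.card F ^ 2 - 1) * (Fintype.card F ^ 4 - 1) * (Fintype.card F ^ 6 - 1) *
          (Fintype.card F ^ 8 - 1) := by
    rw [hA]; simp only [List.map_cons, List.map_nil, List.prod_cons, List.prod_nil]; ring
  have hB' : Nat.card {g : GL chevF4.Idx F // g ∈ chevF4.group F ∧ sgnElt chevF4 F itF4 * g = g * sgnElt chevF4 F itF4} =
      Fintype.card F ^ 10 * (Fintype.card F ^ 2 - 1) ^ 2 * (Fintype.card F ^ 4 - 1) * (Fintype.card F ^ 6 - 1) := by
    rw [hB]; simp only [List.map_cons, List.map_nil, List.prod_cons, List.prod_nil]; ring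
  refine final_of_parts (sgnElt chevF4 F isF4) (sgnElt chevF4 F itF4)
    (hF.diagonal_le_group (sgnElt_mem hF _)) (hF.diagonal_le_group (sgnElt_mem hF _))
    (sgnElt_mul_self _) (sgnElt_ne_one h2 isF4 (by decide) (by decide) 33 (by decide) (by decide +kernel))
    (sgnElt_mul_self _) (sgnElt_ne_one h2 itF4 (by decide) (by decide) 24 (by decide) (by decide +kernel))
    _ _ hA' hB' (arith_F4 _ two_le_card) ?_
  intro u hu huu hu1
  have := all_invol_of_parts hS1 hF h2 hH (wsOf chevF4) (wsTab_of_mem _ memF4) rowMasks_F4 maskChk_F4 2 5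
    fuseTab_F4 fuseChk_F4 u hu huu hu1
  rw [bits_F4s, bits_F4t] at this
  exact this

theorem prod_Icc_1_7 (q : ℕ) : ∏ i ∈ Finset.Icc 1 7, (q ^ (2 * i) - 1) =
    (q ^ 2 - 1) * (q ^ 4 - 1) * (q ^ 6 - 1) * (q ^ 8 - 1) * (q ^ 10 - 1) * (q ^ 12 - 1) * (q ^ 14 - 1) := by
  rw [show Finset.Icc 1 7 = Finset.Ico 1 8 from rfl, Finset.prod_Ico_eq_prod_range]
  simp only [Finset.prod_range_succ, Finset.prod_range_zero]
  norm_num
  try ring

/-- **S4281 modulo STEP1** -/
theorem main_E8 [Fintype F] (hodd : Odd (Fintype.card F))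
    (hS1 : ∀ g ∈ chevE8.group F, g * g = 1 → ∃ c ∈ chevE8.group F, c * g * c⁻¹ ∈ chevE8.diagonalSubgroup F) :
    ∃ s t : ↥(chevE8.group F), orderOf s = 2 ∧ orderOf t = 2 ∧ ¬ IsConj s t ∧
      (∀ u : ↥(chevE8.group F), orderOf u = 2 → IsConj u s ∨ IsConj u t) ∧
      Nat.card (Subgroup.centralizer ({s} : Set ↥(chevE8.group F))) =
        Fintype.card F ^ 56 * (Fintype.card F ^ 8 - 1) * ∏ i ∈ Finset.Icc 1 7, (Fintype.card F ^ (2 * i) - 1) ∧
      Nat.card (Subgroup.centralizer ({t} : Set ↥(chevE8.group F))) =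
        Fintype.card F ^ 64 * (Fintype.card F ^ 2 - 1) ^ 2 * (Fintype.card F ^ 6 - 1) * (Fintype.card F ^ 8 - 1) *
          (Fintype.card F ^ 10 - 1) * (Fintype.card F ^ 12 - 1) * (Fintype.card F ^ 14 - 1) *
          (Fintype.card F ^ 18 - 1) := by
  have h2 := neg_one_ne_one_of_odd hodd
  have hF : ChevFacts chevE8 F := chevFacts_of_mem chevE8 memE8
  have hH : Nat.card ↥(chevE8.diagonalSubgroup F) = (Fintype.card F - 1) ^ chevE8.rank := by
    have := Cfsg.Agent.S1035.result (F := F) rfl (chevE8, 1) (by simp)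
    simpa using this
  have hA := card_cent_E8s (F := F) h2
  have hB := card_cent_E8t (F := F) h2
  have hA' : Nat.card {g : GL chevE8.Idx F // g ∈ chevE8.group F ∧ sgnElt chevE8 F isE8 * g = g * sgnElt chevE8 F isE8} =
      Fintype.card F ^ 56 * (Fintype.card F ^ 8 - 1) * ∏ i ∈ Finset.Icc 1 7, (Fintype.card F ^ (2 * i) - 1) := by
    rw [hA, prod_Icc_1_7]; simp only [List.map_cons, List.map_nil, List.prod_cons, List.prod_nil]; ring
  have hB' : Nat.card {g : GL chevE8.Idx F // g ∈ chevE8.group F ∧ sgnElt chevE8 F itE8 * g = g * sgnElt chevE8 F itE8} =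
      Fintype.card F ^ 64 * (Fintype.card F ^ 2 - 1) ^ 2 * (Fintype.card F ^ 6 - 1) * (Fintype.card F ^ 8 - 1) *
          (Fintype.card F ^ 10 - 1) * (Fintype.card F ^ 12 - 1) * (Fintype.card F ^ 14 - 1) *
          (Fintype.card F ^ 18 - 1) := by
    rw [hB]; simp only [List.map_cons, List.map_nil, List.prod_cons, List.prod_nil]; ring
  refine final_of_parts (sgnElt chevE8 F isE8) (sgnElt chevE8 F itE8)
    (hF.diagonal_le_group (sgnElt_mem hF _)) (hF.diagonal_le_group (sgnElt_mem hF _))
    (sgnElt_mul_self _) (sgnElt_ne_one h2 isE8 (by decide) (by decide) 162 (by decide) (by decide +kernel))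
    (sgnElt_mul_self _) (sgnElt_ne_one h2 itE8 (by decide) (by decide) 120 (by decide) (by decide +kernel))
    _ _ hA' hB' (arith_E8 _ two_le_card) ?_
  intro u hu huu hu1
  have := all_invol_of_parts hS1 hF h2 hH (wsOf chevE8) (wsTab_of_mem _ memE8) rowMasks_E8 maskChk_E8 6 82
    fuseTab_E8 fuseChk_E8 u hu huu hu1
  rw [bits_E8s, bits_E8t] at this
  exact this

end Cfsg.Agent.Helper13.OInv
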