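import Mathlib
import Cfsg.Agent.Lib.Helper17.GLParabolicDC

/-!
# Sylow 2-subgroups of `L_n(2).2` intersect non-trivially (helper13)

`sylow_inter_ne_bot`: an abstract criterion (index 2 normal subgroup `N`, a self-normalizing
2-subgroup `U₀` of `N` whose "opposite" conjugates form a single `U₀`-orbit);
`bruhat`, `self_normalizing`, `opposite` for the Borel subgroup of `GL_n(F)` (via the BN-pair of
helper17 / helper2); `isPGroup_upper` over `ZMod 2`; `main_S2486`.
-/

set_option autoImplicit false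
open scoped Pointwise MatrixGroups

namespace Cfsg.Agent.Helper13.OppSyl


/-- Abstract criterion: `N` normal of index 2 in `G`, `U₀` a self-normalizing 2-subgroup of `N` such that
the `N`-conjugates of `U₀` meeting `U₀` trivially form one `U₀`-orbit (represented by `w`).
Then any two Sylow 2-subgroups of `G` intersect non-trivially. -/
theorem sylow_inter_ne_bot {G : Type*} [Group G] [Finite G] (N : Subgroup G) [N.Normal]
    (hidx : N.index = 2) (U₀ : Subgroup G) (hU₀N : U₀ ≤ N) (hp : IsPGroup 2 U₀)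
    (h2 : ∀ n ∈ N, (∀ u ∈ U₀, n * u * n⁻¹ ∈ U₀) → n ∈ U₀)
    (w : G) (hw : w ∈ N)
    (h3 : ∀ n ∈ N, (∀ u ∈ U₀, n⁻¹ * u * n ∈ U₀ → u = 1) → ∃ u ∈ U₀, ∃ u' ∈ U₀, n = u * w * u')
    (H : Sylow 2 G) (x : G) :
    (H : Subgroup G) ⊓ MulAut.conj x • (H : Subgroup G) ≠ ⊥ := by
  classical
  have : Fact (Nat.Prime 2) := ⟨Nat.prime_two⟩
  obtain ⟨Q, hQ⟩ := hp.exists_le_sylow
  obtain ⟨g, hg⟩ := MulAction.exists_smul_eq G H Q
  -- an element of `Q` outside `N`
  have ht : ∃ t ∈ Q, t ∉ N := by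
    by_contra hcon
    push Not at hcon
    have hle : (Q : Subgroup G) ≤ N := hcon
    have h1 : N.index ∣ (Q : Subgroup G).index := Subgroup.index_dvd_of_le hle
    rw [hidx] at h1
    exact Q.not_dvd_index h1
  obtain ⟨t, htQ, htN⟩ := ht
  -- `Q ⊓ N = U₀`
  have hQN : ∀ z, z ∈ Q → z ∈ N → z ∈ U₀ := by
    set K : Subgroup G := (Q : Subgroup G) ⊓ N with hK
    have hKp : IsPGroup 2 K := Q.isPGroup'.to_le inf_le_left
    have hU₀K : U₀ ≤ K := le_inf hQ hU₀N
    by_contra hcon
    push Not at hcon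
    obtain ⟨z, hzQ, hzN, hzU⟩ := hcon
    have hlt : U₀.subgroupOf K < ⊤ := by
      rw [lt_top_iff_ne_top]
      intro h
      rw [Subgroup.subgroupOf_eq_top] at h
      exact hzU (h ⟨hzQ, hzN⟩)
    have hnil : Group.IsNilpotent K := hKp.isNilpotent
    have hnc := Group.normalizerCondition_of_isNilpotent (G := K)
    have h4 := hnc _ hlt
    obtain ⟨k, hk1, hk2⟩ := SetLike.exists_of_lt h4
    apply hk2
    rw [Subgroup.mem_subgroupOf]
    apply h2 k k.2.2
    intro u hu
    have h5 := (Subgroup.mem_normalizer_iff.1 hk1 ⟨u, hU₀K hu⟩).1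
      (by rw [Subgroup.mem_subgroupOf]; exact hu)
    rw [Subgroup.mem_subgroupOf] at h5
    simpa using h5
  -- elements of `Q` normalize `U₀`
  have hnorm : ∀ c ∈ Q, ∀ u ∈ U₀, c * u * c⁻¹ ∈ U₀ := by
    intro c hc u hu
    apply hQN
    · exact mul_mem (mul_mem hc (hQ hu)) (inv_mem hc)
    · exact (inferInstance : N.Normal).conj_mem u (hU₀N hu) c
  have hnorm' : ∀ c ∈ Q, ∀ u ∈ U₀, c⁻¹ * u * c ∈ U₀ := by
    intro c hc u hu
    have := hnorm c⁻¹ (inv_mem hc) u hu
    rwa [inv_inv] at this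
  -- the main claim for `Q`
  have main : ∀ y : G, ∃ s : G, s ≠ 1 ∧ s ∈ Q ∧ y⁻¹ * s * y ∈ Q := by
    intro y
    by_cases hA : ∃ u ∈ U₀, u ≠ 1 ∧ y⁻¹ * u * y ∈ U₀
    · obtain ⟨u, hu, hu1, hu2⟩ := hA
      exact ⟨u, hu1, hQ hu, hQ hu2⟩
    · push Not at hA
      -- replace `y` by an element of `N`
      obtain ⟨c, hcQ, hcN⟩ : ∃ c ∈ Q, y * c ∈ N := by
        by_cases hy : y ∈ N
        · exact ⟨1, one_mem _, by rwa [mul_one]⟩
        · refine ⟨t, htQ, ?_⟩
          rw [Subgroup.mul_mem_iff_of_index_two hidx]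
          exact ⟨fun h => absurd h hy, fun h => absurd h htN⟩
      set n := y * c with hn
      have hcond : ∀ u ∈ U₀, n⁻¹ * u * n ∈ U₀ → u = 1 := by
        intro u hu h
        by_contra hu1
        apply hA u hu hu1
        have h6 := hnorm c hcQ _ h
        have h7 : c * (n⁻¹ * u * n) * c⁻¹ = y⁻¹ * u * y := by
          rw [hn]
          group
        rwa [h7] at h6
      obtain ⟨u, hu, u', hu', hnu⟩ := h3 n hcN hcond
      -- `U₀ ∩ w U₀ w⁻¹ = 1`
      have hwcond : ∀ v ∈ U₀, w⁻¹ * v * w ∈ U₀ → v = 1 := by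
        intro v hv h
        have h8 : u * v * u⁻¹ ∈ U₀ := mul_mem (mul_mem hu hv) (inv_mem hu)
        have h9 : n⁻¹ * (u * v * u⁻¹) * n = u'⁻¹ * (w⁻¹ * v * w) * u' := by
          rw [hnu]
          group
        have h10 : n⁻¹ * (u * v * u⁻¹) * n ∈ U₀ := by
          rw [h9]
          exact mul_mem (mul_mem (inv_mem hu') h) hu'
        have h11 := hcond _ h8 h10
        have h12 : v = u⁻¹ * (u * v * u⁻¹) * u := by group
        rw [h12, h11]
        group
      -- the conjugate `t w t⁻¹`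
      have hmN : t * w * t⁻¹ ∈ N := (inferInstance : N.Normal).conj_mem w hw t
      have hmcond : ∀ v ∈ U₀, (t * w * t⁻¹)⁻¹ * v * (t * w * t⁻¹) ∈ U₀ → v = 1 := by
        intro v hv h
        have h13 : t⁻¹ * v * t ∈ U₀ := hnorm' t htQ v hv
        have h14 : w⁻¹ * (t⁻¹ * v * t) * w ∈ U₀ := by
          have h15 := hnorm' t htQ _ h
          have h16 : t⁻¹ * ((t * w * t⁻¹)⁻¹ * v * (t * w * t⁻¹)) * t = w⁻¹ * (t⁻¹ * v * t) * w := by
            group
          rwa [h16] at h15
        have h17 := hwcond _ h13 h14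
        have h18 : v = t * (t⁻¹ * v * t) * t⁻¹ := by group
        rw [h18, h17]
        group
      obtain ⟨u₁, hu₁, u₂, hu₂, hm⟩ := h3 _ hmN hmcond
      set s₀ := u₁⁻¹ * t with hs₀
      have hs₀Q : s₀ ∈ Q := mul_mem (inv_mem (hQ hu₁)) htQ
      have hs₀N : s₀ ∉ N := by
        intro h
        apply htN
        have : t = u₁ * s₀ := by rw [hs₀]; group
        rw [this]
        exact mul_mem (hU₀N hu₁) h
      have hs₀w : w⁻¹ * s₀ * w = u₂ * t := by
        have h19 : t * w = u₁ * w * u₂ * t := by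
          have : t * w = (t * w * t⁻¹) * t := by group
          rw [this, hm]
        rw [hs₀]
        calc w⁻¹ * (u₁⁻¹ * t) * w = w⁻¹ * u₁⁻¹ * (t * w) := by group
          _ = w⁻¹ * u₁⁻¹ * (u₁ * w * u₂ * t) := by rw [h19]
          _ = u₂ * t := by group
      refine ⟨u * s₀ * u⁻¹, ?_, mul_mem (mul_mem (hQ hu) hs₀Q) (inv_mem (hQ hu)), ?_⟩
      · intro h
        apply hs₀N
        have : s₀ = u⁻¹ * (u * s₀ * u⁻¹) * u := by group
        rw [this, h]
        simp
      · have hy : y = u * w * u' * c⁻¹ := by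
          rw [← hnu, hn]
          group
        have h20 : y⁻¹ * (u * s₀ * u⁻¹) * y = c * u'⁻¹ * (w⁻¹ * s₀ * w) * u' * c⁻¹ := by
          rw [hy]
          group
        rw [h20, hs₀w]
        exact mul_mem (mul_mem (mul_mem (mul_mem hcQ (inv_mem (hQ hu'))) (mul_mem (hQ hu₂) htQ))
          (hQ hu')) (inv_mem hcQ)
  -- transport back to `H`
  obtain ⟨s, hs1, hsQ, hsy⟩ := main (g * x * g⁻¹)
  intro hbot
  have hQ' : (Q : Subgroup G) = MulAut.conj g • (H : Subgroup G) := by
    rw [← hg]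
    exact Sylow.coe_subgroup_smul
  have hmemQ : ∀ z : G, z ∈ Q ↔ g⁻¹ * z * g ∈ H := by
    intro z
    change z ∈ (Q : Subgroup G) ↔ _
    rw [hQ', Subgroup.mem_pointwise_smul_iff_inv_smul_mem]
    simp only [MulAut.smul_def, MulAut.conj_inv_apply]
    exact Iff.rfl
  have h21 : g⁻¹ * s * g ∈ (H : Subgroup G) ⊓ MulAut.conj x • (H : Subgroup G) := by
    refine Subgroup.mem_inf.2 ⟨(hmemQ s).1 hsQ, ?_⟩
    rw [Subgroup.mem_pointwise_smul_iff_inv_smul_mem]
    have h22 := (hmemQ _).1 hsy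
    have h23 : g⁻¹ * ((g * x * g⁻¹)⁻¹ * s * (g * x * g⁻¹)) * g = x⁻¹ * (g⁻¹ * s * g) * x := by
      group
    rw [h23] at h22
    simp only [MulAut.smul_def, MulAut.conj_inv_apply]
    exact h22
  rw [hbot, Subgroup.mem_bot] at h21
  apply hs1
  have : s = g * (g⁻¹ * s * g) * g⁻¹ := by group
  rw [this, h21]
  group



section perm

theorem perm_eq_one_of_strictMono {n : ℕ} (σ : Equiv.Perm (Fin n))
    (h : ∀ i j : Fin n, i < j → σ i < σ j) : σ = 1 := by
  have hm : StrictMono σ := fun i j hij => h i j hij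
  ext i
  exact congrArg Fin.val (le_antisymm hm.apply_le hm.le_apply)

theorem exists_inversion {n : ℕ} (σ : Equiv.Perm (Fin n)) (h : σ ≠ 1) :
    ∃ i j : Fin n, i < j ∧ σ j < σ i := by
  by_contra hcon
  push Not at hcon
  apply h
  apply perm_eq_one_of_strictMono
  intro i j hij
  exact lt_of_le_of_ne (hcon i j hij) (fun e => hij.ne (σ.injective e))

theorem revPerm_mul_self {n : ℕ} : (Fin.revPerm : Equiv.Perm (Fin n)) * Fin.revPerm = 1 := by
  ext i
  simp

theorem exists_noninversion {n : ℕ} (σ : Equiv.Perm (Fin n)) (h : σ ≠ Fin.revPerm) :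
    ∃ i j : Fin n, i < j ∧ σ i < σ j := by
  by_contra hcon
  push Not at hcon
  apply h
  have h1 : σ * Fin.revPerm = 1 := by
    apply perm_eq_one_of_strictMono
    intro i j hij
    simp only [Equiv.Perm.mul_apply, Fin.revPerm_apply]
    have h2 : Fin.rev j < Fin.rev i := Fin.rev_lt_rev.2 hij
    exact lt_of_le_of_ne (hcon _ _ h2) (fun e => h2.ne' (σ.injective e))
  calc σ = σ * (Fin.revPerm * Fin.revPerm) := by rw [revPerm_mul_self, mul_one]
    _ = (σ * Fin.revPerm) * Fin.revPerm := by rw [mul_assoc]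
    _ = Fin.revPerm := by rw [h1, one_mul]

end perm

section gln

open Cfsg.Agent.Helper17.GLBN Matrix

variable {n : ℕ} {F : Type*} [Field F]

theorem bruhat (g : GL (Fin n) F) : ∃ b ∈ Cfsg.upperTriangularGL n F,
    ∃ σ : Equiv.Perm (Fin n), ∃ b' ∈ Cfsg.upperTriangularGL n F,
      g = b * permGL n F σ * b' := by
  obtain ⟨m, hm⟩ := Cfsg.Agent.Helper17.BNDC.exists_mem_doubleCoset (glBN n F) g
  obtain ⟨d, σ, hmd⟩ := m.2
  rw [DoubleCoset.mem_doubleCoset] at hm
  obtain ⟨b, hb, b', hb', rfl⟩ := hm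
  refine ⟨b * mono d 1, Subgroup.mul_mem _ hb (mono_one_mem_upperTriangular d), σ, b', hb', ?_⟩
  rw [hmd, mono_eq d σ]
  group

theorem permGL_conj_tGL (σ : Equiv.Perm (Fin n)) (k l : Fin n) (hkl : k ≠ l) (c : F) :
    permGL n F σ * tGL k l hkl c * (permGL n F σ)⁻¹ =
      tGL (σ k) (σ l) (fun h => hkl (σ.injective h)) c := by
  rw [permGL_apply, mono_mul_tGL, mul_assoc, mul_inv_cancel, mul_one]
  apply tGL_congr _ _ _ _ rfl rfl
  simp

theorem tGL_not_mem_upper (a b : Fin n) (hab : b < a) (c : F) (hc : c ≠ 0) :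
    tGL a b (ne_of_gt hab) c ∉ Cfsg.upperTriangularGL n F := by
  intro h
  have h' : (Matrix.transvection a b c).BlockTriangular id := h
  have h1 := h' (show id b < id a from hab)
  rw [Matrix.transvection, Matrix.add_apply, Matrix.one_apply_ne (ne_of_gt hab),
    Matrix.single_apply, if_pos ⟨rfl, rfl⟩, zero_add] at h1
  exact hc h1

theorem tGL_ne_one (a b : Fin n) (hab : a ≠ b) (c : F) (hc : c ≠ 0) : tGL a b hab c ≠ 1 := by
  intro h
  have h1 := congrArg (fun g : GL (Fin n) F => (g : Matrix (Fin n) (Fin n) F) a b) h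
  simp only [coe_tGL, Units.val_one] at h1
  rw [Matrix.transvection, Matrix.add_apply, Matrix.one_apply_ne hab,
    Matrix.single_apply, if_pos ⟨rfl, rfl⟩, zero_add] at h1
  exact hc h1

/-- the Borel subgroup is self-normalizing -/
theorem self_normalizing (g : GL (Fin n) F)
    (h : ∀ u ∈ Cfsg.upperTriangularGL n F, g * u * g⁻¹ ∈ Cfsg.upperTriangularGL n F) :
    g ∈ Cfsg.upperTriangularGL n F := by
  obtain ⟨b, hb, σ, b', hb', rfl⟩ := bruhat g
  have hσ : σ = 1 := by
    by_contra hne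
    obtain ⟨i, j, hij, hji⟩ := exists_inversion σ hne
    have h1 := h (b'⁻¹ * tGL i j hij.ne 1 * b')
      (mul_mem (mul_mem (inv_mem hb') (tGL_mem_upper i j hij 1)) hb')
    have h2 : b * permGL n F σ * b' * (b'⁻¹ * tGL i j hij.ne 1 * b') * (b * permGL n F σ * b')⁻¹ =
        b * (permGL n F σ * tGL i j hij.ne 1 * (permGL n F σ)⁻¹) * b⁻¹ := by group
    rw [h2, permGL_conj_tGL] at h1
    have h3 := mul_mem (mul_mem (inv_mem hb) h1) hb
    have h4 : b⁻¹ * (b * tGL (σ i) (σ j) (fun h => hij.ne (σ.injective h)) 1 * b⁻¹) * b =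
        tGL (σ i) (σ j) (fun h => hij.ne (σ.injective h)) 1 := by group
    rw [h4] at h3
    exact tGL_not_mem_upper _ _ hji 1 one_ne_zero h3
  subst hσ
  rw [map_one, mul_one]
  exact mul_mem hb hb'

/-- the conjugates of the Borel subgroup meeting it trivially -/
theorem opposite (g : GL (Fin n) F)
    (h : ∀ u ∈ Cfsg.upperTriangularGL n F, g⁻¹ * u * g ∈ Cfsg.upperTriangularGL n F → u = 1) :
    ∃ u ∈ Cfsg.upperTriangularGL n F, ∃ u' ∈ Cfsg.upperTriangularGL n F,
      g = u * permGL n F Fin.revPerm * u' := by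
  obtain ⟨b, hb, σ, b', hb', rfl⟩ := bruhat g
  have hσ : σ = Fin.revPerm := by
    by_contra hne
    have hne' : σ⁻¹ ≠ Fin.revPerm := by
      intro e
      apply hne
      have h1 : σ⁻¹ * Fin.revPerm = 1 := by rw [e, revPerm_mul_self]
      calc σ = σ * (σ⁻¹ * Fin.revPerm) := by rw [h1, mul_one]
        _ = Fin.revPerm := by group
    obtain ⟨i, j, hij, hσij⟩ := exists_noninversion σ⁻¹ hne'
    have hu : b * tGL i j hij.ne 1 * b⁻¹ ∈ Cfsg.upperTriangularGL n F :=
      mul_mem (mul_mem hb (tGL_mem_upper i j hij 1)) (inv_mem hb)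
    have h1 := h _ hu (by
      have h2 : (b * permGL n F σ * b')⁻¹ * (b * tGL i j hij.ne 1 * b⁻¹) * (b * permGL n F σ * b') =
          b'⁻¹ * (permGL n F σ⁻¹ * tGL i j hij.ne 1 * (permGL n F σ⁻¹)⁻¹) * b' := by
        rw [map_inv]
        group
      rw [h2, permGL_conj_tGL]
      exact mul_mem (mul_mem (inv_mem hb') (tGL_mem_upper _ _ hσij 1)) hb')
    apply tGL_ne_one i j hij.ne (1 : F) one_ne_zero
    calc tGL i j hij.ne (1 : F) = b⁻¹ * (b * tGL i j hij.ne 1 * b⁻¹) * b := by group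
      _ = 1 := by rw [h1]; group
  subst hσ
  exact ⟨b, hb, b', hb', rfl⟩

end gln

section two

open Cfsg.Agent.Helper17.GLBN Matrix

theorem strictUpper_pow {n : ℕ} {R : Type*} [CommRing R] (M : Matrix (Fin n) (Fin n) R)
    (hM : ∀ i j : Fin n, j ≤ i → M i j = 0) (k : ℕ) :
    ∀ i j : Fin n, j.val < i.val + k → (M ^ k) i j = 0 := by
  induction k with
  | zero =>
    intro i j h
    rw [pow_zero, Matrix.one_apply_ne]
    intro e
    subst e
    omega
  | succ k ih =>
    intro i j h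
    rw [pow_succ, Matrix.mul_apply]
    apply Finset.sum_eq_zero
    intro l _
    by_cases hl : l.val < i.val + k
    · rw [ih i l hl, zero_mul]
    · rw [hM l j (by rw [Fin.le_def]; omega), mul_zero]

theorem isPGroup_upper (n : ℕ) : IsPGroup 2 (Cfsg.upperTriangularGL n (ZMod 2)) := by
  have : Fact (Nat.Prime 2) := ⟨Nat.prime_two⟩
  rcases Nat.eq_zero_or_pos n with hn | hn
  · subst hn
    intro b
    refine ⟨0, ?_⟩
    apply Subtype.ext
    apply Units.ext
    ext i
    exact i.elim0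
  have : Nonempty (Fin n) := ⟨⟨0, hn⟩⟩
  intro b
  refine ⟨n, ?_⟩
  apply Subtype.ext
  apply Units.ext
  rw [SubgroupClass.coe_pow, Units.val_pow_eq_pow_val, OneMemClass.coe_one, Units.val_one]
  set A : Matrix (Fin n) (Fin n) (ZMod 2) := ((b : GL (Fin n) (ZMod 2)) : Matrix (Fin n) (Fin n) (ZMod 2)) with hA
  have hAt : A.BlockTriangular id := b.2
  have hM : ∀ i j : Fin n, j ≤ i → (A - 1) i j = 0 := by
    intro i j hji
    rcases lt_or_eq_of_le hji with h | h
    · rw [Matrix.sub_apply, hAt h, Matrix.one_apply_ne (ne_of_gt h), sub_zero]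
    · subst h
      have h1 := diag_ne_zero b.1 b.2 j
      have h2 : A j j = 1 := by
        rw [← hA] at h1
        generalize A j j = x at h1
        fin_cases x
        · exact absurd rfl h1
        · rfl
      rw [Matrix.sub_apply, h2, Matrix.one_apply_eq, sub_self]
  have hpow : (A - 1) ^ (2 ^ n) = 0 := by
    ext i j
    apply strictUpper_pow _ hM
    have h1 := j.2
    have h2 : n < 2 ^ n := Nat.lt_two_pow_self
    omega
  have h3 : A = (A - 1) + 1 := by abel
  rw [h3, add_pow_char_pow_of_commute 2 n (Commute.one_right _), hpow, one_pow, zero_add]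

end two


section final

open Cfsg.Agent.Helper17.GLBN Matrix

/-- any two Sylow 2-subgroups of an extension of degree 2 of `SL_n(2)` intersect non-trivially -/
theorem main_S2486 {G : Type*} [Group G] [Finite G] {n : ℕ} (N : Subgroup G) [N.Normal]
    (e : N ≃* Matrix.SpecialLinearGroup (Fin n) (ZMod 2)) (hidx : N.index = 2)
    (H : Sylow 2 G) (x : G) :
    (H : Subgroup G) ⊓ MulAut.conj x • (H : Subgroup G) ≠ ⊥ := by
  classical
  let φ : N →* GL (Fin n) (ZMod 2) := (Matrix.SpecialLinearGroup.toGL).comp e.toMonoidHom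
  have hφinj : Function.Injective φ := by
    intro a b hab
    apply e.injective
    have h0 : Matrix.SpecialLinearGroup.toGL (e a) = Matrix.SpecialLinearGroup.toGL (e b) := hab
    apply Subtype.ext
    have h1 := congrArg (fun g : GL (Fin n) (ZMod 2) => (g : Matrix (Fin n) (Fin n) (ZMod 2))) h0
    simpa using h1
  have hφsurj : Function.Surjective φ := by
    intro g
    have hdet : (g : Matrix (Fin n) (Fin n) (ZMod 2)).det = 1 := by
      have h1 : Matrix.GeneralLinearGroup.det g = 1 := Subsingleton.elim _ _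
      have h2 := congrArg Units.val h1
      simpa using h2
    obtain ⟨s, hs⟩ : ∃ s : Matrix.SpecialLinearGroup (Fin n) (ZMod 2),
        s.1 = (g : Matrix (Fin n) (Fin n) (ZMod 2)) := ⟨⟨_, hdet⟩, rfl⟩
    refine ⟨e.symm s, ?_⟩
    apply Units.ext
    show ((Matrix.SpecialLinearGroup.toGL (e (e.symm s)) : GL (Fin n) (ZMod 2)) :
      Matrix (Fin n) (Fin n) (ZMod 2)) = _
    rw [MulEquiv.apply_symm_apply]
    exact hs
  set B := Cfsg.upperTriangularGL n (ZMod 2) with hB
  set U₀ : Subgroup G := (B.comap φ).map N.subtype with hU₀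
  have hmem : ∀ y : N, (y : G) ∈ U₀ ↔ φ y ∈ B := by
    intro y
    rw [hU₀, Subgroup.mem_map]
    constructor
    · rintro ⟨z, hz, hzy⟩
      have h0 : z = y := Subtype.ext hzy
      rw [← h0]
      exact hz
    · intro h
      exact ⟨y, h, rfl⟩
  have hU₀N : U₀ ≤ N := by
    rw [hU₀]
    exact Subgroup.map_subtype_le _
  have hp : IsPGroup 2 U₀ := by
    rw [hU₀]
    exact ((isPGroup_upper n).comap_of_injective φ hφinj).map _
  obtain ⟨w, hw⟩ := hφsurj (permGL n (ZMod 2) Fin.revPerm)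
  refine sylow_inter_ne_bot N hidx U₀ hU₀N hp ?_ (w : G) w.2 ?_ H x
  · intro m hm hcond
    have h1 := self_normalizing (φ ⟨m, hm⟩) ?_
    · exact (hmem ⟨m, hm⟩).2 h1
    · intro u hu
      obtain ⟨y, rfl⟩ := hφsurj u
      have h2 := hcond (y : G) ((hmem y).2 hu)
      have h3 : m * (y : G) * m⁻¹ = ((⟨m, hm⟩ * y * ⟨m, hm⟩⁻¹ : N) : G) := by simp
      rw [h3, hmem] at h2
      simpa using h2
  · intro m hm hcond
    have hopp := opposite (φ ⟨m, hm⟩) ?_
    · obtain ⟨u, hu, u', hu', huw⟩ := hopp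
      obtain ⟨y, rfl⟩ := hφsurj u
      obtain ⟨y', rfl⟩ := hφsurj u'
      refine ⟨(y : G), (hmem y).2 hu, (y' : G), (hmem y').2 hu', ?_⟩
      rw [← hw, ← map_mul, ← map_mul] at huw
      have h0 := hφinj huw
      have h4 := congrArg (fun z : N => (z : G)) h0
      simpa using h4
    · intro u hu hu2
      obtain ⟨y, rfl⟩ := hφsurj u
      have h2 := hcond (y : G) ((hmem y).2 hu) ?_
      · have h0 : y = 1 := Subtype.ext h2
        rw [h0, map_one]
      · have h3 : m⁻¹ * (y : G) * m = ((⟨m, hm⟩⁻¹ * y * ⟨m, hm⟩ : N) : G) := by simp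
        rw [h3, hmem]
        simpa using hu2

end final

end Cfsg.Agent.Helper13.OppSyl
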