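import Mathlib
import Cfsg.Agent.Lib.Helper13.HermSemisimple
import Cfsg.Agent.Lib.Helper28.WittQuad

set_option autoImplicit false
set_option linter.unusedSectionVars false

/-!
# Conjugacy of semisimple isometries of odd order of a quadratic form
-/

namespace Cfsg.Agent.Helper13.OrthSS

open Polynomial Module QuadraticMap Cfsg.Agent.Helper13.SS Cfsg.Agent.Helper13.HermSS
  Cfsg.Agent.Helper13.SympSS

universe u

section poly
variable {F : Type*} [Field F]

/-- the cofactor of `X - 1` in `X ^ M - 1` -/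
noncomputable def geomPoly (F : Type*) [Field F] (M : ℕ) : F[X] := ∑ j ∈ Finset.range M, X ^ j

theorem sub_one_mul_geomPoly (M : ℕ) : (X - 1 : F[X]) * geomPoly F M = X ^ M - 1 :=
  mul_geom_sum X M

theorem eval_one_geomPoly (M : ℕ) : (geomPoly F M).eval 1 = (M : F) := by
  unfold geomPoly
  simp [eval_finsetSum]

theorem coprime_sub_one_geomPoly {M : ℕ} (hMF : (M : F) ≠ 0) :
    IsCoprime (X - 1 : F[X]) (geomPoly F M) := by
  have e : (X - 1 : F[X]) = X - C 1 := by rw [map_one]
  rw [e, (irreducible_X_sub_C (1 : F)).coprime_iff_not_dvd, dvd_iff_isRoot, IsRoot.def,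
    eval_one_geomPoly]
  exact hMF

theorem coprime_sub_one_geomPoly_comp {M : ℕ} (hMF : (M : F) ≠ 0) (k : ℕ) :
    IsCoprime (X - 1 : F[X]) ((geomPoly F M).comp (X ^ k)) := by
  have e : (X - 1 : F[X]) = X - C 1 := by rw [map_one]
  rw [e, (irreducible_X_sub_C (1 : F)).coprime_iff_not_dvd, dvd_iff_isRoot, IsRoot.def,
    eval_comp, eval_pow, eval_X, one_pow, eval_one_geomPoly]
  exact hMF

end poly

section quad
variable {F : Type*} [Field F] {V : Type*} [AddCommGroup V] [Module F V]
  {Q : QuadraticForm F V}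

/-- for an isometry `g`, `Q (x - g x) = β (x, x - g x)` -/
theorem map_sub_isom {g : V →ₗ[F] V} (hg : ∀ v, Q (g v) = Q v) (x : V) :
    Q (x - g x) = polar Q x (x - g x) := by
  rw [sub_eq_add_neg, QuadraticMap.map_add (⇑Q) x (-g x), QuadraticMap.map_neg, hg,
    polar_add_right, polar_self, polar_neg_right, two_nsmul]

end quad

section main
variable {F : Type u} [Field F] [Finite F] {V : Type u} [AddCommGroup V] [Module F V]
  [FiniteDimensional F V]

open Cfsg.Agent.Helper28.WittQuad in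
/-- two semisimple isometries of odd order which are linearly conjugate are conjugate by an
isometry -/
theorem exists_isometry_intertwiner (Q : QuadraticForm F V)
    (hQ : (polarBilin Q).Nondegenerate) (a b : Module.End F V)
    (ha : ∀ v, Q (a v) = Q v) (hb : ∀ v, Q (b v) = Q v) {M : ℕ} (hM : 1 ≤ M) (hodd : Odd M)
    (hMF : (M : F) ≠ 0) (haM : a ^ M = 1) (T : V ≃ₗ[F] V) (hT : ∀ v, T (a v) = b (T v)) :
    ∃ g : V ≃ₗ[F] V, (∀ v, Q (g v) = Q v) ∧ ∀ v, g (a v) = b (g v) := by
  -- `b ^ M = 1`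
  have hTpow : ∀ (k : ℕ) (v : V), T ((a ^ k) v) = (b ^ k) (T v) := by
    intro k
    induction k with
    | zero => intro v; simp
    | succ k ih =>
      intro v
      rw [pow_succ', pow_succ', Module.End.mul_apply, Module.End.mul_apply, hT, ih]
  have hbM : b ^ M = 1 := by
    apply LinearMap.ext
    intro w
    obtain ⟨v, rfl⟩ := T.surjective w
    rw [← hTpow, haM]
    rfl
  set β : LinearMap.BilinForm F V := polarBilin Q with hβ
  have hβa : ∀ u v, β u v = polar Q u v := fun u v => rfl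
  have hσ2 : ∀ x : F, (AlgHom.id F F) ((AlgHom.id F F) x) = x := fun x => rfl
  have hinv : ∀ (c : Module.End F V), (∀ v, Q (c v) = Q v) → HInv (AlgHom.id F F) 1 c β := by
    intro c hc
    refine ⟨?_, ?_, ?_, ?_⟩
    · intro x u v
      show β (x • u) v = β u (x • v)
      rw [map_smul, LinearMap.smul_apply, map_smul]
    · intro u v
      rw [one_mul, hβa, hβa, polar_comm]
    · exact hQ.1
    · intro u v
      rw [hβa, hβa]
      exact polar_of_isom hc u v
  have hinva := hinv a ha
  have hinvb := hinv b hb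
  set Ψ := geomPoly F M with hΨ
  have hcop : IsCoprime (X - 1 : F[X]) Ψ := coprime_sub_one_geomPoly hMF
  have hkill : ∀ c : Module.End F V, c ^ M = 1 → aeval c ((X - 1 : F[X]) * Ψ) = 0 := by
    intro c hc
    rw [sub_one_mul_geomPoly, map_sub, map_pow, aeval_X, map_one, hc, sub_self]
  -- the decompositions
  have key : ∀ c : Module.End F V, c ^ M = 1 → HInv (AlgHom.id F F) 1 c β →
      IsCompl (LinearMap.ker (aeval c Ψ)) (LinearMap.ker (aeval c (X - 1 : F[X]))) ∧
      (∀ w ∈ LinearMap.ker (aeval c Ψ), ∀ u ∈ LinearMap.ker (aeval c (X - 1 : F[X])),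
        β w u = 0) := by
    intro c hc hci
    refine ⟨(isCompl_ker_aeval c hcop (hkill c hc)).symm, ?_⟩
    intro w hw u hu
    have h1 : β u w = 0 := by
      apply hci.orth_of_coprime hσ2 hM hc (X - 1) Ψ _ u w (LinearMap.mem_ker.1 hu)
        (LinearMap.mem_ker.1 hw)
      have : Ψ.map ((AlgHom.id F F : F →ₐ[F] F) : F →+* F) = Ψ := Polynomial.map_id
      rw [this]
      exact coprime_sub_one_geomPoly_comp hMF _
    rw [hci.symm, h1, mul_zero]
  obtain ⟨hca, hoa⟩ := key a haM hinva
  obtain ⟨hcb, hob⟩ := key b hbM hinvb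
  set W := LinearMap.ker (aeval a Ψ) with hW
  set V₁ := LinearMap.ker (aeval a (X - 1 : F[X])) with hV₁
  set Wb := LinearMap.ker (aeval b Ψ) with hWb
  set V₁b := LinearMap.ker (aeval b (X - 1 : F[X])) with hV₁b
  have hWinv : ∀ v ∈ W, a v ∈ W := ker_aeval_invariant a Ψ
  have hWbinv : ∀ v ∈ Wb, b v ∈ Wb := ker_aeval_invariant b Ψ
  have hV₁mem : ∀ v, v ∈ V₁ ↔ a v = v := by
    intro v
    rw [hV₁, LinearMap.mem_ker, map_sub, aeval_X, map_one, LinearMap.sub_apply,
      Module.End.one_apply, sub_eq_zero]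
  have hV₁bmem : ∀ v, v ∈ V₁b ↔ b v = v := by
    intro v
    rw [hV₁b, LinearMap.mem_ker, map_sub, aeval_X, map_one, LinearMap.sub_apply,
      Module.End.one_apply, sub_eq_zero]
  have hresa := hinva.restrict hca hWinv hoa
  have hresb := hinvb.restrict hcb hWbinv hob
  -- `T` maps `W` onto `Wb`
  have hTW : ∀ v, v ∈ W ↔ T v ∈ Wb := by
    intro v
    have h1 : T (aeval a Ψ v) = aeval b Ψ (T v) :=
      aeval_intertwine (T : V →ₗ[F] V) a b hT Ψ v
    rw [hW, hWb, LinearMap.mem_ker, LinearMap.mem_ker, ← h1]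
    exact (LinearEquiv.map_eq_zero_iff T).symm
  -- the restriction of `a` has no eigenvalue `± 1`
  set a' := a.restrict hWinv with ha'
  have ha'M : a' ^ M = 1 := by
    have h1 := aeval_restrict_eq_zero a W hWinv (X ^ M - 1) (by
      rw [map_sub, map_pow, aeval_X, map_one, haM, sub_self, LinearMap.ker_zero]
      exact le_top)
    rwa [map_sub, map_pow, aeval_X, map_one, sub_eq_zero] at h1
  have hgood : ∀ v : W, a' (a' v) = v → v = 0 := by
    intro v hv
    have hv' : a (a (v : V)) = (v : V) := congrArg Subtype.val hv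
    obtain ⟨j, hj⟩ := hodd
    have h1 : ∀ k : ℕ, ((a * a) ^ k) (v : V) = (v : V) := by
      intro k
      induction k with
      | zero => simp
      | succ k ih =>
        rw [pow_succ, Module.End.mul_apply, Module.End.mul_apply, hv', ih]
    have h2 : a (v : V) = (v : V) := by
      have h3 : (a ^ M) (v : V) = (v : V) := by rw [haM]; rfl
      rw [hj, pow_succ', Module.End.mul_apply, pow_mul, pow_two, h1] at h3
      exact h3
    have h4 : (v : V) ∈ W ⊓ V₁ := ⟨v.2, (hV₁mem _).2 h2⟩
    rw [hca.inf_eq_bot] at h4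
    exact Subtype.ext ((Submodule.mem_bot F).1 h4)
  -- the second form
  set TW : W →ₗ[F] V := (T : V →ₗ[F] V) ∘ₗ W.subtype with hTWdef
  set B₂ : LinearMap.BilinForm F W := β.compl₁₂ TW TW with hB₂
  have hB₂a : ∀ u v : W, B₂ u v = β (T (u : V)) (T (v : V)) := fun u v => rfl
  have hB₂inv : HInv (AlgHom.id F F) 1 a' B₂ := by
    refine ⟨?_, ?_, ?_, ?_⟩
    · intro x u v
      show B₂ (x • u) v = B₂ u (x • v)
      rw [map_smul, LinearMap.smul_apply, map_smul]
    · intro u v
      rw [hB₂a, hB₂a]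
      exact hinvb.symm _ _
    · intro u hu
      have h1 : (⟨T (u : V), (hTW _).1 u.2⟩ : Wb) = 0 := by
        apply hresb.nondeg
        intro y
        have hy : T.symm (y : V) ∈ W := by
          rw [hTW, T.apply_symm_apply]
          exact y.2
        have := hu ⟨T.symm (y : V), hy⟩
        rw [hB₂a] at this
        simp only [T.apply_symm_apply] at this
        exact this
      have h2 : T (u : V) = 0 := congrArg Subtype.val h1
      apply Subtype.ext
      exact (LinearEquiv.map_eq_zero_iff T).1 h2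
    · intro u v
      rw [hB₂a, hB₂a]
      show β (T (a (u : V))) (T (a (v : V))) = β (T (u : V)) (T (v : V))
      rw [hT, hT]
      exact hinvb.inv _ _
  obtain ⟨Z, hZc, hZ⟩ := exists_commuting_isometry_H (F := F) (K := F) hσ2 (ε := (1 : F))
    (Or.inl rfl) M hM hMF (finrank F W) W a' (resH β W) B₂ rfl ha'M (Or.inr hgood) hresa hB₂inv
  -- the partial isometry
  have hmapW : W.map (T : V →ₗ[F] V) = Wb := by
    ext y
    rw [Submodule.mem_map]
    constructor
    · rintro ⟨w, hw, rfl⟩
      exact (hTW w).1 hw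
    · intro hy
      refine ⟨T.symm y, ?_, T.apply_symm_apply y⟩
      rw [hTW, T.apply_symm_apply]
      exact hy
  set TWb : W ≃ₗ[F] Wb := T.ofSubmodules W Wb hmapW with hTWb
  have hTWba : ∀ w : W, ((TWb w : Wb) : V) = T (w : V) := fun w => rfl
  set φ : W ≃ₗ[F] Wb := Z.symm.trans TWb with hφ
  have hφa : ∀ w : W, ((φ w : Wb) : V) = T ((Z.symm w : W) : V) := fun w => rfl
  have hφβ : ∀ u v : W, β ((φ u : Wb) : V) ((φ v : Wb) : V) = β (u : V) (v : V) := by
    intro u v
    rw [hφa, hφa, ← hB₂a, ← hZ, Z.apply_symm_apply, Z.apply_symm_apply]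
    rfl
  have hZs : ∀ w : W, Z.symm (a' w) = a' (Z.symm w) := by
    intro w
    apply Z.injective
    rw [Z.apply_symm_apply, hZc, Z.apply_symm_apply]
  have hφc : ∀ w : W, ((φ (a' w) : Wb) : V) = b ((φ w : Wb) : V) := by
    intro w
    rw [hφa, hφa, hZs, ← hT]
    rfl
  -- `1 - a` is onto on `W`
  have hsurj : ∀ w : W, ∃ v : W, (w : V) = (v : V) - a (v : V) := by
    set δ : W →ₗ[F] W := LinearMap.id - a' with hδ
    have hδinj : Function.Injective δ := by
      rw [← LinearMap.ker_eq_bot, LinearMap.ker_eq_bot']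
      intro v hv
      have h1 : (v : V) - a (v : V) = 0 := congrArg Subtype.val hv
      have h4 : (v : V) ∈ W ⊓ V₁ := ⟨v.2, (hV₁mem _).2 (sub_eq_zero.1 h1).symm⟩
      rw [hca.inf_eq_bot] at h4
      exact Subtype.ext ((Submodule.mem_bot F).1 h4)
    have hδsurj : Function.Surjective δ := LinearMap.surjective_of_injective hδinj
    intro w
    obtain ⟨v, hv⟩ := hδsurj w
    exact ⟨v, (congrArg Subtype.val hv).symm⟩
  have hφQ : ∀ w : W, Q ((φ w : Wb) : V) = Q (w : V) := by
    intro w
    obtain ⟨v, hv⟩ := hsurj w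
    have h1 : ((φ w : Wb) : V) = ((φ v : Wb) : V) - b ((φ v : Wb) : V) := by
      have h2 : w = v - a' v := Subtype.ext hv
      rw [h2, map_sub, ← hφc]
      rfl
    have h3 : Q ((φ w : Wb) : V) = β ((φ v : Wb) : V) ((φ w : Wb) : V) := by
      conv_lhs => rw [h1]
      rw [map_sub_isom hb, hβa, ← h1]
    have h4 : Q (w : V) = β (v : V) (w : V) := by
      conv_lhs => rw [hv]
      rw [map_sub_isom ha, hβa, ← hv]
    rw [h3, h4, hφβ]
  obtain ⟨g, hgQ, hgφ⟩ := witt hQ W Wb φ hφQ
  refine ⟨g, hgQ, ?_⟩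
  have hgβ : ∀ u v, β (g u) (g v) = β u v := fun u v => by
    rw [hβa, hβa]
    exact polar_of_isom (φ := (g : V →ₗ[F] V)) hgQ u v
  -- `g` maps the fixed space of `a` into that of `b`
  have hgfix : ∀ v ∈ V₁, b (g v) = g v := by
    intro v hv
    obtain ⟨y, x₁, hyx⟩ := exists_decomp hcb (g v)
    have hy0 : y = 0 := by
      apply hresb.nondeg
      intro y'
      rw [resH_apply]
      have h1 : β (g v) (y' : V) = 0 := by
        have h2 : (y' : V) = g ((φ.symm y' : W) : V) := by
          rw [hgφ, φ.apply_symm_apply]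
        rw [h2, hgβ, hinva.symm, hoa _ (φ.symm y').2 v hv, mul_zero]
      have h3 : β (x₁ : V) (y' : V) = 0 := by
        rw [hinvb.symm, hob _ y'.2 _ x₁.2, mul_zero]
      have h4 : β (y : V) (y' : V) = β (g v) (y' : V) - β (x₁ : V) (y' : V) := by
        rw [hyx, map_add, LinearMap.add_apply]
        ring
      rw [h4, h1, h3, sub_zero]
    rw [hyx, hy0, Submodule.coe_zero, zero_add]
    exact (hV₁bmem _).1 x₁.2
  intro v
  obtain ⟨w, v₁, rfl⟩ := exists_decomp hca v
  rw [map_add, map_add, map_add, map_add, (hV₁mem _).1 v₁.2, hgfix _ v₁.2]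
  congr 1
  have h1 : a (w : V) = ((a' w : W) : V) := rfl
  rw [h1, hgφ, hgφ, hφc]

end main

end Cfsg.Agent.Helper13.OrthSS
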