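import Mathlib
import Cfsg.Agent.Lib.Helper13.SympPrime

set_option autoImplicit false
set_option linter.unusedSectionVars false

/-!
# Counting the tuples of multiplicities for even-dimensional orthogonal groups
-/

namespace Cfsg.Agent.Helper13.OrthSS

open Cfsg.Agent.Helper13 Cfsg.Agent.Helper13.SS Cfsg.Agent.Helper13.SympSS
open scoped Classical

section general

theorem card_imp_eq_sub {X : Type*} (P R T : X → Prop) (hfin : {x | P x}.Finite) :
    Nat.card {x // P x ∧ (R x → T x)} =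
      Nat.card {x // P x} - Nat.card {x // P x ∧ R x ∧ ¬ T x} := by
  have h1 : {x | P x ∧ (R x → T x)} = {x | P x} \ {x | P x ∧ R x ∧ ¬ T x} := by
    ext x
    simp only [Set.mem_setOf_eq, Set.mem_diff]
    tauto
  have h2 : {x | P x ∧ R x ∧ ¬ T x} ⊆ {x | P x} := fun x hx => hx.1
  have h3 := Set.ncard_sdiff h2 (hfin.subset h2)
  rw [← h1] at h3
  rw [← Nat.card_coe_set_eq, ← Nat.card_coe_set_eq, ← Nat.card_coe_set_eq] at h3
  exact h3

theorem card_tuples_eq (α : Type*) [Fintype α] (N : ℕ) (hα : 0 < Fintype.card α) :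
    Nat.card {b : α → ℕ // ∑ a, b a = N} =
      Nat.choose (N + Fintype.card α - 1) (Fintype.card α - 1) := by
  rw [← Nat.card_congr (Sym.equivNatSumOfFintype α N), Nat.card_eq_fintype_card,
    Sym.card_sym_eq_choose]
  obtain ⟨c, hc⟩ : ∃ c, Fintype.card α = c + 1 := ⟨Fintype.card α - 1, by omega⟩
  rw [hc]
  have h1 : c + 1 + N - 1 = N + c := by omega
  have h2 : N + (c + 1) - 1 = N + c := by omega
  rw [h1, h2, Nat.add_sub_cancel, Nat.choose_symm_add]

/-- removing the identity class -/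
theorem card_order_eq (G : Type*) [Group G] [Finite G] {r : ℕ} (hr : r.Prime) :
    Nat.card {C : ConjClasses G // ∃ g : G, ConjClasses.mk g = C ∧ orderOf g = r} =
      Nat.card {C : ConjClasses G // ∃ g : G, ConjClasses.mk g = C ∧ g ^ r = 1} - 1 := by
  have hset : {C : ConjClasses G | ∃ g : G, ConjClasses.mk g = C ∧ orderOf g = r} =
      {C : ConjClasses G | ∃ g : G, ConjClasses.mk g = C ∧ g ^ r = 1} \ {ConjClasses.mk 1} := by
    haveI : Fact r.Prime := ⟨hr⟩
    ext C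
    simp only [Set.mem_setOf_eq, Set.mem_diff, Set.mem_singleton_iff]
    constructor
    · rintro ⟨g, rfl, hg⟩
      rw [orderOf_eq_prime_iff] at hg
      refine ⟨⟨g, rfl, hg.1⟩, ?_⟩
      rw [ConjClasses.mk_eq_mk_iff_isConj, isConj_one_left]
      exact hg.2
    · rintro ⟨⟨g, rfl, hg⟩, hne⟩
      refine ⟨g, rfl, ?_⟩
      rw [orderOf_eq_prime_iff]
      refine ⟨hg, ?_⟩
      rintro rfl
      exact hne rfl
  have hmem : ConjClasses.mk (1 : G) ∈
      {C : ConjClasses G | ∃ g : G, ConjClasses.mk g = C ∧ g ^ r = 1} := ⟨1, rfl, one_pow r⟩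
  have h2 := Set.ncard_diff_singleton_of_mem hmem
  rw [← hset] at h2
  rw [← Nat.card_coe_set_eq, ← Nat.card_coe_set_eq] at h2
  exact h2

end general

section involution
variable {α : Type*} [Fintype α] (σ : α → α)

/-- self-dual tuples correspond to tuples on half of the index set -/
theorem card_selfdual_pred (hσ : Function.Involutive σ) (T : Finset α)
    (h1 : ∀ a ∈ T, σ a ∉ T) (h2 : ∀ a, a ∈ T ∨ σ a ∈ T) (p : ℕ → Prop) :
    Nat.card {k : α → ℕ // (∀ a, k (σ a) = k a) ∧ p (∑ a, k a)} =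
      Nat.card {b : ↥T → ℕ // p (2 * ∑ a, b a)} := by
  have hsum : ∀ k : α → ℕ, (∀ a, k (σ a) = k a) → ∑ a, k a = 2 * ∑ a : ↥T, k a.1 := by
    intro k hk
    rw [sum_eq_sum_half σ hσ T h1 h2 k, Finset.sum_coe_sort T k, Finset.mul_sum]
    apply Finset.sum_congr rfl
    intro a _
    rw [hk a, two_mul]
  let Φ : {k : α → ℕ // (∀ a, k (σ a) = k a) ∧ p (∑ a, k a)} →
      {b : ↥T → ℕ // p (2 * ∑ a, b a)} :=
    fun k => ⟨fun a => k.1 a.1, by
      have := k.2.2
      rw [hsum k.1 k.2.1] at this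
      exact this⟩
  apply Nat.card_eq_of_bijective Φ
  constructor
  · rintro ⟨k, hk1, hk2⟩ ⟨k', hk1', hk2'⟩ h
    apply Subtype.ext
    funext a
    show k a = k' a
    have hT' : ∀ b : ↥T, k b.1 = k' b.1 := fun b => congrFun (congrArg Subtype.val h) b
    rcases h2 a with ha | ha
    · exact hT' ⟨a, ha⟩
    · rw [← hk1 a, ← hk1' a]
      exact hT' ⟨σ a, ha⟩
  · rintro ⟨b, hb⟩
    set b' : α → ℕ := fun a => if h : a ∈ T then b ⟨a, h⟩ else 0 with hb'
    have hb'T : ∀ a : ↥T, b' a.1 = b a := by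
      intro a
      rw [hb']
      simp only [a.2, dif_pos]
    have hb'0 : ∀ a, a ∉ T → b' a = 0 := by
      intro a ha
      rw [hb']
      simp only [ha, dif_neg, not_false_iff]
    set k : α → ℕ := fun a => b' a + b' (σ a) with hk
    have hk1 : ∀ a, k (σ a) = k a := by
      intro a
      show b' (σ a) + b' (σ (σ a)) = b' a + b' (σ a)
      rw [hσ a, add_comm]
    have hkT : ∀ a : ↥T, k a.1 = b a := by
      intro a
      show b' a.1 + b' (σ a.1) = b a
      rw [hb'T, hb'0 _ (h1 a.1 a.2), add_zero]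
    have hk2 : p (∑ a, k a) := by
      rw [hsum k hk1, Finset.sum_congr rfl (fun a _ => hkT a)]
      exact hb
    refine ⟨⟨k, hk1, hk2⟩, ?_⟩
    apply Subtype.ext
    funext a
    exact hkT a

/-- the count of admissible tuples when the involution has no fixed points (`i` odd) -/
theorem count_odd (hσ : Function.Involutive σ) (hfix : ∀ a, σ a ≠ a) (i m : ℕ) (hi : 0 < i)
    (hodd : Odd i) (hα : 0 < Fintype.card α) (hyp : Prop) :
    Nat.card {k : α → ℕ // (∀ a, k (σ a) = k a) ∧ i * ∑ a, k a ≤ 2 * m ∧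
      (i * ∑ a, k a = 2 * m → ((Odd i ∨ Even (∑ a, k a)) ↔ hyp))} =
    Nat.choose (m / i + Fintype.card α / 2) (Fintype.card α / 2) -
      (if hyp then 0 else if i ∣ m then
        Nat.choose (m / i + Fintype.card α / 2 - 1) (Fintype.card α / 2 - 1) else 0) := by
  have htot := card_selfdual_tuples_odd σ hσ hfix i m hi
  have hfin : {k : α → ℕ | (∀ a, k (σ a) = k a) ∧ i * ∑ a, k a ≤ 2 * m}.Finite := by
    rw [← Set.finite_coe_iff]
    apply Nat.finite_of_card_ne_zero
    show Nat.card {k : α → ℕ // (∀ a, k (σ a) = k a) ∧ i * ∑ a, k a ≤ 2 * m} ≠ 0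
    rw [htot]
    exact (Nat.choose_pos (Nat.le_add_left _ _)).ne'
  have h1 := card_imp_eq_sub (fun k : α → ℕ => (∀ a, k (σ a) = k a) ∧ i * ∑ a, k a ≤ 2 * m)
    (fun k => i * ∑ a, k a = 2 * m) (fun k => (Odd i ∨ Even (∑ a, k a)) ↔ hyp) hfin
  have h0 : Nat.card {k : α → ℕ // (∀ a, k (σ a) = k a) ∧ i * ∑ a, k a ≤ 2 * m ∧
      (i * ∑ a, k a = 2 * m → ((Odd i ∨ Even (∑ a, k a)) ↔ hyp))} =
      Nat.card {k : α → ℕ // ((∀ a, k (σ a) = k a) ∧ i * ∑ a, k a ≤ 2 * m) ∧
      (i * ∑ a, k a = 2 * m → ((Odd i ∨ Even (∑ a, k a)) ↔ hyp))} := by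
    apply Nat.card_congr
    apply Equiv.subtypeEquivRight
    intro k
    rw [and_assoc]
  rw [h0, h1, htot]
  congr 1
  obtain ⟨T, hT1, hT2⟩ := exists_half σ hσ hfix
  have hcard := card_eq_two_mul_half σ hσ T hT1 hT2
  have hT : Fintype.card α / 2 = Fintype.card ↥T := by
    rw [hcard, Fintype.card_coe]
    omega
  have hTpos : 0 < Fintype.card ↥T := by omega
  by_cases hh : hyp
  · rw [if_pos hh]
    rw [Nat.card_eq_zero]
    left
    constructor
    rintro ⟨k, -, -, hk⟩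
    exact hk (iff_of_true (Or.inl hodd) hh)
  · rw [if_neg hh]
    have h3 : Nat.card {k : α → ℕ // ((∀ a, k (σ a) = k a) ∧ i * ∑ a, k a ≤ 2 * m) ∧
        i * ∑ a, k a = 2 * m ∧ ¬ ((Odd i ∨ Even (∑ a, k a)) ↔ hyp)} =
        Nat.card {k : α → ℕ // (∀ a, k (σ a) = k a) ∧ i * ∑ a, k a = 2 * m} := by
      apply Nat.card_congr
      apply Equiv.subtypeEquivRight
      intro k
      constructor
      · rintro ⟨⟨h4, -⟩, h5, -⟩
        exact ⟨h4, h5⟩
      · rintro ⟨h4, h5⟩
        exact ⟨⟨h4, h5.le⟩, h5, fun h6 => hh (h6.1 (Or.inl hodd))⟩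
    rw [h3, card_selfdual_pred σ hσ T hT1 hT2 (fun s => i * s = 2 * m)]
    by_cases hdvd : i ∣ m
    · rw [if_pos hdvd, hT, ← card_tuples_eq ↥T (m / i) hTpos]
      apply Nat.card_congr
      apply Equiv.subtypeEquivRight
      intro b
      obtain ⟨c, hc⟩ := hdvd
      rw [hc, Nat.mul_div_cancel_left c hi]
      constructor
      · intro h4
        have h5 : i * (∑ a, b a) = i * c := by linarith
        exact Nat.eq_of_mul_eq_mul_left hi h5
      · intro h4
        rw [h4]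
        ring
    · rw [if_neg hdvd, Nat.card_eq_zero]
      left
      constructor
      rintro ⟨b, hb⟩
      apply hdvd
      refine ⟨∑ a, b a, ?_⟩
      linarith

/-- the count of admissible tuples when the involution is trivial (`i` even) -/
theorem count_even (hσ : ∀ a, σ a = a) (i m : ℕ) (hi : 0 < i) (hev : Even i)
    (hα : 0 < Fintype.card α) (hyp : Prop) :
    Nat.card {k : α → ℕ // (∀ a, k (σ a) = k a) ∧ i * ∑ a, k a ≤ 2 * m ∧
      (i * ∑ a, k a = 2 * m → ((Odd i ∨ Even (∑ a, k a)) ↔ hyp))} =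
    Nat.choose (2 * m / i + Fintype.card α) (Fintype.card α) -
      (if i ∣ 2 * m ∧ (Odd (2 * m / i) ↔ hyp) then
        Nat.choose (2 * m / i + Fintype.card α - 1) (Fintype.card α - 1) else 0) := by
  have hnodd : ¬ Odd i := Nat.not_odd_iff_even.2 hev
  have htot := card_selfdual_tuples_even σ hσ i m hi
  have hfin : {k : α → ℕ | (∀ a, k (σ a) = k a) ∧ i * ∑ a, k a ≤ 2 * m}.Finite := by
    rw [← Set.finite_coe_iff]
    apply Nat.finite_of_card_ne_zero
    show Nat.card {k : α → ℕ // (∀ a, k (σ a) = k a) ∧ i * ∑ a, k a ≤ 2 * m} ≠ 0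
    rw [htot]
    exact (Nat.choose_pos (Nat.le_add_left _ _)).ne'
  have h1 := card_imp_eq_sub (fun k : α → ℕ => (∀ a, k (σ a) = k a) ∧ i * ∑ a, k a ≤ 2 * m)
    (fun k => i * ∑ a, k a = 2 * m) (fun k => (Odd i ∨ Even (∑ a, k a)) ↔ hyp) hfin
  have h0 : Nat.card {k : α → ℕ // (∀ a, k (σ a) = k a) ∧ i * ∑ a, k a ≤ 2 * m ∧
      (i * ∑ a, k a = 2 * m → ((Odd i ∨ Even (∑ a, k a)) ↔ hyp))} =
      Nat.card {k : α → ℕ // ((∀ a, k (σ a) = k a) ∧ i * ∑ a, k a ≤ 2 * m) ∧
      (i * ∑ a, k a = 2 * m → ((Odd i ∨ Even (∑ a, k a)) ↔ hyp))} := by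
    apply Nat.card_congr
    apply Equiv.subtypeEquivRight
    intro k
    rw [and_assoc]
  rw [h0, h1, htot]
  congr 1
  by_cases hc : i ∣ 2 * m ∧ (Odd (2 * m / i) ↔ hyp)
  · rw [if_pos hc, ← card_tuples_eq α (2 * m / i) hα]
    apply Nat.card_congr
    apply Equiv.subtypeEquivRight
    intro k
    obtain ⟨⟨c, hc1⟩, hc2⟩ := hc
    rw [hc1, Nat.mul_div_cancel_left c hi] at hc2 ⊢
    constructor
    · rintro ⟨-, h5, -⟩
      exact Nat.eq_of_mul_eq_mul_left hi h5
    · intro h4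
      refine ⟨⟨fun a => by rw [hσ a], by rw [h4]⟩, by rw [h4], ?_⟩
      rw [h4]
      intro h6
      rcases Nat.even_or_odd c with h7 | h7
      · exact (Nat.not_even_iff_odd.2 (hc2.2 (h6.1 (Or.inr h7)))) h7
      · have h8 : hyp := hc2.1 h7
        rcases h6.2 h8 with h9 | h9
        · exact hnodd h9
        · exact (Nat.not_even_iff_odd.2 h7) h9
  · rw [if_neg hc, Nat.card_eq_zero]
    left
    constructor
    rintro ⟨k, -, h5, h6⟩
    apply hc
    have hdvd : i ∣ 2 * m := ⟨∑ a, k a, h5.symm⟩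
    refine ⟨hdvd, ?_⟩
    rw [← h5, Nat.mul_div_cancel_left _ hi]
    constructor
    · intro h7
      by_contra h8
      apply h6
      apply iff_of_false _ h8
      rintro (h9 | h9)
      · exact hnodd h9
      · exact (Nat.not_even_iff_odd.2 h7) h9
    · intro h7
      by_contra h8
      apply h6
      exact iff_of_true (Or.inr (Nat.not_odd_iff_even.1 h8)) h7

end involution

end Cfsg.Agent.Helper13.OrthSS
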