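import Mathlib
import Cfsg.Agent.Lib.Helper13.SympPrime
import Cfsg.Agent.Lib.Helper13.Hyperbolic

set_option autoImplicit false

/-!
# Realising polynomials as characteristic polynomials of semisimple isometries of quadratic spaces
-/

namespace Cfsg.Agent.Helper13.OrthSS

open Polynomial Module QuadraticMap Cfsg.Agent.Helper13 Cfsg.Agent.Helper13.SS
  Cfsg.Agent.Helper13.Dual Cfsg.Agent.Helper13.SympSS
open scoped Classical

universe u

section defs
variable {F : Type u} [Field F]

/-- `P` is the characteristic polynomial of an isometry of exponent `m` of a quadratic space with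
nondegenerate polar form -/
def QReal (m : ℕ) (P : F[X]) : Prop :=
  ∃ (V : Type u) (_ : AddCommGroup V) (_ : Module F V) (_ : FiniteDimensional F V)
    (A : Module.End F V) (Q : QuadraticForm F V),
    A ^ m = 1 ∧ (polarBilin Q).Nondegenerate ∧ (∀ v, Q (A v) = Q v) ∧ A.charpoly = P

theorem qreal_one (m : ℕ) : QReal m (1 : F[X]) := by
  refine ⟨PUnit, inferInstance, inferInstance, inferInstance, 0, 0, ?_, ?_, ?_, ?_⟩
  · apply LinearMap.ext
    intro x
    exact Subsingleton.elim _ _
  · apply nondeg_of_polar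
    intro x _
    exact Subsingleton.elim _ _
  · intro v
    rfl
  · apply Polynomial.eq_one_of_monic_natDegree_zero (LinearMap.charpoly_monic _)
    rw [LinearMap.charpoly_natDegree]
    exact Module.finrank_zero_of_subsingleton

theorem polar_prod' {V W : Type*} [AddCommGroup V] [Module F V] [AddCommGroup W] [Module F W]
    (Q : QuadraticForm F V) (Q' : QuadraticForm F W) (x y : V × W) :
    polar (QuadraticMap.prod Q Q') x y = polar Q x.1 y.1 + polar Q' x.2 y.2 := by
  simp only [polar, QuadraticMap.prod_apply, Prod.fst_add, Prod.snd_add]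
  ring

theorem nondeg_prod {V W : Type*} [AddCommGroup V] [Module F V] [AddCommGroup W] [Module F W]
    (Q : QuadraticForm F V) (Q' : QuadraticForm F W) (hQ : (polarBilin Q).Nondegenerate)
    (hQ' : (polarBilin Q').Nondegenerate) :
    (polarBilin (QuadraticMap.prod Q Q')).Nondegenerate := by
  apply nondeg_of_polar
  rintro ⟨x, y⟩ h
  have hx : x = 0 := by
    apply hQ.1
    intro v
    have := h (v, 0)
    rw [polar_prod'] at this
    simpa using this
  have hy : y = 0 := by
    apply hQ'.1
    intro v
    have := h (0, v)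
    rw [polar_prod'] at this
    simpa using this
  rw [hx, hy]
  rfl

theorem qreal_mul {m : ℕ} {P P' : F[X]} (hP : QReal m P) (hP' : QReal m P') :
    QReal m (P * P') := by
  obtain ⟨V, _, _, _, A, Q, hAm, hQ, hAQ, hAc⟩ := hP
  obtain ⟨W, _, _, _, A', Q', hAm', hQ', hAQ', hAc'⟩ := hP'
  refine ⟨V × W, inferInstance, inferInstance, inferInstance, A.prodMap A',
    QuadraticMap.prod Q Q', ?_, nondeg_prod Q Q' hQ hQ', ?_, ?_⟩
  · rw [prodMap_pow, hAm, hAm']
    apply LinearMap.ext
    rintro ⟨x, y⟩
    rfl
  · rintro ⟨x, y⟩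
    show QuadraticMap.prod Q Q' (A x, A' y) = QuadraticMap.prod Q Q' (x, y)
    rw [QuadraticMap.prod_apply, QuadraticMap.prod_apply, hAQ, hAQ']
  · rw [LinearMap.charpoly_prodMap, hAc, hAc']

theorem qreal_pow {m : ℕ} {P : F[X]} (h : QReal m P) (k : ℕ) : QReal m (P ^ k) := by
  induction k with
  | zero =>
    rw [pow_zero]
    exact qreal_one m
  | succ k ih =>
    rw [pow_succ]
    exact qreal_mul ih h

theorem qreal_prod {m : ℕ} {ι : Type*} (S : Finset ι) (R : ι → F[X])
    (h : ∀ a ∈ S, QReal m (R a)) : QReal m (∏ a ∈ S, R a) := by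
  induction S using Finset.induction_on with
  | empty =>
    rw [Finset.prod_empty]
    exact qreal_one m
  | insert a S ha ih =>
    rw [Finset.prod_insert ha]
    exact qreal_mul (h a (Finset.mem_insert_self a S))
      (ih (fun b hb => h b (Finset.mem_insert_of_mem hb)))

end defs

section blocks
variable {F : Type u} [Field F] {m : ℕ} {f : F[X]}

/-- the hyperbolic block of a pair of mutually dual factors -/
theorem qreal_pair (hm : 1 ≤ m) (hf : Irreducible f) (hmon : f.Monic) (hfm : f ∣ X ^ m - 1) :
    QReal m (f * dualPoly m f) := by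
  haveI : Fact (Irreducible f) := ⟨hf⟩
  haveI : FiniteDimensional F (AdjoinRoot f) := (AdjoinRoot.powerBasis hf.ne_zero).finite
  set k := AdjoinRoot f with hk
  set s : k := AdjoinRoot.root f with hs
  set s' : k := s ^ (m - 1) with hs'
  have hss' : s * s' = 1 := root_mul_inv hm hfm
  have hsm : s ^ m = 1 := root_pow_eq_one hfm
  have hs'm : s' ^ m = 1 := by
    rw [hs', ← pow_mul, mul_comm, pow_mul, hsm, one_pow]
  obtain ⟨τ, hτ⟩ := Module.Projective.exists_dual_ne_zero F (one_ne_zero : (1 : k) ≠ 0)
  set B : LinearMap.BilinForm F (k × k) :=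
    LinearMap.mk₂ F (fun u v => τ (u.1 * v.2))
      (by intro a b c; simp only [Prod.fst_add, add_mul, map_add])
      (by intro c a b; simp only [Prod.smul_fst, smul_mul_assoc, map_smul])
      (by intro a b c; simp only [Prod.snd_add, mul_add, map_add])
      (by intro c a b; simp only [Prod.smul_snd, mul_smul_comm, map_smul]) with hB
  have hBa : ∀ u v : k × k, B u v = τ (u.1 * v.2) := fun u v => rfl
  set Q : QuadraticForm F (k × k) := LinearMap.BilinMap.toQuadraticMap B with hQ
  have hQa : ∀ u : k × k, Q u = τ (u.1 * u.2) := by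
    intro u
    rw [hQ, LinearMap.BilinMap.toQuadraticMap_apply, hBa]
  have hpol : ∀ u v : k × k, polar Q u v = τ (u.1 * v.2) + τ (v.1 * u.2) := by
    intro u v
    rw [hQ, LinearMap.BilinMap.polar_toQuadraticMap, hBa, hBa]
  have hτnd : ∀ x : k, (∀ y : k, τ (x * y) = 0) → x = 0 := by
    intro x hx
    by_contra hx0
    apply hτ
    have := hx x⁻¹
    rwa [mul_inv_cancel₀ hx0] at this
  refine ⟨k × k, inferInstance, inferInstance, inferInstance,
    (Algebra.lmul F k s).prodMap (Algebra.lmul F k s'), Q, ?_, ?_, ?_, ?_⟩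
  · rw [prodMap_pow, lmul_pow, lmul_pow, hsm, hs'm, map_one]
    apply LinearMap.ext
    rintro ⟨x, y⟩
    rfl
  · apply nondeg_of_polar
    rintro ⟨x, y⟩ h
    have hx : x = 0 := by
      apply hτnd
      intro y'
      have := h (0, y')
      rw [hpol] at this
      simpa using this
    have hy : y = 0 := by
      apply hτnd
      intro x'
      have := h (x', 0)
      rw [hpol] at this
      simp only [mul_zero, map_zero, zero_add] at this
      rw [mul_comm]
      exact this
    rw [hx, hy]
    rfl
  · rintro ⟨x, y⟩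
    rw [hQa, hQa]
    show τ (s * x * (s' * y)) = τ (x * y)
    have e1 : s * x * (s' * y) = x * y := by
      calc s * x * (s' * y) = (s * s') * (x * y) := by ring
        _ = x * y := by rw [hss', one_mul]
    rw [e1]
  · rw [LinearMap.charpoly_prodMap]
    have h1 : (Algebra.lmul F k s).charpoly = f := charpoly_mulRoot f hmon
    have h2 : (Algebra.lmul F k s').charpoly = dualPoly m f := by
      apply charpoly_lmul
      show finrank F (AdjoinRoot f) ≤ (dualPoly m f).natDegree
      rw [finrank_adjoinRoot, natDegree_dualPoly hm hf hmon hfm]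
    rw [h1, h2]

/-- the block of a self-dual factor whose root is not its own inverse -/
theorem qreal_selfdual (hm : 1 ≤ m) (hf : Irreducible f) (hmon : f.Monic) (hfm : f ∣ X ^ m - 1)
    (hfd : dualPoly m f = f) (hne : AdjoinRoot.root f ^ (m - 1) ≠ AdjoinRoot.root f) :
    QReal m f := by
  haveI : Fact (Irreducible f) := ⟨hf⟩
  haveI : FiniteDimensional F (AdjoinRoot f) := (AdjoinRoot.powerBasis hf.ne_zero).finite
  set k := AdjoinRoot f with hk
  set s : k := AdjoinRoot.root f with hs
  have hss' : s * s ^ (m - 1) = 1 := root_mul_inv hm hfm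
  have hsm : s ^ m = 1 := root_pow_eq_one hfm
  have hσ0 : aeval (s ^ (m - 1)) f = 0 := by
    have := aeval_inv_dualPoly m f
    rwa [hfd] at this
  set σ : k →ₐ[F] k := AdjoinRoot.liftAlgHom f (Algebra.ofId F k) (s ^ (m - 1)) hσ0 with hσ
  have hσroot : σ s = s ^ (m - 1) := AdjoinRoot.liftAlgHom_root _ _ _ _
  have hσ2 : ∀ x, σ (σ x) = x := by
    have h1 : σ.comp σ = AlgHom.id F k := by
      apply AdjoinRoot.algHom_ext
      rw [AlgHom.comp_apply, hσroot, map_pow, hσroot, inv_pow_eq_root hm hfm]
      rfl
    intro x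
    exact AlgHom.congr_fun h1 x
  -- an element with nonzero trace
  obtain ⟨z, hz⟩ : ∃ z : k, z + σ z ≠ 0 := by
    by_cases h2 : (2 : k) = 0
    · refine ⟨s, ?_⟩
      intro h
      apply hne
      rw [← hσroot]
      have h3 : σ s = - s := by rw [eq_neg_iff_add_eq_zero, add_comm]; exact h
      rw [h3]
      have : s + s = 0 := by rw [← two_mul, h2, zero_mul]
      exact (eq_neg_iff_add_eq_zero.2 this).symm
    · refine ⟨1, ?_⟩
      rw [map_one, one_add_one_eq_two]
      exact h2
  obtain ⟨τ', hτ'⟩ := Module.Projective.exists_dual_ne_zero F hz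
  set τ : k →ₗ[F] F := τ' + τ' ∘ₗ σ.toLinearMap with hτ
  have hτa : ∀ x, τ x = τ' x + τ' (σ x) := fun x => rfl
  have hτ0 : τ ≠ 0 := by
    intro h
    apply hτ'
    have := LinearMap.congr_fun h z
    rw [hτa, ← map_add] at this
    exact this
  set B : LinearMap.BilinForm F k :=
    LinearMap.mk₂ F (fun u v => τ' (u * σ v))
      (by intro a b c; rw [add_mul, map_add])
      (by intro c a b; rw [smul_mul_assoc, map_smul])
      (by intro a b c; rw [map_add, mul_add, map_add])
      (by intro c a b; rw [map_smul, mul_smul_comm, map_smul]) with hB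
  have hBa : ∀ u v : k, B u v = τ' (u * σ v) := fun u v => rfl
  set Q : QuadraticForm F k := LinearMap.BilinMap.toQuadraticMap B with hQ
  have hQa : ∀ u : k, Q u = τ' (u * σ u) := by
    intro u
    rw [hQ, LinearMap.BilinMap.toQuadraticMap_apply, hBa]
  have hpol : ∀ u v : k, polar Q u v = τ (u * σ v) := by
    intro u v
    have e : σ (u * σ v) = v * σ u := by rw [map_mul σ, hσ2, mul_comm]
    rw [hQ, LinearMap.BilinMap.polar_toQuadraticMap, hBa, hBa, hτa, e]
  refine ⟨k, inferInstance, inferInstance, inferInstance, Algebra.lmul F k s, Q, ?_, ?_, ?_, ?_⟩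
  · rw [lmul_pow, hsm, map_one]
  · apply nondeg_of_polar
    intro x hx
    by_contra hx0
    apply hτ0
    apply LinearMap.ext
    intro w
    have := hx (σ (x⁻¹ * w))
    rw [hpol, hσ2, ← mul_assoc, mul_inv_cancel₀ hx0, one_mul] at this
    rw [this]
    rfl
  · intro u
    rw [hQa, hQa]
    show τ' (s * u * σ (s * u)) = _
    have e0 : σ (s * u) = s ^ (m - 1) * σ u := by rw [map_mul, hσroot]
    rw [e0]
    congr 1
    calc s * u * (s ^ (m - 1) * σ u) = (s * s ^ (m - 1)) * (u * σ u) := by ring
      _ = u * σ u := by rw [hss', one_mul]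
  · exact charpoly_mulRoot f hmon

end blocks

end Cfsg.Agent.Helper13.OrthSS
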