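import Mathlib
import Cfsg.Agent.Lib.Helper13.OrthReal
import Cfsg.Agent.Lib.Helper13.QuadFinite
import Cfsg.Agent.Lib.Helper13.MatQuad

set_option autoImplicit false

/-!
# Transporting isometries of abstract quadratic spaces to a given space (odd characteristic)
-/

namespace Cfsg.Agent.Helper13.OrthSS

open Polynomial Module QuadraticMap Matrix Cfsg.Agent.Helper13
open scoped Classical

universe u

section gl
variable {F : Type*} [Field F] {ι : Type} [Fintype ι] [DecidableEq ι]

/-- the endomorphism of a matrix -/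
noncomputable def LG (g : GL ι F) : Module.End F (ι → F) :=
  Matrix.toLinAlgEquiv' (g : Matrix ι ι F)

theorem LG_apply (g : GL ι F) (v : ι → F) : LG g v = (g : Matrix ι ι F).mulVec v :=
  Matrix.toLinAlgEquiv'_apply _ v

theorem LG_pow (g : GL ι F) (k : ℕ) : LG (g ^ k) = (LG g) ^ k := by
  unfold LG
  rw [Units.val_pow_eq_pow_val, map_pow]

theorem LG_one : LG (1 : GL ι F) = 1 := by
  unfold LG
  rw [Units.val_one, map_one]

theorem LG_charpoly (g : GL ι F) : (LG g).charpoly = (g : Matrix ι ι F).charpoly :=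
  Matrix.charpoly_toLin' _

/-- an endomorphism of finite order preserving `Q` gives an element of the isometry group -/
theorem exists_gl_of_end (Qf : (ι → F) → F) (g : Module.End F (ι → F))
    (hgQ : ∀ v, Qf (g v) = Qf v) (M : ℕ) (hM : 1 ≤ M) (hgM : g ^ M = 1) :
    ∃ x : GL ι F, x ∈ Cfsg.isometryGroup F Qf ∧ x ^ M = 1 ∧ LG x = g := by
  set G := LinearMap.toMatrix' g with hG
  set Gi := LinearMap.toMatrix' (g ^ (M - 1)) with hGi
  have h1 : g * g ^ (M - 1) = 1 := by
    rw [← pow_succ', Nat.sub_add_cancel hM, hgM]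
  have h2 : g ^ (M - 1) * g = 1 := by
    rw [← pow_succ, Nat.sub_add_cancel hM, hgM]
  have hGG : G * Gi = 1 := by
    rw [hG, hGi, ← LinearMap.toMatrix'_mul, h1, LinearMap.toMatrix'_one]
  have hGG' : Gi * G = 1 := by
    rw [hG, hGi, ← LinearMap.toMatrix'_mul, h2, LinearMap.toMatrix'_one]
  let x : GL ι F := ⟨G, Gi, hGG, hGG'⟩
  have hLx : LG x = g := by
    unfold LG
    show Matrix.toLinAlgEquiv' G = g
    rw [hG]
    exact Matrix.toLin'_toMatrix' g
  refine ⟨x, ?_, ?_, hLx⟩
  · intro u v
    show Qf (G.mulVec u) = Qf u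
    have : G.mulVec u = g u := by
      rw [hG, LinearMap.toMatrix'_mulVec]
    rw [this, hgQ]
  · have h3 : LG (x ^ M) = LG 1 := by rw [LG_pow, hLx, hgM, LG_one]
    unfold LG at h3
    have h4 := (Matrix.toLinAlgEquiv' (R := F) (n := ι)).injective h3
    exact Units.ext h4

end gl

section transport
variable {F : Type u} [Field F] [Fintype F] {ι : Type} [Fintype ι] [DecidableEq ι]

theorem prod_ite_fin {u : ℕ} (hu : 0 < u) (δ : F) :
    ∏ i : Fin u, (if i = ⟨0, hu⟩ then δ else 1) = δ := by
  rw [Finset.prod_ite_eq' Finset.univ (⟨0, hu⟩ : Fin u) (fun _ => δ)]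
  simp

/-- a realisable polynomial of smaller degree is realised, up to a power of `X - 1`, in any
nondegenerate quadratic space (odd characteristic) -/
theorem QReal.exists_end_odd (h2 : (2 : F) ≠ 0) {M : ℕ} {P : F[X]} (hP : QReal M P)
    (S : QuadraticForm F (ι → F)) (hS : (polarBilin S).Nondegenerate)
    (hlt : P.natDegree < Fintype.card ι) :
    ∃ g : Module.End F (ι → F), (∀ v, S (g v) = S v) ∧ g ^ M = 1 ∧
      g.charpoly = (X - 1) ^ (Fintype.card ι - P.natDegree) * P := by
  obtain ⟨V, _, _, _, A, Q, hAM, hQ, hAQ, hAc⟩ := hP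
  have hw : finrank F V = P.natDegree := by
    rw [← hAc, LinearMap.charpoly_natDegree]
  set w := finrank F V with hwdef
  set u := Fintype.card ι - P.natDegree with hudef
  have hu : 0 < u := by omega
  have hwu : w + u = Fintype.card ι := by omega
  set bV := Module.finBasis F V with hbV
  set GV : Matrix (Fin w) (Fin w) F := Matrix.of fun i j => polar Q (bV i) (bV j) with hGV
  have hdV : GV.det ≠ 0 := gram_det_ne_zero Q bV hQ
  set GS : Matrix ι ι F :=
    Matrix.of fun i j => polar S (Pi.basisFun F ι i) (Pi.basisFun F ι j) with hGS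
  have hdS : GS.det ≠ 0 := gram_det_ne_zero S (Pi.basisFun F ι) hS
  set δ : F := GV.det * 2 ^ u * GS.det with hδ
  have hδ0 : δ ≠ 0 := mul_ne_zero (mul_ne_zero hdV (pow_ne_zero _ h2)) hdS
  set wts : Fin u → F := fun i => if i = ⟨0, hu⟩ then δ else 1 with hwts
  set QU : QuadraticForm F (Fin u → F) := matQ (Matrix.diagonal wts) with hQU
  have hGU : (Matrix.diagonal wts + (Matrix.diagonal wts)ᵀ).det = 2 ^ u * δ := by
    rw [Matrix.diagonal_transpose, Matrix.diagonal_add, Matrix.det_diagonal]
    have : ∀ i : Fin u, wts i + wts i = 2 * wts i := fun i => (two_mul _).symm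
    simp only [this]
    rw [Finset.prod_mul_distrib, Finset.prod_const, Finset.card_univ, Fintype.card_fin,
      prod_ite_fin hu δ]
  have hQUnd : (polarBilin QU).Nondegenerate := by
    apply matQ_nondeg
    rw [hGU]
    exact mul_ne_zero (pow_ne_zero _ h2) hδ0
  set bP := bV.prod (Pi.basisFun F (Fin u)) with hbP
  set QP : QuadraticForm F (V × (Fin u → F)) := QuadraticMap.prod Q QU with hQP
  have hQPnd : (polarBilin QP).Nondegenerate := nondeg_prod Q QU hQ hQUnd
  have hgram : (Matrix.of fun i j => polar QP (bP i) (bP j)) =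
      Matrix.fromBlocks GV 0 0 (Matrix.diagonal wts + (Matrix.diagonal wts)ᵀ) := by
    rw [← gram_matQ]
    ext (i | i) (j | j)
    · simp [hbP, hQP, polar_prod', hGV]
    · simp [hbP, hQP, polar_prod']
    · simp [hbP, hQP, polar_prod']
    · simp [hbP, hQP, polar_prod', hQU]
  have hdetP : (Matrix.of fun i j => polar QP (bP i) (bP j)).det = GV.det * (2 ^ u * δ) := by
    rw [hgram, Matrix.det_fromBlocks_zero₂₁, hGU]
  obtain ⟨e, he⟩ := equiv_of_disc_idx h2 QP S hQPnd hS bP (Pi.basisFun F ι)
    (by rw [Fintype.card_sum, Fintype.card_fin, Fintype.card_fin]; exact hwu)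
    (by
      rw [hdetP]
      refine ⟨δ, ?_⟩
      rw [hδ]
      ring)
  set f : Module.End F (V × (Fin u → F)) := A.prodMap LinearMap.id with hf
  refine ⟨e.conj f, ?_, ?_, ?_⟩
  · intro v
    rw [LinearEquiv.conj_apply_apply, he, hf]
    have h3 : S v = QP (e.symm v) := by
      rw [← he, e.apply_symm_apply]
    rw [h3]
    show QP (A (e.symm v).1, (e.symm v).2) = QP (e.symm v)
    rw [hQP, QuadraticMap.prod_apply, QuadraticMap.prod_apply, hAQ]
  · have h3 : e.conj f = e.conjRingEquiv f := rfl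
    rw [h3, ← map_pow, hf]
    have h4 : (A.prodMap (LinearMap.id : (Fin u → F) →ₗ[F] (Fin u → F))) ^ M = 1 := by
      have h5 : (LinearMap.id : (Fin u → F) →ₗ[F] (Fin u → F)) = 1 := rfl
      rw [h5, Cfsg.Agent.Helper13.SympSS.prodMap_pow, hAM, one_pow]
      apply LinearMap.ext
      rintro ⟨x, y⟩
      rfl
    rw [h4, map_one]
  · rw [LinearEquiv.charpoly_conj, hf, LinearMap.charpoly_prodMap, hAc]
    have h5 : (LinearMap.id : (Fin u → F) →ₗ[F] (Fin u → F)) = 1 := rfl
    rw [h5, LinearMap.charpoly_one, Module.finrank_fintype_fun_eq_card, Fintype.card_fin, mul_comm]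

end transport

end Cfsg.Agent.Helper13.OrthSS
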