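import Mathlib
import Cfsg.Agent.Lib.Helper13.OrthEmbed
import Cfsg.Agent.Lib.Helper13.OrthConj
import Cfsg.Agent.Lib.Helper13.UnitaryPrime
import Cfsg.Agent.Lib.Helper13.SemisimpleCharpolyGL

set_option autoImplicit false
set_option linter.unusedSectionVars false

/-!
# Elements of odd prime order in orthogonal groups
-/

namespace Cfsg.Agent.Helper13.OrthSS

open Polynomial Module QuadraticMap Matrix Cfsg.Agent.Helper13 Cfsg.Agent.Helper13.SS
  Cfsg.Agent.Helper13.Dual Cfsg.Agent.Helper13.SympSS Cfsg.Agent.Helper13.HermSS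
open scoped Classical

universe u

section conj
variable {F : Type u} [Field F] {ι : Type} [Fintype ι] [DecidableEq ι]

/-- an isometry leaves the polar form invariant -/
theorem hinv_of_isom {V : Type*} [AddCommGroup V] [Module F V] (Q : QuadraticForm F V)
    (hQ : (polarBilin Q).Nondegenerate) (c : Module.End F V) (hc : ∀ v, Q (c v) = Q v) :
    HInv (AlgHom.id F F) 1 c (polarBilin Q) := by
  refine ⟨?_, ?_, ?_, ?_⟩
  · intro x u v
    show polarBilin Q (x • u) v = polarBilin Q u (x • v)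
    rw [map_smul, LinearMap.smul_apply, map_smul]
  · intro u v
    rw [one_mul]
    exact polar_comm Q v u
  · exact hQ.1
  · intro u v
    exact Cfsg.Agent.Helper28.WittQuad.polar_of_isom (Q := Q) hc u v

theorem orth_charpoly_eq_of_isConj (Qf : (ι → F) → F) {g h : ↥(Cfsg.isometryGroup F Qf)}
    (hgh : IsConj g h) :
    ((g : GL ι F) : Matrix ι ι F).charpoly = ((h : GL ι F) : Matrix ι ι F).charpoly := by
  obtain ⟨y, rfl⟩ := isConj_iff.1 hgh
  have h1 : (((y * g * y⁻¹ : ↥(Cfsg.isometryGroup F Qf)) : GL ι F) : Matrix ι ι F) =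
      ((y : GL ι F) : Matrix ι ι F) * (((g : GL ι F) : Matrix ι ι F) *
        (((y : GL ι F)⁻¹ : GL ι F) : Matrix ι ι F)) := by
    rw [mul_assoc]
    rfl
  rw [h1, Matrix.charpoly_mul_comm, mul_assoc, ← Units.val_mul, inv_mul_cancel, Units.val_one,
    mul_one]

/-- an isometric linear equivalence gives an element of the isometry group -/
theorem exists_gl_of_equiv (Qf : (ι → F) → F) (e : (ι → F) ≃ₗ[F] (ι → F))
    (he : ∀ v, Qf (e v) = Qf v) :
    ∃ x : GL ι F, x ∈ Cfsg.isometryGroup F Qf ∧ ∀ v, LG x v = e v := by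
  set G := LinearMap.toMatrix' (e : (ι → F) →ₗ[F] (ι → F)) with hG
  set Gi := LinearMap.toMatrix' (e.symm : (ι → F) →ₗ[F] (ι → F)) with hGi
  have hGv : ∀ v, G.mulVec v = e v := fun v => by
    rw [hG, LinearMap.toMatrix'_mulVec]
    rfl
  have hGG : G * Gi = 1 := by
    rw [hG, hGi, ← LinearMap.toMatrix'_comp]
    have : (e : (ι → F) →ₗ[F] (ι → F)) ∘ₗ (e.symm : (ι → F) →ₗ[F] (ι → F))
        = LinearMap.id := by
      ext v : 1
      simp
    rw [this, LinearMap.toMatrix'_id]
  have hGG' : Gi * G = 1 := by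
    rw [hG, hGi, ← LinearMap.toMatrix'_comp]
    have : (e.symm : (ι → F) →ₗ[F] (ι → F)) ∘ₗ (e : (ι → F) →ₗ[F] (ι → F))
        = LinearMap.id := by
      ext v : 1
      simp
    rw [this, LinearMap.toMatrix'_id]
  refine ⟨⟨G, Gi, hGG, hGG'⟩, ?_, ?_⟩
  · intro u v
    show Qf (G.mulVec u) = Qf u
    rw [hGv]
    exact he u
  · intro v
    rw [LG_apply]
    exact hGv v

variable [Fintype F]

/-- semisimple isometries of odd order with the same characteristic polynomial are conjugate in
the isometry group -/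
theorem orth_isConj_of_charpoly (Q : QuadraticForm F (ι → F))
    (hQ : (polarBilin Q).Nondegenerate) (g h : ↥(Cfsg.isometryGroup F ⇑Q)) {M : ℕ} (hM : 1 ≤ M)
    (hodd : Odd M) (hMF : (M : F) ≠ 0) (hg : g ^ M = 1) (hh : h ^ M = 1)
    (hc : ((g : GL ι F) : Matrix ι ι F).charpoly = ((h : GL ι F) : Matrix ι ι F).charpoly) :
    IsConj g h := by
  set a := LG (g : GL ι F) with ha
  set b := LG (h : GL ι F) with hb
  have haQ : ∀ v, Q (a v) = Q v := fun v => by
    rw [ha, LG_apply]
    exact g.2 v v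
  have hbQ : ∀ v, Q (b v) = Q v := fun v => by
    rw [hb, LG_apply]
    exact h.2 v v
  have haM : a ^ M = 1 := by
    rw [ha, ← LG_pow, ← SubmonoidClass.coe_pow, hg]
    exact LG_one
  have hbM : b ^ M = 1 := by
    rw [hb, ← LG_pow, ← SubmonoidClass.coe_pow, hh]
    exact LG_one
  set S := irrFactors (X ^ M - 1 : F[X]) with hS
  have hprod : ∏ f ∈ S, f = X ^ M - 1 := sepFactors_prod hMF
  have hka : aeval a (∏ f ∈ S, f) = 0 := by
    rw [hprod, map_sub, map_pow, aeval_X, map_one, haM, sub_self]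
  have hkb : aeval b (∏ f ∈ S, f) = 0 := by
    rw [hprod, map_sub, map_pow, aeval_X, map_one, hbM, sub_self]
  have hirr : ∀ f ∈ S, Irreducible f := fun f hf => irrFactors_irreducible hf
  have hmon : ∀ f ∈ S, f.Monic := fun f hf => irrFactors_monic hf
  obtain ⟨T, hT⟩ := exists_equiv_of_charpoly_eq S hirr hmon a b hka hkb
    (by rw [ha, hb, LG_charpoly, LG_charpoly, hc])
  obtain ⟨e, heQ, hec⟩ := exists_isometry_intertwiner Q hQ a b haQ hbQ hM hodd hMF haM T hT
  -- `e` as a matrix
  obtain ⟨x, hx, hxe⟩ := exists_gl_of_equiv (⇑Q) e heQ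
  rw [isConj_iff]
  refine ⟨⟨x, hx⟩, ?_⟩
  rw [mul_inv_eq_iff_eq_mul]
  apply Subtype.ext
  apply Units.ext
  show (x : Matrix ι ι F) * ((g : GL ι F) : Matrix ι ι F) =
    ((h : GL ι F) : Matrix ι ι F) * (x : Matrix ι ι F)
  apply (Matrix.toLinAlgEquiv' (R := F) (n := ι)).injective
  apply LinearMap.ext
  intro v
  rw [map_mul, map_mul, Module.End.mul_apply, Module.End.mul_apply]
  show LG x (LG (g : GL ι F) v) = LG (h : GL ι F) (LG x v)
  rw [hxe, hxe]
  exact hec v

end conj

section main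
variable {F : Type u} [Field F] [Fintype F] {p : ℕ} [Fact p.Prime] [CharP F p] {r q : ℕ}

/-- the polynomial with prescribed multiplicities, of degree `N` -/
noncomputable def primePolyN (r N i : ℕ) (k : ↥(cycFactors F r) → ℕ) : F[X] :=
  (X - 1) ^ (N - i * ∑ a, k a) * ∏ a : ↥(cycFactors F r), a.1 ^ k a

theorem natDegree_primeProd (hF : Fintype.card F = q) (hr : r.Prime) (hrp : r ≠ p)
    (k : ↥(cycFactors F r) → ℕ) :
    (∏ a : ↥(cycFactors F r), a.1 ^ k a).natDegree = orderOf (q : ZMod r) * ∑ a, k a := by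
  rw [natDegree_prod_of_monic _ _ (fun a _ => (cycFactors_monic a.2).pow _), Finset.mul_sum]
  apply Finset.sum_congr rfl
  intro a _
  rw [(cycFactors_monic a.2).natDegree_pow, cycFactors_natDegree hF hr hrp a.2, mul_comm]

/-- the exponents of `primePolyN` -/
noncomputable def expoN (r N i : ℕ) (k : ↥(cycFactors F r) → ℕ) : F[X] → ℕ :=
  fun f => if f = X - 1 then N - i * ∑ a, k a else extΦ r k f

theorem expoN_apply (hr : r.Prime) (hrp : r ≠ p) (N i : ℕ) (k : ↥(cycFactors F r) → ℕ)
    (a : ↥(cycFactors F r)) : expoN r N i k a.1 = k a := by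
  unfold expoN
  rw [if_neg (fun h => X_sub_one_notMem hr hrp (h ▸ a.2)), extΦ_apply]

theorem primePolyN_eq_prod (hr : r.Prime) (hrp : r ≠ p) (N i : ℕ)
    (k : ↥(cycFactors F r) → ℕ) :
    primePolyN r N i k =
      ∏ f ∈ insert (X - 1 : F[X]) (cycFactors F r), f ^ expoN r N i k f := by
  rw [Finset.prod_insert (X_sub_one_notMem hr hrp)]
  unfold primePolyN
  congr 1
  · unfold expoN
    rw [if_pos rfl]
  · rw [← Finset.prod_coe_sort (cycFactors F r) (fun f => f ^ expoN r N i k f)]
    apply Finset.prod_congr rfl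
    intro a _
    rw [expoN_apply hr hrp]

theorem primePolyN_injective (hr : r.Prime) (hrp : r ≠ p) (N i : ℕ)
    (k k' : ↥(cycFactors F r) → ℕ) (h : primePolyN r N i k = primePolyN r N i k') : k = k' := by
  rw [primePolyN_eq_prod hr hrp, primePolyN_eq_prod hr hrp] at h
  have h1 := exponents_unique _ (fun f hf => insert_irreducible hf)
    (insert_pairwise_coprime hr hrp) _ _ h
  funext a
  have h2 := h1 a.1 (Finset.mem_insert_of_mem a.2)
  rwa [expoN_apply hr hrp, expoN_apply hr hrp] at h2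

/-- a self-dual tuple has an even weighted sum -/
theorem even_mul_sum (hF : Fintype.card F = q) (hr : r.Prime) (hr2 : r ≠ 2) (hrp : r ≠ p)
    (k : ↥(cycFactors F r) → ℕ) (hk : ∀ a, k (starΦ hr hr2 hrp a) = k a) :
    Even (orderOf (q : ZMod r) * ∑ a, k a) := by
  rcases Nat.even_or_odd (orderOf (q : ZMod r)) with hev | hodd
  · exact hev.mul_right _
  · apply Even.mul_left
    have hinv := starΦ_involutive (F := F) hr hr2 hrp
    have hfix : ∀ a, starΦ (F := F) hr hr2 hrp a ≠ a := by
      intro a h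
      exact dualPoly_ne_self_of_odd hF hr hr2 hrp hodd a.2 (congrArg Subtype.val h)
    obtain ⟨T, h1, h2⟩ := exists_half _ hinv hfix
    refine ⟨∑ a ∈ T, k a, ?_⟩
    rw [sum_eq_sum_half _ hinv T h1 h2 k, ← Finset.sum_add_distrib]
    apply Finset.sum_congr rfl
    intro a _
    rw [hk a]

/-- the product of the cyclotomic factors with self-dual multiplicities is realisable -/
theorem qreal_primeProd (hF : Fintype.card F = q) (hr : r.Prime) (hr2 : r ≠ 2) (hrp : r ≠ p)
    (hi0 : 0 < orderOf (q : ZMod r)) (k : ↥(cycFactors F r) → ℕ)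
    (hk : ∀ a, k (starΦ hr hr2 hrp a) = k a) :
    QReal r (∏ a : ↥(cycFactors F r), a.1 ^ k a) := by
  have hr1 : 1 ≤ r := hr.one_lt.le
  set i := orderOf (q : ZMod r) with hi
  rcases Nat.even_or_odd i with hev | hodd
  · apply qreal_prod
    intro a _
    apply qreal_pow
    exact qreal_selfdual hr1 (cycFactors_irreducible a.2) (cycFactors_monic a.2)
      (cycFactors_dvd_X_pow a.2) (dualPoly_eq_self_of_even hF hr hi0 hev a.2)
      (root_pow_ne_root hr hr2 hrp a.2)
  · have hinv := starΦ_involutive (F := F) hr hr2 hrp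
    have hfix : ∀ a, starΦ (F := F) hr hr2 hrp a ≠ a := by
      intro a h
      exact dualPoly_ne_self_of_odd hF hr hr2 hrp hodd a.2 (congrArg Subtype.val h)
    obtain ⟨T, h1, h2⟩ := exists_half _ hinv hfix
    rw [prod_eq_prod_half _ hinv T h1 h2 (fun a => a.1 ^ k a)]
    apply qreal_prod
    intro a _
    have e : a.1 ^ k a * (starΦ hr hr2 hrp a).1 ^ k (starΦ hr hr2 hrp a) =
        (a.1 * dualPoly r a.1) ^ k a := by
      rw [hk a, mul_pow]
      rfl
    rw [e]
    apply qreal_pow
    exact qreal_pair hr1 (cycFactors_irreducible a.2) (cycFactors_monic a.2)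
      (cycFactors_dvd_X_pow a.2)

variable {ι : Type} [Fintype ι] [DecidableEq ι]

/-- the characteristic polynomial of an isometry with `g ^ r = 1` -/
theorem orth_charpoly_eq_primePolyN (hF : Fintype.card F = q) (hr : r.Prime) (hr2 : r ≠ 2)
    (hrp : r ≠ p) (Q : QuadraticForm F (ι → F)) (hQ : (polarBilin Q).Nondegenerate)
    (g : GL ι F) (hgQ : ∀ v, Q (LG g v) = Q v) (hg : g ^ r = 1) :
    ∃ k : ↥(cycFactors F r) → ℕ, (∀ a, k (starΦ hr hr2 hrp a) = k a) ∧
      orderOf (q : ZMod r) * ∑ a, k a ≤ Fintype.card ι ∧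
      (g : Matrix ι ι F).charpoly = primePolyN r (Fintype.card ι) (orderOf (q : ZMod r)) k := by
  have hr1 : 1 ≤ r := hr.one_lt.le
  set i := orderOf (q : ZMod r) with hi
  set A := LG g with hA
  have hAr : A ^ r = 1 := by rw [hA, ← LG_pow, hg, LG_one]
  set S := insert (X - 1 : F[X]) (cycFactors F r) with hS
  have hkill : aeval A (∏ f ∈ S, f) = 0 := by
    rw [hS, X_sub_one_mul_prod hr hrp, map_sub, map_pow, aeval_X, map_one, hAr, sub_self]
  have hirr : ∀ f ∈ S, Irreducible f := fun f hf => insert_irreducible hf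
  have e1 : (X - 1 : F[X]) = X - C 1 := by rw [map_one]
  have hmon : ∀ f ∈ S, f.Monic := by
    intro f hf
    rcases Finset.mem_insert.1 hf with rfl | hf
    · rw [e1]
      exact monic_X_sub_C 1
    · exact cycFactors_monic hf
  have hcop := insert_pairwise_coprime (F := F) hr hrp
  let k : ↥(cycFactors F r) → ℕ := fun a => kdim A a.1 / i
  have hki : ∀ a : ↥(cycFactors F r), k a * i = kdim A a.1 := by
    intro a
    apply Nat.div_mul_cancel
    rw [hi, ← cycFactors_natDegree hF hr hrp a.2]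
    exact dvd_kdim A a.1 (cycFactors_irreducible a.2)
  have hfin := finrank_eq_sum_kdim A S hcop hkill
  rw [hS, Finset.sum_insert (X_sub_one_notMem hr hrp), Module.finrank_fintype_fun_eq_card] at hfin
  have hsumΦ : ∑ f ∈ cycFactors F r, kdim A f = i * ∑ a, k a := by
    rw [← Finset.sum_coe_sort (cycFactors F r) (fun f => kdim A f), Finset.mul_sum]
    apply Finset.sum_congr rfl
    intro a _
    rw [← hki a, mul_comm]
  have hinvA : HInv (AlgHom.id F F) 1 A (polarBilin Q) := hinv_of_isom Q hQ A hgQ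
  have hσ2 : ∀ x : F, (AlgHom.id F F) ((AlgHom.id F F) x) = x := fun x => rfl
  refine ⟨k, ?_, ?_, ?_⟩
  · intro a
    show kdim A (dualPoly r a.1) / i = kdim A a.1 / i
    have h1 := Cfsg.Agent.Helper13.Uni.kdim_cdual (F := F) (K := F) (σ := AlgHom.id F F) hσ2 hr1
      (cast_ne_zero_of_prime_ne hr hrp) hAr hinvA
      (cycFactors_irreducible a.2) (cycFactors_monic a.2) (cycFactors_dvd_X_pow a.2)
    have h2 : cdual r ((AlgHom.id F F : F →ₐ[F] F) : F →+* F) a.1 = dualPoly r a.1 :=
      Polynomial.map_id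
    rw [h2] at h1
    rw [h1]
  · omega
  · rw [← LG_charpoly, charpoly_eq_prod S hirr hmon A hkill, primePolyN_eq_prod hr hrp]
    apply Finset.prod_congr rfl
    intro f hf
    congr 1
    rcases Finset.mem_insert.1 hf with h | h
    · rw [h]
      unfold expoN
      rw [if_pos rfl, e1, natDegree_X_sub_C, Nat.div_one, ← e1]
      omega
    · have := expoN_apply (F := F) hr hrp (Fintype.card ι) i k ⟨f, h⟩
      rw [this, cycFactors_natDegree hF hr hrp h]

end main

end Cfsg.Agent.Helper13.OrthSS
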