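import Mathlib
import Cfsg.Agent.Lib.Helper13.OrthReal
import Cfsg.Agent.Lib.Helper28.WittQuad

set_option autoImplicit false

/-!
# Hyperbolic quadratic spaces: totally singular subspaces of half dimension
-/

namespace Cfsg.Agent.Helper13.OrthSS

open Module QuadraticMap Cfsg.Agent.Helper13 Cfsg.Agent.Helper28.WittQuad

section basic
variable {F : Type*} [Field F] {V : Type*} [AddCommGroup V] [Module F V]

/-- the quadratic space has a totally singular subspace of half dimension -/
def IsHyp (Q : QuadraticForm F V) : Prop :=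
  ∃ L : Submodule F V, (∀ x ∈ L, Q x = 0) ∧ 2 * finrank F L = finrank F V

theorem IsHyp.of_equiv {V' : Type*} [AddCommGroup V'] [Module F V'] {Q : QuadraticForm F V}
    {Q' : QuadraticForm F V'} (e : V ≃ₗ[F] V') (he : ∀ v, Q' (e v) = Q v) (h : IsHyp Q) :
    IsHyp Q' := by
  obtain ⟨L, hL, hd⟩ := h
  refine ⟨L.map (e : V →ₗ[F] V'), ?_, ?_⟩
  · rintro x ⟨y, hy, rfl⟩
    show Q' (e y) = 0
    rw [he, hL y hy]
  · rw [LinearEquiv.finrank_map_eq e L, hd, e.finrank_eq]

theorem isHyp_iff_of_equiv {V' : Type*} [AddCommGroup V'] [Module F V'] {Q : QuadraticForm F V}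
    {Q' : QuadraticForm F V'} (e : V ≃ₗ[F] V') (he : ∀ v, Q' (e v) = Q v) :
    IsHyp Q ↔ IsHyp Q' := by
  constructor
  · exact IsHyp.of_equiv e he
  · apply IsHyp.of_equiv e.symm
    intro v
    rw [← he, e.apply_symm_apply]

/-- the polar form vanishes on a totally singular subspace -/
theorem polar_ts (Q : QuadraticForm F V) (L : Submodule F V) (hL : ∀ x ∈ L, Q x = 0) {x y : V}
    (hx : x ∈ L) (hy : y ∈ L) : polar Q x y = 0 := by
  unfold polar
  rw [hL _ (L.add_mem hx hy), hL x hx, hL y hy]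
  simp

variable [FiniteDimensional F V]

/-- a totally singular subspace can be moved over a smaller one -/
theorem exists_ts_ge (Q : QuadraticForm F V) (hQ : (polarBilin Q).Nondegenerate)
    (L₀ L : Submodule F V) (h₀ : ∀ x ∈ L₀, Q x = 0) (hL : ∀ x ∈ L, Q x = 0)
    (hle : finrank F L₀ ≤ finrank F L) :
    ∃ L' : Submodule F V, (∀ x ∈ L', Q x = 0) ∧ finrank F L' = finrank F L ∧ L₀ ≤ L' := by
  set b := Module.finBasis F L₀ with hb
  obtain ⟨y, hy⟩ := exists_linearIndependent_of_le_finrank (R := F) (M := L) hle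
  have hx : LinearIndependent F (fun i => ((b i : L₀) : V)) :=
    b.linearIndependent.map' L₀.subtype L₀.ker_subtype
  have hy' : LinearIndependent F (fun i => ((y i : L) : V)) :=
    hy.map' L.subtype L.ker_subtype
  obtain ⟨g, hg, hgx⟩ := witt_family hQ _ _ _ hx hy'
    (fun i => by rw [h₀ _ (b i).2, hL _ (y i).2])
    (fun i j => by rw [polar_ts Q L₀ h₀ (b i).2 (b j).2, polar_ts Q L hL (y i).2 (y j).2])
  have hgL : ∀ v ∈ L₀, g v ∈ L := by
    intro v hv
    have h2 : v = ∑ i, b.repr ⟨v, hv⟩ i • ((b i : L₀) : V) := by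
      calc v = ((∑ i, b.repr ⟨v, hv⟩ i • b i : L₀) : V) := by rw [b.sum_repr]
        _ = ∑ i, b.repr ⟨v, hv⟩ i • ((b i : L₀) : V) := by
          rw [Submodule.coe_sum]
          rfl
    rw [h2, map_sum]
    apply Submodule.sum_mem
    intro i _
    rw [map_smul, hgx]
    exact L.smul_mem _ (y i).2
  refine ⟨L.map (g.symm : V →ₗ[F] V), ?_, ?_, ?_⟩
  · rintro x ⟨w, hw, rfl⟩
    show Q (g.symm w) = 0
    have := hg (g.symm w)
    rw [g.apply_symm_apply] at this
    rw [← this, hL w hw]
  · exact LinearEquiv.finrank_map_eq g.symm L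
  · intro v hv
    exact ⟨g v, hgL v hv, g.symm_apply_apply v⟩

/-- the key cancellation lemma -/
theorem max_ts (Q : QuadraticForm F V) (hQ : (polarBilin Q).Nondegenerate)
    (L₀ K L : Submodule F V) (h₀ : ∀ x ∈ L₀, Q x = 0)
    (hK : ∀ x ∈ L₀, ∀ y ∈ K, polar Q x y = 0) (hdisj : L₀ ⊓ K = ⊥)
    (hdim : 2 * finrank F L₀ + finrank F K = finrank F V)
    (hL : ∀ x ∈ L, Q x = 0) (hle : finrank F L₀ ≤ finrank F L) :
    ∃ L' : Submodule F V, L' ≤ K ∧ (∀ x ∈ L', Q x = 0) ∧
      finrank F L' + finrank F L₀ = finrank F L := by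
  obtain ⟨L'', hts, hfr, hle'⟩ := exists_ts_ge Q hQ L₀ L h₀ hL hle
  have hsup : finrank F ↥(L₀ ⊔ K) = finrank F L₀ + finrank F K := by
    have := Submodule.finrank_sup_add_finrank_inf_eq L₀ K
    rw [hdisj, finrank_bot, add_zero] at this
    exact this
  have horth : LinearMap.BilinForm.orthogonal (polarBilin Q) L₀ = L₀ ⊔ K := by
    symm
    apply Submodule.eq_of_le_of_finrank_eq
    · apply sup_le
      · intro x hx y hy
        exact polar_ts Q L₀ h₀ hy hx
      · intro x hx y hy
        exact hK y hy x hx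
    · rw [LinearMap.BilinForm.finrank_orthogonal hQ, hsup]
      omega
  have hL''le : L'' ≤ L₀ ⊔ K := by
    rw [← horth]
    intro x hx y hy
    exact polar_ts Q L'' hts (hle' hy) hx
  have hmod : L'' = L₀ ⊔ K ⊓ L'' := by
    rw [← sup_inf_assoc_of_le K hle']
    exact (inf_eq_right.2 hL''le).symm
  refine ⟨K ⊓ L'', inf_le_left, fun x hx => hts x hx.2, ?_⟩
  have h1 := Submodule.finrank_sup_add_finrank_inf_eq L₀ (K ⊓ L'')
  have h2 : L₀ ⊓ (K ⊓ L'') = ⊥ := by
    rw [eq_bot_iff, ← hdisj, ← inf_assoc]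
    exact inf_le_left
  rw [h2, finrank_bot, add_zero, ← hmod, hfr] at h1
  omega

end basic

section prod
variable {F : Type*} [Field F] {V W : Type*} [AddCommGroup V] [Module F V] [AddCommGroup W]
  [Module F W]

theorem isHyp_prod {Q : QuadraticForm F V} {Q' : QuadraticForm F W} (h : IsHyp Q)
    (h' : IsHyp Q') [FiniteDimensional F V] [FiniteDimensional F W] :
    IsHyp (QuadraticMap.prod Q Q') := by
  obtain ⟨L, hL, hd⟩ := h
  obtain ⟨L', hL', hd'⟩ := h'
  set f : (↥L × ↥L') →ₗ[F] (V × W) := L.subtype.prodMap L'.subtype with hf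
  have hfinj : Function.Injective f := by
    rintro ⟨a, b⟩ ⟨c, d⟩ h
    have h1 : (a : V) = c := congrArg Prod.fst h
    have h2 : (b : W) = d := congrArg Prod.snd h
    rw [Subtype.ext h1, Subtype.ext h2]
  refine ⟨LinearMap.range f, ?_, ?_⟩
  · rintro x ⟨⟨a, b⟩, rfl⟩
    show QuadraticMap.prod Q Q' ((a : V), (b : W)) = 0
    rw [QuadraticMap.prod_apply, hL a a.2, hL' b b.2, add_zero]
  · rw [LinearMap.finrank_range_of_inj hfinj, Module.finrank_prod, Module.finrank_prod]
    omega

variable [FiniteDimensional F V] [FiniteDimensional F W]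

/-- cancellation of a hyperbolic factor -/
theorem isHyp_cancel {Q : QuadraticForm F V} {Q' : QuadraticForm F W}
    (hQ : (polarBilin Q).Nondegenerate) (hQ' : (polarBilin Q').Nondegenerate) (h : IsHyp Q)
    (hP : IsHyp (QuadraticMap.prod Q Q')) : IsHyp Q' := by
  obtain ⟨L₁, hL₁, hd₁⟩ := h
  obtain ⟨L, hL, hd⟩ := hP
  set inlV := LinearMap.inl F V W with hinl
  set inrW := LinearMap.inr F V W with hinr
  have hinlinj : Function.Injective inlV := LinearMap.inl_injective
  have hinrinj : Function.Injective inrW := LinearMap.inr_injective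
  set L₀ := L₁.map inlV with hL₀
  set K := LinearMap.range inrW with hK
  have hfL₀ : finrank F L₀ = finrank F L₁ :=
    (Submodule.equivMapOfInjective inlV hinlinj L₁).finrank_eq.symm
  have hfK : finrank F K = finrank F W := LinearMap.finrank_range_of_inj hinrinj
  have hfP : finrank F (V × W) = finrank F V + finrank F W := Module.finrank_prod
  obtain ⟨L', hL'K, hL'ts, hL'f⟩ := max_ts (QuadraticMap.prod Q Q') (nondeg_prod Q Q' hQ hQ')
    L₀ K L
    (by
      rintro x ⟨y, hy, rfl⟩
      show QuadraticMap.prod Q Q' (y, 0) = 0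
      rw [QuadraticMap.prod_apply, hL₁ y hy, map_zero, add_zero])
    (by
      rintro x ⟨y, hy, rfl⟩ z ⟨w, rfl⟩
      show polar (QuadraticMap.prod Q Q') (y, 0) (0, w) = 0
      rw [polar_prod']
      simp)
    (by
      rw [eq_bot_iff]
      rintro x ⟨⟨y, hy, rfl⟩, ⟨w, hw⟩⟩
      have h1 : y = 0 := by
        have := congrArg Prod.fst hw
        simpa [hinl, hinr] using this.symm
      rw [h1, map_zero]
      exact Submodule.zero_mem _)
    (by rw [hfL₀, hfK, hfP]; omega)
    hL
    (by rw [hfL₀]; omega)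
  refine ⟨L'.map (LinearMap.snd F V W), ?_, ?_⟩
  · rintro x ⟨z, hz, rfl⟩
    obtain ⟨w, rfl⟩ := hL'K hz
    have := hL'ts _ hz
    show Q' w = 0
    have h1 : QuadraticMap.prod Q Q' (inrW w) = Q' w := by
      show QuadraticMap.prod Q Q' (0, w) = Q' w
      rw [QuadraticMap.prod_apply, map_zero, zero_add]
    rw [← h1, this]
  · have hinj : Function.Injective ((LinearMap.snd F V W).domRestrict L') := by
      rw [← LinearMap.ker_eq_bot, LinearMap.ker_eq_bot']
      rintro ⟨z, hz⟩ h0
      obtain ⟨w, rfl⟩ := hL'K hz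
      have h1 : w = 0 := h0
      apply Subtype.ext
      show inrW w = 0
      rw [h1, map_zero]
    have h3 : finrank F ↥(L'.map (LinearMap.snd F V W)) = finrank F L' := by
      have h4 : LinearMap.range ((LinearMap.snd F V W).domRestrict L') =
          L'.map (LinearMap.snd F V W) := by
        ext x
        constructor
        · rintro ⟨z, rfl⟩
          exact ⟨z.1, z.2, rfl⟩
        · rintro ⟨z, hz, rfl⟩
          exact ⟨⟨z, hz⟩, rfl⟩
      rw [← h4, LinearMap.finrank_range_of_inj hinj]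
    rw [h3]
    rw [hfL₀] at hL'f
    rw [hfP] at hd
    omega

end prod

section aniso
variable {F : Type*} [Field F] {V : Type*} [AddCommGroup V] [Module F V] [FiniteDimensional F V]

/-- a space with a totally singular subspace whose perp is spanned with an anisotropic plane is
not hyperbolic -/
theorem not_isHyp_of_aniso (Q : QuadraticForm F V) (hQ : (polarBilin Q).Nondegenerate)
    (L₀ P : Submodule F V) (h₀ : ∀ x ∈ L₀, Q x = 0)
    (hP : ∀ x ∈ L₀, ∀ y ∈ P, polar Q x y = 0) (haniso : ∀ y ∈ P, Q y = 0 → y = 0)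
    (hdim : 2 * finrank F L₀ + finrank F P = finrank F V) (hP0 : 0 < finrank F P) :
    ¬ IsHyp Q := by
  rintro ⟨L, hL, hd⟩
  have hdisj : L₀ ⊓ P = ⊥ := by
    rw [eq_bot_iff]
    rintro x ⟨hx0, hxP⟩
    exact haniso x hxP (h₀ x hx0)
  obtain ⟨L', hL'P, hL'ts, hL'f⟩ := max_ts Q hQ L₀ P L h₀ hP hdisj hdim hL (by omega)
  have hpos : 0 < finrank F L' := by omega
  obtain ⟨x, hx⟩ := Module.finrank_pos_iff_exists_ne_zero.1 hpos
  apply hx
  apply Subtype.ext
  exact haniso x (hL'P x.2) (hL'ts x x.2)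

end aniso

end Cfsg.Agent.Helper13.OrthSS
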