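import Mathlib
import Cfsg.Agent.Lib.Helper13.OrthType1
import Cfsg.Agent.Lib.Helper13.QuadBasis
import Cfsg.Agent.S2616
import Cfsg.Agent.Lib.Helper2.OrthOrders

set_option autoImplicit false

/-!
# Anisotropic planes over finite fields are isometric; classification by type
-/

namespace Cfsg.Agent.Helper13.OrthSS

open Module QuadraticMap Matrix Cfsg.Agent.Helper13

section algebra
variable {F : Type*} [Field F] [Fintype F]

theorem exists_plane_change_two (h2 : (2 : F) = 0) (ζ ζ' : F) (hζ : ∀ t : F, t ^ 2 + t + ζ ≠ 0)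
    (hζ' : ∀ t : F, t ^ 2 + t + ζ' ≠ 0) : ∃ u : F, u ^ 2 + u = ζ + ζ' := by
  classical
  have hadd : ∀ a b : F, (a + b) ^ 2 + (a + b) = (a ^ 2 + a) + (b ^ 2 + b) := by
    intro a b
    have : (a + b) ^ 2 + (a + b) - ((a ^ 2 + a) + (b ^ 2 + b)) = 2 * (a * b) := by ring
    rw [h2, zero_mul, sub_eq_zero] at this
    exact this
  let ℘ : F →+ F := AddMonoidHom.mk' (fun u => u ^ 2 + u) hadd
  have h℘ : ∀ u, ℘ u = u ^ 2 + u := fun u => rfl
  have hker : (℘.ker : Set F) = {0, 1} := by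
    ext u
    simp only [SetLike.mem_coe, AddMonoidHom.mem_ker, Set.mem_insert_iff, Set.mem_singleton_iff,
      h℘]
    constructor
    · intro h
      have h3 : u * (u + 1) = 0 := by rw [← h]; ring
      rcases mul_eq_zero.1 h3 with h4 | h4
      · exact Or.inl h4
      · right
        have h5 : u = -1 := eq_neg_of_add_eq_zero_left h4
        have h6 : (-1 : F) = 1 := by
          rw [neg_eq_iff_add_eq_zero, one_add_one_eq_two, h2]
        rw [h5, h6]
    · rintro (rfl | rfl)
      · ring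
      · rw [one_pow, one_add_one_eq_two, h2]
  have hcard : Nat.card ℘.ker = 2 := by
    show Nat.card ↥(℘.ker : Set F) = 2
    rw [hker, Nat.card_coe_set_eq, Set.ncard_pair zero_ne_one]
  have hidx : ℘.range.index = 2 := by
    rw [AddSubgroup.index_range, hcard]
  have hnot : ∀ z : F, (∀ t : F, t ^ 2 + t + z ≠ 0) → z ∉ ℘.range := by
    rintro z hz ⟨u, rfl⟩
    apply hz u
    rw [h℘, ← two_mul, h2, zero_mul]
  have := (AddSubgroup.add_mem_iff_of_index_two hidx (a := ζ) (b := ζ')).2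
    (iff_of_false (hnot ζ hζ) (hnot ζ' hζ'))
  obtain ⟨u, hu⟩ := this
  exact ⟨u, hu⟩

theorem exists_plane_change (ζ ζ' : F) (hζ : ∀ t : F, t ^ 2 + t + ζ ≠ 0)
    (hζ' : ∀ t : F, t ^ 2 + t + ζ' ≠ 0) :
    ∃ u v : F, v ≠ 0 ∧ 2 * u + v = 1 ∧ u ^ 2 + u * v + ζ' * v ^ 2 = ζ := by
  classical
  by_cases h2 : (2 : F) = 0
  · obtain ⟨u, hu⟩ := exists_plane_change_two h2 ζ ζ' hζ hζ'
    refine ⟨u, 1, one_ne_zero, by rw [h2, zero_mul, zero_add], ?_⟩
    have h3 : ζ' + ζ' = 0 := by rw [← two_mul, h2, zero_mul]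
    linear_combination hu + h3
  · have hnsq : ∀ z : F, (∀ t : F, t ^ 2 + t + z ≠ 0) → ¬ IsSquare (1 - 4 * z) := by
      rintro z hz ⟨d, hd⟩
      apply hz ((d - 1) / 2)
      field_simp
      linear_combination (-1 : F) * hd
    have hD := hnsq ζ hζ
    have hD' := hnsq ζ' hζ'
    have hD0 : 1 - 4 * ζ ≠ 0 := fun h => hD (by rw [h]; exact ⟨0, by ring⟩)
    have hD'0 : 1 - 4 * ζ' ≠ 0 := fun h => hD' (by rw [h]; exact ⟨0, by ring⟩)
    obtain ⟨s₀, hs₀⟩ := (isSquare_mul_nonsquare hD0 hD').2 hD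
    set s := s₀ / (1 - 4 * ζ') with hs
    have hs2 : s ^ 2 * (1 - 4 * ζ') = 1 - 4 * ζ := by
      rw [hs]
      field_simp
      linear_combination (-1 : F) * hs₀
    have hs0 : s ≠ 0 := by
      intro h
      rw [h] at hs2
      apply hD0
      rw [← hs2]
      ring
    refine ⟨(1 - s) / 2, s, hs0, by field_simp; ring, ?_⟩
    field_simp
    linear_combination (-1 : F) * hs2

end algebra

section data
variable {F : Type*} [Field F] {V : Type*} [AddCommGroup V] [Module F V]

/-- coordinates in which `Q` is the standard hyperbolic form -/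
def HypData (Q : QuadraticForm F V) (m : ℕ) : Prop :=
  ∃ b : Module.Basis (Fin m ⊕ Fin m) F V, ∀ v, Q v = matQ (plusMat m F) (b.equivFun v)

/-- coordinates in which `Q` is the standard elliptic form with binary part `x² + xy + ζ y²` -/
def EllData (Q : QuadraticForm F V) (k : ℕ) (ζ : F) : Prop :=
  ∃ b : Module.Basis ((Fin k ⊕ Fin k) ⊕ Fin 2) F V,
    ∀ v, Q v = matQ (minusMat k 1 ζ) (b.equivFun v)

theorem data_of_nondeg [Finite F] [FiniteDimensional F V] {m : ℕ} (hm : 1 ≤ m)
    (hV : finrank F V = 2 * m) (Q : QuadraticForm F V) (hQ : (polarBilin Q).Nondegenerate) :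
    HypData Q m ∨ ∃ ζ : F, (∀ t : F, t ^ 2 + t + ζ ≠ 0) ∧ EllData Q (m - 1) ζ := by
  rcases Cfsg.Agent.S2616.result hm hV Q hQ with ⟨b, h1, h2, h3⟩ | ⟨b, ζ, hζ, h1, h2, h3, h4, h5, h6, h7⟩
  · left
    refine ⟨b, eq_matQ_of_basis Q b (plusMat m F) ?_ ?_⟩
    · rintro (i | i)
      · simp [plusMat, (h1 i).1]
      · simp [plusMat, (h1 i).2]
    · rintro (i | i) (j | j) hij
      · simp [plusMat, (h3 i j).1]
      · simp [plusMat, h2 i j, Matrix.one_apply]
      · rw [polar_comm, h2 j i]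
        simp [plusMat, Matrix.one_apply]
      · simp [plusMat, (h3 i j).2]
  · right
    refine ⟨ζ, hζ, b, eq_matQ_of_basis Q b (minusMat (m - 1) 1 ζ) ?_ ?_⟩
    · rintro ((i | i) | i)
      · simp [minusMat, plusMat, (h1 i).1]
      · simp [minusMat, plusMat, (h1 i).2]
      · fin_cases i
        · simpa [minusMat] using h5
        · simpa [minusMat] using h7
    · rintro ((i | i) | i) ((j | j) | j) hij
      · simp [minusMat, plusMat, (h3 i j).1]
      · simp [minusMat, plusMat, h2 i j, Matrix.one_apply]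
      · simp [minusMat, (h4 i j).1]
      · rw [polar_comm, h2 j i]
        simp [minusMat, plusMat, Matrix.one_apply]
      · simp [minusMat, plusMat, (h3 i j).2]
      · simp [minusMat, (h4 i j).2]
      · rw [polar_comm, (h4 j i).1]
        simp [minusMat]
      · rw [polar_comm, (h4 j i).2]
        simp [minusMat]
      · fin_cases i <;> fin_cases j
        · exact absurd rfl hij
        · simpa [minusMat] using h6
        · rw [polar_comm]
          simpa [minusMat] using h6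
        · exact absurd rfl hij

end data

section std
variable {F : Type*} [Field F]

/-- extension by zero -/
noncomputable def extL (α β : Type*) : (α → F) →ₗ[F] (α ⊕ β → F) :=
  (LinearEquiv.sumArrowLequivProdArrow α β F F).symm.toLinearMap ∘ₗ LinearMap.inl F (α → F) (β → F)

/-- extension by zero -/
noncomputable def extR (α β : Type*) : (β → F) →ₗ[F] (α ⊕ β → F) :=
  (LinearEquiv.sumArrowLequivProdArrow α β F F).symm.toLinearMap ∘ₗ LinearMap.inr F (α → F) (β → F)

theorem extL_inl {α β : Type*} (x : α → F) (a : α) : extL (F := F) α β x (Sum.inl a) = x a := rfl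

theorem extL_inr {α β : Type*} (x : α → F) (b : β) : extL (F := F) α β x (Sum.inr b) = 0 := rfl

theorem extR_inl {α β : Type*} (y : β → F) (a : α) : extR (F := F) α β y (Sum.inl a) = 0 := rfl

theorem extR_inr {α β : Type*} (y : β → F) (b : β) : extR (F := F) α β y (Sum.inr b) = y b := rfl

theorem extL_injective (α β : Type*) : Function.Injective (extL (F := F) α β) := by
  intro x y h
  funext a
  have := congrFun h (Sum.inl a)
  rwa [extL_inl, extL_inl] at this

theorem extR_injective (α β : Type*) : Function.Injective (extR (F := F) α β) := by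
  intro x y h
  funext a
  have := congrFun h (Sum.inr a)
  rwa [extR_inr, extR_inr] at this

theorem isHyp_plusMat (m : ℕ) : IsHyp (matQ (plusMat m F)) := by
  refine ⟨LinearMap.range (extL (F := F) (Fin m) (Fin m)), ?_, ?_⟩
  · rintro _ ⟨x, rfl⟩
    rw [matQ_plusMat]
    apply Finset.sum_eq_zero
    intro i _
    rw [extL_inr, mul_zero]
  · rw [LinearMap.finrank_range_of_inj (extL_injective _ _), Module.finrank_fintype_fun_eq_card,
      Module.finrank_fintype_fun_eq_card, Fintype.card_sum, Fintype.card_fin]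
    omega

theorem not_isHyp_minusMat [Finite F] (k : ℕ) (a c : F)
    (hac : ∀ z₁ z₂ : F, z₁ ^ 2 + a * z₁ * z₂ + c * z₂ ^ 2 = 0 → z₁ = 0 ∧ z₂ = 0) :
    ¬ IsHyp (matQ (minusMat k a c)) := by
  set j₀ : (Fin k → F) →ₗ[F] ((Fin k ⊕ Fin k) ⊕ Fin 2 → F) :=
    extL (Fin k ⊕ Fin k) (Fin 2) ∘ₗ extL (Fin k) (Fin k) with hj₀
  set jP : (Fin 2 → F) →ₗ[F] ((Fin k ⊕ Fin k) ⊕ Fin 2 → F) := extR (Fin k ⊕ Fin k) (Fin 2)
    with hjP
  have hj₀inj : Function.Injective j₀ := (extL_injective _ _).comp (extL_injective _ _)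
  have hjPinj : Function.Injective jP := extR_injective _ _
  have hQ0 : ∀ x, matQ (minusMat k a c) (j₀ x) = 0 := by
    intro x
    rw [matQ_minusMat]
    simp [hj₀, extL_inl, extL_inr]
  have hQP : ∀ y, matQ (minusMat k a c) (jP y) = y 0 ^ 2 + a * y 0 * y 1 + c * y 1 ^ 2 := by
    intro y
    rw [matQ_minusMat]
    simp [hjP, extR_inl, extR_inr]
  have hQ0P : ∀ x y, matQ (minusMat k a c) (j₀ x + jP y) =
      y 0 ^ 2 + a * y 0 * y 1 + c * y 1 ^ 2 := by
    intro x y
    rw [matQ_minusMat]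
    simp [hj₀, hjP, extL_inl, extL_inr, extR_inl, extR_inr]
  apply not_isHyp_of_aniso (matQ (minusMat k a c)) (Cfsg.Agent.Helper2.Orth.nondeg_minus k a c hac)
    (LinearMap.range j₀) (LinearMap.range jP)
  · rintro _ ⟨x, rfl⟩
    exact hQ0 x
  · rintro _ ⟨x, rfl⟩ _ ⟨y, rfl⟩
    unfold polar
    rw [hQ0P, hQ0, hQP]
    ring
  · rintro _ ⟨y, rfl⟩ h
    rw [hQP] at h
    obtain ⟨h0, h1⟩ := hac _ _ h
    have : y = 0 := by
      funext i
      fin_cases i
      · exact h0
      · exact h1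
    rw [this, map_zero]
  · rw [LinearMap.finrank_range_of_inj hj₀inj, LinearMap.finrank_range_of_inj hjPinj,
      Module.finrank_fintype_fun_eq_card, Module.finrank_fintype_fun_eq_card,
      Module.finrank_fintype_fun_eq_card]
    simp
    omega
  · rw [LinearMap.finrank_range_of_inj hjPinj, Module.finrank_fintype_fun_eq_card]
    simp

theorem aniso_of_rootless (ζ : F) (hζ : ∀ t : F, t ^ 2 + t + ζ ≠ 0) (z₁ z₂ : F)
    (h : z₁ ^ 2 + 1 * z₁ * z₂ + ζ * z₂ ^ 2 = 0) : z₁ = 0 ∧ z₂ = 0 := by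
  by_cases h2 : z₂ = 0
  · rw [h2] at h
    simp at h
    exact ⟨h, h2⟩
  · exfalso
    apply hζ (z₁ / z₂)
    field_simp
    linear_combination h

end std

section transfer
variable {F : Type*} [Field F] {V : Type*} [AddCommGroup V] [Module F V]

theorem HypData.isHyp {Q : QuadraticForm F V} {m : ℕ} (h : HypData Q m) : IsHyp Q := by
  obtain ⟨b, hb⟩ := h
  exact IsHyp.of_equiv b.equivFun.symm
    (fun v => by rw [hb, LinearEquiv.apply_symm_apply]) (isHyp_plusMat m)

theorem EllData.not_isHyp [Finite F] {Q : QuadraticForm F V} {k : ℕ} {ζ : F} (h : EllData Q k ζ)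
    (hζ : ∀ t : F, t ^ 2 + t + ζ ≠ 0) : ¬ IsHyp Q := by
  obtain ⟨b, hb⟩ := h
  intro hh
  exact not_isHyp_minusMat k 1 ζ (aniso_of_rootless ζ hζ)
    (IsHyp.of_equiv b.equivFun (fun v => (hb v).symm) hh)

end transfer

section change
variable {F : Type*} [Field F]

/-- the coordinate change `(p₀, p₁) ↦ (p₀ + u p₁, v p₁)` -/
noncomputable def planeT (u v : F) (hv : v ≠ 0) : (Fin 2 → F) ≃ₗ[F] (Fin 2 → F) :=
  LinearEquiv.ofLinear
    { toFun := fun p => ![p 0 + u * p 1, v * p 1]
      map_add' := by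
        intro p q
        ext i
        fin_cases i
        · simp; ring
        · simp; ring
      map_smul' := by
        intro c p
        ext i
        fin_cases i
        · simp; ring
        · simp; ring }
    { toFun := fun q => ![q 0 - u * (q 1 / v), q 1 / v]
      map_add' := by
        intro p q
        ext i
        fin_cases i
        · simp; ring
        · simp; ring
      map_smul' := by
        intro c p
        ext i
        fin_cases i
        · simp; ring
        · simp; ring }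
    (by
      apply LinearMap.ext
      intro q
      funext i
      fin_cases i
      · show (q 0 - u * (q 1 / v)) + u * (q 1 / v) = q 0
        ring
      · show v * (q 1 / v) = q 1
        field_simp)
    (by
      apply LinearMap.ext
      intro p
      funext i
      fin_cases i
      · show (p 0 + u * p 1) - u * (v * p 1 / v) = p 0
        field_simp
        ring
      · show v * p 1 / v = p 1
        field_simp)

theorem planeT_zero (u v : F) (hv : v ≠ 0) (p : Fin 2 → F) :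
    planeT u v hv p 0 = p 0 + u * p 1 := rfl

theorem planeT_one (u v : F) (hv : v ≠ 0) (p : Fin 2 → F) :
    planeT u v hv p 1 = v * p 1 := rfl

/-- the coordinate change on the last two coordinates -/
noncomputable def ellθ (α : Type*) (u v : F) (hv : v ≠ 0) :
    (α ⊕ Fin 2 → F) ≃ₗ[F] (α ⊕ Fin 2 → F) :=
  ((LinearEquiv.sumArrowLequivProdArrow α (Fin 2) F F).trans
    ((LinearEquiv.refl F (α → F)).prodCongr (planeT u v hv))).trans
    (LinearEquiv.sumArrowLequivProdArrow α (Fin 2) F F).symm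

theorem ellθ_inl (α : Type*) (u v : F) (hv : v ≠ 0) (w : α ⊕ Fin 2 → F) (a : α) :
    ellθ α u v hv w (Sum.inl a) = w (Sum.inl a) := rfl

theorem ellθ_inr_zero (α : Type*) (u v : F) (hv : v ≠ 0) (w : α ⊕ Fin 2 → F) :
    ellθ α u v hv w (Sum.inr 0) = w (Sum.inr 0) + u * w (Sum.inr 1) := rfl

theorem ellθ_inr_one (α : Type*) (u v : F) (hv : v ≠ 0) (w : α ⊕ Fin 2 → F) :
    ellθ α u v hv w (Sum.inr 1) = v * w (Sum.inr 1) := rfl

variable {V : Type*} [AddCommGroup V] [Module F V]

theorem EllData.change [Fintype F] {Q : QuadraticForm F V} {k : ℕ} {ζ ζ' : F}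
    (h : EllData Q k ζ) (hζ : ∀ t : F, t ^ 2 + t + ζ ≠ 0) (hζ' : ∀ t : F, t ^ 2 + t + ζ' ≠ 0) :
    EllData Q k ζ' := by
  obtain ⟨b, hb⟩ := h
  obtain ⟨u, v, hv0, h1, h2⟩ := exists_plane_change ζ' ζ hζ' hζ
  set θ := ellθ (F := F) (Fin k ⊕ Fin k) u v hv0 with hθ
  have hkey : ∀ w, matQ (minusMat k 1 ζ) (θ w) = matQ (minusMat k 1 ζ') w := by
    intro w
    rw [matQ_minusMat, matQ_minusMat, hθ, ellθ_inr_zero, ellθ_inr_one]
    simp only [ellθ_inl]
    linear_combination (w (Sum.inr 0) * w (Sum.inr 1)) * h1 + (w (Sum.inr 1)) ^ 2 * h2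
  refine ⟨Module.Basis.ofEquivFun (b.equivFun.trans θ.symm), ?_⟩
  intro x
  rw [Module.Basis.equivFun_ofEquivFun, LinearEquiv.trans_apply, ← hkey,
    LinearEquiv.apply_symm_apply, hb]

theorem equiv_of_hypData {V' : Type*} [AddCommGroup V'] [Module F V'] {Q : QuadraticForm F V}
    {Q' : QuadraticForm F V'} {m : ℕ} (h : HypData Q m) (h' : HypData Q' m) :
    ∃ e : V ≃ₗ[F] V', ∀ x, Q' (e x) = Q x := by
  obtain ⟨b, hb⟩ := h
  obtain ⟨b', hb'⟩ := h'
  refine ⟨b.equivFun.trans b'.equivFun.symm, ?_⟩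
  intro x
  rw [hb', hb, LinearEquiv.trans_apply, LinearEquiv.apply_symm_apply]

theorem equiv_of_ellData {V' : Type*} [AddCommGroup V'] [Module F V'] {Q : QuadraticForm F V}
    {Q' : QuadraticForm F V'} {k : ℕ} {ζ : F} (h : EllData Q k ζ) (h' : EllData Q' k ζ) :
    ∃ e : V ≃ₗ[F] V', ∀ x, Q' (e x) = Q x := by
  obtain ⟨b, hb⟩ := h
  obtain ⟨b', hb'⟩ := h'
  refine ⟨b.equivFun.trans b'.equivFun.symm, ?_⟩
  intro x
  rw [hb', hb, LinearEquiv.trans_apply, LinearEquiv.apply_symm_apply]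

theorem isHyp_of_finrank_zero (Q : QuadraticForm F V) (h : finrank F V = 0) : IsHyp Q := by
  refine ⟨⊥, ?_, ?_⟩
  · intro x hx
    rw [(Submodule.mem_bot F).1 hx, map_zero]
  · rw [finrank_bot, h]

/-- nondegenerate quadratic spaces over a finite field of the same even dimension and the same
type are isometric -/
theorem equiv_of_type [Fintype F] [FiniteDimensional F V] {V' : Type*} [AddCommGroup V']
    [Module F V'] [FiniteDimensional F V'] (Q : QuadraticForm F V) (Q' : QuadraticForm F V')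
    (hQ : (polarBilin Q).Nondegenerate) (hQ' : (polarBilin Q').Nondegenerate)
    (hdim : finrank F V = finrank F V') (heven : Even (finrank F V))
    (htype : IsHyp Q ↔ IsHyp Q') : ∃ e : V ≃ₗ[F] V', ∀ x, Q' (e x) = Q x := by
  obtain ⟨m, hm⟩ := heven
  rcases Nat.eq_zero_or_pos m with h0 | hpos
  · have hV0 : finrank F V = 0 := by omega
    have hV'0 : finrank F V' = 0 := by omega
    have : Subsingleton V := Module.finrank_zero_iff.1 hV0
    have : Subsingleton V' := Module.finrank_zero_iff.1 hV'0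
    refine ⟨LinearEquiv.ofFinrankEq V V' hdim, ?_⟩
    intro x
    rw [Subsingleton.elim x 0, map_zero, map_zero, map_zero]
  · have hV : finrank F V = 2 * m := by omega
    have hV' : finrank F V' = 2 * m := by omega
    rcases data_of_nondeg hpos hV Q hQ with h | ⟨ζ, hζ, h⟩
    · rcases data_of_nondeg hpos hV' Q' hQ' with h' | ⟨ζ', hζ', h'⟩
      · exact equiv_of_hypData h h'
      · exact absurd (htype.1 h.isHyp) (h'.not_isHyp hζ')
    · rcases data_of_nondeg hpos hV' Q' hQ' with h' | ⟨ζ', hζ', h'⟩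
      · exact absurd (htype.2 h'.isHyp) (h.not_isHyp hζ)
      · exact equiv_of_ellData h (h'.change hζ' hζ)

end change

section f4
variable {F : Type*} [Field F]

/-- the coordinates `(x, 0, p)` -/
noncomputable def jEll (k : ℕ) :
    ((Fin k → F) × (Fin 2 → F)) →ₗ[F] ((Fin k ⊕ Fin k) ⊕ Fin 2 → F) :=
  (extL (Fin k ⊕ Fin k) (Fin 2) ∘ₗ extL (Fin k) (Fin k)).coprod (extR (Fin k ⊕ Fin k) (Fin 2))

theorem jEll_inl_inl (k : ℕ) (x : Fin k → F) (p : Fin 2 → F) (i : Fin k) :
    jEll k (x, p) (Sum.inl (Sum.inl i)) = x i := by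
  unfold jEll
  rw [LinearMap.coprod_apply, Pi.add_apply, LinearMap.comp_apply, extL_inl, extL_inl, extR_inl,
    add_zero]

theorem jEll_inl_inr (k : ℕ) (x : Fin k → F) (p : Fin 2 → F) (i : Fin k) :
    jEll k (x, p) (Sum.inl (Sum.inr i)) = 0 := by
  unfold jEll
  rw [LinearMap.coprod_apply, Pi.add_apply, LinearMap.comp_apply, extL_inl, extL_inr, extR_inl,
    add_zero]

theorem jEll_inr (k : ℕ) (x : Fin k → F) (p : Fin 2 → F) (j : Fin 2) :
    jEll k (x, p) (Sum.inr j) = p j := by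
  unfold jEll
  rw [LinearMap.coprod_apply, Pi.add_apply, LinearMap.comp_apply, extL_inr, extR_inr, zero_add]

theorem matQ_jEll (k : ℕ) (a c : F) (x : Fin k → F) (p : Fin 2 → F) :
    matQ (minusMat k a c) (jEll k (x, p)) = p 0 ^ 2 + a * p 0 * p 1 + c * p 1 ^ 2 := by
  rw [matQ_minusMat]
  simp only [jEll_inl_inl, jEll_inl_inr, jEll_inr, mul_zero, Finset.sum_const_zero, zero_add]

theorem jEll_eq_zero (k : ℕ) (x : Fin k → F) (p : Fin 2 → F) (h : jEll k (x, p) = 0) :
    x = 0 ∧ p = 0 := by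
  constructor
  · funext i
    have := congrFun h (Sum.inl (Sum.inl i))
    rwa [jEll_inl_inl] at this
  · funext j
    have := congrFun h (Sum.inr j)
    rwa [jEll_inr] at this

variable {V V' : Type*} [AddCommGroup V] [Module F V] [AddCommGroup V'] [Module F V']

theorem nondeg_neg (Q : QuadraticForm F V) (hQ : (polarBilin Q).Nondegenerate) :
    (polarBilin (-Q)).Nondegenerate := by
  apply nondeg_of_polar
  intro x hx
  apply hQ.1
  intro y
  have := hx y
  rw [QuadraticMap.coeFn_neg, polar_neg, neg_eq_zero] at this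
  exact this

theorem isHyp_neg_iff (Q : QuadraticForm F V) : IsHyp (-Q) ↔ IsHyp Q := by
  constructor
  · rintro ⟨L, hL, hd⟩
    refine ⟨L, fun x hx => ?_, hd⟩
    have := hL x hx
    rwa [QuadraticMap.neg_apply, neg_eq_zero] at this
  · rintro ⟨L, hL, hd⟩
    refine ⟨L, fun x hx => ?_, hd⟩
    rw [QuadraticMap.neg_apply, hL x hx, neg_zero]

/-- the orthogonal sum of two non-hyperbolic spaces is hyperbolic -/
theorem isHyp_prod_of_not [Fintype F] [FiniteDimensional F V] [FiniteDimensional F V']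
    (Q : QuadraticForm F V) (Q' : QuadraticForm F V') (hQ : (polarBilin Q).Nondegenerate)
    (hQ' : (polarBilin Q').Nondegenerate) (he : Even (finrank F V)) (he' : Even (finrank F V'))
    (h : ¬ IsHyp Q) (h' : ¬ IsHyp Q') : IsHyp (QuadraticMap.prod Q Q') := by
  obtain ⟨m, hm⟩ := he
  obtain ⟨m', hm'⟩ := he'
  have hmpos : 0 < m := by
    rcases Nat.eq_zero_or_pos m with h0 | h0
    · exact absurd (isHyp_of_finrank_zero Q (by omega)) h
    · exact h0
  have hm'pos : 0 < m' := by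
    rcases Nat.eq_zero_or_pos m' with h0 | h0
    · exact absurd (isHyp_of_finrank_zero Q' (by omega)) h'
    · exact h0
  have hV : finrank F V = 2 * m := by omega
  have hV' : finrank F V' = 2 * m' := by omega
  obtain ⟨k, hk⟩ : ∃ k, m - 1 = k := ⟨m - 1, rfl⟩
  obtain ⟨k', hk'⟩ : ∃ k', m' - 1 = k' := ⟨m' - 1, rfl⟩
  obtain ⟨ζ, hζ, hE⟩ : ∃ ζ : F, (∀ t : F, t ^ 2 + t + ζ ≠ 0) ∧ EllData Q k ζ := by
    rcases data_of_nondeg hmpos hV Q hQ with h1 | h1
    · exact absurd h1.isHyp h
    · rw [hk] at h1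
      exact h1
  have hn' : ¬ IsHyp (-Q') := fun hh => h' ((isHyp_neg_iff Q').1 hh)
  obtain ⟨ζ', hζ', hE'⟩ : ∃ ζ' : F, (∀ t : F, t ^ 2 + t + ζ' ≠ 0) ∧ EllData (-Q') k' ζ' := by
    rcases data_of_nondeg hm'pos hV' (-Q') (nondeg_neg Q' hQ') with h1 | h1
    · exact absurd h1.isHyp hn'
    · rw [hk'] at h1
      exact h1
  obtain ⟨b, hb⟩ := hE
  obtain ⟨b', hb'⟩ := hE'.change hζ' hζ
  set A : ((Fin k → F) × ((Fin k' → F) × (Fin 2 → F))) →ₗ[F] V :=
    b.equivFun.symm.toLinearMap ∘ₗ jEll k ∘ₗ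
      ((LinearMap.fst F (Fin k → F) ((Fin k' → F) × (Fin 2 → F))).prod
        ((LinearMap.snd F (Fin k' → F) (Fin 2 → F)) ∘ₗ
          (LinearMap.snd F (Fin k → F) ((Fin k' → F) × (Fin 2 → F))))) with hA
  set B : ((Fin k → F) × ((Fin k' → F) × (Fin 2 → F))) →ₗ[F] V' :=
    b'.equivFun.symm.toLinearMap ∘ₗ jEll k' ∘ₗ
      (LinearMap.snd F (Fin k → F) ((Fin k' → F) × (Fin 2 → F))) with hB
  have hAa : ∀ x y p, A (x, (y, p)) = b.equivFun.symm (jEll k (x, p)) := fun x y p => rfl
  have hBa : ∀ x y p, B (x, (y, p)) = b'.equivFun.symm (jEll k' (y, p)) := fun x y p => rfl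
  set Φ := A.prod B with hΦ
  have hΦinj : Function.Injective Φ := by
    rw [← LinearMap.ker_eq_bot, LinearMap.ker_eq_bot']
    rintro ⟨x, y, p⟩ h0
    have h1 : A (x, (y, p)) = 0 := congrArg Prod.fst h0
    have h2 : B (x, (y, p)) = 0 := congrArg Prod.snd h0
    rw [hAa, LinearEquiv.map_eq_zero_iff] at h1
    rw [hBa, LinearEquiv.map_eq_zero_iff] at h2
    obtain ⟨hx, hp⟩ := jEll_eq_zero k x p h1
    obtain ⟨hy, -⟩ := jEll_eq_zero k' y p h2
    rw [hx, hy, hp]
    rfl
  refine ⟨LinearMap.range Φ, ?_, ?_⟩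
  · rintro _ ⟨⟨x, y, p⟩, rfl⟩
    have h1 : Q (A (x, (y, p))) = p 0 ^ 2 + 1 * p 0 * p 1 + ζ * p 1 ^ 2 := by
      rw [hAa, hb, LinearEquiv.apply_symm_apply, matQ_jEll]
    have h2 : - Q' (B (x, (y, p))) = p 0 ^ 2 + 1 * p 0 * p 1 + ζ * p 1 ^ 2 := by
      rw [hBa, ← QuadraticMap.neg_apply, hb', LinearEquiv.apply_symm_apply, matQ_jEll]
    show QuadraticMap.prod Q Q' (A (x, (y, p)), B (x, (y, p))) = 0
    rw [QuadraticMap.prod_apply]
    show Q (A (x, (y, p))) + Q' (B (x, (y, p))) = 0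
    linear_combination h1 - h2
  · rw [LinearMap.finrank_range_of_inj hΦinj, Module.finrank_prod, Module.finrank_prod,
      Module.finrank_prod, Module.finrank_fintype_fun_eq_card, Module.finrank_fintype_fun_eq_card,
      Module.finrank_fintype_fun_eq_card, Fintype.card_fin, Fintype.card_fin, Fintype.card_fin]
    omega

end f4

end Cfsg.Agent.Helper13.OrthSS
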