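import Mathlib
import Cfsg.Agent.Lib.Helper13.OrthType2
import Cfsg.Agent.Lib.Helper13.OrthPrime

set_option autoImplicit false
set_option linter.unusedSectionVars false

/-!
# Realisable characteristic polynomials with the type of the quadratic space
-/

namespace Cfsg.Agent.Helper13.OrthSS

open Polynomial Module QuadraticMap Matrix Cfsg.Agent.Helper13 Cfsg.Agent.Helper13.SS
  Cfsg.Agent.Helper13.Dual Cfsg.Agent.Helper13.SympSS
open scoped Classical

universe u

section order
variable {F : Type u} [Field F] [Fintype F] {p : ℕ} [Fact p.Prime] [CharP F p] {r q : ℕ}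

theorem orderOf_dvd_of_dvd_pow_sub_one (hr : r.Prime) (hq : 1 ≤ q) {e : ℕ}
    (h : r ∣ q ^ e - 1) : orderOf (q : ZMod r) ∣ e := by
  apply orderOf_dvd_of_pow_eq_one
  have h1 : ((q ^ e - 1 : ℕ) : ZMod r) = 0 := (ZMod.natCast_eq_zero_iff _ _).2 h
  rw [Nat.cast_sub (Nat.one_le_pow _ _ hq), Nat.cast_pow, Nat.cast_one, sub_eq_zero] at h1
  exact h1

/-- `r` does not divide the order of `O⁺_{2h}(q)` when `q` has order `2h` modulo `r` -/
theorem not_dvd_card_plus (hF : Fintype.card F = q) (hr : r.Prime) (hr2 : r ≠ 2) (hrp : r ≠ p)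
    (k : ℕ) (hi : orderOf (q : ZMod r) = 2 * (k + 1)) :
    ¬ r ∣ Nat.card (Cfsg.isometryGroup F (Cfsg.quadFormPlus (k + 1) F)) := by
  have hp : p.Prime := Fact.out
  have hq1 : 1 ≤ q := by rw [← hF]; exact Fintype.card_pos
  rw [Cfsg.Agent.Helper2.Orth.card_plus_succ, hF]
  intro h
  have hrq : ¬ r ∣ q := by
    obtain ⟨n, hn, hqn⟩ := exists_card_pow (p := p) hF
    rw [hqn]
    intro h1
    exact hrp ((Nat.prime_dvd_prime_iff_eq hr hp).1 (hr.dvd_of_dvd_pow h1))
  rcases (Nat.Prime.dvd_mul hr).1 h with h1 | h1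
  · rcases (Nat.Prime.dvd_mul hr).1 h1 with h2 | h2
    · rcases (Nat.Prime.dvd_mul hr).1 h2 with h3 | h3
      · exact hr2 ((Nat.prime_dvd_prime_iff_eq hr Nat.prime_two).1 h3)
      · exact hrq (hr.dvd_of_dvd_pow h3)
    · have := orderOf_dvd_of_dvd_pow_sub_one hr hq1 h2
      rw [hi] at this
      have := Nat.le_of_dvd (by omega) this
      omega
  · rw [Prime.dvd_finset_prod_iff hr.prime] at h1
    obtain ⟨j, hj, hj2⟩ := h1
    rw [Finset.mem_range] at hj
    have := orderOf_dvd_of_dvd_pow_sub_one hr hq1 hj2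
    rw [hi] at this
    have := Nat.le_of_dvd (by omega) this
    omega

variable {V : Type u} [AddCommGroup V] [Module F V] [FiniteDimensional F V]

/-- a quadratic space of dimension the (even) order of `q` modulo `r` with a nontrivial isometry
of order `r` is not hyperbolic -/
theorem not_isHyp_of_order (hF : Fintype.card F = q) (hr : r.Prime) (hr2 : r ≠ 2) (hrp : r ≠ p)
    (Q : QuadraticForm F V) (hQ : (polarBilin Q).Nondegenerate) (A : Module.End F V)
    (hAQ : ∀ v, Q (A v) = Q v) (hAr : A ^ r = 1) (hA1 : A ≠ 1)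
    (hdim : finrank F V = orderOf (q : ZMod r)) (hev : Even (orderOf (q : ZMod r)))
    (hi0 : 0 < orderOf (q : ZMod r)) : ¬ IsHyp Q := by
  intro hh
  obtain ⟨h, hh2⟩ := hev
  obtain ⟨k, rfl⟩ : ∃ k, h = k + 1 := ⟨h - 1, by omega⟩
  have hcard : Fintype.card (Fin (k + 1) ⊕ Fin (k + 1)) = finrank F V := by
    rw [Fintype.card_sum, Fintype.card_fin, hdim, hh2]
  obtain ⟨e, he⟩ := equiv_of_type Q (matQ (plusMat (k + 1) F)) hQ
    (Cfsg.Agent.Helper2.Orth.nondeg_plus (k + 1))
    (by rw [Module.finrank_fintype_fun_eq_card, hcard])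
    (by rw [hdim]; exact ⟨k + 1, hh2⟩)
    (iff_of_true hh (isHyp_plusMat (k + 1)))
  set g : Module.End F (Fin (k + 1) ⊕ Fin (k + 1) → F) := e.conj A with hg
  have hgQ : ∀ v, matQ (plusMat (k + 1) F) (g v) = matQ (plusMat (k + 1) F) v := by
    intro v
    rw [hg, LinearEquiv.conj_apply_apply, he, hAQ, ← he, e.apply_symm_apply]
  have hgr : g ^ r = 1 := by
    have h3 : e.conj A = e.conjRingEquiv A := rfl
    rw [hg, h3, ← map_pow, hAr, map_one]
  have hg1 : g ≠ 1 := by
    intro h1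
    apply hA1
    have h3 : e.conj A = e.conjRingEquiv A := rfl
    rw [hg, h3] at h1
    have h4 : e.conjRingEquiv A = e.conjRingEquiv 1 := by rw [h1, map_one]
    exact e.conjRingEquiv.injective h4
  obtain ⟨x, hx, hxr, hLx⟩ := exists_gl_of_end (⇑(matQ (plusMat (k + 1) F))) g hgQ r
    hr.one_lt.le hgr
  rw [← Cfsg.Agent.Helper2.Orth.quadFormPlus_eq] at hx
  set y : ↥(Cfsg.isometryGroup F (Cfsg.quadFormPlus (k + 1) F)) := ⟨x, hx⟩ with hy
  have hyr : y ^ r = 1 := by
    apply Subtype.ext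
    rw [SubmonoidClass.coe_pow]
    exact hxr
  have hy1 : y ≠ 1 := by
    intro h1
    apply hg1
    have h2 : x = 1 := congrArg Subtype.val h1
    rw [← hLx, h2, LG_one]
  haveI : Fact r.Prime := ⟨hr⟩
  have hord : orderOf y = r := orderOf_eq_prime hyr hy1
  have hdvd : r ∣ Nat.card (Cfsg.isometryGroup F (Cfsg.quadFormPlus (k + 1) F)) := by
    rw [← hord]
    exact orderOf_dvd_natCard y
  exact not_dvd_card_plus hF hr hr2 hrp k (by rw [hh2]; ring) hdvd

end order

end Cfsg.Agent.Helper13.OrthSS
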