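import Mathlib
import Cfsg.Agent.Lib.Helper13.OrthType3

set_option autoImplicit false
set_option linter.unusedSectionVars false

/-!
# Realisable characteristic polynomials together with the type of the quadratic space
-/

namespace Cfsg.Agent.Helper13.OrthSS

open Polynomial Module QuadraticMap Matrix Cfsg.Agent.Helper13 Cfsg.Agent.Helper13.SS
  Cfsg.Agent.Helper13.Dual Cfsg.Agent.Helper13.SympSS
open scoped Classical

universe u

section prodtype
variable {F : Type*} [Field F] {V W : Type*} [AddCommGroup V] [Module F V] [AddCommGroup W]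
  [Module F W]

theorem isHyp_prod_comm {Q : QuadraticForm F V} {Q' : QuadraticForm F W}
    (h : IsHyp (QuadraticMap.prod Q Q')) : IsHyp (QuadraticMap.prod Q' Q) := by
  apply IsHyp.of_equiv (LinearEquiv.prodComm F V W) _ h
  rintro ⟨x, y⟩
  show QuadraticMap.prod Q' Q (y, x) = QuadraticMap.prod Q Q' (x, y)
  rw [QuadraticMap.prod_apply, QuadraticMap.prod_apply, add_comm]

/-- the type of an orthogonal sum -/
theorem isHyp_prod_iff [Fintype F] [FiniteDimensional F V] [FiniteDimensional F W]
    (Q : QuadraticForm F V) (Q' : QuadraticForm F W) (hQ : (polarBilin Q).Nondegenerate)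
    (hQ' : (polarBilin Q').Nondegenerate) (he : Even (finrank F V)) (he' : Even (finrank F W)) :
    IsHyp (QuadraticMap.prod Q Q') ↔ (IsHyp Q ↔ IsHyp Q') := by
  by_cases h : IsHyp Q
  · by_cases h' : IsHyp Q'
    · exact iff_of_true (isHyp_prod h h') (iff_of_true h h')
    · exact iff_of_false (fun hP => h' (isHyp_cancel hQ hQ' h hP)) (fun hiff => h' (hiff.1 h))
  · by_cases h' : IsHyp Q'
    · exact iff_of_false (fun hP => h (isHyp_cancel hQ' hQ h' (isHyp_prod_comm hP)))
        (fun hiff => h (hiff.2 h'))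
    · exact iff_of_true (isHyp_prod_of_not Q Q' hQ hQ' he he' h h') (iff_of_false h h')

end prodtype

section defs
variable {F : Type u} [Field F]

/-- `P` is the characteristic polynomial of an isometry of exponent `m` of an even-dimensional
quadratic space with nondegenerate polar form, which is hyperbolic iff `t` -/
def QRealT (m : ℕ) (P : F[X]) (t : Prop) : Prop :=
  ∃ (V : Type u) (_ : AddCommGroup V) (_ : Module F V) (_ : FiniteDimensional F V)
    (A : Module.End F V) (Q : QuadraticForm F V),
    A ^ m = 1 ∧ (polarBilin Q).Nondegenerate ∧ (∀ v, Q (A v) = Q v) ∧ A.charpoly = P ∧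
      Even (finrank F V) ∧ (IsHyp Q ↔ t)

theorem QRealT.congr {m : ℕ} {P : F[X]} {t t' : Prop} (h : QRealT m P t) (htt : t ↔ t') :
    QRealT m P t' := by
  obtain ⟨V, i1, i2, i3, A, Q, h1, h2, h3, h4, h5, h6⟩ := h
  exact ⟨V, i1, i2, i3, A, Q, h1, h2, h3, h4, h5, h6.trans htt⟩

theorem QRealT.qreal {m : ℕ} {P : F[X]} {t : Prop} (h : QRealT m P t) : QReal m P := by
  obtain ⟨V, i1, i2, i3, A, Q, h1, h2, h3, h4, h5, h6⟩ := h
  exact ⟨V, i1, i2, i3, A, Q, h1, h2, h3, h4⟩

theorem qrealT_one (m : ℕ) : QRealT m (1 : F[X]) True := by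
  refine ⟨PUnit, inferInstance, inferInstance, inferInstance, 0, 0, ?_, ?_, ?_, ?_, ?_, ?_⟩
  · apply LinearMap.ext
    intro x
    exact Subsingleton.elim _ _
  · apply nondeg_of_polar
    intro x _
    exact Subsingleton.elim _ _
  · intro v
    rfl
  · apply Polynomial.eq_one_of_monic_natDegree_zero (LinearMap.charpoly_monic _)
    rw [LinearMap.charpoly_natDegree]
    exact Module.finrank_zero_of_subsingleton
  · rw [Module.finrank_zero_of_subsingleton]
    exact Even.zero
  · exact iff_of_true (isHyp_of_finrank_zero _ Module.finrank_zero_of_subsingleton) trivial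

variable [Fintype F]

theorem qrealT_mul {m : ℕ} {P P' : F[X]} {t t' : Prop} (hP : QRealT m P t)
    (hP' : QRealT m P' t') : QRealT m (P * P') (t ↔ t') := by
  obtain ⟨V, _, _, _, A, Q, hAm, hQ, hAQ, hAc, hev, ht⟩ := hP
  obtain ⟨W, _, _, _, A', Q', hAm', hQ', hAQ', hAc', hev', ht'⟩ := hP'
  refine ⟨V × W, inferInstance, inferInstance, inferInstance, A.prodMap A',
    QuadraticMap.prod Q Q', ?_, nondeg_prod Q Q' hQ hQ', ?_, ?_, ?_, ?_⟩
  · rw [prodMap_pow, hAm, hAm']
    apply LinearMap.ext
    rintro ⟨x, y⟩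
    rfl
  · rintro ⟨x, y⟩
    show QuadraticMap.prod Q Q' (A x, A' y) = QuadraticMap.prod Q Q' (x, y)
    rw [QuadraticMap.prod_apply, QuadraticMap.prod_apply, hAQ, hAQ']
  · rw [LinearMap.charpoly_prodMap, hAc, hAc']
  · rw [Module.finrank_prod]
    exact hev.add hev'
  · rw [isHyp_prod_iff Q Q' hQ hQ' hev hev', ht, ht']

theorem qrealT_pow {m : ℕ} {P : F[X]} {t : Prop} (h : QRealT m P t) (k : ℕ) :
    QRealT m (P ^ k) (t ∨ Even k) := by
  induction k with
  | zero =>
    rw [pow_zero]
    exact (qrealT_one m).congr (iff_of_true trivial (Or.inr Even.zero))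
  | succ k ih =>
    rw [pow_succ]
    apply (qrealT_mul ih h).congr
    by_cases ht : t
    · exact iff_of_true (iff_of_true (Or.inl ht) ht) (Or.inl ht)
    · rw [Nat.even_add_one]
      constructor
      · intro h1
        right
        intro h2
        exact ht (h1.1 (Or.inr h2))
      · rintro (h1 | h1)
        · exact absurd h1 ht
        · exact iff_of_false (fun h2 => h2.elim ht h1) ht

theorem qrealT_prod_true {m : ℕ} {ι : Type*} (S : Finset ι) (R : ι → F[X])
    (h : ∀ a ∈ S, QRealT m (R a) True) : QRealT m (∏ a ∈ S, R a) True := by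
  induction S using Finset.induction_on with
  | empty =>
    rw [Finset.prod_empty]
    exact qrealT_one m
  | insert a S ha ih =>
    rw [Finset.prod_insert ha]
    exact (qrealT_mul (h a (Finset.mem_insert_self a S))
      (ih (fun b hb => h b (Finset.mem_insert_of_mem hb)))).congr (iff_of_true Iff.rfl trivial)

theorem qrealT_prod_even {m : ℕ} {ι : Type*} (S : Finset ι) (R : ι → F[X]) (e : ι → ℕ)
    (h : ∀ a ∈ S, QRealT m (R a) (Even (e a))) :
    QRealT m (∏ a ∈ S, R a) (Even (∑ a ∈ S, e a)) := by
  induction S using Finset.induction_on with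
  | empty =>
    rw [Finset.prod_empty, Finset.sum_empty]
    exact (qrealT_one m).congr (iff_of_true trivial Even.zero)
  | insert a S ha ih =>
    rw [Finset.prod_insert ha, Finset.sum_insert ha]
    exact (qrealT_mul (h a (Finset.mem_insert_self a S))
      (ih (fun b hb => h b (Finset.mem_insert_of_mem hb)))).congr Nat.even_add.symm

end defs

section blocks
variable {F : Type u} [Field F] {m : ℕ} {f : F[X]}

/-- the hyperbolic block of a pair of mutually dual factors -/
theorem qrealT_pair (hm : 1 ≤ m) (hf : Irreducible f) (hmon : f.Monic) (hfm : f ∣ X ^ m - 1) :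
    QRealT m (f * dualPoly m f) True := by
  haveI : Fact (Irreducible f) := ⟨hf⟩
  haveI : FiniteDimensional F (AdjoinRoot f) := (AdjoinRoot.powerBasis hf.ne_zero).finite
  set k := AdjoinRoot f with hk
  set s : k := AdjoinRoot.root f with hs
  set s' : k := s ^ (m - 1) with hs'
  have hss' : s * s' = 1 := root_mul_inv hm hfm
  have hsm : s ^ m = 1 := root_pow_eq_one hfm
  have hs'm : s' ^ m = 1 := by
    rw [hs', ← pow_mul, mul_comm, pow_mul, hsm, one_pow]
  obtain ⟨τ, hτ⟩ := Module.Projective.exists_dual_ne_zero F (one_ne_zero : (1 : k) ≠ 0)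
  set B : LinearMap.BilinForm F (k × k) :=
    LinearMap.mk₂ F (fun u v => τ (u.1 * v.2))
      (by intro a b c; simp only [Prod.fst_add, add_mul, map_add])
      (by intro c a b; simp only [Prod.smul_fst, smul_mul_assoc, map_smul])
      (by intro a b c; simp only [Prod.snd_add, mul_add, map_add])
      (by intro c a b; simp only [Prod.smul_snd, mul_smul_comm, map_smul]) with hB
  have hBa : ∀ u v : k × k, B u v = τ (u.1 * v.2) := fun u v => rfl
  set Q : QuadraticForm F (k × k) := LinearMap.BilinMap.toQuadraticMap B with hQ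
  have hQa : ∀ u : k × k, Q u = τ (u.1 * u.2) := by
    intro u
    rw [hQ, LinearMap.BilinMap.toQuadraticMap_apply, hBa]
  have hpol : ∀ u v : k × k, polar Q u v = τ (u.1 * v.2) + τ (v.1 * u.2) := by
    intro u v
    rw [hQ, LinearMap.BilinMap.polar_toQuadraticMap, hBa, hBa]
  have hτnd : ∀ x : k, (∀ y : k, τ (x * y) = 0) → x = 0 := by
    intro x hx
    by_contra hx0
    apply hτ
    have := hx x⁻¹
    rwa [mul_inv_cancel₀ hx0] at this
  refine ⟨k × k, inferInstance, inferInstance, inferInstance,
    (Algebra.lmul F k s).prodMap (Algebra.lmul F k s'), Q, ?_, ?_, ?_, ?_, ?_, ?_⟩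
  · rw [prodMap_pow, lmul_pow, lmul_pow, hsm, hs'm, map_one]
    apply LinearMap.ext
    rintro ⟨x, y⟩
    rfl
  · apply nondeg_of_polar
    rintro ⟨x, y⟩ h
    have hx : x = 0 := by
      apply hτnd
      intro y'
      have := h (0, y')
      rw [hpol] at this
      simpa using this
    have hy : y = 0 := by
      apply hτnd
      intro x'
      have := h (x', 0)
      rw [hpol] at this
      simp only [mul_zero, map_zero, zero_add] at this
      rw [mul_comm]
      exact this
    rw [hx, hy]
    rfl
  · rintro ⟨x, y⟩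
    rw [hQa, hQa]
    show τ (s * x * (s' * y)) = τ (x * y)
    have e1 : s * x * (s' * y) = x * y := by
      calc s * x * (s' * y) = (s * s') * (x * y) := by ring
        _ = x * y := by rw [hss', one_mul]
    rw [e1]
  · rw [LinearMap.charpoly_prodMap]
    have h1 : (Algebra.lmul F k s).charpoly = f := charpoly_mulRoot f hmon
    have h2 : (Algebra.lmul F k s').charpoly = dualPoly m f := by
      apply charpoly_lmul
      show finrank F (AdjoinRoot f) ≤ (dualPoly m f).natDegree
      rw [finrank_adjoinRoot, natDegree_dualPoly hm hf hmon hfm]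
    rw [h1, h2]
  · rw [Module.finrank_prod]
    exact ⟨_, rfl⟩
  · apply iff_of_true _ trivial
    refine ⟨LinearMap.range (LinearMap.inl F k k), ?_, ?_⟩
    · rintro _ ⟨x, rfl⟩
      rw [hQa]
      show τ (x * 0) = 0
      rw [mul_zero, map_zero]
    · rw [LinearMap.finrank_range_of_inj LinearMap.inl_injective, Module.finrank_prod]
      ring

end blocks

section cyc
variable {F : Type u} [Field F] [Fintype F] {p : ℕ} [Fact p.Prime] [CharP F p] {r q : ℕ}

/-- the elliptic block of a self-dual cyclotomic factor -/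
theorem qrealT_cyc (hF : Fintype.card F = q) (hr : r.Prime) (hr2 : r ≠ 2) (hrp : r ≠ p)
    (hi0 : 0 < orderOf (q : ZMod r)) (hev : Even (orderOf (q : ZMod r)))
    (a : ↥(cycFactors F r)) : QRealT r a.1 False := by
  have hr1 : 1 ≤ r := hr.one_lt.le
  obtain ⟨V, _, _, _, A, Q, hAm, hQ, hAQ, hAc⟩ := qreal_selfdual hr1 (cycFactors_irreducible a.2)
    (cycFactors_monic a.2) (cycFactors_dvd_X_pow a.2) (dualPoly_eq_self_of_even hF hr hi0 hev a.2)
    (root_pow_ne_root hr hr2 hrp a.2)
  have hfin : finrank F V = orderOf (q : ZMod r) := by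
    rw [← LinearMap.charpoly_natDegree A, hAc, cycFactors_natDegree hF hr hrp a.2]
  have hA1 : A ≠ 1 := by
    intro h
    rw [h, LinearMap.charpoly_one, hfin] at hAc
    have h1 := cycFactors_eval_one_ne_zero hr hrp a.2
    rw [← hAc] at h1
    apply h1
    rw [eval_pow, eval_sub, eval_X, eval_one, sub_self, zero_pow hi0.ne']
  refine ⟨V, inferInstance, inferInstance, inferInstance, A, Q, hAm, hQ, hAQ, hAc, ?_, ?_⟩
  · rw [hfin]
    exact hev
  · exact iff_of_false (not_isHyp_of_order hF hr hr2 hrp Q hQ A hAQ hAm hA1 hfin hev hi0) id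

/-- the product of the cyclotomic factors with self-dual multiplicities is realisable, in a space
whose type is determined by the multiplicities -/
theorem qrealT_primeProd (hF : Fintype.card F = q) (hr : r.Prime) (hr2 : r ≠ 2) (hrp : r ≠ p)
    (hi0 : 0 < orderOf (q : ZMod r)) (k : ↥(cycFactors F r) → ℕ)
    (hk : ∀ a, k (starΦ hr hr2 hrp a) = k a) :
    QRealT r (∏ a : ↥(cycFactors F r), a.1 ^ k a)
      (Odd (orderOf (q : ZMod r)) ∨ Even (∑ a, k a)) := by
  have hr1 : 1 ≤ r := hr.one_lt.le
  set i := orderOf (q : ZMod r) with hi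
  rcases Nat.even_or_odd i with hev | hodd
  · have h1 : QRealT r (∏ a : ↥(cycFactors F r), a.1 ^ k a) (Even (∑ a, k a)) := by
      apply qrealT_prod_even
      intro a _
      apply (qrealT_pow (qrealT_cyc hF hr hr2 hrp hi0 hev a) (k a)).congr
      exact ⟨fun h => h.elim False.elim id, Or.inr⟩
    apply h1.congr
    exact ⟨Or.inr, fun h => h.elim (fun h2 => absurd hev (Nat.not_even_iff_odd.2 h2)) id⟩
  · have hinv := starΦ_involutive (F := F) hr hr2 hrp
    have hfix : ∀ a, starΦ (F := F) hr hr2 hrp a ≠ a := by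
      intro a h
      exact dualPoly_ne_self_of_odd hF hr hr2 hrp hodd a.2 (congrArg Subtype.val h)
    obtain ⟨T, h1, h2⟩ := exists_half _ hinv hfix
    rw [prod_eq_prod_half _ hinv T h1 h2 (fun a => a.1 ^ k a)]
    have h3 : QRealT r (∏ a ∈ T, (a.1 ^ k a * (starΦ hr hr2 hrp a).1 ^ k (starΦ hr hr2 hrp a)))
        True := by
      apply qrealT_prod_true
      intro a _
      have e : a.1 ^ k a * (starΦ hr hr2 hrp a).1 ^ k (starΦ hr hr2 hrp a) =
          (a.1 * dualPoly r a.1) ^ k a := by
        rw [hk a, mul_pow]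
        rfl
      rw [e]
      apply (qrealT_pow (qrealT_pair hr1 (cycFactors_irreducible a.2) (cycFactors_monic a.2)
        (cycFactors_dvd_X_pow a.2)) (k a)).congr
      exact iff_of_true (Or.inl trivial) trivial
    exact h3.congr (iff_of_true trivial (Or.inl hodd))

end cyc

end Cfsg.Agent.Helper13.OrthSS
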