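import Mathlib
import Cfsg.Agent.Lib.Helper13.OrthType4

set_option autoImplicit false
set_option linter.unusedSectionVars false

/-!
# Embedding typed realisations into a given even-dimensional quadratic space, and uniqueness
-/

namespace Cfsg.Agent.Helper13.OrthSS

open Polynomial Module QuadraticMap Matrix Cfsg.Agent.Helper13 Cfsg.Agent.Helper13.SS
  Cfsg.Agent.Helper13.Dual Cfsg.Agent.Helper13.SympSS
open scoped Classical

universe u

section spaces
variable {F : Type u} [Field F] [Fintype F]

theorem exists_rootless : ∃ ζ : F, ∀ t : F, t ^ 2 + t + ζ ≠ 0 := by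
  have hninj : ¬ Function.Injective (fun t : F => t ^ 2 + t) := by
    intro h
    have h1 : (fun t : F => t ^ 2 + t) 0 = (fun t : F => t ^ 2 + t) (-1) := by
      show (0 : F) ^ 2 + 0 = (-1) ^ 2 + (-1)
      ring
    have h2 : (0 : F) = -1 := h h1
    exact one_ne_zero (neg_eq_zero.1 h2.symm)
  have hnsurj : ¬ Function.Surjective (fun t : F => t ^ 2 + t) :=
    fun h => hninj (Finite.injective_iff_surjective.2 h)
  unfold Function.Surjective at hnsurj
  push Not at hnsurj
  obtain ⟨c, hc⟩ := hnsurj
  refine ⟨-c, fun t h => hc t ?_⟩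
  show t ^ 2 + t = c
  linear_combination h

/-- quadratic spaces of every even dimension and every admissible type -/
theorem exists_space_of_type (n : ℕ) (hn : Even n) (t : Prop) (ht : n = 0 → t) :
    ∃ (U : Type u) (_ : AddCommGroup U) (_ : Module F U) (_ : FiniteDimensional F U)
      (QU : QuadraticForm F U), (polarBilin QU).Nondegenerate ∧ finrank F U = n ∧
        (IsHyp QU ↔ t) := by
  obtain ⟨h, hh⟩ := hn
  by_cases htt : t
  · refine ⟨(Fin h ⊕ Fin h → F), inferInstance, inferInstance, inferInstance,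
      matQ (plusMat h F), Cfsg.Agent.Helper2.Orth.nondeg_plus h, ?_,
      iff_of_true (isHyp_plusMat h) htt⟩
    rw [Module.finrank_fintype_fun_eq_card, Fintype.card_sum, Fintype.card_fin, hh]
  · have hpos : 1 ≤ h := by
      rcases Nat.eq_zero_or_pos h with h0 | h0
      · exact absurd (ht (by omega)) htt
      · exact h0
    obtain ⟨ζ, hζ⟩ := exists_rootless (F := F)
    refine ⟨((Fin (h - 1) ⊕ Fin (h - 1)) ⊕ Fin 2 → F), inferInstance, inferInstance, inferInstance,
      matQ (minusMat (h - 1) 1 ζ),
      Cfsg.Agent.Helper2.Orth.nondeg_minus (h - 1) 1 ζ (aniso_of_rootless ζ hζ), ?_,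
      iff_of_false (not_isHyp_minusMat (h - 1) 1 ζ (aniso_of_rootless ζ hζ)) htt⟩
    rw [Module.finrank_fintype_fun_eq_card, Fintype.card_sum, Fintype.card_sum, Fintype.card_fin,
      Fintype.card_fin, hh]
    omega

variable {ι : Type} [Fintype ι] [DecidableEq ι]

/-- a typed realisable polynomial is realised, up to a power of `X - 1`, in any nondegenerate
quadratic space of even dimension, provided the types agree when the degree is the dimension -/
theorem QRealT.exists_end {M : ℕ} {P : F[X]} {t : Prop} (hP : QRealT M P t)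
    (S : QuadraticForm F (ι → F)) (hS : (polarBilin S).Nondegenerate)
    (hev : Even (Fintype.card ι)) (hle : P.natDegree ≤ Fintype.card ι)
    (htype : P.natDegree = Fintype.card ι → (t ↔ IsHyp S)) :
    ∃ g : Module.End F (ι → F), (∀ v, S (g v) = S v) ∧ g ^ M = 1 ∧
      g.charpoly = (X - 1) ^ (Fintype.card ι - P.natDegree) * P := by
  obtain ⟨V, _, _, _, A, Q, hAM, hQ, hAQ, hAc, hVev, hQt⟩ := hP
  have hw : finrank F V = P.natDegree := by
    rw [← hAc, LinearMap.charpoly_natDegree]
  have hPev : Even P.natDegree := hw ▸ hVev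
  have huev : Even (Fintype.card ι - P.natDegree) := by
    rw [Nat.even_sub hle]
    exact iff_of_true hev hPev
  obtain ⟨U, _, _, _, QU, hQU, hUfin, hUt⟩ := exists_space_of_type (F := F)
    (Fintype.card ι - P.natDegree) huev (t ↔ IsHyp S) (fun h0 => htype (by omega))
  set QP : QuadraticForm F (V × U) := QuadraticMap.prod Q QU with hQP
  have hQPnd : (polarBilin QP).Nondegenerate := nondeg_prod Q QU hQ hQU
  have hdim : finrank F (V × U) = finrank F (ι → F) := by
    rw [Module.finrank_prod, Module.finrank_fintype_fun_eq_card, hw, hUfin]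
    omega
  have htyp : IsHyp QP ↔ IsHyp S := by
    rw [hQP, isHyp_prod_iff Q QU hQ hQU hVev (hUfin ▸ huev), hQt, hUt]
    by_cases h1 : t <;> by_cases h2 : IsHyp S <;> simp [h1, h2]
  obtain ⟨e, he⟩ := equiv_of_type QP S hQPnd hS hdim
    (by rw [hdim, Module.finrank_fintype_fun_eq_card]; exact hev) htyp
  set f : Module.End F (V × U) := A.prodMap LinearMap.id with hf
  refine ⟨e.conj f, ?_, ?_, ?_⟩
  · intro v
    rw [LinearEquiv.conj_apply_apply, he, hf]
    have h3 : S v = QP (e.symm v) := by
      rw [← he, e.apply_symm_apply]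
    rw [h3]
    show QP (A (e.symm v).1, (e.symm v).2) = QP (e.symm v)
    rw [hQP, QuadraticMap.prod_apply, QuadraticMap.prod_apply, hAQ]
  · have h3 : e.conj f = e.conjRingEquiv f := rfl
    rw [h3, ← map_pow, hf]
    have h4 : (A.prodMap (LinearMap.id : U →ₗ[F] U)) ^ M = 1 := by
      have h5 : (LinearMap.id : U →ₗ[F] U) = 1 := rfl
      rw [h5, Cfsg.Agent.Helper13.SympSS.prodMap_pow, hAM, one_pow]
      apply LinearMap.ext
      rintro ⟨x, y⟩
      rfl
    rw [h4, map_one]
  · rw [LinearEquiv.charpoly_conj, hf, LinearMap.charpoly_prodMap, hAc]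
    have h5 : (LinearMap.id : U →ₗ[F] U) = 1 := rfl
    rw [h5, LinearMap.charpoly_one, hUfin, mul_comm]

end spaces

section unique
variable {F : Type u} [Field F] [Fintype F] {V V' : Type u} [AddCommGroup V] [Module F V]
  [FiniteDimensional F V] [AddCommGroup V'] [Module F V'] [FiniteDimensional F V']

/-- quadratic spaces carrying semisimple isometries of odd order without fixed vectors and with
the same characteristic polynomial are isometric -/
theorem exists_isometry_of_charpoly (Q : QuadraticForm F V) (Q' : QuadraticForm F V')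
    (hQ : (polarBilin Q).Nondegenerate) (hQ' : (polarBilin Q').Nondegenerate)
    (a : Module.End F V) (a' : Module.End F V') (haQ : ∀ v, Q (a v) = Q v)
    (ha'Q : ∀ v, Q' (a' v) = Q' v) {M : ℕ} (hM : 1 ≤ M) (hodd : Odd M) (hMF : (M : F) ≠ 0)
    (haM : a ^ M = 1) (ha'M : a' ^ M = 1) (hc : a.charpoly = a'.charpoly)
    (h1 : a.charpoly.eval 1 ≠ 0) : ∃ e : V' ≃ₗ[F] V, ∀ x, Q (e x) = Q' x := by
  have hfin : finrank F V = finrank F V' := by
    rw [← LinearMap.charpoly_natDegree a, ← LinearMap.charpoly_natDegree a', hc]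
  set QW : QuadraticForm F (V × V') := QuadraticMap.prod Q Q' with hQW
  have hQWnd : (polarBilin QW).Nondegenerate := nondeg_prod Q Q' hQ hQ'
  set α : Module.End F (V × V') := a.prodMap (1 : Module.End F V') with hα
  set β : Module.End F (V × V') := (1 : Module.End F V).prodMap a' with hβ
  have h11 : ((1 : Module.End F V).prodMap (1 : Module.End F V')) = 1 := by
    apply LinearMap.ext
    rintro ⟨x, y⟩
    rfl
  have hαM : α ^ M = 1 := by
    rw [hα, Cfsg.Agent.Helper13.SympSS.prodMap_pow, haM, one_pow, h11]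
  have hβM : β ^ M = 1 := by
    rw [hβ, Cfsg.Agent.Helper13.SympSS.prodMap_pow, ha'M, one_pow, h11]
  have hαQ : ∀ v, QW (α v) = QW v := by
    rintro ⟨x, y⟩
    show QuadraticMap.prod Q Q' (a x, y) = QuadraticMap.prod Q Q' (x, y)
    rw [QuadraticMap.prod_apply, QuadraticMap.prod_apply, haQ]
  have hβQ : ∀ v, QW (β v) = QW v := by
    rintro ⟨x, y⟩
    show QuadraticMap.prod Q Q' (x, a' y) = QuadraticMap.prod Q Q' (x, y)
    rw [QuadraticMap.prod_apply, QuadraticMap.prod_apply, ha'Q]
  have hcc : α.charpoly = β.charpoly := by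
    rw [hα, hβ, LinearMap.charpoly_prodMap, LinearMap.charpoly_prodMap, LinearMap.charpoly_one,
      LinearMap.charpoly_one, hfin, hc, mul_comm]
  set S := irrFactors (X ^ M - 1 : F[X]) with hS
  have hprod : ∏ f ∈ S, f = X ^ M - 1 := sepFactors_prod hMF
  have hkα : aeval α (∏ f ∈ S, f) = 0 := by
    rw [hprod, map_sub, map_pow, aeval_X, map_one, hαM, sub_self]
  have hkβ : aeval β (∏ f ∈ S, f) = 0 := by
    rw [hprod, map_sub, map_pow, aeval_X, map_one, hβM, sub_self]
  have hirr : ∀ f ∈ S, Irreducible f := fun f hf => irrFactors_irreducible hf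
  have hmon : ∀ f ∈ S, f.Monic := fun f hf => irrFactors_monic hf
  obtain ⟨T, hT⟩ := exists_equiv_of_charpoly_eq S hirr hmon α β hkα hkβ hcc
  obtain ⟨g, hgQ, hgc⟩ := exists_isometry_intertwiner QW hQWnd α β hαQ hβQ hM hodd hMF hαM T hT
  -- `a'` has no fixed vectors
  have hnofix : ∀ y : V', a' y = y → y = 0 := by
    intro y hy
    by_contra hy0
    apply h1
    rw [hc]
    have h2 : a'.HasEigenvalue 1 := by
      apply Module.End.hasEigenvalue_of_hasEigenvector (x := y)
      refine ⟨?_, hy0⟩
      rw [Module.End.mem_eigenspace_iff, one_smul]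
      exact hy
    exact (Module.End.hasEigenvalue_iff_isRoot_charpoly a' 1).1 h2
  have hsnd : ∀ v' : V', (g (0, v')).2 = 0 := by
    intro v'
    apply hnofix
    have h2 := hgc (0, v')
    have h3 : α (0, v') = (0, v') := by
      show (a 0, v') = (0, v')
      rw [map_zero]
    rw [h3] at h2
    have h4 : β (g (0, v')) = ((g (0, v')).1, a' (g (0, v')).2) := rfl
    rw [h4] at h2
    exact (congrArg Prod.snd h2).symm
  set φ : V' →ₗ[F] V := (LinearMap.fst F V V') ∘ₗ g.toLinearMap ∘ₗ (LinearMap.inr F V V') with hφ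
  have hφa : ∀ v', φ v' = (g (0, v')).1 := fun v' => rfl
  have hgφ : ∀ v', g (0, v') = (φ v', 0) := by
    intro v'
    apply Prod.ext
    · rfl
    · exact hsnd v'
  have hφinj : Function.Injective φ := by
    rw [← LinearMap.ker_eq_bot, LinearMap.ker_eq_bot']
    intro v' h0
    have h2 := hgφ v'
    rw [h0] at h2
    have h3 : g (0, v') = 0 := h2
    rw [LinearEquiv.map_eq_zero_iff] at h3
    exact congrArg Prod.snd h3
  refine ⟨φ.linearEquivOfInjective hφinj hfin.symm, ?_⟩
  intro x
  rw [LinearMap.linearEquivOfInjective_apply]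
  have h2 := hgQ (0, x)
  rw [hgφ, hQW, QuadraticMap.prod_apply, QuadraticMap.prod_apply, map_zero, map_zero, add_zero,
    zero_add] at h2
  exact h2

end unique

end Cfsg.Agent.Helper13.OrthSS
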