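import Mathlib
import Cfsg.Agent.Lib.Helper13.OrthType5

set_option autoImplicit false
set_option linter.unusedSectionVars false

/-!
# Classes of elements with `g ^ r = 1` in even-dimensional orthogonal groups over finite fields
-/

namespace Cfsg.Agent.Helper13.OrthSS

open Polynomial Module QuadraticMap Matrix Cfsg.Agent.Helper13 Cfsg.Agent.Helper13.SS
  Cfsg.Agent.Helper13.Dual Cfsg.Agent.Helper13.SympSS
open scoped Classical

universe u

section main
variable {F : Type u} [Field F] [Fintype F] {p q : ℕ} [Fact p.Prime] [CharP F p] {r : ℕ}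
  {ι : Type} [Fintype ι] [DecidableEq ι]

theorem eval_one_primeProd_ne_zero (hr : r.Prime) (hrp : r ≠ p) (k : ↥(cycFactors F r) → ℕ) :
    (∏ a : ↥(cycFactors F r), a.1 ^ k a).eval 1 ≠ 0 := by
  rw [eval_prod]
  apply Finset.prod_ne_zero_iff.2
  intro a _
  rw [eval_pow]
  exact pow_ne_zero _ (cycFactors_eval_one_ne_zero hr hrp a.2)

theorem exists_rep_even (hF : Fintype.card F = q) (hr : r.Prime) (hr2 : r ≠ 2)
    (hrp : r ≠ p) (hi0 : 0 < orderOf (q : ZMod r)) (Q : QuadraticForm F (ι → F))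
    (hQ : (QuadraticMap.polarBilin Q).Nondegenerate) (hev : Even (Fintype.card ι))
    (k : {k : ↥(cycFactors F r) → ℕ // (∀ a, k (starΦ hr hr2 hrp a) = k a) ∧
      orderOf (q : ZMod r) * ∑ a, k a ≤ Fintype.card ι ∧
      (orderOf (q : ZMod r) * ∑ a, k a = Fintype.card ι →
        ((Odd (orderOf (q : ZMod r)) ∨ Even (∑ a, k a)) ↔ IsHyp Q))}) :
    ∃ g : ↥(Cfsg.isometryGroup F ⇑Q), g ^ r = 1 ∧
      ((g : GL ι F) : Matrix ι ι F).charpoly =
        primePolyN r (Fintype.card ι) (orderOf (q : ZMod r)) k.1 := by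
  have hreal := qrealT_primeProd hF hr hr2 hrp hi0 k.1 k.2.1
  have hdeg := natDegree_primeProd hF hr hrp k.1
  obtain ⟨g, hgQ, hgr, hgc⟩ := hreal.exists_end Q hQ hev (by rw [hdeg]; exact k.2.2.1)
    (by rw [hdeg]; exact k.2.2.2)
  obtain ⟨x, hx, hxr, hLx⟩ := exists_gl_of_end (⇑Q) g hgQ r hr.one_lt.le hgr
  refine ⟨⟨x, hx⟩, ?_, ?_⟩
  · apply Subtype.ext
    rw [SubmonoidClass.coe_pow]
    exact hxr
  · show (x : Matrix ι ι F).charpoly = _
    rw [← LG_charpoly, hLx, hgc, hdeg]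
    rfl

/-- the number of classes of elements with `g ^ r = 1` -/
theorem card_classes_pow_eq_one_even (hF : Fintype.card F = q) (hr : r.Prime)
    (hr2 : r ≠ 2) (hrp : r ≠ p) (hi0 : 0 < orderOf (q : ZMod r)) (Q : QuadraticForm F (ι → F))
    (hQ : (QuadraticMap.polarBilin Q).Nondegenerate) (hev : Even (Fintype.card ι)) :
    Nat.card {C : ConjClasses ↥(Cfsg.isometryGroup F ⇑Q) //
      ∃ g : ↥(Cfsg.isometryGroup F ⇑Q), ConjClasses.mk g = C ∧ g ^ r = 1} =
    Nat.card {k : ↥(cycFactors F r) → ℕ // (∀ a, k (starΦ hr hr2 hrp a) = k a) ∧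
      orderOf (q : ZMod r) * ∑ a, k a ≤ Fintype.card ι ∧
      (orderOf (q : ZMod r) * ∑ a, k a = Fintype.card ι →
        ((Odd (orderOf (q : ZMod r)) ∨ Even (∑ a, k a)) ↔ IsHyp Q))} := by
  have hp : p.Prime := Fact.out
  have hrF : (r : F) ≠ 0 := cast_ne_zero_of_prime_ne hr hrp
  have hrodd : Odd r := hr.odd_of_ne_two hr2
  symm
  let Θ : {k : ↥(cycFactors F r) → ℕ // (∀ a, k (starΦ hr hr2 hrp a) = k a) ∧
      orderOf (q : ZMod r) * ∑ a, k a ≤ Fintype.card ι ∧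
      (orderOf (q : ZMod r) * ∑ a, k a = Fintype.card ι →
        ((Odd (orderOf (q : ZMod r)) ∨ Even (∑ a, k a)) ↔ IsHyp Q))} →
      {C : ConjClasses ↥(Cfsg.isometryGroup F ⇑Q) //
        ∃ g : ↥(Cfsg.isometryGroup F ⇑Q), ConjClasses.mk g = C ∧ g ^ r = 1} :=
    fun k => ⟨ConjClasses.mk (exists_rep_even hF hr hr2 hrp hi0 Q hQ hev k).choose,
      (exists_rep_even hF hr hr2 hrp hi0 Q hQ hev k).choose, rfl,
      (exists_rep_even hF hr hr2 hrp hi0 Q hQ hev k).choose_spec.1⟩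
  apply Nat.card_eq_of_bijective Θ
  constructor
  · intro k k' h
    have h2' : ConjClasses.mk (exists_rep_even hF hr hr2 hrp hi0 Q hQ hev k).choose =
        ConjClasses.mk (exists_rep_even hF hr hr2 hrp hi0 Q hQ hev k').choose :=
      congrArg Subtype.val h
    rw [ConjClasses.mk_eq_mk_iff_isConj] at h2'
    have h3 := orth_charpoly_eq_of_isConj (⇑Q) h2'
    rw [(exists_rep_even hF hr hr2 hrp hi0 Q hQ hev k).choose_spec.2,
      (exists_rep_even hF hr hr2 hrp hi0 Q hQ hev k').choose_spec.2] at h3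
    exact Subtype.ext (primePolyN_injective hr hrp _ _ _ _ h3)
  · rintro ⟨C, g, rfl, hg⟩
    have hg' : (g : GL ι F) ^ r = 1 := by
      rw [← SubmonoidClass.coe_pow, hg]
      rfl
    have hgQ : ∀ v, Q (LG (g : GL ι F) v) = Q v := fun v => by
      rw [LG_apply]
      exact g.2 v v
    obtain ⟨k, hk1, hk2, hk3⟩ := orth_charpoly_eq_primePolyN hF hr hr2 hrp Q hQ (g : GL ι F)
      hgQ hg'
    have hk4 : orderOf (q : ZMod r) * ∑ a, k a = Fintype.card ι →
        ((Odd (orderOf (q : ZMod r)) ∨ Even (∑ a, k a)) ↔ IsHyp Q) := by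
      intro heq
      obtain ⟨V, _, _, _, A, Q', hAm, hQ', hAQ', hAc, -, hQt⟩ :=
        qrealT_primeProd hF hr hr2 hrp hi0 k hk1
      have hcg : (LG (g : GL ι F)).charpoly = ∏ a : ↥(cycFactors F r), a.1 ^ k a := by
        rw [LG_charpoly, hk3]
        unfold primePolyN
        rw [heq, Nat.sub_self, pow_zero, one_mul]
      have hgr : (LG (g : GL ι F)) ^ r = 1 := by
        rw [← LG_pow, hg', LG_one]
      obtain ⟨e, he⟩ := exists_isometry_of_charpoly Q Q' hQ hQ' (LG (g : GL ι F)) A hgQ hAQ'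
        hr.one_lt.le hrodd hrF hgr hAm (by rw [hcg, hAc])
        (by rw [hcg]; exact eval_one_primeProd_ne_zero hr hrp k)
      rw [← hQt]
      exact isHyp_iff_of_equiv e he
    refine ⟨⟨k, hk1, hk2, hk4⟩, ?_⟩
    apply Subtype.ext
    show ConjClasses.mk (exists_rep_even hF hr hr2 hrp hi0 Q hQ hev ⟨k, hk1, hk2, hk4⟩).choose =
      ConjClasses.mk g
    rw [ConjClasses.mk_eq_mk_iff_isConj]
    apply orth_isConj_of_charpoly Q hQ _ g hr.one_lt.le hrodd hrF
      (exists_rep_even hF hr hr2 hrp hi0 Q hQ hev ⟨k, hk1, hk2, hk4⟩).choose_spec.1 hg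
    rw [(exists_rep_even hF hr hr2 hrp hi0 Q hQ hev ⟨k, hk1, hk2, hk4⟩).choose_spec.2, hk3]

end main

end Cfsg.Agent.Helper13.OrthSS
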