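import Mathlib
import Cfsg.Agent.Lib.Helper13.OrthType6
import Cfsg.Agent.Lib.Helper17.OmegaElts

set_option autoImplicit false
set_option linter.unusedSectionVars false

/-!
# Tools for fixed 1-spaces of elements of prime order in orthogonal groups
-/

namespace Cfsg.Agent.Helper13.OrthEl

open Polynomial Module QuadraticMap Matrix Cfsg.Agent.Helper13 Cfsg.Agent.Helper13.SS
  Cfsg.Agent.Helper13.SympSS Cfsg.Agent.Helper13.OrthSS
open scoped Classical

section lines
variable {F V : Type*} [Field F] [Fintype F] [AddCommGroup V] [Module F V]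

/-- counting lines through vectors with a scaling-invariant property -/
theorem card_lines_mul [Finite V] (P : V → Prop) (hP : ∀ c : F, c ≠ 0 → ∀ v, P v → P (c • v))
    (hP0 : ¬ P 0) :
    Nat.card {W : Submodule F V // finrank F W = 1 ∧ ∃ v ∈ W, P v} * (Fintype.card F - 1) =
      Nat.card {v : V // P v} := by
  haveI : Fintype {W : Submodule F V // finrank F W = 1 ∧ ∃ v ∈ W, P v} := Fintype.ofFinite _
  have hne : ∀ v : {v : V // P v}, v.1 ≠ 0 := fun v h => hP0 (h ▸ v.2)
  let f : {v : V // P v} → {W : Submodule F V // finrank F W = 1 ∧ ∃ v ∈ W, P v} :=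
    fun v => ⟨F ∙ v.1, finrank_span_singleton (hne v), v.1,
      Submodule.mem_span_singleton_self _, v.2⟩
  have hfib : ∀ W : {W : Submodule F V // finrank F W = 1 ∧ ∃ v ∈ W, P v},
      Nat.card {v // f v = W} = Fintype.card F - 1 := by
    rintro ⟨W, hW1, v0, hv0W, hPv0⟩
    have hv00 : v0 ≠ 0 := fun h => hP0 (h ▸ hPv0)
    have hgen := (finrank_eq_one_iff_of_nonzero' (⟨v0, hv0W⟩ : ↥W)
      (fun h => hv00 (congrArg Subtype.val h))).1 hW1
    have hspan : F ∙ v0 = W := by
      apply le_antisymm
      · rw [Submodule.span_singleton_le_iff_mem]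
        exact hv0W
      · intro w hw
        obtain ⟨c, hc⟩ := hgen ⟨w, hw⟩
        rw [Submodule.mem_span_singleton]
        exact ⟨c, congrArg Subtype.val hc⟩
    rw [← Fintype.card_units, ← Nat.card_eq_fintype_card, Nat.card_congr unitsEquivNeZero]
    symm
    let g : {c : F // c ≠ 0} → {v // f v = ⟨W, hW1, v0, hv0W, hPv0⟩} :=
      fun c => ⟨⟨c.1 • v0, hP c.1 c.2 v0 hPv0⟩, by
        apply Subtype.ext
        show F ∙ (c.1 • v0) = W
        rw [Submodule.span_singleton_smul_eq (IsUnit.mk0 c.1 c.2), hspan]⟩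
    apply Nat.card_eq_of_bijective g
    constructor
    · intro c c' h
      have h1 : c.1 • v0 = c'.1 • v0 := congrArg (fun v => v.1.1) h
      apply Subtype.ext
      exact smul_left_injective F hv00 h1
    · rintro ⟨⟨v, hv⟩, hfv⟩
      have h1 : F ∙ v = W := congrArg Subtype.val hfv
      have h2 : v ∈ F ∙ v0 := by
        rw [hspan, ← h1]
        exact Submodule.mem_span_singleton_self v
      obtain ⟨c, hc⟩ := Submodule.mem_span_singleton.1 h2
      have hc0 : c ≠ 0 := by
        rintro rfl
        rw [zero_smul] at hc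
        exact hP0 (hc ▸ hv)
      refine ⟨⟨c, hc0⟩, ?_⟩
      apply Subtype.ext
      apply Subtype.ext
      exact hc
  rw [← Nat.card_congr (Equiv.sigmaFiberEquiv f), Nat.card_sigma,
    Finset.sum_congr rfl (fun W _ => hfib W), Finset.sum_const, Finset.card_univ, smul_eq_mul,
    Nat.card_eq_fintype_card]

end lines

section nil
variable {F V : Type*} [Field F] [AddCommGroup V] [Module F V] [FiniteDimensional F V]

omit [FiniteDimensional F V] in
theorem exists_le_finrank_eq (L : Submodule F V) (n : ℕ) (hn : n ≤ finrank F L) :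
    ∃ L' : Submodule F V, L' ≤ L ∧ finrank F L' = n := by
  obtain ⟨f, hf⟩ := exists_linearIndependent_of_le_finrank (R := F) (M := L) hn
  have hf' : LinearIndependent F (fun i => ((f i : L) : V)) :=
    hf.map' L.subtype L.ker_subtype
  refine ⟨Submodule.span F (Set.range (fun i => ((f i : L) : V))), ?_, ?_⟩
  · rw [Submodule.span_le]
    rintro _ ⟨i, rfl⟩
    exact (f i).2
  · rw [finrank_span_eq_card hf', Fintype.card_fin]

/-- a square-zero endomorphism has a large kernel -/
theorem finrank_le_two_mul_ker (N : Module.End F V) (hN : N * N = 0) :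
    finrank F V ≤ 2 * finrank F (LinearMap.ker N) := by
  have h1 : LinearMap.range N ≤ LinearMap.ker N := by
    rintro _ ⟨x, rfl⟩
    rw [LinearMap.mem_ker, ← Module.End.mul_apply, hN]
    rfl
  have h2 := LinearMap.finrank_range_add_finrank_ker N
  have h3 := Submodule.finrank_mono h1
  omega

/-- in a space which is not hyperbolic, a square-zero endomorphism kills a nonsingular vector -/
theorem exists_nonsingular_mem_ker (Q : QuadraticForm F V) (hev : Even (finrank F V))
    (hnh : ¬ IsHyp Q) (N : Module.End F V) (hN : N * N = 0) :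
    ∃ v ∈ LinearMap.ker N, Q v ≠ 0 := by
  by_contra hcon
  push Not at hcon
  apply hnh
  obtain ⟨h, hh⟩ := hev
  have h1 := finrank_le_two_mul_ker N hN
  obtain ⟨L', hL', hf⟩ := exists_le_finrank_eq (LinearMap.ker N) h (by omega)
  exact ⟨L', fun x hx => hcon x (hL' hx), by omega⟩

end nil

end Cfsg.Agent.Helper13.OrthEl
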