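import Mathlib
import Cfsg.Agent.Lib.Helper13.OrthElusive1

set_option autoImplicit false
set_option linter.unusedSectionVars false

/-!
# Semisimple elements of odd prime order in `Ω` without fixed vectors
-/

namespace Cfsg.Agent.Helper13.OrthEl

open Polynomial Module QuadraticMap Matrix Cfsg.Agent.Helper13 Cfsg.Agent.Helper13.SS
  Cfsg.Agent.Helper13.SympSS Cfsg.Agent.Helper13.OrthSS Cfsg.Agent.Helper17.Spinor
  Cfsg.Agent.Helper17.OmegaElts
open scoped Classical

universe u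

section omega
variable {ι : Type} [Fintype ι] [DecidableEq ι] {F : Type*} [Field F] [Fintype F]
  (Q : QuadraticForm F (ι → F))

/-- elements of odd order lie in `Ω` -/
theorem mem_Omega_of_pow_odd (hQ : (polarBilin Q).Nondegenerate)
    (hex : Fintype.card F ≠ 2 ∨ Fintype.card ι ≠ 4) (g : ↥(Cfsg.isometryGroup F (⇑Q))) {r : ℕ}
    (hr : Odd r) (hg : g ^ r = 1) : g ∈ Cfsg.Omega F (⇑Q) := by
  obtain ⟨k, hk⟩ := hr
  have h1 : g = g ^ (k + 1) * g ^ (k + 1) := by
    rw [← pow_add]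
    have : k + 1 + (k + 1) = r + 1 := by omega
    rw [this, pow_succ, hg, one_mul]
  obtain ⟨vs, hvs, hh⟩ := exists_prod_tG Q hQ hex (g ^ (k + 1))
  have h2 : g = ((vs ++ vs).map (tG Q)).prod := by
    rw [List.map_append, List.prod_append, ← hh]
    exact h1
  rw [h2, prod_tG_mem_Omega_iff_all Q hQ hex (vs ++ vs)
    (fun v hv => (List.mem_append.1 hv).elim (hvs v) (hvs v))]
  refine ⟨?_, ?_⟩
  · rw [List.length_append]
    exact ⟨_, rfl⟩
  · rw [List.map_append, List.prod_append]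
    exact ⟨_, rfl⟩

theorem exists_nonsingular (hQ : (polarBilin Q).Nondegenerate) (hι : 0 < Fintype.card ι) :
    ∃ v : ι → F, Q v ≠ 0 := by
  by_contra hcon
  push Not at hcon
  obtain ⟨i⟩ := Fintype.card_pos_iff.1 hι
  have h1 : (Pi.single i (1 : F) : ι → F) = 0 := by
    apply hQ.1
    intro y
    show polar Q _ y = 0
    unfold polar
    rw [hcon, hcon, hcon]
    ring
  have h2 := congrFun h1 i
  rw [Pi.single_eq_same] at h2
  exact one_ne_zero h2

end omega

section bad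
variable {F : Type u} [Field F] [Fintype F] {p q : ℕ} [Fact p.Prime] [CharP F p] {r : ℕ}
  {ι : Type} [Fintype ι] [DecidableEq ι]

/-- an element of odd prime order of `Ω` all of whose invariant lines are singular -/
theorem exists_bad_element (hF : Fintype.card F = q) (hr : r.Prime) (hr2 : r ≠ 2)
    (hrp : r ≠ p) (hi0 : 0 < orderOf (q : ZMod r)) (Q : QuadraticForm F (ι → F))
    (hQ : (QuadraticMap.polarBilin Q).Nondegenerate) (hev : Even (Fintype.card ι))
    (hex : Fintype.card F ≠ 2 ∨ Fintype.card ι ≠ 4) (hι : 0 < Fintype.card ι)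
    (k : ↥(cycFactors F r) → ℕ) (hk1 : ∀ a, k (starΦ hr hr2 hrp a) = k a)
    (hk2 : orderOf (q : ZMod r) * ∑ a, k a = Fintype.card ι)
    (hk3 : (Odd (orderOf (q : ZMod r)) ∨ Even (∑ a, k a)) ↔ IsHyp Q) :
    ∃ x : GL ι F, x ∈ Cfsg.Geo.omegaGL (⇑Q) ∧ x ^ r = 1 ∧
      (∀ z : F, (x : Matrix ι ι F) ≠ z • (1 : Matrix ι ι F)) ∧
      ∀ W : Submodule F (ι → F), finrank F W = 1 →
        W.map (Matrix.toLin' (x : Matrix ι ι F)) ≤ W → ∀ v ∈ W, Q v = 0 := by
  have hrodd : Odd r := hr.odd_of_ne_two hr2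
  obtain ⟨g, hgr, hgc⟩ := exists_rep_even hF hr hr2 hrp hi0 Q hQ hev
    ⟨k, hk1, hk2.le, fun _ => hk3⟩
  have hgΩ := mem_Omega_of_pow_odd Q hQ hex g hrodd hgr
  have hcp : ((g : GL ι F) : Matrix ι ι F).charpoly = ∏ a : ↥(cycFactors F r), a.1 ^ k a := by
    rw [hgc]
    unfold primePolyN
    show (X - 1) ^ (Fintype.card ι - orderOf (q : ZMod r) * ∑ a, k a) *
      ∏ a : ↥(cycFactors F r), a.1 ^ k a = _
    rw [hk2, Nat.sub_self, pow_zero, one_mul]
  set A : Module.End F (ι → F) := Matrix.toLin' ((g : GL ι F) : Matrix ι ι F) with hA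
  have hAQ : ∀ v, Q (A v) = Q v := fun v => by
    rw [hA, Matrix.toLin'_apply]
    exact g.2 v v
  have hAc : A.charpoly = ∏ a : ↥(cycFactors F r), a.1 ^ k a := by
    rw [hA, Matrix.charpoly_toLin', hcp]
  -- eigenvectors are singular
  have heig : ∀ (v : ι → F) (c : F), v ≠ 0 → A v = c • v → Q v = 0 := by
    intro v c hv hAv
    have h1 : A.HasEigenvalue c := by
      apply Module.End.hasEigenvalue_of_hasEigenvector (x := v)
      exact ⟨Module.End.mem_eigenspace_iff.2 hAv, hv⟩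
    have h2 : A.charpoly.IsRoot c := (Module.End.hasEigenvalue_iff_isRoot_charpoly A c).1 h1
    rw [hAc, IsRoot.def, eval_prod, Finset.prod_eq_zero_iff] at h2
    obtain ⟨a, -, ha⟩ := h2
    rw [eval_pow] at ha
    have ha0 : a.1.eval c = 0 := eq_zero_of_pow_eq_zero ha
    have hcr : c ^ r = 1 := by
      obtain ⟨b, hb⟩ := cycFactors_dvd_X_pow a.2
      have h3 : (X ^ r - 1 : F[X]).eval c = 0 := by
        rw [hb, eval_mul, ha0, zero_mul]
      rw [eval_sub, eval_pow, eval_X, eval_one, sub_eq_zero] at h3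
      exact h3
    have hc1 : c ≠ 1 := by
      rintro rfl
      exact cycFactors_eval_one_ne_zero hr hrp a.2 ha0
    have hc2 : c ^ 2 ≠ 1 := by
      intro h
      apply hc1
      obtain ⟨j, hj⟩ := hrodd
      rw [hj, pow_succ, pow_mul, h, one_pow, one_mul] at hcr
      exact hcr
    have h4 := hAQ v
    rw [hAv, QuadraticMap.map_smul, smul_eq_mul] at h4
    have h5 : (c ^ 2 - 1) * Q v = 0 := by linear_combination h4
    rcases mul_eq_zero.1 h5 with h6 | h6
    · exact absurd (sub_eq_zero.1 h6) hc2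
    · exact h6
  refine ⟨(g : GL ι F), coe_mem_omegaGL Q hgΩ, ?_, ?_, ?_⟩
  · rw [← SubmonoidClass.coe_pow, hgr]
    rfl
  · intro z hz
    obtain ⟨v, hv⟩ := exists_nonsingular Q hQ hι
    apply hv
    apply heig v z
    · rintro rfl
      exact hv (map_zero Q)
    · rw [hA, hz, Matrix.toLin'_apply, Matrix.smul_mulVec, Matrix.one_mulVec]
  · intro W hW1 hWA v hvW
    by_cases hv0 : v = 0
    · rw [hv0, map_zero]
    · have hgen := (finrank_eq_one_iff_of_nonzero' (⟨v, hvW⟩ : ↥W)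
        (fun h => hv0 (congrArg Subtype.val h))).1 hW1
      have hAvW : A v ∈ W := hWA ⟨v, hvW, rfl⟩
      obtain ⟨c, hc⟩ := hgen ⟨A v, hAvW⟩
      exact heig v c hv0 (congrArg Subtype.val hc).symm

end bad

end Cfsg.Agent.Helper13.OrthEl
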