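import Mathlib
import Cfsg.Agent.Lib.Helper13.OrthElusive2

set_option autoImplicit false
set_option linter.unusedSectionVars false

/-!
# Involutions of `Ω⁺` in characteristic 2 and maximal totally singular subspaces
-/

namespace Cfsg.Agent.Helper13.OrthEl

open Polynomial Module QuadraticMap Matrix Cfsg.Agent.Helper13 Cfsg.Agent.Helper13.SS
  Cfsg.Agent.Helper13.SympSS Cfsg.Agent.Helper13.OrthSS Cfsg.Agent.Helper17.Spinor
  Cfsg.Agent.Helper17.OmegaElts Cfsg.Agent.Helper28.WittQuad
open scoped Classical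

universe u

section witt
variable {F : Type*} [Field F] {V : Type*} [AddCommGroup V] [Module F V] [FiniteDimensional F V]

/-- totally singular subspaces of the same dimension are conjugate under the isometry group -/
theorem exists_isom_map_eq (Q : QuadraticForm F V) (hQ : (polarBilin Q).Nondegenerate)
    (L L' : Submodule F V) (hL : ∀ x ∈ L, Q x = 0) (hL' : ∀ x ∈ L', Q x = 0)
    (hfin : finrank F L = finrank F L') :
    ∃ g : V ≃ₗ[F] V, (∀ v, Q (g v) = Q v) ∧ L.map (g : V →ₗ[F] V) = L' := by
  set b := Module.finBasis F L with hb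
  set b' := (Module.finBasis F L').reindex (finCongr hfin.symm) with hb'
  have hx : LinearIndependent F (fun i => ((b i : L) : V)) :=
    b.linearIndependent.map' L.subtype L.ker_subtype
  have hy : LinearIndependent F (fun i => ((b' i : L') : V)) :=
    b'.linearIndependent.map' L'.subtype L'.ker_subtype
  obtain ⟨g, hg, hgx⟩ := witt_family hQ _ _ _ hx hy
    (fun i => by rw [hL _ (b i).2, hL' _ (b' i).2])
    (fun i j => by rw [polar_ts Q L hL (b i).2 (b j).2, polar_ts Q L' hL' (b' i).2 (b' j).2])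
  refine ⟨g, hg, ?_⟩
  apply Submodule.eq_of_le_of_finrank_eq
  · rintro _ ⟨v, hv, rfl⟩
    have h2 : v = ∑ i, b.repr ⟨v, hv⟩ i • ((b i : L) : V) := by
      calc v = ((∑ i, b.repr ⟨v, hv⟩ i • b i : L) : V) := by rw [b.sum_repr]
        _ = ∑ i, b.repr ⟨v, hv⟩ i • ((b i : L) : V) := by
          rw [Submodule.coe_sum]
          rfl
    show g v ∈ L'
    rw [h2, map_sum]
    apply Submodule.sum_mem
    intro i _
    rw [map_smul, hgx]
    exact L'.smul_mem _ (b' i).2
  · rw [LinearEquiv.finrank_map_eq g L, hfin]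

/-- a totally singular subspace has at most half the dimension -/
theorem two_mul_finrank_le_of_ts (Q : QuadraticForm F V) (hQ : (polarBilin Q).Nondegenerate)
    (L : Submodule F V) (hL : ∀ x ∈ L, Q x = 0) : 2 * finrank F L ≤ finrank F V := by
  have h1 : L ≤ LinearMap.BilinForm.orthogonal (polarBilin Q) L := by
    intro x hx y hy
    exact polar_ts Q L hL hy hx
  have h2 := Submodule.finrank_mono h1
  have h3 := LinearMap.BilinForm.finrank_orthogonal hQ L
  have h4 := Submodule.finrank_le L
  omega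

end witt

section plus
variable {F : Type*} [Field F]

/-- a maximal totally singular subspace of the standard hyperbolic space has a totally singular
complement -/
theorem exists_ts_compl_plus (d : ℕ) (U : Submodule F (Fin d ⊕ Fin d → F))
    (hU : ∀ x ∈ U, matQ (plusMat d F) x = 0) (hfin : finrank F U = d) :
    ∃ U' : Submodule F (Fin d ⊕ Fin d → F), (∀ x ∈ U', matQ (plusMat d F) x = 0) ∧
      finrank F U' = d ∧ U ⊓ U' = ⊥ := by
  set E := LinearMap.range (extL (F := F) (Fin d) (Fin d)) with hE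
  set E' := LinearMap.range (extR (F := F) (Fin d) (Fin d)) with hE'
  have hEts : ∀ x ∈ E, matQ (plusMat d F) x = 0 := by
    rintro _ ⟨x, rfl⟩
    rw [matQ_plusMat]
    apply Finset.sum_eq_zero
    intro i _
    rw [extL_inr, mul_zero]
  have hE'ts : ∀ x ∈ E', matQ (plusMat d F) x = 0 := by
    rintro _ ⟨x, rfl⟩
    rw [matQ_plusMat]
    apply Finset.sum_eq_zero
    intro i _
    rw [extR_inl, zero_mul]
  have hEfin : finrank F E = d := by
    rw [LinearMap.finrank_range_of_inj (extL_injective _ _), Module.finrank_fintype_fun_eq_card,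
      Fintype.card_fin]
  have hE'fin : finrank F E' = d := by
    rw [LinearMap.finrank_range_of_inj (extR_injective _ _), Module.finrank_fintype_fun_eq_card,
      Fintype.card_fin]
  have hdisj : E ⊓ E' = ⊥ := by
    rw [eq_bot_iff]
    rintro v ⟨⟨x, rfl⟩, ⟨y, hy⟩⟩
    have hx0 : x = 0 := by
      funext a
      have := congrFun hy (Sum.inl a)
      rw [extR_inl, extL_inl] at this
      exact this.symm
    rw [hx0, map_zero]
    exact Submodule.zero_mem _
  obtain ⟨g, hg, hgE⟩ := exists_isom_map_eq (matQ (plusMat d F))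
    (Cfsg.Agent.Helper2.Orth.nondeg_plus d) E U hEts hU (by rw [hEfin, hfin])
  refine ⟨E'.map (g : (Fin d ⊕ Fin d → F) →ₗ[F] (Fin d ⊕ Fin d → F)), ?_, ?_, ?_⟩
  · rintro _ ⟨w, hw, rfl⟩
    show matQ (plusMat d F) (g w) = 0
    rw [hg, hE'ts w hw]
  · rw [LinearEquiv.finrank_map_eq g E', hE'fin]
  · rw [← hgE, ← Submodule.map_inf _ g.injective, hdisj, Submodule.map_bot]

end plus

section parity
variable {ι : Type} [Fintype ι] [DecidableEq ι] {F : Type*} [Field F] [Fintype F]
  (Q : QuadraticForm F (ι → F))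

/-- in characteristic 2, the parity of `dim (U ⊓ g U)` detects membership in `Ω` -/
theorem mem_Omega_of_parity (hQ : (polarBilin Q).Nondegenerate)
    (hex : Fintype.card F ≠ 2 ∨ Fintype.card ι ≠ 4) (h2 : (2 : F) = 0)
    {U : Submodule F (ι → F)} (hU : IsTS Q U) (hU2 : 2 * finrank F ↥U = finrank F (ι → F))
    (g : ↥(Cfsg.isometryGroup F (⇑Q)))
    (hpar : finrank F ↥(U ⊓ U.map (toEnd Q g)) % 2 = finrank F ↥U % 2) :
    g ∈ Cfsg.Omega F (⇑Q) := by
  obtain ⟨vs, hvs, rfl⟩ := exists_prod_tG Q hQ hex g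
  obtain ⟨-, hpar'⟩ := finrank_inf_map_prod_refl_add_length Q hQ hU hU2 vs hvs
  rw [toEnd_prod_tG Q vs hvs] at hpar
  rw [prod_tG_mem_Omega_iff_all Q hQ hex vs hvs]
  have hchar : ringChar F = 2 := by
    haveI : CharP F 2 := by
      apply CharTwo.of_one_ne_zero_of_two_eq_zero one_ne_zero h2
    exact ringChar.eq F 2
  refine ⟨?_, FiniteField.isSquare_of_char_two hchar _⟩
  rw [Nat.even_iff]
  omega

end parity

end Cfsg.Agent.Helper13.OrthEl
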