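import Mathlib
import Cfsg.Agent.Lib.Helper13.OrthElusive3

set_option autoImplicit false
set_option linter.unusedSectionVars false

/-!
# An involution of `Ω⁺_{2d}(q)`, `q` and `d` even, whose fixed space is totally singular
-/

namespace Cfsg.Agent.Helper13.OrthEl

open Polynomial Module QuadraticMap Matrix Cfsg.Agent.Helper13 Cfsg.Agent.Helper13.SS
  Cfsg.Agent.Helper13.SympSS Cfsg.Agent.Helper13.OrthSS Cfsg.Agent.Helper17.Spinor
  Cfsg.Agent.Helper17.OmegaElts Cfsg.Agent.Helper28.WittQuad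
open scoped Classical

section invol
variable {F : Type*} [Field F]

/-- the map `(u, w) ↦ (u + w ∘ rev, w)` -/
noncomputable def revInv (F : Type*) [Field F] (d : ℕ) : Module.End F (Fin d ⊕ Fin d → F) where
  toFun v := Sum.elim (fun j => v (Sum.inl j) + v (Sum.inr (Fin.rev j))) (fun j => v (Sum.inr j))
  map_add' v w := by
    funext j
    rcases j with j | j
    · simp only [Sum.elim_inl, Pi.add_apply]
      ring
    · simp only [Sum.elim_inr, Pi.add_apply]
  map_smul' c v := by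
    funext j
    rcases j with j | j
    · simp only [Sum.elim_inl, Pi.smul_apply, smul_eq_mul, RingHom.id_apply]
      ring
    · simp only [Sum.elim_inr, Pi.smul_apply, RingHom.id_apply]

theorem revInv_inl (d : ℕ) (v : Fin d ⊕ Fin d → F) (j : Fin d) :
    revInv F d v (Sum.inl j) = v (Sum.inl j) + v (Sum.inr (Fin.rev j)) := rfl

theorem revInv_inr (d : ℕ) (v : Fin d ⊕ Fin d → F) (j : Fin d) :
    revInv F d v (Sum.inr j) = v (Sum.inr j) := rfl

theorem revInv_revInv (h2 : (2 : F) = 0) (d : ℕ) (v : Fin d ⊕ Fin d → F) :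
    revInv F d (revInv F d v) = v := by
  funext j
  rcases j with j | j
  · rw [revInv_inl, revInv_inl, revInv_inr]
    linear_combination v (Sum.inr (Fin.rev j)) * h2
  · rw [revInv_inr, revInv_inr]

theorem rev_ne_self {d : ℕ} (hd : Even d) (j : Fin d) : Fin.rev j ≠ j := by
  intro h
  have h1 := congrArg Fin.val h
  rw [Fin.val_rev] at h1
  obtain ⟨c, hc⟩ := hd
  have := j.2
  omega

theorem Q_revInv (h2 : (2 : F) = 0) {d : ℕ} (hd : Even d) (v : Fin d ⊕ Fin d → F) :
    matQ (plusMat d F) (revInv F d v) = matQ (plusMat d F) v := by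
  rw [matQ_plusMat, matQ_plusMat]
  have h1 : ∑ i : Fin d, v (Sum.inr (Fin.rev i)) * v (Sum.inr i) = 0 := by
    apply Finset.sum_involution (fun i _ => Fin.rev i)
    · intro i _
      rw [Fin.rev_rev]
      linear_combination (v (Sum.inr (Fin.rev i)) * v (Sum.inr i)) * h2
    · intro i _ _
      exact rev_ne_self hd i
    · intro i _
      exact Finset.mem_univ _
    · intro i _
      exact Fin.rev_rev i
  calc ∑ i : Fin d, revInv F d v (Sum.inl i) * revInv F d v (Sum.inr i)
      = ∑ i : Fin d, (v (Sum.inl i) * v (Sum.inr i) + v (Sum.inr (Fin.rev i)) * v (Sum.inr i)) := by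
        apply Finset.sum_congr rfl
        intro i _
        rw [revInv_inl, revInv_inr]
        ring
    _ = ∑ i : Fin d, v (Sum.inl i) * v (Sum.inr i) := by
        rw [Finset.sum_add_distrib, h1, add_zero]

theorem revInv_fixed (d : ℕ) (v : Fin d ⊕ Fin d → F) (h : revInv F d v = v) (j : Fin d) :
    v (Sum.inr j) = 0 := by
  have h1 := congrFun h (Sum.inl (Fin.rev j))
  rw [revInv_inl, Fin.rev_rev] at h1
  exact add_eq_left.1 h1

variable [Fintype F]

/-- an involution of `Ω⁺_{2d}(q)` all of whose invariant lines are singular -/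
theorem exists_bad_involution (h2 : (2 : F) = 0) {d : ℕ} (hd : Even d) (hd4 : 4 ≤ d) :
    ∃ x : GL (Fin d ⊕ Fin d) F, x ∈ Cfsg.Geo.omegaGL (⇑(matQ (plusMat d F))) ∧ x ^ 2 = 1 ∧
      (∀ z : F, (x : Matrix (Fin d ⊕ Fin d) (Fin d ⊕ Fin d) F) ≠
        z • (1 : Matrix (Fin d ⊕ Fin d) (Fin d ⊕ Fin d) F)) ∧
      ∀ W : Submodule F (Fin d ⊕ Fin d → F), finrank F W = 1 →
        W.map (Matrix.toLin' (x : Matrix (Fin d ⊕ Fin d) (Fin d ⊕ Fin d) F)) ≤ W →
        ∀ v ∈ W, matQ (plusMat d F) v = 0 := by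
  set Q := matQ (plusMat d F) with hQdef
  have hQ : (polarBilin Q).Nondegenerate := Cfsg.Agent.Helper2.Orth.nondeg_plus d
  have hcι : Fintype.card (Fin d ⊕ Fin d) = 2 * d := by
    rw [Fintype.card_sum, Fintype.card_fin]
    ring
  have hex : Fintype.card F ≠ 2 ∨ Fintype.card (Fin d ⊕ Fin d) ≠ 4 := by
    right
    rw [hcι]
    omega
  have hsq : revInv F d ^ 2 = 1 := by
    apply LinearMap.ext
    intro v
    rw [pow_two, Module.End.mul_apply, revInv_revInv h2]
    rfl
  obtain ⟨x, hx, hxr, hLx⟩ := exists_gl_of_end (⇑Q) (revInv F d) (Q_revInv h2 hd) 2 (by norm_num)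
    hsq
  have hAx : Matrix.toLin' (x : Matrix (Fin d ⊕ Fin d) (Fin d ⊕ Fin d) F) = revInv F d := by
    rw [← hLx]
    apply LinearMap.ext
    intro v
    rw [LG_apply, Matrix.toLin'_apply]
  set h : ↥(Cfsg.isometryGroup F (⇑Q)) := ⟨x, hx⟩ with hh
  have htoEnd : toEnd Q h = revInv F d := hAx
  -- membership in Ω
  set U := LinearMap.range (extR (F := F) (Fin d) (Fin d)) with hU
  have hUts : IsTS Q U := by
    rintro _ ⟨y, rfl⟩
    rw [hQdef, matQ_plusMat]
    apply Finset.sum_eq_zero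
    intro i _
    rw [extR_inl, zero_mul]
  have hUfin : finrank F U = d := by
    rw [LinearMap.finrank_range_of_inj (extR_injective _ _), Module.finrank_fintype_fun_eq_card,
      Fintype.card_fin]
  have hinf : U ⊓ U.map (toEnd Q h) = ⊥ := by
    rw [eq_bot_iff, htoEnd]
    rintro v ⟨⟨y', hy'⟩, ⟨w, ⟨y, rfl⟩, hw⟩⟩
    have hy0 : y = 0 := by
      funext j
      have h1 : v (Sum.inl (Fin.rev j)) = 0 := by
        rw [← hy', extR_inl]
      rw [← hw] at h1
      have h3 : revInv F d (extR (Fin d) (Fin d) y) (Sum.inl (Fin.rev j)) = y j := by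
        rw [revInv_inl, extR_inl, extR_inr, Fin.rev_rev, zero_add]
      have h4 : (revInv F d : (Fin d ⊕ Fin d → F) →ₗ[F] (Fin d ⊕ Fin d → F))
          (extR (Fin d) (Fin d) y) (Sum.inl (Fin.rev j)) = 0 := h1
      rw [h3] at h4
      exact h4
    rw [hy0, map_zero] at hw
    rw [← hw]
    show (revInv F d) 0 ∈ (⊥ : Submodule F (Fin d ⊕ Fin d → F))
    rw [map_zero]
    exact Submodule.zero_mem _
  have hΩ : h ∈ Cfsg.Omega F (⇑Q) := by
    apply mem_Omega_of_parity Q hQ hex h2 hUts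
      (by rw [hUfin, Module.finrank_fintype_fun_eq_card, hcι])
    rw [hinf, finrank_bot, hUfin]
    obtain ⟨c, hc⟩ := hd
    omega
  -- invariant lines
  have heig : ∀ (v : Fin d ⊕ Fin d → F) (c : F), v ≠ 0 → revInv F d v = c • v → Q v = 0 := by
    intro v c hv hAv
    have h1 : revInv F d (revInv F d v) = v := revInv_revInv h2 d v
    rw [hAv, map_smul, hAv, smul_smul] at h1
    have h3 : (c * c - 1) • v = 0 := by
      rw [sub_smul, h1, one_smul, sub_self]
    have h4 : c * c - 1 = 0 := (smul_eq_zero.1 h3).resolve_right hv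
    have h5 : (c - 1) * (c - 1) = 0 := by linear_combination h4 + (1 - c) * h2
    have hc1 : c = 1 := by
      rcases mul_eq_zero.1 h5 with h6 | h6 <;> exact sub_eq_zero.1 h6
    rw [hc1, one_smul] at hAv
    rw [hQdef, matQ_plusMat]
    apply Finset.sum_eq_zero
    intro i _
    rw [revInv_fixed d v hAv i, mul_zero]
  refine ⟨x, coe_mem_omegaGL Q hΩ, hxr, ?_, ?_⟩
  · intro z hz
    obtain ⟨v, hv⟩ := exists_nonsingular Q hQ (by rw [hcι]; omega)
    apply hv
    apply heig v z
    · rintro rfl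
      exact hv (map_zero Q)
    · rw [← hAx, hz, Matrix.toLin'_apply, Matrix.smul_mulVec, Matrix.one_mulVec]
  · intro W hW1 hWA v hvW
    by_cases hv0 : v = 0
    · rw [hv0, map_zero]
    · have hgen := (finrank_eq_one_iff_of_nonzero' (⟨v, hvW⟩ : ↥W)
        (fun h => hv0 (congrArg Subtype.val h))).1 hW1
      rw [hAx] at hWA
      have hAvW : revInv F d v ∈ W := hWA ⟨v, hvW, rfl⟩
      obtain ⟨c, hc⟩ := hgen ⟨revInv F d v, hAvW⟩
      exact heig v c hv0 (congrArg Subtype.val hc).symm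

/-- an involution of `Ω⁺_{2d}(q)`, `q` even and `d` odd, fixes a nonsingular vector -/
theorem exists_nonsingular_fixed_plus (h2 : (2 : F) = 0) {d : ℕ} (hd : Odd d) (hd4 : 4 ≤ d)
    (Q : QuadraticForm F (Fin d ⊕ Fin d → F)) (hQdef : Q = matQ (plusMat d F))
    (h : ↥(Cfsg.isometryGroup F (⇑Q))) (hΩ : h ∈ Cfsg.Omega F (⇑Q))
    (hNN : (toEnd Q h - 1) * (toEnd Q h - 1) = 0) :
    ∃ v, toEnd Q h v = v ∧ Q v ≠ 0 := by
  have hQ : (polarBilin Q).Nondegenerate := by
    rw [hQdef]
    exact Cfsg.Agent.Helper2.Orth.nondeg_plus d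
  have hcι : Fintype.card (Fin d ⊕ Fin d) = 2 * d := by
    rw [Fintype.card_sum, Fintype.card_fin]
    ring
  have hex : Fintype.card F ≠ 2 ∨ Fintype.card (Fin d ⊕ Fin d) ≠ 4 := by
    right
    rw [hcι]
    omega
  set A := toEnd Q h with hA
  by_contra hcon
  push Not at hcon
  set K := LinearMap.ker (A - 1) with hK
  have hKts : ∀ v ∈ K, Q v = 0 := by
    intro v hv
    apply hcon v
    rw [hK, LinearMap.mem_ker, LinearMap.sub_apply, Module.End.one_apply, sub_eq_zero] at hv
    exact hv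
  have h1 : finrank F (Fin d ⊕ Fin d → F) ≤ 2 * finrank F K :=
    finrank_le_two_mul_ker (A - 1) hNN
  have h3 := two_mul_finrank_le_of_ts Q hQ K hKts
  rw [Module.finrank_fintype_fun_eq_card, hcι] at h1 h3
  have hKfin : finrank F K = d := by omega
  obtain ⟨U', hU'ts, hU'fin, hdisj⟩ := exists_ts_compl_plus d K (hQdef ▸ hKts) hKfin
  have hU'ts' : ∀ x ∈ U', Q x = 0 := by
    rw [hQdef]
    exact hU'ts
  have hrange : ∀ w, (A - 1) w ∈ K := by
    intro w
    rw [hK, LinearMap.mem_ker, ← Module.End.mul_apply, hNN]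
    rfl
  have hinf : U' ⊓ U'.map A = ⊥ := by
    rw [eq_bot_iff]
    rintro v ⟨hv, ⟨w, hw, rfl⟩⟩
    have h4 : (A - 1) w ∈ U' := by
      rw [LinearMap.sub_apply, Module.End.one_apply]
      exact U'.sub_mem hv hw
    have h5 : (A - 1) w ∈ K ⊓ U' := ⟨hrange w, h4⟩
    rw [hdisj, Submodule.mem_bot] at h5
    have h6 : w ∈ K ⊓ U' := ⟨LinearMap.mem_ker.2 h5, hw⟩
    rw [hdisj, Submodule.mem_bot] at h6
    rw [h6]
    show A 0 ∈ (⊥ : Submodule F (Fin d ⊕ Fin d → F))
    rw [map_zero]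
    exact Submodule.zero_mem _
  have hpar := finrank_inf_map_of_mem_Omega Q hQ hex (U := U') hU'ts'
    (by rw [hU'fin, Module.finrank_fintype_fun_eq_card, hcι]) hΩ
  rw [hinf, finrank_bot, hU'fin] at hpar
  obtain ⟨c, hc⟩ := hd
  omega

end invol

end Cfsg.Agent.Helper13.OrthEl
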