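import Mathlib
import Cfsg.Agent.Lib.Helper13.NilpotentGL
import Cfsg.Agent.Lib.Helper17.JordanOrthOdd

set_option autoImplicit false
set_option linter.unusedSectionVars false

/-!
# Jordan types of nilpotent endomorphisms through ranks, and unipotent isometries
-/

namespace Cfsg.Agent.Helper13.OrthJp

open Module Matrix Cfsg.Agent.Helper13.Nilp

section basic
variable {F : Type*} [Field F] {V : Type*} [AddCommGroup V] [Module F V]

/-- `N` has Jordan type `μ`, expressed through the ranks of its powers -/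
def HasType (N : Module.End F V) (μ : Multiset ℕ) : Prop :=
  (∀ a ∈ μ, 0 < a) ∧ ∀ j, finrank F (LinearMap.range (N ^ j)) = (μ.map (fun a => a - j)).sum

theorem exists_hasType [FiniteDimensional F V] (N : Module.End F V) (hN : IsNilpotent N) :
    ∃ μ, HasType N μ := by
  obtain ⟨cb⟩ := exists_chainBasis N hN
  exact ⟨cb.type, cb.type_pos, cb.finrank_range_pow⟩

theorem HasType.unique {N : Module.End F V} {μ μ' : Multiset ℕ} (h : HasType N μ)
    (h' : HasType N μ') : μ = μ' :=
  multiset_eq_of_sub_sums _ _ h.1 h'.1 (fun m => by rw [← h.2, ← h'.2])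

theorem HasType.sum [FiniteDimensional F V] {N : Module.End F V} {μ : Multiset ℕ}
    (h : HasType N μ) : μ.sum = finrank F V := by
  have h1 := h.2 0
  rw [pow_zero, Module.End.one_eq_id, LinearMap.range_id, finrank_top] at h1
  simp only [Nat.sub_zero, Multiset.map_id'] at h1
  exact h1.symm

theorem HasType.pow_eq_zero {N : Module.End F V} [FiniteDimensional F V] {μ : Multiset ℕ}
    (h : HasType N μ) (k : ℕ) (hk : ∀ a ∈ μ, a ≤ k) : N ^ k = 0 := by
  have h1 := h.2 k
  have h3 : (μ.map (fun a => a - k)).sum = 0 := by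
    apply Multiset.sum_eq_zero
    intro x hx
    obtain ⟨a, ha, rfl⟩ := Multiset.mem_map.1 hx
    have := hk a ha
    omega
  rw [h3] at h1
  have h4 : LinearMap.range (N ^ k) = ⊥ := Submodule.finrank_eq_zero.1 h1
  exact LinearMap.range_eq_bot.1 h4

theorem HasType.ne_zero {N : Module.End F V} {μ : Multiset ℕ} (h : HasType N μ) (a : ℕ)
    (ha : a ∈ μ) (ha2 : 2 ≤ a) : N ≠ 0 := by
  intro h0
  have h1 := h.2 1
  rw [pow_one, h0, LinearMap.range_zero, finrank_bot] at h1
  have h3 : a - 1 ≤ (μ.map (fun a => a - 1)).sum :=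
    Multiset.single_le_sum (fun _ _ => Nat.zero_le _) _ (Multiset.mem_map.2 ⟨a, ha, rfl⟩)
  omega

/-- transport along an intertwining isomorphism -/
theorem hasType_of_equiv {V' : Type*} [AddCommGroup V'] [Module F V'] {N : Module.End F V}
    {N' : Module.End F V'} {μ : Multiset ℕ} (T : V ≃ₗ[F] V') (hT : ∀ x, T (N x) = N' (T x))
    (h : HasType N μ) : HasType N' μ := by
  refine ⟨h.1, fun j => ?_⟩
  rw [← h.2 j]
  have hpow : ∀ (j : ℕ) (x : V), T ((N ^ j) x) = (N' ^ j) (T x) := by
    intro j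
    induction j with
    | zero => intro x; simp
    | succ j ih =>
      intro x
      rw [pow_succ, pow_succ, Module.End.mul_apply, Module.End.mul_apply, ih, hT]
  have hr : LinearMap.range (N' ^ j) = (LinearMap.range (N ^ j)).map (T : V →ₗ[F] V') := by
    ext y
    constructor
    · rintro ⟨x, rfl⟩
      refine ⟨(N ^ j) (T.symm x), ⟨_, rfl⟩, ?_⟩
      rw [LinearEquiv.coe_coe, hpow, T.apply_symm_apply]
    · rintro ⟨_, ⟨x, rfl⟩, rfl⟩
      exact ⟨T x, (hpow j x).symm⟩
  rw [hr, LinearEquiv.finrank_map_eq]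

/-- additivity over an invariant decomposition -/
theorem HasType.add [FiniteDimensional F V] {N : Module.End F V} {W₁ W₂ : Submodule F V}
    (hc : IsCompl W₁ W₂) (h₁ : ∀ w ∈ W₁, N w ∈ W₁) (h₂ : ∀ w ∈ W₂, N w ∈ W₂)
    {ν₁ ν₂ : Multiset ℕ} (t₁ : HasType (N.restrict h₁) ν₁) (t₂ : HasType (N.restrict h₂) ν₂) :
    HasType N (ν₁ + ν₂) := by
  refine ⟨?_, fun j => ?_⟩
  · intro a ha
    rcases Multiset.mem_add.1 ha with h | h
    · exact t₁.1 a h
    · exact t₂.1 a h
  have hp₁ : ∀ (j : ℕ) (w : W₁), (((N.restrict h₁) ^ j) w : V) = (N ^ j) (w : V) := by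
    intro j
    induction j with
    | zero => intro w; simp
    | succ j ih =>
      intro w
      rw [pow_succ', Module.End.mul_apply, pow_succ', Module.End.mul_apply,
        LinearMap.coe_restrict_apply, ih]
  have hp₂ : ∀ (j : ℕ) (w : W₂), (((N.restrict h₂) ^ j) w : V) = (N ^ j) (w : V) := by
    intro j
    induction j with
    | zero => intro w; simp
    | succ j ih =>
      intro w
      rw [pow_succ', Module.End.mul_apply, pow_succ', Module.End.mul_apply,
        LinearMap.coe_restrict_apply, ih]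
  have hr : LinearMap.range (N ^ j) =
      (LinearMap.range ((N.restrict h₁) ^ j)).map W₁.subtype ⊔
        (LinearMap.range ((N.restrict h₂) ^ j)).map W₂.subtype := by
    apply le_antisymm
    · rintro y ⟨x, rfl⟩
      have hx : x ∈ W₁ ⊔ W₂ := by
        rw [hc.sup_eq_top]
        trivial
      obtain ⟨a, ha, b, hb, rfl⟩ := Submodule.mem_sup.1 hx
      rw [map_add]
      apply Submodule.add_mem_sup
      · exact ⟨((N.restrict h₁) ^ j) ⟨a, ha⟩, ⟨_, rfl⟩, hp₁ j ⟨a, ha⟩⟩
      · exact ⟨((N.restrict h₂) ^ j) ⟨b, hb⟩, ⟨_, rfl⟩, hp₂ j ⟨b, hb⟩⟩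
    · apply sup_le
      · rintro _ ⟨_, ⟨w, rfl⟩, rfl⟩
        exact ⟨(w : V), (hp₁ j w).symm⟩
      · rintro _ ⟨_, ⟨w, rfl⟩, rfl⟩
        exact ⟨(w : V), (hp₂ j w).symm⟩
  have hdisj : (LinearMap.range ((N.restrict h₁) ^ j)).map W₁.subtype ⊓
      (LinearMap.range ((N.restrict h₂) ^ j)).map W₂.subtype = ⊥ := by
    rw [eq_bot_iff, ← hc.inf_eq_bot]
    apply inf_le_inf
    · rintro _ ⟨w, -, rfl⟩
      exact w.2
    · rintro _ ⟨w, -, rfl⟩
      exact w.2
  have h4 := Submodule.finrank_sup_add_finrank_inf_eq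
    ((LinearMap.range ((N.restrict h₁) ^ j)).map W₁.subtype)
    ((LinearMap.range ((N.restrict h₂) ^ j)).map W₂.subtype)
  rw [hdisj, finrank_bot, add_zero, Submodule.finrank_map_subtype_eq,
    Submodule.finrank_map_subtype_eq, t₁.2 j, t₂.2 j] at h4
  rw [hr, h4, Multiset.map_add, Multiset.sum_add]

end basic

section mat
variable {F : Type*} [Field F] {κ : Type*} [Fintype κ] [DecidableEq κ]

theorem finrank_range_toLin'_sub_one_pow (u : Matrix κ κ F) (j : ℕ) :
    finrank F (LinearMap.range ((Matrix.toLin' u - 1) ^ j)) = ((u - 1) ^ j).rank := by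
  have h1 : (Matrix.toLin' u - 1 : Module.End F (κ → F)) = Matrix.toLinAlgEquiv' (u - 1) := by
    rw [map_sub, map_one]
    rfl
  rw [h1, ← map_pow, Matrix.rank]
  rfl

/-- the type of a matrix conjugate to a Jordan matrix -/
theorem hasType_of_isConj {t : ℕ} (d : Fin t → ℕ) (hd : ∀ k, 1 ≤ d k)
    (e : ((k : Fin t) × Fin (d k)) ≃ κ) (u : Matrix κ κ F)
    (hc : IsConj (Matrix.reindex e e (Cfsg.jordanTypeMatrix d F)) u) :
    HasType (Matrix.toLin' u - 1 : Module.End F (κ → F)) (Finset.univ.val.map d) := by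
  refine ⟨?_, fun j => ?_⟩
  · intro a ha
    obtain ⟨k, -, rfl⟩ := Multiset.mem_map.1 ha
    exact hd k
  obtain ⟨c, hc⟩ := hc
  have h1 : (c : Matrix κ κ F) * (Matrix.reindex e e (Cfsg.jordanTypeMatrix d F) - 1) =
      (u - 1) * (c : Matrix κ κ F) := by
    rw [mul_sub, sub_mul, mul_one, one_mul, hc.eq]
  have hpow : ∀ i : ℕ, (c : Matrix κ κ F) *
      (Matrix.reindex e e (Cfsg.jordanTypeMatrix d F) - 1) ^ i = (u - 1) ^ i * (c : Matrix κ κ F) := by
    intro i
    induction i with
    | zero => simp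
    | succ i ih => rw [pow_succ, ← mul_assoc, ih, mul_assoc, h1, ← mul_assoc, ← pow_succ]
  have hcu : IsUnit (c : Matrix κ κ F).det := (Matrix.isUnit_iff_isUnit_det _).1 c.isUnit
  have h3 := congrArg Matrix.rank (hpow j)
  rw [Matrix.rank_mul_eq_right_of_isUnit_det _ _ hcu,
    Matrix.rank_mul_eq_left_of_isUnit_det _ _ hcu] at h3
  rw [finrank_range_toLin'_sub_one_pow, ← h3, Matrix.reindex_apply,
    Cfsg.Agent.Helper17.JordanForms.submatrix_sub_one_pow, Matrix.rank_submatrix,
    Cfsg.Agent.Helper17.JordanRank.rank_jordanTypeMatrix_sub_one_pow, Multiset.map_map]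
  rfl

end mat

section count

theorem count_add_two_mul (ν : Multiset ℕ) (e : ℕ) (he : 1 ≤ e) :
    (ν.map (fun a => a - (e - 1))).sum + (ν.map (fun a => a - (e + 1))).sum =
      ν.count e + 2 * (ν.map (fun a => a - e)).sum := by
  induction ν using Multiset.induction_on with
  | empty => simp
  | cons a s ih =>
    simp only [Multiset.map_cons, Multiset.sum_cons, Multiset.count_cons]
    split_ifs with h <;> omega

end count

section parity
variable {F : Type*} [Field F] {V : Type*} [AddCommGroup V] [Module F V]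
  [FiniteDimensional F V]

open QuadraticMap

/-- the parity condition for unipotent isometries, odd characteristic -/
theorem HasType.even_count (h2 : (2 : F) ≠ 0) (Q : QuadraticForm F V)
    (hQ : (polarBilin Q).Nondegenerate) (X : Module.End F V) (hXQ : ∀ v, Q (X v) = Q v)
    (hnil : IsNilpotent (X - 1)) {ν : Multiset ℕ} (h : HasType (X - 1) ν) (e : ℕ)
    (he : Even e) (he0 : 0 < e) : Even (ν.count e) := by
  classical
  set b := Module.finBasis F V with hb
  set u : Matrix (Fin (finrank F V)) (Fin (finrank F V)) F := LinearMap.toMatrix b b X with hu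
  set G : Matrix (Fin (finrank F V)) (Fin (finrank F V)) F :=
    LinearMap.BilinForm.toMatrix b (polarBilin Q) with hG
  have hdet : G.det ≠ 0 :=
    (LinearMap.BilinForm.nondegenerate_iff_det_ne_zero (B := polarBilin Q) b).1 hQ
  have hGu : IsUnit G.det := isUnit_iff_ne_zero.2 hdet
  have hGs : Gᵀ = G := by
    ext i j
    rw [Matrix.transpose_apply, hG, LinearMap.BilinForm.toMatrix_apply,
      LinearMap.BilinForm.toMatrix_apply, polarBilin_apply_apply, polarBilin_apply_apply,
      polar_comm]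
  have hcomp : LinearMap.BilinForm.comp (polarBilin Q) X X = polarBilin Q := by
    ext x y
    rw [LinearMap.BilinForm.comp_apply, polarBilin_apply_apply, polarBilin_apply_apply]
    unfold polar
    rw [← map_add, hXQ, hXQ, hXQ]
  have hinv : uᵀ * G * u = G := by
    have := LinearMap.BilinForm.toMatrix_comp b b (polarBilin Q) X X
    rw [hcomp] at this
    exact this.symm
  have hu1 : u - 1 = LinearMap.toMatrix b b (X - 1) := by
    rw [map_sub, LinearMap.toMatrix_one]
  have hupow : ∀ i : ℕ, (u - 1) ^ i = LinearMap.toMatrix b b ((X - 1) ^ i) := by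
    intro i
    rw [hu1, LinearMap.toMatrix_pow]
  have hnilu : IsNilpotent (u - 1) := by
    obtain ⟨k, hk⟩ := hnil
    refine ⟨k, ?_⟩
    rw [hupow, hk, map_zero]
  have hrank : ∀ i : ℕ, ((u - 1) ^ i).rank = finrank F (LinearMap.range ((X - 1) ^ i)) := by
    intro i
    rw [hupow, Matrix.rank_eq_finrank_range_toLin _ b b, Matrix.toLin_toMatrix]
  obtain ⟨s, hs⟩ := he
  obtain ⟨a, ha⟩ := Cfsg.Agent.Helper17.JordanOrthOdd.even_rank_sub_one_pow_odd h2 G G⁻¹ u
    (Matrix.mul_nonsing_inv G hGu) hGs hinv hnilu (e - 1) ⟨s - 1, by omega⟩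
  obtain ⟨c, hc⟩ := Cfsg.Agent.Helper17.JordanOrthOdd.even_rank_sub_one_pow_odd h2 G G⁻¹ u
    (Matrix.mul_nonsing_inv G hGu) hGs hinv hnilu (e + 1) ⟨s, by omega⟩
  rw [hrank, h.2] at ha hc
  have h4 := count_add_two_mul ν e (by omega)
  rw [ha, hc] at h4
  exact ⟨a + c - (ν.map (fun a => a - e)).sum, by omega⟩

end parity

end Cfsg.Agent.Helper13.OrthJp
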