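import Mathlib
import Cfsg.Agent.Lib.Helper13.OrthJp1
import Cfsg.Agent.Lib.Helper13.Hyperbolic

set_option autoImplicit false
set_option linter.unusedSectionVars false

/-!
# Unipotent isometries fixing a nondegenerate subspace: the sub-partition
-/

namespace Cfsg.Agent.Helper13.OrthJp

open Module Matrix QuadraticMap

section core
variable {F : Type*} [Field F] {V : Type*} [AddCommGroup V] [Module F V]

theorem restrict_pow_apply (N : Module.End F V) {W : Submodule F V} (h : ∀ w ∈ W, N w ∈ W)
    (j : ℕ) (w : W) : (((N.restrict h) ^ j) w : V) = (N ^ j) (w : V) := by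
  induction j generalizing w with
  | zero => simp
  | succ j ih =>
    rw [pow_succ', Module.End.mul_apply, pow_succ', Module.End.mul_apply,
      LinearMap.coe_restrict_apply, ih]

theorem isNilpotent_restrict {N : Module.End F V} (hN : IsNilpotent N) {W : Submodule F V}
    (h : ∀ w ∈ W, N w ∈ W) : IsNilpotent (N.restrict h) := by
  obtain ⟨k, hk⟩ := hN
  refine ⟨k, ?_⟩
  ext w
  rw [restrict_pow_apply, hk]
  rfl

variable [FiniteDimensional F V]

/-- a unipotent isometry fixing a nondegenerate subspace `W`: its type contains a valid type of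
size `dim W` -/
theorem sub_type_of_invariant (h2 : (2 : F) ≠ 0) (Q : QuadraticForm F V) (X : Module.End F V)
    (hXQ : ∀ v, Q (X v) = Q v) (hnil : IsNilpotent (X - 1)) {μ : Multiset ℕ}
    (hμ : HasType (X - 1) μ) (W : Submodule F V)
    (hW : ∀ w ∈ W, w ≠ 0 → ∃ x ∈ W, polar Q x w ≠ 0) (hXW : ∀ w ∈ W, X w ∈ W) :
    ∃ ν : Multiset ℕ, ν ≤ μ ∧ ν.sum = finrank F W ∧ ∀ e, Even e → Even (ν.count e) := by
  classical
  have hrefl : LinearMap.BilinForm.IsRefl (polarBilin Q) := by
    intro x y h
    rw [polarBilin_apply_apply, polar_comm]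
    exact h
  have hQW : (polarBilin (Q.comp W.subtype)).Nondegenerate := by
    apply nondeg_of_polar
    intro x hx
    by_contra hne
    have hne' : (x : V) ≠ 0 := fun h => hne (Subtype.ext h)
    obtain ⟨y, hy, hxy⟩ := hW x x.2 hne'
    apply hxy
    have := hx ⟨y, hy⟩
    rw [polar_comm] at this
    exact this
  have hres : (LinearMap.BilinForm.restrict (polarBilin Q) W).Nondegenerate := by
    have e : LinearMap.BilinForm.restrict (polarBilin Q) W = polarBilin (Q.comp W.subtype) := by
      ext x y
      rfl
    rw [e]
    exact hQW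
  have hcompl : IsCompl W (LinearMap.BilinForm.orthogonal (polarBilin Q) W) :=
    LinearMap.BilinForm.isCompl_orthogonal_of_restrict_nondegenerate hrefl hres
  have hXpolar : ∀ a b, polar Q (X a) (X b) = polar Q a b := by
    intro a b
    unfold polar
    rw [← map_add, hXQ, hXQ, hXQ]
  -- `X` is bijective
  have hXu : IsUnit X := by
    have := IsNilpotent.isUnit_one_add hnil
    rwa [add_sub_cancel] at this
  have hXinj : Function.Injective X := ((Module.End.isUnit_iff X).1 hXu).1
  have hXWinj : Function.Injective (X.restrict hXW) := by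
    intro a b hab
    apply Subtype.ext
    apply hXinj
    have := congrArg (Subtype.val) hab
    rwa [LinearMap.coe_restrict_apply, LinearMap.coe_restrict_apply] at this
  have hXWsurj : Function.Surjective (X.restrict hXW) :=
    LinearMap.injective_iff_surjective.1 hXWinj
  have hXW' : ∀ u ∈ LinearMap.BilinForm.orthogonal (polarBilin Q) W, X u ∈ LinearMap.BilinForm.orthogonal (polarBilin Q) W := by
    intro u hu
    rw [LinearMap.BilinForm.mem_orthogonal_iff]
    intro w hw
    obtain ⟨w', hw'⟩ := hXWsurj ⟨w, hw⟩
    have e : w = X (w' : V) := by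
      have := congrArg (Subtype.val) hw'
      rw [LinearMap.coe_restrict_apply] at this
      exact this.symm
    show polarBilin Q w (X u) = 0
    rw [polarBilin_apply_apply, e, hXpolar]
    exact hu _ w'.2
  have hN1 : ∀ w ∈ W, (X - 1) w ∈ W := by
    intro w hw
    rw [LinearMap.sub_apply, Module.End.one_apply]
    exact W.sub_mem (hXW w hw) hw
  have hN2 : ∀ u ∈ LinearMap.BilinForm.orthogonal (polarBilin Q) W, (X - 1) u ∈ LinearMap.BilinForm.orthogonal (polarBilin Q) W := by
    intro u hu
    rw [LinearMap.sub_apply, Module.End.one_apply]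
    exact Submodule.sub_mem _ (hXW' u hu) hu
  obtain ⟨ν, hν⟩ := exists_hasType _ (isNilpotent_restrict hnil hN1)
  obtain ⟨ν', hν'⟩ := exists_hasType _ (isNilpotent_restrict hnil hN2)
  have hsum := HasType.add hcompl hN1 hN2 hν hν'
  have hμeq : μ = ν + ν' := hμ.unique hsum
  refine ⟨ν, ?_, hν.sum, ?_⟩
  · rw [hμeq]
    exact Multiset.le_add_right _ _
  · intro e he
    rcases Nat.eq_zero_or_pos e with h0 | hpos
    · have : ν.count e = 0 := by
        rw [Multiset.count_eq_zero]
        intro hmem
        have := hν.1 e hmem
        omega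
      rw [this]
      exact Even.zero
    · have e1 : (X - 1 : Module.End F V).restrict hN1 = X.restrict hXW - 1 := by
        ext w
        rfl
      rw [e1] at hν
      refine HasType.even_count h2 (Q.comp W.subtype) hQW (X.restrict hXW) ?_ ?_ hν e he hpos
      · intro w
        rw [QuadraticMap.comp_apply, QuadraticMap.comp_apply, Submodule.subtype_apply,
          LinearMap.coe_restrict_apply, hXQ]
        rfl
      · rw [← e1]
        exact isNilpotent_restrict hnil hN1

end core

end Cfsg.Agent.Helper13.OrthJp
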