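import Mathlib
import Cfsg.Agent.Lib.Helper13.OrthJp2
import Cfsg.Agent.Lib.Helper13.OrthEmbed
import Cfsg.Agent.Lib.Helper13.OrthElusive2
import Cfsg.Agent.Lib.Helper13.QuadFinite
import Cfsg.Agent.Lib.Helper17.SpinorIndex
import Cfsg.Agent.Lib.Helper17.SpinorOmega

set_option autoImplicit false
set_option linter.unusedSectionVars false

/-!
# Existence of unipotent isometries of a given Jordan type
-/

namespace Cfsg.Agent.Helper13.OrthJp

open Module Matrix QuadraticMap Cfsg.Agent.Helper13

section basic
variable {F : Type*} [Field F] {V : Type*} [AddCommGroup V] [Module F V]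

theorem HasType.isNilpotent [FiniteDimensional F V] {N : Module.End F V} {μ : Multiset ℕ}
    (h : HasType N μ) : IsNilpotent N :=
  ⟨μ.sum, h.pow_eq_zero μ.sum (fun _ ha => Multiset.le_sum_of_mem ha)⟩

theorem pow_char_eq_one [FiniteDimensional F V] (p : ℕ) [Fact p.Prime] [CharP F p]
    {X : Module.End F V} {μ : Multiset ℕ} (h : HasType (X - 1) μ) (hle : ∀ a ∈ μ, a ≤ p) :
    X ^ p = 1 := by
  rcases subsingleton_or_nontrivial V with hs | hn
  · ext v
    exact Subsingleton.elim _ _
  · haveI : CharP (Module.End F V) p :=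
      charP_of_injective_algebraMap (algebraMap F (Module.End F V)).injective p
    have h1 := sub_pow_char_of_commute p (Commute.one_right X)
    rw [h.pow_eq_zero p hle, one_pow] at h1
    exact sub_eq_zero.1 h1.symm

/-- the type of a product map -/
theorem HasType.prodMap {V' : Type*} [AddCommGroup V'] [Module F V'] [FiniteDimensional F V]
    [FiniteDimensional F V'] {N : Module.End F V} {N' : Module.End F V'} {ν ν' : Multiset ℕ}
    (h : HasType N ν) (h' : HasType N' ν') : HasType (N.prodMap N') (ν + ν') := by
  have hc : IsCompl (LinearMap.range (LinearMap.inl F V V')) (LinearMap.range (LinearMap.inr F V V')) :=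
    LinearMap.isCompl_range_inl_inr
  have h₁ : ∀ w ∈ LinearMap.range (LinearMap.inl F V V'),
      (N.prodMap N') w ∈ LinearMap.range (LinearMap.inl F V V') := by
    rintro _ ⟨v, rfl⟩
    exact ⟨N v, by simp⟩
  have h₂ : ∀ w ∈ LinearMap.range (LinearMap.inr F V V'),
      (N.prodMap N') w ∈ LinearMap.range (LinearMap.inr F V V') := by
    rintro _ ⟨v, rfl⟩
    exact ⟨N' v, by simp⟩
  refine HasType.add hc h₁ h₂ ?_ ?_
  · refine hasType_of_equiv (LinearEquiv.ofInjective (LinearMap.inl F V V') LinearMap.inl_injective)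
      ?_ h
    intro x
    apply Subtype.ext
    rw [LinearMap.coe_restrict_apply, LinearEquiv.ofInjective_apply, LinearEquiv.ofInjective_apply]
    simp
  · refine hasType_of_equiv (LinearEquiv.ofInjective (LinearMap.inr F V V') LinearMap.inr_injective)
      ?_ h'
    intro x
    apply Subtype.ext
    rw [LinearMap.coe_restrict_apply, LinearEquiv.ofInjective_apply, LinearEquiv.ofInjective_apply]
    simp

theorem prodMap_sub_one {V' : Type*} [AddCommGroup V'] [Module F V'] (X : Module.End F V)
    (X' : Module.End F V') :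
    (X.prodMap X' - 1 : Module.End F (V × V')) = (X - 1).prodMap (X' - 1) := by
  apply LinearMap.ext
  rintro ⟨a, b⟩
  simp

/-- transport of a unipotent isometry along a similarity -/
theorem exists_of_similar {V' : Type*} [AddCommGroup V'] [Module F V'] (Q : QuadraticForm F V)
    (Q' : QuadraticForm F V') (c : F) (g : V ≃ₗ[F] V') (hg : ∀ v, Q' (g v) = c * Q v)
    (X : Module.End F V) (hX : ∀ v, Q (X v) = Q v) {μ : Multiset ℕ} (hμ : HasType (X - 1) μ) :
    ∃ Y : Module.End F V', (∀ w, Q' (Y w) = Q' w) ∧ HasType (Y - 1) μ := by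
  refine ⟨g.conj X, ?_, ?_⟩
  · intro w
    rw [LinearEquiv.conj_apply_apply, hg, hX, ← hg, LinearEquiv.apply_symm_apply]
  · refine hasType_of_equiv g ?_ hμ
    intro x
    rw [LinearMap.sub_apply, LinearMap.sub_apply, LinearEquiv.conj_apply_apply,
      Module.End.one_apply, Module.End.one_apply, LinearEquiv.symm_apply_apply, map_sub]

end basic

section exist
variable {F : Type*} [Field F]

/-- existence of a unipotent isometry of each valid type, for some nondegenerate form -/
theorem exists_unip (h2 : (2 : F) ≠ 0) (μ : Multiset ℕ) (hpos : ∀ a ∈ μ, 0 < a)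
    (hpar : ∀ e, Even e → Even (μ.count e)) {κ : Type} [Fintype κ] [DecidableEq κ]
    (hκ : μ.sum = Fintype.card κ) :
    ∃ Q : QuadraticForm F (κ → F), (polarBilin Q).Nondegenerate ∧
      ∃ X : Module.End F (κ → F), (∀ v, Q (X v) = Q v) ∧ HasType (X - 1) μ := by
  classical
  obtain ⟨l, rfl⟩ := Quot.exists_rep μ
  let k : Fin l.length → ℕ := fun i => l.get i
  have hk : Finset.univ.val.map k = (l : Multiset ℕ) := by
    rw [Fin.univ_val_map, List.ofFn_get]
  have hkpos : ∀ i, 1 ≤ k i := fun i => hpos _ (by
    show l.get i ∈ (l : Multiset ℕ)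
    exact Multiset.mem_coe.2 (List.get_mem l i))
  have hcard : Fintype.card (Σ i : Fin l.length, Fin (k i)) = Fintype.card κ := by
    rw [Fintype.card_sigma]
    simp only [Fintype.card_fin]
    rw [← hκ]
    change (Finset.univ.val.map k).sum = _
    rw [hk]
    rfl
  let e : (Σ i : Fin l.length, Fin (k i)) ≃ κ := Fintype.equivOfCardEq hcard
  have hpar' : ∀ j : ℕ, Even j → 0 < j →
      Even (Finset.univ.filter (fun i : Fin l.length => k i = j)).card := by
    intro j hj _
    have h3 : (Finset.univ.filter (fun i : Fin l.length => k i = j)).card =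
        Multiset.count j (Finset.univ.val.map k) := by
      rw [Multiset.count_map]
      show Multiset.card (Multiset.filter (fun i => k i = j) Finset.univ.val) = _
      congr 1
      apply Multiset.filter_congr
      intro x _
      exact eq_comm
    rw [h3, hk]
    exact hpar j hj
  obtain ⟨Q, hQ, A, hA⟩ := Cfsg.Agent.Helper17.JordanOrthOdd.exists_isometry h2 k hkpos e hpar'
  refine ⟨Q, hQ, Cfsg.Agent.Helper17.Spinor.toEnd Q A,
    Cfsg.Agent.Helper17.Spinor.toEnd_isometry Q A, ?_⟩
  have := hasType_of_isConj k hkpos e _ hA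
  rw [hk] at this
  exact this

end exist

end Cfsg.Agent.Helper13.OrthJp
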