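import Mathlib
import Cfsg.Agent.Lib.Helper13.OrthJp3
import Cfsg.Agent.Lib.Helper17.OmegaElts

set_option autoImplicit false
set_option linter.unusedSectionVars false

/-!
# Unipotent elements of `Ω` in odd dimension and the sub-partition condition
-/

namespace Cfsg.Agent.Helper13.OrthJp

open Module Matrix QuadraticMap Cfsg.Agent.Helper13

section scalar
variable {F : Type*} [Field F] {V : Type*} [AddCommGroup V] [Module F V] [FiniteDimensional F V]

theorem not_smul_of_hasType {N : Module.End F V} {μ : Multiset ℕ} (h : HasType N μ) (a : ℕ)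
    (ha : a ∈ μ) (ha2 : 2 ≤ a) (z : F) : N ≠ z • (1 : Module.End F V) := by
  intro hz
  have hN0 : N ≠ 0 := h.ne_zero a ha ha2
  obtain ⟨k, hk⟩ := h.isNilpotent
  have hv : ∃ v, N v ≠ 0 := by
    by_contra hcon
    push Not at hcon
    exact hN0 (LinearMap.ext hcon)
  obtain ⟨v, hv⟩ := hv
  have h1 : N v = z • v := by
    rw [hz]
    rfl
  have h2 : (N ^ k) v = z ^ k • v := by
    rw [hz, _root_.smul_pow, one_pow]
    rfl
  rw [hk, LinearMap.zero_apply] at h2
  rcases smul_eq_zero.1 h2.symm with h3 | h3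
  · have hz0 : z = 0 := pow_eq_zero_iff (n := k) (by
      intro hk0
      rw [hk0, pow_zero] at h3
      exact one_ne_zero h3) |>.1 h3
    rw [h1, hz0, zero_smul] at hv
    exact hv rfl
  · rw [h1, h3, smul_zero] at hv
    exact hv rfl

end scalar

section pack
variable {F : Type*} [Field F] [Fintype F] {p : ℕ} [Fact p.Prime] [CharP F p]
  {κ : Type} [Fintype κ] [DecidableEq κ]

/-- packaging a unipotent isometry as an element of `Ω` -/
theorem exists_gl_of_unip (Q : QuadraticForm F (κ → F)) (hQ : (polarBilin Q).Nondegenerate)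
    (hex : Fintype.card F ≠ 2 ∨ Fintype.card κ ≠ 4) (hp2 : p ≠ 2)
    (Y : Module.End F (κ → F)) (hY : ∀ v, Q (Y v) = Q v) {μ : Multiset ℕ}
    (hμ : HasType (Y - 1) μ) (hle : ∀ a ∈ μ, a ≤ p) :
    ∃ x : GL κ F, x ∈ Cfsg.Geo.omegaGL (⇑Q) ∧ x ^ p = 1 ∧
      (∀ v, Q (Matrix.toLin' (x : Matrix κ κ F) v) = Q v) ∧
      HasType (Matrix.toLin' (x : Matrix κ κ F) - 1) μ := by
  have hp : p.Prime := Fact.out
  obtain ⟨x, hx, hxp, hLG⟩ := OrthSS.exists_gl_of_end (⇑Q) Y hY p hp.one_lt.le
    (pow_char_eq_one p hμ hle)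
  have hodd : Odd p := hp.odd_of_ne_two hp2
  have hΩ : (⟨x, hx⟩ : ↥(Cfsg.isometryGroup F ⇑Q)) ∈ Cfsg.Omega F ⇑Q :=
    OrthEl.mem_Omega_of_pow_odd Q hQ hex ⟨x, hx⟩ hodd (Subtype.ext hxp)
  have e : Matrix.toLin' (x : Matrix κ κ F) = Y := hLG
  refine ⟨x, Cfsg.Agent.Helper17.OmegaElts.coe_mem_omegaGL Q hΩ, hxp, ?_, ?_⟩
  · rw [e]
    exact hY
  · rw [e]
    exact hμ

/-- the conclusion for one element -/
theorem sub_type_of_gl (h2 : (2 : F) ≠ 0) (Q : QuadraticForm F (κ → F)) (x : GL κ F)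
    (hxQ : ∀ v, Q (Matrix.toLin' (x : Matrix κ κ F) v) = Q v) {μ : Multiset ℕ}
    (hμ : HasType (Matrix.toLin' (x : Matrix κ κ F) - 1) μ) (m : ℕ)
    (W : Submodule F (κ → F)) (hWm : finrank F W = m)
    (hW : Cfsg.Geo.IsNondegenerateOn (QuadraticMap.polar (⇑Q)) W)
    (hinv : W.map (Matrix.toLin' (x : Matrix κ κ F)) ≤ W) :
    ∃ ν : Multiset ℕ, ν ≤ μ ∧ ν.sum = m ∧ ∀ e, Even e → Even (ν.count e) := by
  rw [← hWm]
  refine sub_type_of_invariant h2 Q _ hxQ hμ.isNilpotent hμ W ?_ ?_
  · intro w hw hw0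
    exact (hW w hw hw0).1
  · intro w hw
    exact hinv (Submodule.mem_map_of_mem hw)

theorem all_ones_case (μ : Multiset ℕ) (hall : ∀ a ∈ μ, a = 1) (m : ℕ) (hm : m ≤ μ.sum) :
    ∃ ν : Multiset ℕ, ν ≤ μ ∧ ν.sum = m ∧ ∀ e, Even e → Even (ν.count e) := by
  have h1 : μ = Multiset.replicate (Multiset.card μ) 1 := Multiset.eq_replicate_card.2 hall
  have h2 : μ.sum = Multiset.card μ := by
    conv_lhs => rw [h1]
    rw [Multiset.sum_replicate, smul_eq_mul, mul_one]
  refine ⟨Multiset.replicate m 1, ?_, ?_, ?_⟩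
  · rw [h1, Multiset.replicate_le_replicate]
    omega
  · rw [Multiset.sum_replicate, smul_eq_mul, mul_one]
  · intro e he
    rw [Multiset.count_replicate]
    have : (1 : ℕ) ≠ e := by
      rintro rfl
      exact Nat.not_even_one he
    rw [if_neg this]
    exact Even.zero

end pack

section odd
variable {F : Type*} [Field F] [Fintype F]
  {κ : Type} [Fintype κ] [DecidableEq κ]

/-- in odd dimension every valid type occurs in every isometry group -/
theorem exists_unip_odd (h2 : (2 : F) ≠ 0) (Q : QuadraticForm F (κ → F))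
    (hQ : (polarBilin Q).Nondegenerate) (hodd : Odd (Fintype.card κ)) (μ : Multiset ℕ)
    (hpos : ∀ a ∈ μ, 0 < a) (hpar : ∀ e, Even e → Even (μ.count e))
    (hκ : μ.sum = Fintype.card κ) :
    ∃ Y : Module.End F (κ → F), (∀ v, Q (Y v) = Q v) ∧ HasType (Y - 1) μ := by
  classical
  obtain ⟨Q', hQ', X, hX, hμ⟩ := exists_unip h2 μ hpos hpar hκ
  have hD' : (Matrix.of fun i j => polar Q' (Pi.basisFun F κ i) (Pi.basisFun F κ j)).det ≠ 0 :=
    gram_det_ne_zero Q' (Pi.basisFun F κ) hQ'
  have hD : (Matrix.of fun i j => polar Q (Pi.basisFun F κ i) (Pi.basisFun F κ j)).det ≠ 0 :=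
    gram_det_ne_zero Q (Pi.basisFun F κ) hQ
  generalize hD'def : (Matrix.of fun i j => polar Q' (Pi.basisFun F κ i)
    (Pi.basisFun F κ j)).det = D' at hD'
  generalize hDdef : (Matrix.of fun i j => polar Q (Pi.basisFun F κ i)
    (Pi.basisFun F κ j)).det = D at hD
  have hc : D' * D ≠ 0 := mul_ne_zero hD' hD
  have hcQ' : (polarBilin ((D' * D) • Q')).Nondegenerate :=
    Cfsg.Agent.Helper17.Spinor.nondegenerate_smul Q' hc hQ'
  have hgram : (Matrix.of fun i j => polar (⇑((D' * D) • Q')) (Pi.basisFun F κ i)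
      (Pi.basisFun F κ j)) =
      (D' * D) • (Matrix.of fun i j => polar Q' (Pi.basisFun F κ i) (Pi.basisFun F κ j)) := by
    ext i j
    rw [Matrix.smul_apply, Matrix.of_apply, Matrix.of_apply, FunLike.coe_smul, polar_smul]
  obtain ⟨n, hn⟩ := hodd
  have hsq : IsSquare ((Matrix.of fun i j => polar (⇑((D' * D) • Q')) (Pi.basisFun F κ i)
      (Pi.basisFun F κ j)).det *
      (Matrix.of fun i j => polar Q (Pi.basisFun F κ i) (Pi.basisFun F κ j)).det) := by
    rw [hgram, Matrix.det_smul, hn, hD'def, hDdef]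
    exact ⟨(D' * D) ^ (n + 1), by ring⟩
  obtain ⟨g, hg⟩ := equiv_of_disc_idx h2 ((D' * D) • Q') Q hcQ' hQ (Pi.basisFun F κ)
    (Pi.basisFun F κ) rfl hsq
  exact exists_of_similar Q' Q (D' * D) g (fun v => by rw [hg]; rfl) X hX hμ

end odd

section oddmain
variable {F : Type*} [Field F] [Fintype F] {p : ℕ} [Fact p.Prime] [CharP F p]
  {κ : Type} [Fintype κ] [DecidableEq κ]

/-- the necessary condition in odd dimension -/
theorem odd_main (h2 : (2 : F) ≠ 0) (Q : QuadraticForm F (κ → F))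
    (hQ : (polarBilin Q).Nondegenerate) (hodd : Odd (Fintype.card κ)) (m : ℕ)
    (hm : m ≤ Fintype.card κ)
    (H : ∀ x : GL κ F, x ∈ Cfsg.Geo.omegaGL (⇑Q) → orderOf x = p →
      ∃ W : Submodule F (κ → F), (finrank F W = m ∧
        Cfsg.Geo.IsNondegenerateOn (QuadraticMap.polar (⇑Q)) W ∧ Cfsg.Geo.IsPlusTypeOn (⇑Q) W) ∧
        W.map (Matrix.toLin' (x : Matrix κ κ F)) ≤ W)
    (μ : Multiset ℕ) (hμ : ∀ e ∈ μ, 0 < e ∧ e ≤ p) (hpar : ∀ e, Even e → Even (μ.count e))
    (hsum : μ.sum = Fintype.card κ) :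
    ∃ ν : Multiset ℕ, ν ≤ μ ∧ ν.sum = m ∧ ∀ e, Even e → Even (ν.count e) := by
  have hp : p.Prime := Fact.out
  have hp2 : p ≠ 2 := by
    rintro rfl
    apply h2
    have := CharP.cast_eq_zero F 2
    exact_mod_cast this
  by_cases hall : ∀ a ∈ μ, a = 1
  · exact all_ones_case μ hall m (by omega)
  push Not at hall
  obtain ⟨a, ha, ha1⟩ := hall
  have ha2 : 2 ≤ a := by
    have := (hμ a ha).1
    omega
  obtain ⟨Y, hY, hYμ⟩ := exists_unip_odd h2 Q hQ hodd μ (fun a ha => (hμ a ha).1) hpar hsum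
  have hex : Fintype.card F ≠ 2 ∨ Fintype.card κ ≠ 4 := by
    right
    intro h4
    rw [h4] at hodd
    exact absurd hodd (by decide)
  obtain ⟨x, hxΩ, hxp, hxQ, hxμ⟩ := exists_gl_of_unip Q hQ hex hp2 Y hY hYμ
    (fun a ha => (hμ a ha).2)
  have hx1 : x ≠ 1 := by
    intro h1
    apply hxμ.ne_zero a ha ha2
    rw [h1, Units.val_one, Matrix.toLin'_one]
    exact sub_self _
  obtain ⟨W, ⟨hWm, hWnd, -⟩, hinv⟩ := H x hxΩ (orderOf_eq_prime hxp hx1)
  exact sub_type_of_gl h2 Q x hxQ hxμ m W hWm hWnd hinv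

end oddmain

section comb

theorem sum_of_le_two_vals (ν : Multiset ℕ) (a k : ℕ) (ha : a ≠ 2)
    (h : ν ≤ a ::ₘ Multiset.replicate k 2) :
    ν.count a ≤ 1 ∧ ν.sum = ν.count a * a + 2 * ν.count 2 := by
  have hc : ∀ e, ν.count e ≤ (if e = a then 1 else 0) + (if e = 2 then k else 0) := by
    intro e
    have := Multiset.le_iff_count.1 h e
    rw [Multiset.count_cons, Multiset.count_replicate] at this
    by_cases h1 : e = a
    · by_cases h2 : e = 2
      · exfalso
        exact ha (h1 ▸ h2)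
      · rw [if_pos h1, if_neg h2]
        rw [if_neg (Ne.symm h2), if_pos h1] at this
        omega
    · by_cases h2 : e = 2
      · rw [if_neg h1, if_pos h2]
        rw [if_pos h2.symm, if_neg h1] at this
        omega
      · rw [if_neg h1, if_neg h2]
        rw [if_neg (Ne.symm h2), if_neg h1] at this
        omega
  have heq : ν = Multiset.replicate (ν.count a) a + Multiset.replicate (ν.count 2) 2 := by
    ext e
    rw [Multiset.count_add, Multiset.count_replicate, Multiset.count_replicate]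
    by_cases h1 : e = a
    · subst h1
      rw [if_pos rfl, if_neg (Ne.symm ha), add_zero]
    · by_cases h2 : e = 2
      · subst h2
        rw [if_neg (Ne.symm h1), if_pos rfl, zero_add]
      · rw [if_neg (Ne.symm h1), if_neg (Ne.symm h2)]
        have := hc e
        rw [if_neg h1, if_neg h2] at this
        omega
  refine ⟨?_, ?_⟩
  · have := hc a
    rw [if_pos rfl, if_neg ha] at this
    omega
  · conv_lhs => rw [heq]
    rw [Multiset.sum_add, Multiset.sum_replicate, Multiset.sum_replicate, smul_eq_mul,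
      smul_eq_mul]
    ring

/-- the congruence `m ≡ 0 (mod 4)` forced by the types `(3, 2^{d-1})` and `(2^d, 1)` -/
theorem mod_four (d m p : ℕ) (hp3 : 3 ≤ p) (hme : Even m)
    (hcomb : ∀ μ : Multiset ℕ, (∀ e ∈ μ, 0 < e ∧ e ≤ p) → (∀ e : ℕ, Even e → Even (μ.count e)) →
      μ.sum = 2 * d + 1 →
      ∃ ν : Multiset ℕ, ν ≤ μ ∧ ν.sum = m ∧ ∀ e : ℕ, Even e → Even (ν.count e)) (hd : 1 ≤ d) :
    m % 4 = 0 := by
  rcases Nat.even_or_odd d with hde | hdo
  · -- the type `(1, 2^d)`
    obtain ⟨ν, hle, hsum, hpar⟩ := hcomb (1 ::ₘ Multiset.replicate d 2) (by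
        intro e he
        rcases Multiset.mem_cons.1 he with h | h
        · subst h
          omega
        · rw [Multiset.eq_of_mem_replicate h]
          omega) (by
        intro e he
        rw [Multiset.count_cons, Multiset.count_replicate]
        have h1 : e ≠ 1 := by
          rintro rfl
          exact Nat.not_even_one he
        rw [if_neg h1, add_zero]
        split_ifs
        · exact hde
        · exact Even.zero) (by
        rw [Multiset.sum_cons, Multiset.sum_replicate, smul_eq_mul]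
        ring)
    obtain ⟨h1, h2⟩ := sum_of_le_two_vals ν 1 d (by omega) hle
    obtain ⟨t, ht⟩ := hpar 2 (by decide)
    obtain ⟨s, hs⟩ := hme
    omega
  · -- the type `(3, 2^{d-1})`
    obtain ⟨ν, hle, hsum, hpar⟩ := hcomb (3 ::ₘ Multiset.replicate (d - 1) 2) (by
        intro e he
        rcases Multiset.mem_cons.1 he with h | h
        · subst h
          omega
        · rw [Multiset.eq_of_mem_replicate h]
          omega) (by
        intro e he
        rw [Multiset.count_cons, Multiset.count_replicate]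
        have h1 : e ≠ 3 := by
          rintro rfl
          exact absurd he (by decide)
        rw [if_neg h1, add_zero]
        split_ifs
        · obtain ⟨t, ht⟩ := hdo
          exact ⟨t, by omega⟩
        · exact Even.zero) (by
        rw [Multiset.sum_cons, Multiset.sum_replicate, smul_eq_mul]
        omega)
    obtain ⟨h1, h2⟩ := sum_of_le_two_vals ν 3 (d - 1) (by omega) hle
    obtain ⟨t, ht⟩ := hpar 2 (by decide)
    obtain ⟨s, hs⟩ := hme
    omega

end comb

end Cfsg.Agent.Helper13.OrthJp
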