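import Mathlib
import Cfsg.Prelude.Def_GeometricClasses
import Cfsg.Agent.Lib.Helper13.MonomialDecomp

set_option autoImplicit false
set_option linter.unusedSectionVars false

/-!
# Direct sum decompositions of `F^n` into subspaces of equal dimension: the model space
-/

namespace Cfsg.Agent.Helper13.SlDec

open Module Cfsg.Agent.Helper13.Elus

universe u

section model
variable {F : Type u} [Field F] {n a t : ℕ}

/-- the decomposition defined by an equivalence from the model space -/
noncomputable def decompOfG (Φ : (Fin t → (Fin a → F)) ≃ₗ[F] (Fin n → F)) :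
    Fin t → Submodule F (Fin n → F) :=
  fun j => LinearMap.range ((Φ : (Fin t → (Fin a → F)) →ₗ[F] (Fin n → F)) ∘ₗ
    LinearMap.single F (fun _ : Fin t => (Fin a → F)) j)

theorem mem_decompOfG (Φ : (Fin t → (Fin a → F)) ≃ₗ[F] (Fin n → F)) (j : Fin t)
    (v : Fin n → F) : v ∈ decompOfG Φ j ↔ ∃ u, Φ (Pi.single j u) = v := by
  unfold decompOfG
  rw [LinearMap.mem_range]
  rfl

theorem single_mem_decompOfG (Φ : (Fin t → (Fin a → F)) ≃ₗ[F] (Fin n → F))
    (j : Fin t) (u : Fin a → F) : Φ (Pi.single j u) ∈ decompOfG Φ j :=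
  (mem_decompOfG Φ j _).2 ⟨u, rfl⟩

theorem mem_decompOfG_iff (Φ : (Fin t → (Fin a → F)) ≃ₗ[F] (Fin n → F)) (j : Fin t)
    (v : Fin n → F) : v ∈ decompOfG Φ j ↔ ∀ j', j' ≠ j → Φ.symm v j' = 0 := by
  rw [mem_decompOfG]
  constructor
  · rintro ⟨u, rfl⟩ j' hj'
    rw [Φ.symm_apply_apply, Pi.single_eq_of_ne hj']
  · intro h
    refine ⟨Φ.symm v j, ?_⟩
    have h1 : (Pi.single j (Φ.symm v j) : Fin t → (Fin a → F)) = Φ.symm v := by
      funext j'
      by_cases hj' : j' = j
      · subst hj'
        rw [Pi.single_eq_same]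
      · rw [Pi.single_eq_of_ne hj', h j' hj']
    rw [h1, Φ.apply_symm_apply]

theorem isMDecomp_decompOfG (ht : 2 ≤ t) (ha : 0 < a)
    (Φ : (Fin t → (Fin a → F)) ≃ₗ[F] (Fin n → F)) :
    Cfsg.Geo.IsMDecomposition a (decompOfG Φ) := by
  refine ⟨ht, ha, ?_, ?_, ?_⟩
  · intro j
    unfold decompOfG
    rw [LinearMap.finrank_range_of_inj]
    · rw [Module.finrank_fin_fun]
    · intro u u' h
      have := Φ.injective h
      exact Pi.single_injective j this
  · intro j
    rw [Submodule.disjoint_def]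
    intro v hv hv'
    have h1 : (⨆ (j') (_ : j' ≠ j), decompOfG Φ j') ≤
        LinearMap.ker ((LinearMap.proj j : (Fin t → (Fin a → F)) →ₗ[F] _) ∘ₗ
          (Φ.symm : (Fin n → F) →ₗ[F] (Fin t → (Fin a → F)))) := by
      apply iSup₂_le
      intro j' hj' x hx
      rw [LinearMap.mem_ker]
      exact (mem_decompOfG_iff Φ j' x).1 hx j (Ne.symm hj')
    have h2 : Φ.symm v j = 0 := LinearMap.mem_ker.1 (h1 hv')
    have h3 : Φ.symm v = 0 := by
      funext j'
      by_cases hj' : j' = j
      · rw [hj', h2]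
        rfl
      · exact (mem_decompOfG_iff Φ j v).1 hv j' hj'
    have := Φ.apply_symm_apply v
    rw [h3, map_zero] at this
    exact this.symm
  · rw [eq_top_iff]
    intro v _
    have h1 : v = ∑ j, Φ (Pi.single j (Φ.symm v j)) := by
      rw [← map_sum, Finset.univ_sum_single, Φ.apply_symm_apply]
    rw [h1]
    apply Submodule.sum_mem
    intro j _
    exact Submodule.mem_iSup_of_mem j (single_mem_decompOfG Φ j _)

/-- components of a zero sum in an independent family vanish -/
theorem eq_zero_of_sum_eq_zero {V : Type*} [AddCommGroup V] [Module F V]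
    (D : Fin t → Submodule F V) (hD : iSupIndep D) (v : Fin t → V) (hv : ∀ j, v j ∈ D j)
    (hsum : ∑ j, v j = 0) (j : Fin t) : v j = 0 := by
  have h1 : v j + ∑ j' ∈ Finset.univ.erase j, v j' = 0 := by
    rw [Finset.add_sum_erase _ _ (Finset.mem_univ j)]
    exact hsum
  have h2 : v j = - ∑ j' ∈ Finset.univ.erase j, v j' := eq_neg_of_add_eq_zero_left h1
  have h3 : ∑ j' ∈ Finset.univ.erase j, v j' ∈ ⨆ (j') (_ : j' ≠ j), D j' := by
    apply Submodule.sum_mem
    intro j' hj'
    have hne : j' ≠ j := Finset.ne_of_mem_erase hj'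
    exact Submodule.mem_iSup_of_mem j' (Submodule.mem_iSup_of_mem hne (hv j'))
  have h4 : v j ∈ ⨆ (j') (_ : j' ≠ j), D j' := by
    rw [h2]
    exact Submodule.neg_mem _ h3
  exact Submodule.disjoint_def.1 (hD j) (v j) (hv j) h4

theorem exists_equiv_of_isMDecomp (hat : n = a * t)
    (D : Fin t → Submodule F (Fin n → F)) (hD : Cfsg.Geo.IsMDecomposition a D) :
    ∃ Φ : (Fin t → (Fin a → F)) ≃ₗ[F] (Fin n → F), decompOfG Φ = D := by
  have e : ∀ j, D j ≃ₗ[F] (Fin a → F) := fun j =>
    LinearEquiv.ofFinrankEq _ _ (by rw [hD.finrank_eq j, Module.finrank_fin_fun])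
  set Φ₀ : (Fin t → (Fin a → F)) →ₗ[F] (Fin n → F) :=
    ∑ j, (D j).subtype ∘ₗ ((e j).symm : (Fin a → F) →ₗ[F] D j) ∘ₗ LinearMap.proj j
    with hΦ₀
  have hΦ₀a : ∀ w, Φ₀ w = ∑ j, (((e j).symm (w j) : D j) : Fin n → F) := by
    intro w
    rw [hΦ₀, LinearMap.sum_apply]
    rfl
  have hinj : Function.Injective Φ₀ := by
    rw [injective_iff_map_eq_zero]
    intro w hw
    rw [hΦ₀a] at hw
    funext j
    have h1 := eq_zero_of_sum_eq_zero D hD.indep
      (fun j => (((e j).symm (w j) : D j) : Fin n → F)) (fun j => Subtype.mem _) hw j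
    have h2 : (e j).symm (w j) = 0 := Subtype.ext h1
    have h3 := congrArg (e j) h2
    rw [LinearEquiv.apply_symm_apply, map_zero] at h3
    exact h3
  have hfr : finrank F (Fin t → (Fin a → F)) = finrank F (Fin n → F) := by
    rw [Module.finrank_pi_fintype]
    simp only [Module.finrank_fin_fun, Finset.sum_const, Finset.card_univ, Fintype.card_fin,
      smul_eq_mul]
    rw [hat, mul_comm]
  set Φ := LinearMap.linearEquivOfInjective Φ₀ hinj hfr with hΦ
  have hΦa : ∀ w, Φ w = Φ₀ w := fun w => LinearMap.linearEquivOfInjective_apply hinj hfr w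
  refine ⟨Φ, ?_⟩
  funext j
  ext v
  rw [mem_decompOfG]
  constructor
  · rintro ⟨u, rfl⟩
    rw [hΦa, hΦ₀a, Finset.sum_eq_single j]
    · exact Subtype.mem _
    · intro j' _ hj'
      rw [Pi.single_eq_of_ne hj', map_zero]
      rfl
    · intro h
      exact absurd (Finset.mem_univ j) h
  · intro hv
    refine ⟨e j ⟨v, hv⟩, ?_⟩
    rw [hΦa, hΦ₀a, Finset.sum_eq_single j]
    · rw [Pi.single_eq_same, LinearEquiv.symm_apply_apply]
    · intro j' _ hj'
      rw [Pi.single_eq_of_ne hj', map_zero]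
      rfl
    · intro h
      exact absurd (Finset.mem_univ j) h

theorem isMDecomp_injective (D : Fin t → Submodule F (Fin n → F))
    (hD : Cfsg.Geo.IsMDecomposition a D) : Function.Injective D := by
  apply hD.indep.injective
  intro j h
  have h1 := hD.finrank_eq j
  rw [h, finrank_bot] at h1
  have := hD.pos
  omega

/-- an injective map sending each summand into a summand permutes the summands -/
theorem exists_perm_of_map_le (D : Fin t → Submodule F (Fin n → F))
    (hD : Cfsg.Geo.IsMDecomposition a D) (f : Module.End F (Fin n → F))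
    (hf : Function.Injective f) (σ₀ : Fin t → Fin t) (h : ∀ j, (D j).map f ≤ D (σ₀ j)) :
    ∃ σ : Equiv.Perm (Fin t), ∀ j, (D j).map f = D (σ j) := by
  have heq : ∀ j, (D j).map f = D (σ₀ j) := by
    intro j
    apply Submodule.eq_of_le_of_finrank_eq (h j)
    have h6 : finrank F ↥((D j).map f) = finrank F ↥(D j) :=
      (Submodule.equivMapOfInjective f hf _).symm.finrank_eq
    rw [h6, hD.finrank_eq, hD.finrank_eq]
  have hinj : Function.Injective σ₀ := by
    intro j j' hjj'
    have h1 : (D j).map f = (D j').map f := by rw [heq, heq, hjj']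
    exact isMDecomp_injective D hD (Submodule.map_injective_of_injective hf h1)
  exact ⟨Equiv.ofBijective σ₀ (Finite.injective_iff_bijective.1 hinj), heq⟩

/-- a map which is monomial with respect to a basis compatible with a block structure
stabilises the corresponding decomposition -/
theorem exists_decomp_of_blocks (ht : 2 ≤ t) (ha : 0 < a) {I : Type*} [Fintype I]
    (b : Basis I F (Fin n → F)) (β : I → ℕ) (hβt : ∀ i, β i < t)
    (hβa : ∀ j, j < t → (Finset.univ.filter (fun i => β i = j)).card = a)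
    (f : Module.End F (Fin n → F)) (hf : Function.Injective f) (π : I → I) (σ₀ : ℕ → ℕ)
    (hσ₀ : ∀ j, j < t → σ₀ j < t) (hfb : ∀ i, f (b i) ∈ Submodule.span F {b (π i)})
    (hβπ : ∀ i, β (π i) = σ₀ (β i)) :
    ∃ D : Fin t → Submodule F (Fin n → F), Cfsg.Geo.IsMDecomposition a D ∧
      ∃ σ : Equiv.Perm (Fin t), ∀ j, (D j).map f = D (σ j) := by
  classical
  have hD : Cfsg.Geo.IsMDecomposition a (fun j : Fin t => blockSpan b β (j : ℕ)) := by
    refine ⟨ht, ha, ?_, iSupIndep_blockSpan b β t, iSup_blockSpan b β t hβt⟩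
    intro j
    rw [finrank_blockSpan]
    convert hβa j j.2
  refine ⟨_, hD, ?_⟩
  apply exists_perm_of_map_le _ hD f hf (fun j => ⟨σ₀ j, hσ₀ j j.2⟩)
  intro j
  exact map_blockSpan_le f b β σ₀ π hfb hβπ (j : ℕ)

end model

end Cfsg.Agent.Helper13.SlDec
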