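import Mathlib
import Cfsg.Prelude.Def_GeometricClasses
import Cfsg.Prelude.Def_ClassicalGeometry
import Cfsg.Agent.Lib.Helper28.SympIso

set_option autoImplicit false
set_option linter.unusedSectionVars false

/-!
# Orthogonal decompositions of a symplectic space: the model space
-/

namespace Cfsg.Agent.Helper13.SpDec

open Module Cfsg.Agent.Helper28.SympIso

universe u

section model
variable {F : Type u} [Field F] {d s t : ℕ}

/-- the orthogonal decompositions into nondegenerate subspaces -/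
def Good (d a : ℕ) {t : ℕ} (D : Fin t → Submodule F (Fin d ⊕ Fin d → F)) : Prop :=
  Cfsg.Geo.IsMDecomposition a D ∧
    (∀ j, ∀ u ∈ D j, u ≠ 0 → ∃ v ∈ D j, Cfsg.sympForm d F u v ≠ 0) ∧
    (∀ j j', j ≠ j' → ∀ u ∈ D j, ∀ v ∈ D j', Cfsg.sympForm d F u v = 0)

theorem sympForm_zero_left (v : Fin s ⊕ Fin s → F) : Cfsg.sympForm s F 0 v = 0 := by
  rw [← sympBil_apply, map_zero, LinearMap.zero_apply]

theorem sympForm_zero_right (u : Fin s ⊕ Fin s → F) : Cfsg.sympForm s F u 0 = 0 := by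
  rw [← sympBil_apply, map_zero]

theorem exists_sympForm_ne_zero (u : Fin s ⊕ Fin s → F) (hu : u ≠ 0) :
    ∃ v, Cfsg.sympForm s F u v ≠ 0 := by
  by_contra hcon
  push Not at hcon
  apply hu
  apply (sympBil_nondegenerate (F := F) s).1
  intro v
  rw [sympBil_apply]
  exact hcon v

/-- the form of the model space -/
noncomputable def modelForm (t s : ℕ) (F : Type u) [Field F] :
    LinearMap.BilinForm F (Fin t → (Fin s ⊕ Fin s → F)) :=
  ∑ j, (sympBil s F).compl₁₂ (LinearMap.proj j) (LinearMap.proj j)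

theorem modelForm_apply (w w' : Fin t → (Fin s ⊕ Fin s → F)) :
    modelForm t s F w w' = ∑ j, Cfsg.sympForm s F (w j) (w' j) := by
  unfold modelForm
  rw [LinearMap.sum_apply, LinearMap.sum_apply]
  apply Finset.sum_congr rfl
  intro j _
  rw [LinearMap.compl₁₂_apply, sympBil_apply]
  rfl

theorem sum_single_left (j : Fin t) (u : Fin s ⊕ Fin s → F) (w' : Fin t → (Fin s ⊕ Fin s → F)) :
    ∑ l, Cfsg.sympForm s F ((Pi.single j u : Fin t → (Fin s ⊕ Fin s → F)) l) (w' l)
      = Cfsg.sympForm s F u (w' j) := by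
  rw [Finset.sum_eq_single j]
  · rw [Pi.single_eq_same]
  · intro l _ hl
    rw [Pi.single_eq_of_ne hl, sympForm_zero_left]
  · intro h
    exact absurd (Finset.mem_univ j) h

theorem sum_single_right (j : Fin t) (u : Fin s ⊕ Fin s → F) (w : Fin t → (Fin s ⊕ Fin s → F)) :
    ∑ l, Cfsg.sympForm s F (w l) ((Pi.single j u : Fin t → (Fin s ⊕ Fin s → F)) l)
      = Cfsg.sympForm s F (w j) u := by
  rw [Finset.sum_eq_single j]
  · rw [Pi.single_eq_same]
  · intro l _ hl
    rw [Pi.single_eq_of_ne hl, sympForm_zero_right]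
  · intro h
    exact absurd (Finset.mem_univ j) h

theorem modelForm_isAlt : (modelForm t s F).IsAlt := by
  intro w
  rw [modelForm_apply]
  apply Finset.sum_eq_zero
  intro j _
  rw [← sympBil_apply]
  exact sympBil_isAlt s (w j)

theorem modelForm_sepLeft (w : Fin t → (Fin s ⊕ Fin s → F))
    (hw : ∀ w' : Fin t → (Fin s ⊕ Fin s → F), ∑ j, Cfsg.sympForm s F (w j) (w' j) = 0) :
    w = 0 := by
  funext j
  apply (sympBil_nondegenerate (F := F) s).1
  intro v
  have := hw (Pi.single j v)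
  rw [sum_single_right] at this
  rw [sympBil_apply]
  exact this

theorem modelForm_nondegenerate : (modelForm t s F).Nondegenerate := by
  have halt : (modelForm t s F).IsAlt := modelForm_isAlt
  apply (halt.isRefl.nondegenerate_iff_separatingLeft).2
  intro w hw
  apply modelForm_sepLeft
  intro w'
  rw [← modelForm_apply]
  exact hw w'

theorem finrank_model : finrank F (Fin t → (Fin s ⊕ Fin s → F)) = t * (s + s) := by
  rw [Module.finrank_pi_fintype]
  simp only [Module.finrank_fintype_fun_eq_card, Fintype.card_sum, Fintype.card_fin,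
    Finset.sum_const, Finset.card_univ, smul_eq_mul]

/-- isometries from the model space -/
def IsIso (Φ : (Fin t → (Fin s ⊕ Fin s → F)) ≃ₗ[F] (Fin d ⊕ Fin d → F)) : Prop :=
  ∀ w w', Cfsg.sympForm d F (Φ w) (Φ w') = ∑ j, Cfsg.sympForm s F (w j) (w' j)

/-- the decomposition defined by an equivalence from the model space -/
noncomputable def decompOf (Φ : (Fin t → (Fin s ⊕ Fin s → F)) ≃ₗ[F] (Fin d ⊕ Fin d → F)) :
    Fin t → Submodule F (Fin d ⊕ Fin d → F) :=
  fun j => LinearMap.range ((Φ : (Fin t → (Fin s ⊕ Fin s → F)) →ₗ[F] (Fin d ⊕ Fin d → F)) ∘ₗ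
    LinearMap.single F (fun _ : Fin t => (Fin s ⊕ Fin s → F)) j)

theorem mem_decompOf (Φ : (Fin t → (Fin s ⊕ Fin s → F)) ≃ₗ[F] (Fin d ⊕ Fin d → F)) (j : Fin t)
    (v : Fin d ⊕ Fin d → F) : v ∈ decompOf Φ j ↔ ∃ u, Φ (Pi.single j u) = v := by
  unfold decompOf
  rw [LinearMap.mem_range]
  rfl

theorem single_mem_decompOf (Φ : (Fin t → (Fin s ⊕ Fin s → F)) ≃ₗ[F] (Fin d ⊕ Fin d → F))
    (j : Fin t) (u : Fin s ⊕ Fin s → F) : Φ (Pi.single j u) ∈ decompOf Φ j :=
  (mem_decompOf Φ j _).2 ⟨u, rfl⟩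

theorem mem_decompOf_iff (Φ : (Fin t → (Fin s ⊕ Fin s → F)) ≃ₗ[F] (Fin d ⊕ Fin d → F)) (j : Fin t)
    (v : Fin d ⊕ Fin d → F) : v ∈ decompOf Φ j ↔ ∀ j', j' ≠ j → Φ.symm v j' = 0 := by
  rw [mem_decompOf]
  constructor
  · rintro ⟨u, rfl⟩ j' hj'
    rw [Φ.symm_apply_apply, Pi.single_eq_of_ne hj']
  · intro h
    refine ⟨Φ.symm v j, ?_⟩
    have h1 : (Pi.single j (Φ.symm v j) : Fin t → (Fin s ⊕ Fin s → F)) = Φ.symm v := by
      funext j'
      by_cases hj' : j' = j
      · subst hj'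
        rw [Pi.single_eq_same]
      · rw [Pi.single_eq_of_ne hj', h j' hj']
    rw [h1, Φ.apply_symm_apply]

theorem good_decompOf (ht : 2 ≤ t) (hs : 0 < s)
    (Φ : (Fin t → (Fin s ⊕ Fin s → F)) ≃ₗ[F] (Fin d ⊕ Fin d → F)) (hΦ : IsIso Φ) :
    Good d (s + s) (decompOf Φ) := by
  refine ⟨⟨ht, by omega, ?_, ?_, ?_⟩, ?_, ?_⟩
  · intro j
    unfold decompOf
    rw [LinearMap.finrank_range_of_inj]
    · rw [Module.finrank_fintype_fun_eq_card, Fintype.card_sum, Fintype.card_fin]
    · intro u u' h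
      have := Φ.injective h
      exact Pi.single_injective j this
  · intro j
    rw [Submodule.disjoint_def]
    intro v hv hv'
    have h1 : (⨆ (j') (_ : j' ≠ j), decompOf Φ j') ≤
        LinearMap.ker ((LinearMap.proj j : (Fin t → (Fin s ⊕ Fin s → F)) →ₗ[F] _) ∘ₗ
          (Φ.symm : (Fin d ⊕ Fin d → F) →ₗ[F] (Fin t → (Fin s ⊕ Fin s → F)))) := by
      apply iSup₂_le
      intro j' hj' x hx
      rw [LinearMap.mem_ker]
      exact (mem_decompOf_iff Φ j' x).1 hx j (Ne.symm hj')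
    have h2 : Φ.symm v j = 0 := LinearMap.mem_ker.1 (h1 hv')
    have h3 : Φ.symm v = 0 := by
      funext j'
      by_cases hj' : j' = j
      · rw [hj', h2]
        rfl
      · exact (mem_decompOf_iff Φ j v).1 hv j' hj'
    have := Φ.apply_symm_apply v
    rw [h3, map_zero] at this
    exact this.symm
  · rw [eq_top_iff]
    intro v _
    have h1 : v = ∑ j, Φ (Pi.single j (Φ.symm v j)) := by
      rw [← map_sum, Finset.univ_sum_single, Φ.apply_symm_apply]
    rw [h1]
    apply Submodule.sum_mem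
    intro j _
    exact Submodule.mem_iSup_of_mem j (single_mem_decompOf Φ j _)
  · intro j u hu hu0
    obtain ⟨u₀, rfl⟩ := (mem_decompOf Φ j u).1 hu
    have hu₀ : u₀ ≠ 0 := by
      rintro rfl
      apply hu0
      rw [Pi.single_zero, map_zero]
    obtain ⟨v₀, hv₀⟩ := exists_sympForm_ne_zero u₀ hu₀
    refine ⟨Φ (Pi.single j v₀), single_mem_decompOf Φ j _, ?_⟩
    rw [hΦ, sum_single_left, Pi.single_eq_same]
    exact hv₀
  · intro j j' hjj' u hu v hv
    obtain ⟨u₀, rfl⟩ := (mem_decompOf Φ j u).1 hu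
    obtain ⟨v₀, rfl⟩ := (mem_decompOf Φ j' v).1 hv
    rw [hΦ, sum_single_left, Pi.single_eq_of_ne hjj', sympForm_zero_right]

theorem exists_iso (hdim : d + d = t * (s + s)) :
    ∃ Φ : (Fin t → (Fin s ⊕ Fin s → F)) ≃ₗ[F] (Fin d ⊕ Fin d → F), IsIso Φ := by
  obtain ⟨e, he⟩ := exists_symp_equiv (modelForm t s F) modelForm_isAlt modelForm_nondegenerate d
    (by rw [finrank_model]; omega)
  refine ⟨e, fun w w' => ?_⟩
  rw [← sympBil_apply, he, modelForm_apply]

theorem exists_iso_of_good (hdim : d + d = t * (s + s))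
    (D : Fin t → Submodule F (Fin d ⊕ Fin d → F)) (hD : Good d (s + s) D) :
    ∃ Φ : (Fin t → (Fin s ⊕ Fin s → F)) ≃ₗ[F] (Fin d ⊕ Fin d → F), IsIso Φ ∧ decompOf Φ = D := by
  obtain ⟨hdec, hnd, horth⟩ := hD
  have hex : ∀ j, ∃ e : D j ≃ₗ[F] (Fin s ⊕ Fin s → F), ∀ x y : D j,
      Cfsg.sympForm s F (e x) (e y)
        = Cfsg.sympForm d F (x : Fin d ⊕ Fin d → F) (y : Fin d ⊕ Fin d → F) := by
    intro j
    set B : LinearMap.BilinForm F (D j) := (sympBil d F).domRestrict₁₂ (D j) (D j) with hB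
    have hBa : ∀ x y : D j, B x y
        = Cfsg.sympForm d F (x : Fin d ⊕ Fin d → F) (y : Fin d ⊕ Fin d → F) := by
      intro x y
      rw [← sympBil_apply]
      rfl
    have halt : B.IsAlt := by
      intro x
      rw [hBa, ← sympBil_apply]
      exact sympBil_isAlt d _
    have hnd' : B.Nondegenerate := by
      apply (halt.isRefl.nondegenerate_iff_separatingLeft).2
      intro x hx
      by_contra hx0
      obtain ⟨v, hv, hne⟩ := hnd j x x.2 (fun h => hx0 (Subtype.ext h))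
      apply hne
      have := hx ⟨v, hv⟩
      rwa [hBa] at this
    obtain ⟨e, he⟩ := exists_symp_equiv B halt hnd' s (by rw [hdec.finrank_eq j]; ring)
    refine ⟨e, fun x y => ?_⟩
    rw [← sympBil_apply, he, hBa]
  choose e he using hex
  set Φ₀ : (Fin t → (Fin s ⊕ Fin s → F)) →ₗ[F] (Fin d ⊕ Fin d → F) :=
    ∑ j, (D j).subtype ∘ₗ ((e j).symm : (Fin s ⊕ Fin s → F) →ₗ[F] D j) ∘ₗ LinearMap.proj j
    with hΦ₀
  have hΦ₀a : ∀ w, Φ₀ w = ∑ j, (((e j).symm (w j) : D j) : Fin d ⊕ Fin d → F) := by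
    intro w
    rw [hΦ₀, LinearMap.sum_apply]
    rfl
  have hiso : ∀ w w', Cfsg.sympForm d F (Φ₀ w) (Φ₀ w')
      = ∑ j, Cfsg.sympForm s F (w j) (w' j) := by
    intro w w'
    rw [hΦ₀a, hΦ₀a, ← sympBil_apply, map_sum]
    apply Finset.sum_congr rfl
    intro j _
    rw [map_sum, LinearMap.sum_apply, Finset.sum_eq_single j]
    · rw [sympBil_apply, ← he j, LinearEquiv.apply_symm_apply, LinearEquiv.apply_symm_apply]
    · intro j' _ hj'
      rw [sympBil_apply]
      exact horth j' j hj' _ (Subtype.mem _) _ (Subtype.mem _)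
    · intro h
      exact absurd (Finset.mem_univ j) h
  have hinj : Function.Injective Φ₀ := by
    rw [injective_iff_map_eq_zero]
    intro w hw
    apply modelForm_sepLeft
    intro w'
    rw [← hiso, hw, sympForm_zero_left]
  have hfr : finrank F (Fin t → (Fin s ⊕ Fin s → F)) = finrank F (Fin d ⊕ Fin d → F) := by
    rw [finrank_model, Module.finrank_fintype_fun_eq_card, Fintype.card_sum, Fintype.card_fin]
    omega
  set Φ := LinearMap.linearEquivOfInjective Φ₀ hinj hfr with hΦ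
  have hΦa : ∀ w, Φ w = Φ₀ w := fun w => LinearMap.linearEquivOfInjective_apply hinj hfr w
  refine ⟨Φ, fun w w' => by rw [hΦa, hΦa, hiso], ?_⟩
  funext j
  ext v
  rw [mem_decompOf]
  constructor
  · rintro ⟨u, rfl⟩
    rw [hΦa, hΦ₀a, Finset.sum_eq_single j]
    · exact Subtype.mem _
    · intro j' _ hj'
      rw [Pi.single_eq_of_ne hj', map_zero]
      rfl
    · intro h
      exact absurd (Finset.mem_univ j) h
  · intro hv
    refine ⟨e j ⟨v, hv⟩, ?_⟩
    rw [hΦa, hΦ₀a, Finset.sum_eq_single j]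
    · rw [Pi.single_eq_same, LinearEquiv.symm_apply_apply]
    · intro j' _ hj'
      rw [Pi.single_eq_of_ne hj', map_zero]
      rfl
    · intro h
      exact absurd (Finset.mem_univ j) h

end model

end Cfsg.Agent.Helper13.SpDec
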