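import Mathlib
import Cfsg.Agent.Lib.Helper13.SympPrime

set_option autoImplicit false
set_option linter.unusedSectionVars false

/-!
# Elements of odd prime order of symplectic groups: the fixed space
-/

namespace Cfsg.Agent.Helper13.SpDec

open Polynomial Module Cfsg.Agent.Helper13.SS Cfsg.Agent.Helper13.Dual
  Cfsg.Agent.Helper13.SympSS
open scoped Classical

universe u

section struct
variable {F : Type u} [Field F] [Fintype F] {p : ℕ} [Fact p.Prime] [CharP F p] {r q : ℕ}

/-- the structure of an isometry of odd prime order of a symplectic space -/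
theorem struct_altInv (hF : Fintype.card F = q) (hr : r.Prime) (hr2 : r ≠ 2) (hrp : r ≠ p)
    {V : Type*} [AddCommGroup V] [Module F V] [FiniteDimensional F V]
    (A : Module.End F V) (B : LinearMap.BilinForm F V) (hAB : AltInv A B) (hAr : A ^ r = 1) :
    ∃ k : ↥(cycFactors F r) → ℕ, (∀ a, k (starΦ hr hr2 hrp a) = k a) ∧
      finrank F V = kdim A (X - 1) + orderOf (q : ZMod r) * ∑ a, k a ∧
      A.charpoly = (X - 1) ^ kdim A (X - 1) * ∏ a : ↥(cycFactors F r), a.1 ^ k a := by
  have hr1 : 1 ≤ r := hr.one_lt.le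
  set i := orderOf (q : ZMod r) with hi
  set S := insert (X - 1 : F[X]) (cycFactors F r) with hS
  have hkill : aeval A (∏ f ∈ S, f) = 0 := by
    rw [hS, X_sub_one_mul_prod hr hrp, map_sub, map_pow, aeval_X, map_one, hAr, sub_self]
  have hirr : ∀ f ∈ S, Irreducible f := fun f hf => insert_irreducible hf
  have e1 : (X - 1 : F[X]) = X - C 1 := by rw [map_one]
  have hmon : ∀ f ∈ S, f.Monic := by
    intro f hf
    rcases Finset.mem_insert.1 hf with rfl | hf
    · rw [e1]
      exact monic_X_sub_C 1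
    · exact cycFactors_monic hf
  have hcop := insert_pairwise_coprime (F := F) hr hrp
  let k : ↥(cycFactors F r) → ℕ := fun a => kdim A a.1 / i
  have hki : ∀ a : ↥(cycFactors F r), k a * i = kdim A a.1 := by
    intro a
    apply Nat.div_mul_cancel
    rw [hi, ← cycFactors_natDegree hF hr hrp a.2]
    exact dvd_kdim A a.1 (cycFactors_irreducible a.2)
  have hfin := finrank_eq_sum_kdim A S hcop hkill
  rw [hS, Finset.sum_insert (X_sub_one_notMem hr hrp)] at hfin
  have hsumΦ : ∑ f ∈ cycFactors F r, kdim A f = i * ∑ a, k a := by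
    rw [← Finset.sum_coe_sort (cycFactors F r) (fun f => kdim A f), Finset.mul_sum]
    apply Finset.sum_congr rfl
    intro a _
    rw [← hki a, mul_comm]
  refine ⟨k, ?_, ?_, ?_⟩
  · intro a
    show kdim A (dualPoly r a.1) / i = kdim A a.1 / i
    rw [kdim_dual hr1 (cast_ne_zero_of_prime_ne hr hrp) hAr hAB
      (cycFactors_irreducible a.2) (cycFactors_monic a.2) (cycFactors_dvd_X_pow a.2)]
  · rw [hfin, hsumΦ]
  · rw [charpoly_eq_prod S hirr hmon A hkill, hS, Finset.prod_insert (X_sub_one_notMem hr hrp)]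
    congr 1
    · rw [e1, natDegree_X_sub_C, Nat.div_one]
    · rw [← Finset.prod_coe_sort (cycFactors F r) (fun f => f ^ (kdim A f / f.natDegree))]
      apply Finset.prod_congr rfl
      intro a _
      rw [cycFactors_natDegree hF hr hrp a.2]

/-- the total degree of a self-dual family of multiplicities is a multiple of `c` -/
theorem c_dvd_sum (hF : Fintype.card F = q) (hr : r.Prime) (hr2 : r ≠ 2) (hrp : r ≠ p)
    (i c : ℕ) (hi : i = orderOf (q : ZMod r)) (hc : c = if Even i then i else 2 * i)
    (k : ↥(cycFactors F r) → ℕ) (hk : ∀ a, k (starΦ hr hr2 hrp a) = k a) :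
    c ∣ i * ∑ a, k a := by
  rw [hc]
  split_ifs with hev
  · exact dvd_mul_right _ _
  · have hodd : Odd i := Nat.not_even_iff_odd.1 hev
    have hinv := starΦ_involutive (F := F) hr hr2 hrp
    have hfix : ∀ a, starΦ (F := F) hr hr2 hrp a ≠ a := by
      intro a h
      exact dualPoly_ne_self_of_odd hF hr hr2 hrp (hi ▸ hodd) a.2 (congrArg Subtype.val h)
    obtain ⟨T, h1, h2⟩ := exists_half _ hinv hfix
    have hsum : ∑ a, k a = 2 * ∑ a ∈ T, k a := by
      rw [sum_eq_sum_half _ hinv T h1 h2 k, Finset.mul_sum]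
      apply Finset.sum_congr rfl
      intro a _
      rw [hk a, two_mul]
    rw [hsum]
    exact ⟨∑ a ∈ T, k a, by ring⟩

/-- the codimension of the fixed space is a multiple of `c` -/
theorem exists_units (hF : Fintype.card F = q) (hr : r.Prime) (hr2 : r ≠ 2) (hrp : r ≠ p)
    (i c : ℕ) (hi : i = orderOf (q : ZMod r)) (hc : c = if Even i then i else 2 * i)
    {V : Type*} [AddCommGroup V] [Module F V] [FiniteDimensional F V]
    (A : Module.End F V) (B : LinearMap.BilinForm F V) (hAB : AltInv A B) (hAr : A ^ r = 1) :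
    ∃ u, finrank F V = kdim A (X - 1) + c * u := by
  obtain ⟨k, hk, hfin, -⟩ := struct_altInv hF hr hr2 hrp A B hAB hAr
  obtain ⟨u, hu⟩ := c_dvd_sum hF hr hr2 hrp i c hi hc k hk
  refine ⟨u, ?_⟩
  rw [hfin, ← hi, hu]

/-- the dimension of the fixed space of an element with given characteristic polynomial -/
theorem kdim_of_charpoly (hF : Fintype.card F = q) (hr : r.Prime) (hr2 : r ≠ 2) (hrp : r ≠ p)
    {m : ℕ} (g : Matrix.symplecticGroup (Fin m) F) (hg : g ^ r = 1)
    (k : ↥(cycFactors F r) → ℕ)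
    (hgk : (g : Matrix (Fin m ⊕ Fin m) (Fin m ⊕ Fin m) F).charpoly =
        primePoly r m (orderOf (q : ZMod r)) k) :
    kdim (LS g) (X - 1) = 2 * m - orderOf (q : ZMod r) * ∑ a, k a := by
  obtain ⟨k', hk', hfin, hcp⟩ := struct_altInv hF hr hr2 hrp (LS g) _ (LS_altInv g)
    (LS_pow_eq_one g r hg)
  rw [Module.finrank_fintype_fun_eq_card, Fintype.card_sum, Fintype.card_fin] at hfin
  have h1 : kdim (LS g) (X - 1) = 2 * m - orderOf (q : ZMod r) * ∑ a, k' a := by omega
  have h2 : primePoly r m (orderOf (q : ZMod r)) k' = primePoly r m (orderOf (q : ZMod r)) k := by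
    rw [← hgk, ← LS_charpoly, hcp, h1]
    rfl
  rw [h1, primePoly_injective hr hrp _ k' k h2]

end struct

end Cfsg.Agent.Helper13.SpDec
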