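import Mathlib
import Cfsg.Agent.Lib.Helper13.SpDec3

set_option autoImplicit false
set_option linter.unusedSectionVars false

/-!
# Splitting self-dual multiplicity functions; products of endomorphisms
-/

namespace Cfsg.Agent.Helper13.SpDec

open Polynomial Module Cfsg.Agent.Helper13.SS Cfsg.Agent.Helper13.Dual
  Cfsg.Agent.Helper13.SympSS
open scoped Classical

universe u

section split
variable {I : Type*} [Fintype I] (σ : I → I)

/-- the multiplicity function of a single unit -/
noncomputable def unitFn (a : I) : I → ℕ := fun b => if b = a ∨ b = σ a then 1 else 0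

theorem unitFn_symm (hσ : Function.Involutive σ) (a b : I) : unitFn σ a (σ b) = unitFn σ a b := by
  unfold unitFn
  apply if_congr _ rfl rfl
  constructor
  · rintro (h | h)
    · right
      rw [← h, hσ b]
    · left
      exact hσ.injective h
  · rintro (h | h)
    · right
      rw [h]
    · left
      rw [h, hσ a]

theorem unitFn_sum (w : ℕ) (hw : ((∀ a, σ a = a) ∧ w = 1) ∨ ((∀ a, σ a ≠ a) ∧ w = 2)) (a : I) :
    ∑ b, unitFn σ a b = w := by
  unfold unitFn
  rw [Finset.sum_boole]
  rcases hw with ⟨h, rfl⟩ | ⟨h, rfl⟩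
  · have : (Finset.univ.filter (fun b => b = a ∨ b = σ a)) = {a} := by
      ext b
      simp [h a]
    rw [this]
    simp
  · have : (Finset.univ.filter (fun b => b = a ∨ b = σ a)) = {a, σ a} := by
      ext b
      simp
    rw [this, Finset.card_pair (Ne.symm (h a))]
    rfl

theorem unitFn_le (hσ : Function.Involutive σ) (k k₁ : I → ℕ) (hk : ∀ a, k (σ a) = k a)
    (hk₁ : ∀ a, k₁ (σ a) = k₁ a) (hle : ∀ b, k₁ b ≤ k b) (a : I) (ha : k₁ a < k a) (b : I) :
    k₁ b + unitFn σ a b ≤ k b := by
  unfold unitFn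
  split_ifs with h
  · rcases h with rfl | rfl
    · omega
    · rw [hk, hk₁]
      omega
  · exact hle b

/-- peeling off a bounded self-dual part -/
theorem exists_peel (hσ : Function.Involutive σ) (w : ℕ)
    (hw : ((∀ a, σ a = a) ∧ w = 1) ∨ ((∀ a, σ a ≠ a) ∧ w = 2))
    (k : I → ℕ) (hk : ∀ a, k (σ a) = k a) (b : ℕ) :
    ∃ k₁ : I → ℕ, (∀ a, k₁ (σ a) = k₁ a) ∧ (∀ a, k₁ a ≤ k a) ∧ ∑ a, k₁ a ≤ w * b ∧
      (∑ a, k₁ a = ∑ a, k a ∨ ∑ a, k₁ a = w * b) := by
  induction b with
  | zero =>
    refine ⟨fun _ => 0, fun _ => rfl, fun a => Nat.zero_le _, ?_, Or.inr ?_⟩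
    · simp
    · simp
  | succ b ih =>
    obtain ⟨k₁, hk₁, hle, hsum, hor⟩ := ih
    rcases hor with h | h
    · refine ⟨k₁, hk₁, hle, ?_, Or.inl h⟩
      rw [mul_add]
      omega
    · by_cases hall : ∀ a, k₁ a = k a
      · refine ⟨k₁, hk₁, hle, ?_, Or.inl ?_⟩
        · rw [mul_add]
          omega
        · exact Finset.sum_congr rfl (fun a _ => hall a)
      · push Not at hall
        obtain ⟨a, ha⟩ := hall
        have ha' : k₁ a < k a := lt_of_le_of_ne (hle a) ha
        have hs : ∑ b, (k₁ b + unitFn σ a b) = w * (b + 1) := by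
          rw [Finset.sum_add_distrib, h, unitFn_sum σ w hw a, mul_add, mul_one]
        refine ⟨fun b => k₁ b + unitFn σ a b, ?_, ?_, ?_, Or.inr hs⟩
        · intro b
          show k₁ (σ b) + unitFn σ a (σ b) = k₁ b + unitFn σ a b
          rw [hk₁, unitFn_symm σ hσ]
        · exact unitFn_le σ hσ k k₁ hk hk₁ hle a ha'
        · rw [hs]

/-- splitting a self-dual multiplicity function into bounded parts -/
theorem exists_split (hσ : Function.Involutive σ) (w : ℕ)
    (hw : ((∀ a, σ a = a) ∧ w = 1) ∨ ((∀ a, σ a ≠ a) ∧ w = 2)) (b : ℕ) :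
    ∀ (t : ℕ) (k : I → ℕ), (∀ a, k (σ a) = k a) → ∑ a, k a ≤ w * b * t →
      ∃ K : Fin t → I → ℕ, (∀ j a, K j (σ a) = K j a) ∧ (∀ j, ∑ a, K j a ≤ w * b) ∧
        ∀ a, ∑ j, K j a = k a := by
  intro t
  induction t with
  | zero =>
    intro k hk hsum
    refine ⟨fun j => Fin.elim0 j, fun j => Fin.elim0 j, fun j => Fin.elim0 j, ?_⟩
    intro a
    rw [Finset.univ_eq_empty, Finset.sum_empty]
    have h0 : ∑ a, k a = 0 := by omega
    exact ((Finset.sum_eq_zero_iff).1 h0 a (Finset.mem_univ a)).symm
  | succ t ih =>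
    intro k hk hsum
    obtain ⟨k₁, hk₁, hle, hs₁, hor⟩ := exists_peel σ hσ w hw k hk b
    have hsub : ∑ a, (k a - k₁ a) = ∑ a, k a - ∑ a, k₁ a :=
      Finset.sum_tsub_distrib _ (fun a _ => hle a)
    obtain ⟨K', hK's, hK'b, hK'⟩ := ih (fun a => k a - k₁ a)
      (fun a => by show k (σ a) - k₁ (σ a) = k a - k₁ a; rw [hk, hk₁]) (by
        rw [hsub]
        rw [mul_add, mul_one] at hsum
        rcases hor with h | h
        · rw [h, Nat.sub_self]
          exact Nat.zero_le _
        · rw [h]
          omega)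
    refine ⟨Fin.cons k₁ K', ?_, ?_, ?_⟩
    · intro j a
      refine Fin.cases ?_ (fun j => ?_) j
      · exact hk₁ a
      · exact hK's j a
    · intro j
      refine Fin.cases ?_ (fun j => ?_) j
      · exact hs₁
      · exact hK'b j
    · intro a
      rw [Fin.sum_univ_succ]
      simp only [Fin.cons_zero, Fin.cons_succ]
      rw [hK' a]
      have := hle a
      omega

end split

section pimap
variable {F : Type u} [Field F] {U : Type*} [AddCommGroup U] [Module F U]

/-- the product endomorphism -/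
noncomputable def piMap {t : ℕ} (Y : Fin t → Module.End F U) : Module.End F (Fin t → U) :=
  LinearMap.pi (fun j => Y j ∘ₗ LinearMap.proj j)

theorem piMap_apply {t : ℕ} (Y : Fin t → Module.End F U) (w : Fin t → U) (j : Fin t) :
    piMap Y w j = Y j (w j) := rfl

theorem piMap_pow {t : ℕ} (Y : Fin t → Module.End F U) (m : ℕ) (w : Fin t → U) (j : Fin t) :
    ((piMap Y) ^ m) w j = ((Y j) ^ m) (w j) := by
  induction m generalizing w with
  | zero => simp
  | succ m ih =>
    rw [pow_succ, Module.End.mul_apply, ih, piMap_apply, pow_succ, Module.End.mul_apply]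

theorem piMap_charpoly [FiniteDimensional F U] :
    ∀ (t : ℕ) (Y : Fin t → Module.End F U), (piMap Y).charpoly = ∏ j, (Y j).charpoly := by
  intro t
  induction t with
  | zero =>
    intro Y
    rw [Finset.univ_eq_empty, Finset.prod_empty]
    apply Polynomial.eq_one_of_monic_natDegree_zero (LinearMap.charpoly_monic _)
    rw [LinearMap.charpoly_natDegree]
    exact Module.finrank_zero_of_subsingleton
  | succ t ih =>
    intro Y
    set e := Fin.consLinearEquiv F (fun _ : Fin (t + 1) => U) with he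
    have h1 : e.conj ((Y 0).prodMap (piMap (fun j => Y j.succ))) = piMap Y := by
      apply LinearMap.ext
      intro w
      rw [LinearEquiv.conj_apply]
      funext j
      refine Fin.cases ?_ (fun j => ?_) j
      · rfl
      · rfl
    rw [← h1, LinearEquiv.charpoly_conj, LinearMap.charpoly_prodMap, ih, Fin.prod_univ_succ]

end pimap

section prod
variable {F : Type u} [Field F] [Fintype F] {p : ℕ} [Fact p.Prime] [CharP F p] {r q : ℕ}

theorem prod_primePoly (i s d t : ℕ) (hdim : d + d = t * (s + s))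
    (K : Fin t → ↥(cycFactors F r) → ℕ) (k : ↥(cycFactors F r) → ℕ)
    (hKb : ∀ j, i * ∑ a, K j a ≤ s + s) (hK : ∀ a, ∑ j, K j a = k a) :
    ∏ j, primePoly r s i (K j) = primePoly r d i k := by
  unfold primePoly
  rw [Finset.prod_mul_distrib, Finset.prod_pow_eq_pow_sum, Finset.prod_comm]
  congr 1
  · congr 1
    rw [Finset.sum_tsub_distrib _ (fun j _ => by have := hKb j; omega)]
    rw [Finset.sum_const, Finset.card_univ, Fintype.card_fin, smul_eq_mul, ← Finset.mul_sum,
      Finset.sum_comm]
    rw [Finset.sum_congr rfl (fun a _ => hK a)]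
    have : t * (2 * s) = 2 * d := by
      rw [two_mul, two_mul]
      omega
    rw [this]
  · apply Finset.prod_congr rfl
    intro a _
    rw [Finset.prod_pow_eq_pow_sum, hK a]

end prod

end Cfsg.Agent.Helper13.SpDec
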