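import Mathlib
import Cfsg.Agent.Lib.Helper13.SpDec1
import Cfsg.Agent.Lib.Helper13.SpDec4
import Cfsg.Agent.Lib.Helper13.PrimeOrderSemisimple

set_option autoImplicit false
set_option linter.unusedSectionVars false

/-!
# Elements of odd prime order stabilising an orthogonal decomposition: construction
-/

namespace Cfsg.Agent.Helper13.SpDec

open Polynomial Module Cfsg.Agent.Helper13.SS Cfsg.Agent.Helper13.Dual
  Cfsg.Agent.Helper13.SympSS Cfsg.Agent.Helper28.SympIso
open scoped Classical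

universe u

section conj
variable {F : Type u} [Field F] [Fintype F] {p : ℕ} [Fact p.Prime] [CharP F p] {r q : ℕ}

/-- two isometries of order `r` of symplectic spaces with the same characteristic polynomial are
intertwined by an isometry -/
theorem exists_intertwining_iso (hr : r.Prime) (hrp : r ≠ p)
    {V W : Type u} [AddCommGroup V] [Module F V] [FiniteDimensional F V]
    [AddCommGroup W] [Module F W] [FiniteDimensional F W]
    (A : Module.End F V) (B : LinearMap.BilinForm F V) (y : Module.End F W)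
    (BW : LinearMap.BilinForm F W) (hAB : AltInv A B) (hyB : AltInv y BW)
    (hAr : A ^ r = 1) (hyr : y ^ r = 1) (hcp : y.charpoly = A.charpoly) :
    ∃ Φ : W ≃ₗ[F] V, (∀ w, Φ (y w) = A (Φ w)) ∧ ∀ u v, B (Φ u) (Φ v) = BW u v := by
  have hr1 : 1 ≤ r := hr.one_lt.le
  set S := insert (X - 1 : F[X]) (cycFactors F r) with hS
  have hkill : ∀ {U : Type u} [AddCommGroup U] [Module F U] (C : Module.End F U),
      C ^ r = 1 → aeval C (∏ f ∈ S, f) = 0 := by
    intro U _ _ C hC
    rw [hS, X_sub_one_mul_prod hr hrp, map_sub, map_pow, aeval_X, map_one, hC, sub_self]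
  have hirr : ∀ f ∈ S, Irreducible f := fun f hf => insert_irreducible hf
  have e1 : (X - 1 : F[X]) = X - C 1 := by rw [map_one]
  have hmon : ∀ f ∈ S, f.Monic := by
    intro f hf
    rcases Finset.mem_insert.1 hf with rfl | hf
    · rw [e1]
      exact monic_X_sub_C 1
    · exact cycFactors_monic hf
  obtain ⟨T, hT⟩ := exists_equiv_of_charpoly_eq S hirr hmon y A (hkill y hyr) (hkill A hAr) hcp
  set B' : LinearMap.BilinForm F W :=
    B.compl₁₂ (T : W →ₗ[F] V) (T : W →ₗ[F] V) with hB'
  have hB'a : ∀ u v, B' u v = B (T u) (T v) := fun u v => rfl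
  have hyB' : AltInv y B' := by
    refine ⟨fun u => hAB.alt _, ?_, ?_⟩
    · intro u hu
      apply T.injective
      rw [map_zero]
      apply hAB.nondeg
      intro v
      have := hu (T.symm v)
      rwa [hB'a, T.apply_symm_apply] at this
    · intro u v
      rw [hB'a, hB'a, hT, hT, hAB.inv]
  obtain ⟨Z, hZc, hZ⟩ := exists_commuting_isometry r hr1 (cast_ne_zero_of_prime_ne hr hrp)
    (finrank F W) W y BW B' rfl hyr hyB hyB'
  have hZs : ∀ v, Z.symm (y v) = y (Z.symm v) := by
    intro v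
    apply Z.injective
    rw [Z.apply_symm_apply, hZc, Z.apply_symm_apply]
  refine ⟨Z.symm.trans T, ?_, ?_⟩
  · intro w
    show T (Z.symm (y w)) = A (T (Z.symm w))
    rw [hZs, hT]
  · intro u v
    show B (T (Z.symm u)) (T (Z.symm v)) = BW u v
    rw [← hB'a, ← hZ, Z.apply_symm_apply, Z.apply_symm_apply]

end conj

section construct
variable {F : Type u} [Field F] [Fintype F] {p : ℕ} [Fact p.Prime] [CharP F p] {r q : ℕ}

theorem pos_orderOf (hF : Fintype.card F = q) (hr : r.Prime) (hrp : r ≠ p) :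
    0 < orderOf (q : ZMod r) := by
  haveI : Fact r.Prime := ⟨hr⟩
  have := Cfsg.Agent.Helper13.POS.orderOf_card_pos (F := F) r (cast_ne_zero_of_prime_ne hr hrp)
  rwa [hF] at this

/-- the dichotomy for the duality on the cyclotomic factors -/
theorem exists_weight (hF : Fintype.card F = q) (hr : r.Prime) (hr2 : r ≠ 2) (hrp : r ≠ p)
    (i c : ℕ) (hi : i = orderOf (q : ZMod r)) (hc : c = if Even i then i else 2 * i) :
    ∃ w, (((∀ a, starΦ (F := F) hr hr2 hrp a = a) ∧ w = 1) ∨
      ((∀ a, starΦ (F := F) hr hr2 hrp a ≠ a) ∧ w = 2)) ∧ c = w * i := by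
  have hi0 : 0 < orderOf (q : ZMod r) := pos_orderOf hF hr hrp
  subst hi
  by_cases hev : Even (orderOf (q : ZMod r))
  · refine ⟨1, Or.inl ⟨fun a => Subtype.ext
      (dualPoly_eq_self_of_even hF hr hi0 hev a.2), rfl⟩, ?_⟩
    rw [hc, if_pos hev, one_mul]
  · refine ⟨2, Or.inr ⟨fun a h => dualPoly_ne_self_of_odd hF hr hr2 hrp
      (Nat.not_even_iff_odd.1 hev) a.2 (congrArg Subtype.val h), rfl⟩, ?_⟩
    rw [hc, if_neg hev]

theorem exists_stable_decomp (hF : Fintype.card F = q) (hr : r.Prime) (hr2 : r ≠ 2) (hrp : r ≠ p)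
    (d s t : ℕ) (hdim : d + d = t * (s + s))
    (i c : ℕ) (hi : i = orderOf (q : ZMod r)) (hc : c = if Even i then i else 2 * i)
    (hmod : (d + d) % c = t * ((s + s) % c))
    (x : Matrix.symplecticGroup (Fin d) F) (hx : x ^ r = 1) :
    ∃ Φ : (Fin t → (Fin s ⊕ Fin s → F)) ≃ₗ[F] (Fin d ⊕ Fin d → F), IsIso Φ ∧
      ∀ j, (decompOf Φ j).map
        (Matrix.toLin' (x : Matrix (Fin d ⊕ Fin d) (Fin d ⊕ Fin d) F)) = decompOf Φ j := by
  have hi0 : 0 < orderOf (q : ZMod r) := pos_orderOf hF hr hrp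
  obtain ⟨k, hk, hkm, hcp⟩ := charpoly_eq_primePoly hF hr hr2 hrp x hx
  obtain ⟨u, hu⟩ := c_dvd_sum hF hr hr2 hrp i c hi hc k hk
  have hinv := starΦ_involutive (F := F) hr hr2 hrp
  obtain ⟨w, hw, hcw⟩ := exists_weight hF hr hr2 hrp i c hi hc
  subst hi
  have hc0 : 0 < c := by
    rcases hw with ⟨-, rfl⟩ | ⟨-, rfl⟩ <;> omega
  set b := (s + s) / c with hb
  set ℓ := (s + s) % c with hℓ
  have hsb : c * b + ℓ = s + s := Nat.div_add_mod _ _
  have hℓt : t * ℓ < c := by
    rw [← hmod]
    exact Nat.mod_lt _ hc0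
  have hdd : d + d = c * (t * b) + t * ℓ := by
    rw [hdim, ← hsb]
    ring
  have hub : u ≤ t * b := by
    have h1 : c * u < c * (t * b + 1) := by
      have : c * u ≤ d + d := by
        rw [← hu]
        omega
      rw [mul_add, mul_one]
      omega
    have := Nat.lt_of_mul_lt_mul_left h1
    omega
  have hsumk : ∑ a, k a = w * u := by
    apply Nat.eq_of_mul_eq_mul_left hi0
    rw [hu, hcw]
    ring
  have hbound : ∑ a, k a ≤ w * b * t := by
    rw [hsumk]
    calc w * u ≤ w * (t * b) := Nat.mul_le_mul_left _ hub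
      _ = w * b * t := by ring
  obtain ⟨K, hKs, hKb, hK⟩ := exists_split _ hinv w hw b t k hk hbound
  have hKi : ∀ j, orderOf (q : ZMod r) * ∑ a, K j a ≤ 2 * s := by
    intro j
    calc orderOf (q : ZMod r) * ∑ a, K j a ≤ orderOf (q : ZMod r) * (w * b) :=
          Nat.mul_le_mul_left _ (hKb j)
      _ = c * b := by rw [hcw]; ring
      _ ≤ 2 * s := by omega
  have hex : ∀ j, ∃ g : Matrix.symplecticGroup (Fin s) F, g ^ r = 1 ∧
      (g : Matrix (Fin s ⊕ Fin s) (Fin s ⊕ Fin s) F).charpoly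
        = primePoly r s (orderOf (q : ZMod r)) (K j) := by
    intro j
    exact (sreal_primePoly hF hr hr2 hrp hi0 (K j) (hKs j)).exists_matrix s
      (natDegree_primePoly hF hr hrp (K j) (hKi j))
  choose g hg hgc using hex
  set y : Module.End F (Fin t → (Fin s ⊕ Fin s → F)) := piMap (fun j => LS (g j)) with hy
  have hyr : y ^ r = 1 := by
    apply LinearMap.ext
    intro w'
    funext j
    rw [hy, piMap_pow, LS_pow_eq_one (g j) r (hg j)]
    rfl
  have hyB : AltInv y (modelForm t s F) := by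
    refine ⟨modelForm_isAlt, modelForm_nondegenerate.1, fun u v => ?_⟩
    rw [modelForm_apply, modelForm_apply]
    apply Finset.sum_congr rfl
    intro j _
    rw [hy, piMap_apply, piMap_apply, ← sympBil_apply, (LS_altInv (g j)).inv, sympBil_apply]
  have hycp : y.charpoly = (LS x).charpoly := by
    rw [hy, piMap_charpoly, LS_charpoly, hcp,
      ← prod_primePoly (orderOf (q : ZMod r)) s d t hdim K k
        (by intro j; have := hKi j; omega) hK]
    apply Finset.prod_congr rfl
    intro j _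
    rw [LS_charpoly, hgc]
  obtain ⟨Φ, hΦc, hΦ⟩ := exists_intertwining_iso hr hrp (LS x) (sympBil d F) y (modelForm t s F)
    (LS_altInv x) hyB (LS_pow_eq_one x r hx) hyr hycp
  have hiso : IsIso Φ := by
    intro w w'
    rw [← sympBil_apply, hΦ, modelForm_apply]
  refine ⟨Φ, hiso, fun j => ?_⟩
  have hys : ∀ j u, y (Pi.single j u) = Pi.single j (LS (g j) u) := by
    intro j u
    funext j'
    rw [hy, piMap_apply]
    by_cases h : j' = j
    · subst h
      rw [Pi.single_eq_same, Pi.single_eq_same]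
    · rw [Pi.single_eq_of_ne h, Pi.single_eq_of_ne h, map_zero]
  ext v
  rw [Submodule.mem_map]
  constructor
  · rintro ⟨v₀, hv₀, rfl⟩
    obtain ⟨u, rfl⟩ := (mem_decompOf Φ j v₀).1 hv₀
    rw [Matrix.toLin'_apply, ← LS_apply, ← hΦc, hys]
    exact single_mem_decompOf Φ j _
  · intro hv
    obtain ⟨u, rfl⟩ := (mem_decompOf Φ j v).1 hv
    refine ⟨Φ (Pi.single j ((LS (g j) ^ (r - 1)) u)), single_mem_decompOf Φ j _, ?_⟩
    rw [Matrix.toLin'_apply, ← LS_apply, ← hΦc, hys, ← Module.End.mul_apply, ← pow_succ',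
      Nat.sub_add_cancel hr.one_lt.le, LS_pow_eq_one (g j) r (hg j)]
    rfl

end construct

end Cfsg.Agent.Helper13.SpDec
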