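import Mathlib
import Cfsg.Agent.Lib.Helper13.SlDec1
import Cfsg.Agent.Lib.Helper13.SpDec5

set_option autoImplicit false
set_option linter.unusedSectionVars false

/-!
# Elements of prime order of `GL_n(q)` stabilising a decomposition: construction
-/

namespace Cfsg.Agent.Helper13.SlDec

open Polynomial Module Cfsg.Agent.Helper13.SS Cfsg.Agent.Helper13.Dual
  Cfsg.Agent.Helper13.SympSS Cfsg.Agent.Helper13.SpDec
open scoped Classical

universe u

section struct
variable {F : Type u} [Field F] [Fintype F] {p : ℕ} [Fact p.Prime] [CharP F p] {r q : ℕ}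

/-- the polynomial with prescribed multiplicities -/
noncomputable def gPoly (r e : ℕ) (k : ↥(cycFactors F r) → ℕ) : F[X] :=
  (X - 1) ^ e * ∏ a : ↥(cycFactors F r), a.1 ^ k a

/-- the exponents of `gPoly` -/
noncomputable def gexpo (r e : ℕ) (k : ↥(cycFactors F r) → ℕ) : F[X] → ℕ :=
  fun f => if f = X - 1 then e else extΦ r k f

theorem gexpo_apply (hr : r.Prime) (hrp : r ≠ p) (e : ℕ) (k : ↥(cycFactors F r) → ℕ)
    (a : ↥(cycFactors F r)) : gexpo r e k a.1 = k a := by
  unfold gexpo
  rw [if_neg (fun h => X_sub_one_notMem hr hrp (h ▸ a.2)), extΦ_apply]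

theorem gexpo_self (e : ℕ) (k : ↥(cycFactors F r) → ℕ) : gexpo r e k (X - 1) = e := by
  unfold gexpo
  rw [if_pos rfl]

theorem gPoly_eq_prod (hr : r.Prime) (hrp : r ≠ p) (e : ℕ) (k : ↥(cycFactors F r) → ℕ) :
    gPoly r e k = ∏ f ∈ insert (X - 1 : F[X]) (cycFactors F r), f ^ gexpo r e k f := by
  rw [Finset.prod_insert (X_sub_one_notMem hr hrp)]
  unfold gPoly
  congr 1
  · rw [gexpo_self]
  · rw [← Finset.prod_coe_sort (cycFactors F r) (fun f => f ^ gexpo r e k f)]
    apply Finset.prod_congr rfl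
    intro a _
    rw [gexpo_apply hr hrp]

theorem gPoly_injective (hr : r.Prime) (hrp : r ≠ p) (e e' : ℕ)
    (k k' : ↥(cycFactors F r) → ℕ) (h : gPoly r e k = gPoly r e' k') : e = e' ∧ k = k' := by
  rw [gPoly_eq_prod hr hrp, gPoly_eq_prod hr hrp] at h
  have h1 := exponents_unique _ (fun f hf => insert_irreducible hf)
    (insert_pairwise_coprime hr hrp) _ _ h
  constructor
  · have h2 := h1 (X - 1) (Finset.mem_insert_self _ _)
    rwa [gexpo_self, gexpo_self] at h2
  · funext a
    have h2 := h1 a.1 (Finset.mem_insert_of_mem a.2)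
    rwa [gexpo_apply hr hrp, gexpo_apply hr hrp] at h2

theorem prod_gPoly {t : ℕ} (e : Fin t → ℕ) (K : Fin t → ↥(cycFactors F r) → ℕ) :
    ∏ j, gPoly r (e j) (K j) = gPoly r (∑ j, e j) (fun a => ∑ j, K j a) := by
  unfold gPoly
  rw [Finset.prod_mul_distrib, Finset.prod_pow_eq_pow_sum, Finset.prod_comm]
  congr 1
  apply Finset.prod_congr rfl
  intro a _
  rw [Finset.prod_pow_eq_pow_sum]

/-- the structure of an endomorphism of prime order -/
theorem struct_gl (hF : Fintype.card F = q) (hr : r.Prime) (hrp : r ≠ p)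
    {V : Type*} [AddCommGroup V] [Module F V] [FiniteDimensional F V]
    (A : Module.End F V) (hAr : A ^ r = 1) :
    ∃ k : ↥(cycFactors F r) → ℕ,
      finrank F V = kdim A (X - 1) + orderOf (q : ZMod r) * ∑ a, k a ∧
      A.charpoly = gPoly r (kdim A (X - 1)) k := by
  set i := orderOf (q : ZMod r) with hi
  set S := insert (X - 1 : F[X]) (cycFactors F r) with hS
  have hkill : aeval A (∏ f ∈ S, f) = 0 := by
    rw [hS, X_sub_one_mul_prod hr hrp, map_sub, map_pow, aeval_X, map_one, hAr, sub_self]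
  have hirr : ∀ f ∈ S, Irreducible f := fun f hf => insert_irreducible hf
  have e1 : (X - 1 : F[X]) = X - C 1 := by rw [map_one]
  have hmon : ∀ f ∈ S, f.Monic := by
    intro f hf
    rcases Finset.mem_insert.1 hf with rfl | hf
    · rw [e1]
      exact monic_X_sub_C 1
    · exact cycFactors_monic hf
  have hcop := insert_pairwise_coprime (F := F) hr hrp
  let k : ↥(cycFactors F r) → ℕ := fun a => kdim A a.1 / i
  have hki : ∀ a : ↥(cycFactors F r), k a * i = kdim A a.1 := by
    intro a
    apply Nat.div_mul_cancel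
    rw [hi, ← cycFactors_natDegree hF hr hrp a.2]
    exact dvd_kdim A a.1 (cycFactors_irreducible a.2)
  have hfin := finrank_eq_sum_kdim A S hcop hkill
  rw [hS, Finset.sum_insert (X_sub_one_notMem hr hrp)] at hfin
  have hsumΦ : ∑ f ∈ cycFactors F r, kdim A f = i * ∑ a, k a := by
    rw [← Finset.sum_coe_sort (cycFactors F r) (fun f => kdim A f), Finset.mul_sum]
    apply Finset.sum_congr rfl
    intro a _
    rw [← hki a, mul_comm]
  refine ⟨k, ?_, ?_⟩
  · rw [hfin, hsumΦ]
  · unfold gPoly
    rw [charpoly_eq_prod S hirr hmon A hkill, hS, Finset.prod_insert (X_sub_one_notMem hr hrp)]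
    congr 1
    · rw [e1, natDegree_X_sub_C, Nat.div_one]
    · rw [← Finset.prod_coe_sort (cycFactors F r) (fun f => f ^ (kdim A f / f.natDegree))]
      apply Finset.prod_congr rfl
      intro a _
      rw [cycFactors_natDegree hF hr hrp a.2]

/-- endomorphisms of order `r` with prescribed multiplicities -/
theorem exists_gl_elt (hF : Fintype.card F = q) (hr : r.Prime) (hrp : r ≠ p) (m : ℕ)
    (k : ↥(cycFactors F r) → ℕ) (hkm : orderOf (q : ZMod r) * ∑ a, k a ≤ m) :
    ∃ g : Module.End F (Fin m → F), g ^ r = 1 ∧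
      kdim g (X - 1) = m - orderOf (q : ZMod r) * ∑ a, k a ∧
      g.charpoly = gPoly r (m - orderOf (q : ZMod r) * ∑ a, k a) k := by
  set i := orderOf (q : ZMod r) with hi
  set S := insert (X - 1 : F[X]) (cycFactors F r) with hS
  have hirr : ∀ f ∈ S, Irreducible f := fun f hf => insert_irreducible hf
  have e1 : (X - 1 : F[X]) = X - C 1 := by rw [map_one]
  have hmon : ∀ f ∈ S, f.Monic := by
    intro f hf
    rcases Finset.mem_insert.1 hf with rfl | hf
    · rw [e1]
      exact monic_X_sub_C 1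
    · exact cycFactors_monic hf
  have hprod : ∏ f ∈ S, f = X ^ r - 1 := X_sub_one_mul_prod hr hrp
  have hdvd : ∀ f ∈ S, f ∣ (X ^ r - 1 : F[X]) := by
    intro f hf
    rw [← hprod]
    exact Finset.dvd_prod_of_mem _ hf
  set e := m - i * ∑ a, k a with he
  have hreal := realC_sum (X ^ r - 1 : F[X]) S hirr hmon hdvd (gexpo r e k) S
    (Finset.Subset.refl S)
  have hdim : ∑ f ∈ S, gexpo r e k f * f.natDegree = m := by
    rw [hS, Finset.sum_insert (X_sub_one_notMem hr hrp), gexpo_self, e1, natDegree_X_sub_C,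
      mul_one, ← Finset.sum_coe_sort (cycFactors F r) (fun f => gexpo r e k f * f.natDegree)]
    have h1 : ∑ a : ↥(cycFactors F r), gexpo r e k a.1 * a.1.natDegree = i * ∑ a, k a := by
      rw [Finset.mul_sum]
      apply Finset.sum_congr rfl
      intro a _
      rw [gexpo_apply hr hrp, cycFactors_natDegree hF hr hrp a.2, mul_comm]
    rw [h1]
    omega
  obtain ⟨g, hg, hgk, hgc⟩ := realC_congr hreal (fun f _ => rfl) rfl hdim
  refine ⟨g, ?_, ?_, ?_⟩
  · rw [map_sub, map_pow, aeval_X, map_one, sub_eq_zero] at hg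
    exact hg
  · have h1 : (X - 1 : F[X]) ∈ S := Finset.mem_insert_self _ _
    have := hgk (X - 1) h1
    simp only [if_pos h1] at this
    rw [gexpo_self, e1, natDegree_X_sub_C, mul_one, ← e1] at this
    exact this
  · rw [hgc, gPoly_eq_prod hr hrp]

end struct

section construct
variable {F : Type u} [Field F] [Fintype F] {p : ℕ} [Fact p.Prime] [CharP F p] {r q : ℕ}

/-- an endomorphism of order `r` stabilises a decomposition when the arithmetic condition holds -/
theorem exists_stable_decomp_gl (hF : Fintype.card F = q) (hr : r.Prime) (hrp : r ≠ p)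
    (n a t : ℕ) (hat : n = a * t) (c : ℕ) (hc : c = orderOf (q : ZMod r))
    (hmod : n % c = t * (a % c)) (f : Module.End F (Fin n → F)) (hf : f ^ r = 1) :
    ∃ Φ : (Fin t → (Fin a → F)) ≃ₗ[F] (Fin n → F),
      ∀ j, (decompOfG Φ j).map f = decompOfG Φ j := by
  have hc0 : 0 < c := hc ▸ pos_orderOf hF hr hrp
  subst hc
  obtain ⟨k, hfin, hcp⟩ := struct_gl hF hr hrp f hf
  rw [Module.finrank_fin_fun] at hfin
  set c := orderOf (q : ZMod r) with hc
  set u := ∑ a, k a with hu
  set b := a / c with hb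
  set ℓ := a % c with hℓ
  have hsb : c * b + ℓ = a := Nat.div_add_mod _ _
  have hℓt : t * ℓ < c := by
    rw [← hmod]
    exact Nat.mod_lt _ hc0
  have hdd : n = c * (t * b) + t * ℓ := by
    rw [hat, ← hsb]
    ring
  have hub : u ≤ t * b := by
    have h1 : c * u < c * (t * b + 1) := by
      rw [mul_add, mul_one]
      omega
    have := Nat.lt_of_mul_lt_mul_left h1
    omega
  have hbound : ∑ a, k a ≤ 1 * b * t := by
    rw [one_mul, mul_comm]
    exact hub
  obtain ⟨K, -, hKb, hK⟩ := exists_split (fun a : ↥(cycFactors F r) => a)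
    (fun a => rfl) 1 (Or.inl ⟨fun a => rfl, rfl⟩) b t k (fun a => rfl) hbound
  have hKi : ∀ j, c * ∑ a, K j a ≤ a := by
    intro j
    calc c * ∑ a, K j a ≤ c * (1 * b) := Nat.mul_le_mul_left _ (hKb j)
      _ = c * b := by rw [one_mul]
      _ ≤ a := by omega
  have hex : ∀ j, ∃ g : Module.End F (Fin a → F), g ^ r = 1 ∧
      g.charpoly = gPoly r (a - c * ∑ a, K j a) (K j) := by
    intro j
    obtain ⟨g, hg, -, hgc⟩ := exists_gl_elt hF hr hrp a (K j) (hKi j)
    exact ⟨g, hg, hgc⟩
  choose Y hY hYc using hex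
  set y : Module.End F (Fin t → (Fin a → F)) := piMap Y with hy
  have hyr : y ^ r = 1 := by
    apply LinearMap.ext
    intro w'
    funext j
    rw [hy, piMap_pow, hY j]
    rfl
  have hsum1 : ∑ j, (a - c * ∑ a, K j a) = kdim f (X - 1) := by
    rw [Finset.sum_tsub_distrib _ (fun j _ => hKi j), Finset.sum_const, Finset.card_univ,
      Fintype.card_fin, smul_eq_mul, ← Finset.mul_sum, Finset.sum_comm,
      Finset.sum_congr rfl (fun a _ => hK a), mul_comm t a, ← hat]
    change n - c * u = kdim f (X - 1)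
    omega
  have hycp : y.charpoly = f.charpoly := by
    rw [hy, piMap_charpoly, hcp, Finset.prod_congr rfl (fun j _ => hYc j), prod_gPoly, hsum1]
    congr 1
    funext a
    exact hK a
  set S := insert (X - 1 : F[X]) (cycFactors F r) with hS
  have hkill : ∀ {U : Type u} [AddCommGroup U] [Module F U] (C : Module.End F U),
      C ^ r = 1 → aeval C (∏ f ∈ S, f) = 0 := by
    intro U _ _ C hC
    rw [hS, X_sub_one_mul_prod hr hrp, map_sub, map_pow, aeval_X, map_one, hC, sub_self]
  have hirr : ∀ f ∈ S, Irreducible f := fun f hf => insert_irreducible hf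
  have e1 : (X - 1 : F[X]) = X - C 1 := by rw [map_one]
  have hmon : ∀ f ∈ S, f.Monic := by
    intro f hf
    rcases Finset.mem_insert.1 hf with rfl | hf
    · rw [e1]
      exact monic_X_sub_C 1
    · exact cycFactors_monic hf
  obtain ⟨T, hT⟩ := exists_equiv_of_charpoly_eq S hirr hmon y f (hkill y hyr) (hkill f hf) hycp
  refine ⟨T, fun j => ?_⟩
  have hys : ∀ j u, y (Pi.single j u) = Pi.single j (Y j u) := by
    intro j u
    funext j'
    rw [hy, piMap_apply]
    by_cases h : j' = j
    · subst h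
      rw [Pi.single_eq_same, Pi.single_eq_same]
    · rw [Pi.single_eq_of_ne h, Pi.single_eq_of_ne h, map_zero]
  ext v
  rw [Submodule.mem_map]
  constructor
  · rintro ⟨v₀, hv₀, rfl⟩
    obtain ⟨u', rfl⟩ := (mem_decompOfG T j v₀).1 hv₀
    rw [← hT, hys]
    exact single_mem_decompOfG T j _
  · intro hv
    obtain ⟨u', rfl⟩ := (mem_decompOfG T j v).1 hv
    refine ⟨T (Pi.single j ((Y j ^ (r - 1)) u')), single_mem_decompOfG T j _, ?_⟩
    rw [← hT, hys, ← Module.End.mul_apply, ← pow_succ', Nat.sub_add_cancel hr.one_lt.le, hY j]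
    rfl

end construct

end Cfsg.Agent.Helper13.SlDec
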