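import Mathlib
import Cfsg.Agent.Lib.Helper13.SpDec1
import Cfsg.Agent.Lib.Helper13.SpDec4

set_option autoImplicit false
set_option linter.unusedSectionVars false

/-!
# Monomial endomorphisms of a power of a space
-/

namespace Cfsg.Agent.Helper13.SpDec

open Polynomial Module Cfsg.Agent.Helper13.SS Cfsg.Agent.Helper13.SympSS
  Cfsg.Agent.Helper28.SympIso
open scoped Classical

universe u

section mono
variable {F : Type u} [Field F] {U : Type*} [AddCommGroup U] [Module F U] {t : ℕ}

/-- `y` maps the `j`-th summand into the `σ j`-th summand -/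
def IsMono (y : Module.End F (Fin t → U)) (σ : Equiv.Perm (Fin t)) : Prop :=
  ∀ j u j', j' ≠ σ j → y (Pi.single j u) j' = 0

theorem eq_single_of_supp (v : Fin t → U) (j : Fin t) (hv : ∀ j', j' ≠ j → v j' = 0) :
    v = Pi.single j (v j) := by
  funext j'
  by_cases h : j' = j
  · subst h
    rw [Pi.single_eq_same]
  · rw [Pi.single_eq_of_ne h, hv j' h]

theorem IsMono.apply {y : Module.End F (Fin t → U)} {σ : Equiv.Perm (Fin t)} (h : IsMono y σ)
    (w : Fin t → U) (j : Fin t) : y w (σ j) = y (Pi.single j (w j)) (σ j) := by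
  conv_lhs => rw [← Finset.univ_sum_single w]
  rw [map_sum, Finset.sum_apply, Finset.sum_eq_single j]
  · intro l _ hl
    exact h l (w l) (σ j) (fun h' => hl (σ.injective h').symm)
  · intro h'
    exact absurd (Finset.mem_univ j) h'

theorem IsMono.pow {y : Module.End F (Fin t → U)} {σ : Equiv.Perm (Fin t)} (h : IsMono y σ)
    (m : ℕ) : IsMono (y ^ m) (σ ^ m) := by
  induction m with
  | zero =>
    intro j u j' hj'
    rw [pow_zero, Module.End.one_apply]
    rw [pow_zero, Equiv.Perm.one_apply] at hj'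
    rw [Pi.single_eq_of_ne hj']
  | succ m ih =>
    intro j u j' hj'
    rw [pow_succ, Module.End.mul_apply,
      eq_single_of_supp (y (Pi.single j u)) (σ j) (fun l hl => h j u l hl)]
    apply ih
    rw [pow_succ, Equiv.Perm.mul_apply] at hj'
    exact hj'

end mono

section cycle
variable {F : Type u} [Field F] {U : Type*} [AddCommGroup U] [Module F U] {t : ℕ}

theorem pow_apply_ne (y : Module.End F (Fin t → U)) (σ : Equiv.Perm (Fin t)) (h : IsMono y σ)
    (r : ℕ) (hr : r.Prime) (hyr : y ^ r = 1) (hU : ∃ u : U, u ≠ 0) (j₀ : Fin t)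
    (hj₀ : σ j₀ ≠ j₀) (m : ℕ) (hm0 : 0 < m) (hmr : m < r) : (σ ^ m) j₀ ≠ j₀ := by
  obtain ⟨u, hu⟩ := hU
  have hr' : (σ ^ r) j₀ = j₀ := by
    by_contra hne
    have := (h.pow r) j₀ u j₀ (Ne.symm hne)
    rw [hyr, Module.End.one_apply, Pi.single_eq_same] at this
    exact hu this
  intro hm
  have h1 : Function.IsPeriodicPt σ m j₀ := by
    show (⇑σ)^[m] j₀ = j₀
    rw [Equiv.Perm.iterate_eq_pow]
    exact hm
  have h2 : Function.IsPeriodicPt σ r j₀ := by
    show (⇑σ)^[r] j₀ = j₀
    rw [Equiv.Perm.iterate_eq_pow]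
    exact hr'
  have h3 := h1.gcd h2
  have hcop : Nat.gcd m r = 1 :=
    Nat.Coprime.symm ((Nat.Prime.coprime_iff_not_dvd hr).2 (Nat.not_dvd_of_pos_of_lt hm0 hmr))
  rw [hcop] at h3
  exact hj₀ h3

theorem pow_apply_inj (y : Module.End F (Fin t → U)) (σ : Equiv.Perm (Fin t)) (h : IsMono y σ)
    (r : ℕ) (hr : r.Prime) (hyr : y ^ r = 1) (hU : ∃ u : U, u ≠ 0) (j₀ : Fin t)
    (hj₀ : σ j₀ ≠ j₀) (m m' : ℕ) (hmm' : m ≤ m') (hm' : m' < r)
    (heq : (σ ^ m) j₀ = (σ ^ m') j₀) : m = m' := by
  by_contra hne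
  have hlt : m < m' := lt_of_le_of_ne hmm' hne
  have e : m' = m + (m' - m) := by omega
  rw [e, pow_add, Equiv.Perm.mul_apply] at heq
  have h1 := (σ ^ m).injective heq
  exact pow_apply_ne y σ h r hr hyr hU j₀ hj₀ (m' - m) (by omega) (by omega) h1.symm

/-- a cycle of length `r` contributes to the fixed space -/
theorem finrank_le_fix [FiniteDimensional F U] (y : Module.End F (Fin t → U))
    (σ : Equiv.Perm (Fin t)) (h : IsMono y σ)
    (r : ℕ) (hr : r.Prime) (hyr : y ^ r = 1) (hU : ∃ u : U, u ≠ 0) (j₀ : Fin t)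
    (hj₀ : σ j₀ ≠ j₀) : finrank F U ≤ finrank F (LinearMap.ker (y - 1)) := by
  set Avg : Module.End F (Fin t → U) := ∑ m ∈ Finset.range r, y ^ m with hAvg
  have h1 : (y - 1) * Avg = 0 := by
    rw [hAvg, mul_geom_sum, hyr, sub_self]
  set L : U →ₗ[F] (Fin t → U) := Avg ∘ₗ LinearMap.single F (fun _ => U) j₀ with hL
  have hL0 : ∀ u, L u j₀ = u := by
    intro u
    show (Avg (Pi.single j₀ u)) j₀ = u
    rw [hAvg, LinearMap.sum_apply, Finset.sum_apply, Finset.sum_eq_single 0]
    · rw [pow_zero, Module.End.one_apply, Pi.single_eq_same]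
    · intro m hm hm0
      exact (h.pow m) j₀ u j₀ (Ne.symm (pow_apply_ne y σ h r hr hyr hU j₀ hj₀ m
        (Nat.pos_of_ne_zero hm0) (Finset.mem_range.1 hm)))
    · intro h'
      exact absurd (Finset.mem_range.2 hr.pos) h'
  have hLinj : Function.Injective L := by
    intro u u' huu'
    rw [← hL0 u, ← hL0 u', huu']
  have hle : LinearMap.range L ≤ LinearMap.ker (y - 1) := by
    rintro _ ⟨u, rfl⟩
    rw [LinearMap.mem_ker]
    show (y - 1) (Avg (Pi.single j₀ u)) = 0
    rw [← Module.End.mul_apply, h1, LinearMap.zero_apply]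
  rw [← LinearMap.finrank_range_of_inj hLinj]
  exact Submodule.finrank_mono hle

/-- a cycle of length `r` bounds the fixed space from above -/
theorem fix_add_le [FiniteDimensional F U] (y : Module.End F (Fin t → U))
    (σ : Equiv.Perm (Fin t)) (h : IsMono y σ)
    (r : ℕ) (hr : r.Prime) (hyr : y ^ r = 1) (hU : ∃ u : U, u ≠ 0) (j₀ : Fin t)
    (hj₀ : σ j₀ ≠ j₀) :
    finrank F (LinearMap.ker (y - 1)) + (r - 1) * finrank F U ≤ t * finrank F U := by
  set J : Finset (Fin t) := (Finset.Ico 1 r).image (fun m => (σ ^ m) j₀) with hJ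
  have hJcard : J.card = r - 1 := by
    rw [hJ, Finset.card_image_of_injOn, Nat.card_Ico]
    intro m hm m' hm' hmm'
    have hm1 := Finset.mem_Ico.1 (Finset.mem_coe.1 hm)
    have hm1' := Finset.mem_Ico.1 (Finset.mem_coe.1 hm')
    rcases Nat.le_total m m' with hle | hle
    · exact pow_apply_inj y σ h r hr hyr hU j₀ hj₀ m m' hle hm1'.2 hmm'
    · exact (pow_apply_inj y σ h r hr hyr hU j₀ hj₀ m' m hle hm1.2 hmm'.symm).symm
  have hj₀J : j₀ ∉ J := by
    intro hmem
    obtain ⟨m, hm, hmj⟩ := Finset.mem_image.1 hmem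
    have hm1 := Finset.mem_Ico.1 hm
    exact pow_apply_ne y σ h r hr hyr hU j₀ hj₀ m (by omega) hm1.2 hmj
  set R : LinearMap.ker (y - 1) →ₗ[F] ({j // j ∉ J} → U) :=
    LinearMap.pi (fun j => LinearMap.proj j.1 ∘ₗ (LinearMap.ker (y - 1)).subtype) with hR
  have hRa : ∀ (w : LinearMap.ker (y - 1)) (j : {j // j ∉ J}), R w j = (w : Fin t → U) j.1 :=
    fun w j => rfl
  have hRinj : Function.Injective R := by
    rw [injective_iff_map_eq_zero]
    intro w hw
    have hyw : y (w : Fin t → U) = (w : Fin t → U) := by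
      have := LinearMap.mem_ker.1 w.2
      rw [LinearMap.sub_apply, Module.End.one_apply, sub_eq_zero] at this
      exact this
    have hout : ∀ j, j ∉ J → (w : Fin t → U) j = 0 := by
      intro j hj
      have := congrFun hw ⟨j, hj⟩
      rw [hRa] at this
      exact this
    have hcyc : ∀ m : ℕ, (w : Fin t → U) ((σ ^ m) j₀) = 0 := by
      intro m
      induction m with
      | zero =>
        rw [pow_zero, Equiv.Perm.one_apply]
        exact hout j₀ hj₀J
      | succ m ih =>
        rw [pow_succ', Equiv.Perm.mul_apply, ← hyw, h.apply, ih, Pi.single_zero, map_zero]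
        rfl
    apply Subtype.ext
    funext j
    by_cases hj : j ∈ J
    · obtain ⟨m, -, hmj⟩ := Finset.mem_image.1 hj
      rw [← hmj]
      exact hcyc m
    · exact hout j hj
  have h1 := LinearMap.finrank_le_finrank_of_injective hRinj
  rw [Module.finrank_pi_fintype, Finset.sum_const, Finset.card_univ, smul_eq_mul,
    Fintype.card_subtype_compl, Fintype.card_fin, Fintype.card_coe, hJcard] at h1
  have h2 : r - 1 ≤ t := by
    rw [← hJcard]
    have := Finset.card_le_univ J
    rwa [Fintype.card_fin] at this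
  calc finrank F (LinearMap.ker (y - 1)) + (r - 1) * finrank F U
      ≤ (t - (r - 1)) * finrank F U + (r - 1) * finrank F U := Nat.add_le_add_right h1 _
    _ = t * finrank F U := by rw [← add_mul, Nat.sub_add_cancel h2]

end cycle

section diag
variable {F : Type u} [Field F] {U : Type*} [AddCommGroup U] [Module F U] {t : ℕ}

/-- the diagonal blocks -/
noncomputable def blockOf (y : Module.End F (Fin t → U)) (j : Fin t) : Module.End F U :=
  LinearMap.proj j ∘ₗ y ∘ₗ LinearMap.single F (fun _ => U) j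

theorem blockOf_apply (y : Module.End F (Fin t → U)) (j : Fin t) (u : U) :
    blockOf y j u = y (Pi.single j u) j := rfl

theorem apply_eq_block (y : Module.End F (Fin t → U)) (h : IsMono y 1) (w : Fin t → U)
    (j : Fin t) : y w j = blockOf y j (w j) := h.apply w j

theorem pow_apply_eq_block (y : Module.End F (Fin t → U)) (h : IsMono y 1) (m : ℕ)
    (w : Fin t → U) (j : Fin t) : (y ^ m) w j = ((blockOf y j) ^ m) (w j) := by
  induction m generalizing w with
  | zero => simp
  | succ m ih =>
    rw [pow_succ, Module.End.mul_apply, ih, apply_eq_block y h, pow_succ, Module.End.mul_apply]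

theorem blockOf_pow (y : Module.End F (Fin t → U)) (h : IsMono y 1) (m : ℕ) (hym : y ^ m = 1)
    (j : Fin t) : (blockOf y j) ^ m = 1 := by
  apply LinearMap.ext
  intro u
  have h1 := pow_apply_eq_block y h m (Pi.single j u) j
  rw [hym, Module.End.one_apply, Pi.single_eq_same] at h1
  rw [Module.End.one_apply]
  exact h1.symm

theorem apply_single_eq (y : Module.End F (Fin t → U)) (h : IsMono y 1) (j : Fin t) (u : U) :
    y (Pi.single j u) = Pi.single j (blockOf y j u) :=
  eq_single_of_supp _ j (fun j' hj' => h j u j' hj')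

theorem kdim_X_sub_one {V : Type*} [AddCommGroup V] [Module F V] (A : Module.End F V) :
    kdim A (X - 1) = finrank F (LinearMap.ker (A - 1)) := by
  unfold kdim
  rw [map_sub, aeval_X, map_one]

theorem sum_fix_le [FiniteDimensional F U] (y : Module.End F (Fin t → U)) (h : IsMono y 1) :
    ∑ j, finrank F (LinearMap.ker (blockOf y j - 1)) ≤ finrank F (LinearMap.ker (y - 1)) := by
  set Ψ : (∀ j, LinearMap.ker (blockOf y j - 1)) →ₗ[F] (Fin t → U) :=
    LinearMap.pi (fun j => (LinearMap.ker (blockOf y j - 1)).subtype ∘ₗ LinearMap.proj j) with hΨd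
  have hΨa : ∀ (w : ∀ j, LinearMap.ker (blockOf y j - 1)) (j : Fin t), Ψ w j = (w j : U) :=
    fun w j => rfl
  have hΨ : ∀ w, Ψ w ∈ LinearMap.ker (y - 1) := by
    intro w
    rw [LinearMap.mem_ker, LinearMap.sub_apply, Module.End.one_apply, sub_eq_zero]
    funext j
    rw [apply_eq_block y h, hΨa]
    have := LinearMap.mem_ker.1 (w j).2
    rw [LinearMap.sub_apply, Module.End.one_apply, sub_eq_zero] at this
    exact this
  set Ψ' := LinearMap.codRestrict (LinearMap.ker (y - 1)) Ψ hΨ with hΨ'
  have hinj : Function.Injective Ψ' := by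
    intro w w' hww'
    have h1 : Ψ w = Ψ w' := congrArg Subtype.val hww'
    funext j
    apply Subtype.ext
    exact congrFun h1 j
  have := LinearMap.finrank_le_finrank_of_injective hinj
  rwa [Module.finrank_pi_fintype] at this

end diag

section sympdiag
variable {F : Type u} [Field F] [Fintype F] {p : ℕ} [Fact p.Prime] [CharP F p] {r q s t : ℕ}

theorem blockOf_altInv (y : Module.End F (Fin t → (Fin s ⊕ Fin s → F))) (h : IsMono y 1)
    (hyB : AltInv y (modelForm t s F)) (j : Fin t) : AltInv (blockOf y j) (sympBil s F) := by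
  refine ⟨sympBil_isAlt s, (sympBil_nondegenerate s).1, fun u v => ?_⟩
  have := hyB.inv (Pi.single j u) (Pi.single j v)
  rw [apply_single_eq y h, apply_single_eq y h, modelForm_apply, modelForm_apply,
    sum_single_left, sum_single_left, Pi.single_eq_same, Pi.single_eq_same] at this
  rw [sympBil_apply, sympBil_apply]
  exact this

/-- the fixed spaces of the blocks when all summands are fixed -/
theorem exists_block_fix (hF : Fintype.card F = q) (hr : r.Prime) (hr2 : r ≠ 2) (hrp : r ≠ p)
    (i c : ℕ) (hi : i = orderOf (q : ZMod r)) (hc : c = if Even i then i else 2 * i)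
    (y : Module.End F (Fin t → (Fin s ⊕ Fin s → F))) (h : IsMono y 1)
    (hyB : AltInv y (modelForm t s F)) (hyr : y ^ r = 1) :
    ∃ f : Fin t → ℕ, (∀ j, ∃ u, s + s = f j + c * u) ∧ ∑ j, f j ≤ kdim y (X - 1) := by
  refine ⟨fun j => kdim (blockOf y j) (X - 1), ?_, ?_⟩
  · intro j
    obtain ⟨u, hu⟩ := exists_units hF hr hr2 hrp i c hi hc (blockOf y j) (sympBil s F)
      (blockOf_altInv y h hyB j) (blockOf_pow y h r hyr j)
    rw [Module.finrank_fintype_fun_eq_card, Fintype.card_sum, Fintype.card_fin] at hu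
    exact ⟨u, hu⟩
  · rw [kdim_X_sub_one]
    simp only [kdim_X_sub_one]
    exact sum_fix_le y h

end sympdiag

end Cfsg.Agent.Helper13.SpDec
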