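import Mathlib
import Cfsg.Agent.Lib.Helper13.SpDec5
import Cfsg.Agent.Lib.Helper13.SpDec6

set_option autoImplicit false
set_option linter.unusedSectionVars false

/-!
# Elements of odd prime order stabilising no orthogonal decomposition
-/

namespace Cfsg.Agent.Helper13.SpDec

open Polynomial Module Cfsg.Agent.Helper13.SS Cfsg.Agent.Helper13.Dual
  Cfsg.Agent.Helper13.SympSS Cfsg.Agent.Helper28.SympIso
open scoped Classical

universe u

section transfer
variable {F : Type u} [Field F] [Fintype F] {d s t : ℕ}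

/-- an element permuting the summands of a decomposition is monomial on the model space -/
theorem exists_mono (x : Matrix.symplecticGroup (Fin d) F)
    (Φ : (Fin t → (Fin s ⊕ Fin s → F)) ≃ₗ[F] (Fin d ⊕ Fin d → F)) (hΦ : IsIso Φ)
    (σ : Equiv.Perm (Fin t))
    (hσ : ∀ j, (decompOf Φ j).map
      (Matrix.toLin' (x : Matrix (Fin d ⊕ Fin d) (Fin d ⊕ Fin d) F)) = decompOf Φ (σ j))
    (r : ℕ) (hx : x ^ r = 1) :
    ∃ y : Module.End F (Fin t → (Fin s ⊕ Fin s → F)), IsMono y σ ∧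
      AltInv y (modelForm t s F) ∧ y ^ r = 1 ∧ kdim y (X - 1) = kdim (LS x) (X - 1) := by
  set y : Module.End F (Fin t → (Fin s ⊕ Fin s → F)) :=
    (Φ.symm : (Fin d ⊕ Fin d → F) →ₗ[F] (Fin t → (Fin s ⊕ Fin s → F))) ∘ₗ LS x ∘ₗ
      (Φ : (Fin t → (Fin s ⊕ Fin s → F)) →ₗ[F] (Fin d ⊕ Fin d → F)) with hy
  have hya : ∀ w, y w = Φ.symm (LS x (Φ w)) := fun w => rfl
  have hΦy : ∀ w, Φ (y w) = LS x (Φ w) := by
    intro w
    rw [hya, Φ.apply_symm_apply]
  refine ⟨y, ?_, ?_, ?_, ?_⟩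
  · intro j u j' hj'
    have hmem : LS x (Φ (Pi.single j u)) ∈ decompOf Φ (σ j) := by
      rw [← hσ j, Submodule.mem_map]
      refine ⟨Φ (Pi.single j u), single_mem_decompOf Φ j u, ?_⟩
      rw [Matrix.toLin'_apply, LS_apply]
    rw [hya]
    exact (mem_decompOf_iff Φ (σ j) _).1 hmem j' hj'
  · refine ⟨modelForm_isAlt, modelForm_nondegenerate.1, fun u v => ?_⟩
    rw [modelForm_apply, modelForm_apply, ← hΦ, ← hΦ, hΦy, hΦy, ← sympBil_apply,
      (LS_altInv x).inv, sympBil_apply]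
  · have hpow : ∀ (m : ℕ) w, (y ^ m) w = Φ.symm ((LS x ^ m) (Φ w)) := by
      intro m
      induction m with
      | zero =>
        intro w
        simp
      | succ m ih =>
        intro w
        rw [pow_succ, Module.End.mul_apply, ih, hΦy, pow_succ, Module.End.mul_apply]
    apply LinearMap.ext
    intro w
    rw [hpow, LS_pow_eq_one x r hx, Module.End.one_apply, Module.End.one_apply,
      Φ.symm_apply_apply]
  · exact kdim_eq_of_equiv Φ y (LS x) hΦy (X - 1)

end transfer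

section elements
variable {F : Type u} [Field F] [Fintype F] {p : ℕ} [Fact p.Prime] [CharP F p] {r q : ℕ}

theorem cycFactors_nonempty_aux (hF : Fintype.card F = q) (hr : r.Prime) (hrp : r ≠ p) :
    (cycFactors F r).Nonempty := by
  have hcard := cycFactors_card (F := F) hF hr hrp
  rw [← Finset.card_pos]
  by_contra h
  have h0 : (cycFactors F r).card = 0 := by omega
  rw [h0, zero_mul] at hcard
  have := hr.two_le
  omega

/-- elements with a prescribed number of units -/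
theorem exists_unit_elt (hF : Fintype.card F = q) (hr : r.Prime) (hr2 : r ≠ 2) (hrp : r ≠ p)
    (i c : ℕ) (hi : i = orderOf (q : ZMod r)) (hc : c = if Even i then i else 2 * i)
    (d u : ℕ) (hu : c * u ≤ 2 * d) :
    ∃ x : Matrix.symplecticGroup (Fin d) F, x ^ r = 1 ∧
      kdim (LS x) (X - 1) = 2 * d - c * u := by
  have hi0 : 0 < orderOf (q : ZMod r) := pos_orderOf hF hr hrp
  have hinv := starΦ_involutive (F := F) hr hr2 hrp
  obtain ⟨w, hw, hcw⟩ := exists_weight hF hr hr2 hrp i c hi hc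
  subst hi
  obtain ⟨a₀, ha₀⟩ := cycFactors_nonempty_aux (F := F) hF hr hrp
  set k : ↥(cycFactors F r) → ℕ :=
    fun a => u * unitFn (starΦ (F := F) hr hr2 hrp) ⟨a₀, ha₀⟩ a with hk
  have hks : ∀ a, k (starΦ hr hr2 hrp a) = k a := by
    intro a
    show u * _ = u * _
    rw [unitFn_symm _ hinv]
  have hsum : ∑ a, k a = u * w := by
    rw [hk, ← Finset.mul_sum, unitFn_sum _ w hw]
  have hisum : orderOf (q : ZMod r) * ∑ a, k a = c * u := by
    rw [hsum, hcw]
    ring
  obtain ⟨x, hx, hxc⟩ := (sreal_primePoly hF hr hr2 hrp hi0 k hks).exists_matrix d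
    (natDegree_primePoly hF hr hrp k (by rw [hisum]; exact hu))
  refine ⟨x, hx, ?_⟩
  rw [kdim_of_charpoly hF hr hr2 hrp x hx k hxc, hisum]

end elements

section scalar
variable {F : Type u} [Field F] [Fintype F] {d : ℕ}

theorem sympForm_smul_smul (z : F) (u v : Fin d ⊕ Fin d → F) :
    Cfsg.sympForm d F (z • u) (z • v) = z * z * Cfsg.sympForm d F u v := by
  rw [← sympBil_apply, ← sympBil_apply]
  simp only [map_smul, LinearMap.smul_apply, smul_eq_mul, mul_assoc]

theorem scalar_sq (hd : 0 < d) (z : F) (x : Matrix.symplecticGroup (Fin d) F)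
    (hx : (x : Matrix (Fin d ⊕ Fin d) (Fin d ⊕ Fin d) F) = z • 1) : z * z = 1 := by
  set u₀ : Fin d ⊕ Fin d → F := Pi.single (Sum.inl ⟨0, hd⟩) 1 with hu₀
  have hu₀0 : u₀ ≠ 0 := by
    intro h
    have := congrFun h (Sum.inl ⟨0, hd⟩)
    rw [hu₀, Pi.single_eq_same] at this
    exact one_ne_zero this
  obtain ⟨v₀, hv₀⟩ := exists_sympForm_ne_zero u₀ hu₀0
  have h1 := (LS_altInv x).inv u₀ v₀
  have hz : ∀ v, LS x v = z • v := by
    intro v
    rw [LS_apply, hx, Matrix.smul_mulVec, Matrix.one_mulVec]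
  rw [hz, hz, sympBil_apply, sympBil_apply, sympForm_smul_smul] at h1
  have h2 : (z * z - 1) * Cfsg.sympForm d F u₀ v₀ = 0 := by
    rw [sub_mul, h1, one_mul, sub_self]
  rcases mul_eq_zero.1 h2 with h | h
  · exact sub_eq_zero.1 h
  · exact absurd h hv₀

theorem eq_one_of_sq_of_pow (z : F) (hz : z * z = 1) (r : ℕ) (hr : Odd r) (hzr : z ^ r = 1) :
    z = 1 := by
  obtain ⟨m, rfl⟩ := hr
  rw [pow_succ, pow_mul, sq, hz, one_pow, one_mul] at hzr
  exact hzr

theorem not_scalar (hd : 0 < d) (r : ℕ) (hr : Odd r) (x : Matrix.symplecticGroup (Fin d) F)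
    (hx : x ^ r = 1) (hk : kdim (LS x) (X - 1) < 2 * d) (z : F) :
    (x : Matrix (Fin d ⊕ Fin d) (Fin d ⊕ Fin d) F) ≠ z • 1 := by
  intro hxz
  have hz := scalar_sq hd z x hxz
  have hzr : z ^ r = 1 := by
    have h1 : ((x ^ r : Matrix.symplecticGroup (Fin d) F) :
        Matrix (Fin d ⊕ Fin d) (Fin d ⊕ Fin d) F) = 1 := by
      rw [hx]
      rfl
    rw [SubmonoidClass.coe_pow, hxz, _root_.smul_pow, one_pow] at h1
    have := congrFun (congrFun h1 (Sum.inl ⟨0, hd⟩)) (Sum.inl ⟨0, hd⟩)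
    simpa using this
  have hz1 := eq_one_of_sq_of_pow z hz r hr hzr
  rw [hz1, one_smul] at hxz
  have hLS : LS x = 1 := by
    apply LinearMap.ext
    intro v
    rw [LS_apply, hxz, Matrix.one_mulVec]
    rfl
  rw [kdim_X_sub_one, hLS, sub_self, LinearMap.ker_zero, finrank_top,
    Module.finrank_fintype_fun_eq_card, Fintype.card_sum, Fintype.card_fin] at hk
  omega

/-- an element whose `r`-th power is scalar can be replaced by one whose `r`-th power is `1` -/
theorem exists_normalized (hd : 0 < d) (r : ℕ) (hr : Odd r)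
    (x : Matrix.symplecticGroup (Fin d) F) (z : F)
    (hxz : ((x ^ r : Matrix.symplecticGroup (Fin d) F) :
      Matrix (Fin d ⊕ Fin d) (Fin d ⊕ Fin d) F) = z • 1) :
    ∃ x' : Matrix.symplecticGroup (Fin d) F, x' ^ r = 1 ∧
      ∀ D : Submodule F (Fin d ⊕ Fin d → F),
        D.map (Matrix.toLin' (x' : Matrix (Fin d ⊕ Fin d) (Fin d ⊕ Fin d) F))
          = D.map (Matrix.toLin' (x : Matrix (Fin d ⊕ Fin d) (Fin d ⊕ Fin d) F)) := by
  have hz := scalar_sq hd z (x ^ r) hxz
  have hz0 : z ≠ 0 := by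
    rintro rfl
    simp at hz
  have hmem : z • (x : Matrix (Fin d ⊕ Fin d) (Fin d ⊕ Fin d) F)
      ∈ Matrix.symplecticGroup (Fin d) F := by
    apply mem_symplectic_of_preserves
    intro u v
    rw [Matrix.smul_mulVec, Matrix.smul_mulVec, sympForm_smul_smul, hz, one_mul, ← LS_apply,
      ← LS_apply, ← sympBil_apply, (LS_altInv x).inv, sympBil_apply]
  refine ⟨⟨z • (x : Matrix (Fin d ⊕ Fin d) (Fin d ⊕ Fin d) F), hmem⟩, ?_, ?_⟩
  · apply Subtype.ext
    rw [SubmonoidClass.coe_pow]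
    show (z • (x : Matrix (Fin d ⊕ Fin d) (Fin d ⊕ Fin d) F)) ^ r = 1
    rw [_root_.smul_pow, ← SubmonoidClass.coe_pow, hxz, smul_smul, ← pow_succ]
    obtain ⟨m, rfl⟩ := hr
    have : z ^ (2 * m + 1 + 1) = (z * z) ^ (m + 1) := by
      rw [← sq, ← pow_mul]
      congr 1
    rw [this, hz, one_pow, one_smul]
  · intro D
    show D.map (Matrix.toLin' (z • (x : Matrix (Fin d ⊕ Fin d) (Fin d ⊕ Fin d) F))) = _
    rw [map_smul, Submodule.map_smul _ _ z hz0]

end scalar

section arith2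
variable {F : Type u} [Field F] [Fintype F] {p : ℕ} [Fact p.Prime] [CharP F p] {r q : ℕ}

theorem c_le_pred (hF : Fintype.card F = q) (hr : r.Prime) (hr2 : r ≠ 2) (hrp : r ≠ p)
    (i c : ℕ) (hi : i = orderOf (q : ZMod r)) (hc : c = if Even i then i else 2 * i) :
    c ≤ r - 1 := by
  have hp : p.Prime := Fact.out
  have hne : (q : ZMod r) ≠ 0 := by
    intro h0
    rw [ZMod.natCast_eq_zero_iff] at h0
    obtain ⟨k, -, rfl⟩ := exists_card_pow (p := p) hF
    exact hrp ((Nat.prime_dvd_prime_iff_eq hr hp).1 (hr.dvd_of_dvd_pow h0))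
  have : Fact r.Prime := ⟨hr⟩
  have h1 : orderOf (q : ZMod r) ∣ r - 1 :=
    orderOf_dvd_of_pow_eq_one (ZMod.pow_card_sub_one_eq_one hne)
  have hr1 : 0 < r - 1 := by
    have := hr.two_le
    omega
  apply Nat.le_of_dvd hr1
  rw [hc]
  split_ifs with hev
  · rw [hi]
    exact h1
  · have hodd : Odd i := Nat.not_even_iff_odd.1 hev
    have h2 : 2 ∣ r - 1 := by
      rcases hr.eq_two_or_odd' with h | h
      · exact absurd h hr2
      · obtain ⟨m, hm⟩ := h
        exact ⟨m, by omega⟩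
    exact Nat.Coprime.mul_dvd_of_dvd_of_dvd hodd.coprime_two_left h2 (hi ▸ h1)

end arith2

section bad
variable {F : Type u} [Field F] [Fintype F] {p : ℕ} [Fact p.Prime] [CharP F p] {r q : ℕ}

/-- if the arithmetic condition fails, some element of order `r` stabilises no decomposition -/
theorem exists_bad (hF : Fintype.card F = q) (hr : r.Prime) (hr2 : r ≠ 2) (hrp : r ≠ p)
    (d s t : ℕ) (hdim : d + d = t * (s + s)) (ht : 2 ≤ t) (hs : 0 < s)
    (i c : ℕ) (hi : i = orderOf (q : ZMod r)) (hc : c = if Even i then i else 2 * i)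
    (hcn : c ≤ 2 * d)
    (hnot : ¬ (c ≤ s + s ∧ (2 * d) % c = t * ((s + s) % c))) :
    ∃ x : Matrix.symplecticGroup (Fin d) F, x ^ r = 1 ∧
      (∀ z : F, (x : Matrix (Fin d ⊕ Fin d) (Fin d ⊕ Fin d) F) ≠ z • 1) ∧
      ∀ (Φ : (Fin t → (Fin s ⊕ Fin s → F)) ≃ₗ[F] (Fin d ⊕ Fin d → F)), IsIso Φ →
        ∀ σ : Equiv.Perm (Fin t), ¬ ∀ j, (decompOf Φ j).map
          (Matrix.toLin' (x : Matrix (Fin d ⊕ Fin d) (Fin d ⊕ Fin d) F)) = decompOf Φ (σ j) := by
  have hrodd : Odd r := hr.eq_two_or_odd'.resolve_left hr2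
  have hi0 := pos_orderOf hF hr hrp
  have hi0' : 0 < i := hi ▸ hi0
  obtain ⟨w, hw, hcw⟩ := exists_weight hF hr hr2 hrp i c hi hc
  have hc0 : 0 < c := by
    rcases hw with ⟨-, rfl⟩ | ⟨-, rfl⟩ <;> omega
  have hd0 : 0 < d := by
    have : 2 * (s + s) ≤ t * (s + s) := Nat.mul_le_mul_right _ ht
    omega
  have hU : ∃ u : Fin s ⊕ Fin s → F, u ≠ 0 := by
    refine ⟨Pi.single (Sum.inl ⟨0, hs⟩) 1, fun h => ?_⟩
    have := congrFun h (Sum.inl ⟨0, hs⟩)
    rw [Pi.single_eq_same] at this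
    exact one_ne_zero this
  have hfinU : finrank F (Fin s ⊕ Fin s → F) = s + s := by
    rw [Module.finrank_fintype_fun_eq_card, Fintype.card_sum, Fintype.card_fin]
  have hsumc : ∀ (f : Fin t → ℕ) (e : ℕ), (∀ j, e ≤ f j) → t * e ≤ ∑ j, f j := by
    intro f e hf
    calc t * e = ∑ _j : Fin t, e := by
          rw [Finset.sum_const, Finset.card_univ, Fintype.card_fin, smul_eq_mul]
      _ ≤ ∑ j, f j := Finset.sum_le_sum (fun j _ => hf j)
  by_cases hca : c ≤ s + s
  · have hmod : (2 * d) % c ≠ t * ((s + s) % c) := fun h => hnot ⟨hca, h⟩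
    have hsb : c * ((s + s) / c) + (s + s) % c = s + s := Nat.div_add_mod _ _
    have hmod' : (2 * d) % c = (t * ((s + s) % c)) % c := by
      have : 2 * d = c * (t * ((s + s) / c)) + t * ((s + s) % c) := by
        have h1 : t * (s + s) = t * (c * ((s + s) / c) + (s + s) % c) := by rw [hsb]
        rw [two_mul, hdim, h1]
        ring
      rw [this, Nat.mul_add_mod]
    have htℓ : c ≤ t * ((s + s) % c) := by
      by_contra hlt
      push Not at hlt
      rw [Nat.mod_eq_of_lt hlt] at hmod'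
      exact hmod hmod'
    obtain ⟨x, hx, hxk⟩ := exists_unit_elt hF hr hr2 hrp i c hi hc d ((2 * d) / c)
      (Nat.mul_div_le _ _)
    have hfix : kdim (LS x) (X - 1) = (2 * d) % c := by
      rw [hxk]
      have := Nat.div_add_mod (2 * d) c
      omega
    have hfixlt : kdim (LS x) (X - 1) < c := by
      rw [hfix]
      exact Nat.mod_lt _ hc0
    refine ⟨x, hx, not_scalar hd0 r hrodd x hx (by omega), ?_⟩
    intro Φ hΦ σ hσ
    obtain ⟨y, hmono, hyB, hyr, hyk⟩ := exists_mono x Φ hΦ σ hσ r hx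
    by_cases hσ1 : ∀ j, σ j = j
    · have hσe : σ = 1 := Equiv.ext hσ1
      subst hσe
      obtain ⟨f, hf, hsum⟩ := exists_block_fix hF hr hr2 hrp i c hi hc y hmono hyB hyr
      have hfl : ∀ j, (s + s) % c ≤ f j := by
        intro j
        obtain ⟨u, hu⟩ := hf j
        have h1 : (s + s) % c = f j % c := by
          conv_lhs => rw [hu]
          rw [Nat.add_mul_mod_self_left]
        rw [h1]
        exact Nat.mod_le _ _
      have := hsumc f _ hfl
      omega
    · push Not at hσ1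
      obtain ⟨j₀, hj₀⟩ := hσ1
      have := finrank_le_fix y σ hmono r hr hyr hU j₀ hj₀
      rw [hfinU, ← kdim_X_sub_one, hyk] at this
      omega
  · push Not at hca
    obtain ⟨x, hx, hxk⟩ := exists_unit_elt hF hr hr2 hrp i c hi hc d 1 (by omega)
    rw [mul_one] at hxk
    refine ⟨x, hx, not_scalar hd0 r hrodd x hx (by omega), ?_⟩
    intro Φ hΦ σ hσ
    obtain ⟨y, hmono, hyB, hyr, hyk⟩ := exists_mono x Φ hΦ σ hσ r hx
    by_cases hσ1 : ∀ j, σ j = j
    · have hσe : σ = 1 := Equiv.ext hσ1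
      subst hσe
      obtain ⟨f, hf, hsum⟩ := exists_block_fix hF hr hr2 hrp i c hi hc y hmono hyB hyr
      have hfa : ∀ j, s + s ≤ f j := by
        intro j
        obtain ⟨u, hu⟩ := hf j
        rcases Nat.eq_zero_or_pos u with h0 | hpos
        · rw [h0, mul_zero, add_zero] at hu
          omega
        · have : c ≤ c * u := Nat.le_mul_of_pos_right _ hpos
          omega
      have := hsumc f _ hfa
      omega
    · push Not at hσ1
      obtain ⟨j₀, hj₀⟩ := hσ1
      have h1 := fix_add_le y σ hmono r hr hyr hU j₀ hj₀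
      rw [hfinU, ← kdim_X_sub_one, hyk, hxk] at h1
      have h2 := c_le_pred hF hr hr2 hrp i c hi hc
      have h3 : (r - 1) * 2 ≤ (r - 1) * (s + s) := Nat.mul_le_mul_left _ (by omega)
      have hr2' := hr.two_le
      omega

end bad

end Cfsg.Agent.Helper13.SpDec
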