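import Mathlib
import Cfsg.Agent.Lib.Helper13.SpTi1
import Cfsg.Agent.Lib.Helper28.WittQuad

set_option autoImplicit false
set_option linter.unusedSectionVars false

/-!
# Invariant totally singular subspaces of semisimple isometries: necessary conditions
-/

namespace Cfsg.Agent.Helper13.OrthTs

open Polynomial Module QuadraticMap Cfsg.Agent.Helper13.SS Cfsg.Agent.Helper13.Dual
  Cfsg.Agent.Helper13.SympSS Cfsg.Agent.Helper13.SpDec Cfsg.Agent.Helper13.SlDec
  Cfsg.Agent.Helper13.SpTi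
open scoped Classical

universe u

section duality
variable {F : Type u} [Field F] {m : ℕ} {V : Type*} [AddCommGroup V] [Module F V]
  [FiniteDimensional F V]

/-- the pairing between the eigenspaces of dual factors is perfect -/
theorem pairing_injective' (hm : 1 ≤ m) (hmF : (m : F) ≠ 0) {A : Module.End F V}
    {B : LinearMap.BilinForm F V} (hAm : A ^ m = 1)
    (hnd : ∀ u, (∀ v, B u v = 0) → u = 0) (hinv : ∀ u v, B (A u) (A v) = B u v) {f : F[X]}
    (hf : Irreducible f) (hfm : f ∣ X ^ m - 1) :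
    Function.Injective (B.domRestrict₁₂ (LinearMap.ker (aeval A f))
      (LinearMap.ker (aeval A (dualPoly m f)))) := by
  set f' := dualPoly m f with hf'
  have hf'irr : Irreducible f' := dualPoly_irreducible hf
  obtain ⟨Q, hQ⟩ : f' ∣ X ^ m - 1 := dualPoly_dvd hf hfm
  have hsq : Squarefree (X ^ m - 1 : F[X]) := X_pow_sub_one_squarefree hmF
  have hndv : ¬ f' ∣ Q := by
    intro hd
    obtain ⟨c, hc⟩ := hd
    have h1 : f' * f' ∣ X ^ m - 1 := by
      rw [hQ, hc, ← mul_assoc]
      exact dvd_mul_right _ _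
    exact hf'irr.not_isUnit (hsq f' h1)
  have hcop : IsCoprime f' Q := hf'irr.coprime_iff_not_dvd.2 hndv
  have hkill : aeval A (f' * Q) = 0 := by
    rw [← hQ, map_sub, map_pow, aeval_X, map_one, hAm, sub_self]
  have hcompl := isCompl_ker_aeval A hcop hkill
  have hcop2 : IsCoprime f (Q.comp (X ^ (m - 1))) := by
    rw [hf.coprime_iff_not_dvd, dvd_comp_iff hf]
    exact hndv
  set W := LinearMap.ker (aeval A f) with hW
  set W' := LinearMap.ker (aeval A f') with hW'
  set U := LinearMap.ker (aeval A Q) with hU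
  let Λ : W →ₗ[F] W' →ₗ[F] F := B.domRestrict₁₂ W W'
  have hΛ : ∀ (u : W) (w : W'), Λ u w = B (u : V) (w : V) := fun u w => rfl
  show Function.Injective Λ
  rw [injective_iff_map_eq_zero]
  intro u hu
  apply Subtype.ext
  apply hnd
  intro v
  obtain ⟨a, b, rfl⟩ := exists_decomp hcompl v
  rw [map_add]
  have h1 : B (u : V) (a : V) = 0 := by
    rw [← hΛ, hu]
    rfl
  have h2 : B (u : V) (b : V) = 0 :=
    orth_of_coprime hm hAm hinv f Q hcop2 (u : V) (b : V) (LinearMap.mem_ker.1 u.2)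
      (LinearMap.mem_ker.1 b.2)
  rw [h1, h2, add_zero]

/-- an invariant totally isotropic subspace meets dual eigenspaces in small subspaces -/
theorem ti_kdim_le' (hm : 1 ≤ m) (hmF : (m : F) ≠ 0) {A : Module.End F V}
    {B : LinearMap.BilinForm F V} (hAm : A ^ m = 1)
    (hnd : ∀ u, (∀ v, B u v = 0) → u = 0) (hinv : ∀ u v, B (A u) (A v) = B u v) {f : F[X]}
    (hf : Irreducible f) (hfm : f ∣ X ^ m - 1) (W : Submodule F V)
    (hWinv : ∀ v ∈ W, A v ∈ W) (hW : ∀ u ∈ W, ∀ v ∈ W, B u v = 0) :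
    kdim (A.restrict hWinv) f + kdim (A.restrict hWinv) (dualPoly m f)
      ≤ kdim A (dualPoly m f) := by
  set f' := dualPoly m f with hf'
  set K := LinearMap.ker (aeval A f) with hK
  set K' := LinearMap.ker (aeval A f') with hK'
  have hinj := pairing_injective' hm hmF hAm hnd hinv hf hfm
  set Λ : K →ₗ[F] Module.Dual F K' := B.domRestrict₁₂ K K' with hΛd
  have hΛ : ∀ (u : K) (w : K'), Λ u w = B (u : V) (w : V) := fun u w => rfl
  set Wf : Submodule F K := W.comap K.subtype with hWf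
  set Wf' : Submodule F K' := W.comap K'.subtype with hWf'
  have h1 : kdim (A.restrict hWinv) f = finrank F Wf := by
    unfold kdim
    rw [ker_aeval_restrict]
    exact LinearEquiv.finrank_eq (swapEquiv W K)
  have h2 : kdim (A.restrict hWinv) f' = finrank F Wf' := by
    unfold kdim
    rw [ker_aeval_restrict]
    exact LinearEquiv.finrank_eq (swapEquiv W K')
  have h3 : Wf.map Λ ≤ Wf'.dualAnnihilator := by
    rintro φ ⟨u, hu, rfl⟩
    rw [Submodule.mem_dualAnnihilator]
    intro w hw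
    rw [hΛ]
    exact hW _ hu _ hw
  have h4 : finrank F (Wf.map Λ) = finrank F Wf :=
    (LinearEquiv.finrank_eq (Submodule.equivMapOfInjective Λ hinj Wf)).symm
  have h5 := Subspace.finrank_add_finrank_dualAnnihilator_eq Wf'
  have h6 := Submodule.finrank_mono h3
  rw [h1, h2]
  have h7 : kdim A f' = finrank F K' := rfl
  omega

end duality

section pattern
variable {F : Type u} [Field F] [Fintype F] {p : ℕ} [Fact p.Prime] [CharP F p] {r q : ℕ}

/-- the shape of an invariant totally singular subspace -/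
theorem pattern_of_ts (hF : Fintype.card F = q) (hr : r.Prime) (hr2 : r ≠ 2) (hrp : r ≠ p)
    {V : Type*} [AddCommGroup V] [Module F V] [FiniteDimensional F V]
    (Q : QuadraticForm F V) (hQ : (polarBilin Q).Nondegenerate)
    (A : Module.End F V) (hAQ : ∀ v, Q (A v) = Q v) (hAr : A ^ r = 1)
    (e₀ : ℕ) (k : ↥(cycFactors F r) → ℕ) (hcp : A.charpoly = gPoly r e₀ k)
    (W : Submodule F V) (hWinv : ∀ v ∈ W, A v ∈ W) (hW : ∀ w ∈ W, Q w = 0) :
    ∃ (e : ℕ) (j : ↥(cycFactors F r) → ℕ),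
      finrank F W = e + orderOf (q : ZMod r) * ∑ a, j a ∧ 2 * e ≤ e₀ ∧
      ∀ a, j a + j (starΦ hr hr2 hrp a) ≤ k a := by
  have hr1 : 1 ≤ r := hr.one_lt.le
  have hrF : (r : F) ≠ 0 := cast_ne_zero_of_prime_ne hr hrp
  set B := polarBilin Q with hB
  have hnd : ∀ u, (∀ v, B u v = 0) → u = 0 := fun u hu => hQ.1 u hu
  have hinv : ∀ u v, B (A u) (A v) = B u v := fun u v =>
    Cfsg.Agent.Helper28.WittQuad.polar_of_isom (Q := Q) hAQ u v
  have hWB : ∀ u ∈ W, ∀ v ∈ W, B u v = 0 := by
    intro u hu v hv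
    show polar Q u v = 0
    unfold polar
    rw [hW _ (W.add_mem hu hv), hW u hu, hW v hv]
    simp
  obtain ⟨hfixA, hkA⟩ := kdim_of_gPoly hF hr hrp A hAr _ k hcp
  set A' := A.restrict hWinv with hA'
  have hA'r : A' ^ r = 1 := restrict_pow_eq_one A hAr W hWinv
  obtain ⟨j, hfin, hcp'⟩ := struct_gl hF hr hrp A' hA'r
  obtain ⟨-, hkA'⟩ := kdim_of_gPoly hF hr hrp A' hA'r _ j hcp'
  have hi0 : 0 < orderOf (q : ZMod r) := pos_orderOf hF hr hrp
  refine ⟨kdim A' (X - 1), j, hfin, ?_, ?_⟩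
  · have h1 := ti_kdim_le' hr1 hrF hAr hnd hinv (irreducible_X_sub_one (F := F))
      (by
        rw [← X_sub_one_mul_prod (F := F) hr hrp]
        exact Finset.dvd_prod_of_mem _ (Finset.mem_insert_self _ _)) W hWinv hWB
    rw [dualPoly_X_sub_one, hfixA, ← hA'] at h1
    omega
  · intro a
    have h1 := ti_kdim_le' hr1 hrF hAr hnd hinv (cycFactors_irreducible (starΦ hr hr2 hrp a).2)
      (cycFactors_dvd_X_pow (starΦ hr hr2 hrp a).2) W hWinv hWB
    have h2 : dualPoly r (starΦ hr hr2 hrp a).1 = a.1 :=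
      congrArg Subtype.val (starΦ_involutive (F := F) hr hr2 hrp a)
    rw [h2, ← hA', hkA, hkA' a, hkA' (starΦ hr hr2 hrp a), ← mul_add] at h1
    have := Nat.le_of_mul_le_mul_left h1 hi0
    omega

end pattern

end Cfsg.Agent.Helper13.OrthTs
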