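import Mathlib
import Cfsg.Agent.Lib.Helper13.SpTi1

set_option autoImplicit false
set_option linter.unusedSectionVars false

/-!
# Invariant totally isotropic subspaces of semisimple isometries: the hyperbolic model
-/

namespace Cfsg.Agent.Helper13.SpTi

open Polynomial Module Cfsg.Agent.Helper13.SS Cfsg.Agent.Helper13.Dual
  Cfsg.Agent.Helper13.SympSS Cfsg.Agent.Helper13.SpDec Cfsg.Agent.Helper13.SlDec
  Cfsg.Agent.Helper28.SympIso
open scoped Classical

universe u

section hyp
variable {F : Type u} [Field F] {ι : Type} [Fintype ι] [DecidableEq ι]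

/-- the hyperbolic form -/
noncomputable def hypForm (ι : Type) [Fintype ι] (F : Type u) [Field F] :
    LinearMap.BilinForm F ((ι → F) × (ι → F)) :=
  LinearMap.mk₂ F (fun u v => u.2 ⬝ᵥ v.1 - v.2 ⬝ᵥ u.1)
    (fun u u' v => by
      simp only [Prod.snd_add, Prod.fst_add, add_dotProduct, dotProduct_add]
      ring)
    (fun c u v => by
      simp only [Prod.smul_snd, Prod.smul_fst, smul_dotProduct, dotProduct_smul, smul_eq_mul]
      ring)
    (fun u v v' => by
      simp only [Prod.snd_add, Prod.fst_add, add_dotProduct, dotProduct_add]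
      ring)
    (fun c u v => by
      simp only [Prod.smul_snd, Prod.smul_fst, smul_dotProduct, dotProduct_smul, smul_eq_mul]
      ring)

theorem hypForm_apply (u v : (ι → F) × (ι → F)) :
    hypForm ι F u v = u.2 ⬝ᵥ v.1 - v.2 ⬝ᵥ u.1 := rfl

/-- the hyperbolic map of a pair of mutually inverse matrices -/
noncomputable def hypMap (G G' : Matrix ι ι F) : Module.End F ((ι → F) × (ι → F)) :=
  (Matrix.toLin' G).prodMap (Matrix.toLin' G'.transpose)

theorem hypMap_apply (G G' : Matrix ι ι F) (u : (ι → F) × (ι → F)) :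
    hypMap G G' u = (G.mulVec u.1, G'.transpose.mulVec u.2) := by
  unfold hypMap
  rw [LinearMap.prodMap_apply, Matrix.toLin'_apply, Matrix.toLin'_apply]

theorem hypMap_pow (G G' : Matrix ι ι F) (k : ℕ) :
    (hypMap G G') ^ k = hypMap (G ^ k) (G' ^ k) := by
  unfold hypMap
  rw [prodMap_pow, ← Matrix.toLin'_pow, ← Matrix.toLin'_pow, Matrix.transpose_pow]

theorem hypMap_one : hypMap (1 : Matrix ι ι F) 1 = 1 := by
  unfold hypMap
  rw [Matrix.transpose_one, Matrix.toLin'_one]
  apply LinearMap.ext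
  rintro ⟨a, b⟩
  rfl

theorem hypMap_charpoly (G G' : Matrix ι ι F) :
    (hypMap G G').charpoly = G.charpoly * G'.charpoly := by
  unfold hypMap
  rw [LinearMap.charpoly_prodMap, Matrix.charpoly_toLin', Matrix.charpoly_toLin',
    Matrix.charpoly_transpose]

theorem hypMap_altInv (G G' : Matrix ι ι F) (h : G' * G = 1) :
    AltInv (hypMap G G') (hypForm ι F) := by
  refine ⟨fun u => ?_, fun u hu => ?_, fun u v => ?_⟩
  · rw [hypForm_apply, sub_self]
  · have h1 : u.1 = 0 := by
      funext i
      have := hu (0, Pi.single i 1)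
      rw [hypForm_apply] at this
      simpa using this
    have h2 : u.2 = 0 := by
      funext i
      have := hu (Pi.single i 1, 0)
      rw [hypForm_apply] at this
      simpa using this
    exact Prod.ext h1 h2
  · have key : ∀ w z : ι → F, G'.transpose.mulVec w ⬝ᵥ G.mulVec z = w ⬝ᵥ z := by
      intro w z
      rw [Matrix.mulVec_transpose, ← Matrix.dotProduct_mulVec, Matrix.mulVec_mulVec, h,
        Matrix.one_mulVec]
    rw [hypForm_apply, hypForm_apply, hypMap_apply, hypMap_apply]
    simp only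
    rw [key, key]

/-- the embedding of the first factor -/
noncomputable def inlMap (ι : Type) [Fintype ι] (F : Type u) [Field F] (V₀ : Type*)
    [AddCommGroup V₀] [Module F V₀] : (ι → F) →ₗ[F] ((ι → F) × (ι → F)) × V₀ :=
  LinearMap.inl F _ V₀ ∘ₗ LinearMap.inl F (ι → F) (ι → F)

theorem inlMap_apply {V₀ : Type*} [AddCommGroup V₀] [Module F V₀] (a : ι → F) :
    inlMap ι F V₀ a = ((a, 0), 0) := rfl

theorem inlMap_injective {V₀ : Type*} [AddCommGroup V₀] [Module F V₀] :
    Function.Injective (inlMap ι F V₀) := by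
  intro a b h
  rw [inlMap_apply, inlMap_apply] at h
  exact congrArg (fun z => z.1.1) h

end hyp

section inter
variable {F : Type u} [Field F] [Finite F]

/-- two isometries of symplectic spaces killed by the same squarefree polynomial, with the same
characteristic polynomial, are intertwined by an isometry -/
theorem exists_intertwining_iso_gen (M : ℕ) (hM : 1 ≤ M) (hMF : (M : F) ≠ 0)
    (S : Finset F[X]) (hirr : ∀ f ∈ S, Irreducible f) (hmon : ∀ f ∈ S, f.Monic)
    {V W : Type u} [AddCommGroup V] [Module F V] [FiniteDimensional F V]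
    [AddCommGroup W] [Module F W] [FiniteDimensional F W]
    (A : Module.End F V) (B : LinearMap.BilinForm F V) (y : Module.End F W)
    (BW : LinearMap.BilinForm F W) (hAB : AltInv A B) (hyB : AltInv y BW)
    (hyM : y ^ M = 1) (hkA : aeval A (∏ f ∈ S, f) = 0)
    (hky : aeval y (∏ f ∈ S, f) = 0) (hcp : y.charpoly = A.charpoly) :
    ∃ Φ : W ≃ₗ[F] V, (∀ w, Φ (y w) = A (Φ w)) ∧ ∀ u v, B (Φ u) (Φ v) = BW u v := by
  obtain ⟨T, hT⟩ := exists_equiv_of_charpoly_eq S hirr hmon y A hky hkA hcp
  set B' : LinearMap.BilinForm F W :=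
    B.compl₁₂ (T : W →ₗ[F] V) (T : W →ₗ[F] V) with hB'
  have hB'a : ∀ u v, B' u v = B (T u) (T v) := fun u v => rfl
  have hyB' : AltInv y B' := by
    refine ⟨fun u => hAB.alt _, ?_, ?_⟩
    · intro u hu
      apply T.injective
      rw [map_zero]
      apply hAB.nondeg
      intro v
      have := hu (T.symm v)
      rwa [hB'a, T.apply_symm_apply] at this
    · intro u v
      rw [hB'a, hB'a, hT, hT, hAB.inv]
  obtain ⟨Z, hZc, hZ⟩ := exists_commuting_isometry M hM hMF
    (finrank F W) W y BW B' rfl hyM hyB hyB'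
  have hZs : ∀ v, Z.symm (y v) = y (Z.symm v) := by
    intro v
    apply Z.injective
    rw [Z.apply_symm_apply, hZc, Z.apply_symm_apply]
  refine ⟨Z.symm.trans T, ?_, ?_⟩
  · intro w
    show T (Z.symm (y w)) = A (T (Z.symm w))
    rw [hZs, hT]
  · intro u v
    show B (T (Z.symm u)) (T (Z.symm v)) = BW u v
    rw [← hB'a, ← hZ, Z.apply_symm_apply, Z.apply_symm_apply]

/-- an isometry with the characteristic polynomial of a hyperbolic model fixes a totally
isotropic subspace -/
theorem exists_ti_of_model (M : ℕ) (hM : 1 ≤ M) (hMF : (M : F) ≠ 0)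
    (S : Finset F[X]) (hirr : ∀ f ∈ S, Irreducible f) (hmon : ∀ f ∈ S, f.Monic)
    {V : Type u} [AddCommGroup V] [Module F V] [FiniteDimensional F V]
    (A : Module.End F V) (B : LinearMap.BilinForm F V) (hAB : AltInv A B)
    (hkA : aeval A (∏ f ∈ S, f) = 0)
    {ι : Type} [Fintype ι] [DecidableEq ι] (G G' : Matrix ι ι F) (hGG' : G' * G = 1)
    {V₀ : Type u} [AddCommGroup V₀] [Module F V₀] [FiniteDimensional F V₀]
    (y₀ : Module.End F V₀) (B₀ : LinearMap.BilinForm F V₀) (hy₀ : AltInv y₀ B₀)
    (hyM : ((hypMap G G').prodMap y₀) ^ M = 1)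
    (hky : aeval ((hypMap G G').prodMap y₀) (∏ f ∈ S, f) = 0)
    (hcp : G.charpoly * G'.charpoly * y₀.charpoly = A.charpoly) :
    ∃ W : Submodule F V, finrank F W = Fintype.card ι ∧ (∀ u ∈ W, ∀ v ∈ W, B u v = 0) ∧
      ∀ v ∈ W, A v ∈ W := by
  set y : Module.End F (((ι → F) × (ι → F)) × V₀) := (hypMap G G').prodMap y₀ with hy
  have hyB : AltInv y (sumForm (hypForm ι F) B₀) := by
    have h1 := hypMap_altInv G G' hGG'
    refine ⟨?_, ?_, ?_⟩
    · intro u
      rw [sumForm_apply, h1.alt, hy₀.alt, add_zero]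
    · rintro ⟨a, b⟩ h
      have ha : a = 0 := by
        apply h1.nondeg
        intro v
        have := h (v, 0)
        rw [sumForm_apply] at this
        simpa using this
      have hb : b = 0 := by
        apply hy₀.nondeg
        intro v
        have := h (0, v)
        rw [sumForm_apply] at this
        simpa using this
      rw [ha, hb]
      rfl
    · intro u v
      rw [sumForm_apply, sumForm_apply]
      show hypForm ι F (hypMap G G' u.1) (hypMap G G' v.1) + B₀ (y₀ u.2) (y₀ v.2) = _
      rw [h1.inv, hy₀.inv]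
  have hycp : y.charpoly = A.charpoly := by
    rw [hy, LinearMap.charpoly_prodMap, hypMap_charpoly, hcp]
  obtain ⟨Φ, hΦc, hΦ⟩ := exists_intertwining_iso_gen M hM hMF S hirr hmon A B y
    (sumForm (hypForm ι F) B₀) hAB hyB hyM hkA hky hycp
  set L : (ι → F) →ₗ[F] V := (Φ : _ →ₗ[F] V) ∘ₗ inlMap ι F V₀ with hL
  have hLa : ∀ a, L a = Φ ((a, 0), 0) := fun a => rfl
  have hLinj : Function.Injective L := by
    intro a b h
    exact inlMap_injective (Φ.injective h)
  refine ⟨LinearMap.range L, ?_, ?_, ?_⟩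
  · rw [LinearMap.finrank_range_of_inj hLinj, Module.finrank_fintype_fun_eq_card]
  · rintro _ ⟨a, rfl⟩ _ ⟨b, rfl⟩
    rw [hLa, hLa, hΦ, sumForm_apply, hypForm_apply]
    simp
  · rintro _ ⟨a, rfl⟩
    refine ⟨G.mulVec a, ?_⟩
    rw [hLa, hLa, ← hΦc]
    congr 1
    rw [hy, LinearMap.prodMap_apply, hypMap_apply]
    simp

end inter

end Cfsg.Agent.Helper13.SpTi
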