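import Mathlib
import Cfsg.Agent.Lib.Helper13.SpTi2

set_option autoImplicit false
set_option linter.unusedSectionVars false

/-!
# Invariant totally isotropic subspaces of isometries of odd prime order: sufficiency
-/

namespace Cfsg.Agent.Helper13.SpTi

open Polynomial Module Cfsg.Agent.Helper13.SS Cfsg.Agent.Helper13.Dual
  Cfsg.Agent.Helper13.SympSS Cfsg.Agent.Helper13.SpDec Cfsg.Agent.Helper13.SlDec
  Cfsg.Agent.Helper28.SympIso
open scoped Classical

universe u

section inverse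
variable {F : Type u} [Field F] {m : ℕ} {V : Type*} [AddCommGroup V] [Module F V]

theorem ker_aeval_dual_le (g : Module.End F V) (hm : 1 ≤ m) {f : F[X]} (hf : Irreducible f)
    (hmon : f.Monic) (hfm : f ∣ X ^ m - 1) :
    LinearMap.ker (aeval g (dualPoly m f)) ≤ LinearMap.ker (aeval (g ^ (m - 1)) f) := by
  set f' := dualPoly m f with hf'
  have hf'irr : Irreducible f' := dualPoly_irreducible hf
  have h1 : f' ∣ f.comp (X ^ (m - 1)) := by
    have := dvd_dualPoly_comp (m := m) hf'irr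
    rwa [dualPoly_dualPoly hm hf hmon hfm] at this
  have h2 := ker_aeval_le_of_dvd g h1
  have h3 : aeval g (f.comp (X ^ (m - 1))) = aeval (g ^ (m - 1)) f := by
    rw [aeval_comp, map_pow, aeval_X]
  rw [h3] at h2
  exact h2

theorem kdim_pow_pred [FiniteDimensional F V] (g : Module.End F V) (hm : 1 ≤ m)
    (hg : g ^ m = 1) {f : F[X]} (hf : Irreducible f) (hmon : f.Monic) (hfm : f ∣ X ^ m - 1) :
    kdim (g ^ (m - 1)) f = kdim g (dualPoly m f) := by
  apply le_antisymm
  · have hg' : (g ^ (m - 1)) ^ m = 1 := by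
      rw [← pow_mul, mul_comm, pow_mul, hg, one_pow]
    have h1 := ker_aeval_dual_le (g ^ (m - 1)) hm (dualPoly_irreducible (m := m) hf)
      (dualPoly_monic hf) (dualPoly_dvd hf hfm)
    rw [dualPoly_dualPoly hm hf hmon hfm, pow_pred_pow_pred g hm hg] at h1
    exact Submodule.finrank_mono h1
  · exact Submodule.finrank_mono (ker_aeval_dual_le g hm hf hmon hfm)

theorem toMatrix'_pow {ι : Type*} [Fintype ι] [DecidableEq ι] (g : Module.End F (ι → F))
    (k : ℕ) : LinearMap.toMatrix' (g ^ k) = (LinearMap.toMatrix' g) ^ k := by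
  induction k with
  | zero =>
    rw [pow_zero, pow_zero]
    exact LinearMap.toMatrix'_one
  | succ k ih =>
    rw [pow_succ, pow_succ, LinearMap.toMatrix'_mul, ih]

end inverse

section odd
variable {F : Type u} [Field F] [Fintype F] {p : ℕ} [Fact p.Prime] [CharP F p] {r q : ℕ}

theorem gPoly_mul (e e' : ℕ) (k k' : ↥(cycFactors F r) → ℕ) :
    gPoly r e k * gPoly r e' k' = gPoly r (e + e') (fun a => k a + k' a) := by
  unfold gPoly
  rw [pow_add, Finset.prod_congr rfl (fun a _ => pow_add a.1 (k a) (k' a)),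
    Finset.prod_mul_distrib]
  ring

/-- the characteristic polynomial of the inverse -/
theorem charpoly_pow_pred (hF : Fintype.card F = q) (hr : r.Prime) (hr2 : r ≠ 2) (hrp : r ≠ p)
    {V : Type*} [AddCommGroup V] [Module F V] [FiniteDimensional F V]
    (g : Module.End F V) (hg : g ^ r = 1) (e : ℕ) (j : ↥(cycFactors F r) → ℕ)
    (hcp : g.charpoly = gPoly r e j) :
    (g ^ (r - 1)).charpoly = gPoly r e (fun a => j (starΦ hr hr2 hrp a)) := by
  have hr1 : 1 ≤ r := hr.one_lt.le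
  have hi0 : 0 < orderOf (q : ZMod r) := pos_orderOf hF hr hrp
  have hg' : (g ^ (r - 1)) ^ r = 1 := by
    rw [← pow_mul, mul_comm, pow_mul, hg, one_pow]
  obtain ⟨j', -, hcp'⟩ := struct_gl hF hr hrp (g ^ (r - 1)) hg'
  obtain ⟨-, hk'⟩ := kdim_of_gPoly hF hr hrp (g ^ (r - 1)) hg' _ j' hcp'
  obtain ⟨hfix, hk⟩ := kdim_of_gPoly hF hr hrp g hg e j hcp
  have h1 : kdim (g ^ (r - 1)) (X - 1) = e := by
    rw [kdim_pow_pred g hr1 hg (irreducible_X_sub_one (F := F))
      (by
        have : (X - 1 : F[X]) = X - C 1 := by rw [map_one]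
        rw [this]
        exact monic_X_sub_C 1)
      (by
        rw [← X_sub_one_mul_prod (F := F) hr hrp]
        exact Finset.dvd_prod_of_mem _ (Finset.mem_insert_self _ _)),
      dualPoly_X_sub_one, hfix]
  have h2 : j' = fun a => j (starΦ hr hr2 hrp a) := by
    funext a
    have h3 := kdim_pow_pred g hr1 hg (cycFactors_irreducible a.2) (cycFactors_monic a.2)
      (cycFactors_dvd_X_pow a.2)
    rw [hk' a] at h3
    have h4 : kdim g (dualPoly r a.1) = orderOf (q : ZMod r) * j (starΦ hr hr2 hrp a) :=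
      hk (starΦ hr hr2 hrp a)
    rw [h4] at h3
    exact Nat.eq_of_mul_eq_mul_left hi0 h3
  rw [hcp', h1, h2]

theorem prodMap_one_one {V W : Type*} [AddCommGroup V] [Module F V] [AddCommGroup W]
    [Module F W] : (1 : Module.End F V).prodMap (1 : Module.End F W) = 1 := by
  apply LinearMap.ext
  rintro ⟨a, b⟩
  rfl

/-- sufficiency: an isometry of order `r` fixes a totally isotropic subspace of each
admissible shape -/
theorem exists_ti_of_pattern (hF : Fintype.card F = q) (hr : r.Prime) (hr2 : r ≠ 2)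
    (hrp : r ≠ p) (d m : ℕ) (hmd : m ≤ d) (x : Matrix.symplecticGroup (Fin d) F)
    (hx : x ^ r = 1) (k : ↥(cycFactors F r) → ℕ)
    (hk : ∀ a, k (starΦ hr hr2 hrp a) = k a)
    (hcp : (x : Matrix (Fin d ⊕ Fin d) (Fin d ⊕ Fin d) F).charpoly
      = primePoly r d (orderOf (q : ZMod r)) k)
    (e : ℕ) (j : ↥(cycFactors F r) → ℕ)
    (hmj : m = e + orderOf (q : ZMod r) * ∑ a, j a)
    (hfix : 2 * e + orderOf (q : ZMod r) * ∑ a, k a ≤ 2 * d)
    (hjk : ∀ a, j a + j (starΦ hr hr2 hrp a) ≤ k a) :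
    ∃ W : Submodule F (Fin d ⊕ Fin d → F), finrank F W = m ∧
      (∀ u ∈ W, ∀ v ∈ W, sympBil d F u v = 0) ∧ ∀ v ∈ W, LS x v ∈ W := by
  have hr1 : 1 ≤ r := hr.one_lt.le
  have hrF : (r : F) ≠ 0 := cast_ne_zero_of_prime_ne hr hrp
  have hi0 : 0 < orderOf (q : ZMod r) := pos_orderOf hF hr hrp
  have hinv := starΦ_involutive (F := F) hr hr2 hrp
  set S := insert (X - 1 : F[X]) (cycFactors F r) with hS
  have hirr : ∀ f ∈ S, Irreducible f := fun f hf => insert_irreducible hf
  have e1 : (X - 1 : F[X]) = X - C 1 := by rw [map_one]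
  have hmon : ∀ f ∈ S, f.Monic := by
    intro f hf
    rcases Finset.mem_insert.1 hf with rfl | hf
    · rw [e1]
      exact monic_X_sub_C 1
    · exact cycFactors_monic hf
  have hkill : ∀ {U : Type u} [AddCommGroup U] [Module F U] (C : Module.End F U),
      C ^ r = 1 → aeval C (∏ f ∈ S, f) = 0 := by
    intro U _ _ C hC
    rw [hS, X_sub_one_mul_prod hr hrp, map_sub, map_pow, aeval_X, map_one, hC, sub_self]
  -- the linear part
  have hjm : orderOf (q : ZMod r) * ∑ a, j a ≤ m := by omega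
  obtain ⟨g, hg, -, hgcp⟩ := exists_gl_elt hF hr hrp m j hjm
  have he : m - orderOf (q : ZMod r) * ∑ a, j a = e := by omega
  rw [he] at hgcp
  have hgcp' := charpoly_pow_pred hF hr hr2 hrp g hg e j hgcp
  set G : Matrix (Fin m) (Fin m) F := LinearMap.toMatrix' g with hG
  set G' : Matrix (Fin m) (Fin m) F := LinearMap.toMatrix' (g ^ (r - 1)) with hG'
  have hGG' : G' * G = 1 := by
    rw [hG, hG', ← LinearMap.toMatrix'_mul, ← pow_succ, Nat.sub_add_cancel hr1, hg,
      LinearMap.toMatrix'_one]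
  have hGr : G ^ r = 1 := by
    rw [hG, ← toMatrix'_pow, hg, LinearMap.toMatrix'_one]
  have hG'r : G' ^ r = 1 := by
    rw [hG', ← toMatrix'_pow, ← pow_mul, mul_comm, pow_mul, hg, one_pow,
      LinearMap.toMatrix'_one]
  have hGc : G.charpoly = gPoly r e j := by
    rw [← hgcp]
    exact LinearMap.charpoly_toMatrix g (Pi.basisFun F (Fin m))
  have hG'c : G'.charpoly = gPoly r e (fun a => j (starΦ hr hr2 hrp a)) := by
    rw [← hgcp']
    exact LinearMap.charpoly_toMatrix (g ^ (r - 1)) (Pi.basisFun F (Fin m))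
  -- the remaining part
  set k₀ : ↥(cycFactors F r) → ℕ := fun a => k a - j a - j (starΦ hr hr2 hrp a) with hk₀
  have hk₀a : ∀ a, k₀ a + j a + j (starΦ hr hr2 hrp a) = k a := by
    intro a
    have := hjk a
    show k a - j a - j (starΦ hr hr2 hrp a) + j a + j (starΦ hr hr2 hrp a) = k a
    omega
  have hk₀s : ∀ a, k₀ (starΦ hr hr2 hrp a) = k₀ a := by
    intro a
    show k (starΦ hr hr2 hrp a) - j (starΦ hr hr2 hrp a)
        - j (starΦ hr hr2 hrp (starΦ hr hr2 hrp a)) = k a - j a - j (starΦ hr hr2 hrp a)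
    rw [hinv a, hk a]
    omega
  have hsumstar : ∑ a, j (starΦ hr hr2 hrp a) = ∑ a, j a :=
    Function.Bijective.sum_comp hinv.bijective j
  have hsumk : ∑ a, k₀ a + ∑ a, j a + ∑ a, j a = ∑ a, k a := by
    have h1 : ∑ a, k a = ∑ a, (k₀ a + j a + j (starΦ hr hr2 hrp a)) :=
      Finset.sum_congr rfl (fun a _ => (hk₀a a).symm)
    rw [h1, Finset.sum_add_distrib, Finset.sum_add_distrib, hsumstar]
  have hmul : orderOf (q : ZMod r) * ∑ a, k₀ a + 2 * (orderOf (q : ZMod r) * ∑ a, j a)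
      = orderOf (q : ZMod r) * ∑ a, k a := by
    rw [← hsumk]
    ring
  have hk₀d : orderOf (q : ZMod r) * ∑ a, k₀ a ≤ 2 * (d - m) := by omega
  obtain ⟨g₀, hg₀, hg₀c⟩ := (sreal_primePoly (m := d - m) hF hr hr2 hrp hi0 k₀ hk₀s).exists_matrix
    (d - m) (natDegree_primePoly hF hr hrp k₀ hk₀d)
  -- the model
  have hAB := LS_altInv x
  have hAr : LS x ^ r = 1 := LS_pow_eq_one x r hx
  have hyM : ((hypMap G G').prodMap (LS g₀)) ^ r = 1 := by
    rw [prodMap_pow, hypMap_pow, hGr, hG'r, hypMap_one, LS_pow_eq_one g₀ r hg₀, prodMap_one_one]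
  have hcpm : G.charpoly * G'.charpoly * (LS g₀).charpoly = (LS x).charpoly := by
    rw [hGc, hG'c, LS_charpoly, hg₀c, LS_charpoly, hcp, primePoly_eq_gPoly, primePoly_eq_gPoly,
      gPoly_mul, gPoly_mul]
    congr 1
    · omega
    · funext a
      have := hk₀a a
      omega
  obtain ⟨W, hWdim, hWti, hWinv⟩ := exists_ti_of_model r hr1 hrF S hirr hmon (LS x)
    (sympBil d F) hAB (hkill _ hAr) G G' hGG' (LS g₀) (sympBil (d - m) F) (LS_altInv g₀) hyM
    (hkill _ hyM) hcpm
  rw [Fintype.card_fin] at hWdim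
  exact ⟨W, hWdim, hWti, hWinv⟩

end odd

end Cfsg.Agent.Helper13.SpTi
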