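import Mathlib
import Cfsg.Agent.Lib.Helper13.OrthTs4
import Cfsg.Agent.Lib.Helper13.SpTi3
import Cfsg.Agent.Lib.Helper13.OrthPrime
import Cfsg.Agent.Lib.Helper13.Hyperbolic

set_option autoImplicit false
set_option linter.unusedSectionVars false

/-!
# Invariant totally singular subspaces of semisimple isometries: the hyperbolic model
-/

namespace Cfsg.Agent.Helper13.OrthTs

open Polynomial Module QuadraticMap Matrix Cfsg.Agent.Helper13.SS Cfsg.Agent.Helper13.Dual
  Cfsg.Agent.Helper13.SympSS Cfsg.Agent.Helper13.SpDec Cfsg.Agent.Helper13.SlDec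
  Cfsg.Agent.Helper13.SpTi Cfsg.Agent.Helper13.OrthSS Cfsg.Agent.Helper13
open scoped Classical

universe u

section hyp
variable {F : Type u} [Field F] {ι : Type} [Fintype ι] [DecidableEq ι]

/-- the bilinear form whose quadratic form is hyperbolic -/
noncomputable def hypB (ι : Type) [Fintype ι] (F : Type u) [Field F] :
    LinearMap.BilinForm F ((ι → F) × (ι → F)) :=
  LinearMap.mk₂ F (fun u v => u.1 ⬝ᵥ v.2)
    (fun u u' v => by simp only [Prod.fst_add, add_dotProduct])
    (fun c u v => by simp only [Prod.smul_fst, smul_dotProduct])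
    (fun u v v' => by simp only [Prod.snd_add, dotProduct_add])
    (fun c u v => by simp only [Prod.smul_snd, dotProduct_smul])

/-- the hyperbolic quadratic form -/
noncomputable def hypQ (ι : Type) [Fintype ι] (F : Type u) [Field F] :
    QuadraticForm F ((ι → F) × (ι → F)) :=
  (hypB ι F).toQuadraticMap

theorem hypQ_apply (u : (ι → F) × (ι → F)) : hypQ ι F u = u.1 ⬝ᵥ u.2 := rfl

theorem polar_hypQ (u v : (ι → F) × (ι → F)) :
    polar (hypQ ι F) u v = u.1 ⬝ᵥ v.2 + v.1 ⬝ᵥ u.2 := by
  unfold polar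
  simp only [hypQ_apply, Prod.fst_add, Prod.snd_add, add_dotProduct, dotProduct_add]
  ring

theorem hypQ_nondeg : (polarBilin (hypQ ι F)).Nondegenerate := by
  apply nondeg_of_polar
  intro u hu
  have h1 : u.1 = 0 := by
    funext i
    have := hu (0, Pi.single i 1)
    rw [polar_hypQ] at this
    simpa using this
  have h2 : u.2 = 0 := by
    funext i
    have := hu (Pi.single i 1, 0)
    rw [polar_hypQ] at this
    simpa using this
  exact Prod.ext h1 h2

theorem hypMap_isom (G G' : Matrix ι ι F) (h : G' * G = 1) (u : (ι → F) × (ι → F)) :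
    hypQ ι F (hypMap G G' u) = hypQ ι F u := by
  rw [hypQ_apply, hypQ_apply, hypMap_apply]
  simp only
  rw [Matrix.mulVec_transpose, dotProduct_comm, ← Matrix.dotProduct_mulVec, Matrix.mulVec_mulVec, h,
    Matrix.one_mulVec, dotProduct_comm]

end hyp

section transport
variable {F : Type u} [Field F] [Fintype F] {κ : Type} [Fintype κ] [DecidableEq κ]

/-- a nondegenerate quadratic space of smaller dimension embeds, with a diagonal complement,
in any nondegenerate quadratic space (odd characteristic) -/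
theorem exists_model_iso (h2 : (2 : F) ≠ 0) {V : Type u} [AddCommGroup V] [Module F V]
    [FiniteDimensional F V] (Q : QuadraticForm F V) (hQ : (polarBilin Q).Nondegenerate)
    (S : QuadraticForm F (κ → F)) (hS : (polarBilin S).Nondegenerate)
    (hlt : finrank F V < Fintype.card κ) :
    ∃ (QU : QuadraticForm F (Fin (Fintype.card κ - finrank F V) → F))
      (e : (V × (Fin (Fintype.card κ - finrank F V) → F)) ≃ₗ[F] (κ → F)),
      (polarBilin QU).Nondegenerate ∧ ∀ z, S (e z) = QuadraticMap.prod Q QU z := by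
  set w := finrank F V with hwdef
  set u := Fintype.card κ - w with hudef
  have hu : 0 < u := by omega
  have hwu : w + u = Fintype.card κ := by omega
  set bV := Module.finBasis F V with hbV
  set GV : Matrix (Fin w) (Fin w) F := Matrix.of fun i j => polar Q (bV i) (bV j) with hGV
  have hdV : GV.det ≠ 0 := gram_det_ne_zero Q bV hQ
  set GS : Matrix κ κ F :=
    Matrix.of fun i j => polar S (Pi.basisFun F κ i) (Pi.basisFun F κ j) with hGS
  have hdS : GS.det ≠ 0 := gram_det_ne_zero S (Pi.basisFun F κ) hS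
  set δ : F := GV.det * 2 ^ u * GS.det with hδ
  have hδ0 : δ ≠ 0 := mul_ne_zero (mul_ne_zero hdV (pow_ne_zero _ h2)) hdS
  set wts : Fin u → F := fun i => if i = ⟨0, hu⟩ then δ else 1 with hwts
  set QU : QuadraticForm F (Fin u → F) := matQ (Matrix.diagonal wts) with hQU
  have hGU : (Matrix.diagonal wts + (Matrix.diagonal wts)ᵀ).det = 2 ^ u * δ := by
    rw [Matrix.diagonal_transpose, Matrix.diagonal_add, Matrix.det_diagonal]
    have : ∀ i : Fin u, wts i + wts i = 2 * wts i := fun i => (two_mul _).symm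
    simp only [this]
    rw [Finset.prod_mul_distrib, Finset.prod_const, Finset.card_univ, Fintype.card_fin,
      prod_ite_fin hu δ]
  have hQUnd : (polarBilin QU).Nondegenerate := by
    apply matQ_nondeg
    rw [hGU]
    exact mul_ne_zero (pow_ne_zero _ h2) hδ0
  set bP := bV.prod (Pi.basisFun F (Fin u)) with hbP
  set QP : QuadraticForm F (V × (Fin u → F)) := QuadraticMap.prod Q QU with hQP
  have hQPnd : (polarBilin QP).Nondegenerate := nondeg_prod Q QU hQ hQUnd
  have hgram : (Matrix.of fun i j => polar QP (bP i) (bP j)) =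
      Matrix.fromBlocks GV 0 0 (Matrix.diagonal wts + (Matrix.diagonal wts)ᵀ) := by
    rw [← gram_matQ]
    ext (i | i) (j | j)
    · simp [hbP, hQP, polar_prod', hGV]
    · simp [hbP, hQP, polar_prod']
    · simp [hbP, hQP, polar_prod']
    · simp [hbP, hQP, polar_prod', hQU]
  have hdetP : (Matrix.of fun i j => polar QP (bP i) (bP j)).det = GV.det * (2 ^ u * δ) := by
    rw [hgram, Matrix.det_fromBlocks_zero₂₁, hGU]
  obtain ⟨e, he⟩ := equiv_of_disc_idx h2 QP S hQPnd hS bP (Pi.basisFun F κ)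
    (by rw [Fintype.card_sum, Fintype.card_fin, Fintype.card_fin]; exact hwu)
    (by
      rw [hdetP]
      refine ⟨δ, ?_⟩
      rw [hδ]
      ring)
  exact ⟨QU, e, hQUnd, he⟩

end transport

section conj
variable {F : Type u} [Field F] [Fintype F]

/-- an invariant totally singular subspace of a model transfers to any isometry with the same
characteristic polynomial -/
theorem exists_ts_of_conj (M : ℕ) (hM : 1 ≤ M) (hodd : Odd M) (hMF : (M : F) ≠ 0)
    (S : Finset F[X]) (hirr : ∀ f ∈ S, Irreducible f) (hmon : ∀ f ∈ S, f.Monic)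
    {V : Type u} [AddCommGroup V] [Module F V] [FiniteDimensional F V]
    (Q : QuadraticForm F V) (hQ : (polarBilin Q).Nondegenerate)
    (A : Module.End F V) (hAQ : ∀ v, Q (A v) = Q v)
    (hkA : aeval A (∏ f ∈ S, f) = 0)
    {Mo : Type u} [AddCommGroup Mo] [Module F Mo] [FiniteDimensional F Mo]
    (QM : QuadraticForm F Mo) (y : Module.End F Mo) (hyQ : ∀ w, QM (y w) = QM w)
    (hyM : y ^ M = 1) (hky : aeval y (∏ f ∈ S, f) = 0) (hcp : y.charpoly = A.charpoly)
    (Φ : Mo ≃ₗ[F] V) (hΦ : ∀ w, Q (Φ w) = QM w)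
    (W₀ : Submodule F Mo) (hW₀ : ∀ w ∈ W₀, QM w = 0) (hW₀inv : ∀ w ∈ W₀, y w ∈ W₀) :
    ∃ W : Submodule F V, finrank F W = finrank F W₀ ∧ (∀ w ∈ W, Q w = 0) ∧
      ∀ v ∈ W, A v ∈ W := by
  obtain ⟨T, hT⟩ := exists_equiv_of_charpoly_eq S hirr hmon y A hky hkA hcp
  set y' : Module.End F V := Φ.conj y with hy'
  have hy'a : ∀ v, y' v = Φ (y (Φ.symm v)) := fun v => rfl
  have hy'Q : ∀ v, Q (y' v) = Q v := by
    intro v
    rw [hy'a, hΦ, hyQ, ← hΦ, Φ.apply_symm_apply]
  have hy'M : y' ^ M = 1 := by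
    have h3 : Φ.conj y = Φ.conjRingEquiv y := rfl
    rw [hy', h3, ← map_pow, hyM, map_one]
  set T' : V ≃ₗ[F] V := Φ.symm.trans T with hT'
  have hT'a : ∀ v, T' (y' v) = A (T' v) := by
    intro v
    show T (Φ.symm (y' v)) = A (T (Φ.symm v))
    rw [hy'a, Φ.symm_apply_apply, hT]
  obtain ⟨g, hgQ, hgc⟩ := exists_isometry_intertwiner Q hQ y' A hy'Q hAQ hM hodd hMF hy'M T' hT'a
  set Ψ : Mo ≃ₗ[F] V := Φ.trans g with hΨ
  have hΨa : ∀ w, Ψ w = g (Φ w) := fun w => rfl
  refine ⟨W₀.map (Ψ : Mo →ₗ[F] V), ?_, ?_, ?_⟩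
  · exact LinearEquiv.finrank_map_eq Ψ W₀
  · rintro _ ⟨w, hw, rfl⟩
    show Q (Ψ w) = 0
    rw [hΨa, hgQ, hΦ, hW₀ w hw]
  · rintro _ ⟨w, hw, rfl⟩
    refine ⟨y w, hW₀inv w hw, ?_⟩
    show Ψ (y w) = A (Ψ w)
    rw [hΨa, hΨa, ← hgc, hy'a, Φ.symm_apply_apply]

end conj

end Cfsg.Agent.Helper13.OrthTs
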