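import Mathlib
import Cfsg.Agent.Lib.Helper13.OrthTs5
import Cfsg.Agent.Lib.Helper13.OrthType2
import Cfsg.Agent.Lib.Helper13.OrthElusive3

set_option autoImplicit false
set_option linter.unusedSectionVars false

/-!
# Involutive isometries and their invariant totally singular subspaces
-/

namespace Cfsg.Agent.Helper13.OrthTs

open Polynomial Module QuadraticMap Matrix Cfsg.Agent.Helper13.OrthSS Cfsg.Agent.Helper13
open scoped Classical

universe u

section gen
variable {F : Type u} [Field F] {V : Type*} [AddCommGroup V] [Module F V]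

theorem polar_comp {V' : Type*} [AddCommGroup V'] [Module F V'] (Q : QuadraticForm F V)
    (f : V' →ₗ[F] V) (x y : V') : polar (Q.comp f) x y = polar Q (f x) (f y) := by
  simp [polar]

theorem nondeg_comp_equiv {V' : Type*} [AddCommGroup V'] [Module F V'] (Q : QuadraticForm F V)
    (hQ : (polarBilin Q).Nondegenerate) (e : V' ≃ₗ[F] V) :
    (polarBilin (Q.comp (e : V' →ₗ[F] V))).Nondegenerate := by
  apply nondeg_of_polar
  intro x hx
  have h1 : e x = 0 := by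
    apply hQ.1
    intro y
    have h3 := hx (e.symm y)
    rw [polar_comp] at h3
    simpa using h3
  simpa using h1

end gen

section exist
variable {F : Type u} [Field F] [Fintype F] {V : Type u} [AddCommGroup V] [Module F V]
  [FiniteDimensional F V]

/-- a nondegenerate quadratic space has totally singular subspaces of all dimensions below half
of its dimension -/
theorem exists_ts_of_le (h2 : (2 : F) ≠ 0) (Q : QuadraticForm F V)
    (hQ : (polarBilin Q).Nondegenerate) (k : ℕ) (hk : k ≤ (finrank F V - 1) / 2) :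
    ∃ W : Submodule F V, finrank F W = k ∧ ∀ w ∈ W, Q w = 0 := by
  rcases Nat.eq_zero_or_pos k with rfl | hk0
  · refine ⟨⊥, finrank_bot _ _, ?_⟩
    intro w hw
    rw [(Submodule.mem_bot F).1 hw, map_zero]
  obtain ⟨n, hn⟩ : ∃ n, n = finrank F V := ⟨_, rfl⟩
  have hlt : 2 * k < n := by omega
  set b : Module.Basis (Fin n) F V := Module.finBasisOfFinrankEq F V hn.symm with hb
  set e : (Fin n → F) ≃ₗ[F] V := b.equivFun.symm with he
  set S : QuadraticForm F (Fin n → F) := Q.comp (e : (Fin n → F) →ₗ[F] V) with hS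
  have hSnd := nondeg_comp_equiv Q hQ e
  have hfin : finrank F ((Fin k → F) × (Fin k → F)) = 2 * k := by
    rw [Module.finrank_prod, Module.finrank_fintype_fun_eq_card, Fintype.card_fin]
    ring
  obtain ⟨QU, Φ, -, hΦ⟩ := exists_model_iso h2 (hypQ (Fin k) F) hypQ_nondeg S hSnd
    (by rw [hfin, Fintype.card_fin]; exact hlt)
  set L : (Fin k → F) →ₗ[F] V :=
    e.toLinearMap ∘ₗ Φ.toLinearMap ∘ₗ
      LinearMap.inl F ((Fin k → F) × (Fin k → F)) _ ∘ₗ LinearMap.inl F (Fin k → F) (Fin k → F)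
    with hL
  have hLa : ∀ a, L a = e (Φ ((a, 0), 0)) := fun a => rfl
  have hLinj : Function.Injective L := by
    intro a a' h
    rw [hLa, hLa] at h
    have h3 := Φ.injective (e.injective h)
    exact congrArg (fun z => z.1.1) h3
  refine ⟨LinearMap.range L, ?_, ?_⟩
  · rw [LinearMap.finrank_range_of_inj hLinj, Module.finrank_fintype_fun_eq_card,
      Fintype.card_fin]
  · rintro _ ⟨a, rfl⟩
    rw [hLa]
    have h3 : Q (e (Φ ((a, 0), 0))) = S (Φ ((a, 0), 0)) := rfl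
    rw [h3, hΦ, QuadraticMap.prod_apply, hypQ_apply]
    simp

/-- the version inside a nondegenerate subspace -/
theorem exists_ts_le (h2 : (2 : F) ≠ 0) (Q : QuadraticForm F V) (K : Submodule F V)
    (hK : (polarBilin (Q.comp K.subtype)).Nondegenerate) (k : ℕ)
    (hk : k ≤ (finrank F K - 1) / 2) :
    ∃ W : Submodule F V, W ≤ K ∧ finrank F W = k ∧ ∀ w ∈ W, Q w = 0 := by
  obtain ⟨W', hW'k, hW'ts⟩ := exists_ts_of_le h2 (Q.comp K.subtype) hK k hk
  refine ⟨W'.map K.subtype, ?_, ?_, ?_⟩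
  · rintro _ ⟨w, -, rfl⟩
    exact w.2
  · rw [Submodule.finrank_map_subtype_eq, hW'k]
  · rintro _ ⟨w, hw, rfl⟩
    exact hW'ts w hw

omit [Fintype F] in
/-- the version inside a hyperbolic subspace -/
theorem exists_ts_le_hyp (Q : QuadraticForm F V) (K : Submodule F V)
    (hK : IsHyp (Q.comp K.subtype)) (k : ℕ) (hk : 2 * k ≤ finrank F K) :
    ∃ W : Submodule F V, W ≤ K ∧ finrank F W = k ∧ ∀ w ∈ W, Q w = 0 := by
  obtain ⟨L, hL, hd⟩ := hK
  obtain ⟨W', hW'L, hW'k⟩ := Cfsg.Agent.Helper13.OrthEl.exists_le_finrank_eq L k (by omega)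
  refine ⟨W'.map K.subtype, ?_, ?_, ?_⟩
  · rintro _ ⟨w, -, rfl⟩
    exact w.2
  · rw [Submodule.finrank_map_subtype_eq, hW'k]
  · rintro _ ⟨w, hw, rfl⟩
    exact hL w (hW'L hw)

end exist

section invol
variable {F : Type u} [Field F] {V : Type*} [AddCommGroup V] [Module F V]
  (Q : QuadraticForm F V) (A : Module.End F V)

/-- the fixed space -/
def Vp : Submodule F V := LinearMap.ker (A - 1)

/-- the space of negated vectors -/
def Vm : Submodule F V := LinearMap.ker (A + 1)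

variable {A}

theorem mem_Vp {v : V} : v ∈ Vp A ↔ A v = v := by
  unfold Vp
  rw [LinearMap.mem_ker, LinearMap.sub_apply, Module.End.one_apply, sub_eq_zero]

theorem mem_Vm {v : V} : v ∈ Vm A ↔ A v = -v := by
  unfold Vm
  rw [LinearMap.mem_ker, LinearMap.add_apply, Module.End.one_apply, add_eq_zero_iff_eq_neg]

variable {Q}

theorem polar_Vp_Vm (h2 : (2 : F) ≠ 0) (hAQ : ∀ v, Q (A v) = Q v) {u v : V} (hu : u ∈ Vp A)
    (hv : v ∈ Vm A) : polar Q u v = 0 := by
  have h1 := Cfsg.Agent.Helper28.WittQuad.polar_of_isom (Q := Q) hAQ u v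
  rw [mem_Vp.1 hu, mem_Vm.1 hv, polar_neg_right] at h1
  have h3 : (2 : F) * polar Q u v = 0 := by linear_combination -h1
  exact (mul_eq_zero.1 h3).resolve_left h2

theorem half_add_mem (h2 : (2 : F) ≠ 0) (hA : A * A = 1) (w : V) :
    (2 : F)⁻¹ • (w + A w) ∈ Vp A := by
  rw [mem_Vp, map_smul, map_add, ← Module.End.mul_apply, hA, Module.End.one_apply, add_comm]

theorem half_sub_mem (h2 : (2 : F) ≠ 0) (hA : A * A = 1) (w : V) :
    (2 : F)⁻¹ • (w - A w) ∈ Vm A := by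
  rw [mem_Vm, map_smul, map_sub, ← Module.End.mul_apply, hA, Module.End.one_apply, ← smul_neg,
    neg_sub]

theorem half_add_half (h2 : (2 : F) ≠ 0) (w : V) :
    (2 : F)⁻¹ • (w + A w) + (2 : F)⁻¹ • (w - A w) = w := by
  rw [← smul_add]
  have : w + A w + (w - A w) = (2 : F) • w := by
    rw [two_smul]
    abel
  rw [this, smul_smul, inv_mul_cancel₀ h2, one_smul]

theorem Vp_inf_Vm (h2 : (2 : F) ≠ 0) : Vp A ⊓ Vm A = ⊥ := by
  rw [eq_bot_iff]
  rintro v ⟨h1, h3⟩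
  have h4 : v = -v := (mem_Vp.1 h1).symm.trans (mem_Vm.1 h3)
  have h5 : (2 : F) • v = 0 := by
    rw [two_smul]
    nth_rewrite 1 [h4]
    exact neg_add_cancel v
  rw [Submodule.mem_bot]
  exact (smul_eq_zero.1 h5).resolve_left h2

theorem Vp_sup_Vm (h2 : (2 : F) ≠ 0) (hA : A * A = 1) : Vp A ⊔ Vm A = ⊤ := by
  rw [eq_top_iff]
  intro w _
  rw [← half_add_half (A := A) h2 w]
  exact Submodule.add_mem_sup (half_add_mem h2 hA w) (half_sub_mem h2 hA w)

theorem finrank_Vp_add [FiniteDimensional F V] (h2 : (2 : F) ≠ 0) (hA : A * A = 1) :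
    finrank F (Vp A) + finrank F (Vm A) = finrank F V := by
  have h1 := Submodule.finrank_sup_add_finrank_inf_eq (Vp A) (Vm A)
  rw [Vp_inf_Vm h2, Vp_sup_Vm h2 hA, finrank_bot, finrank_top] at h1
  omega

theorem nondeg_Vp (h2 : (2 : F) ≠ 0) (hA : A * A = 1) (hAQ : ∀ v, Q (A v) = Q v)
    (hQ : (polarBilin Q).Nondegenerate) :
    (polarBilin (Q.comp (Vp A).subtype)).Nondegenerate := by
  apply nondeg_of_polar
  intro x hx
  apply Subtype.ext
  apply hQ.1
  intro w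
  show polar Q (x : V) w = 0
  rw [← half_add_half (A := A) h2 w, polar_add_right,
    polar_Vp_Vm h2 hAQ x.2 (half_sub_mem h2 hA w), add_zero]
  have h3 := hx ⟨_, half_add_mem h2 hA w⟩
  rw [polar_comp] at h3
  exact h3

theorem nondeg_Vm (h2 : (2 : F) ≠ 0) (hA : A * A = 1) (hAQ : ∀ v, Q (A v) = Q v)
    (hQ : (polarBilin Q).Nondegenerate) :
    (polarBilin (Q.comp (Vm A).subtype)).Nondegenerate := by
  apply nondeg_of_polar
  intro x hx
  apply Subtype.ext
  apply hQ.1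
  intro w
  show polar Q (x : V) w = 0
  rw [← half_add_half (A := A) h2 w, polar_add_right, polar_comm Q _ (_ • (w + A w)),
    polar_Vp_Vm h2 hAQ (half_add_mem h2 hA w) x.2, zero_add]
  have h3 := hx ⟨_, half_sub_mem h2 hA w⟩
  rw [polar_comp] at h3
  exact h3

/-- the sum of totally singular subspaces of the two eigenspaces -/
theorem ts_sup (h2 : (2 : F) ≠ 0) (hAQ : ∀ v, Q (A v) = Q v) (W₁ W₂ : Submodule F V)
    (h1 : W₁ ≤ Vp A) (h3 : W₂ ≤ Vm A) (ht1 : ∀ w ∈ W₁, Q w = 0) (ht2 : ∀ w ∈ W₂, Q w = 0)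
    [FiniteDimensional F V] :
    finrank F ↥(W₁ ⊔ W₂) = finrank F W₁ + finrank F W₂ ∧ (∀ w ∈ W₁ ⊔ W₂, Q w = 0) ∧
      ∀ v ∈ W₁ ⊔ W₂, A v ∈ W₁ ⊔ W₂ := by
  refine ⟨?_, ?_, ?_⟩
  · have h4 := Submodule.finrank_sup_add_finrank_inf_eq W₁ W₂
    have h5 : W₁ ⊓ W₂ = ⊥ := by
      rw [eq_bot_iff, ← Vp_inf_Vm (A := A) h2]
      exact inf_le_inf h1 h3
    rw [h5, finrank_bot] at h4
    omega
  · intro w hw
    obtain ⟨a, ha, b, hb, rfl⟩ := Submodule.mem_sup.1 hw
    rw [QuadraticMap.map_add Q, ht1 a ha, ht2 b hb, polar_Vp_Vm h2 hAQ (h1 ha) (h3 hb)]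
    simp
  · intro w hw
    obtain ⟨a, ha, b, hb, rfl⟩ := Submodule.mem_sup.1 hw
    rw [map_add, mem_Vp.1 (h1 ha), mem_Vm.1 (h3 hb)]
    exact Submodule.add_mem_sup ha (W₂.neg_mem hb)

/-- invariant totally singular subspaces avoid an anisotropic negated space -/
theorem finrank_le_of_invariant [FiniteDimensional F V] (h2 : (2 : F) ≠ 0)
    (hQ : (polarBilin Q).Nondegenerate) (hA : A * A = 1) (hAQ : ∀ v, Q (A v) = Q v)
    (haniso : ∀ v ∈ Vm A, Q v = 0 → v = 0) (W : Submodule F V) (hW : ∀ w ∈ W, Q w = 0)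
    (hWinv : ∀ v ∈ W, A v ∈ W) : 2 * finrank F W + finrank F (Vm A) ≤ finrank F V := by
  have hWp : W ≤ Vp A := by
    intro w hw
    have h1 : (2 : F)⁻¹ • (w - A w) ∈ W := W.smul_mem _ (W.sub_mem hw (hWinv w hw))
    have h3 := haniso _ (half_sub_mem h2 hA w) (hW _ h1)
    rw [mem_Vp]
    have h4 : w - A w = 0 := by
      rcases smul_eq_zero.1 h3 with h | h
      · exact absurd h (inv_ne_zero h2)
      · exact h
    exact (sub_eq_zero.1 h4).symm
  have hdisj : W ⊓ Vm A = ⊥ := by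
    rw [eq_bot_iff, ← Vp_inf_Vm (A := A) h2]
    exact inf_le_inf hWp le_rfl
  have hle : W ≤ LinearMap.BilinForm.orthogonal (polarBilin Q) (W ⊔ Vm A) := by
    intro x hx y hy
    obtain ⟨a, ha, b, hb, rfl⟩ := Submodule.mem_sup.1 hy
    show polar Q (a + b) x = 0
    rw [polar_add_left, polar_ts Q W hW ha hx, polar_comm Q b x,
      polar_Vp_Vm h2 hAQ (hWp hx) hb, add_zero]
  have h4 := Submodule.finrank_mono hle
  have h5 := LinearMap.BilinForm.finrank_orthogonal hQ (W ⊔ Vm A)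
  have h6 := Submodule.finrank_sup_add_finrank_inf_eq W (Vm A)
  rw [hdisj, finrank_bot] at h6
  have h7 := Submodule.finrank_le (W ⊔ Vm A)
  omega

end invol

section main
variable {F : Type u} [Field F] [Fintype F] {V : Type u} [AddCommGroup V] [Module F V]
  [FiniteDimensional F V] {Q : QuadraticForm F V} {A : Module.End F V}

/-- sufficiency for involutions -/
theorem exists_ts_of_involution (h2 : (2 : F) ≠ 0) (hQ : (polarBilin Q).Nondegenerate)
    (hA : A * A = 1) (hAQ : ∀ v, Q (A v) = Q v) (m : ℕ)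
    (hm : m ≤ (finrank F (Vp A) - 1) / 2 + (finrank F (Vm A) - 1) / 2 ∨
      (IsHyp (Q.comp (Vm A).subtype) ∧
        m ≤ (finrank F (Vp A) - 1) / 2 + finrank F (Vm A) / 2)) :
    ∃ W : Submodule F V, finrank F W = m ∧ (∀ w ∈ W, Q w = 0) ∧ ∀ v ∈ W, A v ∈ W := by
  rcases hm with hm | ⟨hhyp, hm⟩
  · obtain ⟨W₁, hW₁, hk₁, ht₁⟩ := exists_ts_le h2 Q (Vp A) (nondeg_Vp h2 hA hAQ hQ)
      (min m ((finrank F (Vp A) - 1) / 2)) (min_le_right _ _)
    obtain ⟨W₂, hW₂, hk₂, ht₂⟩ := exists_ts_le h2 Q (Vm A) (nondeg_Vm h2 hA hAQ hQ)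
      (m - min m ((finrank F (Vp A) - 1) / 2)) (by omega)
    obtain ⟨h1, h3, h4⟩ := ts_sup h2 hAQ W₁ W₂ hW₁ hW₂ ht₁ ht₂
    refine ⟨W₁ ⊔ W₂, ?_, h3, h4⟩
    rw [h1, hk₁, hk₂]
    omega
  · obtain ⟨W₁, hW₁, hk₁, ht₁⟩ := exists_ts_le h2 Q (Vp A) (nondeg_Vp h2 hA hAQ hQ)
      (min m ((finrank F (Vp A) - 1) / 2)) (min_le_right _ _)
    obtain ⟨W₂, hW₂, hk₂, ht₂⟩ := exists_ts_le_hyp Q (Vm A) hhyp
      (m - min m ((finrank F (Vp A) - 1) / 2)) (by omega)
    obtain ⟨h1, h3, h4⟩ := ts_sup h2 hAQ W₁ W₂ hW₁ hW₂ ht₁ ht₂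
    refine ⟨W₁ ⊔ W₂, ?_, h3, h4⟩
    rw [h1, hk₁, hk₂]
    omega

end main

end Cfsg.Agent.Helper13.OrthTs
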