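import Mathlib
import Cfsg.Agent.Lib.Helper13.OrthTs8
import Cfsg.Agent.Lib.Helper17.SpinorDisc
import Cfsg.Agent.Lib.Helper17.OmegaElts
import Cfsg.Agent.Lib.Helper2.OrthOrders

set_option autoImplicit false
set_option linter.unusedSectionVars false

/-!
# Involutions of `Ω` in odd dimension and their invariant totally singular subspaces
-/

namespace Cfsg.Agent.Helper13.OrthTs

open Polynomial Module QuadraticMap Matrix Cfsg.Agent.Helper13.OrthSS Cfsg.Agent.Helper13
  Cfsg.Agent.Helper17.Spinor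
open scoped Classical

universe u

section pair
variable {F : Type u} [Field F] {V : Type*} [AddCommGroup V] [Module F V]
  (Q : QuadraticForm F V) {a b : V}

theorem refl_pair_apply (ha : Q a = 1) (hb : Q b = 1) (hab : polar Q a b = 0) (w : V) :
    (refl Q a * refl Q b) w = w - polar Q a w • a - polar Q b w • b := by
  rw [Module.End.mul_apply, refl_apply Q b w, refl_apply Q a, ha, hb, inv_one, one_mul, one_mul,
    polar_sub_right, polar_smul_right, hab, smul_zero, sub_zero]
  abel

theorem refl_pair_sq (h2 : (2 : F) ≠ 0) (ha : Q a = 1) (hb : Q b = 1)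
    (hab : polar Q a b = 0) : (refl Q a * refl Q b) * (refl Q a * refl Q b) = 1 := by
  apply LinearMap.ext
  intro w
  rw [Module.End.mul_apply, refl_pair_apply Q ha hb hab (_), refl_pair_apply Q ha hb hab w,
    Module.End.one_apply]
  have hba : polar Q b a = 0 := by rw [polar_comm]; exact hab
  simp only [polar_sub_right, polar_smul_right, polar_self, ha, hb, hab, hba, smul_eq_mul,
    mul_zero, sub_zero, nsmul_eq_mul, Nat.cast_ofNat, mul_one]
  have e1 : polar Q a w - polar Q a w * 2 = -polar Q a w := by ring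
  have e2 : polar Q b w - polar Q b w * 2 = -polar Q b w := by ring
  rw [e1, e2, neg_smul, neg_smul]
  abel

theorem refl_pair_left (h2 : (2 : F) ≠ 0) (ha : Q a = 1) (hb : Q b = 1)
    (hab : polar Q a b = 0) : (refl Q a * refl Q b) a = -a := by
  have hba : polar Q b a = 0 := by rw [polar_comm]; exact hab
  rw [refl_pair_apply Q ha hb hab, polar_self, ha, hba, zero_smul, sub_zero, nsmul_eq_mul,
    mul_one, Nat.cast_ofNat, two_smul]
  abel

theorem refl_pair_right (h2 : (2 : F) ≠ 0) (ha : Q a = 1) (hb : Q b = 1)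
    (hab : polar Q a b = 0) : (refl Q a * refl Q b) b = -b := by
  rw [refl_pair_apply Q ha hb hab, polar_self, hb, hab, zero_smul, sub_zero, nsmul_eq_mul,
    mul_one, Nat.cast_ofNat, two_smul]
  abel

theorem mem_span_of_mem_Vm (h2 : (2 : F) ≠ 0) (ha : Q a = 1) (hb : Q b = 1)
    (hab : polar Q a b = 0) {w : V} (hw : w ∈ Vm (refl Q a * refl Q b)) :
    w = ((2 : F)⁻¹ * polar Q a w) • a + ((2 : F)⁻¹ * polar Q b w) • b := by
  have h1 := mem_Vm.1 hw
  rw [refl_pair_apply Q ha hb hab] at h1
  have h5 : w - polar Q a w • a - polar Q b w • b + w = 0 := by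
    rw [h1]
    exact neg_add_cancel w
  have h3 : w + w = polar Q a w • a + polar Q b w • b := by
    calc w + w = (w - polar Q a w • a - polar Q b w • b + w)
          + (polar Q a w • a + polar Q b w • b) := by abel
      _ = polar Q a w • a + polar Q b w • b := by rw [h5, zero_add]
  have h6 : w = (2 : F)⁻¹ • (polar Q a w • a + polar Q b w • b) := by
    rw [← h3, ← two_smul F w, smul_smul, inv_mul_cancel₀ h2, one_smul]
  rw [smul_add, smul_smul, smul_smul] at h6
  exact h6

theorem Q_pair (ha : Q a = 1) (hb : Q b = 1) (hab : polar Q a b = 0) (α β : F) :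
    Q (α • a + β • b) = α * α + β * β := by
  rw [QuadraticMap.map_add Q, QuadraticMap.map_smul, QuadraticMap.map_smul, polar_smul_left,
    polar_smul_right, hab, ha, hb]
  simp

theorem aniso_Vm (h2 : (2 : F) ≠ 0) (ha : Q a = 1) (hb : Q b = 1) (hab : polar Q a b = 0)
    (hns : ¬ IsSquare (-1 : F)) :
    ∀ w ∈ Vm (refl Q a * refl Q b), Q w = 0 → w = 0 := by
  intro w hw hQw
  have h1 := mem_span_of_mem_Vm Q h2 ha hb hab hw
  set α := (2 : F)⁻¹ * polar Q a w with hα
  set β := (2 : F)⁻¹ * polar Q b w with hβ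
  rw [h1, Q_pair Q ha hb hab] at hQw
  have hβ0 : β = 0 := by
    by_contra hne
    apply hns
    refine ⟨α / β, ?_⟩
    field_simp
    linear_combination -hQw
  rw [hβ0, mul_zero, add_zero] at hQw
  have hα0 : α = 0 := mul_self_eq_zero.1 hQw
  rw [h1, hα0, hβ0, zero_smul, zero_smul, add_zero]

theorem two_le_finrank_Vm [FiniteDimensional F V] (h2 : (2 : F) ≠ 0) (ha : Q a = 1)
    (hb : Q b = 1) (hab : polar Q a b = 0) :
    2 ≤ finrank F (Vm (refl Q a * refl Q b)) := by
  have hba : polar Q b a = 0 := by rw [polar_comm]; exact hab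
  have hli : LinearIndependent F ![a, b] := by
    rw [LinearIndependent.pair_iff]
    intro s t hst
    have h1 : polar Q a (s • a + t • b) = 0 := by rw [hst, polar_zero_right]
    have h3 : polar Q b (s • a + t • b) = 0 := by rw [hst, polar_zero_right]
    rw [polar_add_right, polar_smul_right, polar_smul_right, polar_self, ha, hab] at h1
    rw [polar_add_right, polar_smul_right, polar_smul_right, polar_self, hb, hba] at h3
    simp only [nsmul_eq_mul, Nat.cast_ofNat, mul_one, smul_eq_mul, mul_zero, add_zero,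
      zero_add] at h1 h3
    exact ⟨(mul_eq_zero.1 h1).resolve_right h2, (mul_eq_zero.1 h3).resolve_right h2⟩
  have hle : Submodule.span F (Set.range ![a, b]) ≤ Vm (refl Q a * refl Q b) := by
    rw [Submodule.span_le]
    rintro _ ⟨i, rfl⟩
    fin_cases i
    · exact mem_Vm.2 (refl_pair_left Q h2 ha hb hab)
    · exact mem_Vm.2 (refl_pair_right Q h2 ha hb hab)
  have h4 := Submodule.finrank_mono hle
  rw [finrank_span_eq_card hli, Fintype.card_fin] at h4
  exact h4

end pair

section conc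
variable {F : Type u} [Field F] [Fintype F] {κ : Type} [Fintype κ] [DecidableEq κ]
  (Q : QuadraticForm F (κ → F))

/-- an involution in `Ω` negates a hyperbolic space when `-1` is a square -/
theorem even_isHyp_of_mem_Omega (h2 : (2 : F) ≠ 0) (hQ : (polarBilin Q).Nondegenerate)
    (h : ↥(Cfsg.isometryGroup F (⇑Q))) (hh : h ∈ Cfsg.Omega F (⇑Q))
    (hsq : toEnd Q h * toEnd Q h = 1) (t : F) (ht : t * t = -1) :
    Even (finrank F (Vm (toEnd Q h))) ∧ IsHyp (Q.comp (Vm (toEnd Q h)).subtype) := by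
  set A := toEnd Q h with hA
  have hAQ : ∀ v, Q (A v) = Q v := toEnd_isometry Q h
  have hnd := nondeg_Vm h2 hsq hAQ hQ
  obtain ⟨b, hb⟩ : ∃ b, b = finrank F (Vm A) := ⟨_, rfl⟩
  obtain ⟨c, horth', -⟩ := exists_normal_basis h2 b ↥(Vm A) (Q.comp (Vm A).subtype) hnd hb.symm
  set v : Fin b → (κ → F) := fun i => ((c i : ↥(Vm A)) : κ → F) with hv
  have horth : ∀ i j, i ≠ j → polar Q (v i) (v j) = 0 := by
    intro i j hij
    have := horth' i j hij
    rw [polar_comp] at this
    exact this
  have hgram := gram_det_orth (Q.comp (Vm A).subtype) c horth'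
  have hgne := gram_det_ne_zero (Q.comp (Vm A).subtype) c hnd
  have hne : ∀ i, Q (v i) ≠ 0 := by
    intro i h0
    apply hgne
    rw [hgram]
    apply Finset.prod_eq_zero (Finset.mem_univ i)
    have : (Q.comp (Vm A).subtype) (c i) = Q (v i) := rfl
    rw [this, h0, mul_zero]
  have hvs : ∀ w ∈ List.ofFn v, Q w ≠ 0 := by
    intro w hw
    rw [List.mem_ofFn] at hw
    obtain ⟨i, rfl⟩ := hw
    exact hne i
  -- the product of reflections
  have hprod : ((List.ofFn v).map (refl Q)).prod = A := by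
    apply LinearMap.ext
    intro w
    rw [← half_add_half (A := A) h2 w, map_add, map_add]
    congr 1
    · have hp := half_add_mem h2 hsq w
      rw [mem_Vp.1 hp]
      apply prod_refl_apply_of_polar_eq_zero
      intro y hy
      rw [List.mem_ofFn] at hy
      obtain ⟨i, rfl⟩ := hy
      rw [polar_comm]
      exact polar_Vp_Vm h2 hAQ hp (c i).2
    · have hm := half_sub_mem h2 hsq w
      rw [mem_Vm.1 hm]
      set y : ↥(Vm A) := ⟨_, hm⟩ with hy
      have h3 : ((2 : F)⁻¹ • (w - A w)) = ∑ i, c.repr y i • v i := by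
        calc ((2 : F)⁻¹ • (w - A w)) = ((∑ i, c.repr y i • c i : ↥(Vm A)) : κ → F) := by
              rw [c.sum_repr]
          _ = ∑ i, c.repr y i • v i := by
              rw [Submodule.coe_sum]
              rfl
      rw [h3, map_sum, ← Finset.sum_neg_distrib]
      apply Finset.sum_congr rfl
      intro i _
      rw [map_smul, prod_refl_ofFn_apply Q h2 b v horth hne i, smul_neg]
  have hg : ((h : Matrix.GeneralLinearGroup κ F) : Matrix κ κ F) =
      ((List.ofFn v).map (fun v => Cfsg.reflectionMatrix (⇑Q) v)).prod := by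
    apply Matrix.toLin'.injective
    rw [toLin'_prod_reflectionMatrix, hprod]
    rfl
  obtain ⟨hev, hsqr⟩ := (mem_Omega_iff Q h2 hQ h (List.ofFn v) hvs hg).1 hh
  rw [List.length_ofFn] at hev
  rw [List.map_ofFn, List.prod_ofFn] at hsqr
  rw [← hb]
  refine ⟨hev, ?_⟩
  obtain ⟨k, hk⟩ := hev
  obtain ⟨s, hs⟩ := hsqr
  have hgram2 : (Matrix.of fun i j => polar (matQ (plusMat k F))
      (Pi.basisFun F (Fin k ⊕ Fin k) i) (Pi.basisFun F (Fin k ⊕ Fin k) j)).det = (-1) ^ k := by
    rw [gram_matQ, plusMat_add_transpose, hypBlock_det]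
  obtain ⟨g, hg'⟩ := equiv_of_disc_idx h2 (matQ (plusMat k F)) (Q.comp (Vm A).subtype)
    (Cfsg.Agent.Helper2.Orth.nondeg_plus k) hnd (Pi.basisFun F (Fin k ⊕ Fin k)) c
    (by rw [Fintype.card_sum, Fintype.card_fin, Fintype.card_fin, hk])
    (by
      rw [hgram2, hgram, Finset.prod_mul_distrib, Finset.prod_const, Finset.card_univ,
        Fintype.card_fin]
      have e1 : ∏ i, (Q.comp (Vm A).subtype) (c i) = s * s := hs
      rw [e1]
      refine ⟨t ^ k * 2 ^ k * s, ?_⟩
      have e2 : (-1 : F) ^ k = t ^ k * t ^ k := by rw [← mul_pow, ht]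
      rw [e2, hk, pow_add]
      ring)
  exact IsHyp.of_equiv g hg' (isHyp_plusMat k)

/-- an involution of `Ω` negating an anisotropic plane -/
theorem exists_bad_involution (h2 : (2 : F) ≠ 0) (hQ : (polarBilin Q).Nondegenerate)
    (hκ : 3 ≤ Fintype.card κ) (hns : ¬ IsSquare (-1 : F)) :
    ∃ h : ↥(Cfsg.isometryGroup F (⇑Q)), h ∈ Cfsg.Omega F (⇑Q) ∧
      toEnd Q h * toEnd Q h = 1 ∧ toEnd Q h ≠ 1 ∧ 2 ≤ finrank F (Vm (toEnd Q h)) ∧
      ∀ v ∈ Vm (toEnd Q h), Q v = 0 → v = 0 := by
  obtain ⟨n, hn⟩ : ∃ n, n = Fintype.card κ := ⟨_, rfl⟩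
  obtain ⟨c, horth, hone⟩ := exists_normal_basis h2 n (κ → F) Q hQ
    (by rw [Module.finrank_fintype_fun_eq_card, hn])
  set a := c ⟨0, by omega⟩ with ha'
  set b := c ⟨1, by omega⟩ with hb'
  have ha : Q a = 1 := hone ⟨0, by omega⟩ (by show 0 + 1 < n; omega)
  have hb : Q b = 1 := hone ⟨1, by omega⟩ (by show 1 + 1 < n; omega)
  have hab : polar Q a b = 0 := horth _ _ (by
    intro h
    have := congrArg Fin.val h
    simp at this)
  have hvs : ∀ w ∈ [a, b], Q w ≠ 0 := by
    intro w hw
    simp only [List.mem_cons, List.not_mem_nil, or_false] at hw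
    rcases hw with rfl | rfl
    · rw [ha]; exact one_ne_zero
    · rw [hb]; exact one_ne_zero
  set h : ↥(Cfsg.isometryGroup F (⇑Q)) := ([a, b].map (rG Q h2)).prod with hh
  have hend : toEnd Q h = refl Q a * refl Q b := by
    rw [hh, toEnd_prod_rG Q h2 [a, b] hvs]
    simp
  refine ⟨h, ?_, ?_, ?_, ?_, ?_⟩
  · rw [mem_Omega_iff Q h2 hQ h [a, b] hvs (coe_prod_rG Q h2 [a, b] hvs)]
    refine ⟨⟨1, rfl⟩, ?_⟩
    simp only [List.map_cons, List.map_nil, List.prod_cons, List.prod_nil, ha, hb, mul_one]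
    exact ⟨1, (mul_one 1).symm⟩
  · rw [hend]
    exact refl_pair_sq Q h2 ha hb hab
  · rw [hend]
    intro h1
    have h3 := refl_pair_left Q h2 ha hb hab
    rw [h1, Module.End.one_apply] at h3
    have h4 : (2 : F) • a = 0 := by
      rw [two_smul]
      nth_rewrite 1 [h3]
      exact neg_add_cancel a
    have ha0 : a = 0 := (smul_eq_zero.1 h4).resolve_left h2
    rw [ha0, map_zero] at ha
    exact zero_ne_one ha
  · rw [hend]
    exact two_le_finrank_Vm Q h2 ha hb hab
  · rw [hend]
    exact aniso_Vm Q h2 ha hb hab hns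

end conc

section main
variable {F : Type u} [Field F] [Fintype F] {κ : Type} [Fintype κ] [DecidableEq κ]
  (Q : QuadraticForm F (κ → F)) {q : ℕ}

theorem sq_eq_one_of_orderOf (h : ↥(Cfsg.isometryGroup F (⇑Q)))
    (ho : orderOf (h : GL κ F) = 2) : toEnd Q h * toEnd Q h = 1 := by
  have h1 : (h : GL κ F) ^ 2 = 1 := by
    rw [← ho]
    exact pow_orderOf_eq_one _
  have h3 : h * h = 1 := by
    apply Subtype.ext
    rw [Subgroup.coe_mul, ← pow_two, h1]
    rfl
  rw [← map_mul, h3, map_one]

theorem two_main (hF : Fintype.card F = q) (h2 : (2 : F) ≠ 0)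
    (hQ : (polarBilin Q).Nondegenerate) (d m : ℕ) (hκ : Fintype.card κ = 2 * d + 1)
    (hd : 1 ≤ d) (hmd : m ≤ d) :
    (∀ x : GL κ F, x ∈ Cfsg.Geo.omegaGL (⇑Q) → orderOf x = 2 →
      ∃ W : Submodule F (κ → F), finrank F W = m ∧ (∀ w ∈ W, Q w = 0) ∧
        W.map (Matrix.toLin' (x : Matrix κ κ F)) ≤ W) ↔ (m < d ∨ q % 4 = 1) := by
  have hfin : finrank F (κ → F) = 2 * d + 1 := by
    rw [Module.finrank_fintype_fun_eq_card, hκ]
  have hqodd : q % 2 = 1 := by
    rw [← hF]
    exact card_odd_of_two_ne_zero h2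
  constructor
  · intro hall
    by_contra hcon
    push Not at hcon
    obtain ⟨hcon1, hcon2⟩ := hcon
    have hq3 : Fintype.card F % 4 = 3 := by
      rw [hF]
      omega
    have hns : ¬ IsSquare (-1 : F) := by
      rw [FiniteField.isSquare_neg_one_iff]
      intro h
      exact h hq3
    obtain ⟨h, hhΩ, hsq, hne, hfr, haniso⟩ := exists_bad_involution Q h2 hQ (by omega) hns
    have hx2 : (h : GL κ F) ^ 2 = 1 := by
      have h3 : h * h = 1 := by
        apply toEnd_injective Q
        rw [map_mul, hsq, map_one]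
      rw [pow_two, ← Subgroup.coe_mul, h3]
      rfl
    have hx1 : (h : GL κ F) ≠ 1 := by
      intro h1
      apply hne
      have : h = 1 := Subtype.ext h1
      rw [this, map_one]
    have : Fact (Nat.Prime 2) := ⟨Nat.prime_two⟩
    obtain ⟨W, hWm, hWts, hWinv⟩ := hall (h : GL κ F)
      (Cfsg.Agent.Helper17.OmegaElts.coe_mem_omegaGL Q hhΩ) (orderOf_eq_prime hx2 hx1)
    have hWinv' : ∀ v ∈ W, toEnd Q h v ∈ W := by
      intro v hv
      exact hWinv ⟨v, hv, rfl⟩
    have h5 := finrank_le_of_invariant h2 hQ hsq (toEnd_isometry Q h) haniso W hWts hWinv'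
    rw [hfin, hWm] at h5
    omega
  · intro hcond x hxmem hxo
    obtain ⟨h, hhΩ, rfl⟩ := (Cfsg.Agent.Helper17.OmegaElts.mem_omegaGL_iff Q x).1 hxmem
    have hsq := sq_eq_one_of_orderOf Q h hxo
    have hAQ : ∀ v, Q (toEnd Q h v) = Q v := toEnd_isometry Q h
    have hab := finrank_Vp_add (A := toEnd Q h) h2 hsq
    rw [hfin] at hab
    have hex : ∃ W : Submodule F (κ → F), finrank F W = m ∧ (∀ w ∈ W, Q w = 0) ∧
        ∀ v ∈ W, toEnd Q h v ∈ W := by
      apply exists_ts_of_involution h2 hQ hsq hAQ m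
      rcases Nat.lt_or_ge m d with hlt | hge
      · left
        omega
      · right
        have hq1 : q % 4 = 1 := by
          rcases hcond with h | h
          · omega
          · exact h
        have hsqr : IsSquare (-1 : F) := by
          rw [FiniteField.isSquare_neg_one_iff, hF]
          omega
        obtain ⟨t, ht⟩ := hsqr
        obtain ⟨hev, hhyp⟩ := even_isHyp_of_mem_Omega Q h2 hQ h hhΩ hsq t ht.symm
        refine ⟨hhyp, ?_⟩
        obtain ⟨k, hk⟩ := hev
        omega
    obtain ⟨W, hWm, hWts, hWinv⟩ := hex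
    refine ⟨W, hWm, hWts, ?_⟩
    rintro _ ⟨v, hv, rfl⟩
    exact hWinv v hv

end main

end Cfsg.Agent.Helper13.OrthTs
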