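import Mathlib
import Cfsg.Agent.Lib.Helper13.SubspaceCount

set_option autoImplicit false
set_option linter.style.haveILetI false
set_option linter.unusedSectionVars false

/-!
# Counting totally isotropic subspaces of a symplectic space
-/

namespace Cfsg.Agent.Helper13.TiCnt

open Module

variable {F V : Type*} [Field F] [Fintype F] [AddCommGroup V] [Module F V] [Finite V]

/-- independent tuples of pairwise orthogonal vectors -/
abbrev IsoTuple (B : LinearMap.BilinForm F V) (m : ℕ) :=
  {s : Fin m → V // LinearIndependent F s ∧ ∀ a b, B (s a) (s b) = 0}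

/-- the vectors extending an isotropic tuple -/
abbrev Ext (B : LinearMap.BilinForm F V) {m : ℕ} (s : Fin m → V) :=
  {v : V // (∀ a, B (s a) v = 0) ∧ v ∉ Submodule.span F (Set.range s)}

theorem cons_iso (B : LinearMap.BilinForm F V) (hB : B.IsAlt) {m : ℕ} (s : Fin m → V) (v : V)
    (hs : ∀ a b, B (s a) (s b) = 0) (hv : ∀ a, B (s a) v = 0) :
    ∀ a b, B ((Fin.cons v s : Fin (m + 1) → V) a) ((Fin.cons v s : Fin (m + 1) → V) b) = 0 := by
  intro a b
  refine Fin.cases ?_ (fun a' => ?_) a <;> refine Fin.cases ?_ (fun b' => ?_) b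
  · rw [Fin.cons_zero]
    exact hB v
  · rw [Fin.cons_zero, Fin.cons_succ, ← LinearMap.IsAlt.neg hB, hv, neg_zero]
  · rw [Fin.cons_zero, Fin.cons_succ]
    exact hv a'
  · rw [Fin.cons_succ, Fin.cons_succ]
    exact hs a' b'

theorem sigma_ext_aux (B : LinearMap.BilinForm F V) {m : ℕ} {s s' : IsoTuple B m} (h : s = s')
    (v : V) (hv : (∀ a, B (s.1 a) v = 0) ∧ v ∉ Submodule.span F (Set.range s.1))
    (hv' : (∀ a, B (s'.1 a) v = 0) ∧ v ∉ Submodule.span F (Set.range s'.1)) :
    (⟨s, ⟨v, hv⟩⟩ : Σ s : IsoTuple B m, Ext B s.1) = ⟨s', ⟨v, hv'⟩⟩ := by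
  subst h
  rfl

noncomputable def succEquiv (B : LinearMap.BilinForm F V) (hB : B.IsAlt) (m : ℕ) :
    IsoTuple B (m + 1) ≃ Σ s : IsoTuple B m, Ext B s.1 where
  toFun s := ⟨⟨Fin.tail s.1, (linearIndependent_finSucc.mp s.2.1).1,
      fun a b => s.2.2 a.succ b.succ⟩,
    ⟨s.1 0, fun a => s.2.2 a.succ 0, (linearIndependent_finSucc.mp s.2.1).2⟩⟩
  invFun s := ⟨Fin.cons s.2.1 s.1.1, linearIndependent_finCons.mpr ⟨s.1.2.1, s.2.2.2⟩,
    cons_iso B hB s.1.1 s.2.1 s.1.2.2 s.2.2.1⟩
  left_inv s := by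
    apply Subtype.ext
    exact Fin.cons_self_tail s.1
  right_inv := fun ⟨⟨s, hs⟩, ⟨v, hv⟩⟩ =>
    sigma_ext_aux B (Subtype.ext (by exact Fin.tail_cons (α := fun _ => V) v s)) v _ hv

theorem card_ext (B : LinearMap.BilinForm F V) (hnd : B.Nondegenerate) {m : ℕ} (s : Fin m → V)
    (hli : LinearIndependent F s) (hs : ∀ a b, B (s a) (s b) = 0) :
    Nat.card (Ext B s) = Fintype.card F ^ (finrank F V - m) - Fintype.card F ^ m := by
  classical
  haveI : Fintype V := Fintype.ofFinite V
  set S := Submodule.span F (Set.range s) with hS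
  set O := B.orthogonal S with hO
  have hSO : S ≤ O := by
    intro v hv
    rw [hO, LinearMap.BilinForm.mem_orthogonal_iff]
    intro w hw
    show B w v = 0
    refine Submodule.span_induction (p := fun w _ => B w v = 0) ?_ ?_ ?_ ?_ hw
    · rintro _ ⟨a, rfl⟩
      refine Submodule.span_induction (p := fun v _ => B (s a) v = 0) ?_ ?_ ?_ ?_ hv
      · rintro _ ⟨b, rfl⟩
        exact hs a b
      · exact map_zero _
      · intro x y _ _ hx hy
        rw [map_add, hx, hy, add_zero]
      · intro c x _ hx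
        rw [map_smul, hx, smul_zero]
    · rw [map_zero, LinearMap.zero_apply]
    · intro x y _ _ hx hy
      rw [map_add, LinearMap.add_apply, hx, hy, add_zero]
    · intro c x _ hx
      rw [map_smul, LinearMap.smul_apply, hx, smul_zero]
  have hmemO : ∀ v, v ∈ O ↔ ∀ a, B (s a) v = 0 := by
    intro v
    rw [hO, LinearMap.BilinForm.mem_orthogonal_iff]
    constructor
    · intro h a
      exact h (s a) (Submodule.subset_span ⟨a, rfl⟩)
    · intro h w hw
      show B w v = 0
      refine Submodule.span_induction (p := fun w _ => B w v = 0) ?_ ?_ ?_ ?_ hw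
      · rintro _ ⟨a, rfl⟩
        exact h a
      · rw [map_zero, LinearMap.zero_apply]
      · intro x y _ _ hx hy
        rw [map_add, LinearMap.add_apply, hx, hy, add_zero]
      · intro c x _ hx
        rw [map_smul, LinearMap.smul_apply, hx, smul_zero]
  have e : Ext B s ≃ {w : O // ¬ ((w : V) ∈ S)} :=
    { toFun := fun v => ⟨⟨v.1, (hmemO v.1).2 v.2.1⟩, v.2.2⟩
      invFun := fun w => ⟨w.1.1, (hmemO w.1.1).1 w.1.2, w.2⟩
      left_inv := fun v => rfl
      right_inv := fun w => rfl }
  rw [Nat.card_congr e, Nat.card_eq_fintype_card, Fintype.card_subtype_compl]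
  have h1 : Fintype.card O = Fintype.card F ^ (finrank F V - m) := by
    rw [Module.card_eq_pow_finrank (K := F) (V := O), hO,
      LinearMap.BilinForm.finrank_orthogonal hnd, hS, finrank_span_eq_card hli, Fintype.card_fin]
  have h2 : Fintype.card {w : O // (w : V) ∈ S} = Fintype.card F ^ m := by
    have e2 : {w : O // (w : V) ∈ S} ≃ S :=
      { toFun := fun w => ⟨w.1.1, w.2⟩
        invFun := fun v => ⟨⟨v.1, hSO v.2⟩, v.2⟩
        left_inv := fun w => rfl
        right_inv := fun v => rfl }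
    rw [Fintype.card_congr e2, Module.card_eq_pow_finrank (K := F) (V := S), hS,
      finrank_span_eq_card hli, Fintype.card_fin]
  rw [h1, h2]

theorem finite_isoTuple (B : LinearMap.BilinForm F V) (m : ℕ) : Finite (IsoTuple B m) := by
  unfold IsoTuple
  infer_instance

/-- the number of isotropic independent tuples -/
theorem card_isoTuple (B : LinearMap.BilinForm F V) (hB : B.IsAlt) (hnd : B.Nondegenerate)
    (m : ℕ) :
    Nat.card (IsoTuple B m) =
      ∏ j : Fin m, (Fintype.card F ^ (finrank F V - j.val) - Fintype.card F ^ j.val) := by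
  induction m with
  | zero =>
    rw [Finset.univ_eq_empty, Finset.prod_empty]
    haveI : Unique (IsoTuple B 0) :=
      { default := ⟨Fin.elim0, linearIndependent_empty_type, fun a => a.elim0⟩
        uniq := fun s => Subtype.ext (funext fun a => a.elim0) }
    exact Nat.card_unique
  | succ m ih =>
    haveI := finite_isoTuple B m
    haveI : Fintype (IsoTuple B m) := Fintype.ofFinite _
    haveI : ∀ s : IsoTuple B m, Finite (Ext B s.1) := fun s => by
      unfold Ext
      infer_instance
    rw [Nat.card_congr (succEquiv B hB m), Nat.card_sigma]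
    have h1 : ∀ s : IsoTuple B m, Nat.card (Ext B s.1)
        = Fintype.card F ^ (finrank F V - m) - Fintype.card F ^ m :=
      fun s => card_ext B hnd s.1 s.2.1 s.2.2
    simp only [h1]
    rw [Finset.sum_const, Finset.card_univ, smul_eq_mul, ← Nat.card_eq_fintype_card, ih,
      Fin.prod_univ_castSucc]
    rfl

/-- totally isotropic subspaces of dimension `m` -/
abbrev TiSub (B : LinearMap.BilinForm F V) (m : ℕ) :=
  {W : Submodule F V // finrank F W = m ∧ ∀ u ∈ W, ∀ v ∈ W, B u v = 0}

theorem card_ti_mul (B : LinearMap.BilinForm F V) (hB : B.IsAlt) (hnd : B.Nondegenerate)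
    (m : ℕ) :
    Nat.card (TiSub B m) * ∏ j : Fin m, (Fintype.card F ^ m - Fintype.card F ^ j.val) =
    ∏ j : Fin m, (Fintype.card F ^ (finrank F V - j.val) - Fintype.card F ^ j.val) := by
  classical
  haveI : Finite (Submodule F V) := Finite.of_injective (fun W => (W : Set V)) SetLike.coe_injective
  haveI : Fintype (TiSub B m) := Fintype.ofFinite _
  haveI := finite_isoTuple B m
  rw [← card_isoTuple B hB hnd m]
  have hmem : ∀ (s : IsoTuple B m), ∀ u ∈ Submodule.span F (Set.range s.1),
      ∀ v ∈ Submodule.span F (Set.range s.1), B u v = 0 := by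
    intro s u hu v hv
    refine Submodule.span_induction (p := fun u _ => B u v = 0) ?_ ?_ ?_ ?_ hu
    · rintro _ ⟨a, rfl⟩
      refine Submodule.span_induction (p := fun v _ => B (s.1 a) v = 0) ?_ ?_ ?_ ?_ hv
      · rintro _ ⟨b, rfl⟩
        exact s.2.2 a b
      · exact map_zero _
      · intro x y _ _ hx hy
        rw [map_add, hx, hy, add_zero]
      · intro c x _ hx
        rw [map_smul, hx, smul_zero]
    · rw [map_zero, LinearMap.zero_apply]
    · intro x y _ _ hx hy
      rw [map_add, LinearMap.add_apply, hx, hy, add_zero]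
    · intro c x _ hx
      rw [map_smul, LinearMap.smul_apply, hx, smul_zero]
  let f : IsoTuple B m → TiSub B m :=
    fun s => ⟨Submodule.span F (Set.range s.1), by
      rw [finrank_span_eq_card s.2.1, Fintype.card_fin], hmem s⟩
  rw [Nat.card_congr (Equiv.sigmaFiberEquiv f).symm, Nat.card_sigma]
  have : ∀ W : TiSub B m, Nat.card {s : IsoTuple B m // f s = W} =
        ∏ j : Fin m, (Fintype.card F ^ m - Fintype.card F ^ j.val) := by
    intro W
    have e : {s : IsoTuple B m // f s = W} ≃
        {s : {s : Fin m → V // LinearIndependent F s} //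
          Submodule.span F (Set.range s.1) = W.1} :=
      { toFun := fun s => ⟨⟨s.1.1, s.1.2.1⟩, congrArg Subtype.val s.2⟩
        invFun := fun s => ⟨⟨s.1.1, s.1.2, fun a b => W.2.2 _
            ((le_of_eq s.2) (Submodule.subset_span ⟨a, rfl⟩)) _
            ((le_of_eq s.2) (Submodule.subset_span ⟨b, rfl⟩))⟩,
          Subtype.ext s.2⟩
        left_inv := fun s => rfl
        right_inv := fun s => rfl }
    rw [Nat.card_congr (e.trans (Cfsg.Agent.Helper13.SubCnt.fiberEquiv m W.1 W.2.1))]
    have h2 := card_linearIndependent (K := F) (V := W.1) (k := m) (by rw [W.2.1])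
    rw [W.2.1] at h2
    exact h2
  simp only [this]
  rw [Finset.sum_const, Finset.card_univ, smul_eq_mul, Nat.card_eq_fintype_card]

theorem prod_pow_sub_pow' (q n m : ℕ) (hm : 2 * m ≤ n + 1) :
    ∏ j : Fin m, (q ^ (n - j.val) - q ^ j.val)
      = (∏ j : Fin m, q ^ j.val) * ∏ j : Fin m, (q ^ (n - 2 * j.val) - 1) := by
  rw [← Finset.prod_mul_distrib]
  apply Finset.prod_congr rfl
  intro j _
  have hj : 2 * j.val ≤ n := by have := j.2; omega
  rw [Nat.mul_sub, mul_one, ← pow_add]
  congr 2
  omega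

theorem card_ti_mul' (B : LinearMap.BilinForm F V) (hB : B.IsAlt) (hnd : B.Nondegenerate)
    (n m : ℕ) (hn : finrank F V = n) (hm : 2 * m ≤ n) :
    Nat.card (TiSub B m) * ∏ j : Fin m, (Fintype.card F ^ (m - j.val) - 1) =
    ∏ j : Fin m, (Fintype.card F ^ (n - 2 * j.val) - 1) := by
  have h := card_ti_mul B hB hnd m
  rw [hn, prod_pow_sub_pow' _ n m (by omega),
    Cfsg.Agent.Helper13.SubCnt.prod_pow_sub_pow _ m m le_rfl] at h
  have hpos : 0 < ∏ j : Fin m, Fintype.card F ^ j.val :=
    Finset.prod_pos fun j _ => pow_pos Fintype.card_pos _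
  have h' : (∏ j : Fin m, Fintype.card F ^ j.val) *
      (Nat.card (TiSub B m) * ∏ j : Fin m, (Fintype.card F ^ (m - j.val) - 1)) =
      (∏ j : Fin m, Fintype.card F ^ j.val) *
        ∏ j : Fin m, (Fintype.card F ^ (n - 2 * j.val) - 1) := by
    rw [← h]; ring
  exact Nat.eq_of_mul_eq_mul_left hpos h'

theorem not_char_dvd_card_ti (p : ℕ) [Fact p.Prime] [CharP F p]
    (B : LinearMap.BilinForm F V) (hB : B.IsAlt) (hnd : B.Nondegenerate)
    (n m : ℕ) (hn : finrank F V = n) (hm : 2 * m ≤ n) :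
    ¬ p ∣ Nat.card (TiSub B m) := by
  intro hdvd
  have h := card_ti_mul' B hB hnd n m hn hm
  have hp : p.Prime := Fact.out
  have hpq : p ∣ Fintype.card F := by
    rw [← CharP.cast_eq_zero_iff F p]
    exact Nat.cast_card_eq_zero F
  have h2 : p ∣ ∏ j : Fin m, (Fintype.card F ^ (n - 2 * j.val) - 1) := by
    rw [← h]; exact Dvd.dvd.mul_right hdvd _
  rw [hp.prime.dvd_finsetProd_iff] at h2
  obtain ⟨j, -, hj⟩ := h2
  have hpos : 0 < n - 2 * j.val := by have := j.2; omega
  have h3 : p ∣ Fintype.card F ^ (n - 2 * j.val) := dvd_pow hpq hpos.ne'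
  have h4 : 1 ≤ Fintype.card F ^ (n - 2 * j.val) := Nat.one_le_pow _ _ Fintype.card_pos
  have h5 : p ∣ 1 := by
    have := Nat.dvd_sub h3 hj
    rwa [Nat.sub_sub_self h4] at this
  exact hp.one_lt.ne' (Nat.dvd_one.mp h5)

theorem exists_dvd_of_dvd_card_ti (r : ℕ) (hr : r.Prime)
    (B : LinearMap.BilinForm F V) (hB : B.IsAlt) (hnd : B.Nondegenerate)
    (n m : ℕ) (hn : finrank F V = n) (hm : 2 * m ≤ n)
    (h : r ∣ Nat.card (TiSub B m)) :
    ∃ j, j < m ∧ r ∣ Fintype.card F ^ (n - 2 * j) - 1 := by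
  have h1 := card_ti_mul' B hB hnd n m hn hm
  have h2 : r ∣ ∏ j : Fin m, (Fintype.card F ^ (n - 2 * j.val) - 1) := by
    rw [← h1]; exact Dvd.dvd.mul_right h _
  rw [hr.prime.dvd_finsetProd_iff] at h2
  obtain ⟨j, -, hj⟩ := h2
  exact ⟨j.val, j.2, hj⟩

end Cfsg.Agent.Helper13.TiCnt
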