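import Mathlib
import Cfsg.Agent.Lib.Helper13.TiCount
import Cfsg.Agent.Lib.Helper13.QuadFinite
import Cfsg.Agent.Lib.Helper2.OrthOrders

set_option autoImplicit false
set_option linter.style.haveILetI false
set_option linter.unusedSectionVars false

/-!
# Singular vectors of odd-dimensional quadratic spaces over finite fields of odd order
-/

namespace Cfsg.Agent.Helper13.OrthTs

open Module QuadraticMap

section scale
variable {F : Type*} [Field F] {V : Type*} [AddCommGroup V] [Module F V]

theorem polar_smul_form (c : F) (Q : QuadraticForm F V) (u v : V) :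
    polar (⇑(c • Q)) u v = c * polar (⇑Q) u v := by
  unfold polar
  simp only [QuadraticMap.smul_apply, smul_eq_mul]
  ring

theorem nondeg_smul (c : F) (hc : c ≠ 0) (Q : QuadraticForm F V)
    (hQ : (polarBilin Q).Nondegenerate) : (polarBilin (c • Q)).Nondegenerate := by
  constructor
  · intro x hx
    apply hQ.1
    intro y
    have := hx y
    rw [polarBilin_apply_apply, polar_smul_form] at this
    rcases mul_eq_zero.1 this with h | h
    · exact absurd h hc
    · exact h
  · intro y hy
    apply hQ.2
    intro x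
    have := hy x
    rw [polarBilin_apply_apply, polar_smul_form] at this
    rcases mul_eq_zero.1 this with h | h
    · exact absurd h hc
    · exact h

end scale

section sing
variable {F : Type*} [Field F] [Fintype F] {V : Type*} [AddCommGroup V] [Module F V]
  [FiniteDimensional F V]

/-- the number of singular vectors of a nondegenerate quadratic space of odd dimension -/
theorem card_sing_odd (h2 : (2 : F) ≠ 0) (Q : QuadraticForm F V)
    (hQ : (polarBilin Q).Nondegenerate) (k : ℕ) (hk : finrank F V = 2 * k + 1) :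
    Nat.card {v : V // Q v = 0} = Fintype.card F ^ (2 * k) := by
  classical
  set b := Module.finBasisOfFinrankEq F V hk with hb
  set S : QuadraticForm F (Unit ⊕ (Fin k ⊕ Fin k) → F) :=
    Cfsg.Agent.Helper13.matQ (Cfsg.Agent.Helper2.Orth.oddMat k F) with hS
  have hSnd : (polarBilin S).Nondegenerate := Cfsg.Agent.Helper2.Orth.nondeg_odd k h2
  set g₁ := (Matrix.of fun i j => polar Q (b i) (b j)).det with hg₁
  set g₂ := (Matrix.of fun i j => polar S (Pi.basisFun F (Unit ⊕ (Fin k ⊕ Fin k)) i)
    (Pi.basisFun F (Unit ⊕ (Fin k ⊕ Fin k)) j)).det with hg₂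
  have hg₁0 : g₁ ≠ 0 := gram_det_ne_zero Q b hQ
  have hg₂0 : g₂ ≠ 0 := gram_det_ne_zero S _ hSnd
  set c := g₁ * g₂ with hc
  have hc0 : c ≠ 0 := mul_ne_zero hg₁0 hg₂0
  have hQ' : (polarBilin (c • Q)).Nondegenerate := nondeg_smul c hc0 Q hQ
  have hgram : (Matrix.of fun i j => polar (⇑(c • Q)) (b i) (b j)) =
      c • (Matrix.of fun i j => polar Q (b i) (b j)) := by
    ext i j
    rw [Matrix.smul_apply, Matrix.of_apply, Matrix.of_apply, polar_smul_form, smul_eq_mul]
  have hdet : (Matrix.of fun i j => polar (⇑(c • Q)) (b i) (b j)).det = c ^ (2 * k + 1) * g₁ := by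
    rw [hgram, Matrix.det_smul, Fintype.card_fin]
  have hcard : Fintype.card (Fin (2 * k + 1)) = Fintype.card (Unit ⊕ (Fin k ⊕ Fin k)) := by
    rw [Fintype.card_fin, Fintype.card_sum, Fintype.card_sum, Fintype.card_fin,
      Fintype.card_unit]
    ring
  obtain ⟨e, he⟩ := equiv_of_disc_idx h2 (c • Q) S hQ' hSnd b
    (Pi.basisFun F (Unit ⊕ (Fin k ⊕ Fin k))) hcard (by
      rw [hdet]
      refine ⟨c ^ (k + 1), ?_⟩
      rw [← hg₂, hc]
      ring)
  have h1 : Nat.card {v : V // Q v = 0} =
      Nat.card {w : Unit ⊕ (Fin k ⊕ Fin k) → F // S w = 0} := by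
    apply Nat.card_congr
    apply Equiv.subtypeEquiv e.toEquiv
    intro v
    show Q v = 0 ↔ S (e v) = 0
    rw [he, QuadraticMap.smul_apply, smul_eq_mul]
    constructor
    · intro h
      rw [h, mul_zero]
    · intro h
      rcases mul_eq_zero.1 h with h | h
      · exact absurd h hc0
      · exact h
  rw [h1]
  have h2' := Cfsg.Agent.Helper2.Orth.Nsing_odd h2 k
  unfold Cfsg.Agent.Helper2.Orth.Nsing at h2'
  rw [← h2']
  apply Nat.card_congr
  apply Equiv.subtypeEquivRight
  intro w
  rw [Cfsg.Agent.Helper2.Orth.quadFormOdd_eq]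

end sing

end Cfsg.Agent.Helper13.OrthTs
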