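import Mathlib
import Cfsg.Agent.Lib.Helper13.OrthTs1

set_option autoImplicit false
set_option linter.style.haveILetI false
set_option linter.unusedSectionVars false

/-!
# Counting totally singular subspaces of an odd-dimensional quadratic space
-/

namespace Cfsg.Agent.Helper13.OrthTs

open Module QuadraticMap

section span
variable {F V : Type*} [Field F] [AddCommGroup V] [Module F V]

theorem polar_span_eq_zero (Q : QuadraticForm F V) {m : ℕ} (s : Fin m → V)
    (hs : ∀ a b, polar Q (s a) (s b) = 0) :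
    ∀ u ∈ Submodule.span F (Set.range s), ∀ v ∈ Submodule.span F (Set.range s),
      polar Q u v = 0 := by
  intro u hu v hv
  refine Submodule.span_induction (p := fun u _ => polar Q u v = 0) ?_ ?_ ?_ ?_ hu
  · rintro _ ⟨a, rfl⟩
    refine Submodule.span_induction (p := fun v _ => polar Q (s a) v = 0) ?_ ?_ ?_ ?_ hv
    · rintro _ ⟨b, rfl⟩
      exact hs a b
    · exact polar_zero_right _ _
    · intro x y _ _ hx hy
      rw [polar_add_right, hx, hy, add_zero]
    · intro c x _ hx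
      rw [polar_smul_right, hx, smul_zero]
  · exact polar_zero_left _ _
  · intro x y _ _ hx hy
    rw [polar_add_left, hx, hy, add_zero]
  · intro c x _ hx
    rw [polar_smul_left, hx, smul_zero]

theorem apply_span_eq_zero (Q : QuadraticForm F V) {m : ℕ} (s : Fin m → V)
    (hs0 : ∀ a, Q (s a) = 0) (hs : ∀ a b, polar Q (s a) (s b) = 0) :
    ∀ u ∈ Submodule.span F (Set.range s), Q u = 0 := by
  have hp := polar_span_eq_zero Q s hs
  intro u hu
  refine Submodule.span_induction
    (p := fun u _ => u ∈ Submodule.span F (Set.range s) ∧ Q u = 0) ?_ ?_ ?_ ?_ hu |>.2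
  · rintro _ ⟨a, rfl⟩
    exact ⟨Submodule.subset_span ⟨a, rfl⟩, hs0 a⟩
  · exact ⟨Submodule.zero_mem _, map_zero Q⟩
  · intro x y _ _ hx hy
    refine ⟨Submodule.add_mem _ hx.1 hy.1, ?_⟩
    have := hp x hx.1 y hy.1
    unfold polar at this
    rw [hx.2, hy.2] at this
    simpa using this
  · intro c x _ hx
    refine ⟨Submodule.smul_mem _ c hx.1, ?_⟩
    rw [QuadraticMap.map_smul, hx.2, smul_zero]

end span

section count
variable {F V : Type*} [Field F] [Fintype F] [AddCommGroup V] [Module F V] [Finite V]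

/-- independent tuples of pairwise orthogonal singular vectors -/
abbrev TsTuple (Q : QuadraticForm F V) (m : ℕ) :=
  {s : Fin m → V // LinearIndependent F s ∧ (∀ a, Q (s a) = 0) ∧
    ∀ a b, polar Q (s a) (s b) = 0}

/-- the vectors extending a totally singular tuple -/
abbrev ExtQ (Q : QuadraticForm F V) {m : ℕ} (s : Fin m → V) :=
  {v : V // (Q v = 0 ∧ ∀ a, polar Q (s a) v = 0) ∧ v ∉ Submodule.span F (Set.range s)}

theorem cons_ts (Q : QuadraticForm F V) {m : ℕ} (s : Fin m → V) (v : V)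
    (hs : ∀ a b, polar Q (s a) (s b) = 0) (hv0 : Q v = 0) (hv : ∀ a, polar Q (s a) v = 0) :
    ∀ a b, polar Q ((Fin.cons v s : Fin (m + 1) → V) a)
      ((Fin.cons v s : Fin (m + 1) → V) b) = 0 := by
  intro a b
  refine Fin.cases ?_ (fun a' => ?_) a <;> refine Fin.cases ?_ (fun b' => ?_) b
  · rw [Fin.cons_zero, polar_self, hv0, smul_zero]
  · rw [Fin.cons_zero, Fin.cons_succ, polar_comm, hv]
  · rw [Fin.cons_zero, Fin.cons_succ]
    exact hv a'
  · rw [Fin.cons_succ, Fin.cons_succ]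
    exact hs a' b'

theorem cons_ts0 (Q : QuadraticForm F V) {m : ℕ} (s : Fin m → V) (v : V)
    (hs0 : ∀ a, Q (s a) = 0) (hv0 : Q v = 0) :
    ∀ a, Q ((Fin.cons v s : Fin (m + 1) → V) a) = 0 := by
  intro a
  refine Fin.cases ?_ (fun a' => ?_) a
  · rw [Fin.cons_zero]
    exact hv0
  · rw [Fin.cons_succ]
    exact hs0 a'

theorem sigma_extQ_aux (Q : QuadraticForm F V) {m : ℕ} {s s' : TsTuple Q m} (h : s = s')
    (v : V)
    (hv : (Q v = 0 ∧ ∀ a, polar Q (s.1 a) v = 0) ∧ v ∉ Submodule.span F (Set.range s.1))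
    (hv' : (Q v = 0 ∧ ∀ a, polar Q (s'.1 a) v = 0) ∧ v ∉ Submodule.span F (Set.range s'.1)) :
    (⟨s, ⟨v, hv⟩⟩ : Σ s : TsTuple Q m, ExtQ Q s.1) = ⟨s', ⟨v, hv'⟩⟩ := by
  subst h
  rfl

noncomputable def succEquivQ (Q : QuadraticForm F V) (m : ℕ) :
    TsTuple Q (m + 1) ≃ Σ s : TsTuple Q m, ExtQ Q s.1 where
  toFun s := ⟨⟨Fin.tail s.1, (linearIndependent_finSucc.mp s.2.1).1,
      fun a => s.2.2.1 a.succ, fun a b => s.2.2.2 a.succ b.succ⟩,
    ⟨s.1 0, ⟨s.2.2.1 0, fun a => s.2.2.2 a.succ 0⟩, (linearIndependent_finSucc.mp s.2.1).2⟩⟩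
  invFun s := ⟨Fin.cons s.2.1 s.1.1, linearIndependent_finCons.mpr ⟨s.1.2.1, s.2.2.2⟩,
    cons_ts0 Q s.1.1 s.2.1 s.1.2.2.1 s.2.2.1.1,
    cons_ts Q s.1.1 s.2.1 s.1.2.2.2 s.2.2.1.1 s.2.2.1.2⟩
  left_inv s := by
    apply Subtype.ext
    exact Fin.cons_self_tail s.1
  right_inv := fun ⟨⟨s, hs⟩, ⟨v, hv⟩⟩ =>
    sigma_extQ_aux Q (Subtype.ext (by exact Fin.tail_cons (α := fun _ => V) v s)) v _ hv

/-- the number of singular vectors orthogonal to a totally singular subspace -/
theorem card_sing_orth (h2 : (2 : F) ≠ 0) (Q : QuadraticForm F V)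
    (hQ : (polarBilin Q).Nondegenerate) (d : ℕ) (hn : finrank F V = 2 * d + 1)
    (S : Submodule F V) (m : ℕ) (hSm : finrank F S = m) (hmd : m ≤ d)
    (hS0 : ∀ u ∈ S, Q u = 0) :
    Nat.card {v : V // v ∈ LinearMap.BilinForm.orthogonal (polarBilin Q) S ∧ Q v = 0} =
      Fintype.card F ^ (2 * d - m) := by
  classical
  haveI : Fintype V := Fintype.ofFinite V
  set B := polarBilin Q with hB
  have hBa : ∀ u v, B u v = polar Q u v := fun u v => rfl
  have hsymm : B.IsSymm := ⟨fun x y => polar_comm Q x y⟩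
  have hrefl : B.IsRefl := hsymm.isRefl
  set O := LinearMap.BilinForm.orthogonal B S with hO
  have hSS : ∀ u ∈ S, ∀ v ∈ S, polar Q u v = 0 := by
    intro u hu v hv
    unfold polar
    rw [hS0 _ (S.add_mem hu hv), hS0 u hu, hS0 v hv]
    simp
  have hSO : S ≤ O := by
    intro v hv
    rw [hO, LinearMap.BilinForm.mem_orthogonal_iff]
    intro w hw
    exact hSS w hw v hv
  obtain ⟨T₀, hT₀⟩ := Submodule.exists_isCompl S
  set T := T₀ ⊓ O with hT
  have hdisj : S ⊓ T = ⊥ := by
    rw [eq_bot_iff, ← hT₀.inf_eq_bot, hT, ← inf_assoc]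
    exact inf_le_left
  have hsup : S ⊔ T = O := by
    rw [hT, ← sup_inf_assoc_of_le T₀ hSO, hT₀.sup_eq_top, top_inf_eq]
  have hOfin : finrank F O = 2 * d + 1 - m := by
    rw [hO, LinearMap.BilinForm.finrank_orthogonal hQ, hn, hSm]
  have hTfin : finrank F T = 2 * (d - m) + 1 := by
    have h1 := Submodule.finrank_sup_add_finrank_inf_eq S T
    rw [hdisj, finrank_bot, add_zero, hsup, hOfin, hSm] at h1
    omega
  have hTO : T ≤ O := hT ▸ inf_le_right
  have hST : ∀ u ∈ S, ∀ t ∈ T, polar Q u t = 0 := by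
    intro u hu t ht
    have := hTO ht
    rw [hO, LinearMap.BilinForm.mem_orthogonal_iff] at this
    exact this u hu
  -- the restriction to `T` is nondegenerate
  set QT : QuadraticForm F T := Q.comp T.subtype with hQT
  have hQTa : ∀ t : T, QT t = Q (t : V) := fun t => rfl
  have hQTp : ∀ t t' : T, polar QT t t' = polar Q (t : V) (t' : V) := by
    intro t t'
    unfold polar
    rw [hQTa, hQTa, hQTa]
    rfl
  have hQTnd : (polarBilin QT).Nondegenerate := by
    have hleft : (polarBilin QT).SeparatingLeft := by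
      intro t ht
      have h1 : (t : V) ∈ LinearMap.BilinForm.orthogonal B O := by
        rw [LinearMap.BilinForm.mem_orthogonal_iff]
        intro o ho
        rw [← hsup] at ho
        obtain ⟨u, hu, t', ht', rfl⟩ := Submodule.mem_sup.1 ho
        show B (u + t') t = 0
        rw [map_add, LinearMap.add_apply, hBa, hBa, hST u hu t t.2, zero_add, polar_comm]
        have := ht ⟨t', ht'⟩
        rw [polarBilin_apply_apply, hQTp] at this
        exact this
      rw [hO, LinearMap.BilinForm.orthogonal_orthogonal hQ hrefl] at h1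
      have h2' : (t : V) ∈ S ⊓ T := ⟨h1, t.2⟩
      rw [hdisj, Submodule.mem_bot] at h2'
      exact Subtype.ext h2'
    have hsymT : (polarBilin QT).IsSymm := ⟨fun x y => polar_comm QT x y⟩
    exact ⟨hleft, (hsymT.isRefl.nondegenerate_iff_separatingLeft.2 hleft).2⟩
  have hcardT : Nat.card {t : T // QT t = 0} = Fintype.card F ^ (2 * (d - m)) :=
    card_sing_odd h2 QT hQTnd (d - m) hTfin
  -- the bijection
  let f : S × {t : T // QT t = 0} → {v : V // v ∈ O ∧ Q v = 0} := fun z =>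
    ⟨(z.1 : V) + (z.2.1 : V), by
      rw [← hsup]
      exact Submodule.add_mem_sup z.1.2 z.2.1.2, by
      have h1 := hST z.1.1 z.1.2 z.2.1.1 z.2.1.2
      unfold polar at h1
      have h3 : Q (z.2.1 : V) = 0 := z.2.2
      rw [hS0 _ z.1.2, h3] at h1
      simpa using h1⟩
  have hfinj : Function.Injective f := by
    rintro ⟨u, t⟩ ⟨u', t'⟩ h
    have h1 : (u : V) + (t.1 : V) = (u' : V) + (t'.1 : V) := congrArg Subtype.val h
    have h3 : (u : V) - u' = (t'.1 : V) - t.1 := by
      have : (u : V) - u' - ((t'.1 : V) - t.1) = 0 := by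
        calc (u : V) - u' - ((t'.1 : V) - t.1) = ((u : V) + t.1) - (u' + t'.1) := by abel
          _ = 0 := by rw [h1, sub_self]
      exact sub_eq_zero.1 this
    have h4 : (u : V) - u' ∈ S ⊓ T :=
      ⟨S.sub_mem u.2 u'.2, h3 ▸ T.sub_mem t'.1.2 t.1.2⟩
    rw [hdisj, Submodule.mem_bot] at h4
    have h5 : (t'.1 : V) - t.1 = 0 := by rw [← h3, h4]
    have hu : u = u' := Subtype.ext (sub_eq_zero.1 h4)
    have ht : t = t' := Subtype.ext (Subtype.ext (sub_eq_zero.1 h5).symm)
    rw [hu, ht]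
  have hfsurj : Function.Surjective f := by
    rintro ⟨v, hvO, hv0⟩
    rw [← hsup] at hvO
    obtain ⟨u, hu, t, ht, rfl⟩ := Submodule.mem_sup.1 hvO
    have h1 := hST u hu t ht
    unfold polar at h1
    rw [hv0, hS0 u hu] at h1
    have ht0 : Q t = 0 := by
      have : -Q t = 0 := by simpa using h1
      exact neg_eq_zero.1 this
    exact ⟨(⟨u, hu⟩, ⟨⟨t, ht⟩, ht0⟩), rfl⟩
  rw [← Nat.card_congr (Equiv.ofBijective f ⟨hfinj, hfsurj⟩), Nat.card_prod, hcardT,
    Nat.card_eq_fintype_card, Module.card_eq_pow_finrank (K := F) (V := S), hSm, ← pow_add]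
  congr 1
  omega

theorem card_extQ (h2 : (2 : F) ≠ 0) (Q : QuadraticForm F V)
    (hQ : (polarBilin Q).Nondegenerate) (d : ℕ) (hn : finrank F V = 2 * d + 1)
    {m : ℕ} (hmd : m ≤ d) (s : Fin m → V)
    (hli : LinearIndependent F s) (hs0 : ∀ a, Q (s a) = 0)
    (hs : ∀ a b, polar Q (s a) (s b) = 0) :
    Nat.card (ExtQ Q s) = Fintype.card F ^ (2 * d - m) - Fintype.card F ^ m := by
  classical
  haveI : Fintype V := Fintype.ofFinite V
  set S := Submodule.span F (Set.range s) with hS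
  have hSm : finrank F S = m := by rw [hS, finrank_span_eq_card hli, Fintype.card_fin]
  have hS0 : ∀ u ∈ S, Q u = 0 := apply_span_eq_zero Q s hs0 hs
  have hSS := polar_span_eq_zero Q s hs
  set O := LinearMap.BilinForm.orthogonal (polarBilin Q) S with hO
  have hmemO : ∀ v, v ∈ O ↔ ∀ a, polar Q (s a) v = 0 := by
    intro v
    rw [hO, LinearMap.BilinForm.mem_orthogonal_iff]
    constructor
    · intro h a
      exact h (s a) (Submodule.subset_span ⟨a, rfl⟩)
    · intro h w hw
      show polar Q w v = 0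
      refine Submodule.span_induction (p := fun w _ => polar Q w v = 0) ?_ ?_ ?_ ?_ hw
      · rintro _ ⟨a, rfl⟩
        exact h a
      · exact polar_zero_left _ _
      · intro x y _ _ hx hy
        rw [polar_add_left, hx, hy, add_zero]
      · intro c x _ hx
        rw [polar_smul_left, hx, smul_zero]
  have hSO : S ≤ O := by
    intro v hv
    rw [hmemO]
    intro a
    exact hSS _ (Submodule.subset_span ⟨a, rfl⟩) v hv
  have h1 := card_sing_orth h2 Q hQ d hn S m hSm hmd hS0
  have e : ExtQ Q s ≃ {w : {v : V // v ∈ O ∧ Q v = 0} // ¬ ((w : V) ∈ S)} :=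
    { toFun := fun v => ⟨⟨v.1, (hmemO v.1).2 v.2.1.2, v.2.1.1⟩, v.2.2⟩
      invFun := fun w => ⟨w.1.1, ⟨w.1.2.2, (hmemO w.1.1).1 w.1.2.1⟩, w.2⟩
      left_inv := fun v => rfl
      right_inv := fun w => rfl }
  rw [Nat.card_congr e, Nat.card_eq_fintype_card, Fintype.card_subtype_compl,
    ← Nat.card_eq_fintype_card, h1]
  have h3 : Fintype.card {w : {v : V // v ∈ O ∧ Q v = 0} // (w : V) ∈ S} =
      Fintype.card F ^ m := by
    have e2 : {w : {v : V // v ∈ O ∧ Q v = 0} // (w : V) ∈ S} ≃ S :=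
      { toFun := fun w => ⟨w.1.1, w.2⟩
        invFun := fun v => ⟨⟨v.1, hSO v.2, hS0 v.1 v.2⟩, v.2⟩
        left_inv := fun w => rfl
        right_inv := fun v => rfl }
    rw [Fintype.card_congr e2, Module.card_eq_pow_finrank (K := F) (V := S), hSm]
  rw [h3]

end count

end Cfsg.Agent.Helper13.OrthTs
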