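import Mathlib
import Cfsg.Agent.Lib.Helper13.OrthTs2

set_option autoImplicit false
set_option linter.style.haveILetI false
set_option linter.unusedSectionVars false

/-!
# The number of totally singular subspaces of an odd-dimensional quadratic space
-/

namespace Cfsg.Agent.Helper13.OrthTs

open Module QuadraticMap

section count
variable {F V : Type*} [Field F] [Fintype F] [AddCommGroup V] [Module F V] [Finite V]

theorem finite_tsTuple (Q : QuadraticForm F V) (m : ℕ) : Finite (TsTuple Q m) := by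
  unfold TsTuple
  infer_instance

/-- the number of totally singular independent tuples -/
theorem card_tsTuple (h2 : (2 : F) ≠ 0) (Q : QuadraticForm F V)
    (hQ : (polarBilin Q).Nondegenerate) (d : ℕ) (hn : finrank F V = 2 * d + 1) (m : ℕ)
    (hm : m ≤ d + 1) :
    Nat.card (TsTuple Q m) =
      ∏ j : Fin m, (Fintype.card F ^ (2 * d - j.val) - Fintype.card F ^ j.val) := by
  induction m with
  | zero =>
    rw [Finset.univ_eq_empty, Finset.prod_empty]
    haveI : Unique (TsTuple Q 0) :=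
      { default := ⟨Fin.elim0, linearIndependent_empty_type, fun a => a.elim0,
          fun a => a.elim0⟩
        uniq := fun s => Subtype.ext (funext fun a => a.elim0) }
    exact Nat.card_unique
  | succ m ih =>
    haveI := finite_tsTuple Q m
    haveI : Fintype (TsTuple Q m) := Fintype.ofFinite _
    haveI : ∀ s : TsTuple Q m, Finite (ExtQ Q s.1) := fun s => by
      unfold ExtQ
      infer_instance
    rw [Nat.card_congr (succEquivQ Q m), Nat.card_sigma]
    have h1 : ∀ s : TsTuple Q m, Nat.card (ExtQ Q s.1)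
        = Fintype.card F ^ (2 * d - m) - Fintype.card F ^ m :=
      fun s => card_extQ h2 Q hQ d hn (by omega) s.1 s.2.1 s.2.2.1 s.2.2.2
    simp only [h1]
    rw [Finset.sum_const, Finset.card_univ, smul_eq_mul, ← Nat.card_eq_fintype_card,
      ih (by omega), Fin.prod_univ_castSucc]
    rfl

/-- totally singular subspaces of dimension `m` -/
abbrev TsSub (Q : QuadraticForm F V) (m : ℕ) :=
  {W : Submodule F V // finrank F W = m ∧ ∀ w ∈ W, Q w = 0}

theorem card_ts_mul (h2 : (2 : F) ≠ 0) (Q : QuadraticForm F V)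
    (hQ : (polarBilin Q).Nondegenerate) (d : ℕ) (hn : finrank F V = 2 * d + 1) (m : ℕ)
    (hm : m ≤ d + 1) :
    Nat.card (TsSub Q m) * ∏ j : Fin m, (Fintype.card F ^ m - Fintype.card F ^ j.val) =
    ∏ j : Fin m, (Fintype.card F ^ (2 * d - j.val) - Fintype.card F ^ j.val) := by
  classical
  haveI : Finite (Submodule F V) := Finite.of_injective (fun W => (W : Set V)) SetLike.coe_injective
  haveI : Fintype (TsSub Q m) := Fintype.ofFinite _
  haveI := finite_tsTuple Q m
  rw [← card_tsTuple h2 Q hQ d hn m hm]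
  let f : TsTuple Q m → TsSub Q m :=
    fun s => ⟨Submodule.span F (Set.range s.1), by
      rw [finrank_span_eq_card s.2.1, Fintype.card_fin],
      apply_span_eq_zero Q s.1 s.2.2.1 s.2.2.2⟩
  rw [Nat.card_congr (Equiv.sigmaFiberEquiv f).symm, Nat.card_sigma]
  have : ∀ W : TsSub Q m, Nat.card {s : TsTuple Q m // f s = W} =
        ∏ j : Fin m, (Fintype.card F ^ m - Fintype.card F ^ j.val) := by
    intro W
    have hWp : ∀ u ∈ W.1, ∀ v ∈ W.1, polar Q u v = 0 := by
      intro u hu v hv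
      unfold polar
      rw [W.2.2 _ (W.1.add_mem hu hv), W.2.2 u hu, W.2.2 v hv]
      simp
    have e : {s : TsTuple Q m // f s = W} ≃
        {s : {s : Fin m → V // LinearIndependent F s} //
          Submodule.span F (Set.range s.1) = W.1} :=
      { toFun := fun s => ⟨⟨s.1.1, s.1.2.1⟩, congrArg Subtype.val s.2⟩
        invFun := fun s => ⟨⟨s.1.1, s.1.2,
            fun a => W.2.2 _ ((le_of_eq s.2) (Submodule.subset_span ⟨a, rfl⟩)),
            fun a b => hWp _
              ((le_of_eq s.2) (Submodule.subset_span ⟨a, rfl⟩)) _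
              ((le_of_eq s.2) (Submodule.subset_span ⟨b, rfl⟩))⟩,
          Subtype.ext s.2⟩
        left_inv := fun s => rfl
        right_inv := fun s => rfl }
    rw [Nat.card_congr (e.trans (Cfsg.Agent.Helper13.SubCnt.fiberEquiv m W.1 W.2.1))]
    have h3 := card_linearIndependent (K := F) (V := W.1) (k := m) (by rw [W.2.1])
    rw [W.2.1] at h3
    exact h3
  simp only [this]
  rw [Finset.sum_const, Finset.card_univ, smul_eq_mul, Nat.card_eq_fintype_card]

theorem card_ts_mul' (h2 : (2 : F) ≠ 0) (Q : QuadraticForm F V)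
    (hQ : (polarBilin Q).Nondegenerate) (d : ℕ) (hn : finrank F V = 2 * d + 1) (m : ℕ)
    (hm : m ≤ d) :
    Nat.card (TsSub Q m) * ∏ j : Fin m, (Fintype.card F ^ (m - j.val) - 1) =
    ∏ j : Fin m, (Fintype.card F ^ (2 * d - 2 * j.val) - 1) := by
  have h := card_ts_mul h2 Q hQ d hn m (by omega)
  rw [Cfsg.Agent.Helper13.TiCnt.prod_pow_sub_pow' _ (2 * d) m (by omega),
    Cfsg.Agent.Helper13.SubCnt.prod_pow_sub_pow _ m m le_rfl] at h
  have hpos : 0 < ∏ j : Fin m, Fintype.card F ^ j.val :=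
    Finset.prod_pos fun j _ => pow_pos Fintype.card_pos _
  have h' : (∏ j : Fin m, Fintype.card F ^ j.val) *
      (Nat.card (TsSub Q m) * ∏ j : Fin m, (Fintype.card F ^ (m - j.val) - 1)) =
      (∏ j : Fin m, Fintype.card F ^ j.val) *
        ∏ j : Fin m, (Fintype.card F ^ (2 * d - 2 * j.val) - 1) := by
    rw [← h]; ring
  exact Nat.eq_of_mul_eq_mul_left hpos h'

theorem not_char_dvd_card_ts (p : ℕ) [Fact p.Prime] [CharP F p] (h2 : (2 : F) ≠ 0)
    (Q : QuadraticForm F V) (hQ : (polarBilin Q).Nondegenerate) (d : ℕ)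
    (hn : finrank F V = 2 * d + 1) (m : ℕ) (hm : m ≤ d) :
    ¬ p ∣ Nat.card (TsSub Q m) := by
  intro hdvd
  have h := card_ts_mul' h2 Q hQ d hn m hm
  have hp : p.Prime := Fact.out
  have hpq : p ∣ Fintype.card F := by
    rw [← CharP.cast_eq_zero_iff F p]
    exact Nat.cast_card_eq_zero F
  have h3 : p ∣ ∏ j : Fin m, (Fintype.card F ^ (2 * d - 2 * j.val) - 1) := by
    rw [← h]; exact Dvd.dvd.mul_right hdvd _
  rw [hp.prime.dvd_finsetProd_iff] at h3
  obtain ⟨j, -, hj⟩ := h3
  have hpos : 0 < 2 * d - 2 * j.val := by have := j.2; omega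
  have h4 : p ∣ Fintype.card F ^ (2 * d - 2 * j.val) := dvd_pow hpq hpos.ne'
  have h5 : 1 ≤ Fintype.card F ^ (2 * d - 2 * j.val) := Nat.one_le_pow _ _ Fintype.card_pos
  have h6 : p ∣ 1 := by
    have := Nat.dvd_sub h4 hj
    rwa [Nat.sub_sub_self h5] at this
  exact hp.one_lt.ne' (Nat.dvd_one.mp h6)

theorem exists_dvd_of_dvd_card_ts (r : ℕ) (hr : r.Prime) (h2 : (2 : F) ≠ 0)
    (Q : QuadraticForm F V) (hQ : (polarBilin Q).Nondegenerate) (d : ℕ)
    (hn : finrank F V = 2 * d + 1) (m : ℕ) (hm : m ≤ d)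
    (h : r ∣ Nat.card (TsSub Q m)) :
    ∃ j, j < m ∧ r ∣ Fintype.card F ^ (2 * d - 2 * j) - 1 := by
  have h1 := card_ts_mul' h2 Q hQ d hn m hm
  have h3 : r ∣ ∏ j : Fin m, (Fintype.card F ^ (2 * d - 2 * j.val) - 1) := by
    rw [← h1]; exact Dvd.dvd.mul_right h _
  rw [hr.prime.dvd_finsetProd_iff] at h3
  obtain ⟨j, -, hj⟩ := h3
  exact ⟨j.val, j.2, hj⟩

end count

end Cfsg.Agent.Helper13.OrthTs
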