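import Mathlib
import Cfsg.Agent.Lib.Helper13.OrthTs5

set_option autoImplicit false
set_option linter.unusedSectionVars false

/-!
# Invariant totally singular subspaces of isometries of odd prime order: sufficiency
-/

namespace Cfsg.Agent.Helper13.OrthTs

open Polynomial Module QuadraticMap Matrix Cfsg.Agent.Helper13.SS Cfsg.Agent.Helper13.Dual
  Cfsg.Agent.Helper13.SympSS Cfsg.Agent.Helper13.SpDec Cfsg.Agent.Helper13.SlDec
  Cfsg.Agent.Helper13.SpTi Cfsg.Agent.Helper13.OrthSS Cfsg.Agent.Helper13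
open scoped Classical

universe u

section odd
variable {F : Type u} [Field F] [Fintype F] {p : ℕ} [Fact p.Prime] [CharP F p] {r q : ℕ}

theorem gPoly_zero_left (k : ↥(cycFactors F r) → ℕ) :
    gPoly r 0 k = ∏ a : ↥(cycFactors F r), a.1 ^ k a := by
  unfold gPoly
  rw [pow_zero, one_mul]

theorem gPoly_zero_right (e : ℕ) :
    gPoly r e (fun _ : ↥(cycFactors F r) => 0) = (X - 1 : F[X]) ^ e := by
  unfold gPoly
  simp

/-- the dimension is determined by the characteristic polynomial -/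
theorem finrank_of_gPoly (hF : Fintype.card F = q) (hr : r.Prime) (hrp : r ≠ p)
    {V : Type*} [AddCommGroup V] [Module F V] [FiniteDimensional F V]
    (A : Module.End F V) (hAr : A ^ r = 1) (e₀ : ℕ) (k : ↥(cycFactors F r) → ℕ)
    (hcp : A.charpoly = gPoly r e₀ k) :
    finrank F V = e₀ + orderOf (q : ZMod r) * ∑ a, k a := by
  obtain ⟨k', hfin', hcp'⟩ := struct_gl hF hr hrp A hAr
  obtain ⟨he₀, hkk⟩ := gPoly_injective hr hrp _ _ _ _ (hcp.symm.trans hcp')
  rw [hfin', ← he₀, ← hkk]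

/-- sufficiency: an isometry of order `r` fixes a totally singular subspace of each
admissible shape -/
theorem exists_ts_of_pattern (hF : Fintype.card F = q) (hr : r.Prime) (hr2 : r ≠ 2)
    (hrp : r ≠ p) (h2 : (2 : F) ≠ 0) {κ : Type} [Fintype κ] [DecidableEq κ]
    (Q : QuadraticForm F (κ → F)) (hQ : (polarBilin Q).Nondegenerate)
    (A : Module.End F (κ → F)) (hAQ : ∀ v, Q (A v) = Q v) (hAr : A ^ r = 1)
    (e₀ : ℕ) (k : ↥(cycFactors F r) → ℕ) (hk : ∀ a, k (starΦ hr hr2 hrp a) = k a)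
    (hcp : A.charpoly = gPoly r e₀ k)
    (m e : ℕ) (j : ↥(cycFactors F r) → ℕ)
    (hmj : m = e + orderOf (q : ZMod r) * ∑ a, j a) (hfix : 2 * e < e₀)
    (hjk : ∀ a, j a + j (starΦ hr hr2 hrp a) ≤ k a) :
    ∃ W : Submodule F (κ → F), finrank F W = m ∧ (∀ w ∈ W, Q w = 0) ∧ ∀ v ∈ W, A v ∈ W := by
  have hr1 : 1 ≤ r := hr.one_lt.le
  have hrF : (r : F) ≠ 0 := cast_ne_zero_of_prime_ne hr hrp
  have hrodd : Odd r := hr.eq_two_or_odd'.resolve_left hr2
  have hi0 : 0 < orderOf (q : ZMod r) := pos_orderOf hF hr hrp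
  have hinv := starΦ_involutive (F := F) hr hr2 hrp
  set S := insert (X - 1 : F[X]) (cycFactors F r) with hS
  have hirr : ∀ f ∈ S, Irreducible f := fun f hf => insert_irreducible hf
  have e1 : (X - 1 : F[X]) = X - C 1 := by rw [map_one]
  have hmon : ∀ f ∈ S, f.Monic := by
    intro f hf
    rcases Finset.mem_insert.1 hf with rfl | hf
    · rw [e1]
      exact monic_X_sub_C 1
    · exact cycFactors_monic hf
  have hkill : ∀ {U : Type u} [AddCommGroup U] [Module F U] (C : Module.End F U),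
      C ^ r = 1 → aeval C (∏ f ∈ S, f) = 0 := by
    intro U _ _ C hC
    rw [hS, X_sub_one_mul_prod hr hrp, map_sub, map_pow, aeval_X, map_one, hC, sub_self]
  have hcard : Fintype.card κ = e₀ + orderOf (q : ZMod r) * ∑ a, k a := by
    rw [← finrank_of_gPoly hF hr hrp A hAr e₀ k hcp, Module.finrank_fintype_fun_eq_card]
  -- the linear part
  have hjm : orderOf (q : ZMod r) * ∑ a, j a ≤ m := by omega
  obtain ⟨g, hg, -, hgcp⟩ := exists_gl_elt hF hr hrp m j hjm
  have he : m - orderOf (q : ZMod r) * ∑ a, j a = e := by omega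
  rw [he] at hgcp
  have hgcp' := charpoly_pow_pred hF hr hr2 hrp g hg e j hgcp
  set G : Matrix (Fin m) (Fin m) F := LinearMap.toMatrix' g with hG
  set G' : Matrix (Fin m) (Fin m) F := LinearMap.toMatrix' (g ^ (r - 1)) with hG'
  have hGG' : G' * G = 1 := by
    rw [hG, hG', ← LinearMap.toMatrix'_mul, ← pow_succ, Nat.sub_add_cancel hr1, hg,
      LinearMap.toMatrix'_one]
  have hGr : G ^ r = 1 := by
    rw [hG, ← toMatrix'_pow, hg, LinearMap.toMatrix'_one]
  have hG'r : G' ^ r = 1 := by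
    rw [hG', ← toMatrix'_pow, ← pow_mul, mul_comm, pow_mul, hg, one_pow,
      LinearMap.toMatrix'_one]
  have hGc : G.charpoly = gPoly r e j := by
    rw [← hgcp]
    exact LinearMap.charpoly_toMatrix g (Pi.basisFun F (Fin m))
  have hG'c : G'.charpoly = gPoly r e (fun a => j (starΦ hr hr2 hrp a)) := by
    rw [← hgcp']
    exact LinearMap.charpoly_toMatrix (g ^ (r - 1)) (Pi.basisFun F (Fin m))
  -- the remaining part
  set k₀ : ↥(cycFactors F r) → ℕ := fun a => k a - j a - j (starΦ hr hr2 hrp a) with hk₀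
  have hk₀a : ∀ a, k₀ a + j a + j (starΦ hr hr2 hrp a) = k a := by
    intro a
    have := hjk a
    show k a - j a - j (starΦ hr hr2 hrp a) + j a + j (starΦ hr hr2 hrp a) = k a
    omega
  have hk₀s : ∀ a, k₀ (starΦ hr hr2 hrp a) = k₀ a := by
    intro a
    show k (starΦ hr hr2 hrp a) - j (starΦ hr hr2 hrp a)
        - j (starΦ hr hr2 hrp (starΦ hr hr2 hrp a)) = k a - j a - j (starΦ hr hr2 hrp a)
    rw [hinv a, hk a]
    omega
  have hsumstar : ∑ a, j (starΦ hr hr2 hrp a) = ∑ a, j a :=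
    Function.Bijective.sum_comp hinv.bijective j
  have hsumk : ∑ a, k₀ a + ∑ a, j a + ∑ a, j a = ∑ a, k a := by
    have h1 : ∑ a, k a = ∑ a, (k₀ a + j a + j (starΦ hr hr2 hrp a)) :=
      Finset.sum_congr rfl (fun a _ => (hk₀a a).symm)
    rw [h1, Finset.sum_add_distrib, Finset.sum_add_distrib, hsumstar]
  have hmul : orderOf (q : ZMod r) * ∑ a, k₀ a + 2 * (orderOf (q : ZMod r) * ∑ a, j a)
      = orderOf (q : ZMod r) * ∑ a, k a := by
    rw [← hsumk]
    ring
  obtain ⟨V₀, _, _, _, A₀, Q₀, hA₀r, hQ₀, hA₀Q, hA₀c⟩ :=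
    qreal_primeProd hF hr hr2 hrp hi0 k₀ hk₀s
  have hV₀fin : finrank F V₀ = orderOf (q : ZMod r) * ∑ a, k₀ a := by
    rw [← LinearMap.charpoly_natDegree A₀, hA₀c, natDegree_primeProd hF hr hrp]
  -- the model
  set Q' : QuadraticForm F (((Fin m → F) × (Fin m → F)) × V₀) :=
    QuadraticMap.prod (hypQ (Fin m) F) Q₀ with hQ'
  have hQ'nd : (polarBilin Q').Nondegenerate := nondeg_prod _ _ hypQ_nondeg hQ₀
  have hV'fin : finrank F (((Fin m → F) × (Fin m → F)) × V₀) =
      2 * m + orderOf (q : ZMod r) * ∑ a, k₀ a := by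
    rw [Module.finrank_prod, Module.finrank_prod, Module.finrank_fintype_fun_eq_card,
      Fintype.card_fin, hV₀fin]
    ring
  have hlt : finrank F (((Fin m → F) × (Fin m → F)) × V₀) < Fintype.card κ := by
    rw [hV'fin, hcard]
    omega
  have hmodel := exists_model_iso h2 Q' hQ'nd Q hQ hlt
  have huu0 : 2 * e + (Fintype.card κ - finrank F (((Fin m → F) × (Fin m → F)) × V₀)) = e₀ := by
    rw [hV'fin, hcard]
    omega
  generalize Fintype.card κ - finrank F (((Fin m → F) × (Fin m → F)) × V₀) = uu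
    at hmodel huu0
  have huu' : 2 * e + uu = e₀ := huu0
  obtain ⟨QU, Φ, hQUnd, hΦ⟩ := hmodel
  set y : Module.End F ((((Fin m → F) × (Fin m → F)) × V₀) × (Fin uu → F)) :=
    ((hypMap G G').prodMap A₀).prodMap (1 : Module.End F (Fin uu → F)) with hy
  have hyQ : ∀ z, (QuadraticMap.prod Q' QU) (y z) = (QuadraticMap.prod Q' QU) z := by
    rintro ⟨⟨a, b⟩, c⟩
    show (QuadraticMap.prod Q' QU) ((hypMap G G' a, A₀ b), c) = _
    rw [QuadraticMap.prod_apply, QuadraticMap.prod_apply, hQ', QuadraticMap.prod_apply,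
      QuadraticMap.prod_apply, hypMap_isom G G' hGG', hA₀Q]
  have hyM : y ^ r = 1 := by
    rw [hy, prodMap_pow, prodMap_pow, hypMap_pow, hGr, hG'r, hypMap_one, hA₀r, one_pow,
      prodMap_one_one, prodMap_one_one]
  have hycp : y.charpoly = A.charpoly := by
    rw [hy, LinearMap.charpoly_prodMap, LinearMap.charpoly_prodMap, hypMap_charpoly, hGc, hG'c,
      hA₀c, LinearMap.charpoly_one, Module.finrank_fintype_fun_eq_card, Fintype.card_fin, hcp,
      ← gPoly_zero_left, ← gPoly_zero_right (F := F) (r := r) uu, gPoly_mul, gPoly_mul,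
      gPoly_mul]
    congr 1
    · omega
    · funext a
      have := hk₀a a
      omega
  set L : (Fin m → F) →ₗ[F] ((((Fin m → F) × (Fin m → F)) × V₀) × (Fin uu → F)) :=
    LinearMap.inl F _ (Fin uu → F) ∘ₗ inlMap (Fin m) F V₀ with hL
  have hLa : ∀ a, L a = (((a, 0), 0), 0) := fun a => rfl
  have hLinj : Function.Injective L := by
    intro a b h
    rw [hLa, hLa] at h
    exact congrArg (fun z => z.1.1.1) h
  obtain ⟨W, hWdim, hWts, hWinv⟩ := exists_ts_of_conj r hr1 hrodd hrF S hirr hmon Q hQ A hAQ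
    (hkill A hAr) (QuadraticMap.prod Q' QU) y hyQ hyM (hkill y hyM) hycp Φ hΦ
    (LinearMap.range L)
    (by
      rintro _ ⟨a, rfl⟩
      rw [hLa, QuadraticMap.prod_apply, hQ', QuadraticMap.prod_apply, hypQ_apply]
      simp)
    (by
      rintro _ ⟨a, rfl⟩
      refine ⟨G.mulVec a, ?_⟩
      rw [hLa, hLa, hy]
      show _ = ((hypMap G G' (a, 0), A₀ 0), (1 : Module.End F (Fin uu → F)) 0)
      rw [hypMap_apply]
      simp)
  refine ⟨W, ?_, hWts, hWinv⟩
  rw [hWdim, LinearMap.finrank_range_of_inj hLinj, Module.finrank_fintype_fun_eq_card,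
    Fintype.card_fin]

end odd

end Cfsg.Agent.Helper13.OrthTs
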