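import Mathlib
import Cfsg.Agent.Lib.Helper13.SpDec4

set_option autoImplicit false
set_option linter.unusedSectionVars false

/-!
# The combinatorics of multiplicity patterns and totally isotropic shapes
-/

namespace Cfsg.Agent.Helper13.SpTi

open Cfsg.Agent.Helper13.SympSS Cfsg.Agent.Helper13.SpDec
open scoped Classical

section comb
variable {I : Type*} [Fintype I] (σ : I → I)

/-- a pattern admits a totally isotropic shape of dimension `m` -/
def Fits (i n m : ℕ) (k : I → ℕ) : Prop :=
  ∃ (e : ℕ) (j : I → ℕ), m = e + i * ∑ a, j a ∧ 2 * e + i * ∑ a, k a ≤ n ∧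
    ∀ a, j a + j (σ a) ≤ k a

theorem exists_le_sum (T : Finset I) (k : I → ℕ) :
    ∀ J : ℕ, J ≤ ∑ a ∈ T, k a →
      ∃ j : I → ℕ, (∀ a, j a ≤ k a) ∧ (∀ a, a ∉ T → j a = 0) ∧ ∑ a ∈ T, j a = J := by
  induction T using Finset.induction_on with
  | empty =>
    intro J hJ
    rw [Finset.sum_empty] at hJ
    refine ⟨fun _ => 0, fun a => Nat.zero_le _, fun a _ => rfl, ?_⟩
    rw [Finset.sum_empty]
    omega
  | insert b T hb ih =>
    intro J hJ
    rw [Finset.sum_insert hb] at hJ
    obtain ⟨j', h1, h2, h3⟩ := ih (J - min J (k b)) (by omega)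
    refine ⟨Function.update j' b (min J (k b)), ?_, ?_, ?_⟩
    · intro a
      by_cases hab : a = b
      · subst hab
        rw [Function.update_self]
        exact min_le_right _ _
      · rw [Function.update_of_ne hab]
        exact h1 a
    · intro a ha
      rw [Finset.mem_insert, not_or] at ha
      rw [Function.update_of_ne ha.1]
      exact h2 a ha.2
    · rw [Finset.sum_insert hb, Function.update_self]
      have h4 : ∑ a ∈ T, Function.update j' b (min J (k b)) a = ∑ a ∈ T, j' a := by
        apply Finset.sum_congr rfl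
        intro a ha
        rw [Function.update_of_ne]
        rintro rfl
        exact hb ha
      rw [h4, h3]
      omega

theorem sum_univ_of_support (T : Finset I) (j : I → ℕ) (h : ∀ a, a ∉ T → j a = 0) :
    ∑ a, j a = ∑ a ∈ T, j a := by
  symm
  apply Finset.sum_subset (Finset.subset_univ T)
  intro a _ ha
  exact h a ha

theorem mod_le_sub_mul (n c u : ℕ) (h : c * u ≤ n) : n % c ≤ n - c * u := by
  rcases Nat.eq_zero_or_pos c with hc | hc
  · subst hc
    simp
  have h1 : (n - c * u) % c = n % c := by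
    have e : n = (n - c * u) + c * u := by omega
    conv_rhs => rw [e, Nat.add_mul_mod_self_left]
  rw [← h1]
  exact Nat.mod_le _ _

/-- sufficiency when the involution has no fixed points -/
theorem fits_of_cond_two (hσ : Function.Involutive σ) (hfix : ∀ a, σ a ≠ a) (i n m : ℕ)
    (hmn : 2 * m ≤ n) (h2 : 2 * (m % i) ≤ n % (2 * i)) (k : I → ℕ)
    (hk : ∀ a, k (σ a) = k a) (hkn : i * ∑ a, k a ≤ n) : Fits σ i n m k := by
  obtain ⟨T, hT1, hT2⟩ := exists_half σ hσ hfix
  set u := ∑ a ∈ T, k a with hu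
  have hsum : ∑ a, k a = 2 * u := by
    rw [sum_eq_sum_half σ hσ T hT1 hT2 k, hu, Finset.mul_sum]
    apply Finset.sum_congr rfl
    intro a _
    rw [hk a, two_mul]
  have hcu : 2 * i * u ≤ n := by
    rw [hsum] at hkn
    calc 2 * i * u = i * (2 * u) := by ring
      _ ≤ n := hkn
  have hk0 := mod_le_sub_mul n (2 * i) u hcu
  obtain ⟨j, hj1, hj2, hj3⟩ := exists_le_sum T k (min (m / i) u) (min_le_right _ _)
  have hjsum : ∑ a, j a = min (m / i) u := by
    rw [sum_univ_of_support T j hj2, hj3]
  have hdm : i * (m / i) + m % i = m := Nat.div_add_mod m i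
  have hle : i * min (m / i) u ≤ i * (m / i) := Nat.mul_le_mul_left _ (min_le_left _ _)
  refine ⟨m - i * min (m / i) u, j, ?_, ?_, ?_⟩
  · rw [hjsum]
    omega
  · rw [hsum]
    have e1 : i * (2 * u) = 2 * i * u := by ring
    rw [e1]
    rcases le_total (m / i) u with h | h
    · rw [min_eq_left h]
      omega
    · rw [min_eq_right h]
      have e2 : 2 * i * u = 2 * (i * u) := by ring
      have : i * u ≤ i * (m / i) := Nat.mul_le_mul_left _ h
      omega
  · intro a
    by_cases ha : a ∈ T
    · rw [hj2 (σ a) (hT1 a ha), add_zero]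
      exact hj1 a
    · rw [hj2 a ha, zero_add, ← hk a]
      exact hj1 (σ a)

/-- sufficiency when the involution is trivial -/
theorem fits_of_cond_one (hσ : ∀ a, σ a = a) (i n m : ℕ) (hi : 0 < i)
    (h2 : 2 * (m % i) ≤ n % i) (h3 : Fintype.card I + 2 * (m / i) ≤ n / i) (k : I → ℕ)
    (hkn : i * ∑ a, k a ≤ n) : Fits σ i n m k := by
  set s := ∑ a, k a with hs
  set Jmax := ∑ a, k a / 2 with hJmax
  set o := ∑ a, k a % 2 with ho
  have hso : s = 2 * Jmax + o := by
    rw [hs, hJmax, ho, Finset.mul_sum, ← Finset.sum_add_distrib]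
    apply Finset.sum_congr rfl
    intro a _
    exact (Nat.div_add_mod (k a) 2).symm
  have hot : o ≤ Fintype.card I := by
    rw [ho]
    calc ∑ a, k a % 2 ≤ ∑ _a : I, 1 :=
          Finset.sum_le_sum (fun a _ => by have := Nat.mod_lt (k a) (by omega : 0 < 2); omega)
      _ = Fintype.card I := by rw [Finset.sum_const, Finset.card_univ, smul_eq_mul, mul_one]
  obtain ⟨j, hj1, -, hj3⟩ := exists_le_sum Finset.univ (fun a => k a / 2)
    (min (m / i) Jmax) (min_le_right _ _)
  have hdm : i * (m / i) + m % i = m := Nat.div_add_mod m i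
  have hdn : i * (n / i) + n % i = n := Nat.div_add_mod n i
  have hle : i * min (m / i) Jmax ≤ i * (m / i) := Nat.mul_le_mul_left _ (min_le_left _ _)
  have hsn : s ≤ n / i := by
    rw [Nat.le_div_iff_mul_le hi, mul_comm]
    exact hkn
  have hisn : i * s ≤ i * (n / i) := Nat.mul_le_mul_left _ hsn
  refine ⟨m - i * min (m / i) Jmax, j, ?_, ?_, ?_⟩
  · rw [hj3]
    omega
  · rw [← hs]
    rcases le_total (m / i) Jmax with h | h
    · rw [min_eq_left h]
      omega
    · rw [min_eq_right h]
      have e1 : i * s = 2 * (i * Jmax) + i * o := by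
        rw [hso]
        ring
      have e2 : i * o ≤ i * Fintype.card I := Nat.mul_le_mul_left _ hot
      have e3 : i * (Fintype.card I + 2 * (m / i)) ≤ i * (n / i) := Nat.mul_le_mul_left _ h3
      have e4 : i * (Fintype.card I + 2 * (m / i)) = i * Fintype.card I + 2 * (i * (m / i)) := by
        ring
      have e5 : i * Jmax ≤ i * (m / i) := Nat.mul_le_mul_left _ h
      omega
  · intro a
    rw [hσ a]
    have : j a ≤ k a / 2 := hj1 a
    omega

theorem unitFn_self (a : I) : unitFn σ a a = 1 := by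
  unfold unitFn
  rw [if_pos (Or.inl rfl)]

/-- necessity, first part: the pattern with the smallest fixed space -/
theorem cond_of_fits_max (hσ : Function.Involutive σ) (w : ℕ)
    (hw : ((∀ a, σ a = a) ∧ w = 1) ∨ ((∀ a, σ a ≠ a) ∧ w = 2)) (i n m : ℕ) (hi : 0 < i)
    (a₀ : I) (hcn : w * i ≤ n) (hΩ : n % (w * i) < 2 * m)
    (hall : ∀ k : I → ℕ, (∀ a, k (σ a) = k a) → (∃ a, k a ≠ 0) → i * ∑ a, k a ≤ n →
      Fits σ i n m k) :
    i ≤ m ∧ 2 * (m % i) ≤ n % (w * i) := by
  have hw0 : 0 < w := by
    rcases hw with ⟨-, rfl⟩ | ⟨-, rfl⟩ <;> omega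
  have hc0 : 0 < w * i := Nat.mul_pos hw0 hi
  set c := w * i with hc
  have hdiv : 1 ≤ n / c := Nat.div_pos hcn hc0
  set k : I → ℕ := fun b => (n / c) * unitFn σ a₀ b with hk
  have hks : ∀ a, k (σ a) = k a := by
    intro a
    show (n / c) * unitFn σ a₀ (σ a) = (n / c) * unitFn σ a₀ a
    rw [unitFn_symm σ hσ]
  have hk0 : ∃ a, k a ≠ 0 := by
    refine ⟨a₀, ?_⟩
    show (n / c) * unitFn σ a₀ a₀ ≠ 0
    rw [unitFn_self, mul_one]
    omega
  have hsum : i * ∑ a, k a = c * (n / c) := by
    rw [hk, ← Finset.mul_sum, unitFn_sum σ w hw a₀, hc]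
    ring
  have hle : i * ∑ a, k a ≤ n := by
    rw [hsum]
    exact Nat.mul_div_le n c
  obtain ⟨e, j, h1, h2, -⟩ := hall k hks hk0 hle
  rw [hsum] at h2
  have hdn : c * (n / c) + n % c = n := Nat.div_add_mod n c
  have he : 2 * e ≤ n % c := by omega
  have hj : 1 ≤ ∑ a, j a := by
    by_contra h
    have h0 : ∑ a, j a = 0 := by omega
    rw [h0, mul_zero, add_zero] at h1
    omega
  have hij : i ≤ i * ∑ a, j a := Nat.le_mul_of_pos_right _ hj
  refine ⟨by omega, ?_⟩
  have hmod : m % i = e % i := by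
    rw [h1, Nat.add_mul_mod_self_left]
  have : e % i ≤ e := Nat.mod_le _ _
  omega

/-- necessity, second part: patterns with many odd multiplicities -/
theorem cond_of_fits_odd (hσ : ∀ a, σ a = a) (i n m : ℕ) (hi : 0 < i) (a₀ : I) (him : i ≤ m)
    (hcn : i ≤ n) (hΩ : n % i < 2 * m)
    (hall : ∀ k : I → ℕ, (∀ a, k (σ a) = k a) → (∃ a, k a ≠ 0) → i * ∑ a, k a ≤ n →
      Fits σ i n m k) :
    Fintype.card I + 2 * (m / i) ≤ n / i := by
  by_contra hlt
  push Not at hlt
  have hdm : i * (m / i) + m % i = m := Nat.div_add_mod m i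
  have hdn : i * (n / i) + n % i = n := Nat.div_add_mod n i
  have hn' : 1 ≤ n / i := Nat.div_pos hcn hi
  have hm' : 1 ≤ m / i := Nat.div_pos him hi
  have hk0i : n % i < i := Nat.mod_lt _ hi
  rcases le_or_gt (n / i) (Fintype.card I) with hcase | hcase
  · -- few blocks: all multiplicities at most one
    obtain ⟨U, -, hU⟩ := Finset.exists_subset_card_eq
      (s := (Finset.univ : Finset I)) (n := n / i) (by rw [Finset.card_univ]; exact hcase)
    set k : I → ℕ := fun a => if a ∈ U then 1 else 0 with hk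
    have hsum : ∑ a, k a = n / i := by
      rw [hk, Finset.sum_boole, Finset.filter_mem_eq_inter, Finset.univ_inter, hU]
      rfl
    have hne : U.Nonempty := by
      rw [← Finset.card_pos, hU]
      exact hn'
    obtain ⟨b, hb⟩ := hne
    have hk0 : ∃ a, k a ≠ 0 := ⟨b, by
      show (if b ∈ U then 1 else 0) ≠ 0
      rw [if_pos hb]
      exact one_ne_zero⟩
    have hle : i * ∑ a, k a ≤ n := by
      rw [hsum]
      exact Nat.mul_div_le n i
    obtain ⟨e, j, h1, h2, h3⟩ := hall k (fun a => by rw [hσ a]) hk0 hle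
    rw [hsum] at h2
    have hj0 : ∀ a, j a = 0 := by
      intro a
      have h4 := h3 a
      rw [hσ a] at h4
      have h5 : k a ≤ 1 := by
        show (if a ∈ U then 1 else 0) ≤ 1
        split_ifs <;> omega
      omega
    have hjs : ∑ a, j a = 0 := Finset.sum_eq_zero (fun a _ => hj0 a)
    rw [hjs, mul_zero, add_zero] at h1
    omega
  · -- many blocks: all multiplicities odd
    set t := Fintype.card I with ht
    set h := (n / i - t) / 2 with hh
    have hs : t + 2 * h ≤ n / i := by
      have := Nat.div_mul_le_self (n / i - t) 2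
      omega
    set k : I → ℕ := fun a => if a = a₀ then 1 + 2 * h else 1 with hk
    have hsum : ∑ a, k a = t + 2 * h := by
      have e1 : ∀ a, k a = 1 + (if a = a₀ then 2 * h else 0) := by
        intro a
        show (if a = a₀ then 1 + 2 * h else 1) = 1 + (if a = a₀ then 2 * h else 0)
        split_ifs <;> rfl
      rw [Finset.sum_congr rfl (fun a _ => e1 a), Finset.sum_add_distrib, Finset.sum_const,
        Finset.card_univ, smul_eq_mul, mul_one, Finset.sum_ite_eq' Finset.univ a₀,
        if_pos (Finset.mem_univ _)]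
    have hk0 : ∃ a, k a ≠ 0 := ⟨a₀, by
      show (if a₀ = a₀ then 1 + 2 * h else 1) ≠ 0
      rw [if_pos rfl]
      omega⟩
    have hle : i * ∑ a, k a ≤ n := by
      rw [hsum]
      calc i * (t + 2 * h) ≤ i * (n / i) := Nat.mul_le_mul_left _ hs
        _ ≤ n := Nat.mul_div_le n i
    obtain ⟨e, j, h1, h2, h3⟩ := hall k (fun a => by rw [hσ a]) hk0 hle
    rw [hsum] at h2
    have hj0 : ∀ a, a ≠ a₀ → j a = 0 := by
      intro a ha
      have h4 := h3 a
      rw [hσ a] at h4
      have h5 : k a = 1 := by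
        show (if a = a₀ then 1 + 2 * h else 1) = 1
        rw [if_neg ha]
      omega
    have hja : j a₀ ≤ h := by
      have h4 := h3 a₀
      rw [hσ a₀] at h4
      have h5 : k a₀ = 1 + 2 * h := by
        show (if a₀ = a₀ then 1 + 2 * h else 1) = 1 + 2 * h
        rw [if_pos rfl]
      omega
    have hjs : ∑ a, j a = j a₀ := by
      apply Finset.sum_eq_single a₀
      · intro a _ ha
        exact hj0 a ha
      · intro h'
        exact absurd (Finset.mem_univ _) h'
    rw [hjs] at h1
    have hih : i * j a₀ ≤ i * h := Nat.mul_le_mul_left _ hja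
    have e2 : i * (t + 2 * h) = i * t + 2 * (i * h) := by ring
    rw [e2] at h2
    have key : i * (t + 2 * (m / i)) < i * (n / i + 1) := by
      have e3 : i * (t + 2 * (m / i)) = i * t + 2 * (i * (m / i)) := by ring
      have e4 : i * (n / i + 1) = i * (n / i) + i := by ring
      rw [e3, e4]
      omega
    have := Nat.lt_of_mul_lt_mul_left key
    omega

end comb

end Cfsg.Agent.Helper13.SpTi
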