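import Mathlib
import Cfsg.Agent.Lib.Helper13.OrthTs6
import Cfsg.Agent.Lib.Helper13.OrthElusive2
import Cfsg.Agent.Lib.Helper13.SpTi4

set_option autoImplicit false
set_option linter.unusedSectionVars false

/-!
# Elements of odd prime order of odd-dimensional orthogonal groups fixing totally singular
subspaces
-/

namespace Cfsg.Agent.Helper13.OrthTs

open Polynomial Module QuadraticMap Matrix Cfsg.Agent.Helper13.SS Cfsg.Agent.Helper13.Dual
  Cfsg.Agent.Helper13.SympSS Cfsg.Agent.Helper13.SpDec Cfsg.Agent.Helper13.SlDec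
  Cfsg.Agent.Helper13.SpTi Cfsg.Agent.Helper13.OrthSS Cfsg.Agent.Helper13
open scoped Classical

universe u

section odd
variable {F : Type u} [Field F] [Fintype F] {p : ℕ} [Fact p.Prime] [CharP F p] {r q : ℕ}
  {κ : Type} [Fintype κ] [DecidableEq κ]

theorem odd_main (hF : Fintype.card F = q) (h2 : (2 : F) ≠ 0) (hr : r.Prime) (hr2 : r ≠ 2)
    (hrp : r ≠ p) (Q : QuadraticForm F (κ → F)) (hQ : (polarBilin Q).Nondegenerate)
    (d m : ℕ) (hκ : Fintype.card κ = 2 * d + 1) (hm : 1 ≤ m) (hmd : m ≤ d) (i c : ℕ)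
    (hi : i = orderOf (q : ZMod r))
    (hc : c = if Even i then i else 2 * i) (hcn : c ≤ 2 * d + 1)
    (hΩ : (2 * d + 1) % c < 2 * m) :
    (∀ x : GL κ F, x ∈ Cfsg.Geo.omegaGL (⇑Q) → orderOf x = r →
      ∃ W : Submodule F (κ → F), finrank F W = m ∧ (∀ w ∈ W, Q w = 0) ∧
        ∀ v ∈ W, LG x v ∈ W) ↔
    (i ≤ m ∧ 2 * (m % i) ≤ (2 * d + 1) % c ∧
      (Odd i ∨ (r - 1) / i + 2 * (m / i) ≤ (2 * d + 1) / i)) := by
  have hi0 : 0 < orderOf (q : ZMod r) := pos_orderOf hF hr hrp
  have hinv := starΦ_involutive (F := F) hr hr2 hrp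
  obtain ⟨w, hw, hcw⟩ := exists_weight hF hr hr2 hrp i c hi hc
  have hrodd : Odd r := hr.eq_two_or_odd'.resolve_left hr2
  have hr1 : 1 ≤ r := hr.one_lt.le
  haveI : Fact r.Prime := ⟨hr⟩
  have hcard : Fintype.card ↥(cycFactors F r) = (r - 1) / i := by
    rw [Fintype.card_coe, hi, ← cycFactors_card (F := F) hF hr hrp, Nat.mul_div_cancel _ hi0]
  obtain ⟨a₀, ha₀⟩ := cycFactors_nonempty_aux (F := F) hF hr hrp
  subst hi
  have hwi : (Odd (orderOf (q : ZMod r)) ↔ w = 2) := by
    constructor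
    · intro hodd
      have hne : ¬ Even (orderOf (q : ZMod r)) := Nat.not_even_iff_odd.2 hodd
      rw [if_neg hne] at hc
      rw [hc] at hcw
      have := Nat.eq_of_mul_eq_mul_right hi0 hcw
      omega
    · intro hw2
      by_contra hne
      have hev : Even (orderOf (q : ZMod r)) := Nat.not_odd_iff_even.1 hne
      rw [if_pos hev] at hc
      rw [hc, hw2] at hcw
      omega
  have hex : Fintype.card F ≠ 2 ∨ Fintype.card κ ≠ 4 := Or.inr (by omega)
  constructor
  · intro hall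
    have hpat : ∀ k : ↥(cycFactors F r) → ℕ, (∀ a, k (starΦ hr hr2 hrp a) = k a) →
        (∃ a, k a ≠ 0) → orderOf (q : ZMod r) * ∑ a, k a ≤ 2 * d + 1 →
        Fits (starΦ (F := F) hr hr2 hrp) (orderOf (q : ZMod r)) (2 * d + 1) m k := by
      intro k hks hk0 hkd
      have hev := even_mul_sum hF hr hr2 hrp k hks
      have hlt : orderOf (q : ZMod r) * ∑ a, k a < Fintype.card κ := by
        rw [hκ]
        rcases Nat.lt_or_ge (orderOf (q : ZMod r) * ∑ a, k a) (2 * d + 1) with h | h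
        · exact h
        · exfalso
          have : orderOf (q : ZMod r) * ∑ a, k a = 2 * d + 1 := le_antisymm hkd h
          rw [this] at hev
          exact (Nat.not_even_iff_odd.2 ⟨d, rfl⟩) hev
      have hreal := qreal_primeProd hF hr hr2 hrp hi0 k hks
      have hdeg := natDegree_primeProd hF hr hrp k
      obtain ⟨g, hgQ, hgr, hgc⟩ := hreal.exists_end_odd h2 Q hQ (by rw [hdeg]; exact hlt)
      obtain ⟨x, hx, hxr, hLx⟩ := exists_gl_of_end (⇑Q) g hgQ r hr1 hgr
      rw [hdeg] at hgc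
      have hgc' : g.charpoly =
          gPoly r (Fintype.card κ - orderOf (q : ZMod r) * ∑ a, k a) k := hgc
      have hxΩ : (⟨x, hx⟩ : ↥(Cfsg.isometryGroup F (⇑Q))) ∈ Cfsg.Omega F (⇑Q) := by
        apply Cfsg.Agent.Helper13.OrthEl.mem_Omega_of_pow_odd Q hQ hex _ hrodd
        apply Subtype.ext
        rw [SubmonoidClass.coe_pow]
        exact hxr
      have hxmem : x ∈ Cfsg.Geo.omegaGL (⇑Q) :=
        Cfsg.Agent.Helper17.OmegaElts.coe_mem_omegaGL Q hxΩ
      have hxne : x ≠ 1 := by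
        rintro rfl
        rw [LG_one] at hLx
        rw [← hLx, LinearMap.charpoly_one, ← gPoly_zero_right (F := F) (r := r)] at hgc'
        have := (gPoly_injective hr hrp _ _ _ _ hgc').2
        obtain ⟨a, ha⟩ := hk0
        exact ha (congrFun this a).symm
      have hxo : orderOf x = r := orderOf_eq_prime hxr hxne
      obtain ⟨W, hWm, hWts, hWinv⟩ := hall x hxmem hxo
      rw [hLx] at hWinv
      obtain ⟨e, j, h1, h2', h3⟩ := pattern_of_ts hF hr hr2 hrp Q hQ g hgQ hgr _ k hgc' W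
        hWinv hWts
      rw [hWm] at h1
      refine ⟨e, j, h1, ?_, h3⟩
      rw [hκ] at h2' hlt
      omega
    rw [hcw] at hcn hΩ
    obtain ⟨h1, h2'⟩ := cond_of_fits_max (starΦ (F := F) hr hr2 hrp) hinv w hw
      (orderOf (q : ZMod r)) (2 * d + 1) m hi0 ⟨a₀, ha₀⟩ hcn hΩ hpat
    rw [hcw]
    refine ⟨h1, h2', ?_⟩
    by_cases hodd : Odd (orderOf (q : ZMod r))
    · exact Or.inl hodd
    · right
      have hw1 : w = 1 := by
        rcases hw with ⟨-, h⟩ | ⟨-, h⟩
        · exact h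
        · exact absurd (hwi.2 h) hodd
      have hσ : ∀ a, starΦ (F := F) hr hr2 hrp a = a := by
        rcases hw with ⟨h, -⟩ | ⟨-, h⟩
        · exact h
        · omega
      rw [hw1, one_mul] at hcn hΩ
      have h3 := cond_of_fits_odd (starΦ (F := F) hr hr2 hrp) hσ (orderOf (q : ZMod r))
        (2 * d + 1) m hi0 ⟨a₀, ha₀⟩ h1 hcn hΩ hpat
      rw [hcard] at h3
      exact h3
  · rintro ⟨h1, h2', h3⟩ x hxmem hxo
    obtain ⟨h, hhΩ, rfl⟩ := (Cfsg.Agent.Helper17.OmegaElts.mem_omegaGL_iff Q x).1 hxmem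
    have hxr : (h : GL κ F) ^ r = 1 := by
      rw [← hxo]
      exact pow_orderOf_eq_one _
    have hgQ : ∀ v, Q (LG (h : GL κ F) v) = Q v := fun v => by
      rw [LG_apply]
      exact h.2 v v
    obtain ⟨k, hks, hkd, hxc⟩ := orth_charpoly_eq_primePolyN hF hr hr2 hrp Q hQ (h : GL κ F)
      hgQ hxr
    rw [hκ] at hkd
    have hev := even_mul_sum hF hr hr2 hrp k hks
    have hlt : orderOf (q : ZMod r) * ∑ a, k a < 2 * d + 1 := by
      rcases Nat.lt_or_ge (orderOf (q : ZMod r) * ∑ a, k a) (2 * d + 1) with h | h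
      · exact h
      · exfalso
        have : orderOf (q : ZMod r) * ∑ a, k a = 2 * d + 1 := le_antisymm hkd h
        rw [this] at hev
        exact (Nat.not_even_iff_odd.2 ⟨d, rfl⟩) hev
    have hfits : Fits (starΦ (F := F) hr hr2 hrp) (orderOf (q : ZMod r)) (2 * d + 1) m k := by
      rcases hw with ⟨hσ, hw1⟩ | ⟨hσ, hw2⟩
      · have hev : ¬ Odd (orderOf (q : ZMod r)) := by
          intro hodd
          have := hwi.1 hodd
          omega
        rw [hcw, hw1, one_mul] at h2'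
        have h3' := h3.resolve_left hev
        rw [← hcard] at h3'
        exact fits_of_cond_one (starΦ (F := F) hr hr2 hrp) hσ (orderOf (q : ZMod r))
          (2 * d + 1) m hi0 h2' h3' k hkd
      · rw [hcw, hw2] at h2'
        exact fits_of_cond_two (starΦ (F := F) hr hr2 hrp) hinv hσ (orderOf (q : ZMod r))
          (2 * d + 1) m (by omega) h2' k hks hkd
    obtain ⟨e, j, hmj, hfix, hjk⟩ := hfits
    have hAr : LG (h : GL κ F) ^ r = 1 := by rw [← LG_pow, hxr, LG_one]
    have hcp : (LG (h : GL κ F)).charpoly =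
        gPoly r (Fintype.card κ - orderOf (q : ZMod r) * ∑ a, k a) k := by
      rw [LG_charpoly, hxc]
      rfl
    obtain ⟨t, ht⟩ := hev
    exact exists_ts_of_pattern hF hr hr2 hrp h2 Q hQ (LG (h : GL κ F)) hgQ hAr _ k hks hcp m e j
      hmj (by rw [hκ]; omega) hjk

end odd

end Cfsg.Agent.Helper13.OrthTs
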