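import Mathlib
import Cfsg.Agent.Lib.Helper13.OrthTs3
import Cfsg.Agent.Lib.Helper13.OrthTs7
import Cfsg.Agent.Lib.Helper13.OrthTs9
import Cfsg.Agent.Lib.Helper13.OrthType3

set_option autoImplicit false
set_option linter.unusedSectionVars false

/-!
# Elements of prime order of `Ω_{2d+1}(q)` fixing totally singular subspaces: assembly
-/

namespace Cfsg.Agent.Helper13.OrthTs

open Polynomial Module QuadraticMap Matrix Cfsg.Agent.Helper13.OrthSS Cfsg.Agent.Helper13
open scoped Classical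

universe u

section conv
variable {F : Type u} [Field F] {κ : Type} [Fintype κ] [DecidableEq κ]

theorem map_le_iff' (x : GL κ F) (W : Submodule F (κ → F)) :
    W.map (Matrix.toLin' (x : Matrix κ κ F)) ≤ W ↔ ∀ v ∈ W, LG x v ∈ W := by
  rw [Submodule.map_le_iff_le_comap]
  constructor
  · intro h v hv
    have h1 := h hv
    rw [Submodule.mem_comap, Matrix.toLin'_apply] at h1
    rw [LG_apply]
    exact h1
  · intro h v hv
    rw [Submodule.mem_comap, Matrix.toLin'_apply, ← LG_apply]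
    exact h v hv

end conv

section main
variable {F : Type u} [Field F] [Fintype F] {p : ℕ} [Fact p.Prime] [CharP F p] {q : ℕ}

theorem c_bounds' (hF : Fintype.card F = q) (r : ℕ) (hr : r.Prime) (d m : ℕ) (hmd : m ≤ d)
    (j : ℕ) (hj : j < m) (hdvd : r ∣ Fintype.card F ^ (2 * d - 2 * j) - 1)
    (i c : ℕ) (hi : i = orderOf (q : ZMod r)) (hc : c = if Even i then i else 2 * i) :
    c ≤ 2 * d + 1 ∧ (2 * d + 1) % c < 2 * m ∧ Even c := by
  rw [hF] at hdvd
  have hq1 : 1 ≤ q := by rw [← hF]; exact Fintype.card_pos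
  have h3 := Cfsg.Agent.Helper13.OrthSS.orderOf_dvd_of_dvd_pow_sub_one hr hq1 hdvd
  rw [← hi] at h3
  have he : 2 * d - 2 * j = 2 * (d - j) := by omega
  rw [he] at h3
  have hcd : c ∣ 2 * (d - j) := by
    rw [hc]
    split_ifs with hev
    · exact h3
    · have hodd : Odd i := Nat.not_even_iff_odd.1 hev
      have h4 : i ∣ d - j := (Nat.Coprime.dvd_of_dvd_mul_left hodd.coprime_two_right h3)
      exact Nat.mul_dvd_mul_left 2 h4
  have hcev : Even c := by
    rw [hc]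
    split_ifs with hev
    · exact hev
    · exact even_two_mul i
  have hpos : 0 < 2 * (d - j) := by omega
  have hle := Nat.le_of_dvd hpos hcd
  refine ⟨by omega, ?_, hcev⟩
  obtain ⟨t, ht⟩ := hcd
  have h2d : 2 * d + 1 = 2 * j + 1 + c * t := by omega
  rw [h2d, Nat.add_mul_mod_self_left]
  have := Nat.mod_le (2 * j + 1) c
  omega

theorem odd_mod_of_even (n c : ℕ) (hc : Even c) : (2 * n + 1) % c % 2 = 1 := by
  obtain ⟨c', rfl⟩ := hc
  have h1 := Nat.div_add_mod (2 * n + 1) (c' + c')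
  have h2 : (c' + c') * ((2 * n + 1) / (c' + c')) = 2 * (c' * ((2 * n + 1) / (c' + c'))) := by
    ring
  rw [h2] at h1
  omega

theorem ts_main (hq : Fintype.card F = q) (hqodd : Odd q)
    (d m : ℕ) (hd : 3 ≤ d) (hm : 1 ≤ m) (hmd : m ≤ d)
    (r : ℕ) [Fact r.Prime]
    (hrΩ : r ∣ Nat.card {W : Submodule F (Unit ⊕ (Fin d ⊕ Fin d) → F) //
      Module.finrank F ↥W = m ∧ (∀ w ∈ W, Cfsg.quadFormOdd d F w = 0)})
    (i c : ℕ) (hi : i = orderOf (q : ZMod r)) (hc : c = if Even i then i else 2 * i) :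
    (∀ x : GL (Unit ⊕ (Fin d ⊕ Fin d)) F, x ∈ Cfsg.Geo.omegaGL (Cfsg.quadFormOdd d F) →
      orderOf x = r →
      ∃ W : Submodule F (Unit ⊕ (Fin d ⊕ Fin d) → F), Module.finrank F ↥W = m ∧
        (∀ w ∈ W, Cfsg.quadFormOdd d F w = 0) ∧
        W.map (Matrix.toLin' (x : Matrix (Unit ⊕ (Fin d ⊕ Fin d)) (Unit ⊕ (Fin d ⊕ Fin d)) F))
          ≤ W) ↔
    ((r = 2 ∧ (m < d ∨ q % 4 = 1)) ∨
     (r ≠ p ∧ 2 < r ∧ i ≤ m ∧ 2 * (m % i) < (2 * d + 1) % c ∧
      (Odd i ∨ (r - 1) / i + 2 * (m / i) ≤ (2 * d + 1) / i))) := by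
  have hr : r.Prime := Fact.out
  have hp : p.Prime := Fact.out
  have h2 : (2 : F) ≠ 0 := by
    intro h2
    obtain ⟨k, hk⟩ := hqodd
    have h1 : ((Fintype.card F : ℕ) : F) = 0 := Nat.cast_card_eq_zero F
    rw [hq, hk] at h1
    push_cast at h1
    rw [h2, zero_mul, zero_add] at h1
    exact one_ne_zero h1
  rw [Cfsg.Agent.Helper2.Orth.quadFormOdd_eq d] at hrΩ ⊢
  set Q := matQ (Cfsg.Agent.Helper2.Orth.oddMat d F) with hQdef
  have hQ : (polarBilin Q).Nondegenerate := Cfsg.Agent.Helper2.Orth.nondeg_odd d h2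
  have hκ : Fintype.card (Unit ⊕ (Fin d ⊕ Fin d)) = 2 * d + 1 := by
    rw [Fintype.card_sum, Fintype.card_sum, Fintype.card_fin, Fintype.card_unit]
    ring
  have hfin : finrank F (Unit ⊕ (Fin d ⊕ Fin d) → F) = 2 * d + 1 := by
    rw [Module.finrank_fintype_fun_eq_card, hκ]
  have hrΩ' : r ∣ Nat.card (TsSub Q m) := hrΩ
  by_cases hrp : r = p
  · exfalso
    subst hrp
    exact not_char_dvd_card_ts r h2 Q hQ d hfin m hmd hrΩ'
  by_cases hr2 : r = 2
  · subst hr2
    rw [two_main Q hq h2 hQ d m hκ (by omega) hmd]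
    constructor
    · intro h
      exact Or.inl ⟨rfl, h⟩
    · rintro (⟨-, h⟩ | ⟨-, h, -⟩)
      · exact h
      · omega
  · obtain ⟨j, hj, hjd⟩ := exists_dvd_of_dvd_card_ts r hr h2 Q hQ d hfin m hmd hrΩ'
    obtain ⟨hcn, hΩ, hcev⟩ := c_bounds' hq r hr d m hmd j hj hjd i c hi hc
    have hr3 : 2 < r := by
      have := hr.two_le
      omega
    have hom := odd_main hq h2 hr hr2 hrp Q hQ d m hκ hm hmd i c hi hc hcn hΩ
    have hoddmod := odd_mod_of_even d c hcev
    simp only [map_le_iff']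
    rw [hom]
    constructor
    · rintro ⟨h1, h3, h4⟩
      exact Or.inr ⟨hrp, hr3, h1, by omega, h4⟩
    · rintro (⟨h, -⟩ | ⟨-, -, h1, h3, h4⟩)
      · exact absurd h hr2
      · exact ⟨h1, by omega, h4⟩

end main

end Cfsg.Agent.Helper13.OrthTs
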