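import Mathlib
import Cfsg.Agent.Lib.Helper13.OrthTs6
import Cfsg.Agent.Lib.Helper13.OrthType6
import Cfsg.Agent.Lib.Helper13.OrthElusive3

set_option autoImplicit false
set_option linter.unusedSectionVars false

/-!
# Semisimple isometries of odd prime order of even-dimensional quadratic spaces: normal form
with types
-/

namespace Cfsg.Agent.Helper13.OrthTy

open Polynomial Module QuadraticMap Matrix Cfsg.Agent.Helper13.SS Cfsg.Agent.Helper13.Dual
  Cfsg.Agent.Helper13.SympSS Cfsg.Agent.Helper13.SpDec Cfsg.Agent.Helper13.SlDec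
  Cfsg.Agent.Helper13.SpTi Cfsg.Agent.Helper13.OrthSS Cfsg.Agent.Helper13
  Cfsg.Agent.Helper13.OrthTs
open scoped Classical

universe u

section conj
variable {F : Type u} [Field F] [Fintype F]

/-- two semisimple isometries of odd order of isometric spaces with the same characteristic
polynomial are conjugate by an isometry -/
theorem exists_conj_iso (M : ℕ) (hM : 1 ≤ M) (hodd : Odd M) (hMF : (M : F) ≠ 0)
    (S : Finset F[X]) (hirr : ∀ f ∈ S, Irreducible f) (hmon : ∀ f ∈ S, f.Monic)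
    {V : Type u} [AddCommGroup V] [Module F V] [FiniteDimensional F V]
    (Q : QuadraticForm F V) (hQ : (polarBilin Q).Nondegenerate)
    (A : Module.End F V) (hAQ : ∀ v, Q (A v) = Q v)
    (hkA : aeval A (∏ f ∈ S, f) = 0)
    {Mo : Type u} [AddCommGroup Mo] [Module F Mo] [FiniteDimensional F Mo]
    (QM : QuadraticForm F Mo) (y : Module.End F Mo) (hyQ : ∀ w, QM (y w) = QM w)
    (hyM : y ^ M = 1) (hky : aeval y (∏ f ∈ S, f) = 0) (hcp : y.charpoly = A.charpoly)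
    (Φ : Mo ≃ₗ[F] V) (hΦ : ∀ w, Q (Φ w) = QM w) :
    ∃ Ψ : Mo ≃ₗ[F] V, (∀ w, Q (Ψ w) = QM w) ∧ ∀ w, Ψ (y w) = A (Ψ w) := by
  obtain ⟨T, hT⟩ := exists_equiv_of_charpoly_eq S hirr hmon y A hky hkA hcp
  set y' : Module.End F V := Φ.conj y with hy'
  have hy'a : ∀ v, y' v = Φ (y (Φ.symm v)) := fun v => rfl
  have hy'Q : ∀ v, Q (y' v) = Q v := by
    intro v
    rw [hy'a, hΦ, hyQ, ← hΦ, Φ.apply_symm_apply]
  have hy'M : y' ^ M = 1 := by
    have h3 : Φ.conj y = Φ.conjRingEquiv y := rfl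
    rw [hy', h3, ← map_pow, hyM, map_one]
  set T' : V ≃ₗ[F] V := Φ.symm.trans T with hT'
  have hT'a : ∀ v, T' (y' v) = A (T' v) := by
    intro v
    show T (Φ.symm (y' v)) = A (T (Φ.symm v))
    rw [hy'a, Φ.symm_apply_apply, hT]
  obtain ⟨g, hgQ, hgc⟩ := exists_isometry_intertwiner Q hQ y' A hy'Q hAQ hM hodd hMF hy'M T' hT'a
  set Ψ : Mo ≃ₗ[F] V := Φ.trans g with hΨ
  have hΨa : ∀ w, Ψ w = g (Φ w) := fun w => rfl
  refine ⟨Ψ, ?_, ?_⟩
  · intro w
    rw [hΨa, hgQ, hΦ]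
  · intro w
    rw [hΨa, hΨa, ← hgc, hy'a, Φ.symm_apply_apply]

end conj

section typed
variable {F : Type u} [Field F] [Fintype F] {p : ℕ} [Fact p.Prime] [CharP F p] {r q : ℕ}

/-- the type of a quadratic space carrying an isometry of odd prime order without fixed
vectors -/
theorem type_of_nofix (hF : Fintype.card F = q) (hr : r.Prime) (hr2 : r ≠ 2) (hrp : r ≠ p)
    {V : Type u} [AddCommGroup V] [Module F V] [FiniteDimensional F V]
    (Q : QuadraticForm F V) (hQ : (polarBilin Q).Nondegenerate)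
    (A : Module.End F V) (hAQ : ∀ v, Q (A v) = Q v) (hAr : A ^ r = 1)
    (k : ↥(cycFactors F r) → ℕ) (hk : ∀ a, k (starΦ hr hr2 hrp a) = k a)
    (hcp : A.charpoly = ∏ a : ↥(cycFactors F r), a.1 ^ k a) :
    IsHyp Q ↔ (Odd (orderOf (q : ZMod r)) ∨ Even (∑ a, k a)) := by
  have hr1 : 1 ≤ r := hr.one_lt.le
  have hrF : (r : F) ≠ 0 := cast_ne_zero_of_prime_ne hr hrp
  have hrodd : Odd r := hr.eq_two_or_odd'.resolve_left hr2
  have hi0 : 0 < orderOf (q : ZMod r) := pos_orderOf hF hr hrp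
  obtain ⟨V', _, _, _, A', Q', hA'r, hQ', hA'Q, hA'c, -, hQt⟩ :=
    qrealT_primeProd hF hr hr2 hrp hi0 k hk
  obtain ⟨e, he⟩ := exists_isometry_of_charpoly Q Q' hQ hQ' A A' hAQ hA'Q hr1 hrodd hrF hAr hA'r
    (hcp.trans hA'c.symm) (by rw [hcp]; exact eval_one_primeProd_ne_zero hr hrp k)
  rw [← hQt]
  exact (isHyp_iff_of_equiv e he).symm

variable {κ : Type} [Fintype κ] [DecidableEq κ]

/-- the normal form of an isometry of odd prime order -/
theorem normal_form (hF : Fintype.card F = q) (hr : r.Prime) (hr2 : r ≠ 2) (hrp : r ≠ p)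
    (Q : QuadraticForm F (κ → F)) (hQ : (polarBilin Q).Nondegenerate)
    (hev : Even (Fintype.card κ))
    (A : Module.End F (κ → F)) (hAQ : ∀ v, Q (A v) = Q v) (hAr : A ^ r = 1)
    (e₀ : ℕ) (k : ↥(cycFactors F r) → ℕ) (hk : ∀ a, k (starΦ hr hr2 hrp a) = k a)
    (hcp : A.charpoly = gPoly r e₀ k) :
    ∃ (V₀ : Type u) (_ : AddCommGroup V₀) (_ : Module F V₀) (_ : FiniteDimensional F V₀)
      (A₀ : Module.End F V₀) (Q₀ : QuadraticForm F V₀)
      (U : Type u) (_ : AddCommGroup U) (_ : Module F U) (_ : FiniteDimensional F U)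
      (QU : QuadraticForm F U) (Ψ : (V₀ × U) ≃ₗ[F] (κ → F)),
      (∀ v, A₀ v = v → v = 0) ∧ (polarBilin QU).Nondegenerate ∧ finrank F U = e₀ ∧
      (IsHyp QU ↔ (IsHyp Q ↔ (Odd (orderOf (q : ZMod r)) ∨ Even (∑ a, k a)))) ∧
      (∀ z, Q (Ψ z) = Q₀ z.1 + QU z.2) ∧ ∀ z, Ψ (A₀ z.1, z.2) = A (Ψ z) := by
  have hr1 : 1 ≤ r := hr.one_lt.le
  have hrF : (r : F) ≠ 0 := cast_ne_zero_of_prime_ne hr hrp
  have hrodd : Odd r := hr.eq_two_or_odd'.resolve_left hr2
  have hi0 : 0 < orderOf (q : ZMod r) := pos_orderOf hF hr hrp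
  set S := insert (X - 1 : F[X]) (cycFactors F r) with hS
  have hirr : ∀ f ∈ S, Irreducible f := fun f hf => insert_irreducible hf
  have e1 : (X - 1 : F[X]) = X - C 1 := by rw [map_one]
  have hmon : ∀ f ∈ S, f.Monic := by
    intro f hf
    rcases Finset.mem_insert.1 hf with rfl | hf
    · rw [e1]
      exact monic_X_sub_C 1
    · exact cycFactors_monic hf
  have hkill : ∀ {U : Type u} [AddCommGroup U] [Module F U] (C : Module.End F U),
      C ^ r = 1 → aeval C (∏ f ∈ S, f) = 0 := by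
    intro U _ _ C hC
    rw [hS, X_sub_one_mul_prod hr hrp, map_sub, map_pow, aeval_X, map_one, hC, sub_self]
  have hcard : Fintype.card κ = e₀ + orderOf (q : ZMod r) * ∑ a, k a := by
    rw [← finrank_of_gPoly hF hr hrp A hAr e₀ k hcp, Module.finrank_fintype_fun_eq_card]
  have hevk := even_mul_sum hF hr hr2 hrp k hk
  have heve₀ : Even e₀ := by
    have h1 : e₀ = Fintype.card κ - orderOf (q : ZMod r) * ∑ a, k a := by omega
    rw [h1, Nat.even_sub (by omega)]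
    exact iff_of_true hev hevk
  -- the type condition when there are no fixed vectors
  have htype0 : e₀ = 0 → (IsHyp Q ↔ (Odd (orderOf (q : ZMod r)) ∨ Even (∑ a, k a))) := by
    intro h0
    rw [h0, gPoly_zero_left] at hcp
    exact type_of_nofix hF hr hr2 hrp Q hQ A hAQ hAr k hk hcp
  obtain ⟨V₀, i1, i2, i3, A₀, Q₀, hA₀r, hQ₀, hA₀Q, hA₀c, hV₀ev, hQ₀t⟩ :=
    qrealT_primeProd hF hr hr2 hrp hi0 k hk
  obtain ⟨U, j1, j2, j3, QU, hQU, hUfin, hUt⟩ := exists_space_of_type (F := F) e₀ heve₀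
    (IsHyp Q ↔ (Odd (orderOf (q : ZMod r)) ∨ Even (∑ a, k a))) htype0
  have hV₀fin : finrank F V₀ = orderOf (q : ZMod r) * ∑ a, k a := by
    rw [← LinearMap.charpoly_natDegree A₀, hA₀c, natDegree_primeProd hF hr hrp]
  set QM : QuadraticForm F (V₀ × U) := QuadraticMap.prod Q₀ QU with hQM
  have hQMnd : (polarBilin QM).Nondegenerate := nondeg_prod Q₀ QU hQ₀ hQU
  have hdim : finrank F (V₀ × U) = finrank F (κ → F) := by
    rw [Module.finrank_prod, Module.finrank_fintype_fun_eq_card, hV₀fin, hUfin, hcard]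
    ring
  have htyp : IsHyp QM ↔ IsHyp Q := by
    rw [hQM, isHyp_prod_iff Q₀ QU hQ₀ hQU hV₀ev (hUfin ▸ heve₀), hQ₀t, hUt]
    tauto
  obtain ⟨Φ, hΦ⟩ := equiv_of_type QM Q hQMnd hQ hdim
    (by rw [hdim, Module.finrank_fintype_fun_eq_card]; exact hev) htyp
  set y : Module.End F (V₀ × U) := A₀.prodMap (1 : Module.End F U) with hy
  have hyQ : ∀ z, QM (y z) = QM z := by
    rintro ⟨a, b⟩
    show QuadraticMap.prod Q₀ QU (A₀ a, b) = QuadraticMap.prod Q₀ QU (a, b)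
    rw [QuadraticMap.prod_apply, QuadraticMap.prod_apply, hA₀Q]
  have hyM : y ^ r = 1 := by
    rw [hy, prodMap_pow, hA₀r, one_pow, prodMap_one_one]
  have hycp : y.charpoly = A.charpoly := by
    rw [hy, LinearMap.charpoly_prodMap, hA₀c, LinearMap.charpoly_one, hUfin, hcp, mul_comm]
    rfl
  obtain ⟨Ψ, hΨQ, hΨc⟩ := exists_conj_iso r hr1 hrodd hrF S hirr hmon Q hQ A hAQ (hkill A hAr)
    QM y hyQ hyM (hkill y hyM) hycp Φ hΦ
  have hnofix : ∀ v, A₀ v = v → v = 0 := by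
    intro v hv
    by_contra hv0
    have h2 : A₀.HasEigenvalue 1 := by
      apply Module.End.hasEigenvalue_of_hasEigenvector (x := v)
      refine ⟨?_, hv0⟩
      rw [Module.End.mem_eigenspace_iff, one_smul]
      exact hv
    have h3 := (Module.End.hasEigenvalue_iff_isRoot_charpoly A₀ 1).1 h2
    rw [hA₀c] at h3
    exact eval_one_primeProd_ne_zero hr hrp k h3
  refine ⟨V₀, i1, i2, i3, A₀, Q₀, U, j1, j2, j3, QU, Ψ, hnofix, hQU, hUfin, hUt, ?_, ?_⟩
  · rintro ⟨a, b⟩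
    rw [hΨQ, hQM, QuadraticMap.prod_apply]
  · rintro ⟨a, b⟩
    exact hΨc (a, b)

/-- totally singular subspaces of the fixed space are small -/
theorem fixed_ts_bound (hF : Fintype.card F = q) (hr : r.Prime) (hr2 : r ≠ 2) (hrp : r ≠ p)
    (Q : QuadraticForm F (κ → F)) (hQ : (polarBilin Q).Nondegenerate)
    (hev : Even (Fintype.card κ))
    (A : Module.End F (κ → F)) (hAQ : ∀ v, Q (A v) = Q v) (hAr : A ^ r = 1)
    (e₀ : ℕ) (k : ↥(cycFactors F r) → ℕ) (hk : ∀ a, k (starΦ hr hr2 hrp a) = k a)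
    (hcp : A.charpoly = gPoly r e₀ k)
    (W₁ : Submodule F (κ → F)) (hW₁fix : ∀ w ∈ W₁, A w = w) (hW₁ : ∀ w ∈ W₁, Q w = 0) :
    2 * finrank F W₁ ≤ e₀ ∧
      (¬ (IsHyp Q ↔ (Odd (orderOf (q : ZMod r)) ∨ Even (∑ a, k a))) →
        2 * finrank F W₁ + 2 ≤ e₀) := by
  obtain ⟨V₀, _, _, _, A₀, Q₀, U, _, _, _, QU, Ψ, hnofix, hQU, hUfin, hUt, hΨQ, hΨc⟩ :=
    normal_form hF hr hr2 hrp Q hQ hev A hAQ hAr e₀ k hk hcp
  have hevk := even_mul_sum hF hr hr2 hrp k hk
  have hcard : Fintype.card κ = e₀ + orderOf (q : ZMod r) * ∑ a, k a := by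
    rw [← finrank_of_gPoly hF hr hrp A hAr e₀ k hcp, Module.finrank_fintype_fun_eq_card]
  have heve₀ : Even e₀ := by
    have h1 : e₀ = Fintype.card κ - orderOf (q : ZMod r) * ∑ a, k a := by omega
    rw [h1, Nat.even_sub (by omega)]
    exact iff_of_true hev hevk
  -- the projection to `U`
  set L : W₁ →ₗ[F] U := LinearMap.snd F V₀ U ∘ₗ Ψ.symm.toLinearMap ∘ₗ W₁.subtype with hL
  have hLa : ∀ w : W₁, L w = (Ψ.symm (w : κ → F)).2 := fun w => rfl
  have hfst : ∀ w : W₁, (Ψ.symm (w : κ → F)).1 = 0 := by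
    intro w
    apply hnofix
    have h1 := hΨc (Ψ.symm (w : κ → F))
    rw [Ψ.apply_symm_apply, hW₁fix w w.2] at h1
    have h2 := congrArg (fun z => (Ψ.symm z).1) h1
    simp only [Ψ.symm_apply_apply] at h2
    exact h2
  have hLinj : Function.Injective L := by
    rw [← LinearMap.ker_eq_bot, LinearMap.ker_eq_bot']
    intro w hw
    rw [hLa] at hw
    have h1 : Ψ.symm (w : κ → F) = 0 := Prod.ext (hfst w) hw
    rw [LinearEquiv.map_eq_zero_iff] at h1
    exact Subtype.ext h1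
  have hLts : ∀ u ∈ LinearMap.range L, QU u = 0 := by
    rintro _ ⟨w, rfl⟩
    have h1 := hΨQ (Ψ.symm (w : κ → F))
    rw [Ψ.apply_symm_apply, hW₁ w w.2, hfst w, map_zero, zero_add] at h1
    rw [hLa, ← h1]
  have hfr : finrank F (LinearMap.range L) = finrank F W₁ :=
    LinearMap.finrank_range_of_inj hLinj
  have h1 := Cfsg.Agent.Helper13.OrthEl.two_mul_finrank_le_of_ts QU hQU (LinearMap.range L) hLts
  rw [hfr, hUfin] at h1
  refine ⟨h1, ?_⟩
  intro hnt
  have hnh : ¬ IsHyp QU := fun h => hnt (hUt.1 h)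
  have h2 : 2 * finrank F W₁ ≠ e₀ := by
    intro h
    apply hnh
    exact ⟨LinearMap.range L, hLts, by rw [hfr, hUfin, h]⟩
  obtain ⟨t, ht⟩ := heve₀
  omega

end typed

end Cfsg.Agent.Helper13.OrthTy
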