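import Mathlib
import Cfsg.Agent.Lib.Helper13.OrthTy1

set_option autoImplicit false
set_option linter.unusedSectionVars false

/-!
# Invariant totally singular subspaces of isometries of odd prime order in even dimension
-/

namespace Cfsg.Agent.Helper13.OrthTy

open Polynomial Module QuadraticMap Matrix Cfsg.Agent.Helper13.SS Cfsg.Agent.Helper13.Dual
  Cfsg.Agent.Helper13.SympSS Cfsg.Agent.Helper13.SpDec Cfsg.Agent.Helper13.SlDec
  Cfsg.Agent.Helper13.SpTi Cfsg.Agent.Helper13.OrthSS Cfsg.Agent.Helper13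
  Cfsg.Agent.Helper13.OrthTs
open scoped Classical

universe u

theorem iff_iff_iff (P H : Prop) : (P ↔ (H ↔ P)) ↔ H := by tauto

section typed
variable {F : Type u} [Field F] [Fintype F] {p : ℕ} [Fact p.Prime] [CharP F p] {r q : ℕ}
  {κ : Type} [Fintype κ] [DecidableEq κ]

/-- the shape of an invariant totally singular subspace, with the type of the fixed space -/
theorem pattern_of_ts_typed (hF : Fintype.card F = q) (hr : r.Prime) (hr2 : r ≠ 2)
    (hrp : r ≠ p) (Q : QuadraticForm F (κ → F)) (hQ : (polarBilin Q).Nondegenerate)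
    (hev : Even (Fintype.card κ))
    (A : Module.End F (κ → F)) (hAQ : ∀ v, Q (A v) = Q v) (hAr : A ^ r = 1)
    (e₀ : ℕ) (k : ↥(cycFactors F r) → ℕ) (hk : ∀ a, k (starΦ hr hr2 hrp a) = k a)
    (hcp : A.charpoly = gPoly r e₀ k)
    (W : Submodule F (κ → F)) (hWinv : ∀ v ∈ W, A v ∈ W) (hW : ∀ w ∈ W, Q w = 0) :
    ∃ (e : ℕ) (j : ↥(cycFactors F r) → ℕ),
      finrank F W = e + orderOf (q : ZMod r) * ∑ a, j a ∧ 2 * e ≤ e₀ ∧
      (¬ (IsHyp Q ↔ (Odd (orderOf (q : ZMod r)) ∨ Even (∑ a, k a))) → 2 * e + 2 ≤ e₀) ∧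
      ∀ a, j a + j (starΦ hr hr2 hrp a) ≤ k a := by
  have hr1 : 1 ≤ r := hr.one_lt.le
  have hrF : (r : F) ≠ 0 := cast_ne_zero_of_prime_ne hr hrp
  set B := polarBilin Q with hB
  have hnd : ∀ u, (∀ v, B u v = 0) → u = 0 := fun u hu => hQ.1 u hu
  have hinv : ∀ u v, B (A u) (A v) = B u v := fun u v =>
    Cfsg.Agent.Helper28.WittQuad.polar_of_isom (Q := Q) hAQ u v
  have hWB : ∀ u ∈ W, ∀ v ∈ W, B u v = 0 := by
    intro u hu v hv
    show polar Q u v = 0
    unfold polar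
    rw [hW _ (W.add_mem hu hv), hW u hu, hW v hv]
    simp
  obtain ⟨hfixA, hkA⟩ := kdim_of_gPoly hF hr hrp A hAr _ k hcp
  set A' := A.restrict hWinv with hA'
  have hA'r : A' ^ r = 1 := restrict_pow_eq_one A hAr W hWinv
  obtain ⟨j, hfin, hcp'⟩ := struct_gl hF hr hrp A' hA'r
  obtain ⟨-, hkA'⟩ := kdim_of_gPoly hF hr hrp A' hA'r _ j hcp'
  have hi0 : 0 < orderOf (q : ZMod r) := pos_orderOf hF hr hrp
  -- the fixed part of `W`
  set K₁ : Submodule F W := (LinearMap.ker (aeval A (X - 1 : F[X]))).comap W.subtype with hK₁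
  set W₁ : Submodule F (κ → F) := K₁.map W.subtype with hW₁
  have hW₁fin : finrank F W₁ = kdim A' (X - 1) := by
    rw [hW₁, Submodule.finrank_map_subtype_eq]
    unfold kdim
    rw [ker_aeval_restrict]
  have hW₁fix : ∀ w ∈ W₁, A w = w := by
    rintro _ ⟨x, hx, rfl⟩
    have h1 : aeval A (X - 1 : F[X]) (x : κ → F) = 0 := LinearMap.mem_ker.1 hx
    rw [map_sub, aeval_X, map_one, LinearMap.sub_apply, Module.End.one_apply, sub_eq_zero] at h1
    exact h1
  have hW₁ts : ∀ w ∈ W₁, Q w = 0 := by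
    rintro _ ⟨x, -, rfl⟩
    exact hW _ x.2
  obtain ⟨hb1, hb2⟩ := fixed_ts_bound hF hr hr2 hrp Q hQ hev A hAQ hAr e₀ k hk hcp W₁ hW₁fix
    hW₁ts
  rw [hW₁fin] at hb1 hb2
  refine ⟨kdim A' (X - 1), j, hfin, hb1, hb2, ?_⟩
  intro a
  have h1 := ti_kdim_le' hr1 hrF hAr hnd hinv (cycFactors_irreducible (starΦ hr hr2 hrp a).2)
    (cycFactors_dvd_X_pow (starΦ hr hr2 hrp a).2) W hWinv hWB
  have h2 : dualPoly r (starΦ hr hr2 hrp a).1 = a.1 :=
    congrArg Subtype.val (starΦ_involutive (F := F) hr hr2 hrp a)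
  rw [h2, ← hA', hkA, hkA' a, hkA' (starΦ hr hr2 hrp a), ← mul_add] at h1
  have := Nat.le_of_mul_le_mul_left h1 hi0
  omega

/-- sufficiency: an isometry of order `r` fixes a totally singular subspace of each
admissible shape -/
theorem exists_ts_of_pattern_typed (hF : Fintype.card F = q) (hr : r.Prime) (hr2 : r ≠ 2)
    (hrp : r ≠ p) (Q : QuadraticForm F (κ → F)) (hQ : (polarBilin Q).Nondegenerate)
    (hev : Even (Fintype.card κ))
    (A : Module.End F (κ → F)) (hAQ : ∀ v, Q (A v) = Q v) (hAr : A ^ r = 1)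
    (e₀ : ℕ) (k : ↥(cycFactors F r) → ℕ) (hk : ∀ a, k (starΦ hr hr2 hrp a) = k a)
    (hcp : A.charpoly = gPoly r e₀ k)
    (m e : ℕ) (j : ↥(cycFactors F r) → ℕ)
    (hmj : m = e + orderOf (q : ZMod r) * ∑ a, j a) (hfix : 2 * e ≤ e₀)
    (hfix' : ¬ (IsHyp Q ↔ (Odd (orderOf (q : ZMod r)) ∨ Even (∑ a, k a))) → 2 * e + 2 ≤ e₀)
    (hjk : ∀ a, j a + j (starΦ hr hr2 hrp a) ≤ k a) :
    ∃ W : Submodule F (κ → F), finrank F W = m ∧ (∀ w ∈ W, Q w = 0) ∧ ∀ v ∈ W, A v ∈ W := by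
  have hr1 : 1 ≤ r := hr.one_lt.le
  have hrF : (r : F) ≠ 0 := cast_ne_zero_of_prime_ne hr hrp
  have hrodd : Odd r := hr.eq_two_or_odd'.resolve_left hr2
  have hi0 : 0 < orderOf (q : ZMod r) := pos_orderOf hF hr hrp
  have hinv := starΦ_involutive (F := F) hr hr2 hrp
  set S := insert (X - 1 : F[X]) (cycFactors F r) with hS
  have hirr : ∀ f ∈ S, Irreducible f := fun f hf => insert_irreducible hf
  have e1 : (X - 1 : F[X]) = X - C 1 := by rw [map_one]
  have hmon : ∀ f ∈ S, f.Monic := by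
    intro f hf
    rcases Finset.mem_insert.1 hf with rfl | hf
    · rw [e1]
      exact monic_X_sub_C 1
    · exact cycFactors_monic hf
  have hkill : ∀ {U : Type u} [AddCommGroup U] [Module F U] (C : Module.End F U),
      C ^ r = 1 → aeval C (∏ f ∈ S, f) = 0 := by
    intro U _ _ C hC
    rw [hS, X_sub_one_mul_prod hr hrp, map_sub, map_pow, aeval_X, map_one, hC, sub_self]
  have hcard : Fintype.card κ = e₀ + orderOf (q : ZMod r) * ∑ a, k a := by
    rw [← finrank_of_gPoly hF hr hrp A hAr e₀ k hcp, Module.finrank_fintype_fun_eq_card]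
  have hevk := even_mul_sum hF hr hr2 hrp k hk
  have heve₀ : Even e₀ := by
    have h1 : e₀ = Fintype.card κ - orderOf (q : ZMod r) * ∑ a, k a := by omega
    rw [h1, Nat.even_sub (by omega)]
    exact iff_of_true hev hevk
  -- the linear part
  have hjm : orderOf (q : ZMod r) * ∑ a, j a ≤ m := by omega
  obtain ⟨g, hg, -, hgcp⟩ := exists_gl_elt hF hr hrp m j hjm
  have he : m - orderOf (q : ZMod r) * ∑ a, j a = e := by omega
  rw [he] at hgcp
  have hgcp' := charpoly_pow_pred hF hr hr2 hrp g hg e j hgcp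
  set G : Matrix (Fin m) (Fin m) F := LinearMap.toMatrix' g with hG
  set G' : Matrix (Fin m) (Fin m) F := LinearMap.toMatrix' (g ^ (r - 1)) with hG'
  have hGG' : G' * G = 1 := by
    rw [hG, hG', ← LinearMap.toMatrix'_mul, ← pow_succ, Nat.sub_add_cancel hr1, hg,
      LinearMap.toMatrix'_one]
  have hGr : G ^ r = 1 := by
    rw [hG, ← toMatrix'_pow, hg, LinearMap.toMatrix'_one]
  have hG'r : G' ^ r = 1 := by
    rw [hG', ← toMatrix'_pow, ← pow_mul, mul_comm, pow_mul, hg, one_pow,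
      LinearMap.toMatrix'_one]
  have hGc : G.charpoly = gPoly r e j := by
    rw [← hgcp]
    exact LinearMap.charpoly_toMatrix g (Pi.basisFun F (Fin m))
  have hG'c : G'.charpoly = gPoly r e (fun a => j (starΦ hr hr2 hrp a)) := by
    rw [← hgcp']
    exact LinearMap.charpoly_toMatrix (g ^ (r - 1)) (Pi.basisFun F (Fin m))
  -- the remaining part
  set k₀ : ↥(cycFactors F r) → ℕ := fun a => k a - j a - j (starΦ hr hr2 hrp a) with hk₀
  have hk₀a : ∀ a, k₀ a + j a + j (starΦ hr hr2 hrp a) = k a := by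
    intro a
    have := hjk a
    show k a - j a - j (starΦ hr hr2 hrp a) + j a + j (starΦ hr hr2 hrp a) = k a
    omega
  have hk₀s : ∀ a, k₀ (starΦ hr hr2 hrp a) = k₀ a := by
    intro a
    show k (starΦ hr hr2 hrp a) - j (starΦ hr hr2 hrp a)
        - j (starΦ hr hr2 hrp (starΦ hr hr2 hrp a)) = k a - j a - j (starΦ hr hr2 hrp a)
    rw [hinv a, hk a]
    omega
  have hsumstar : ∑ a, j (starΦ hr hr2 hrp a) = ∑ a, j a :=
    Function.Bijective.sum_comp hinv.bijective j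
  have hsumk : ∑ a, k₀ a + ∑ a, j a + ∑ a, j a = ∑ a, k a := by
    have h1 : ∑ a, k a = ∑ a, (k₀ a + j a + j (starΦ hr hr2 hrp a)) :=
      Finset.sum_congr rfl (fun a _ => (hk₀a a).symm)
    rw [h1, Finset.sum_add_distrib, Finset.sum_add_distrib, hsumstar]
  have hpar : Even (∑ a, k₀ a) ↔ Even (∑ a, k a) := by
    have hjj : Even (∑ a, j a + ∑ a, j a) := ⟨_, rfl⟩
    rw [← hsumk, add_assoc, Nat.even_add]
    exact ⟨fun h => iff_of_true h hjj, fun h => h.2 hjj⟩
  have hmul : orderOf (q : ZMod r) * ∑ a, k₀ a + 2 * (orderOf (q : ZMod r) * ∑ a, j a)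
      = orderOf (q : ZMod r) * ∑ a, k a := by
    rw [← hsumk]
    ring
  obtain ⟨V₀, _, _, _, A₀, Q₀, hA₀r, hQ₀, hA₀Q, hA₀c, hV₀ev, hQ₀t⟩ :=
    qrealT_primeProd hF hr hr2 hrp hi0 k₀ hk₀s
  have hV₀fin : finrank F V₀ = orderOf (q : ZMod r) * ∑ a, k₀ a := by
    rw [← LinearMap.charpoly_natDegree A₀, hA₀c, natDegree_primeProd hF hr hrp]
  -- the filler
  obtain ⟨uu, huu⟩ : ∃ uu, uu = e₀ - 2 * e := ⟨_, rfl⟩
  have huuev : Even uu := by
    rw [huu, Nat.even_sub hfix]
    exact iff_of_true heve₀ ⟨e, by ring⟩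
  obtain ⟨U, _, _, _, QU, hQU, hUfin, hUt⟩ := exists_space_of_type (F := F) uu huuev
    (IsHyp Q ↔ (Odd (orderOf (q : ZMod r)) ∨ Even (∑ a, k a)))
    (by
      intro h0
      by_contra hnt
      have := hfix' hnt
      omega)
  -- the model
  set Q' : QuadraticForm F (((Fin m → F) × (Fin m → F)) × V₀) :=
    QuadraticMap.prod (hypQ (Fin m) F) Q₀ with hQ'
  have hQ'nd : (polarBilin Q').Nondegenerate := nondeg_prod _ _ hypQ_nondeg hQ₀
  have hHfin : finrank F ((Fin m → F) × (Fin m → F)) = 2 * m := by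
    rw [Module.finrank_prod, Module.finrank_fintype_fun_eq_card, Fintype.card_fin]
    ring
  have hV'fin : finrank F (((Fin m → F) × (Fin m → F)) × V₀) =
      2 * m + orderOf (q : ZMod r) * ∑ a, k₀ a := by
    rw [Module.finrank_prod, hHfin, hV₀fin]
  have hhyp : IsHyp (hypQ (Fin m) F) := by
    refine ⟨LinearMap.range (LinearMap.inl F (Fin m → F) (Fin m → F)), ?_, ?_⟩
    · rintro _ ⟨a, rfl⟩
      rw [hypQ_apply]
      simp
    · rw [LinearMap.finrank_range_of_inj LinearMap.inl_injective,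
        Module.finrank_fintype_fun_eq_card, Fintype.card_fin, hHfin]
  have hQ't : IsHyp Q' ↔ (Odd (orderOf (q : ZMod r)) ∨ Even (∑ a, k a)) := by
    rw [hQ', isHyp_prod_iff _ _ hypQ_nondeg hQ₀ (hHfin ▸ ⟨m, by ring⟩) hV₀ev, hQ₀t, hpar]
    exact ⟨fun h => h.1 hhyp, fun h => iff_of_true hhyp h⟩
  set QM : QuadraticForm F ((((Fin m → F) × (Fin m → F)) × V₀) × U) :=
    QuadraticMap.prod Q' QU with hQM
  have hQMnd : (polarBilin QM).Nondegenerate := nondeg_prod _ _ hQ'nd hQU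
  have hdim : finrank F ((((Fin m → F) × (Fin m → F)) × V₀) × U) = finrank F (κ → F) := by
    rw [Module.finrank_prod, hV'fin, hUfin, Module.finrank_fintype_fun_eq_card, hcard]
    omega
  have hV'ev : Even (finrank F (((Fin m → F) × (Fin m → F)) × V₀)) := by
    rw [Module.finrank_prod, hHfin]
    exact Even.add ⟨m, by ring⟩ hV₀ev
  have htyp : IsHyp QM ↔ IsHyp Q := by
    have h1 := isHyp_prod_iff Q' QU hQ'nd hQU hV'ev (hUfin ▸ huuev)
    rw [hQ't, hUt] at h1
    exact h1.trans (iff_iff_iff _ _)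
  obtain ⟨Φ, hΦ⟩ := equiv_of_type QM Q hQMnd hQ hdim
    (by rw [hdim, Module.finrank_fintype_fun_eq_card]; exact hev) htyp
  set y : Module.End F ((((Fin m → F) × (Fin m → F)) × V₀) × U) :=
    ((hypMap G G').prodMap A₀).prodMap (1 : Module.End F U) with hy
  have hyQ : ∀ z, QM (y z) = QM z := by
    rintro ⟨⟨a, b⟩, c⟩
    show (QuadraticMap.prod (QuadraticMap.prod (hypQ (Fin m) F) Q₀) QU)
        ((hypMap G G' a, A₀ b), c) =
      (QuadraticMap.prod (QuadraticMap.prod (hypQ (Fin m) F) Q₀) QU) ((a, b), c)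
    simp only [QuadraticMap.prod_apply]
    rw [hypMap_isom G G' hGG', hA₀Q]
  have hyM : y ^ r = 1 := by
    rw [hy, prodMap_pow, prodMap_pow, hypMap_pow, hGr, hG'r, hypMap_one, hA₀r, one_pow,
      prodMap_one_one, prodMap_one_one]
  have hycp : y.charpoly = A.charpoly := by
    rw [hy, LinearMap.charpoly_prodMap, LinearMap.charpoly_prodMap, hypMap_charpoly, hGc, hG'c,
      hA₀c, LinearMap.charpoly_one, hUfin, hcp,
      ← gPoly_zero_left, ← gPoly_zero_right (F := F) (r := r) uu, gPoly_mul, gPoly_mul,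
      gPoly_mul]
    congr 1
    · omega
    · funext a
      have := hk₀a a
      omega
  set L : (Fin m → F) →ₗ[F] ((((Fin m → F) × (Fin m → F)) × V₀) × U) :=
    LinearMap.inl F _ U ∘ₗ inlMap (Fin m) F V₀ with hL
  have hLa : ∀ a, L a = (((a, 0), 0), 0) := fun a => rfl
  have hLinj : Function.Injective L := by
    intro a b h
    rw [hLa, hLa] at h
    exact congrArg (fun z => z.1.1.1) h
  obtain ⟨W, hWdim, hWts, hWinv⟩ := exists_ts_of_conj r hr1 hrodd hrF S hirr hmon Q hQ A hAQ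
    (hkill A hAr) QM y hyQ hyM (hkill y hyM) hycp Φ hΦ
    (LinearMap.range L)
    (by
      rintro _ ⟨a, rfl⟩
      rw [hLa, hQM, QuadraticMap.prod_apply, hQ', QuadraticMap.prod_apply, hypQ_apply]
      simp)
    (by
      rintro _ ⟨a, rfl⟩
      refine ⟨G.mulVec a, ?_⟩
      rw [hLa, hLa, hy]
      show _ = ((hypMap G G' (a, 0), A₀ 0), (1 : Module.End F U) 0)
      rw [hypMap_apply]
      simp)
  refine ⟨W, ?_, hWts, hWinv⟩
  rw [hWdim, LinearMap.finrank_range_of_inj hLinj, Module.finrank_fintype_fun_eq_card,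
    Fintype.card_fin]

end typed

end Cfsg.Agent.Helper13.OrthTy
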