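import Mathlib
import Cfsg.Agent.Lib.Helper13.SpTi4

set_option autoImplicit false
set_option linter.unusedSectionVars false

/-!
# The combinatorics of multiplicity patterns and totally singular shapes, with types
-/

namespace Cfsg.Agent.Helper13.OrthTy

open Cfsg.Agent.Helper13.SympSS Cfsg.Agent.Helper13.SpDec Cfsg.Agent.Helper13.SpTi
open scoped Classical

section arith

theorem mul_succ_le' {i a b : ℕ} (h : a + 1 ≤ b) : i * a + i ≤ i * b := by
  calc i * a + i = i * (a + 1) := by ring
    _ ≤ i * b := Nat.mul_le_mul_left i h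

theorem mul_add_two_le' {i a b : ℕ} (h : a + 2 ≤ b) : i * a + 2 * i ≤ i * b := by
  calc i * a + 2 * i = i * (a + 2) := by ring
    _ ≤ i * b := Nat.mul_le_mul_left i h

theorem mod_even_of_even {n i : ℕ} (hn : Even n) (hi : Even i) : (n % i) % 2 = 0 := by
  obtain ⟨i₂, rfl⟩ := hi
  obtain ⟨n₂, rfl⟩ := hn
  have h1 := Nat.div_add_mod (n₂ + n₂) (i₂ + i₂)
  have h2 : (i₂ + i₂) * ((n₂ + n₂) / (i₂ + i₂)) = 2 * (i₂ * ((n₂ + n₂) / (i₂ + i₂))) := by ring
  rw [h2] at h1
  omega

end arith

section comb
variable {I : Type*} [Fintype I]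

/-- a pattern admits a totally singular shape of dimension `m`; `τ` says that the fixed space
is hyperbolic -/
def TFits (σ : I → I) (i n m : ℕ) (τ : Prop) (k : I → ℕ) : Prop :=
  ∃ (e : ℕ) (j : I → ℕ), m = e + i * ∑ a, j a ∧ 2 * e + i * ∑ a, k a ≤ n ∧
    (¬ τ → 2 * e + 2 + i * ∑ a, k a ≤ n) ∧ ∀ a, j a + j (σ a) ≤ k a

/-- sufficiency, self-dual factors -/
theorem tfits_of_cond_even (i n m b : ℕ) (hb : b ≤ 1) (hi2 : 2 ≤ i) (hie : Even i)
    (hne : Even n)
    (h1 : Fintype.card I + 2 * (m / i) ≤ n / i)
    (h2 : (2 * (m % i) ≤ i ∧ n % i = 0 ∧ (n / i) % 2 ≠ b ∧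
            Fintype.card I + 2 * (m / i) < n / i) ∨
          (2 * (m % i) ≤ n % i ∧ (n / i) % 2 = b) ∨
          (2 * (m % i) < n % i ∧ (n / i) % 2 ≠ b))
    (k : I → ℕ) (hkn : i * ∑ a, k a ≤ n)
    (hkt : i * ∑ a, k a = n → (∑ a, k a) % 2 = b) :
    TFits id i n m ((∑ a, k a) % 2 = b) k := by
  have hi : 0 < i := by omega
  set s := ∑ a, k a with hs
  set Jmax := ∑ a, k a / 2 with hJmax
  set o := ∑ a, k a % 2 with ho
  have hso : s = 2 * Jmax + o := by
    rw [hs, hJmax, ho, Finset.mul_sum, ← Finset.sum_add_distrib]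
    apply Finset.sum_congr rfl
    intro a _
    exact (Nat.div_add_mod (k a) 2).symm
  have hot : o ≤ Fintype.card I := by
    rw [ho]
    calc ∑ a, k a % 2 ≤ ∑ _a : I, 1 :=
          Finset.sum_le_sum (fun a _ => by have := Nat.mod_lt (k a) (by omega : 0 < 2); omega)
      _ = Fintype.card I := by rw [Finset.sum_const, Finset.card_univ, smul_eq_mul, mul_one]
  obtain ⟨j, hj1, -, hj3⟩ := exists_le_sum Finset.univ (fun a => k a / 2)
    (min (m / i) Jmax) (min_le_right _ _)
  have hdm : i * (m / i) + m % i = m := Nat.div_add_mod m i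
  have hdn : i * (n / i) + n % i = n := Nat.div_add_mod n i
  have hli : m % i < i := Nat.mod_lt _ hi
  have hki : n % i < i := Nat.mod_lt _ hi
  have hkev : (n % i) % 2 = 0 := mod_even_of_even hne hie
  have hsn : s ≤ n / i := by
    rw [Nat.le_div_iff_mul_le hi, mul_comm]
    exact hkn
  have hiso : i * s = 2 * (i * Jmax) + i * o := by
    rw [hso]
    ring
  set t := Fintype.card I with ht
  -- the key inequality
  have key : ∀ T : ℕ, (T = 0 ∨ (T = 2 ∧ s % 2 ≠ b)) →
      2 * (m - i * min (m / i) Jmax) + T + i * s ≤ n := by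
    intro T hT
    rcases le_total (m / i) Jmax with hcase | hcase
    · rw [min_eq_left hcase]
      rcases Nat.eq_or_lt_of_le hsn with hsn' | hsn'
      · -- `s = n / i`
        rw [hsn']
        rw [hsn'] at hkt hT
        rcases h2 with ⟨ha1, ha2, ha3, ha4⟩ | ⟨hb1, hb2⟩ | ⟨hc1, hc2⟩
        · exact absurd (hkt (by omega)) ha3
        · rcases hT with rfl | ⟨rfl, hT2⟩
          · omega
          · exact absurd hb2 hT2
        · rcases hT with rfl | ⟨rfl, hT2⟩ <;> omega
      · have h3 := mul_succ_le' (i := i) hsn'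
        rcases h2 with ⟨ha1, ha2, ha3, ha4⟩ | ⟨hb1, hb2⟩ | ⟨hc1, hc2⟩
        · rcases hT with rfl | ⟨rfl, hT2⟩
          · omega
          · have h4 : s + 2 ≤ n / i := by omega
            have h5 := mul_add_two_le' (i := i) h4
            omega
        · rcases hT with rfl | ⟨rfl, hT2⟩ <;> omega
        · rcases hT with rfl | ⟨rfl, hT2⟩ <;> omega
    · rw [min_eq_right hcase]
      have h3 : i * Jmax ≤ i * (m / i) := Nat.mul_le_mul_left i hcase
      have hu : 2 * (m / i) + o ≤ n / i := by omega
      have hiu : i * (2 * (m / i) + o) = 2 * (i * (m / i)) + i * o := by ring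
      have hpar : s % 2 = o % 2 := by omega
      rcases Nat.eq_or_lt_of_le hu with hu' | hu'
      · -- `2 m' + o = n'`
        have h4 : i * (n / i) = 2 * (i * (m / i)) + i * o := by rw [← hu', hiu]
        rcases h2 with ⟨ha1, ha2, ha3, ha4⟩ | ⟨hb1, hb2⟩ | ⟨hc1, hc2⟩
        · omega
        · rcases hT with rfl | ⟨rfl, hT2⟩
          · omega
          · exfalso
            apply hT2
            omega
        · rcases hT with rfl | ⟨rfl, hT2⟩ <;> omega
      · rcases Nat.eq_or_lt_of_le (Nat.succ_le_of_lt hu') with hu'' | hu''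
        · -- `2 m' + o + 1 = n'`
          have h4 : i * (n / i) = 2 * (i * (m / i)) + i * o + i := by
            rw [← hu'', Nat.succ_eq_add_one]
            ring
          rcases h2 with ⟨ha1, ha2, ha3, ha4⟩ | ⟨hb1, hb2⟩ | ⟨hc1, hc2⟩
          · rcases hT with rfl | ⟨rfl, hT2⟩
            · omega
            · exfalso
              apply hT2
              have : (n / i) % 2 ≠ s % 2 := by omega
              omega
          · rcases hT with rfl | ⟨rfl, hT2⟩ <;> omega
          · rcases hT with rfl | ⟨rfl, hT2⟩ <;> omega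
        · have h4 : 2 * (m / i) + o + 2 ≤ n / i := by
            rw [Nat.succ_eq_add_one] at hu''
            omega
          have h5 := mul_add_two_le' (i := i) h4
          rw [hiu] at h5
          rcases hT with rfl | ⟨rfl, hT2⟩ <;> omega
  have hle : i * min (m / i) Jmax ≤ i * (m / i) := Nat.mul_le_mul_left _ (min_le_left _ _)
  refine ⟨m - i * min (m / i) Jmax, j, ?_, ?_, ?_, ?_⟩
  · rw [hj3]
    omega
  · have := key 0 (Or.inl rfl)
    omega
  · intro hne'
    have := key 2 (Or.inr ⟨rfl, hne'⟩)
    omega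
  · intro a
    show j a + j a ≤ k a
    have : j a ≤ k a / 2 := hj1 a
    omega

/-- the single-factor pattern -/
noncomputable def singleFn (a₀ : I) (s : ℕ) : I → ℕ := fun a => if a = a₀ then s else 0

theorem singleFn_sum (a₀ : I) (s : ℕ) : ∑ a, singleFn a₀ s a = s := by
  unfold singleFn
  rw [Finset.sum_ite_eq' Finset.univ a₀ (fun _ => s), if_pos (Finset.mem_univ _)]

/-- the indicator pattern -/
noncomputable def indFn (U : Finset I) : I → ℕ := fun a => if a ∈ U then 1 else 0

theorem indFn_sum (U : Finset I) : ∑ a, indFn U a = U.card := by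
  unfold indFn
  rw [Finset.sum_boole, Finset.filter_mem_eq_inter, Finset.univ_inter]
  rfl

/-- necessity, self-dual factors -/
theorem cond_of_tfits_even (i n m b : ℕ) (hb : b ≤ 1) (hi2 : 2 ≤ i) (hie : Even i)
    (hne : Even n) (hmn : 2 * m < n) (a₀ : I)
    (hstar : ∃ s jj, 1 ≤ s ∧ jj < m ∧ i * s + 2 * jj + (if s % 2 = b then 0 else 2) = n)
    (hall : ∀ k : I → ℕ, (∃ a, k a ≠ 0) → i * ∑ a, k a ≤ n →
      (i * ∑ a, k a = n → (∑ a, k a) % 2 = b) → TFits id i n m ((∑ a, k a) % 2 = b) k) :
    i ≤ m ∧ Fintype.card I + 2 * (m / i) ≤ n / i ∧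
      ((2 * (m % i) ≤ i ∧ n % i = 0 ∧ (n / i) % 2 ≠ b ∧
            Fintype.card I + 2 * (m / i) < n / i) ∨
          (2 * (m % i) ≤ n % i ∧ (n / i) % 2 = b) ∨
          (2 * (m % i) < n % i ∧ (n / i) % 2 ≠ b)) := by
  have hi : 0 < i := by omega
  set t := Fintype.card I with ht
  have ht1 : 1 ≤ t := Fintype.card_pos_iff.2 ⟨a₀⟩
  -- single patterns
  have F1 : ∀ s, 1 ≤ s → i * s ≤ n → (i * s = n → s % 2 = b) →
      ∃ e J, m = e + i * J ∧ 2 * e + i * s ≤ n ∧ (s % 2 ≠ b → 2 * e + 2 + i * s ≤ n) := by
    intro s hs1 hsn hst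
    have hsum := singleFn_sum a₀ s
    obtain ⟨e, j, h1, h2, h3, -⟩ := hall (singleFn a₀ s)
      ⟨a₀, by unfold singleFn; rw [if_pos rfl]; omega⟩ (by rw [hsum]; exact hsn)
      (by rw [hsum]; exact hst)
    rw [hsum] at h2 h3
    exact ⟨e, ∑ a, j a, h1, h2, h3⟩
  -- indicator patterns
  have F2 : ∀ u, 1 ≤ u → u ≤ t → i * u ≤ n → (i * u = n → u % 2 = b) →
      2 * m + i * u ≤ n ∧ (u % 2 ≠ b → 2 * m + 2 + i * u ≤ n) := by
    intro u hu1 hut hun hutype
    obtain ⟨U, -, hU⟩ := Finset.exists_subset_card_eq
      (s := (Finset.univ : Finset I)) (n := u) (by rw [Finset.card_univ]; exact hut)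
    have hsum := indFn_sum U
    rw [hU] at hsum
    have hne : U.Nonempty := by
      rw [← Finset.card_pos, hU]
      exact hu1
    obtain ⟨a, ha⟩ := hne
    obtain ⟨e, j, h1, h2, h3, h4⟩ := hall (indFn U)
      ⟨a, by unfold indFn; rw [if_pos ha]; exact one_ne_zero⟩ (by rw [hsum]; exact hun)
      (by rw [hsum]; exact hutype)
    rw [hsum] at h2 h3
    have hj0 : ∀ a, j a = 0 := by
      intro a
      have h5 : j a + j a ≤ indFn U a := h4 a
      have h6 : indFn U a ≤ 1 := by
        unfold indFn
        split_ifs <;> omega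
      omega
    have hjs : ∑ a, j a = 0 := Finset.sum_eq_zero (fun a _ => hj0 a)
    rw [hjs, mul_zero, add_zero] at h1
    rw [h1]
    exact ⟨h2, h3⟩
  have hdm : i * (m / i) + m % i = m := Nat.div_add_mod m i
  have hdn : i * (n / i) + n % i = n := Nat.div_add_mod n i
  have hli : m % i < i := Nat.mod_lt _ hi
  have hki : n % i < i := Nat.mod_lt _ hi
  have hkev : (n % i) % 2 = 0 := mod_even_of_even hne hie
  -- step 1
  have him : i ≤ m := by
    obtain ⟨s, jj, hs1, hjj, heq⟩ := hstar
    obtain ⟨e, J, h1, h2, h3⟩ := F1 s hs1 (by omega) (by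
      intro h
      by_contra hne'
      rw [if_neg hne'] at heq
      omega)
    have he : e ≤ jj := by
      by_cases hsb : s % 2 = b
      · rw [if_pos hsb] at heq
        omega
      · rw [if_neg hsb] at heq
        have := h3 hsb
        omega
    have hJ : 1 ≤ J := by
      by_contra h
      have h0 : J = 0 := by omega
      rw [h0, mul_zero, add_zero] at h1
      omega
    have : i ≤ i * J := Nat.le_mul_of_pos_right _ hJ
    omega
  have hm' : 1 ≤ m / i := Nat.div_pos him hi
  have hn' : 2 ≤ n / i := by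
    rw [Nat.le_div_iff_mul_le hi]
    omega
  have himm : i ≤ i * (m / i) := Nat.le_mul_of_pos_right _ hm'
  -- `e ≥ ℓ` in any decomposition
  have hmodle : ∀ e J, m = e + i * J → m % i ≤ e := by
    intro e J h
    have : m % i = e % i := by rw [h, Nat.add_mul_mod_self_left]
    rw [this]
    exact Nat.mod_le _ _
  -- step 2
  have hcount : t + 2 * (m / i) ≤ n / i := by
    by_contra hlt
    push Not at hlt
    rcases le_total t (n / i) with htn | htn
    · have hitn : i * t ≤ i * (n / i) := Nat.mul_le_mul_left i htn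
      rcases Nat.lt_or_ge (i * t) n with hlt' | hge'
      · obtain ⟨h5, -⟩ := F2 t ht1 le_rfl hlt'.le (fun h => absurd h (by omega))
        have h6 : n / i + 1 ≤ t + 2 * (m / i) := hlt
        have h7 := Nat.mul_le_mul_left i h6
        have h8 : i * (t + 2 * (m / i)) = i * t + 2 * (i * (m / i)) := by ring
        have h9 : i * (n / i + 1) = i * (n / i) + i := by ring
        rw [h8, h9] at h7
        omega
      · have heq : i * t = n := by omega
        by_cases htb : t % 2 = b
        · obtain ⟨h5, -⟩ := F2 t ht1 le_rfl heq.le (fun _ => htb)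
          omega
        · have htn' : t = n / i := by
            have : i * t = i * (n / i) := by omega
            exact Nat.eq_of_mul_eq_mul_left hi this
          have h6 : i * (t - 1) + i = i * t := by
            have : t - 1 + 1 = t := by omega
            calc i * (t - 1) + i = i * (t - 1 + 1) := by ring
              _ = i * t := by rw [this]
          obtain ⟨h5, -⟩ := F2 (t - 1) (by omega) (by omega) (by omega)
            (fun h => absurd h (by omega))
          omega
    · -- `n' ≤ t`
      by_cases hadm : 0 < n % i ∨ (n / i) % 2 = b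
      · obtain ⟨h5, -⟩ := F2 (n / i) (by omega) htn (by omega) (by
          intro h
          rcases hadm with h' | h'
          · omega
          · exact h')
        omega
      · push Not at hadm
        have h6 : i * (n / i - 1) + i = i * (n / i) := by
          have : n / i - 1 + 1 = n / i := by omega
          calc i * (n / i - 1) + i = i * (n / i - 1 + 1) := by ring
            _ = i * (n / i) := by rw [this]
        obtain ⟨h5, -⟩ := F2 (n / i - 1) (by omega) (by omega) (by omega)
          (fun h => absurd h (by omega))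
        omega
  refine ⟨him, hcount, ?_⟩
  -- step 3
  by_cases hadm : 0 < n % i ∨ (n / i) % 2 = b
  · obtain ⟨e, J, h1, h2, h3⟩ := F1 (n / i) (by omega) (by omega) (by
      intro h
      rcases hadm with h' | h'
      · omega
      · exact h')
    have hle := hmodle e J h1
    by_cases hnb : (n / i) % 2 = b
    · right
      left
      exact ⟨by omega, hnb⟩
    · right
      right
      have := h3 hnb
      exact ⟨by omega, hnb⟩
  · push Not at hadm
    obtain ⟨hk0, hnb⟩ := hadm
    left
    have h6 : i * (n / i - 1) + i = i * (n / i) := by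
      have : n / i - 1 + 1 = n / i := by omega
      calc i * (n / i - 1) + i = i * (n / i - 1 + 1) := by ring
        _ = i * (n / i) := by rw [this]
    obtain ⟨e, J, h1, h2, h3⟩ := F1 (n / i - 1) (by omega) (by omega)
      (fun h => absurd h (by omega))
    have hle := hmodle e J h1
    refine ⟨by omega, by omega, hnb, ?_⟩
    by_contra hnot
    have heq : t + 2 * (m / i) = n / i := by omega
    have hitn : i * t + 2 * (i * (m / i)) = i * (n / i) := by
      rw [← heq]
      ring
    have htb : t % 2 ≠ b := by omega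
    obtain ⟨-, h5⟩ := F2 t ht1 le_rfl (by omega) (fun h => absurd h (by omega))
    have := h5 htb
    omega

end comb

end Cfsg.Agent.Helper13.OrthTy
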