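import Mathlib
import Cfsg.Agent.Lib.Helper13.OrthTy2
import Cfsg.Agent.Lib.Helper13.OrthTy3
import Cfsg.Agent.Lib.Helper13.OrthTs10
import Cfsg.Agent.Lib.Helper13.OrthElusive2

set_option autoImplicit false
set_option linter.unusedSectionVars false

/-!
# Elements of odd prime order of even-dimensional orthogonal groups fixing totally singular
subspaces: reduction to the combinatorics of patterns
-/

namespace Cfsg.Agent.Helper13.OrthTy

open Polynomial Module QuadraticMap Matrix Cfsg.Agent.Helper13.SS Cfsg.Agent.Helper13.Dual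
  Cfsg.Agent.Helper13.SympSS Cfsg.Agent.Helper13.SpDec Cfsg.Agent.Helper13.SlDec
  Cfsg.Agent.Helper13.SpTi Cfsg.Agent.Helper13.OrthSS Cfsg.Agent.Helper13
  Cfsg.Agent.Helper13.OrthTs
open scoped Classical

universe u

section typed
variable {F : Type u} [Field F] [Fintype F] {p : ℕ} [Fact p.Prime] [CharP F p] {r q : ℕ}
  {κ : Type} [Fintype κ] [DecidableEq κ]

/-- a scalar isometry has square one -/
theorem scalar_sq_of_isom (Q : QuadraticForm F (κ → F)) (hQ : (polarBilin Q).Nondegenerate)
    (hκ : 0 < Fintype.card κ) (A : Module.End F (κ → F)) (hAQ : ∀ v, Q (A v) = Q v) (z : F)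
    (hA : A = z • (1 : Module.End F (κ → F))) : z * z = 1 := by
  obtain ⟨v, hv⟩ := Cfsg.Agent.Helper13.OrthEl.exists_nonsingular Q hQ hκ
  have h1 := hAQ v
  rw [hA, LinearMap.smul_apply, Module.End.one_apply, QuadraticMap.map_smul, smul_eq_mul] at h1
  have h2 : (z * z - 1) * Q v = 0 := by linear_combination h1
  rcases mul_eq_zero.1 h2 with h | h
  · exact sub_eq_zero.1 h
  · exact absurd h hv

theorem typed_main (hF : Fintype.card F = q) (hr : r.Prime) (hr2 : r ≠ 2) (hrp : r ≠ p)
    (Q : QuadraticForm F (κ → F)) (hQ : (polarBilin Q).Nondegenerate)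
    (d m : ℕ) (hκ : Fintype.card κ = 2 * d) (hd : 3 ≤ d) :
    (∀ x : GL κ F, x ∈ Cfsg.Geo.omegaGL (⇑Q) →
      (∃ z : F, ((x ^ r : GL κ F) : Matrix κ κ F) = z • (1 : Matrix κ κ F)) →
      (∀ z : F, (x : Matrix κ κ F) ≠ z • (1 : Matrix κ κ F)) →
      ∃ W : Submodule F (κ → F), finrank F W = m ∧ (∀ w ∈ W, Q w = 0) ∧
        W.map (Matrix.toLin' (x : Matrix κ κ F)) ≤ W) ↔
    (∀ k : ↥(cycFactors F r) → ℕ, (∀ a, k (starΦ hr hr2 hrp a) = k a) → (∃ a, k a ≠ 0) →
      orderOf (q : ZMod r) * ∑ a, k a ≤ 2 * d →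
      (orderOf (q : ZMod r) * ∑ a, k a = 2 * d →
        (IsHyp Q ↔ (Odd (orderOf (q : ZMod r)) ∨ Even (∑ a, k a)))) →
      TFits (starΦ (F := F) hr hr2 hrp) (orderOf (q : ZMod r)) (2 * d) m
        (IsHyp Q ↔ (Odd (orderOf (q : ZMod r)) ∨ Even (∑ a, k a))) k) := by
  have hr1 : 1 ≤ r := hr.one_lt.le
  have hrodd : Odd r := hr.eq_two_or_odd'.resolve_left hr2
  have hi0 : 0 < orderOf (q : ZMod r) := pos_orderOf hF hr hrp
  have hev : Even (Fintype.card κ) := ⟨d, by rw [hκ]; ring⟩
  have hκ0 : 0 < Fintype.card κ := by omega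
  have hex : Fintype.card F ≠ 2 ∨ Fintype.card κ ≠ 4 := Or.inr (by omega)
  constructor
  · intro hall k hks hk0 hkd htype
    obtain ⟨g, hgr, hgc⟩ := exists_rep_even hF hr hr2 hrp hi0 Q hQ hev
      ⟨k, hks, by rw [hκ]; exact hkd, by
        intro h
        rw [hκ] at h
        exact (htype h).symm⟩
    have hgΩ := Cfsg.Agent.Helper13.OrthEl.mem_Omega_of_pow_odd Q hQ hex g hrodd hgr
    have hgQ : ∀ v, Q (LG (g : GL κ F) v) = Q v := fun v => by
      rw [LG_apply]
      exact g.2 v v
    have hxr : (g : GL κ F) ^ r = 1 := by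
      rw [← SubmonoidClass.coe_pow, hgr]
      rfl
    have hAr : LG (g : GL κ F) ^ r = 1 := by rw [← LG_pow, hxr, LG_one]
    have hcp : (LG (g : GL κ F)).charpoly =
        gPoly r (Fintype.card κ - orderOf (q : ZMod r) * ∑ a, k a) k := by
      rw [LG_charpoly, hgc]
      rfl
    have hns : ∀ z : F, ((g : GL κ F) : Matrix κ κ F) ≠ z • (1 : Matrix κ κ F) := by
      intro z hz
      have hA : LG (g : GL κ F) = z • (1 : Module.End F (κ → F)) := by
        apply LinearMap.ext
        intro v
        rw [LG_apply, hz, Matrix.smul_mulVec, Matrix.one_mulVec, LinearMap.smul_apply,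
          Module.End.one_apply]
      have hzz := scalar_sq_of_isom Q hQ hκ0 _ hgQ z hA
      have hzr : z ^ r = 1 := by
        have h1 : (z • (1 : Module.End F (κ → F))) ^ r = 1 := by rw [← hA, hAr]
        rw [_root_.smul_pow, one_pow] at h1
        obtain ⟨v, hv⟩ := Cfsg.Agent.Helper13.OrthEl.exists_nonsingular Q hQ hκ0
        have hv0 : v ≠ 0 := by
          rintro rfl
          exact hv (map_zero Q)
        have h2 := LinearMap.congr_fun h1 v
        rw [LinearMap.smul_apply, Module.End.one_apply] at h2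
        have h3 : (z ^ r - 1) • v = 0 := by rw [sub_smul, one_smul, h2, sub_self]
        rcases smul_eq_zero.1 h3 with h | h
        · exact sub_eq_zero.1 h
        · exact absurd h hv0
      have hz1 : z = 1 := by
        obtain ⟨t, ht⟩ := hrodd
        rw [ht, pow_succ, pow_mul, pow_two, hzz, one_pow, one_mul] at hzr
        exact hzr
      rw [hz1, one_smul] at hA
      rw [hA, LinearMap.charpoly_one, ← gPoly_zero_right (F := F) (r := r)] at hcp
      have := (gPoly_injective hr hrp _ _ _ _ hcp).2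
      obtain ⟨a, ha⟩ := hk0
      exact ha (congrFun this a).symm
    obtain ⟨W, hWm, hWts, hWinv⟩ := hall (g : GL κ F)
      (Cfsg.Agent.Helper17.OmegaElts.coe_mem_omegaGL Q hgΩ)
      ⟨1, by rw [hxr, one_smul]; rfl⟩ hns
    rw [map_le_iff'] at hWinv
    obtain ⟨e, j, h1, h2, h3, h4⟩ := pattern_of_ts_typed hF hr hr2 hrp Q hQ hev
      (LG (g : GL κ F)) hgQ hAr _ k hks hcp W hWinv hWts
    rw [hWm] at h1
    rw [hκ] at h2 h3
    refine ⟨e, j, h1, by omega, ?_, h4⟩
    intro hnt
    have := h3 hnt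
    omega
  · intro hall x hxmem ⟨z, hxz⟩ hns
    obtain ⟨h, hhΩ, rfl⟩ := (Cfsg.Agent.Helper17.OmegaElts.mem_omegaGL_iff Q x).1 hxmem
    set A := LG (h : GL κ F) with hA
    have hAQ : ∀ v, Q (A v) = Q v := fun v => by
      rw [hA, LG_apply]
      exact h.2 v v
    have hArz : A ^ r = z • (1 : Module.End F (κ → F)) := by
      rw [hA, ← LG_pow]
      apply LinearMap.ext
      intro v
      rw [LG_apply, hxz, Matrix.smul_mulVec, Matrix.one_mulVec, LinearMap.smul_apply,
        Module.End.one_apply]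
    have hpowQ : ∀ (t : ℕ) (v : κ → F), Q ((A ^ t) v) = Q v := by
      intro t
      induction t with
      | zero => intro v; simp
      | succ t ih =>
        intro v
        rw [pow_succ, Module.End.mul_apply, ih (A v), hAQ]
    have hArQ : ∀ v, Q ((A ^ r) v) = Q v := hpowQ r
    have hzz : z * z = 1 := scalar_sq_of_isom Q hQ hκ0 _ hArQ z hArz
    have hz0 : z ≠ 0 := by
      rintro rfl
      rw [mul_zero] at hzz
      exact zero_ne_one hzz
    set A' : Module.End F (κ → F) := z • A with hA'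
    have hA'Q : ∀ v, Q (A' v) = Q v := by
      intro v
      rw [hA', LinearMap.smul_apply, QuadraticMap.map_smul, smul_eq_mul, hzz, one_mul, hAQ]
    have hA'r : A' ^ r = 1 := by
      rw [hA', _root_.smul_pow, hArz, smul_smul, ← pow_succ]
      obtain ⟨t, ht⟩ := hrodd
      have hr' : r + 1 = 2 * (t + 1) := by omega
      rw [hr', pow_mul, pow_two, hzz, one_pow, one_smul]
    obtain ⟨x', hx', hx'r, hLx'⟩ := exists_gl_of_end (⇑Q) A' hA'Q r hr1 hA'r
    have hx'Q : ∀ v, Q (LG x' v) = Q v := by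
      intro v
      rw [hLx']
      exact hA'Q v
    obtain ⟨k, hks, hkd, hxc⟩ := orth_charpoly_eq_primePolyN hF hr hr2 hrp Q hQ x' hx'Q hx'r
    have hcp : A'.charpoly =
        gPoly r (Fintype.card κ - orderOf (q : ZMod r) * ∑ a, k a) k := by
      rw [← hLx', LG_charpoly, hxc]
      rfl
    have hk0 : ∃ a, k a ≠ 0 := by
      by_contra hcon
      push Not at hcon
      have hsum : ∑ a, k a = 0 := Finset.sum_eq_zero (fun a _ => hcon a)
      obtain ⟨hfix, -⟩ := kdim_of_gPoly hF hr hrp A' hA'r _ k hcp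
      rw [hsum, mul_zero, Nat.sub_zero] at hfix
      unfold kdim at hfix
      have htop : LinearMap.ker (aeval A' (X - 1 : F[X])) = ⊤ := by
        apply Submodule.eq_top_of_finrank_eq
        rw [hfix, Module.finrank_fintype_fun_eq_card]
      have hA'1 : ∀ v, A' v = v := by
        intro v
        have h1 : v ∈ LinearMap.ker (aeval A' (X - 1 : F[X])) := by rw [htop]; trivial
        rw [LinearMap.mem_ker, map_sub, aeval_X, map_one, LinearMap.sub_apply,
          Module.End.one_apply, sub_eq_zero] at h1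
        exact h1
      apply hns z⁻¹
      apply Matrix.toLin'.injective
      apply LinearMap.ext
      intro v
      have h1 := hA'1 v
      rw [hA', LinearMap.smul_apply, hA, LG_apply] at h1
      have h2 : ((h : GL κ F) : Matrix κ κ F).mulVec v = z⁻¹ • v := by
        calc ((h : GL κ F) : Matrix κ κ F).mulVec v
            = z⁻¹ • (z • ((h : GL κ F) : Matrix κ κ F).mulVec v) := by
              rw [smul_smul, inv_mul_cancel₀ hz0, one_smul]
          _ = z⁻¹ • v := by rw [h1]
      rw [Matrix.toLin'_apply, h2, map_smul, Matrix.toLin'_one, LinearMap.smul_apply,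
        LinearMap.id_apply]
    rw [hκ] at hkd
    have htype : orderOf (q : ZMod r) * ∑ a, k a = 2 * d →
        (IsHyp Q ↔ (Odd (orderOf (q : ZMod r)) ∨ Even (∑ a, k a))) := by
      intro h0
      rw [hκ, h0, Nat.sub_self, gPoly_zero_left] at hcp
      exact type_of_nofix hF hr hr2 hrp Q hQ A' hA'Q hA'r k hks hcp
    obtain ⟨e, j, hmj, hfix, hfix', hjk⟩ := hall k hks hk0 hkd htype
    obtain ⟨W, hWm, hWts, hWinv⟩ := exists_ts_of_pattern_typed hF hr hr2 hrp Q hQ hev A' hA'Q
      hA'r _ k hks hcp m e j hmj (by rw [hκ]; omega)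
      (by
        intro hnt
        have := hfix' hnt
        rw [hκ]
        omega) hjk
    refine ⟨W, hWm, hWts, ?_⟩
    rw [map_le_iff']
    intro v hv
    have h1 := hWinv v hv
    rw [hA', LinearMap.smul_apply] at h1
    have h2 : A v = z⁻¹ • (z • A v) := by rw [smul_smul, inv_mul_cancel₀ hz0, one_smul]
    rw [← hA, h2]
    exact W.smul_mem _ h1

end typed

end Cfsg.Agent.Helper13.OrthTy
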