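import Mathlib
import Cfsg.Agent.Lib.Helper13.OrthTs9
import Cfsg.Agent.Lib.Helper13.OrthType4
import Cfsg.Agent.Lib.Helper13.OrthTy4

set_option autoImplicit false
set_option linter.unusedSectionVars false

/-!
# Involutions of `Ω` in even dimension and their invariant totally singular subspaces
-/

namespace Cfsg.Agent.Helper13.OrthTy

open Polynomial Module QuadraticMap Matrix Cfsg.Agent.Helper13.OrthSS Cfsg.Agent.Helper13
  Cfsg.Agent.Helper17.Spinor Cfsg.Agent.Helper13.OrthTs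
open scoped Classical

universe u

section gram
variable {F : Type u} [Field F] [Fintype F] {V : Type*} [AddCommGroup V] [Module F V]
  [FiniteDimensional F V]

/-- the type of an even-dimensional quadratic space in terms of the discriminant -/
theorem isHyp_iff_gram (h2 : (2 : F) ≠ 0) (Q : QuadraticForm F V)
    (hQ : (polarBilin Q).Nondegenerate) {ι : Type} [Fintype ι] [DecidableEq ι]
    (c : Module.Basis ι F V) (k : ℕ) (hk : Fintype.card ι = 2 * k) :
    IsHyp Q ↔ IsSquare ((-1 : F) ^ k * (Matrix.of fun i j => polar Q (c i) (c j)).det) := by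
  have hfin : finrank F V = 2 * k := by rw [Module.finrank_eq_card_basis c, hk]
  have hfin0 : finrank F (Fin k ⊕ Fin k → F) = 2 * k := by
    rw [Module.finrank_fintype_fun_eq_card, Fintype.card_sum, Fintype.card_fin]
    ring
  have hgram0 : (Matrix.of fun i j => polar (matQ (plusMat k F))
      (Pi.basisFun F (Fin k ⊕ Fin k) i) (Pi.basisFun F (Fin k ⊕ Fin k) j)).det = (-1) ^ k := by
    rw [gram_matQ, plusMat_add_transpose, hypBlock_det]
  have hnd0 := Cfsg.Agent.Helper2.Orth.nondeg_plus (F := F) k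
  have hcard : Fintype.card ι = Fintype.card (Fin k ⊕ Fin k) := by
    rw [hk, Fintype.card_sum, Fintype.card_fin]
    ring
  constructor
  · intro hh
    obtain ⟨e, he⟩ := equiv_of_type (matQ (plusMat k F)) Q hnd0 hQ (by rw [hfin0, hfin])
      ⟨k, by rw [hfin0]; ring⟩ (iff_of_true (isHyp_plusMat k) hh)
    set σ : ι ≃ Fin k ⊕ Fin k := Fintype.equivOfCardEq hcard with hσ
    set b : Module.Basis (Fin k ⊕ Fin k) F V := (Pi.basisFun F (Fin k ⊕ Fin k)).map e with hb
    have h1 := gram_det_basis Q b (c.reindex σ)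
    rw [gram_det_reindex] at h1
    have h3 : (Matrix.of fun i j => polar Q (b i) (b j)) =
        Matrix.of fun i j => polar (matQ (plusMat k F)) (Pi.basisFun F (Fin k ⊕ Fin k) i)
          (Pi.basisFun F (Fin k ⊕ Fin k) j) := by
      ext i j
      simp only [Matrix.of_apply, hb, Module.Basis.map_apply]
      unfold polar
      rw [← map_add, he, he, he]
    rw [h3, hgram0] at h1
    rw [h1]
    refine ⟨(b.toMatrix (c.reindex σ)).det * (-1) ^ k, ?_⟩
    ring
  · intro hsq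
    obtain ⟨g, hg⟩ := equiv_of_disc_idx h2 (matQ (plusMat k F)) Q hnd0 hQ
      (Pi.basisFun F (Fin k ⊕ Fin k)) c hcard.symm (by rw [hgram0]; exact hsq)
    exact IsHyp.of_equiv g hg (isHyp_plusMat k)

theorem isSquare_neg_one_pow (hns : ¬ IsSquare (-1 : F)) (k : ℕ) :
    IsSquare ((-1 : F) ^ k) ↔ Even k := by
  constructor
  · intro h
    by_contra hk
    rw [Nat.not_even_iff_odd] at hk
    rw [hk.neg_one_pow] at h
    exact hns h
  · intro h
    rw [h.neg_one_pow]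
    exact ⟨1, (mul_one 1).symm⟩

end gram

section invol
variable {F : Type u} [Field F] [Fintype F] {V : Type u} [AddCommGroup V] [Module F V]
  [FiniteDimensional F V] {Q : QuadraticForm F V} {A : Module.End F V}

/-- the type of the space in terms of the types of the eigenspaces of an involution -/
theorem isHyp_iff_of_involution (h2 : (2 : F) ≠ 0) (hQ : (polarBilin Q).Nondegenerate)
    (hA : A * A = 1) (hAQ : ∀ v, Q (A v) = Q v) (hp : Even (finrank F (Vp A)))
    (hm : Even (finrank F (Vm A))) :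
    IsHyp Q ↔ (IsHyp (Q.comp (Vp A).subtype) ↔ IsHyp (Q.comp (Vm A).subtype)) := by
  have hcompl : IsCompl (Vp A) (Vm A) := by
    constructor
    · rw [disjoint_iff]
      exact Vp_inf_Vm h2
    · rw [codisjoint_iff]
      exact Vp_sup_Vm h2 hA
  have hEQ : ∀ z, Q (Submodule.prodEquivOfIsCompl (Vp A) (Vm A) hcompl z) =
      QuadraticMap.prod (Q.comp (Vp A).subtype) (Q.comp (Vm A).subtype) z := by
    rintro ⟨a, b⟩
    have e1 : Submodule.prodEquivOfIsCompl (Vp A) (Vm A) hcompl (a, b) = (a : V) + (b : V) :=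
      Submodule.coe_prodEquivOfIsCompl' _ _ hcompl (a, b)
    rw [e1, QuadraticMap.map_add Q, polar_Vp_Vm h2 hAQ a.2 b.2, add_zero,
      QuadraticMap.prod_apply]
    rfl
  rw [← isHyp_iff_of_equiv (Submodule.prodEquivOfIsCompl (Vp A) (Vm A) hcompl) hEQ]
  exact isHyp_prod_iff _ _ (nondeg_Vp h2 hA hAQ hQ) (nondeg_Vm h2 hA hAQ hQ) hp hm

/-- sufficiency for involutions, general version -/
theorem exists_ts_of_involution_gen (h2 : (2 : F) ≠ 0) (hQ : (polarBilin Q).Nondegenerate)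
    (hA : A * A = 1) (hAQ : ∀ v, Q (A v) = Q v) (k₁ k₂ : ℕ)
    (h1 : k₁ ≤ (finrank F (Vp A) - 1) / 2 ∨
      (IsHyp (Q.comp (Vp A).subtype) ∧ 2 * k₁ ≤ finrank F (Vp A)))
    (h3 : k₂ ≤ (finrank F (Vm A) - 1) / 2 ∨
      (IsHyp (Q.comp (Vm A).subtype) ∧ 2 * k₂ ≤ finrank F (Vm A))) :
    ∃ W : Submodule F V, finrank F W = k₁ + k₂ ∧ (∀ w ∈ W, Q w = 0) ∧ ∀ v ∈ W, A v ∈ W := by
  have e1 : ∃ W₁ : Submodule F V, W₁ ≤ Vp A ∧ finrank F W₁ = k₁ ∧ ∀ w ∈ W₁, Q w = 0 := by
    rcases h1 with h | ⟨hh, h⟩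
    · exact exists_ts_le h2 Q (Vp A) (nondeg_Vp h2 hA hAQ hQ) k₁ h
    · exact exists_ts_le_hyp Q (Vp A) hh k₁ h
  have e2 : ∃ W₂ : Submodule F V, W₂ ≤ Vm A ∧ finrank F W₂ = k₂ ∧ ∀ w ∈ W₂, Q w = 0 := by
    rcases h3 with h | ⟨hh, h⟩
    · exact exists_ts_le h2 Q (Vm A) (nondeg_Vm h2 hA hAQ hQ) k₂ h
    · exact exists_ts_le_hyp Q (Vm A) hh k₂ h
  obtain ⟨W₁, hW₁, hk₁, ht₁⟩ := e1
  obtain ⟨W₂, hW₂, hk₂, ht₂⟩ := e2
  obtain ⟨g1, g3, g4⟩ := ts_sup h2 hAQ W₁ W₂ hW₁ hW₂ ht₁ ht₂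
  exact ⟨W₁ ⊔ W₂, by rw [g1, hk₁, hk₂], g3, g4⟩

omit [Fintype F] [FiniteDimensional F V] in
/-- invariant totally singular subspaces are fixed when the negated space is anisotropic -/
theorem le_Vp_of_invariant (h2 : (2 : F) ≠ 0) (hA : A * A = 1)
    (haniso : ∀ v ∈ Vm A, Q v = 0 → v = 0) (W : Submodule F V) (hW : ∀ w ∈ W, Q w = 0)
    (hWinv : ∀ v ∈ W, A v ∈ W) : W ≤ Vp A := by
  intro w hw
  have h1 : (2 : F)⁻¹ • (w - A w) ∈ W := W.smul_mem _ (W.sub_mem hw (hWinv w hw))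
  have h3 := haniso _ (half_sub_mem h2 hA w) (hW _ h1)
  rw [mem_Vp]
  have h4 : w - A w = 0 := by
    rcases smul_eq_zero.1 h3 with h | h
    · exact absurd h (inv_ne_zero h2)
    · exact h
  exact (sub_eq_zero.1 h4).symm

omit [Fintype F] [FiniteDimensional F V] in
theorem eq_neg_one_of_Vp (h2 : (2 : F) ≠ 0) (hA : A * A = 1) (h : Vp A = ⊥) : A = -1 := by
  have h1 := Vp_sup_Vm (A := A) h2 hA
  rw [h, bot_sup_eq] at h1
  apply LinearMap.ext
  intro v
  have : v ∈ Vm A := by rw [h1]; trivial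
  rw [mem_Vm.1 this]
  simp

omit [Fintype F] [FiniteDimensional F V] in
theorem eq_one_of_Vm (h2 : (2 : F) ≠ 0) (hA : A * A = 1) (h : Vm A = ⊥) : A = 1 := by
  have h1 := Vp_sup_Vm (A := A) h2 hA
  rw [h, sup_bot_eq] at h1
  apply LinearMap.ext
  intro v
  have : v ∈ Vp A := by rw [h1]; trivial
  rw [mem_Vp.1 this]
  simp

end invol

section conc
variable {F : Type u} [Field F] [Fintype F] {κ : Type} [Fintype κ] [DecidableEq κ]
  (Q : QuadraticForm F (κ → F))

/-- an involution in `Ω` negates a space of even dimension `2k` whose type is given by the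
quadratic character of `(-1) ^ k` -/
theorem type_Vm_of_mem_Omega (h2 : (2 : F) ≠ 0) (hQ : (polarBilin Q).Nondegenerate)
    (h : ↥(Cfsg.isometryGroup F (⇑Q))) (hh : h ∈ Cfsg.Omega F (⇑Q))
    (hsq : toEnd Q h * toEnd Q h = 1) :
    ∃ k, finrank F (Vm (toEnd Q h)) = 2 * k ∧
      (IsHyp (Q.comp (Vm (toEnd Q h)).subtype) ↔ IsSquare ((-1 : F) ^ k)) := by
  set A := toEnd Q h with hA
  have hAQ : ∀ v, Q (A v) = Q v := toEnd_isometry Q h
  have hnd := nondeg_Vm h2 hsq hAQ hQ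
  obtain ⟨b, hb⟩ : ∃ b, b = finrank F (Vm A) := ⟨_, rfl⟩
  obtain ⟨c, horth', -⟩ := exists_normal_basis h2 b ↥(Vm A) (Q.comp (Vm A).subtype) hnd hb.symm
  set v : Fin b → (κ → F) := fun i => ((c i : ↥(Vm A)) : κ → F) with hv
  have horth : ∀ i j, i ≠ j → polar Q (v i) (v j) = 0 := by
    intro i j hij
    have := horth' i j hij
    rw [OrthTs.polar_comp] at this
    exact this
  have hgram := gram_det_orth (Q.comp (Vm A).subtype) c horth'
  have hgne := gram_det_ne_zero (Q.comp (Vm A).subtype) c hnd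
  have hne : ∀ i, Q (v i) ≠ 0 := by
    intro i h0
    apply hgne
    rw [hgram]
    apply Finset.prod_eq_zero (Finset.mem_univ i)
    have : (Q.comp (Vm A).subtype) (c i) = Q (v i) := rfl
    rw [this, h0, mul_zero]
  have hvs : ∀ w ∈ List.ofFn v, Q w ≠ 0 := by
    intro w hw
    rw [List.mem_ofFn] at hw
    obtain ⟨i, rfl⟩ := hw
    exact hne i
  -- the product of reflections
  have hprod : ((List.ofFn v).map (refl Q)).prod = A := by
    apply LinearMap.ext
    intro w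
    rw [← half_add_half (A := A) h2 w, map_add, map_add]
    congr 1
    · have hp := half_add_mem h2 hsq w
      rw [mem_Vp.1 hp]
      apply prod_refl_apply_of_polar_eq_zero
      intro y hy
      rw [List.mem_ofFn] at hy
      obtain ⟨i, rfl⟩ := hy
      rw [polar_comm]
      exact polar_Vp_Vm h2 hAQ hp (c i).2
    · have hm := half_sub_mem h2 hsq w
      rw [mem_Vm.1 hm]
      set y : ↥(Vm A) := ⟨_, hm⟩ with hy
      have h3 : ((2 : F)⁻¹ • (w - A w)) = ∑ i, c.repr y i • v i := by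
        calc ((2 : F)⁻¹ • (w - A w)) = ((∑ i, c.repr y i • c i : ↥(Vm A)) : κ → F) := by
              rw [c.sum_repr]
          _ = ∑ i, c.repr y i • v i := by
              rw [Submodule.coe_sum]
              rfl
      rw [h3, map_sum, ← Finset.sum_neg_distrib]
      apply Finset.sum_congr rfl
      intro i _
      rw [map_smul, prod_refl_ofFn_apply Q h2 b v horth hne i, smul_neg]
  have hg : ((h : Matrix.GeneralLinearGroup κ F) : Matrix κ κ F) =
      ((List.ofFn v).map (fun v => Cfsg.reflectionMatrix (⇑Q) v)).prod := by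
    apply Matrix.toLin'.injective
    rw [toLin'_prod_reflectionMatrix, hprod]
    rfl
  obtain ⟨hev, hsqr⟩ := (mem_Omega_iff Q h2 hQ h (List.ofFn v) hvs hg).1 hh
  rw [List.length_ofFn] at hev
  rw [List.map_ofFn, List.prod_ofFn] at hsqr
  rw [← hb]
  obtain ⟨k, hk⟩ := hev
  obtain ⟨s, hs⟩ := hsqr
  refine ⟨k, by rw [hk]; ring, ?_⟩
  have e1 : ∏ i, (Q.comp (Vm A).subtype) (c i) = s * s := hs
  have hs0 : s ≠ 0 := by
    rintro rfl
    apply hgne
    rw [hgram, Finset.prod_mul_distrib, e1]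
    simp
  rw [isHyp_iff_gram h2 (Q.comp (Vm A).subtype) hnd c k (by rw [Fintype.card_fin, hk]; ring),
    hgram, Finset.prod_mul_distrib, Finset.prod_const, Finset.card_univ, Fintype.card_fin, e1,
    hk]
  have e2 : (-1 : F) ^ k * (2 ^ (k + k) * (s * s)) = (2 ^ k * s) ^ 2 * (-1) ^ k := by ring
  rw [e2, isSquare_mul_sq_iff _ _ (mul_ne_zero (pow_ne_zero _ h2) hs0)]

/-- sufficiency for involutions in `Ω`, even dimension -/
theorem invol_suff (h2 : (2 : F) ≠ 0) (hQ : (polarBilin Q).Nondegenerate)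
    (h : ↥(Cfsg.isometryGroup F (⇑Q))) (hh : h ∈ Cfsg.Omega F (⇑Q))
    (hsq : toEnd Q h * toEnd Q h = 1) (hne1 : toEnd Q h ≠ 1) (hne2 : toEnd Q h ≠ -1)
    (d m : ℕ) (hκ : Fintype.card κ = 2 * d) (hmd : m + 1 ≤ d)
    (hcond : ¬ IsHyp Q ∨ IsSquare (-1 : F) ∨ m + 2 ≤ d) :
    ∃ W : Submodule F (κ → F), finrank F W = m ∧ (∀ w ∈ W, Q w = 0) ∧
      ∀ v ∈ W, toEnd Q h v ∈ W := by
  have hAQ : ∀ v, Q (toEnd Q h v) = Q v := toEnd_isometry Q h
  have hab := finrank_Vp_add (A := toEnd Q h) h2 hsq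
  rw [Module.finrank_fintype_fun_eq_card, hκ] at hab
  obtain ⟨k, hk, htype⟩ := type_Vm_of_mem_Omega Q h2 hQ h hh hsq
  have ha0 : finrank F (Vp (toEnd Q h)) ≠ 0 := by
    intro h0
    exact hne2 (eq_neg_one_of_Vp h2 hsq (Submodule.finrank_eq_zero.1 h0))
  have hb0 : finrank F (Vm (toEnd Q h)) ≠ 0 := by
    intro h0
    exact hne1 (eq_one_of_Vm h2 hsq (Submodule.finrank_eq_zero.1 h0))
  have hpe : Even (finrank F (Vp (toEnd Q h))) := ⟨d - k, by omega⟩
  have hme : Even (finrank F (Vm (toEnd Q h))) := ⟨k, by omega⟩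
  have hiff := isHyp_iff_of_involution h2 hQ hsq hAQ hpe hme
  have key : ∃ k₁ k₂, k₁ + k₂ = m ∧
      (k₁ ≤ (finrank F (Vp (toEnd Q h)) - 1) / 2 ∨
        (IsHyp (Q.comp (Vp (toEnd Q h)).subtype) ∧ 2 * k₁ ≤ finrank F (Vp (toEnd Q h)))) ∧
      (k₂ ≤ (finrank F (Vm (toEnd Q h)) - 1) / 2 ∨
        (IsHyp (Q.comp (Vm (toEnd Q h)).subtype) ∧ 2 * k₂ ≤ finrank F (Vm (toEnd Q h)))) := by
    by_cases hH : IsHyp Q
    · rcases hcond with hc | hc | hc
      · exact absurd hH hc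
      · have hVm : IsHyp (Q.comp (Vm (toEnd Q h)).subtype) := htype.2 (hc.pow k)
        have hVp : IsHyp (Q.comp (Vp (toEnd Q h)).subtype) := (hiff.1 hH).2 hVm
        refine ⟨min m (finrank F (Vp (toEnd Q h)) / 2),
          m - min m (finrank F (Vp (toEnd Q h)) / 2), by omega, Or.inr ⟨hVp, by omega⟩,
          Or.inr ⟨hVm, by omega⟩⟩
      · refine ⟨min m ((finrank F (Vp (toEnd Q h)) - 1) / 2),
          m - min m ((finrank F (Vp (toEnd Q h)) - 1) / 2), by omega, Or.inl (by omega),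
          Or.inl (by omega)⟩
    · have hnn : ¬ (IsHyp (Q.comp (Vp (toEnd Q h)).subtype) ↔
          IsHyp (Q.comp (Vm (toEnd Q h)).subtype)) := fun h' => hH (hiff.2 h')
      by_cases hVm : IsHyp (Q.comp (Vm (toEnd Q h)).subtype)
      · refine ⟨min m ((finrank F (Vp (toEnd Q h)) - 1) / 2),
          m - min m ((finrank F (Vp (toEnd Q h)) - 1) / 2), by omega, Or.inl (by omega),
          Or.inr ⟨hVm, by omega⟩⟩
      · have hVp : IsHyp (Q.comp (Vp (toEnd Q h)).subtype) := by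
          by_contra hVp
          exact hnn (iff_of_false hVp hVm)
        refine ⟨min m (finrank F (Vp (toEnd Q h)) / 2),
          m - min m (finrank F (Vp (toEnd Q h)) / 2), by omega, Or.inr ⟨hVp, by omega⟩,
          Or.inl (by omega)⟩
  obtain ⟨k₁, k₂, hkm, g1, g2⟩ := key
  obtain ⟨W, hW, hts, hinv⟩ := exists_ts_of_involution_gen h2 hQ hsq hAQ k₁ k₂ g1 g2
  exact ⟨W, by rw [hW, hkm], hts, hinv⟩

/-- necessity for involutions in `Ω`, hyperbolic spaces with `-1` a nonsquare -/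
theorem invol_nec (h2 : (2 : F) ≠ 0) (hQ : (polarBilin Q).Nondegenerate) (hH : IsHyp Q)
    (hns : ¬ IsSquare (-1 : F)) (d m : ℕ) (hκ : Fintype.card κ = 2 * d) (hd : 2 ≤ d)
    (hmd : m + 1 ≤ d)
    (hall : ∀ h : ↥(Cfsg.isometryGroup F (⇑Q)), h ∈ Cfsg.Omega F (⇑Q) →
      toEnd Q h * toEnd Q h = 1 → toEnd Q h ≠ 1 → toEnd Q h ≠ -1 →
      ∃ W : Submodule F (κ → F), finrank F W = m ∧ (∀ w ∈ W, Q w = 0) ∧
        ∀ v ∈ W, toEnd Q h v ∈ W) : m + 2 ≤ d := by
  have hfin : finrank F (κ → F) = 2 * d := by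
    rw [Module.finrank_fintype_fun_eq_card, hκ]
  obtain ⟨h, hhΩ, hsq, hne, hfr, haniso⟩ := exists_bad_involution Q h2 hQ (by omega) hns
  have hAQ : ∀ v, Q (toEnd Q h v) = Q v := toEnd_isometry Q h
  have hne2 : toEnd Q h ≠ -1 := by
    intro h1
    obtain ⟨L, hL, hLd⟩ := hH
    rw [hfin] at hLd
    have hpos : 0 < finrank F L := by omega
    obtain ⟨x, hx⟩ := Module.finrank_pos_iff_exists_ne_zero.1 hpos
    apply hx
    apply Subtype.ext
    apply haniso x _ (hL x x.2)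
    rw [mem_Vm, h1]
    simp
  obtain ⟨W, hWm, hWts, hWinv⟩ := hall h hhΩ hsq hne hne2
  have hWp := le_Vp_of_invariant h2 hsq haniso W hWts hWinv
  have h5 := finrank_le_of_invariant h2 hQ hsq hAQ haniso W hWts hWinv
  rw [hfin, hWm] at h5
  have hab := finrank_Vp_add (A := toEnd Q h) h2 hsq
  rw [hfin] at hab
  by_contra hcon
  have hb2 : finrank F (Vm (toEnd Q h)) = 2 := by omega
  have ha2 : finrank F (Vp (toEnd Q h)) = 2 * m := by omega
  have hpe : Even (finrank F (Vp (toEnd Q h))) := ⟨m, by omega⟩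
  have hme : Even (finrank F (Vm (toEnd Q h))) := ⟨1, by omega⟩
  have hiff := isHyp_iff_of_involution h2 hQ hsq hAQ hpe hme
  have hVp : IsHyp (Q.comp (Vp (toEnd Q h)).subtype) := by
    refine ⟨W.comap (Vp (toEnd Q h)).subtype, ?_, ?_⟩
    · intro x hx
      exact hWts _ hx
    · rw [(Submodule.comapSubtypeEquivOfLe hWp).finrank_eq, hWm, ha2]
  obtain ⟨L', hL', hd'⟩ := (hiff.1 hH).1 hVp
  have hpos : 0 < finrank F L' := by omega
  obtain ⟨x, hx⟩ := (Module.finrank_pos_iff_exists_ne_zero (R := F) (M := ↥L')).1 hpos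
  apply hx
  apply Subtype.ext
  apply Subtype.ext
  exact haniso _ (x : ↥(Vm (toEnd Q h))).2 (hL' x x.2)

end conc

end Cfsg.Agent.Helper13.OrthTy
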