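import Mathlib
import Cfsg.Agent.Lib.Helper13.OrthJp4
import Cfsg.Agent.Lib.Helper13.OrthTs5
import Cfsg.Agent.Lib.Helper13.OrthTy8
import Cfsg.Agent.Lib.Helper13.OrthType2
import Cfsg.Agent.Lib.Helper13.OrthReal

set_option autoImplicit false
set_option linter.unusedSectionVars false

/-!
# Unipotent elements of `Ω⁺` of each valid Jordan type
-/

namespace Cfsg.Agent.Helper13.OrthJp

open Module Matrix QuadraticMap Cfsg.Agent.Helper13 Cfsg.Agent.Helper13.OrthSS

section hyp
variable {F : Type*} [Field F] {ι : Type} [Fintype ι] [DecidableEq ι]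

theorem isHyp_hypQ : IsHyp (OrthTs.hypQ ι F) := by
  refine ⟨LinearMap.range (LinearMap.inl F (ι → F) (ι → F)), ?_, ?_⟩
  · rintro _ ⟨u, rfl⟩
    rw [OrthTs.hypQ_apply]
    simp
  · rw [LinearMap.finrank_range_of_inj LinearMap.inl_injective, Module.finrank_prod]
    ring

theorem rank_inv_transpose_sub_one_pow (G Gi : Matrix ι ι F) (h1 : G * Gi = 1) (h2 : Gi * G = 1)
    (j : ℕ) : ((Giᵀ - 1) ^ j).rank = ((G - 1) ^ j).rank := by
  have e1 : (Giᵀ - 1) ^ j = ((Gi - 1) ^ j)ᵀ := by
    rw [Matrix.transpose_pow, Matrix.transpose_sub, Matrix.transpose_one]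
  rw [e1, Matrix.rank_transpose]
  have hc : Commute (Gi - 1) G := by
    show (Gi - 1) * G = G * (Gi - 1)
    rw [sub_mul, mul_sub, h1, h2, one_mul, mul_one]
  have e2 : (Gi - 1) ^ j * G ^ j = (1 - G) ^ j := by
    rw [← hc.mul_pow, sub_mul, h2, one_mul]
  have e3 : (1 - G) ^ j = (-1 : Matrix ι ι F) ^ j * (G - 1) ^ j := by
    rw [← neg_sub, neg_pow]
  have hGu : IsUnit (G ^ j).det := by
    rw [Matrix.det_pow]
    apply IsUnit.pow
    apply IsUnit.of_mul_eq_one (Gi.det)
    rw [← Matrix.det_mul, h1, Matrix.det_one]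
  have hnu : IsUnit ((-1 : Matrix ι ι F) ^ j).det := by
    apply (Matrix.isUnit_iff_isUnit_det _).1
    exact (isUnit_one.neg).pow j
  rw [← Matrix.rank_mul_eq_left_of_isUnit_det _ ((Gi - 1) ^ j) hGu, e2, e3,
    Matrix.rank_mul_eq_right_of_isUnit_det _ _ hnu]

theorem hasType_hypMap (G Gi : Matrix ι ι F) (h1 : G * Gi = 1) (h2 : Gi * G = 1)
    {ν : Multiset ℕ} (h : HasType (Matrix.toLin' G - 1) ν) :
    HasType (SpTi.hypMap G Gi - 1) (ν + ν) := by
  unfold SpTi.hypMap
  rw [prodMap_sub_one]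
  apply HasType.prodMap h
  refine ⟨h.1, fun j => ?_⟩
  rw [finrank_range_toLin'_sub_one_pow, rank_inv_transpose_sub_one_pow G Gi h1 h2,
    ← finrank_range_toLin'_sub_one_pow, h.2]

end hyp

section double
variable {F : Type*} [Field F]

theorem exists_unip_double (ν : Multiset ℕ) (hpos : ∀ a ∈ ν, 0 < a) (d : ℕ) (hsum : ν.sum = d) :
    ∃ Y : Module.End F ((Fin d → F) × (Fin d → F)),
      (∀ v, OrthTs.hypQ (Fin d) F (Y v) = OrthTs.hypQ (Fin d) F v) ∧ HasType (Y - 1) (ν + ν) := by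
  obtain ⟨g, cb, hcb⟩ := Nilp.exists_of_type (F := F) ν hpos hsum
  have h1 : HasType (Matrix.toLin' (g : Matrix (Fin d) (Fin d) F) - 1) ν := by
    have e : Matrix.toLin' (g : Matrix (Fin d) (Fin d) F) - 1 = Nilp.nilOf g := by
      unfold Nilp.nilOf Nilp.nilMat
      rw [map_sub, map_one]
      rfl
    rw [e, ← hcb]
    exact ⟨cb.type_pos, cb.finrank_range_pow⟩
  exact ⟨SpTi.hypMap (g : Matrix (Fin d) (Fin d) F) ((g⁻¹ : GL (Fin d) F) : Matrix (Fin d) (Fin d) F),
    fun v => OrthTs.hypMap_isom _ _ (Nilp.gln_inv_mul g) v,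
    hasType_hypMap _ _ (Nilp.gln_mul_inv g) (Nilp.gln_inv_mul g) h1⟩

end double

section gram
variable {F : Type*} [Field F] {V₁ V₂ : Type*} [AddCommGroup V₁] [Module F V₁] [AddCommGroup V₂]
  [Module F V₂] {ι₁ ι₂ : Type*} [Fintype ι₁] [DecidableEq ι₁] [Fintype ι₂] [DecidableEq ι₂]

theorem gram_det_prod (Q₁ : QuadraticForm F V₁) (Q₂ : QuadraticForm F V₂)
    (b₁ : Module.Basis ι₁ F V₁) (b₂ : Module.Basis ι₂ F V₂) :
    (Matrix.of fun i j => polar (QuadraticMap.prod Q₁ Q₂) ((b₁.prod b₂) i) ((b₁.prod b₂) j)).det =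
      (Matrix.of fun i j => polar Q₁ (b₁ i) (b₁ j)).det *
        (Matrix.of fun i j => polar Q₂ (b₂ i) (b₂ j)).det := by
  have : (Matrix.of fun i j => polar (QuadraticMap.prod Q₁ Q₂) ((b₁.prod b₂) i) ((b₁.prod b₂) j)) =
      Matrix.fromBlocks (Matrix.of fun i j => polar Q₁ (b₁ i) (b₁ j)) 0 0
        (Matrix.of fun i j => polar Q₂ (b₂ i) (b₂ j)) := by
    ext (i | i) (j | j) <;>
    simp [polar_prod', Module.Basis.prod_apply_inl_fst, Module.Basis.prod_apply_inr_fst,
      Module.Basis.prod_apply_inl_snd, Module.Basis.prod_apply_inr_snd]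
  rw [this, Matrix.det_fromBlocks_zero₂₁]

theorem gram_det_smul (c : F) (Q : QuadraticForm F V₁) (b : Module.Basis ι₁ F V₁) :
    (Matrix.of fun i j => polar (⇑(c • Q)) (b i) (b j)).det =
      c ^ Fintype.card ι₁ * (Matrix.of fun i j => polar Q (b i) (b j)).det := by
  have hgram : (Matrix.of fun i j => polar (⇑(c • Q)) (b i) (b j)) =
      c • (Matrix.of fun i j => polar Q (b i) (b j)) := by
    ext i j
    rw [Matrix.smul_apply, Matrix.of_apply, Matrix.of_apply, FunLike.coe_smul, polar_smul]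
  rw [hgram, Matrix.det_smul]

end gram

section plus
variable {F : Type*} [Field F] [Fintype F]
  {κ : Type} [Fintype κ] [DecidableEq κ]

/-- in a hyperbolic space every valid type occurs -/
theorem exists_unip_plus (h2 : (2 : F) ≠ 0) (d : ℕ) (Q : QuadraticForm F (κ → F))
    (hQ : (polarBilin Q).Nondegenerate) (hκ : Fintype.card κ = 2 * d) (hH : IsHyp Q)
    (μ : Multiset ℕ) (hpos : ∀ a ∈ μ, 0 < a) (hpar : ∀ e, Even e → Even (μ.count e))
    (hsum : μ.sum = 2 * d) :
    ∃ Y : Module.End F (κ → F), (∀ v, Q (Y v) = Q v) ∧ HasType (Y - 1) μ := by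
  classical
  have hfinQ : finrank F (κ → F) = 2 * d := by
    rw [Module.finrank_fintype_fun_eq_card, hκ]
  by_cases hodd : ∃ a ∈ μ, Odd a
  · obtain ⟨a, ha, hao⟩ := hodd
    obtain ⟨μ', rfl⟩ := Multiset.exists_cons_of_mem ha
    rw [Multiset.sum_cons] at hsum
    have hsum' : μ'.sum = 2 * d - a := by omega
    obtain ⟨t, ht⟩ : ∃ t, 2 * d - a = 2 * t + 1 := by
      obtain ⟨s, hs⟩ := hao
      exact ⟨d - s - 1, by omega⟩
    obtain ⟨Q₁, hQ₁, X₁, hX₁, hμ₁⟩ := exists_unip (F := F) h2 {a} (by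
        intro b hb
        rw [Multiset.mem_singleton] at hb
        rw [hb]
        exact hpos a ha) (by
        intro e he
        have : e ≠ a := by
          rintro rfl
          exact (Nat.not_even_iff_odd.2 hao) he
        rw [Multiset.count_singleton, if_neg this]
        exact Even.zero) (κ := Fin a) (by rw [Multiset.sum_singleton, Fintype.card_fin])
    obtain ⟨Q₂, hQ₂, X₂, hX₂, hμ₂⟩ := exists_unip (F := F) h2 μ' (by
        intro b hb
        exact hpos b (Multiset.mem_cons_of_mem hb)) (by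
        intro e he
        have h1 : e ≠ a := by
          rintro rfl
          exact (Nat.not_even_iff_odd.2 hao) he
        have := hpar e he
        rwa [Multiset.count_cons_of_ne h1] at this) (κ := Fin (2 * d - a))
        (by rw [hsum', Fintype.card_fin])
    have hcard : Fintype.card (Fin a ⊕ Fin (2 * d - a)) = 2 * d := by
      rw [Fintype.card_sum, Fintype.card_fin, Fintype.card_fin]
      omega
    have key : ∀ c : F, c ≠ 0 → IsHyp (QuadraticMap.prod Q₁ (c • Q₂)) →
        ∃ Y : Module.End F (κ → F), (∀ v, Q (Y v) = Q v) ∧ HasType (Y - 1) (a ::ₘ μ') := by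
      intro c hc hHc
      have hnd : (polarBilin (QuadraticMap.prod Q₁ (c • Q₂))).Nondegenerate :=
        nondeg_prod _ _ hQ₁ (Cfsg.Agent.Helper17.Spinor.nondegenerate_smul Q₂ hc hQ₂)
      have hdim : finrank F ((Fin a → F) × (Fin (2 * d - a) → F)) = finrank F (κ → F) := by
        rw [Module.finrank_prod, Module.finrank_fintype_fun_eq_card,
          Module.finrank_fintype_fun_eq_card, hfinQ, Fintype.card_fin, Fintype.card_fin]
        omega
      obtain ⟨g, hg⟩ := equiv_of_type (QuadraticMap.prod Q₁ (c • Q₂)) Q hnd hQ hdim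
        (by rw [hdim, hfinQ]; exact ⟨d, by ring⟩) (iff_of_true hHc hH)
      refine exists_of_similar (QuadraticMap.prod Q₁ (c • Q₂)) Q 1 g
        (fun v => by rw [hg, one_mul]) (X₁.prodMap X₂) ?_ ?_
      · rintro ⟨u, v⟩
        rw [LinearMap.prodMap_apply, QuadraticMap.prod_apply, QuadraticMap.prod_apply,
          QuadraticMap.smul_apply, QuadraticMap.smul_apply, hX₁, hX₂]
      · rw [prodMap_sub_one]
        have := HasType.prodMap hμ₁ hμ₂
        rwa [Multiset.singleton_add] at this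
    have hiff : ∀ c : F, c ≠ 0 → (IsHyp (QuadraticMap.prod Q₁ (c • Q₂)) ↔
        IsSquare ((-1 : F) ^ d *
          ((Matrix.of fun i j => polar Q₁ (Pi.basisFun F (Fin a) i) (Pi.basisFun F (Fin a) j)).det *
          (c ^ (2 * d - a) * (Matrix.of fun i j => polar Q₂ (Pi.basisFun F (Fin (2 * d - a)) i)
            (Pi.basisFun F (Fin (2 * d - a)) j)).det)))) := by
      intro c hc
      have hnd : (polarBilin (QuadraticMap.prod Q₁ (c • Q₂))).Nondegenerate :=
        nondeg_prod _ _ hQ₁ (Cfsg.Agent.Helper17.Spinor.nondegenerate_smul Q₂ hc hQ₂)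
      rw [OrthTy.isHyp_iff_gram h2 _ hnd
        ((Pi.basisFun F (Fin a)).prod (Pi.basisFun F (Fin (2 * d - a)))) d hcard,
        gram_det_prod, gram_det_smul, Fintype.card_fin]
    have hD₁ := gram_det_ne_zero Q₁ (Pi.basisFun F (Fin a)) hQ₁
    have hD₂ := gram_det_ne_zero Q₂ (Pi.basisFun F (Fin (2 * d - a))) hQ₂
    generalize (Matrix.of fun i j => polar Q₁ (Pi.basisFun F (Fin a) i)
      (Pi.basisFun F (Fin a) j)).det = D₁ at hiff hD₁
    generalize (Matrix.of fun i j => polar Q₂ (Pi.basisFun F (Fin (2 * d - a)) i)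
      (Pi.basisFun F (Fin (2 * d - a)) j)).det = D₂ at hiff hD₂
    by_cases hsq : IsSquare ((-1 : F) ^ d * D₁ * D₂)
    · apply key 1 one_ne_zero
      rw [hiff 1 one_ne_zero, one_pow, one_mul, ← mul_assoc]
      exact hsq
    · have hF : ringChar F ≠ 2 := by
        intro h
        apply h2
        have := ringChar.Nat.cast_ringChar (R := F)
        rw [h] at this
        exact_mod_cast this
      obtain ⟨ε, hε⟩ := FiniteField.exists_nonsquare hF
      have hε0 : ε ≠ 0 := by
        rintro rfl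
        exact hε IsSquare.zero
      apply key ε hε0
      rw [hiff ε hε0]
      have e0 : ε ^ (2 * d - a) = ε ^ (2 * t + 1) := congrArg (fun n => ε ^ n) ht
      have e : (-1 : F) ^ d * (D₁ * (ε ^ (2 * d - a) * D₂)) =
          (ε ^ t) ^ 2 * ((-1 : F) ^ d * D₁ * D₂ * ε) := by
        rw [e0]
        ring
      rw [e, isSquare_mul_sq_iff _ _ (pow_ne_zero _ hε0), isSquare_mul_nonsquare _ hε]
      · exact hsq
      · exact mul_ne_zero (mul_ne_zero (pow_ne_zero _ (neg_ne_zero.2 one_ne_zero)) hD₁) hD₂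
  · -- all parts even
    push Not at hodd
    have hall : ∀ a ∈ μ, 2 ∣ μ.count a := by
      intro a ha
      have := hpar a (Nat.not_odd_iff_even.1 (hodd a ha))
      exact even_iff_two_dvd.1 this
    obtain ⟨ν, rfl⟩ := Multiset.exists_smul_of_dvd_count μ hall
    have e2 : 2 • ν = ν + ν := two_nsmul ν
    rw [e2] at hsum hpos ⊢
    rw [Multiset.sum_add] at hsum
    have hνsum : ν.sum = d := by omega
    obtain ⟨Y₀, hY₀, hμ₀⟩ := exists_unip_double (F := F) ν
      (fun a ha => hpos a (Multiset.mem_add.2 (Or.inl ha))) d hνsum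
    have hdim : finrank F ((Fin d → F) × (Fin d → F)) = finrank F (κ → F) := by
      rw [Module.finrank_prod, Module.finrank_fintype_fun_eq_card, hfinQ, Fintype.card_fin]
      ring
    obtain ⟨g, hg⟩ := equiv_of_type (OrthTs.hypQ (Fin d) F) Q OrthTs.hypQ_nondeg hQ hdim
      (by rw [hdim, hfinQ]; exact ⟨d, by ring⟩) (iff_of_true isHyp_hypQ hH)
    exact exists_of_similar (OrthTs.hypQ (Fin d) F) Q 1 g
      (fun v => by rw [hg, one_mul]) Y₀ hY₀ hμ₀

end plus

end Cfsg.Agent.Helper13.OrthJp
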