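import Mathlib
import Cfsg.Agent.Lib.Helper13.OrthJp5
import Cfsg.Agent.Lib.Helper2.OrthOrders

set_option autoImplicit false
set_option linter.unusedSectionVars false

/-!
# Elements of order `p` of orthogonal groups fixing nondegenerate subspaces: necessary conditions
-/

namespace Cfsg.Agent.Helper13.OrthJp

open Module Matrix QuadraticMap Cfsg.Agent.Helper13 Cfsg.Agent.Helper13.OrthSS
open scoped MatrixGroups

section plusmain
variable {F : Type*} [Field F] [Fintype F] {p : ℕ} [Fact p.Prime] [CharP F p]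
  {κ : Type} [Fintype κ] [DecidableEq κ]

theorem p_ne_two_of (h2 : (2 : F) ≠ 0) : p ≠ 2 := by
  rintro rfl
  apply h2
  have := CharP.cast_eq_zero F 2
  exact_mod_cast this

/-- the necessary condition for hyperbolic spaces -/
theorem plus_main (h2 : (2 : F) ≠ 0) (d m : ℕ) (hd : 3 ≤ d) (Q : QuadraticForm F (κ → F))
    (hQ : (polarBilin Q).Nondegenerate) (hκ : Fintype.card κ = 2 * d) (hH : IsHyp Q)
    (hm : m ≤ 2 * d)
    (H : ∀ x : GL κ F, x ∈ Cfsg.Geo.omegaGL (⇑Q) →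
      (∃ z : F, ((x ^ p : GL κ F) : Matrix κ κ F) = z • (1 : Matrix κ κ F)) →
      (∀ z : F, (x : Matrix κ κ F) ≠ z • (1 : Matrix κ κ F)) →
      ∃ W : Submodule F (κ → F), (finrank F W = m ∧
        Cfsg.Geo.IsNondegenerateOn (QuadraticMap.polar (⇑Q)) W ∧ Cfsg.Geo.IsPlusTypeOn (⇑Q) W) ∧
        W.map (Matrix.toLin' (x : Matrix κ κ F)) ≤ W)
    (μ : Multiset ℕ) (hμ : ∀ e ∈ μ, 0 < e ∧ e ≤ p) (hpar : ∀ e, Even e → Even (μ.count e))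
    (hsum : μ.sum = 2 * d) :
    ∃ ν : Multiset ℕ, ν ≤ μ ∧ ν.sum = m ∧ ∀ e, Even e → Even (ν.count e) := by
  have hp : p.Prime := Fact.out
  have hp2 : p ≠ 2 := p_ne_two_of (F := F) h2
  by_cases hall : ∀ a ∈ μ, a = 1
  · exact all_ones_case μ hall m (by omega)
  push Not at hall
  obtain ⟨a, ha, ha1⟩ := hall
  have ha2 : 2 ≤ a := by
    have := (hμ a ha).1
    omega
  obtain ⟨Y, hY, hYμ⟩ := exists_unip_plus h2 d Q hQ hκ hH μ (fun a ha => (hμ a ha).1) hpar hsum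
  have hex : Fintype.card F ≠ 2 ∨ Fintype.card κ ≠ 4 := by
    right
    omega
  obtain ⟨x, hxΩ, hxp, hxQ, hxμ⟩ := exists_gl_of_unip Q hQ hex hp2 Y hY hYμ
    (fun a ha => (hμ a ha).2)
  obtain ⟨W, ⟨hWm, hWnd, -⟩, hinv⟩ := H x hxΩ ⟨1, by rw [hxp, one_smul]; rfl⟩ (by
    intro z hz
    apply not_smul_of_hasType hxμ a ha ha2 (z - 1)
    rw [hz, map_smul, Matrix.toLin'_one]
    apply LinearMap.ext
    intro v
    simp [sub_smul])
  exact sub_type_of_gl h2 Q x hxQ hxμ m W hWm hWnd hinv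

end plusmain

section stmts
variable {F : Type*} [Field F] [Fintype F] {p : ℕ} [Fact p.Prime] [CharP F p]

theorem two_ne_zero_of_odd {q : ℕ} (hq : Fintype.card F = q) (hqodd : Odd q) : (2 : F) ≠ 0 := by
  intro h2
  obtain ⟨k, hk⟩ := hqodd
  have h1 : ((Fintype.card F : ℕ) : F) = 0 := Nat.cast_card_eq_zero F
  rw [hq, hk] at h1
  push_cast at h1
  rw [h2, zero_mul, zero_add] at h1
  exact one_ne_zero h1

theorem odd_stmt {q : ℕ} (hq : Fintype.card F = q) (hqodd : Odd q)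
    (d m : ℕ) (hd : 3 ≤ d) (hm : 2 ≤ m) (hme : Even m) (hmn : m ≤ 2 * d) :
    (∀ x : GL (Unit ⊕ (Fin d ⊕ Fin d)) F, x ∈ Cfsg.Geo.omegaGL (Cfsg.quadFormOdd d F) → orderOf x = p →
      ∃ W : Submodule F (Unit ⊕ (Fin d ⊕ Fin d) → F), (Module.finrank F ↥W = m ∧ Cfsg.Geo.IsNondegenerateOn (QuadraticMap.polar (Cfsg.quadFormOdd d F)) W ∧ Cfsg.Geo.IsPlusTypeOn (Cfsg.quadFormOdd d F) W) ∧ W.map (Matrix.toLin' (x : Matrix (Unit ⊕ (Fin d ⊕ Fin d)) (Unit ⊕ (Fin d ⊕ Fin d)) F)) ≤ W) →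
    (m % 4 = 0 ∧ (∀ μ : Multiset ℕ, (∀ e ∈ μ, 0 < e ∧ e ≤ p) → (∀ e : ℕ, Even e → Even (μ.count e)) → μ.sum = 2 * d + 1 →
        ∃ ν : Multiset ℕ, ν ≤ μ ∧ ν.sum = m ∧ ∀ e : ℕ, Even e → Even (ν.count e))) := by
  intro H
  have hp : p.Prime := Fact.out
  have h2 : (2 : F) ≠ 0 := two_ne_zero_of_odd hq hqodd
  have hp2 : p ≠ 2 := p_ne_two_of (F := F) h2
  have hp3 : 3 ≤ p := by
    have := hp.two_le
    omega
  rw [Cfsg.Agent.Helper2.Orth.quadFormOdd_eq d] at H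
  have hQ := Cfsg.Agent.Helper2.Orth.nondeg_odd (F := F) d h2
  have hκ : Fintype.card (Unit ⊕ (Fin d ⊕ Fin d)) = 2 * d + 1 := by
    rw [Fintype.card_sum, Fintype.card_sum, Fintype.card_fin, Fintype.card_unit]
    ring
  have hmain : ∀ μ : Multiset ℕ, (∀ e ∈ μ, 0 < e ∧ e ≤ p) →
      (∀ e : ℕ, Even e → Even (μ.count e)) → μ.sum = 2 * d + 1 →
      ∃ ν : Multiset ℕ, ν ≤ μ ∧ ν.sum = m ∧ ∀ e : ℕ, Even e → Even (ν.count e) := by
    intro μ h1 h2' h3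
    exact odd_main h2 _ hQ (by rw [hκ]; exact ⟨d, rfl⟩) m (by rw [hκ]; omega) H μ h1 h2'
      (by rw [h3, hκ])
  exact ⟨mod_four d m p hp3 hme hmain (by omega), hmain⟩

theorem plus_stmt {q : ℕ} (hq : Fintype.card F = q) (hqodd : Odd q)
    (d m : ℕ) (hd : 4 ≤ d) (hm : 2 ≤ m) (hme : Even m) (hmd : m < d) :
    (∀ x : GL (Fin d ⊕ Fin d) F, x ∈ Cfsg.Geo.omegaGL (Cfsg.quadFormPlus d F) →
      (∃ z : F, ((x ^ p : GL (Fin d ⊕ Fin d) F) : Matrix (Fin d ⊕ Fin d) (Fin d ⊕ Fin d) F) = z • (1 : Matrix (Fin d ⊕ Fin d) (Fin d ⊕ Fin d) F)) →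
      (∀ z : F, (x : Matrix (Fin d ⊕ Fin d) (Fin d ⊕ Fin d) F) ≠ z • (1 : Matrix (Fin d ⊕ Fin d) (Fin d ⊕ Fin d) F)) →
      ∃ W : Submodule F (Fin d ⊕ Fin d → F), (Module.finrank F ↥W = m ∧ Cfsg.Geo.IsNondegenerateOn (QuadraticMap.polar (Cfsg.quadFormPlus d F)) W ∧ Cfsg.Geo.IsPlusTypeOn (Cfsg.quadFormPlus d F) W) ∧ W.map (Matrix.toLin' (x : Matrix (Fin d ⊕ Fin d) (Fin d ⊕ Fin d) F)) ≤ W) →
    (∀ μ : Multiset ℕ, (∀ e ∈ μ, 0 < e ∧ e ≤ p) → (∀ e : ℕ, Even e → Even (μ.count e)) → μ.sum = 2 * d →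
        ∃ ν : Multiset ℕ, ν ≤ μ ∧ ν.sum = m ∧ ∀ e : ℕ, Even e → Even (ν.count e)) := by
  intro H μ h1 h2' h3
  have h2 : (2 : F) ≠ 0 := two_ne_zero_of_odd hq hqodd
  rw [Cfsg.Agent.Helper2.Orth.quadFormPlus_eq d] at H
  have hQ := Cfsg.Agent.Helper2.Orth.nondeg_plus (F := F) d
  have hκ : Fintype.card (Fin d ⊕ Fin d) = 2 * d := by
    rw [Fintype.card_sum, Fintype.card_fin]
    ring
  exact plus_main h2 d m (by omega) _ hQ hκ (isHyp_plusMat d) (by omega) H μ h1 h2' h3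

end stmts

end Cfsg.Agent.Helper13.OrthJp
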