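import Mathlib
import Cfsg.Agent.Lib.Helper13.OrthJp5

set_option autoImplicit false
set_option linter.unusedSectionVars false

/-!
# Unipotent isometries: refinements (type of the restriction, blocks of size two, elliptic spaces)
-/

namespace Cfsg.Agent.Helper13.OrthJp

open Module Matrix QuadraticMap Cfsg.Agent.Helper13 Cfsg.Agent.Helper13.OrthSS

section core
variable {F : Type*} [Field F] {V : Type*} [AddCommGroup V] [Module F V] [FiniteDimensional F V]

/-- refined version of `sub_type_of_invariant`: the sub-partition is the type of the restriction -/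
theorem sub_type_of_invariant' (h2 : (2 : F) ≠ 0) (Q : QuadraticForm F V) (X : Module.End F V)
    (hXQ : ∀ v, Q (X v) = Q v) (hnil : IsNilpotent (X - 1)) {μ : Multiset ℕ}
    (hμ : HasType (X - 1) μ) (W : Submodule F V)
    (hW : ∀ w ∈ W, w ≠ 0 → ∃ x ∈ W, polar Q x w ≠ 0) (hXW : ∀ w ∈ W, X w ∈ W)
    (hN1 : ∀ w ∈ W, (X - 1) w ∈ W) :
    ∃ ν : Multiset ℕ, ν ≤ μ ∧ HasType ((X - 1).restrict hN1) ν ∧
      ∀ e, Even e → Even (ν.count e) := by
  classical
  have hrefl : LinearMap.BilinForm.IsRefl (polarBilin Q) := by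
    intro x y h
    rw [polarBilin_apply_apply, polar_comm]
    exact h
  have hQW : (polarBilin (Q.comp W.subtype)).Nondegenerate := by
    apply nondeg_of_polar
    intro x hx
    by_contra hne
    have hne' : (x : V) ≠ 0 := fun h => hne (Subtype.ext h)
    obtain ⟨y, hy, hxy⟩ := hW x x.2 hne'
    apply hxy
    have := hx ⟨y, hy⟩
    rw [polar_comm] at this
    exact this
  have hres : (LinearMap.BilinForm.restrict (polarBilin Q) W).Nondegenerate := by
    have e : LinearMap.BilinForm.restrict (polarBilin Q) W = polarBilin (Q.comp W.subtype) := by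
      ext x y
      rfl
    rw [e]
    exact hQW
  have hcompl : IsCompl W (LinearMap.BilinForm.orthogonal (polarBilin Q) W) :=
    LinearMap.BilinForm.isCompl_orthogonal_of_restrict_nondegenerate hrefl hres
  have hXpolar : ∀ a b, polar Q (X a) (X b) = polar Q a b := by
    intro a b
    unfold polar
    rw [← map_add, hXQ, hXQ, hXQ]
  have hXu : IsUnit X := by
    have := IsNilpotent.isUnit_one_add hnil
    rwa [add_sub_cancel] at this
  have hXinj : Function.Injective X := ((Module.End.isUnit_iff X).1 hXu).1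
  have hXWinj : Function.Injective (X.restrict hXW) := by
    intro a b hab
    apply Subtype.ext
    apply hXinj
    have := congrArg (Subtype.val) hab
    rwa [LinearMap.coe_restrict_apply, LinearMap.coe_restrict_apply] at this
  have hXWsurj : Function.Surjective (X.restrict hXW) :=
    LinearMap.injective_iff_surjective.1 hXWinj
  have hXW' : ∀ u ∈ LinearMap.BilinForm.orthogonal (polarBilin Q) W,
      X u ∈ LinearMap.BilinForm.orthogonal (polarBilin Q) W := by
    intro u hu
    rw [LinearMap.BilinForm.mem_orthogonal_iff]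
    intro w hw
    obtain ⟨w', hw'⟩ := hXWsurj ⟨w, hw⟩
    have e : w = X (w' : V) := by
      have := congrArg (Subtype.val) hw'
      rw [LinearMap.coe_restrict_apply] at this
      exact this.symm
    show polarBilin Q w (X u) = 0
    rw [polarBilin_apply_apply, e, hXpolar]
    exact hu _ w'.2
  have hN2 : ∀ u ∈ LinearMap.BilinForm.orthogonal (polarBilin Q) W,
      (X - 1) u ∈ LinearMap.BilinForm.orthogonal (polarBilin Q) W := by
    intro u hu
    rw [LinearMap.sub_apply, Module.End.one_apply]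
    exact Submodule.sub_mem _ (hXW' u hu) hu
  obtain ⟨ν, hν⟩ := exists_hasType _ (isNilpotent_restrict hnil hN1)
  obtain ⟨ν', hν'⟩ := exists_hasType _ (isNilpotent_restrict hnil hN2)
  have hsum := HasType.add hcompl hN1 hN2 hν hν'
  have hμeq : μ = ν + ν' := hμ.unique hsum
  refine ⟨ν, ?_, hν, ?_⟩
  · rw [hμeq]
    exact Multiset.le_add_right _ _
  · intro e he
    rcases Nat.eq_zero_or_pos e with h0 | hpos
    · have : ν.count e = 0 := by
        rw [Multiset.count_eq_zero]
        intro hmem
        have := hν.1 e hmem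
        omega
      rw [this]
      exact Even.zero
    · have e1 : (X - 1 : Module.End F V).restrict hN1 = X.restrict hXW - 1 := by
        ext w
        rfl
      have hν2 := hν
      rw [e1] at hν2
      refine HasType.even_count h2 (Q.comp W.subtype) hQW (X.restrict hXW) ?_ ?_ hν2 e he hpos
      · intro w
        rw [QuadraticMap.comp_apply, QuadraticMap.comp_apply, Submodule.subtype_apply,
          LinearMap.coe_restrict_apply, hXQ]
        rfl
      · rw [← e1]
        exact isNilpotent_restrict hnil hN1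

/-- the image of `X - 1` is totally singular on a subspace where `(X - 1)² = 0` -/
theorem ts_of_sq_zero (h2 : (2 : F) ≠ 0) (Q : QuadraticForm F V) (X : Module.End F V)
    (hXQ : ∀ v, Q (X v) = Q v) (w : V) (hw : (X - 1) ((X - 1) w) = 0) : Q ((X - 1) w) = 0 := by
  have hXpolar : ∀ a b, polar Q (X a) (X b) = polar Q a b := by
    intro a b
    unfold polar
    rw [← map_add, hXQ, hXQ, hXQ]
  have e1 : X w = w + (X - 1) w := by
    rw [LinearMap.sub_apply, Module.End.one_apply]
    abel
  have e2 : X ((X - 1) w) = (X - 1) w := by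
    have : X ((X - 1) w) = (X - 1) w + (X - 1) ((X - 1) w) := by
      rw [LinearMap.sub_apply X 1 ((X - 1) w), Module.End.one_apply]
      abel
    rw [this, hw, add_zero]
  have h3 := hXpolar w ((X - 1) w)
  rw [e2, e1, polar_add_left] at h3
  have h4 : polar Q ((X - 1) w) ((X - 1) w) = 0 := by
    have := h3
    linear_combination this
  rw [polar_self, two_smul, ← two_mul] at h4
  rcases mul_eq_zero.1 h4 with h | h
  · exact absurd h h2
  · exact h

/-- a restriction of type `(2^c)` is of plus type -/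
theorem plus_of_all_two (h2 : (2 : F) ≠ 0) (Q : QuadraticForm F V) (X : Module.End F V)
    (hXQ : ∀ v, Q (X v) = Q v) (W : Submodule F V) (hN1 : ∀ w ∈ W, (X - 1) w ∈ W) (c : ℕ)
    (h : HasType ((X - 1).restrict hN1) (Multiset.replicate c 2)) :
    ∃ U : Submodule F V, U ≤ W ∧ (∀ u ∈ U, Q u = 0) ∧ 2 * finrank F U = finrank F W := by
  have hsq : ((X - 1).restrict hN1) ^ 2 = 0 := h.pow_eq_zero 2 (by
    intro a ha
    rw [Multiset.eq_of_mem_replicate ha])
  refine ⟨(LinearMap.range ((X - 1).restrict hN1)).map W.subtype, ?_, ?_, ?_⟩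
  · rintro _ ⟨w, -, rfl⟩
    exact w.2
  · rintro _ ⟨_, ⟨w, rfl⟩, rfl⟩
    rw [Submodule.subtype_apply, LinearMap.coe_restrict_apply]
    apply ts_of_sq_zero h2 Q X hXQ
    have := congrArg (fun f => ((f w : W) : V)) hsq
    simp only [pow_two, Module.End.mul_apply, LinearMap.coe_restrict_apply,
      LinearMap.zero_apply, ZeroMemClass.coe_zero] at this
    exact this
  · have h1 := h.2 1
    rw [pow_one] at h1
    have h3 := h.sum
    rw [Submodule.finrank_map_subtype_eq, h1, ← h3, Multiset.map_replicate,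
      Multiset.sum_replicate, Multiset.sum_replicate, smul_eq_mul, smul_eq_mul]
    omega

end core

section oddpart
variable {F : Type*} [Field F] [Fintype F]
  {κ : Type} [Fintype κ] [DecidableEq κ]

/-- in an even-dimensional space of either type every valid type with an odd part occurs -/
theorem exists_unip_odd_part (h2 : (2 : F) ≠ 0) (d : ℕ) (Q : QuadraticForm F (κ → F))
    (hQ : (polarBilin Q).Nondegenerate) (hκ : Fintype.card κ = 2 * d)
    (μ : Multiset ℕ) (hpos : ∀ a ∈ μ, 0 < a) (hpar : ∀ e, Even e → Even (μ.count e))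
    (hsum : μ.sum = 2 * d) (hodd : ∃ a ∈ μ, Odd a) :
    ∃ Y : Module.End F (κ → F), (∀ v, Q (Y v) = Q v) ∧ HasType (Y - 1) μ := by
  classical
  have hfinQ : finrank F (κ → F) = 2 * d := by
    rw [Module.finrank_fintype_fun_eq_card, hκ]
  obtain ⟨a, ha, hao⟩ := hodd
  obtain ⟨μ', rfl⟩ := Multiset.exists_cons_of_mem ha
  rw [Multiset.sum_cons] at hsum
  have hsum' : μ'.sum = 2 * d - a := by omega
  obtain ⟨t, ht⟩ : ∃ t, 2 * d - a = 2 * t + 1 := by
    obtain ⟨s, hs⟩ := hao
    exact ⟨d - s - 1, by omega⟩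
  obtain ⟨Q₁, hQ₁, X₁, hX₁, hμ₁⟩ := exists_unip (F := F) h2 {a} (by
      intro b hb
      rw [Multiset.mem_singleton] at hb
      rw [hb]
      exact hpos a ha) (by
      intro e he
      have : e ≠ a := by
        rintro rfl
        exact (Nat.not_even_iff_odd.2 hao) he
      rw [Multiset.count_singleton, if_neg this]
      exact Even.zero) (κ := Fin a) (by rw [Multiset.sum_singleton, Fintype.card_fin])
  obtain ⟨Q₂, hQ₂, X₂, hX₂, hμ₂⟩ := exists_unip (F := F) h2 μ' (by
      intro b hb
      exact hpos b (Multiset.mem_cons_of_mem hb)) (by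
      intro e he
      have h1 : e ≠ a := by
        rintro rfl
        exact (Nat.not_even_iff_odd.2 hao) he
      have := hpar e he
      rwa [Multiset.count_cons_of_ne h1] at this) (κ := Fin (2 * d - a))
      (by rw [hsum', Fintype.card_fin])
  have hcard : Fintype.card (Fin a ⊕ Fin (2 * d - a)) = 2 * d := by
    rw [Fintype.card_sum, Fintype.card_fin, Fintype.card_fin]
    omega
  have key : ∀ c : F, c ≠ 0 → (IsHyp (QuadraticMap.prod Q₁ (c • Q₂)) ↔ IsHyp Q) →
      ∃ Y : Module.End F (κ → F), (∀ v, Q (Y v) = Q v) ∧ HasType (Y - 1) (a ::ₘ μ') := by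
    intro c hc hHc
    have hnd : (polarBilin (QuadraticMap.prod Q₁ (c • Q₂))).Nondegenerate :=
      nondeg_prod _ _ hQ₁ (Cfsg.Agent.Helper17.Spinor.nondegenerate_smul Q₂ hc hQ₂)
    have hdim : finrank F ((Fin a → F) × (Fin (2 * d - a) → F)) = finrank F (κ → F) := by
      rw [Module.finrank_prod, Module.finrank_fintype_fun_eq_card,
        Module.finrank_fintype_fun_eq_card, hfinQ, Fintype.card_fin, Fintype.card_fin]
      omega
    obtain ⟨g, hg⟩ := equiv_of_type (QuadraticMap.prod Q₁ (c • Q₂)) Q hnd hQ hdim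
      (by rw [hdim, hfinQ]; exact ⟨d, by ring⟩) hHc
    refine exists_of_similar (QuadraticMap.prod Q₁ (c • Q₂)) Q 1 g
      (fun v => by rw [hg, one_mul]) (X₁.prodMap X₂) ?_ ?_
    · rintro ⟨u, v⟩
      rw [LinearMap.prodMap_apply, QuadraticMap.prod_apply, QuadraticMap.prod_apply,
        QuadraticMap.smul_apply, QuadraticMap.smul_apply, hX₁, hX₂]
    · rw [prodMap_sub_one]
      have := HasType.prodMap hμ₁ hμ₂
      rwa [Multiset.singleton_add] at this
  have hiff : ∀ c : F, c ≠ 0 → (IsHyp (QuadraticMap.prod Q₁ (c • Q₂)) ↔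
      IsSquare ((-1 : F) ^ d *
        ((Matrix.of fun i j => polar Q₁ (Pi.basisFun F (Fin a) i) (Pi.basisFun F (Fin a) j)).det *
        (c ^ (2 * d - a) * (Matrix.of fun i j => polar Q₂ (Pi.basisFun F (Fin (2 * d - a)) i)
          (Pi.basisFun F (Fin (2 * d - a)) j)).det)))) := by
    intro c hc
    have hnd : (polarBilin (QuadraticMap.prod Q₁ (c • Q₂))).Nondegenerate :=
      nondeg_prod _ _ hQ₁ (Cfsg.Agent.Helper17.Spinor.nondegenerate_smul Q₂ hc hQ₂)
    rw [OrthTy.isHyp_iff_gram h2 _ hnd
      ((Pi.basisFun F (Fin a)).prod (Pi.basisFun F (Fin (2 * d - a)))) d hcard,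
      gram_det_prod, gram_det_smul, Fintype.card_fin]
  have hD₁ := gram_det_ne_zero Q₁ (Pi.basisFun F (Fin a)) hQ₁
  have hD₂ := gram_det_ne_zero Q₂ (Pi.basisFun F (Fin (2 * d - a))) hQ₂
  generalize (Matrix.of fun i j => polar Q₁ (Pi.basisFun F (Fin a) i)
    (Pi.basisFun F (Fin a) j)).det = D₁ at hiff hD₁
  generalize (Matrix.of fun i j => polar Q₂ (Pi.basisFun F (Fin (2 * d - a)) i)
    (Pi.basisFun F (Fin (2 * d - a)) j)).det = D₂ at hiff hD₂
  have hF : ringChar F ≠ 2 := by
    intro h
    apply h2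
    have := ringChar.Nat.cast_ringChar (R := F)
    rw [h] at this
    exact_mod_cast this
  obtain ⟨ε, hε⟩ := FiniteField.exists_nonsquare hF
  have hε0 : ε ≠ 0 := by
    rintro rfl
    exact hε IsSquare.zero
  have h1 : IsHyp (QuadraticMap.prod Q₁ ((1 : F) • Q₂)) ↔ IsSquare ((-1 : F) ^ d * D₁ * D₂) := by
    rw [hiff 1 one_ne_zero, one_pow, one_mul, ← mul_assoc]
  have hε' : IsHyp (QuadraticMap.prod Q₁ (ε • Q₂)) ↔ ¬ IsSquare ((-1 : F) ^ d * D₁ * D₂) := by
    rw [hiff ε hε0]
    have e0 : ε ^ (2 * d - a) = ε ^ (2 * t + 1) := congrArg (fun n => ε ^ n) ht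
    have e : (-1 : F) ^ d * (D₁ * (ε ^ (2 * d - a) * D₂)) =
        (ε ^ t) ^ 2 * ((-1 : F) ^ d * D₁ * D₂ * ε) := by
      rw [e0]
      ring
    rw [e, isSquare_mul_sq_iff _ _ (pow_ne_zero _ hε0), isSquare_mul_nonsquare _ hε]
    exact mul_ne_zero (mul_ne_zero (pow_ne_zero _ (neg_ne_zero.2 one_ne_zero)) hD₁) hD₂
  by_cases hsq : (IsSquare ((-1 : F) ^ d * D₁ * D₂) ↔ IsHyp Q)
  · exact key 1 one_ne_zero (h1.trans hsq)
  · apply key ε hε0
    rw [hε']
    constructor
    · intro h3
      by_contra h4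
      exact hsq ⟨fun h => absurd h h3, fun h => absurd h h4⟩
    · intro h3 h4
      exact hsq ⟨fun _ => h3, fun _ => h4⟩

end oddpart

end Cfsg.Agent.Helper13.OrthJp
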