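import Mathlib
import Cfsg.Agent.Lib.Helper13.OrthJp7
import Cfsg.Agent.Lib.Helper13.OrthJp6

set_option autoImplicit false
set_option linter.unusedSectionVars false

/-!
# Elements of order `p` of `PΩ⁻` fixing elliptic subspaces: necessary conditions
-/

namespace Cfsg.Agent.Helper13.OrthJp

open Module Matrix QuadraticMap Cfsg.Agent.Helper13 Cfsg.Agent.Helper13.OrthSS
open scoped MatrixGroups

section comb

theorem le_cons_cases {s t : Multiset ℕ} {a : ℕ} (h : s ≤ a ::ₘ t) :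
    s ≤ t ∨ ∃ s', s = a ::ₘ s' ∧ s' ≤ t := by
  classical
  by_cases ha : a ∈ s
  · right
    exact ⟨s.erase a, (Multiset.cons_erase ha).symm, Multiset.erase_le_iff_le_cons.2 h⟩
  · left
    exact (Multiset.le_cons_of_notMem ha).1 h

theorem even_sum_of_all_even {s : Multiset ℕ} (h : ∀ e ∈ s, Even e) : Even s.sum := by
  rw [even_iff_two_dvd]
  apply Multiset.dvd_sum
  intro e he
  exact even_iff_two_dvd.1 (h e he)

theorem sub_of_swap (μ₀ : Multiset ℕ) (a m : ℕ) (ha : Even a) (ha0 : 0 < a) (hme : Even m)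
    (hev : ∀ e ∈ μ₀, Even e)
    (h : ∃ ν : Multiset ℕ, ν ≤ (a + 1) ::ₘ (a - 1) ::ₘ μ₀ ∧ ν.sum = m ∧
      ∀ e, Even e → Even (ν.count e)) :
    ∃ ν : Multiset ℕ, ν ≤ a ::ₘ a ::ₘ μ₀ ∧ ν.sum = m ∧ ∀ e, Even e → Even (ν.count e) := by
  obtain ⟨ν, hle, hsum, hpar⟩ := h
  have hμ₀le : μ₀ ≤ a ::ₘ a ::ₘ μ₀ :=
    (Multiset.le_cons_self _ _).trans (Multiset.le_cons_self _ _)
  have hevs : ∀ s : Multiset ℕ, s ≤ μ₀ → Even s.sum := fun s hs =>
    even_sum_of_all_even (fun e he => hev e (Multiset.mem_of_le hs he))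
  obtain ⟨b, hb⟩ := ha
  rcases le_cons_cases hle with h1 | ⟨s', rfl, hs'⟩
  · rcases le_cons_cases h1 with h2 | ⟨s'', rfl, hs''⟩
    · exact ⟨ν, h2.trans hμ₀le, hsum, hpar⟩
    · exfalso
      rw [Multiset.sum_cons] at hsum
      obtain ⟨u, hu⟩ := hevs s'' hs''
      obtain ⟨v, hv⟩ := hme
      omega
  · rcases le_cons_cases hs' with h2 | ⟨s'', rfl, hs''⟩
    · exfalso
      rw [Multiset.sum_cons] at hsum
      obtain ⟨u, hu⟩ := hevs s' h2
      obtain ⟨v, hv⟩ := hme
      omega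
    · refine ⟨a ::ₘ a ::ₘ s'', Multiset.cons_le_cons _ (Multiset.cons_le_cons _ hs''), ?_, ?_⟩
      · rw [Multiset.sum_cons, Multiset.sum_cons] at hsum ⊢
        omega
      · intro e he
        have h0 := hpar e he
        have h1 : e ≠ a + 1 := by
          rintro rfl
          obtain ⟨u, hu⟩ := he
          omega
        have h2 : e ≠ a - 1 := by
          rintro rfl
          obtain ⟨u, hu⟩ := he
          omega
        rw [Multiset.count_cons_of_ne h1, Multiset.count_cons_of_ne h2] at h0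
        obtain ⟨u, hu⟩ := h0
        rw [Multiset.count_cons, Multiset.count_cons]
        by_cases hea : e = a
        · rw [if_pos hea]
          exact ⟨u + 1, by omega⟩
        · rw [if_neg hea]
          exact ⟨u, by omega⟩

theorem mod_four_even (d m : ℕ) (hme : Even m) (ν : Multiset ℕ)
    (hle : ν ≤ 3 ::ₘ 1 ::ₘ Multiset.replicate (d - 2) 2) (hsum : ν.sum = m)
    (hpar : Even (ν.count 2)) : m % 4 = 0 := by
  obtain ⟨v, hv⟩ := hme
  rcases le_cons_cases hle with h1 | ⟨s', rfl, hs'⟩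
  · rcases le_cons_cases h1 with h2 | ⟨s'', rfl, hs''⟩
    · obtain ⟨k, -, rfl⟩ := Multiset.le_replicate_iff.1 h2
      rw [Multiset.count_replicate_self] at hpar
      rw [Multiset.sum_replicate, smul_eq_mul] at hsum
      obtain ⟨u, hu⟩ := hpar
      omega
    · obtain ⟨k, -, rfl⟩ := Multiset.le_replicate_iff.1 hs''
      rw [Multiset.sum_cons, Multiset.sum_replicate, smul_eq_mul] at hsum
      omega
  · rcases le_cons_cases hs' with h2 | ⟨s'', rfl, hs''⟩
    · obtain ⟨k, -, rfl⟩ := Multiset.le_replicate_iff.1 h2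
      rw [Multiset.sum_cons, Multiset.sum_replicate, smul_eq_mul] at hsum
      omega
    · obtain ⟨k, -, rfl⟩ := Multiset.le_replicate_iff.1 hs''
      rw [Multiset.count_cons_of_ne (by decide), Multiset.count_cons_of_ne (by decide),
        Multiset.count_replicate_self] at hpar
      rw [Multiset.sum_cons, Multiset.sum_cons, Multiset.sum_replicate, smul_eq_mul] at hsum
      obtain ⟨u, hu⟩ := hpar
      omega

theorem mod_four_odd (d m : ℕ) (hme : Even m) (ν : Multiset ℕ)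
    (hle : ν ≤ 1 ::ₘ 1 ::ₘ Multiset.replicate (d - 1) 2) (hsum : ν.sum = m)
    (hpar : Even (ν.count 2)) (hnot : ¬ ∀ a ∈ ν, a = 2) : m % 4 = 2 := by
  obtain ⟨v, hv⟩ := hme
  rcases le_cons_cases hle with h1 | ⟨s', rfl, hs'⟩
  · rcases le_cons_cases h1 with h2 | ⟨s'', rfl, hs''⟩
    · exfalso
      obtain ⟨k, -, rfl⟩ := Multiset.le_replicate_iff.1 h2
      exact hnot (fun a ha => Multiset.eq_of_mem_replicate ha)
    · obtain ⟨k, -, rfl⟩ := Multiset.le_replicate_iff.1 hs''
      rw [Multiset.sum_cons, Multiset.sum_replicate, smul_eq_mul] at hsum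
      omega
  · rcases le_cons_cases hs' with h2 | ⟨s'', rfl, hs''⟩
    · obtain ⟨k, -, rfl⟩ := Multiset.le_replicate_iff.1 h2
      rw [Multiset.sum_cons, Multiset.sum_replicate, smul_eq_mul] at hsum
      omega
    · obtain ⟨k, -, rfl⟩ := Multiset.le_replicate_iff.1 hs''
      rw [Multiset.count_cons_of_ne (by decide), Multiset.count_cons_of_ne (by decide),
        Multiset.count_replicate_self] at hpar
      rw [Multiset.sum_cons, Multiset.sum_cons, Multiset.sum_replicate, smul_eq_mul] at hsum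
      obtain ⟨u, hu⟩ := hpar
      omega

end comb

section minus
variable {F : Type*} [Field F] [Fintype F] {p : ℕ} [Fact p.Prime] [CharP F p]
  {κ : Type} [Fintype κ] [DecidableEq κ]

/-- one element of type `μ` (with an odd part) fixing an elliptic subspace -/
theorem minus_elem (h2 : (2 : F) ≠ 0) (d m : ℕ) (hd : 3 ≤ d) (Q : QuadraticForm F (κ → F))
    (hQ : (polarBilin Q).Nondegenerate) (hκ : Fintype.card κ = 2 * d)
    (H : ∀ x : GL κ F, x ∈ Cfsg.Geo.omegaGL (⇑Q) →
      (∃ z : F, ((x ^ p : GL κ F) : Matrix κ κ F) = z • (1 : Matrix κ κ F)) →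
      (∀ z : F, (x : Matrix κ κ F) ≠ z • (1 : Matrix κ κ F)) →
      ∃ W : Submodule F (κ → F), (finrank F W = m ∧
        Cfsg.Geo.IsNondegenerateOn (QuadraticMap.polar (⇑Q)) W ∧ ¬ Cfsg.Geo.IsPlusTypeOn (⇑Q) W) ∧
        W.map (Matrix.toLin' (x : Matrix κ κ F)) ≤ W)
    (μ : Multiset ℕ) (hμ : ∀ e ∈ μ, 0 < e ∧ e ≤ p) (hpar : ∀ e, Even e → Even (μ.count e))
    (hsum : μ.sum = 2 * d) (hodd : ∃ a ∈ μ, Odd a) (hbig : ∃ a ∈ μ, 2 ≤ a) :
    ∃ ν : Multiset ℕ, ν ≤ μ ∧ ν.sum = m ∧ (∀ e, Even e → Even (ν.count e)) ∧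
      ¬ ∀ a ∈ ν, a = 2 := by
  have hp : p.Prime := Fact.out
  have hp2 : p ≠ 2 := p_ne_two_of (F := F) h2
  obtain ⟨a, ha, ha2⟩ := hbig
  obtain ⟨Y, hY, hYμ⟩ := exists_unip_odd_part h2 d Q hQ hκ μ (fun a ha => (hμ a ha).1) hpar hsum
    hodd
  have hex : Fintype.card F ≠ 2 ∨ Fintype.card κ ≠ 4 := by
    right
    omega
  obtain ⟨x, hxΩ, hxp, hxQ, hxμ⟩ := exists_gl_of_unip Q hQ hex hp2 Y hY hYμ
    (fun a ha => (hμ a ha).2)
  obtain ⟨W, ⟨hWm, hWnd, hWminus⟩, hinv⟩ := H x hxΩ ⟨1, by rw [hxp, one_smul]; rfl⟩ (by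
    intro z hz
    apply not_smul_of_hasType hxμ a ha ha2 (z - 1)
    rw [hz, map_smul, Matrix.toLin'_one]
    apply LinearMap.ext
    intro v
    simp [sub_smul])
  have hXW : ∀ w ∈ W, Matrix.toLin' (x : Matrix κ κ F) w ∈ W := fun w hw =>
    hinv (Submodule.mem_map_of_mem hw)
  have hN1 : ∀ w ∈ W, (Matrix.toLin' (x : Matrix κ κ F) - 1) w ∈ W := by
    intro w hw
    rw [LinearMap.sub_apply, Module.End.one_apply]
    exact W.sub_mem (hXW w hw) hw
  obtain ⟨ν, hle, hν, hνpar⟩ := sub_type_of_invariant' h2 Q _ hxQ hxμ.isNilpotent hxμ W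
    (fun w hw hw0 => (hWnd w hw hw0).1) hXW hN1
  refine ⟨ν, hle, by rw [hν.sum, hWm], hνpar, ?_⟩
  intro hall
  apply hWminus
  have e : ν = Multiset.replicate (Multiset.card ν) 2 := Multiset.eq_replicate_card.2 hall
  rw [e] at hν
  obtain ⟨U, hUW, hUts, hUdim⟩ := plus_of_all_two h2 Q _ hxQ W hN1 _ hν
  exact ⟨U, hUW, hUts, hUdim⟩

/-- the necessary conditions for elliptic subspaces of an even-dimensional space -/
theorem minus_main (h2 : (2 : F) ≠ 0) (d m : ℕ) (hd : 3 ≤ d) (hme : Even m) (hm : m ≤ 2 * d)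
    (Q : QuadraticForm F (κ → F))
    (hQ : (polarBilin Q).Nondegenerate) (hκ : Fintype.card κ = 2 * d)
    (H : ∀ x : GL κ F, x ∈ Cfsg.Geo.omegaGL (⇑Q) →
      (∃ z : F, ((x ^ p : GL κ F) : Matrix κ κ F) = z • (1 : Matrix κ κ F)) →
      (∀ z : F, (x : Matrix κ κ F) ≠ z • (1 : Matrix κ κ F)) →
      ∃ W : Submodule F (κ → F), (finrank F W = m ∧
        Cfsg.Geo.IsNondegenerateOn (QuadraticMap.polar (⇑Q)) W ∧ ¬ Cfsg.Geo.IsPlusTypeOn (⇑Q) W) ∧
        W.map (Matrix.toLin' (x : Matrix κ κ F)) ≤ W) :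
    (2 * d) % 4 = m % 4 ∧
    ∀ μ : Multiset ℕ, (∀ e ∈ μ, 0 < e ∧ e ≤ p) → (∀ e : ℕ, Even e → Even (μ.count e)) →
      μ.sum = 2 * d →
      ∃ ν : Multiset ℕ, ν ≤ μ ∧ ν.sum = m ∧ ∀ e : ℕ, Even e → Even (ν.count e) := by
  classical
  have hp : p.Prime := Fact.out
  have hp2 : p ≠ 2 := p_ne_two_of (F := F) h2
  have hp3 : 3 ≤ p := by
    have := hp.two_le
    omega
  have hpodd : Odd p := hp.odd_of_ne_two hp2
  constructor
  · rcases Nat.even_or_odd d with hde | hdo
    · obtain ⟨ν, hle, hsum, hpar, -⟩ := minus_elem h2 d m hd Q hQ hκ H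
        (3 ::ₘ 1 ::ₘ Multiset.replicate (d - 2) 2) (by
          intro e he
          rcases Multiset.mem_cons.1 he with h | h
          · subst h
            omega
          · rcases Multiset.mem_cons.1 h with h | h
            · subst h
              omega
            · rw [Multiset.eq_of_mem_replicate h]
              omega) (by
          intro e he
          have h1 : e ≠ 3 := by
            rintro rfl
            exact absurd he (by decide)
          have h2 : e ≠ 1 := by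
            rintro rfl
            exact absurd he (by decide)
          rw [Multiset.count_cons_of_ne h1, Multiset.count_cons_of_ne h2,
            Multiset.count_replicate]
          split_ifs
          · obtain ⟨t, ht⟩ := hde
            exact ⟨t - 1, by omega⟩
          · exact Even.zero) (by
          rw [Multiset.sum_cons, Multiset.sum_cons, Multiset.sum_replicate, smul_eq_mul]
          omega) ⟨3, Multiset.mem_cons_self _ _, by decide⟩
          ⟨3, Multiset.mem_cons_self _ _, by omega⟩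
      have := mod_four_even d m hme ν hle hsum (hpar 2 (by decide))
      obtain ⟨t, ht⟩ := hde
      omega
    · obtain ⟨ν, hle, hsum, hpar, hnot⟩ := minus_elem h2 d m hd Q hQ hκ H
        (1 ::ₘ 1 ::ₘ Multiset.replicate (d - 1) 2) (by
          intro e he
          rcases Multiset.mem_cons.1 he with h | h
          · subst h
            omega
          · rcases Multiset.mem_cons.1 h with h | h
            · subst h
              omega
            · rw [Multiset.eq_of_mem_replicate h]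
              omega) (by
          intro e he
          have h2 : e ≠ 1 := by
            rintro rfl
            exact absurd he (by decide)
          rw [Multiset.count_cons_of_ne h2, Multiset.count_cons_of_ne h2,
            Multiset.count_replicate]
          split_ifs
          · obtain ⟨t, ht⟩ := hdo
            exact ⟨t, by omega⟩
          · exact Even.zero) (by
          rw [Multiset.sum_cons, Multiset.sum_cons, Multiset.sum_replicate, smul_eq_mul]
          omega) ⟨1, Multiset.mem_cons_self _ _, by decide⟩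
          ⟨2, Multiset.mem_cons_of_mem (Multiset.mem_cons_of_mem
            (Multiset.mem_replicate.2 ⟨by omega, rfl⟩)), le_refl 2⟩
      have := mod_four_odd d m hme ν hle hsum (hpar 2 (by decide)) hnot
      obtain ⟨t, ht⟩ := hdo
      omega
  · intro μ hμ hpar hsum
    by_cases hall : ∀ a ∈ μ, a = 1
    · exact all_ones_case μ hall m (by omega)
    push Not at hall
    obtain ⟨a₀, ha₀, ha₀1⟩ := hall
    have ha₀2 : 2 ≤ a₀ := by
      have := (hμ a₀ ha₀).1
      omega
    by_cases hodd : ∃ a ∈ μ, Odd a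
    · obtain ⟨ν, hle, hνsum, hνpar, -⟩ := minus_elem h2 d m hd Q hQ hκ H μ hμ hpar hsum hodd
        ⟨a₀, ha₀, ha₀2⟩
      exact ⟨ν, hle, hνsum, hνpar⟩
    · push Not at hodd
      have hev : ∀ e ∈ μ, Even e := fun e he => Nat.not_odd_iff_even.1 (hodd e he)
      have ha₀e : Even a₀ := hev a₀ ha₀
      obtain ⟨μ₁, rfl⟩ := Multiset.exists_cons_of_mem ha₀
      have hc := hpar a₀ ha₀e
      rw [Multiset.count_cons_self] at hc
      have ha₀' : a₀ ∈ μ₁ := by
        rw [← Multiset.count_pos]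
        obtain ⟨t, ht⟩ := hc
        omega
      obtain ⟨μ₀, rfl⟩ := Multiset.exists_cons_of_mem ha₀'
      have hale : a₀ + 1 ≤ p := by
        have := (hμ a₀ ha₀).2
        obtain ⟨t, ht⟩ := ha₀e
        obtain ⟨s, hs⟩ := hpodd
        omega
      apply sub_of_swap μ₀ a₀ m ha₀e (by omega) hme
        (fun e he => hev e (Multiset.mem_cons_of_mem (Multiset.mem_cons_of_mem he)))
      obtain ⟨ν, hle, hνsum, hνpar, -⟩ := minus_elem h2 d m hd Q hQ hκ H
        ((a₀ + 1) ::ₘ (a₀ - 1) ::ₘ μ₀) (by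
          intro e he
          rcases Multiset.mem_cons.1 he with h | h
          · subst h
            omega
          · rcases Multiset.mem_cons.1 h with h | h
            · subst h
              omega
            · exact hμ e (Multiset.mem_cons_of_mem (Multiset.mem_cons_of_mem h))) (by
          intro e he
          have h1 : e ≠ a₀ + 1 := by
            rintro rfl
            obtain ⟨u, hu⟩ := he
            obtain ⟨t, ht⟩ := ha₀e
            omega
          have h2 : e ≠ a₀ - 1 := by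
            rintro rfl
            obtain ⟨u, hu⟩ := he
            obtain ⟨t, ht⟩ := ha₀e
            omega
          rw [Multiset.count_cons_of_ne h1, Multiset.count_cons_of_ne h2]
          have h0 := hpar e he
          rw [Multiset.count_cons, Multiset.count_cons] at h0
          obtain ⟨u, hu⟩ := h0
          by_cases hea : e = a₀
          · rw [if_pos hea] at hu
            exact ⟨u - 1, by omega⟩
          · rw [if_neg hea] at hu
            exact ⟨u, by omega⟩) (by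
          rw [Multiset.sum_cons, Multiset.sum_cons] at hsum ⊢
          omega) ⟨a₀ + 1, Multiset.mem_cons_self _ _, by
            obtain ⟨t, ht⟩ := ha₀e
            exact ⟨t, by omega⟩⟩ ⟨a₀ + 1, Multiset.mem_cons_self _ _, by omega⟩
      exact ⟨ν, hle, hνsum, hνpar⟩

end minus

section stmts
variable {F : Type*} [Field F] [Fintype F] {p : ℕ} [Fact p.Prime] [CharP F p]

theorem minus_stmt {q : ℕ} (hq : Fintype.card F = q) (hqodd : Odd q)
    (d m : ℕ) (hd : 4 ≤ d) (hm : 2 ≤ m) (hme : Even m) (hmn : m + 2 ≤ 2 * d) (a b : F) (hab : ∀ x y : F, x ^ 2 + a * x * y + b * y ^ 2 = 0 → x = 0 ∧ y = 0) :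
    (∀ x : GL ((Fin (d - 1) ⊕ Fin (d - 1)) ⊕ Fin 2) F, x ∈ Cfsg.Geo.omegaGL (Cfsg.quadFormMinus (d - 1) F a b) →
      (∃ z : F, ((x ^ p : GL ((Fin (d - 1) ⊕ Fin (d - 1)) ⊕ Fin 2) F) : Matrix ((Fin (d - 1) ⊕ Fin (d - 1)) ⊕ Fin 2) ((Fin (d - 1) ⊕ Fin (d - 1)) ⊕ Fin 2) F) = z • (1 : Matrix ((Fin (d - 1) ⊕ Fin (d - 1)) ⊕ Fin 2) ((Fin (d - 1) ⊕ Fin (d - 1)) ⊕ Fin 2) F)) →
      (∀ z : F, (x : Matrix ((Fin (d - 1) ⊕ Fin (d - 1)) ⊕ Fin 2) ((Fin (d - 1) ⊕ Fin (d - 1)) ⊕ Fin 2) F) ≠ z • (1 : Matrix ((Fin (d - 1) ⊕ Fin (d - 1)) ⊕ Fin 2) ((Fin (d - 1) ⊕ Fin (d - 1)) ⊕ Fin 2) F)) →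
      ∃ W : Submodule F ((Fin (d - 1) ⊕ Fin (d - 1)) ⊕ Fin 2 → F), (Module.finrank F ↥W = m ∧ Cfsg.Geo.IsNondegenerateOn (QuadraticMap.polar (Cfsg.quadFormMinus (d - 1) F a b)) W ∧ ¬ Cfsg.Geo.IsPlusTypeOn (Cfsg.quadFormMinus (d - 1) F a b) W) ∧ W.map (Matrix.toLin' (x : Matrix ((Fin (d - 1) ⊕ Fin (d - 1)) ⊕ Fin 2) ((Fin (d - 1) ⊕ Fin (d - 1)) ⊕ Fin 2) F)) ≤ W) →
    ((2 * d) % 4 = m % 4 ∧ (∀ μ : Multiset ℕ, (∀ e ∈ μ, 0 < e ∧ e ≤ p) → (∀ e : ℕ, Even e → Even (μ.count e)) → μ.sum = 2 * d →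
        ∃ ν : Multiset ℕ, ν ≤ μ ∧ ν.sum = m ∧ ∀ e : ℕ, Even e → Even (ν.count e))) := by
  intro H
  have h2 : (2 : F) ≠ 0 := two_ne_zero_of_odd hq hqodd
  rw [Cfsg.Agent.Helper2.Orth.quadFormMinus_eq (d - 1) a b] at H
  have hQ := Cfsg.Agent.Helper2.Orth.nondeg_minus (m := d - 1) a b hab
  have hκ : Fintype.card ((Fin (d - 1) ⊕ Fin (d - 1)) ⊕ Fin 2) = 2 * d := by
    rw [Fintype.card_sum, Fintype.card_sum, Fintype.card_fin, Fintype.card_fin]
    omega
  exact minus_main h2 d m (by omega) hme (by omega) _ hQ hκ H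

end stmts

end Cfsg.Agent.Helper13.OrthJp
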