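import Mathlib
import Cfsg.Agent.Lib.Helper13.OrthTs8
import Cfsg.Agent.Lib.Helper13.OrthTy1

set_option autoImplicit false
set_option linter.unusedSectionVars false

/-!
# Nondegenerate subspaces of quadratic spaces: embeddings of models
-/

namespace Cfsg.Agent.Helper13.OrthNd

open Module QuadraticMap Cfsg.Agent.Helper13 Cfsg.Agent.Helper13.OrthSS
  Cfsg.Agent.Helper13.OrthTs

universe u

section asm
variable {F : Type u} [Field F] {κ : Type} [Fintype κ] [DecidableEq κ]
  (Q : QuadraticForm F (κ → F))

theorem polar_of_embedding {M : Type*} [AddCommGroup M] [Module F M] (QM : QuadraticForm F M)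
    {V : Type*} [AddCommGroup V] [Module F V] (QV : QuadraticForm F V)
    (T : M →ₗ[F] V) (hTQ : ∀ z, QV (T z) = QM z) (x y : M) :
    polar QV (T x) (T y) = polar QM x y := by
  unfold polar
  rw [← map_add, hTQ, hTQ, hTQ]

/-- the image of an isometric embedding: plus type -/
theorem plusType_range_iff {M : Type*} [AddCommGroup M] [Module F M] [FiniteDimensional F M]
    (QM : QuadraticForm F M) (T : M →ₗ[F] (κ → F)) (hT : Function.Injective T)
    (hTQ : ∀ z, Q (T z) = QM z) :
    Cfsg.Geo.IsPlusTypeOn (⇑Q) (LinearMap.range T) ↔ IsHyp QM := by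
  have hfr : finrank F (LinearMap.range T) = finrank F M := LinearMap.finrank_range_of_inj hT
  constructor
  · rintro ⟨U, hUW, hUts, hdim⟩
    refine ⟨U.comap T, ?_, ?_⟩
    · intro x hx
      rw [← hTQ]
      exact hUts _ hx
    · have h1 : (U.comap T).map T = U := Submodule.map_comap_eq_of_le hUW
      have h2 : finrank F ((U.comap T).map T) = finrank F (U.comap T) :=
        (LinearEquiv.finrank_eq (Submodule.equivMapOfInjective T hT (U.comap T))).symm
      rw [h1] at h2
      rw [← h2, hdim, hfr]
  · rintro ⟨L, hLts, hLdim⟩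
    refine ⟨L.map T, LinearMap.map_le_range, ?_, ?_⟩
    · rintro _ ⟨x, hx, rfl⟩
      show Q (T x) = 0
      rw [hTQ]
      exact hLts x hx
    · have h2 : finrank F (L.map T) = finrank F L :=
        (LinearEquiv.finrank_eq (Submodule.equivMapOfInjective T hT L)).symm
      rw [h2, hLdim, hfr]

/-- the image of an isometric embedding of a nondegenerate space -/
theorem props_of_embedding {M : Type*} [AddCommGroup M] [Module F M] [FiniteDimensional F M]
    (QM : QuadraticForm F M) (hQM : (polarBilin QM).Nondegenerate)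
    (T : M →ₗ[F] (κ → F)) (hT : Function.Injective T) (hTQ : ∀ z, Q (T z) = QM z) :
    finrank F (LinearMap.range T) = finrank F M ∧
      Cfsg.Geo.IsNondegenerateOn (polar (⇑Q)) (LinearMap.range T) ∧
      (Cfsg.Geo.IsPlusTypeOn (⇑Q) (LinearMap.range T) ↔ IsHyp QM) := by
  refine ⟨LinearMap.finrank_range_of_inj hT, ?_, plusType_range_iff Q QM T hT hTQ⟩
  rintro _ ⟨z, rfl⟩ hz0
  have hz : z ≠ 0 := by
    rintro rfl
    exact hz0 (map_zero T)
  obtain ⟨u, hu⟩ := exists_polar_ne_zero QM hQM hz
  refine ⟨⟨T u, ⟨u, rfl⟩, ?_⟩, ⟨T u, ⟨u, rfl⟩, ?_⟩⟩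
  · rw [polar_of_embedding QM Q T hTQ, polar_comm]
    exact hu
  · rw [polar_of_embedding QM Q T hTQ]
    exact hu

theorem nondeg_comp_of_nondegOn (W : Submodule F (κ → F))
    (hW : Cfsg.Geo.IsNondegenerateOn (polar (⇑Q)) W) :
    (polarBilin (Q.comp W.subtype)).Nondegenerate := by
  apply nondeg_of_polar
  intro x hx
  by_contra hne
  have hne' : (x : κ → F) ≠ 0 := fun h => hne (Subtype.ext h)
  obtain ⟨y, hy, hxy⟩ := (hW x x.2 hne').2
  apply hxy
  exact hx ⟨y, hy⟩

theorem plusType_iff (W : Submodule F (κ → F)) :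
    Cfsg.Geo.IsPlusTypeOn (⇑Q) W ↔ IsHyp (Q.comp W.subtype) := by
  have := plusType_range_iff Q (Q.comp W.subtype) W.subtype (Submodule.injective_subtype W)
    (fun z => rfl)
  rwa [Submodule.range_subtype] at this

theorem nondegOn_of_nondeg_comp (W : Submodule F (κ → F))
    (hW : (polarBilin (Q.comp W.subtype)).Nondegenerate) :
    Cfsg.Geo.IsNondegenerateOn (polar (⇑Q)) W := by
  have := (props_of_embedding Q (Q.comp W.subtype) hW W.subtype (Submodule.injective_subtype W)
    (fun z => rfl)).2.1
  rwa [Submodule.range_subtype] at this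

end asm

section emb
variable {F : Type u} [Field F] [Fintype F]

/-- a nondegenerate quadratic space embeds isometrically in every nondegenerate space of
larger dimension -/
theorem exists_embedding (h2 : (2 : F) ≠ 0) {U : Type u} [AddCommGroup U] [Module F U]
    [FiniteDimensional F U] (QU : QuadraticForm F U) (hQU : (polarBilin QU).Nondegenerate)
    {M : Type u} [AddCommGroup M] [Module F M] [FiniteDimensional F M] (QM : QuadraticForm F M)
    (hQM : (polarBilin QM).Nondegenerate) (hlt : finrank F M < finrank F U) :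
    ∃ f : M →ₗ[F] U, Function.Injective f ∧ ∀ z, QU (f z) = QM z := by
  classical
  set E : U ≃ₗ[F] (Fin (finrank F U) → F) := (Module.finBasis F U).equivFun with hE
  set S : QuadraticForm F (Fin (finrank F U) → F) :=
    QU.comp (E.symm : (Fin (finrank F U) → F) →ₗ[F] U) with hS
  have hSnd : (polarBilin S).Nondegenerate := nondeg_comp_equiv QU hQU E.symm
  obtain ⟨QU', e, -, he⟩ := exists_model_iso h2 QM hQM S hSnd
    (by rw [Fintype.card_fin]; exact hlt)
  refine ⟨(E.symm : (Fin (finrank F U) → F) →ₗ[F] U) ∘ₗ e.toLinearMap ∘ₗ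
    LinearMap.inl F M _, ?_, ?_⟩
  · intro a b hab
    have h1 : E.symm (e (a, 0)) = E.symm (e (b, 0)) := hab
    have h3 := e.injective (E.symm.injective h1)
    exact congrArg Prod.fst h3
  · intro z
    show QU (E.symm (e (z, 0))) = QM z
    have h1 := he (z, 0)
    rw [QuadraticMap.prod_apply, map_zero, add_zero] at h1
    rw [← h1]
    rfl

end emb

end Cfsg.Agent.Helper13.OrthNd
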