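import Mathlib
import Cfsg.Agent.Lib.Helper13.OrthNd1
import Cfsg.Agent.Lib.Helper13.OrthTy2

set_option autoImplicit false
set_option linter.unusedSectionVars false

/-!
# Invariant nondegenerate subspaces of isometries of odd prime order: patterns
-/

namespace Cfsg.Agent.Helper13.OrthNd

open Polynomial Module QuadraticMap Matrix Cfsg.Agent.Helper13.SS Cfsg.Agent.Helper13.Dual
  Cfsg.Agent.Helper13.SympSS Cfsg.Agent.Helper13.SpDec Cfsg.Agent.Helper13.SlDec
  Cfsg.Agent.Helper13.SpTi Cfsg.Agent.Helper13.OrthSS Cfsg.Agent.Helper13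
  Cfsg.Agent.Helper13.OrthTs Cfsg.Agent.Helper13.OrthTy Cfsg.Agent.Helper13.HermSS
open scoped Classical

universe u

section kd
variable {F : Type u} [Field F] {V : Type*} [AddCommGroup V] [Module F V]
  [FiniteDimensional F V]

theorem kdim_restrict_le (g : Module.End F V) (W : Submodule F V) (hW : ∀ x ∈ W, g x ∈ W)
    (P : F[X]) : kdim (g.restrict hW) P ≤ kdim g P := by
  unfold kdim
  rw [ker_aeval_restrict]
  have h1 : finrank F (((LinearMap.ker (aeval g P)).comap W.subtype).map W.subtype) =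
      finrank F ((LinearMap.ker (aeval g P)).comap W.subtype) :=
    (LinearEquiv.finrank_eq (Submodule.equivMapOfInjective W.subtype
      (Submodule.injective_subtype W) _)).symm
  rw [← h1]
  apply Submodule.finrank_mono
  rintro _ ⟨x, hx, rfl⟩
  exact hx

end kd

section pattern
variable {F : Type u} [Field F] [Fintype F] {p : ℕ} [Fact p.Prime] [CharP F p] {r q : ℕ}

/-- the shape of an invariant nondegenerate subspace -/
theorem pattern_of_nondeg (hF : Fintype.card F = q) (hr : r.Prime) (hr2 : r ≠ 2) (hrp : r ≠ p)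
    {V : Type u} [AddCommGroup V] [Module F V] [FiniteDimensional F V]
    (Q : QuadraticForm F V) (A : Module.End F V) (hAQ : ∀ v, Q (A v) = Q v) (hAr : A ^ r = 1)
    (e₀ : ℕ) (k : ↥(cycFactors F r) → ℕ) (hcp : A.charpoly = gPoly r e₀ k)
    (W : Submodule F V) (hWinv : ∀ v ∈ W, A v ∈ W)
    (hWnd : (polarBilin (Q.comp W.subtype)).Nondegenerate) :
    ∃ (e : ℕ) (j : ↥(cycFactors F r) → ℕ),
      finrank F W = e + orderOf (q : ZMod r) * ∑ a, j a ∧ e ≤ e₀ ∧ (∀ a, j a ≤ k a) ∧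
      (∀ a, j (starΦ hr hr2 hrp a) = j a) ∧
      (e = 0 → (IsHyp (Q.comp W.subtype) ↔
        (Odd (orderOf (q : ZMod r)) ∨ Even (∑ a, j a)))) ∧
      ((∀ a, j a = 0) → ∀ w ∈ W, A w = w) := by
  have hr1 : 1 ≤ r := hr.one_lt.le
  have hrF : (r : F) ≠ 0 := cast_ne_zero_of_prime_ne hr hrp
  have hi0 : 0 < orderOf (q : ZMod r) := pos_orderOf hF hr hrp
  obtain ⟨hfixA, hkA⟩ := kdim_of_gPoly hF hr hrp A hAr _ k hcp
  set A' := A.restrict hWinv with hA'
  have hA'r : A' ^ r = 1 := restrict_pow_eq_one A hAr W hWinv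
  have hA'Q : ∀ w, (Q.comp W.subtype) (A' w) = (Q.comp W.subtype) w := by
    intro w
    show Q ((A' w : W) : V) = Q (w : V)
    rw [hA', LinearMap.coe_restrict_apply, hAQ]
  obtain ⟨j, hfin, hcp'⟩ := struct_gl hF hr hrp A' hA'r
  obtain ⟨-, hkA'⟩ := kdim_of_gPoly hF hr hrp A' hA'r _ j hcp'
  have hinvA' : HInv (AlgHom.id F F) 1 A' (polarBilin (Q.comp W.subtype)) :=
    hinv_of_isom _ hWnd A' hA'Q
  have hσ2 : ∀ x : F, (AlgHom.id F F) ((AlgHom.id F F) x) = x := fun x => rfl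
  have hjs : ∀ a, j (starΦ hr hr2 hrp a) = j a := by
    intro a
    have h1 := Cfsg.Agent.Helper13.Uni.kdim_cdual (F := F) (K := F) (σ := AlgHom.id F F) hσ2 hr1
      hrF hA'r hinvA'
      (cycFactors_irreducible a.2) (cycFactors_monic a.2) (cycFactors_dvd_X_pow a.2)
    have h2 : cdual r ((AlgHom.id F F : F →ₐ[F] F) : F →+* F) a.1 = dualPoly r a.1 :=
      Polynomial.map_id
    rw [h2] at h1
    have h3 : kdim A' (starΦ hr hr2 hrp a).1 = kdim A' a.1 := h1
    rw [hkA', hkA'] at h3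
    exact Nat.eq_of_mul_eq_mul_left hi0 h3
  refine ⟨kdim A' (X - 1), j, hfin, ?_, ?_, hjs, ?_, ?_⟩
  · rw [← hfixA]
    exact kdim_restrict_le A W hWinv _
  · intro a
    have h1 := kdim_restrict_le A W hWinv a.1
    rw [← hA', hkA', hkA] at h1
    exact Nat.le_of_mul_le_mul_left h1 hi0
  · intro he0
    rw [he0, gPoly_zero_left] at hcp'
    exact type_of_nofix hF hr hr2 hrp (Q.comp W.subtype) hWnd A' hA'Q hA'r j hjs hcp'
  · intro hj0 w hw
    have hsum : ∑ a, j a = 0 := Finset.sum_eq_zero (fun a _ => hj0 a)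
    rw [hsum, mul_zero, add_zero] at hfin
    have htop : LinearMap.ker (aeval A' (X - 1 : F[X])) = ⊤ :=
      Submodule.eq_top_of_finrank_eq hfin.symm
    have h1 : (⟨w, hw⟩ : W) ∈ LinearMap.ker (aeval A' (X - 1 : F[X])) := by
      rw [htop]
      trivial
    rw [LinearMap.mem_ker, map_sub, aeval_X, map_one, LinearMap.sub_apply,
      Module.End.one_apply, sub_eq_zero] at h1
    have := congrArg (Subtype.val) h1
    rwa [hA', LinearMap.coe_restrict_apply] at this

end pattern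

section exist
variable {F : Type u} [Field F] [Fintype F] {p : ℕ} [Fact p.Prime] [CharP F p] {r q : ℕ}
  {κ : Type} [Fintype κ] [DecidableEq κ]

/-- an isometry of order `r` leaves invariant a nondegenerate subspace of each admissible shape -/
theorem exists_nondeg_of_pattern (hF : Fintype.card F = q) (hr : r.Prime) (hr2 : r ≠ 2)
    (hrp : r ≠ p) (h2 : (2 : F) ≠ 0)
    (Q : QuadraticForm F (κ → F)) (hQ : (polarBilin Q).Nondegenerate)
    (A : Module.End F (κ → F)) (hAQ : ∀ v, Q (A v) = Q v) (hAr : A ^ r = 1)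
    (e₀ : ℕ) (k : ↥(cycFactors F r) → ℕ) (hk : ∀ a, k (starΦ hr hr2 hrp a) = k a)
    (hcp : A.charpoly = gPoly r e₀ k)
    (j : ↥(cycFactors F r) → ℕ) (hj : ∀ a, j (starΦ hr hr2 hrp a) = j a)
    (hjk : ∀ a, j a ≤ k a)
    {Ue : Type u} [AddCommGroup Ue] [Module F Ue] [FiniteDimensional F Ue]
    (Qe : QuadraticForm F Ue) (hQe : (polarBilin Qe).Nondegenerate) (he : finrank F Ue < e₀) :
    ∃ (Mj : Type u) (_ : AddCommGroup Mj) (_ : Module F Mj) (_ : FiniteDimensional F Mj)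
      (Qj : QuadraticForm F Mj) (T : (Mj × Ue) →ₗ[F] (κ → F)),
      (polarBilin Qj).Nondegenerate ∧ finrank F Mj = orderOf (q : ZMod r) * ∑ a, j a ∧
      Even (finrank F Mj) ∧ (IsHyp Qj ↔ (Odd (orderOf (q : ZMod r)) ∨ Even (∑ a, j a))) ∧
      Function.Injective T ∧ (∀ z, Q (T z) = Qj z.1 + Qe z.2) ∧
      ∀ w ∈ LinearMap.range T, A w ∈ LinearMap.range T := by
  have hr1 : 1 ≤ r := hr.one_lt.le
  have hrF : (r : F) ≠ 0 := cast_ne_zero_of_prime_ne hr hrp
  have hrodd : Odd r := hr.eq_two_or_odd'.resolve_left hr2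
  have hi0 : 0 < orderOf (q : ZMod r) := pos_orderOf hF hr hrp
  set S := insert (X - 1 : F[X]) (cycFactors F r) with hS
  have hirr : ∀ f ∈ S, Irreducible f := fun f hf => insert_irreducible hf
  have e1 : (X - 1 : F[X]) = X - C 1 := by rw [map_one]
  have hmon : ∀ f ∈ S, f.Monic := by
    intro f hf
    rcases Finset.mem_insert.1 hf with rfl | hf
    · rw [e1]
      exact monic_X_sub_C 1
    · exact cycFactors_monic hf
  have hkill : ∀ {U : Type u} [AddCommGroup U] [Module F U] (C : Module.End F U),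
      C ^ r = 1 → aeval C (∏ f ∈ S, f) = 0 := by
    intro U _ _ C hC
    rw [hS, X_sub_one_mul_prod hr hrp, map_sub, map_pow, aeval_X, map_one, hC, sub_self]
  have hcard : Fintype.card κ = e₀ + orderOf (q : ZMod r) * ∑ a, k a := by
    rw [← finrank_of_gPoly hF hr hrp A hAr e₀ k hcp, Module.finrank_fintype_fun_eq_card]
  -- the remaining part
  set k' : ↥(cycFactors F r) → ℕ := fun a => k a - j a with hk'
  have hk'a : ∀ a, j a + k' a = k a := by
    intro a
    have := hjk a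
    show j a + (k a - j a) = k a
    omega
  have hk's : ∀ a, k' (starΦ hr hr2 hrp a) = k' a := by
    intro a
    show k (starΦ hr hr2 hrp a) - j (starΦ hr hr2 hrp a) = k a - j a
    rw [hk a, hj a]
  have hsumk : ∑ a, j a + ∑ a, k' a = ∑ a, k a := by
    rw [← Finset.sum_add_distrib]
    exact Finset.sum_congr rfl (fun a _ => hk'a a)
  obtain ⟨Mj, i1, i2, i3, Aj, Qj, hAjr, hQj, hAjQ, hAjc, hMjev, hQjt⟩ :=
    qrealT_primeProd hF hr hr2 hrp hi0 j hj
  obtain ⟨Mk, l1, l2, l3, Ak, Qk, hAkr, hQk, hAkQ, hAkc⟩ :=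
    qreal_primeProd hF hr hr2 hrp hi0 k' hk's
  have hMjfin : finrank F Mj = orderOf (q : ZMod r) * ∑ a, j a := by
    rw [← LinearMap.charpoly_natDegree Aj, hAjc, natDegree_primeProd hF hr hrp]
  have hMkfin : finrank F Mk = orderOf (q : ZMod r) * ∑ a, k' a := by
    rw [← LinearMap.charpoly_natDegree Ak, hAkc, natDegree_primeProd hF hr hrp]
  -- the model
  set Q' : QuadraticForm F ((Mj × Ue) × Mk) :=
    QuadraticMap.prod (QuadraticMap.prod Qj Qe) Qk with hQ'
  have hQ'nd : (polarBilin Q').Nondegenerate :=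
    nondeg_prod _ _ (nondeg_prod _ _ hQj hQe) hQk
  have hV'fin : finrank F ((Mj × Ue) × Mk) =
      orderOf (q : ZMod r) * ∑ a, k a + finrank F Ue := by
    rw [Module.finrank_prod, Module.finrank_prod, hMjfin, hMkfin, ← hsumk]
    ring
  have hlt : finrank F ((Mj × Ue) × Mk) < Fintype.card κ := by
    rw [hV'fin, hcard]
    omega
  have hmodel := exists_model_iso h2 Q' hQ'nd Q hQ hlt
  have huu0 : finrank F Ue + (Fintype.card κ - finrank F ((Mj × Ue) × Mk)) = e₀ := by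
    rw [hV'fin, hcard]
    omega
  generalize Fintype.card κ - finrank F ((Mj × Ue) × Mk) = uu at hmodel huu0
  obtain ⟨QU, Φ, hQUnd, hΦ⟩ := hmodel
  set y : Module.End F (((Mj × Ue) × Mk) × (Fin uu → F)) :=
    ((Aj.prodMap (1 : Module.End F Ue)).prodMap Ak).prodMap (1 : Module.End F (Fin uu → F))
    with hy
  have hyQ : ∀ z, (QuadraticMap.prod Q' QU) (y z) = (QuadraticMap.prod Q' QU) z := by
    rintro ⟨⟨⟨a, b⟩, c⟩, d⟩
    show (QuadraticMap.prod Q' QU) (((Aj a, b), Ak c), d) = _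
    rw [QuadraticMap.prod_apply, QuadraticMap.prod_apply, hQ', QuadraticMap.prod_apply,
      QuadraticMap.prod_apply, QuadraticMap.prod_apply, QuadraticMap.prod_apply, hAjQ, hAkQ]
  have hyM : y ^ r = 1 := by
    rw [hy, prodMap_pow, prodMap_pow, prodMap_pow, hAjr, hAkr, one_pow, one_pow,
      prodMap_one_one]
    have : ((1 : Module.End F (Mj × Ue)).prodMap (1 : Module.End F Mk)) = 1 := prodMap_one_one
    rw [this, prodMap_one_one]
  have hycp : y.charpoly = A.charpoly := by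
    rw [hy, LinearMap.charpoly_prodMap, LinearMap.charpoly_prodMap, LinearMap.charpoly_prodMap,
      hAjc, hAkc, LinearMap.charpoly_one, LinearMap.charpoly_one,
      Module.finrank_fintype_fun_eq_card, Fintype.card_fin, hcp,
      ← gPoly_zero_left, ← gPoly_zero_left, ← gPoly_zero_right (F := F) (r := r) uu,
      ← gPoly_zero_right (F := F) (r := r) (finrank F Ue), gPoly_mul, gPoly_mul, gPoly_mul]
    congr 1
    · omega
    · funext a
      have := hk'a a
      omega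
  obtain ⟨Ψ, hΨQ, hΨc⟩ := exists_conj_iso r hr1 hrodd hrF S hirr hmon Q hQ A hAQ (hkill A hAr)
    (QuadraticMap.prod Q' QU) y hyQ hyM (hkill y hyM) hycp Φ hΦ
  set L : (Mj × Ue) →ₗ[F] (((Mj × Ue) × Mk) × (Fin uu → F)) :=
    LinearMap.inl F _ (Fin uu → F) ∘ₗ LinearMap.inl F (Mj × Ue) Mk with hL
  have hLa : ∀ z, L z = ((z, 0), 0) := fun z => rfl
  refine ⟨Mj, i1, i2, i3, Qj, (Ψ : _ →ₗ[F] _) ∘ₗ L, hQj, hMjfin, hMjev, hQjt, ?_, ?_, ?_⟩
  · intro a b hab
    have h1 : Ψ (L a) = Ψ (L b) := hab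
    have h3 := Ψ.injective h1
    rw [hLa, hLa] at h3
    exact congrArg (fun z => z.1.1) h3
  · intro z
    show Q (Ψ (L z)) = _
    rw [hΨQ, hLa, QuadraticMap.prod_apply, hQ', QuadraticMap.prod_apply,
      QuadraticMap.prod_apply, map_zero, map_zero, add_zero, add_zero]
  · rintro _ ⟨z, rfl⟩
    refine ⟨(Aj z.1, z.2), ?_⟩
    show Ψ (L (Aj z.1, z.2)) = A (Ψ (L z))
    rw [← hΨc, hLa, hLa, hy]
    show _ = Ψ (((Aj z.1, (1 : Module.End F Ue) z.2), Ak 0),
      (1 : Module.End F (Fin uu → F)) 0)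
    rw [map_zero, map_zero]
    rfl

/-- subspace version -/
theorem exists_nondeg_sub_of_pattern (hF : Fintype.card F = q) (hr : r.Prime) (hr2 : r ≠ 2)
    (hrp : r ≠ p) (h2 : (2 : F) ≠ 0)
    (Q : QuadraticForm F (κ → F)) (hQ : (polarBilin Q).Nondegenerate)
    (A : Module.End F (κ → F)) (hAQ : ∀ v, Q (A v) = Q v) (hAr : A ^ r = 1)
    (e₀ : ℕ) (k : ↥(cycFactors F r) → ℕ) (hk : ∀ a, k (starΦ hr hr2 hrp a) = k a)
    (hcp : A.charpoly = gPoly r e₀ k)
    (j : ↥(cycFactors F r) → ℕ) (hj : ∀ a, j (starΦ hr hr2 hrp a) = j a)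
    (hjk : ∀ a, j a ≤ k a) (m e : ℕ) (τ : Prop) (hee : Even e)
    (hm : m = e + orderOf (q : ZMod r) * ∑ a, j a) (he : e < e₀)
    (hτ : e = 0 → (τ ↔ (Odd (orderOf (q : ZMod r)) ∨ Even (∑ a, j a)))) :
    ∃ W : Submodule F (κ → F), (finrank F W = m ∧
      Cfsg.Geo.IsNondegenerateOn (polar (⇑Q)) W ∧ (Cfsg.Geo.IsPlusTypeOn (⇑Q) W ↔ τ)) ∧
      ∀ v ∈ W, A v ∈ W := by
  obtain ⟨Ue, u1, u2, u3, Qe, hQe, hUefin, hQet⟩ := exists_space_of_type (F := F) e hee
    (τ ↔ (Odd (orderOf (q : ZMod r)) ∨ Even (∑ a, j a))) hτ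
  obtain ⟨Mj, i1, i2, i3, Qj, T, hQj, hMjfin, hMjev, hQjt, hTinj, hTQ, hTinv⟩ :=
    exists_nondeg_of_pattern hF hr hr2 hrp h2 Q hQ A hAQ hAr e₀ k hk hcp j hj hjk Qe hQe
      (by rw [hUefin]; exact he)
  have hnd : (polarBilin (QuadraticMap.prod Qj Qe)).Nondegenerate := nondeg_prod _ _ hQj hQe
  obtain ⟨h1, h3, h4⟩ := props_of_embedding Q (QuadraticMap.prod Qj Qe) hnd T hTinj
    (fun z => by rw [hTQ, QuadraticMap.prod_apply])
  refine ⟨LinearMap.range T, ⟨?_, h3, ?_⟩, hTinv⟩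
  · rw [h1, Module.finrank_prod, hMjfin, hUefin, hm]
    ring
  · rw [h4, isHyp_prod_iff Qj Qe hQj hQe hMjev (by rw [hUefin]; exact hee), hQjt, hQet]
    exact iff_iff_iff _ _

end exist

end Cfsg.Agent.Helper13.OrthNd
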