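import Mathlib
import Cfsg.Agent.Lib.Helper13.OrthNd2
import Cfsg.Agent.Lib.Helper13.OrthJp5
import Cfsg.Agent.Lib.Helper13.OrthTs9

set_option autoImplicit false
set_option linter.unusedSectionVars false

/-!
# Involutions of `Ω` in odd dimension fix nondegenerate subspaces of every even dimension and type
-/

namespace Cfsg.Agent.Helper13.OrthNd

open Module QuadraticMap Matrix Cfsg.Agent.Helper13 Cfsg.Agent.Helper13.OrthSS
  Cfsg.Agent.Helper13.OrthTs Cfsg.Agent.Helper13.OrthTy Cfsg.Agent.Helper17.Spinor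
open scoped MatrixGroups

universe u

section models
variable {F : Type u} [Field F]

/-- a nondegenerate quadratic space of each dimension -/
theorem exists_model_of_dim (h2 : (2 : F) ≠ 0) (e : ℕ) :
    ∃ (M : Type u) (_ : AddCommGroup M) (_ : Module F M) (_ : FiniteDimensional F M)
      (QM : QuadraticForm F M), (polarBilin QM).Nondegenerate ∧ finrank F M = e := by
  refine ⟨(Fin e → F), inferInstance, inferInstance, inferInstance,
    matQ (1 : Matrix (Fin e) (Fin e) F), ?_, ?_⟩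
  · apply matQ_nondeg
    rw [Matrix.transpose_one, ← two_smul F (1 : Matrix (Fin e) (Fin e) F), Matrix.det_smul,
      Matrix.det_one, mul_one]
    exact pow_ne_zero _ h2
  · rw [Module.finrank_fintype_fun_eq_card, Fintype.card_fin]

variable [Fintype F]

/-- a nondegenerate subspace of each dimension, as an embedded model -/
theorem exists_sub_model (h2 : (2 : F) ≠ 0) {U : Type u} [AddCommGroup U] [Module F U]
    [FiniteDimensional F U] (QU : QuadraticForm F U) (hQU : (polarBilin QU).Nondegenerate)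
    (e : ℕ) (he : e ≤ finrank F U) :
    ∃ (M : Type u) (_ : AddCommGroup M) (_ : Module F M) (_ : FiniteDimensional F M)
      (QM : QuadraticForm F M) (f : M →ₗ[F] U), (polarBilin QM).Nondegenerate ∧
      finrank F M = e ∧ Function.Injective f ∧ ∀ z, QU (f z) = QM z := by
  rcases Nat.lt_or_ge e (finrank F U) with hlt | hge
  · obtain ⟨M, i1, i2, i3, QM, hQM, hfin⟩ := exists_model_of_dim (F := F) h2 e
    obtain ⟨f, hf, hfQ⟩ := exists_embedding h2 QU hQU QM hQM (by rw [hfin]; exact hlt)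
    exact ⟨M, i1, i2, i3, QM, f, hQM, hfin, hf, hfQ⟩
  · exact ⟨U, inferInstance, inferInstance, inferInstance, QU, LinearMap.id, hQU,
      le_antisymm hge he, fun _ _ h => h, fun _ => rfl⟩

/-- scaling an odd-dimensional summand adjusts the type -/
theorem exists_scale_type (h2 : (2 : F) ≠ 0) {V₁ V₂ : Type u} [AddCommGroup V₁] [Module F V₁]
    [FiniteDimensional F V₁] [AddCommGroup V₂] [Module F V₂] [FiniteDimensional F V₂]
    (Q₁ : QuadraticForm F V₁) (Q₂ : QuadraticForm F V₂) (hQ₁ : (polarBilin Q₁).Nondegenerate)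
    (hQ₂ : (polarBilin Q₂).Nondegenerate) (D t : ℕ)
    (hdim : finrank F V₁ + finrank F V₂ = 2 * D) (hodd : finrank F V₂ = 2 * t + 1)
    (τ : Prop) :
    ∃ c : F, c ≠ 0 ∧ (IsHyp (QuadraticMap.prod Q₁ (c • Q₂)) ↔ τ) := by
  classical
  have hcard : Fintype.card (Fin (finrank F V₁) ⊕ Fin (finrank F V₂)) = 2 * D := by
    rw [Fintype.card_sum, Fintype.card_fin, Fintype.card_fin]
    exact hdim
  have hiff : ∀ c : F, c ≠ 0 → (IsHyp (QuadraticMap.prod Q₁ (c • Q₂)) ↔
      IsSquare ((-1 : F) ^ D *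
        ((Matrix.of fun i j => polar Q₁ (Module.finBasis F V₁ i) (Module.finBasis F V₁ j)).det *
        (c ^ (finrank F V₂) * (Matrix.of fun i j => polar Q₂ (Module.finBasis F V₂ i)
          (Module.finBasis F V₂ j)).det)))) := by
    intro c hc
    have hnd : (polarBilin (QuadraticMap.prod Q₁ (c • Q₂))).Nondegenerate :=
      nondeg_prod _ _ hQ₁ (Cfsg.Agent.Helper17.Spinor.nondegenerate_smul Q₂ hc hQ₂)
    rw [OrthTy.isHyp_iff_gram h2 _ hnd
      ((Module.finBasis F V₁).prod (Module.finBasis F V₂)) D hcard,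
      Cfsg.Agent.Helper13.OrthJp.gram_det_prod, Cfsg.Agent.Helper13.OrthJp.gram_det_smul,
      Fintype.card_fin]
  have hD₁ := gram_det_ne_zero Q₁ (Module.finBasis F V₁) hQ₁
  have hD₂ := gram_det_ne_zero Q₂ (Module.finBasis F V₂) hQ₂
  generalize (Matrix.of fun i j => polar Q₁ (Module.finBasis F V₁ i)
    (Module.finBasis F V₁ j)).det = D₁ at hiff hD₁
  generalize (Matrix.of fun i j => polar Q₂ (Module.finBasis F V₂ i)
    (Module.finBasis F V₂ j)).det = D₂ at hiff hD₂
  have hF : ringChar F ≠ 2 := by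
    intro h
    apply h2
    have := ringChar.Nat.cast_ringChar (R := F)
    rw [h] at this
    exact_mod_cast this
  obtain ⟨ε, hε⟩ := FiniteField.exists_nonsquare hF
  have hε0 : ε ≠ 0 := by
    rintro rfl
    exact hε IsSquare.zero
  have h1 : IsHyp (QuadraticMap.prod Q₁ ((1 : F) • Q₂)) ↔ IsSquare ((-1 : F) ^ D * D₁ * D₂) := by
    rw [hiff 1 one_ne_zero, one_pow, one_mul, ← mul_assoc]
  have hε' : IsHyp (QuadraticMap.prod Q₁ (ε • Q₂)) ↔ ¬ IsSquare ((-1 : F) ^ D * D₁ * D₂) := by
    rw [hiff ε hε0]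
    have e0 : ε ^ (finrank F V₂) = ε ^ (2 * t + 1) := congrArg (fun n => ε ^ n) hodd
    have e : (-1 : F) ^ D * (D₁ * (ε ^ (finrank F V₂) * D₂)) =
        (ε ^ t) ^ 2 * ((-1 : F) ^ D * D₁ * D₂ * ε) := by
      rw [e0]
      ring
    rw [e, isSquare_mul_sq_iff _ _ (pow_ne_zero _ hε0), isSquare_mul_nonsquare _ hε]
    exact mul_ne_zero (mul_ne_zero (pow_ne_zero _ (neg_ne_zero.2 one_ne_zero)) hD₁) hD₂
  by_cases hsq : (IsSquare ((-1 : F) ^ D * D₁ * D₂) ↔ τ)
  · exact ⟨1, one_ne_zero, h1.trans hsq⟩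
  · refine ⟨ε, hε0, ?_⟩
    rw [hε']
    constructor
    · intro h3
      by_contra h4
      exact hsq ⟨fun h => absurd h h3, fun h => absurd h h4⟩
    · intro h3 h4
      exact hsq ⟨fun _ => h3, fun _ => h4⟩

end models

section invol
variable {F : Type u} [Field F] [Fintype F] {κ : Type} [Fintype κ] [DecidableEq κ]
  (Q : QuadraticForm F (κ → F))

/-- an involution leaves invariant a nondegenerate subspace of each even dimension and type, as
soon as its `-1`-eigenspace has dimension at least two -/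
theorem exists_nondeg_of_involution (h2 : (2 : F) ≠ 0) (hQ : (polarBilin Q).Nondegenerate)
    (A : Module.End F (κ → F)) (hAQ : ∀ v, Q (A v) = Q v) (hA : A * A = 1)
    (m : ℕ) (hm : 2 ≤ m) (hme : Even m) (hmn : m < Fintype.card κ)
    (hVm : 2 ≤ finrank F (Vm A)) (τ : Prop) :
    ∃ W : Submodule F (κ → F), (finrank F W = m ∧
      Cfsg.Geo.IsNondegenerateOn (polar (⇑Q)) W ∧ (Cfsg.Geo.IsPlusTypeOn (⇑Q) W ↔ τ)) ∧
      ∀ v ∈ W, A v ∈ W := by
  have hndp := nondeg_Vp h2 hA hAQ hQ
  have hndm := nondeg_Vm h2 hA hAQ hQ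
  have hsum := finrank_Vp_add (A := A) h2 hA
  rw [Module.finrank_fintype_fun_eq_card] at hsum
  rcases Nat.lt_or_ge m (finrank F (Vm A)) with hlt | hge
  · -- inside the `-1`-eigenspace
    obtain ⟨M, i1, i2, i3, QM, hQM, hMfin, hMt⟩ := exists_space_of_type (F := F) m hme τ
      (by omega)
    obtain ⟨f, hf, hfQ⟩ := exists_embedding h2 _ hndm QM hQM (by rw [hMfin]; exact hlt)
    obtain ⟨h1, h3, h4⟩ := props_of_embedding Q QM hQM ((Vm A).subtype ∘ₗ f)
      (fun a b hab => hf (Subtype.ext hab)) (fun z => hfQ z)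
    refine ⟨LinearMap.range ((Vm A).subtype ∘ₗ f), ⟨by rw [h1, hMfin], h3, h4.trans hMt⟩, ?_⟩
    rintro _ ⟨z, rfl⟩
    have hmem : ((f z : ↥(Vm A)) : κ → F) ∈ Vm A := (f z).2
    refine ⟨-z, ?_⟩
    show ((f (-z) : ↥(Vm A)) : κ → F) = A ((f z : ↥(Vm A)) : κ → F)
    rw [mem_Vm.1 hmem, map_neg]
    rfl
  · -- an odd-dimensional piece in each eigenspace
    obtain ⟨tm, htm⟩ : ∃ tm, finrank F (Vm A) - 1 = tm := ⟨_, rfl⟩
    have hep : m - finrank F (Vm A) + 1 ≤ finrank F (Vp A) := by omega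
    obtain ⟨Mp, i1, i2, i3, Qp, fp, hQp, hMpfin, hfp, hfpQ⟩ :=
      exists_sub_model h2 _ hndp (m - finrank F (Vm A) + 1) hep
    obtain ⟨Mm, l1, l2, l3, Qm0, hQm0, hMmfin⟩ :=
      exists_model_of_dim (F := F) h2 (finrank F (Vm A) - 1)
    obtain ⟨s, hs⟩ := hme
    -- parity: `finrank Vm - 1` is odd iff `finrank Vm` is even; handle both parities
    rcases Nat.even_or_odd (finrank F (Vm A)) with hev | hod
    · obtain ⟨k, hk⟩ := hev
      obtain ⟨c, hc0, hct⟩ := exists_scale_type h2 Qp Qm0 hQp hQm0 s (k - 1)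
        (by rw [hMpfin, hMmfin]; omega) (by rw [hMmfin]; omega) τ
      have hQm : (polarBilin (c • Qm0)).Nondegenerate :=
        Cfsg.Agent.Helper17.Spinor.nondegenerate_smul Qm0 hc0 hQm0
      obtain ⟨fm, hfm, hfmQ⟩ := exists_embedding h2 _ hndm (c • Qm0) hQm
        (by rw [hMmfin]; omega)
      set T : (Mp × Mm) →ₗ[F] (κ → F) :=
        ((Vp A).subtype ∘ₗ fp).coprod ((Vm A).subtype ∘ₗ fm) with hT
      have hTa : ∀ z : Mp × Mm, T z = ((fp z.1 : ↥(Vp A)) : κ → F) + ((fm z.2 : ↥(Vm A)) : κ → F) :=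
        fun z => rfl
      have hTQ : ∀ z, Q (T z) = (QuadraticMap.prod Qp (c • Qm0)) z := by
        intro z
        rw [hTa, QuadraticMap.map_add Q, polar_Vp_Vm h2 hAQ (fp z.1).2 (fm z.2).2, add_zero,
          QuadraticMap.prod_apply, ← hfpQ, ← hfmQ]
        rfl
      have hTinj : Function.Injective T := by
        rw [← LinearMap.ker_eq_bot, LinearMap.ker_eq_bot']
        intro z hz
        rw [hTa] at hz
        have h5 : ((fp z.1 : ↥(Vp A)) : κ → F) ∈ Vp A ⊓ Vm A := by
          refine ⟨(fp z.1).2, ?_⟩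
          have : ((fp z.1 : ↥(Vp A)) : κ → F) = -((fm z.2 : ↥(Vm A)) : κ → F) :=
            eq_neg_of_add_eq_zero_left hz
          rw [this]
          exact (Vm A).neg_mem (fm z.2).2
        rw [Vp_inf_Vm h2, Submodule.mem_bot] at h5
        have h6 : ((fm z.2 : ↥(Vm A)) : κ → F) = 0 := by
          rw [h5, zero_add] at hz
          exact hz
        have h7 : z.1 = 0 := hfp (by
          apply Subtype.ext
          rw [h5, map_zero]
          rfl)
        have h8 : z.2 = 0 := hfm (by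
          apply Subtype.ext
          rw [h6, map_zero]
          rfl)
        exact Prod.ext h7 h8
      have hnd : (polarBilin (QuadraticMap.prod Qp (c • Qm0))).Nondegenerate :=
        nondeg_prod _ _ hQp hQm
      obtain ⟨h1, h3, h4⟩ := props_of_embedding Q _ hnd T hTinj hTQ
      refine ⟨LinearMap.range T, ⟨?_, h3, h4.trans hct⟩, ?_⟩
      · rw [h1, Module.finrank_prod, hMpfin, hMmfin]
        omega
      · rintro _ ⟨z, rfl⟩
        refine ⟨(z.1, -z.2), ?_⟩
        rw [hTa, hTa, map_add, mem_Vp.1 (fp z.1).2, mem_Vm.1 (fm z.2).2, map_neg]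
        rfl
    · -- `finrank Vm` odd: then `finrank Vm - 1` is even; use the whole eigenspace instead
      obtain ⟨k, hk⟩ := hod
      -- take an even-dimensional model of type `τ'` in `Vm` and an even-dimensional piece of `Vp`
      have hep' : m - (finrank F (Vm A) - 1) ≤ finrank F (Vp A) := by omega
      -- choose a piece of `Vm` of dimension `finrank Vm - 1 = 2k`, and of `Vp` of dimension
      -- `m - 2k`, both even; adjust the type inside `Vm` if `k ≥ 1`
      have hk1 : 1 ≤ k := by omega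
      obtain ⟨Mp', j1, j2, j3, Qp', fp', hQp', hMp'fin, hfp', hfp'Q⟩ :=
        exists_sub_model h2 _ hndp (m - 2 * k) (by omega)
      obtain ⟨Mm', n1, n2, n3, Qm', hQm', hMm'fin, hMm't⟩ := exists_space_of_type (F := F)
        (2 * k) ⟨k, by ring⟩ (τ ↔ IsHyp Qp') (by omega)
      obtain ⟨fm', hfm', hfm'Q⟩ := exists_embedding h2 _ hndm Qm' hQm'
        (by rw [hMm'fin]; omega)
      set T : (Mp' × Mm') →ₗ[F] (κ → F) :=
        ((Vp A).subtype ∘ₗ fp').coprod ((Vm A).subtype ∘ₗ fm') with hT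
      have hTa : ∀ z : Mp' × Mm', T z =
          ((fp' z.1 : ↥(Vp A)) : κ → F) + ((fm' z.2 : ↥(Vm A)) : κ → F) := fun z => rfl
      have hTQ : ∀ z, Q (T z) = (QuadraticMap.prod Qp' Qm') z := by
        intro z
        rw [hTa, QuadraticMap.map_add Q, polar_Vp_Vm h2 hAQ (fp' z.1).2 (fm' z.2).2, add_zero,
          QuadraticMap.prod_apply, ← hfp'Q, ← hfm'Q]
        rfl
      have hTinj : Function.Injective T := by
        rw [← LinearMap.ker_eq_bot, LinearMap.ker_eq_bot']
        intro z hz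
        rw [hTa] at hz
        have h5 : ((fp' z.1 : ↥(Vp A)) : κ → F) ∈ Vp A ⊓ Vm A := by
          refine ⟨(fp' z.1).2, ?_⟩
          have : ((fp' z.1 : ↥(Vp A)) : κ → F) = -((fm' z.2 : ↥(Vm A)) : κ → F) :=
            eq_neg_of_add_eq_zero_left hz
          rw [this]
          exact (Vm A).neg_mem (fm' z.2).2
        rw [Vp_inf_Vm h2, Submodule.mem_bot] at h5
        have h6 : ((fm' z.2 : ↥(Vm A)) : κ → F) = 0 := by
          rw [h5, zero_add] at hz
          exact hz
        have h7 : z.1 = 0 := hfp' (by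
          apply Subtype.ext
          rw [h5, map_zero]
          rfl)
        have h8 : z.2 = 0 := hfm' (by
          apply Subtype.ext
          rw [h6, map_zero]
          rfl)
        exact Prod.ext h7 h8
      have hnd : (polarBilin (QuadraticMap.prod Qp' Qm')).Nondegenerate :=
        nondeg_prod _ _ hQp' hQm'
      obtain ⟨h1, h3, h4⟩ := props_of_embedding Q _ hnd T hTinj hTQ
      refine ⟨LinearMap.range T, ⟨?_, h3, ?_⟩, ?_⟩
      · rw [h1, Module.finrank_prod, hMp'fin, hMm'fin]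
        omega
      · rw [h4, isHyp_prod_iff Qp' Qm' hQp' hQm' (by rw [hMp'fin]; exact ⟨s - k, by omega⟩)
          (by rw [hMm'fin]; exact ⟨k, by ring⟩), hMm't]
        exact iff_iff_iff _ _
      · rintro _ ⟨z, rfl⟩
        refine ⟨(z.1, -z.2), ?_⟩
        rw [hTa, hTa, map_add, mem_Vp.1 (fp' z.1).2, mem_Vm.1 (fm' z.2).2, map_neg]
        rfl

end invol

end Cfsg.Agent.Helper13.OrthNd
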