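import Mathlib
import Cfsg.Agent.Lib.Helper13.OrthNd3

set_option autoImplicit false
set_option linter.unusedSectionVars false

/-!
# Isometries between nondegenerate subspaces extend (finite fields, odd characteristic)
-/

namespace Cfsg.Agent.Helper13.OrthNd

open Module QuadraticMap Matrix Cfsg.Agent.Helper13 Cfsg.Agent.Helper13.OrthSS
  Cfsg.Agent.Helper13.OrthTs Cfsg.Agent.Helper13.OrthTy

universe u

section compl
variable {F : Type u} [Field F] {U : Type u} [AddCommGroup U] [Module F U]
  [FiniteDimensional F U] (QU : QuadraticForm F U)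

theorem isCompl_orth (W : Submodule F U)
    (hW : (polarBilin (QU.comp W.subtype)).Nondegenerate) :
    IsCompl W (LinearMap.BilinForm.orthogonal (polarBilin QU) W) := by
  have hrefl : LinearMap.BilinForm.IsRefl (polarBilin QU) := by
    intro x y h
    rw [polarBilin_apply_apply, polar_comm]
    exact h
  have hres : (LinearMap.BilinForm.restrict (polarBilin QU) W).Nondegenerate := by
    have e : LinearMap.BilinForm.restrict (polarBilin QU) W = polarBilin (QU.comp W.subtype) := by
      ext x y
      rfl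
    rw [e]
    exact hW
  exact LinearMap.BilinForm.isCompl_orthogonal_of_restrict_nondegenerate hrefl hres

theorem polar_orth {W : Submodule F U} {a b : U} (ha : a ∈ W)
    (hb : b ∈ LinearMap.BilinForm.orthogonal (polarBilin QU) W) : polar QU a b = 0 :=
  hb a ha

theorem apply_prodEquiv (W : Submodule F U)
    (hc : IsCompl W (LinearMap.BilinForm.orthogonal (polarBilin QU) W))
    (z : W × ↥(LinearMap.BilinForm.orthogonal (polarBilin QU) W)) :
    QU (Submodule.prodEquivOfIsCompl W _ hc z) =
      (QuadraticMap.prod (QU.comp W.subtype)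
        (QU.comp (LinearMap.BilinForm.orthogonal (polarBilin QU) W).subtype)) z := by
  rw [Submodule.coe_prodEquivOfIsCompl', QuadraticMap.map_add QU, polar_orth QU z.1.2 z.2.2, add_zero,
    QuadraticMap.prod_apply]
  rfl

theorem nondeg_orth (hQU : (polarBilin QU).Nondegenerate) (W : Submodule F U)
    (hW : (polarBilin (QU.comp W.subtype)).Nondegenerate) :
    (polarBilin (QU.comp
      (LinearMap.BilinForm.orthogonal (polarBilin QU) W).subtype)).Nondegenerate := by
  have hc := isCompl_orth QU W hW
  apply nondeg_of_polar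
  intro x hx
  apply Subtype.ext
  apply hQU.1
  intro u
  show polar QU (x : U) u = 0
  have hu : u ∈ W ⊔ LinearMap.BilinForm.orthogonal (polarBilin QU) W := by
    rw [hc.sup_eq_top]
    trivial
  obtain ⟨a, ha, b, hb, rfl⟩ := Submodule.mem_sup.1 hu
  rw [polar_add_right, polar_comm QU _ a, polar_orth QU ha x.2, zero_add]
  have := hx ⟨b, hb⟩
  rw [OrthTs.polar_comp] at this
  exact this

end compl

section witt
variable {F : Type u} [Field F] [Fintype F] {U : Type u} [AddCommGroup U] [Module F U]
  [FiniteDimensional F U] (QU : QuadraticForm F U)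

/-- Witt's theorem for nondegenerate subspaces -/
theorem exists_isometry_map (h2 : (2 : F) ≠ 0) (hQU : (polarBilin QU).Nondegenerate)
    (W W' : Submodule F U) (hW : (polarBilin (QU.comp W.subtype)).Nondegenerate)
    (hW' : (polarBilin (QU.comp W'.subtype)).Nondegenerate)
    (e₁ : W ≃ₗ[F] W') (he₁ : ∀ w, QU ((e₁ w : W') : U) = QU (w : U)) :
    ∃ g : U ≃ₗ[F] U, (∀ v, QU (g v) = QU v) ∧ W.map (g : U →ₗ[F] U) = W' := by
  classical
  set C := LinearMap.BilinForm.orthogonal (polarBilin QU) W with hC
  set C' := LinearMap.BilinForm.orthogonal (polarBilin QU) W' with hC'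
  have hc : IsCompl W C := isCompl_orth QU W hW
  have hc' : IsCompl W' C' := isCompl_orth QU W' hW'
  have hndC : (polarBilin (QU.comp C.subtype)).Nondegenerate := nondeg_orth QU hQU W hW
  have hndC' : (polarBilin (QU.comp C'.subtype)).Nondegenerate := nondeg_orth QU hQU W' hW'
  set Φ := Submodule.prodEquivOfIsCompl W C hc with hΦ
  set Φ' := Submodule.prodEquivOfIsCompl W' C' hc' with hΦ'
  have hΦQ : ∀ z, QU (Φ z) = (QuadraticMap.prod (QU.comp W.subtype) (QU.comp C.subtype)) z :=
    apply_prodEquiv QU W hc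
  have hΦ'Q : ∀ z, QU (Φ' z) = (QuadraticMap.prod (QU.comp W'.subtype) (QU.comp C'.subtype)) z :=
    apply_prodEquiv QU W' hc'
  have hdimW : finrank F W = finrank F W' := e₁.finrank_eq
  have hdimC : finrank F C = finrank F C' := by
    have h1 := Submodule.finrank_add_eq_of_isCompl hc
    have h3 := Submodule.finrank_add_eq_of_isCompl hc'
    omega
  -- bases
  set bW := Module.finBasis F W with hbW
  set bW' := bW.map e₁ with hbW'
  set bC := Module.finBasis F C with hbC
  set bC' := (Module.finBasis F C').reindex (finCongr hdimC.symm) with hbC'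
  set B₁ := (bW.prod bC).map Φ with hB₁
  set B₂ := (bW'.prod bC').map Φ' with hB₂
  have hg₁ : (Matrix.of fun i j => polar QU (B₁ i) (B₁ j)).det =
      (Matrix.of fun i j => polar (QU.comp W.subtype) (bW i) (bW j)).det *
        (Matrix.of fun i j => polar (QU.comp C.subtype) (bC i) (bC j)).det := by
    rw [← Cfsg.Agent.Helper13.OrthJp.gram_det_prod]
    congr 1
    ext i j
    simp only [Matrix.of_apply, hB₁, Module.Basis.map_apply]
    exact polar_of_embedding _ QU Φ.toLinearMap (fun z => hΦQ z) _ _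
  have hg₂ : (Matrix.of fun i j => polar QU (B₂ i) (B₂ j)).det =
      (Matrix.of fun i j => polar (QU.comp W'.subtype) (bW' i) (bW' j)).det *
        (Matrix.of fun i j => polar (QU.comp C'.subtype) (bC' i) (bC' j)).det := by
    rw [← Cfsg.Agent.Helper13.OrthJp.gram_det_prod]
    congr 1
    ext i j
    simp only [Matrix.of_apply, hB₂, Module.Basis.map_apply]
    exact polar_of_embedding _ QU Φ'.toLinearMap (fun z => hΦ'Q z) _ _
  have hgW : (Matrix.of fun i j => polar (QU.comp W'.subtype) (bW' i) (bW' j)) =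
      (Matrix.of fun i j => polar (QU.comp W.subtype) (bW i) (bW j)) := by
    ext i j
    simp only [Matrix.of_apply, hbW', Module.Basis.map_apply]
    exact polar_of_embedding (QU.comp W.subtype) (QU.comp W'.subtype) e₁.toLinearMap
      (fun w => he₁ w) _ _
  have hbasis := gram_det_basis QU B₁ B₂
  rw [hg₁, hg₂, hgW] at hbasis
  have hdW := gram_det_ne_zero (QU.comp W.subtype) bW hW
  have hdC := gram_det_ne_zero (QU.comp C.subtype) bC hndC
  generalize (Matrix.of fun i j => polar (QU.comp W.subtype) (bW i) (bW j)).det = dW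
    at hbasis hdW
  have hsq : IsSquare ((Matrix.of fun i j => polar (QU.comp C.subtype) (bC i) (bC j)).det *
      (Matrix.of fun i j => polar (QU.comp C'.subtype) (bC' i) (bC' j)).det) := by
    have h5 : (Matrix.of fun i j => polar (QU.comp C'.subtype) (bC' i) (bC' j)).det =
        (B₁.toMatrix B₂).det ^ 2 *
          (Matrix.of fun i j => polar (QU.comp C.subtype) (bC i) (bC j)).det := by
      apply mul_left_cancel₀ hdW
      rw [hbasis]
      ring
    rw [h5]
    exact ⟨(B₁.toMatrix B₂).det *
      (Matrix.of fun i j => polar (QU.comp C.subtype) (bC i) (bC j)).det, by ring⟩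
  obtain ⟨e₂, he₂⟩ := equiv_of_disc_idx h2 (QU.comp C.subtype) (QU.comp C'.subtype) hndC hndC'
    bC bC' rfl hsq
  refine ⟨Φ.symm.trans ((e₁.prodCongr e₂).trans Φ'), ?_, ?_⟩
  · intro v
    show QU (Φ' ((e₁.prodCongr e₂) (Φ.symm v))) = QU v
    have hv : v = Φ (Φ.symm v) := (Φ.apply_symm_apply v).symm
    conv_rhs => rw [hv]
    rw [hΦ'Q, hΦQ, QuadraticMap.prod_apply, QuadraticMap.prod_apply]
    congr 1
    · exact he₁ _
    · exact he₂ _
  · apply le_antisymm
    · rintro _ ⟨w, hw, rfl⟩
      show Φ' ((e₁.prodCongr e₂) (Φ.symm w)) ∈ W'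
      have h1 : Φ.symm w = ((⟨w, hw⟩ : W), 0) :=
        Submodule.prodEquivOfIsCompl_symm_apply_left W C hc ⟨w, hw⟩
      rw [h1]
      show Φ' (e₁ ⟨w, hw⟩, e₂ 0) ∈ W'
      rw [map_zero, Submodule.coe_prodEquivOfIsCompl']
      simp
    · intro w' hw'
      refine ⟨((e₁.symm ⟨w', hw'⟩ : W) : U), (e₁.symm ⟨w', hw'⟩).2, ?_⟩
      show Φ' ((e₁.prodCongr e₂) (Φ.symm ((e₁.symm ⟨w', hw'⟩ : W) : U))) = w'
      have h1 : Φ.symm ((e₁.symm ⟨w', hw'⟩ : W) : U) = (e₁.symm ⟨w', hw'⟩, 0) :=
        Submodule.prodEquivOfIsCompl_symm_apply_left W C hc _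
      rw [h1]
      show Φ' (e₁ (e₁.symm ⟨w', hw'⟩), e₂ 0) = w'
      rw [map_zero, e₁.apply_symm_apply, Submodule.coe_prodEquivOfIsCompl']
      simp

end witt

end Cfsg.Agent.Helper13.OrthNd
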