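import Mathlib
import Cfsg.Agent.Lib.Helper13.OrthNd4

set_option autoImplicit false
set_option linter.unusedSectionVars false

/-!
# The number of nondegenerate subspaces of given type divides the order of the isometry group
-/

namespace Cfsg.Agent.Helper13.OrthNd

open Polynomial Module QuadraticMap Matrix Cfsg.Agent.Helper13.SS Cfsg.Agent.Helper13.Dual
  Cfsg.Agent.Helper13.SympSS Cfsg.Agent.Helper13.SpDec Cfsg.Agent.Helper13.SlDec
  Cfsg.Agent.Helper13.SpTi Cfsg.Agent.Helper13.OrthSS Cfsg.Agent.Helper13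
  Cfsg.Agent.Helper13.OrthTs Cfsg.Agent.Helper13.OrthTy Cfsg.Agent.Helper13.HermSS
open scoped Classical

universe u

section defs
variable {F : Type u} [Field F] {U : Type u} [AddCommGroup U] [Module F U]

/-- nondegenerate subspaces of given dimension and type -/
abbrev NdSub (QU : QuadraticForm F U) (m : ℕ) (τ : Prop) :=
  {W : Submodule F U // finrank F W = m ∧ (polarBilin (QU.comp W.subtype)).Nondegenerate ∧
    (IsHyp (QU.comp W.subtype) ↔ τ)}

/-- the isometry group as a group of linear equivalences -/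
def isoGroup (QU : QuadraticForm F U) : Subgroup (U ≃ₗ[F] U) where
  carrier := {g | ∀ v, QU (g v) = QU v}
  mul_mem' := fun {a b} ha hb v => by
    rw [LinearEquiv.mul_apply, ha, hb]
  one_mem' := fun v => rfl
  inv_mem' := fun {a} ha v => by
    have h1 := ha (a⁻¹ v)
    have h3 : a (a⁻¹ v) = v := by
      rw [← LinearEquiv.mul_apply, mul_inv_cancel]
      rfl
    rw [h3] at h1
    exact h1.symm

theorem mem_isoGroup (QU : QuadraticForm F U) (g : U ≃ₗ[F] U) :
    g ∈ isoGroup QU ↔ ∀ v, QU (g v) = QU v := Iff.rfl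

theorem linearEquiv_pow_apply (g : U ≃ₗ[F] U) (k : ℕ) (v : U) :
    (g ^ k) v = ((g : U →ₗ[F] U) ^ k : Module.End F U) v := by
  induction k generalizing v with
  | zero => rfl
  | succ k ih =>
    rw [pow_succ, pow_succ, LinearEquiv.mul_apply, Module.End.mul_apply, ih]
    rfl

end defs

section props
variable {F : Type u} [Field F] {U : Type u} [AddCommGroup U] [Module F U]
  [FiniteDimensional F U] (QU : QuadraticForm F U)

/-- the properties are invariant under isometries -/
theorem ndsub_map (g : U ≃ₗ[F] U) (hg : ∀ v, QU (g v) = QU v) (m : ℕ) (τ : Prop)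
    (W : Submodule F U)
    (hW : finrank F W = m ∧ (polarBilin (QU.comp W.subtype)).Nondegenerate ∧
      (IsHyp (QU.comp W.subtype) ↔ τ)) :
    finrank F (W.map (g : U →ₗ[F] U)) = m ∧
      (polarBilin (QU.comp (W.map (g : U →ₗ[F] U)).subtype)).Nondegenerate ∧
      (IsHyp (QU.comp (W.map (g : U →ₗ[F] U)).subtype) ↔ τ) := by
  obtain ⟨h1, h3, h4⟩ := hW
  set e : W ≃ₗ[F] W.map (g : U →ₗ[F] U) := g.submoduleMap W with he
  have heQ : ∀ w, (QU.comp (W.map (g : U →ₗ[F] U)).subtype) (e w) = (QU.comp W.subtype) w := by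
    intro w
    show QU (g (w : U)) = QU (w : U)
    exact hg _
  refine ⟨?_, ?_, ?_⟩
  · rw [← h1]
    exact e.finrank_eq.symm
  · have := nondeg_comp_equiv (QU.comp W.subtype) h3 e.symm
    have e2 : (QU.comp W.subtype).comp (e.symm : _ →ₗ[F] W) =
        QU.comp (W.map (g : U →ₗ[F] U)).subtype := by
      ext y
      have := heQ (e.symm y)
      rw [e.apply_symm_apply] at this
      exact this.symm
    rwa [e2] at this
  · rw [← h4]
    exact (isHyp_iff_of_equiv e heQ).symm

end props

section div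
variable {F : Type u} [Field F] [Fintype F] {U : Type u} [AddCommGroup U] [Module F U]
  [FiniteDimensional F U] (QU : QuadraticForm F U)

theorem finite_linearEquiv : Finite (U ≃ₗ[F] U) := by
  haveI : Finite U := Module.finite_of_finite F
  exact Finite.of_injective (fun g : U ≃ₗ[F] U => (g : U → U)) DFunLike.coe_injective

/-- the number of nondegenerate subspaces of a given type divides the order of the isometry
group -/
theorem card_ndsub_dvd (h2 : (2 : F) ≠ 0) (hQU : (polarBilin QU).Nondegenerate) (m : ℕ)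
    (hme : Even m) (τ : Prop) (W₀ : NdSub QU m τ) :
    Nat.card (NdSub QU m τ) ∣ Nat.card (isoGroup QU) := by
  haveI : Finite (U ≃ₗ[F] U) := finite_linearEquiv
  letI act : MulAction (isoGroup QU) (Submodule F U) :=
    { smul := fun g S => S.map ((g : U ≃ₗ[F] U) : U →ₗ[F] U)
      one_smul := fun S => by
        show S.map ((1 : U ≃ₗ[F] U) : U →ₗ[F] U) = S
        exact Submodule.map_id S
      mul_smul := fun g h S => by
        show S.map (((g * h : isoGroup QU) : U ≃ₗ[F] U) : U →ₗ[F] U) =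
          (S.map ((h : U ≃ₗ[F] U) : U →ₗ[F] U)).map ((g : U ≃ₗ[F] U) : U →ₗ[F] U)
        rw [← Submodule.map_comp]
        rfl }
  have hsmul : ∀ (g : isoGroup QU) (S : Submodule F U),
      g • S = S.map ((g : U ≃ₗ[F] U) : U →ₗ[F] U) := fun g S => rfl
  have horb : ∀ S : Submodule F U, S ∈ MulAction.orbit (isoGroup QU) W₀.1 ↔
      (finrank F S = m ∧ (polarBilin (QU.comp S.subtype)).Nondegenerate ∧
        (IsHyp (QU.comp S.subtype) ↔ τ)) := by
    intro S
    constructor
    · rintro ⟨g, rfl⟩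
      exact ndsub_map QU g.1 g.2 m τ W₀.1 W₀.2
    · rintro ⟨h1, h3, h4⟩
      obtain ⟨g1, g3, g4⟩ := W₀.2
      obtain ⟨e₁, he₁⟩ := equiv_of_type (QU.comp W₀.1.subtype) (QU.comp S.subtype) g3 h3
        (by rw [g1, h1]) (by rw [g1]; exact hme) (by rw [g4, h4])
      obtain ⟨g, hgQ, hgW⟩ := exists_isometry_map QU h2 hQU W₀.1 S g3 h3 e₁ (fun w => he₁ w)
      exact ⟨⟨g, hgQ⟩, hgW⟩
  have hcard : Nat.card (NdSub QU m τ) = Nat.card (MulAction.orbit (isoGroup QU) W₀.1) := by
    apply Nat.card_congr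
    exact Equiv.subtypeEquivRight (fun S => (horb S).symm)
  rw [hcard]
  have h5 := Nat.card_congr (MulAction.orbitProdStabilizerEquivGroup (isoGroup QU) W₀.1)
  rw [Nat.card_prod] at h5
  exact ⟨_, h5.symm⟩

end div

section order
variable {F : Type u} [Field F] [Fintype F] {p : ℕ} [Fact p.Prime] [CharP F p] {r q : ℕ}
  {U : Type u} [AddCommGroup U] [Module F U] [FiniteDimensional F U]

/-- a symmetric family of multiplicities with small weight vanishes -/
theorem eq_zero_of_lt (hF : Fintype.card F = q) (hr : r.Prime) (hr2 : r ≠ 2) (hrp : r ≠ p)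
    (c : ℕ) (hc : c = if Even (orderOf (q : ZMod r)) then orderOf (q : ZMod r)
      else 2 * orderOf (q : ZMod r))
    (j : ↥(cycFactors F r) → ℕ) (hj : ∀ a, j (starΦ hr hr2 hrp a) = j a)
    (hlt : orderOf (q : ZMod r) * ∑ a, j a < c) : ∀ a, j a = 0 := by
  have hi0 : 0 < orderOf (q : ZMod r) := pos_orderOf hF hr hrp
  have hev := even_mul_sum hF hr hr2 hrp j hj
  have hsum : ∑ a, j a = 0 := by
    by_contra hne
    have h1 : 1 ≤ ∑ a, j a := Nat.one_le_iff_ne_zero.2 hne
    by_cases hie : Even (orderOf (q : ZMod r))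
    · rw [if_pos hie] at hc
      rw [hc] at hlt
      have : orderOf (q : ZMod r) * 1 ≤ orderOf (q : ZMod r) * ∑ a, j a :=
        Nat.mul_le_mul_left _ h1
      omega
    · rw [if_neg hie] at hc
      have hio : Odd (orderOf (q : ZMod r)) := Nat.not_even_iff_odd.1 hie
      have hse : Even (∑ a, j a) := by
        rcases Nat.even_mul.1 hev with h | h
        · exact absurd h hie
        · exact h
      obtain ⟨t, ht⟩ := hse
      have h3 : 2 ≤ ∑ a, j a := by omega
      have : orderOf (q : ZMod r) * 2 ≤ orderOf (q : ZMod r) * ∑ a, j a :=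
        Nat.mul_le_mul_left _ h3
      omega
  intro a
  exact (Finset.sum_eq_zero_iff.1 hsum) a (Finset.mem_univ a)

/-- the isometry group of a small space has no element of order `r` -/
theorem no_order_of_small (hF : Fintype.card F = q) (hr : r.Prime) (hr2 : r ≠ 2) (hrp : r ≠ p)
    (c : ℕ) (hc : c = if Even (orderOf (q : ZMod r)) then orderOf (q : ZMod r)
      else 2 * orderOf (q : ZMod r))
    (QU : QuadraticForm F U) (hQU : (polarBilin QU).Nondegenerate) (hlt : finrank F U < c)
    (g : isoGroup QU) (hg : orderOf g = r) : False := by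
  have hr1 : 1 ≤ r := hr.one_lt.le
  have hrF : (r : F) ≠ 0 := cast_ne_zero_of_prime_ne hr hrp
  have hi0 : 0 < orderOf (q : ZMod r) := pos_orderOf hF hr hrp
  set A : Module.End F U := ((g : U ≃ₗ[F] U) : U →ₗ[F] U) with hA
  have hgr : (g : U ≃ₗ[F] U) ^ r = 1 := by
    have := pow_orderOf_eq_one g
    rw [hg] at this
    have h3 := congrArg (Subtype.val) this
    rwa [SubmonoidClass.coe_pow] at h3
  have hAr : A ^ r = 1 := by
    apply LinearMap.ext
    intro v
    rw [hA, ← linearEquiv_pow_apply, hgr]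
    rfl
  have hAQ : ∀ v, QU (A v) = QU v := g.2
  obtain ⟨j, hfin, hcp⟩ := struct_gl hF hr hrp A hAr
  obtain ⟨-, hkA⟩ := kdim_of_gPoly hF hr hrp A hAr _ j hcp
  have hinvA : HInv (AlgHom.id F F) 1 A (polarBilin QU) := hinv_of_isom _ hQU A hAQ
  have hσ2 : ∀ x : F, (AlgHom.id F F) ((AlgHom.id F F) x) = x := fun x => rfl
  have hjs : ∀ a, j (starΦ hr hr2 hrp a) = j a := by
    intro a
    have h1 := Cfsg.Agent.Helper13.Uni.kdim_cdual (F := F) (K := F) (σ := AlgHom.id F F) hσ2 hr1
      hrF hAr hinvA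
      (cycFactors_irreducible a.2) (cycFactors_monic a.2) (cycFactors_dvd_X_pow a.2)
    have h2 : cdual r ((AlgHom.id F F : F →ₐ[F] F) : F →+* F) a.1 = dualPoly r a.1 :=
      Polynomial.map_id
    rw [h2] at h1
    have h3 : kdim A (starΦ hr hr2 hrp a).1 = kdim A a.1 := h1
    rw [hkA, hkA] at h3
    exact Nat.eq_of_mul_eq_mul_left hi0 h3
  have hlt' : orderOf (q : ZMod r) * ∑ a, j a < c := by
    rw [hfin] at hlt
    omega
  have hj0 := eq_zero_of_lt hF hr hr2 hrp c hc j hjs hlt'
  have hsum : ∑ a, j a = 0 := Finset.sum_eq_zero (fun a _ => hj0 a)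
  rw [hsum, mul_zero, add_zero] at hfin
  have htop : LinearMap.ker (aeval A (X - 1 : F[X])) = ⊤ :=
    Submodule.eq_top_of_finrank_eq hfin.symm
  have hA1 : ∀ v, A v = v := by
    intro v
    have h1 : v ∈ LinearMap.ker (aeval A (X - 1 : F[X])) := by
      rw [htop]
      trivial
    rwa [LinearMap.mem_ker, map_sub, aeval_X, map_one, LinearMap.sub_apply,
      Module.End.one_apply, sub_eq_zero] at h1
  have hg1 : g = 1 := by
    apply Subtype.ext
    apply LinearEquiv.ext
    intro v
    exact hA1 v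
  rw [hg1, orderOf_one] at hg
  have := hr.one_lt
  omega

/-- in a small space the number of nondegenerate subspaces of a given type is prime to `r` -/
theorem not_dvd_card_ndsub (hF : Fintype.card F = q) (hr : r.Prime) (hr2 : r ≠ 2) (hrp : r ≠ p)
    (h2 : (2 : F) ≠ 0)
    (c : ℕ) (hc : c = if Even (orderOf (q : ZMod r)) then orderOf (q : ZMod r)
      else 2 * orderOf (q : ZMod r))
    (QU : QuadraticForm F U) (hQU : (polarBilin QU).Nondegenerate) (hlt : finrank F U < c)
    (m : ℕ) (hme : Even m) (τ : Prop) (W₀ : NdSub QU m τ) :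
    ¬ r ∣ Nat.card (NdSub QU m τ) := by
  intro hdvd
  have : Finite (U ≃ₗ[F] U) := finite_linearEquiv
  have : Fact r.Prime := ⟨hr⟩
  have h1 := dvd_trans hdvd (card_ndsub_dvd QU h2 hQU m hme τ W₀)
  obtain ⟨g, hg⟩ := exists_prime_orderOf_dvd_card' r h1
  exact no_order_of_small hF hr hr2 hrp c hc QU hQU hlt g hg

end order

end Cfsg.Agent.Helper13.OrthNd
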