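import Mathlib
import Cfsg.Agent.Lib.Helper13.OrthNd5

set_option autoImplicit false
set_option linter.unusedSectionVars false

/-!
# Fixed points of an isometry of prime order on the set of nondegenerate subspaces
-/

namespace Cfsg.Agent.Helper13.OrthNd

open Polynomial Module QuadraticMap Matrix Cfsg.Agent.Helper13.SS Cfsg.Agent.Helper13.Dual
  Cfsg.Agent.Helper13.SympSS Cfsg.Agent.Helper13.SpDec Cfsg.Agent.Helper13.SlDec
  Cfsg.Agent.Helper13.SpTi Cfsg.Agent.Helper13.OrthSS Cfsg.Agent.Helper13
  Cfsg.Agent.Helper13.OrthTs Cfsg.Agent.Helper13.OrthTy Cfsg.Agent.Helper13.HermSS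
open scoped Classical

universe u

section gen
variable {F : Type u} [Field F] {U : Type u} [AddCommGroup U] [Module F U]

/-- an endomorphism of finite order as a linear equivalence -/
noncomputable def equivOfPow (A : Module.End F U) (r : ℕ) (hr1 : 1 ≤ r) (hAr : A ^ r = 1) :
    U ≃ₗ[F] U :=
  LinearEquiv.ofLinear A (A ^ (r - 1))
    (by
      show A * A ^ (r - 1) = 1
      rw [← pow_succ', Nat.sub_add_cancel hr1, hAr])
    (by
      show A ^ (r - 1) * A = 1
      rw [← pow_succ, Nat.sub_add_cancel hr1, hAr])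

theorem equivOfPow_apply (A : Module.End F U) (r : ℕ) (hr1 : 1 ≤ r) (hAr : A ^ r = 1) (v : U) :
    equivOfPow A r hr1 hAr v = A v := rfl

theorem coe_equivOfPow (A : Module.End F U) (r : ℕ) (hr1 : 1 ≤ r) (hAr : A ^ r = 1) :
    ((equivOfPow A r hr1 hAr : U ≃ₗ[F] U) : U →ₗ[F] U) = A := rfl

theorem mem_fix (A : Module.End F U) (v : U) :
    v ∈ LinearMap.ker (aeval A (X - 1 : F[X])) ↔ A v = v := by
  rw [LinearMap.mem_ker, map_sub, aeval_X, map_one, LinearMap.sub_apply,
    Module.End.one_apply, sub_eq_zero]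

theorem polar_isom (QU : QuadraticForm F U) (A : Module.End F U)
    (hAQ : ∀ v, QU (A v) = QU v) (j : ℕ) (x y : U) :
    polar QU ((A ^ j) x) ((A ^ j) y) = polar QU x y := by
  induction j with
  | zero => rfl
  | succ j ih =>
    rw [pow_succ', Module.End.mul_apply, Module.End.mul_apply]
    have : polar QU (A ((A ^ j) x)) (A ((A ^ j) y)) = polar QU ((A ^ j) x) ((A ^ j) y) := by
      unfold polar
      rw [← map_add, hAQ, hAQ, hAQ]
    rw [this, ih]

theorem pow_apply_fix (A : Module.End F U) (v : U) (hv : A v = v) (j : ℕ) : (A ^ j) v = v := by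
  induction j with
  | zero => rfl
  | succ j ih => rw [pow_succ, Module.End.mul_apply, hv, ih]

/-- the fixed space of a semisimple isometry is nondegenerate -/
theorem nondeg_fixed (QU : QuadraticForm F U) (hQU : (polarBilin QU).Nondegenerate)
    (A : Module.End F U) (hAQ : ∀ v, QU (A v) = QU v) (r : ℕ) (hAr : A ^ r = 1)
    (hrF : (r : F) ≠ 0) :
    (polarBilin (QU.comp (LinearMap.ker (aeval A (X - 1 : F[X]))).subtype)).Nondegenerate := by
  set N : Module.End F U := ∑ j ∈ Finset.range r, A ^ j with hN
  have hAN : A * N = N := by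
    have h1 := mul_geom_sum A r
    rw [hAr, sub_self, sub_mul, one_mul, sub_eq_zero] at h1
    exact h1
  apply nondeg_of_polar
  intro v hv
  apply Subtype.ext
  apply hQU.1
  intro x
  have hvf : A (v : U) = v := (mem_fix A _).1 v.2
  have hNx : N x ∈ LinearMap.ker (aeval A (X - 1 : F[X])) := by
    rw [mem_fix, ← Module.End.mul_apply, hAN]
  have h1 := hv ⟨N x, hNx⟩
  rw [OrthTs.polar_comp] at h1
  have h1' : polar QU (v : U) (N x) = 0 := h1
  show polar QU (v : U) x = 0
  have h2 : polar QU (v : U) (N x) = (r : F) * polar QU (v : U) x := by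
    have h3 : N x = ∑ j ∈ Finset.range r, (A ^ j) x := by
      rw [hN, LinearMap.sum_apply]
    have h4 : polar QU (v : U) (N x) = polarBilin QU (v : U) (N x) := rfl
    rw [h4, h3, map_sum]
    have h5 : ∀ j ∈ Finset.range r, polarBilin QU (v : U) ((A ^ j) x) = polar QU (v : U) x := by
      intro j _
      show polar QU (v : U) ((A ^ j) x) = _
      have := polar_isom QU A hAQ j (v : U) x
      rwa [pow_apply_fix A _ hvf j] at this
    rw [Finset.sum_congr rfl h5, Finset.sum_const, Finset.card_range, nsmul_eq_mul]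
  have h6 : (r : F) * polar QU (v : U) x = 0 := by
    rw [← h2]
    exact h1'
  rcases mul_eq_zero.1 h6 with h | h
  · exact absurd h hrF
  · exact h

/-- transport of the defining properties along an isometry -/
theorem props_of_equiv {M M' : Type u} [AddCommGroup M] [Module F M] [AddCommGroup M']
    [Module F M'] (QM : QuadraticForm F M) (QM' : QuadraticForm F M') (e : M ≃ₗ[F] M')
    (he : ∀ z, QM' (e z) = QM z) (m : ℕ) (τ : Prop)
    (h : finrank F M = m ∧ (polarBilin QM).Nondegenerate ∧ (IsHyp QM ↔ τ)) :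
    finrank F M' = m ∧ (polarBilin QM').Nondegenerate ∧ (IsHyp QM' ↔ τ) := by
  obtain ⟨h1, h3, h4⟩ := h
  refine ⟨?_, ?_, ?_⟩
  · rw [← h1]
    exact e.finrank_eq.symm
  · have := nondeg_comp_equiv QM h3 e.symm
    have e2 : QM.comp (e.symm : M' →ₗ[F] M) = QM' := by
      ext y
      have := he (e.symm y)
      rw [e.apply_symm_apply] at this
      exact this.symm
    rwa [e2] at this
  · rw [← h4]
    exact (isHyp_iff_of_equiv e he).symm

/-- the image of an isometric embedding -/
theorem nonempty_ndsub_of_embedding {M : Type u} [AddCommGroup M] [Module F M]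
    (QU : QuadraticForm F U) (QM : QuadraticForm F M) (f : M →ₗ[F] U)
    (hf : Function.Injective f) (hfQ : ∀ z, QU (f z) = QM z) (m : ℕ) (τ : Prop)
    (h : finrank F M = m ∧ (polarBilin QM).Nondegenerate ∧ (IsHyp QM ↔ τ)) :
    Nonempty (NdSub QU m τ) :=
  ⟨⟨LinearMap.range f, props_of_equiv QM (QU.comp (LinearMap.range f).subtype)
    (LinearEquiv.ofInjective f hf) (fun z => hfQ z) m τ h⟩⟩

/-- nondegenerate subspaces inside a subspace -/
noncomputable def ndsubSubEquiv (QU : QuadraticForm F U) (V₁ : Submodule F U) (m : ℕ)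
    (τ : Prop) :
    {W : NdSub QU m τ // W.1 ≤ V₁} ≃ NdSub (QU.comp V₁.subtype) m τ where
  toFun := fun W => ⟨W.1.1.comap V₁.subtype, by
    have hfwd : ∀ y, (QU.comp W.1.1.subtype) (Submodule.comapSubtypeEquivOfLe W.2 y) =
        ((QU.comp V₁.subtype).comp (W.1.1.comap V₁.subtype).subtype) y := fun y => rfl
    exact props_of_equiv (QU.comp W.1.1.subtype)
      ((QU.comp V₁.subtype).comp (W.1.1.comap V₁.subtype).subtype)
      (Submodule.comapSubtypeEquivOfLe W.2).symm
      (fun z => by
        have := hfwd ((Submodule.comapSubtypeEquivOfLe W.2).symm z)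
        rw [LinearEquiv.apply_symm_apply] at this
        exact this.symm) m τ W.1.2⟩
  invFun := fun W' => ⟨⟨W'.1.map V₁.subtype, by
    exact props_of_equiv ((QU.comp V₁.subtype).comp W'.1.subtype)
      (QU.comp (W'.1.map V₁.subtype).subtype) (Submodule.equivSubtypeMap V₁ W'.1)
      (fun z => rfl) m τ W'.2⟩,
    Submodule.map_subtype_le V₁ W'.1⟩
  left_inv := fun W => by
    apply Subtype.ext
    apply Subtype.ext
    show (W.1.1.comap V₁.subtype).map V₁.subtype = W.1.1
    rw [Submodule.map_comap_subtype]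
    exact inf_eq_right.2 W.2
  right_inv := fun W' => by
    apply Subtype.ext
    show (W'.1.map V₁.subtype).comap V₁.subtype = W'.1
    exact Submodule.comap_map_eq_of_injective (Submodule.injective_subtype V₁) W'.1

end gen

section fix
variable {F : Type u} [Field F] [Fintype F] {U : Type u} [AddCommGroup U] [Module F U]
  [FiniteDimensional F U]

theorem finite_ndsub (QU : QuadraticForm F U) (m : ℕ) (τ : Prop) : Finite (NdSub QU m τ) := by
  haveI : Finite U := Module.finite_of_finite F
  apply Finite.of_injective (fun W : NdSub QU m τ => ((W.1 : Submodule F U) : Set U))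
  intro W W' h
  apply Subtype.ext
  exact SetLike.coe_injective h

/-- the number of nondegenerate subspaces is congruent to the number of invariant ones -/
theorem card_ndsub_modEq (QU : QuadraticForm F U) (A : Module.End F U)
    (hAQ : ∀ v, QU (A v) = QU v) (r : ℕ) (hr : r.Prime) (hAr : A ^ r = 1) (m : ℕ) (τ : Prop) :
    Nat.card (NdSub QU m τ) ≡ Nat.card {W : NdSub QU m τ // W.1.map A = W.1} [MOD r] := by
  have hr1 : 1 ≤ r := hr.one_lt.le
  haveI : Fact r.Prime := ⟨hr⟩
  haveI : Finite (NdSub QU m τ) := finite_ndsub QU m τ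
  haveI : Fintype (NdSub QU m τ) := Fintype.ofFinite _
  set f : Function.End (NdSub QU m τ) := fun W => ⟨W.1.map A,
    ndsub_map QU (equivOfPow A r hr1 hAr) (fun v => hAQ v) m τ W.1 W.2⟩ with hf
  have hfk : ∀ (k : ℕ) (W : NdSub QU m τ), ((f ^ k) W).1 = W.1.map (A ^ k) := by
    intro k
    induction k with
    | zero =>
      intro W
      show W.1 = W.1.map (LinearMap.id)
      rw [Submodule.map_id]
    | succ k ih =>
      intro W
      rw [pow_succ]
      show ((f ^ k) (f W)).1 = _
      rw [ih (f W)]
      show (W.1.map A).map (A ^ k) = _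
      rw [← Submodule.map_comp, pow_succ]
      rfl
  have hfr : f ^ r ^ 1 = 1 := by
    funext W
    apply Subtype.ext
    rw [pow_one, hfk, hAr]
    show W.1.map (LinearMap.id) = W.1
    rw [Submodule.map_id]
  have h1 := Equiv.Perm.card_fixedPoints_modEq (f := f) (p := r) (n := 1) hfr
  rw [Nat.card_eq_fintype_card]
  have h3 : Nat.card {W : NdSub QU m τ // W.1.map A = W.1} =
      Fintype.card (Function.fixedPoints f) := by
    rw [← Nat.card_eq_fintype_card]
    apply Nat.card_congr
    apply Equiv.subtypeEquivRight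
    intro W
    show _ ↔ f W = W
    constructor
    · intro h
      exact Subtype.ext h
    · intro h
      exact congrArg Subtype.val h
  rw [h3]
  exact h1

end fix

end Cfsg.Agent.Helper13.OrthNd
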