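import Mathlib
import Cfsg.Agent.Lib.Helper13.OrthNd6
import Cfsg.Agent.Lib.Helper13.OrthTs7

set_option autoImplicit false
set_option linter.unusedSectionVars false

/-!
# The extremal semisimple isometry and the counting lemma
-/

namespace Cfsg.Agent.Helper13.OrthNd

open Polynomial Module QuadraticMap Matrix Cfsg.Agent.Helper13.SS Cfsg.Agent.Helper13.Dual
  Cfsg.Agent.Helper13.SympSS Cfsg.Agent.Helper13.SpDec Cfsg.Agent.Helper13.SlDec
  Cfsg.Agent.Helper13.SpTi Cfsg.Agent.Helper13.OrthSS Cfsg.Agent.Helper13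
  Cfsg.Agent.Helper13.OrthTs Cfsg.Agent.Helper13.OrthTy Cfsg.Agent.Helper13.HermSS
open scoped Classical

universe u

section struct
variable {F : Type u} [Field F] [Fintype F] {p : ℕ} [Fact p.Prime] [CharP F p] {r q : ℕ}
  {U : Type u} [AddCommGroup U] [Module F U] [FiniteDimensional F U]

/-- the shape of a semisimple isometry of order `r` -/
theorem struct_orth (hF : Fintype.card F = q) (hr : r.Prime) (hr2 : r ≠ 2) (hrp : r ≠ p)
    (QU : QuadraticForm F U) (hQU : (polarBilin QU).Nondegenerate) (A : Module.End F U)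
    (hAQ : ∀ v, QU (A v) = QU v) (hAr : A ^ r = 1) :
    ∃ k : ↥(cycFactors F r) → ℕ, (∀ a, k (starΦ hr hr2 hrp a) = k a) ∧
      finrank F U = kdim A (X - 1) + orderOf (q : ZMod r) * ∑ a, k a ∧
      A.charpoly = gPoly r (kdim A (X - 1)) k := by
  have hr1 : 1 ≤ r := hr.one_lt.le
  have hrF : (r : F) ≠ 0 := cast_ne_zero_of_prime_ne hr hrp
  have hi0 : 0 < orderOf (q : ZMod r) := pos_orderOf hF hr hrp
  obtain ⟨j, hfin, hcp⟩ := struct_gl hF hr hrp A hAr
  obtain ⟨-, hkA⟩ := kdim_of_gPoly hF hr hrp A hAr _ j hcp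
  have hinvA : HInv (AlgHom.id F F) 1 A (polarBilin QU) := hinv_of_isom _ hQU A hAQ
  have hσ2 : ∀ x : F, (AlgHom.id F F) ((AlgHom.id F F) x) = x := fun x => rfl
  refine ⟨j, ?_, hfin, hcp⟩
  intro a
  have h1 := Cfsg.Agent.Helper13.Uni.kdim_cdual (F := F) (K := F) (σ := AlgHom.id F F) hσ2 hr1
    hrF hAr hinvA
    (cycFactors_irreducible a.2) (cycFactors_monic a.2) (cycFactors_dvd_X_pow a.2)
  have h2 : cdual r ((AlgHom.id F F : F →ₐ[F] F) : F →+* F) a.1 = dualPoly r a.1 :=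
    Polynomial.map_id
  rw [h2] at h1
  have h3 : kdim A (starΦ hr hr2 hrp a).1 = kdim A a.1 := h1
  rw [hkA, hkA] at h3
  exact Nat.eq_of_mul_eq_mul_left hi0 h3

end struct

section bad
variable {F : Type u} [Field F] [Fintype F] {p : ℕ} [Fact p.Prime] [CharP F p] {r q : ℕ}
  {κ : Type} [Fintype κ] [DecidableEq κ]

/-- the semisimple isometry with the smallest fixed space -/
theorem exists_bad_end (hF : Fintype.card F = q) (hr : r.Prime) (hr2 : r ≠ 2) (hrp : r ≠ p)
    (h2 : (2 : F) ≠ 0) (Q : QuadraticForm F (κ → F)) (hQ : (polarBilin Q).Nondegenerate)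
    (hodd : Odd (Fintype.card κ)) (c : ℕ)
    (hc : c = if Even (orderOf (q : ZMod r)) then orderOf (q : ZMod r)
      else 2 * orderOf (q : ZMod r)) :
    ∃ (g : Module.End F (κ → F)) (k : ↥(cycFactors F r) → ℕ),
      (∀ v, Q (g v) = Q v) ∧ g ^ r = 1 ∧ (∀ a, k (starΦ hr hr2 hrp a) = k a) ∧
      g.charpoly = gPoly r (Fintype.card κ % c) k ∧
      orderOf (q : ZMod r) * ∑ a, k a = c * (Fintype.card κ / c) := by
  have hi0 : 0 < orderOf (q : ZMod r) := pos_orderOf hF hr hrp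
  have hinv := starΦ_involutive (F := F) hr hr2 hrp
  obtain ⟨w, hw, hcw⟩ := exists_weight hF hr hr2 hrp (orderOf (q : ZMod r)) c rfl hc
  obtain ⟨a₀, ha₀⟩ := cycFactors_nonempty_aux (F := F) hF hr hrp
  set n := Fintype.card κ with hn
  set k : ↥(cycFactors F r) → ℕ :=
    fun b => (n / c) * unitFn (starΦ (F := F) hr hr2 hrp) ⟨a₀, ha₀⟩ b with hk
  have hks : ∀ a, k (starΦ hr hr2 hrp a) = k a := by
    intro a
    show (n / c) * unitFn _ _ (starΦ hr hr2 hrp a) = (n / c) * unitFn _ _ a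
    rw [unitFn_symm _ hinv]
  have hsum : orderOf (q : ZMod r) * ∑ a, k a = c * (n / c) := by
    rw [hk, ← Finset.mul_sum, unitFn_sum _ w hw, hcw]
    ring
  have hev := even_mul_sum hF hr hr2 hrp k hks
  have hdn : c * (n / c) + n % c = n := Nat.div_add_mod n c
  have hlt : orderOf (q : ZMod r) * ∑ a, k a < Fintype.card κ := by
    rcases Nat.lt_or_ge (orderOf (q : ZMod r) * ∑ a, k a) n with h | h
    · exact h
    · exfalso
      have h3 : orderOf (q : ZMod r) * ∑ a, k a = n := by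
        rw [hsum] at h ⊢
        omega
      rw [h3] at hev
      exact (Nat.not_even_iff_odd.2 hodd) hev
  have hreal := qreal_primeProd hF hr hr2 hrp hi0 k hks
  have hdeg := natDegree_primeProd hF hr hrp k
  obtain ⟨g, hgQ, hgr, hgc⟩ := hreal.exists_end_odd h2 Q hQ (by rw [hdeg]; exact hlt)
  rw [hdeg] at hgc
  refine ⟨g, k, hgQ, hgr, hks, ?_, hsum⟩
  have e1 : Fintype.card κ - orderOf (q : ZMod r) * ∑ a, k a = n % c := by
    rw [hsum]
    omega
  rw [← e1]
  exact hgc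

end bad

section count
variable {F : Type u} [Field F] [Fintype F] {p : ℕ} [Fact p.Prime] [CharP F p] {r q : ℕ}
  {κ : Type} [Fintype κ] [DecidableEq κ]

/-- the counting lemma: few fixed points of the extremal element -/
theorem not_dvd_of_lt (hF : Fintype.card F = q) (hr : r.Prime) (hr2 : r ≠ 2) (hrp : r ≠ p)
    (h2 : (2 : F) ≠ 0) (c : ℕ)
    (hc : c = if Even (orderOf (q : ZMod r)) then orderOf (q : ZMod r)
      else 2 * orderOf (q : ZMod r))
    (Q : QuadraticForm F (κ → F)) (hQ : (polarBilin Q).Nondegenerate)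
    (A : Module.End F (κ → F)) (hAQ : ∀ v, Q (A v) = Q v) (hAr : A ^ r = 1)
    (e₀ : ℕ) (k : ↥(cycFactors F r) → ℕ) (hcp : A.charpoly = gPoly r e₀ k) (he₀ : e₀ < c)
    (m : ℕ) (hme : Even m) (hm0 : 0 < m) (hm : m < e₀) (τ : Prop) :
    ¬ r ∣ Nat.card (NdSub Q m τ) := by
  have hr1 : 1 ≤ r := hr.one_lt.le
  have hrF : (r : F) ≠ 0 := cast_ne_zero_of_prime_ne hr hrp
  obtain ⟨hfixA, -⟩ := kdim_of_gPoly hF hr hrp A hAr _ k hcp
  set V₁ : Submodule F (κ → F) := LinearMap.ker (aeval A (X - 1 : F[X])) with hV₁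
  have hV₁fin : finrank F V₁ = e₀ := hfixA
  have hQ₁ : (polarBilin (Q.comp V₁.subtype)).Nondegenerate :=
    nondeg_fixed Q hQ A hAQ r hAr hrF
  -- a subspace of the fixed space
  obtain ⟨Um, u1, u2, u3, Qm, hQm, hUmfin, hQmt⟩ := exists_space_of_type (F := F) m hme τ
    (fun h => absurd h (by omega))
  obtain ⟨f, hfinj, hfQ⟩ := exists_embedding h2 (Q.comp V₁.subtype) hQ₁ Qm hQm
    (by rw [hUmfin, hV₁fin]; exact hm)
  obtain ⟨W₀⟩ := nonempty_ndsub_of_embedding (Q.comp V₁.subtype) Qm f hfinj hfQ m τ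
    ⟨hUmfin, hQm, hQmt⟩
  have hnd := not_dvd_card_ndsub hF hr hr2 hrp h2 c hc (Q.comp V₁.subtype) hQ₁
    (by rw [hV₁fin]; exact he₀) m hme τ W₀
  have hmod := card_ndsub_modEq Q A hAQ r hr hAr m τ
  have hiff : ∀ W : NdSub Q m τ, W.1.map A = W.1 ↔ W.1 ≤ V₁ := by
    intro W
    constructor
    · intro hWA
      have hWinv : ∀ v ∈ W.1, A v ∈ W.1 := by
        intro v hv
        rw [← hWA]
        exact Submodule.mem_map_of_mem hv
      obtain ⟨e, j, h1, -, -, hjs, -, hfix⟩ := pattern_of_nondeg hF hr hr2 hrp Q A hAQ hAr e₀ k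
        hcp W.1 hWinv W.2.2.1
      rw [W.2.1] at h1
      have hj0 := eq_zero_of_lt hF hr hr2 hrp c hc j hjs (by omega)
      intro w hw
      rw [hV₁, mem_fix]
      exact hfix hj0 w hw
    · intro hle
      apply le_antisymm
      · rintro _ ⟨w, hw, rfl⟩
        have : A w = w := (mem_fix A w).1 (hle hw)
        rw [this]
        exact hw
      · intro w hw
        have : A w = w := (mem_fix A w).1 (hle hw)
        exact ⟨w, hw, this⟩
  have hcard : Nat.card {W : NdSub Q m τ // W.1.map A = W.1} =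
      Nat.card (NdSub (Q.comp V₁.subtype) m τ) := by
    apply Nat.card_congr
    exact (Equiv.subtypeEquivRight hiff).trans (ndsubSubEquiv Q V₁ m τ)
  intro hdvd
  apply hnd
  rw [← hcard]
  exact (Nat.ModEq.dvd_iff hmod (dvd_refl r)).1 hdvd

/-- statement-level and internal descriptions of nondegenerate subspaces of given type -/
theorem stmt_iff (Q : QuadraticForm F (κ → F)) (W : Submodule F (κ → F)) (m : ℕ) (τ : Prop) :
    (finrank F W = m ∧ Cfsg.Geo.IsNondegenerateOn (polar (⇑Q)) W ∧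
      (Cfsg.Geo.IsPlusTypeOn (⇑Q) W ↔ τ)) ↔
    (finrank F W = m ∧ (polarBilin (Q.comp W.subtype)).Nondegenerate ∧
      (IsHyp (Q.comp W.subtype) ↔ τ)) := by
  constructor
  · rintro ⟨h1, h3, h4⟩
    exact ⟨h1, nondeg_comp_of_nondegOn Q W h3, by rw [← plusType_iff Q W]; exact h4⟩
  · rintro ⟨h1, h3, h4⟩
    exact ⟨h1, nondegOn_of_nondeg_comp Q W h3, by rw [plusType_iff Q W]; exact h4⟩

end count

end Cfsg.Agent.Helper13.OrthNd
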