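import Mathlib
import Cfsg.Agent.Lib.Helper13.OrthNd7
import Cfsg.Agent.Lib.Helper13.OrthNd3

set_option autoImplicit false
set_option linter.unusedSectionVars false

/-!
# Invariant nondegenerate subspaces of semisimple elements of odd prime order, odd dimension
-/

namespace Cfsg.Agent.Helper13.OrthNd

open Polynomial Module QuadraticMap Matrix Cfsg.Agent.Helper13.SS Cfsg.Agent.Helper13.Dual
  Cfsg.Agent.Helper13.SympSS Cfsg.Agent.Helper13.SpDec Cfsg.Agent.Helper13.SlDec
  Cfsg.Agent.Helper13.SpTi Cfsg.Agent.Helper13.OrthSS Cfsg.Agent.Helper13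
  Cfsg.Agent.Helper13.OrthTs Cfsg.Agent.Helper13.OrthTy Cfsg.Agent.Helper13.HermSS
open scoped Classical

universe u

section main
variable {F : Type u} [Field F] [Fintype F] {p : ℕ} [Fact p.Prime] [CharP F p] {r q : ℕ}
  {κ : Type} [Fintype κ] [DecidableEq κ]

theorem toLin'_eq_LG (x : GL κ F) (v : κ → F) :
    Matrix.toLin' (x : Matrix κ κ F) v = LG x v := by
  rw [LG_apply, Matrix.toLin'_apply]

/-- the criterion for semisimple elements of odd prime order -/
theorem main_odd (hF : Fintype.card F = q) (hr : r.Prime) (hr2 : r ≠ 2) (hrp : r ≠ p)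
    (h2 : (2 : F) ≠ 0) (Q : QuadraticForm F (κ → F)) (hQ : (polarBilin Q).Nondegenerate)
    (d m : ℕ) (hκ : Fintype.card κ = 2 * d + 1) (hm : 2 ≤ m) (hme : Even m) (hmn : m ≤ 2 * d)
    (τ : Prop)
    (hrΩ : r ∣ Nat.card {W : Submodule F (κ → F) // finrank F W = m ∧
      Cfsg.Geo.IsNondegenerateOn (polar (⇑Q)) W ∧ (Cfsg.Geo.IsPlusTypeOn (⇑Q) W ↔ τ)})
    (i c : ℕ) (hi : i = orderOf (q : ZMod r)) (hc : c = if Even i then i else 2 * i) :
    (∀ x : GL κ F, x ∈ Cfsg.Geo.omegaGL (⇑Q) → orderOf x = r →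
      ∃ W : Submodule F (κ → F), (finrank F W = m ∧
        Cfsg.Geo.IsNondegenerateOn (polar (⇑Q)) W ∧ (Cfsg.Geo.IsPlusTypeOn (⇑Q) W ↔ τ)) ∧
        W.map (Matrix.toLin' (x : Matrix κ κ F)) ≤ W) ↔
    (c ≤ m ∧ m % c < (2 * d + 1) % c ∧ (m % c = 0 → (τ ↔ (Odd i ∨ Even (m / i))))) := by
  subst hi
  have hi0 : 0 < orderOf (q : ZMod r) := pos_orderOf hF hr hrp
  have hinv := starΦ_involutive (F := F) hr hr2 hrp
  obtain ⟨w, hw, hcw⟩ := exists_weight hF hr hr2 hrp (orderOf (q : ZMod r)) c rfl hc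
  have hrodd : Odd r := hr.eq_two_or_odd'.resolve_left hr2
  have hr1 : 1 ≤ r := hr.one_lt.le
  haveI : Fact r.Prime := ⟨hr⟩
  have hw0 : 0 < w := by
    rcases hw with ⟨-, rfl⟩ | ⟨-, rfl⟩ <;> omega
  have hc0 : 0 < c := by
    rw [hcw]
    exact Nat.mul_pos hw0 hi0
  have hcev : Even c := by
    rw [hc]
    split_ifs with h
    · exact h
    · exact even_two_mul _
  have hoddκ : Odd (Fintype.card κ) := ⟨d, hκ⟩
  obtain ⟨c', hc'⟩ := hcev
  obtain ⟨m', hm'⟩ := hme
  have hdn : c * ((2 * d + 1) / c) + (2 * d + 1) % c = 2 * d + 1 := Nat.div_add_mod _ _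
  have hdm : c * (m / c) + m % c = m := Nat.div_add_mod _ _
  have hnc : (2 * d + 1) % c < c := Nat.mod_lt _ hc0
  have hmc : m % c < c := Nat.mod_lt _ hc0
  have e1 : c * ((2 * d + 1) / c) = 2 * (c' * ((2 * d + 1) / c)) := by
    rw [hc']
    ring
  have e2 : c * (m / c) = 2 * (c' * (m / c)) := by
    rw [hc']
    ring
  -- the type condition when `i` is even
  have hieven : Even (orderOf (q : ZMod r)) → c = orderOf (q : ZMod r) := by
    intro h
    rw [hc, if_pos h]
  -- the counting lemma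
  have hCL : ¬ m < (2 * d + 1) % c := by
    intro hlt
    obtain ⟨g, k, hgQ, hgr, hks, hgc, hsum⟩ := exists_bad_end hF hr hr2 hrp h2 Q hQ hoddκ c hc
    rw [hκ] at hgc
    have h1 := not_dvd_of_lt hF hr hr2 hrp h2 c hc Q hQ g hgQ hgr _ k hgc hnc m ⟨m', hm'⟩
      (by omega) hlt τ
    apply h1
    have h3 : Nat.card (NdSub Q m τ) = Nat.card {W : Submodule F (κ → F) // finrank F W = m ∧
        Cfsg.Geo.IsNondegenerateOn (polar (⇑Q)) W ∧ (Cfsg.Geo.IsPlusTypeOn (⇑Q) W ↔ τ)} := by
      apply Nat.card_congr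
      exact Equiv.subtypeEquivRight (fun W => (stmt_iff Q W m τ).symm)
    rw [h3]
    exact hrΩ
  have hex : Fintype.card F ≠ 2 ∨ Fintype.card κ ≠ 4 := Or.inr (by omega)
  constructor
  · intro hall
    have hcn : c ≤ 2 * d + 1 := by
      by_contra hlt
      push Not at hlt
      rw [Nat.mod_eq_of_lt hlt] at hCL
      omega
    have hs1 : 1 ≤ (2 * d + 1) / c := Nat.div_pos hcn hc0
    obtain ⟨g, k, hgQ, hgr, hks, hgc, hsum⟩ := exists_bad_end hF hr hr2 hrp h2 Q hQ hoddκ c hc
    rw [hκ] at hgc hsum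
    obtain ⟨x, hx, hxr, hLx⟩ := exists_gl_of_end (⇑Q) g hgQ r hr1 hgr
    have hxΩ : (⟨x, hx⟩ : ↥(Cfsg.isometryGroup F (⇑Q))) ∈ Cfsg.Omega F (⇑Q) := by
      apply Cfsg.Agent.Helper13.OrthEl.mem_Omega_of_pow_odd Q hQ hex _ hrodd
      apply Subtype.ext
      rw [SubmonoidClass.coe_pow]
      exact hxr
    have hxmem : x ∈ Cfsg.Geo.omegaGL (⇑Q) :=
      Cfsg.Agent.Helper17.OmegaElts.coe_mem_omegaGL Q hxΩ
    have hxne : x ≠ 1 := by
      rintro rfl
      rw [LG_one] at hLx
      have hgc' := hgc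
      rw [← hLx, LinearMap.charpoly_one, ← gPoly_zero_right (F := F) (r := r),
        Module.finrank_fintype_fun_eq_card, hκ] at hgc'
      have := (gPoly_injective hr hrp _ _ _ _ hgc').1
      have h5 : c * 1 ≤ c * ((2 * d + 1) / c) := Nat.mul_le_mul_left _ hs1
      omega
    have hxo : orderOf x = r := orderOf_eq_prime hxr hxne
    obtain ⟨W, ⟨hWm, hWnd, hWτ⟩, hWinv⟩ := hall x hxmem hxo
    have hWinv' : ∀ v ∈ W, g v ∈ W := by
      intro v hv
      have := hWinv (Submodule.mem_map_of_mem hv)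
      rwa [toLin'_eq_LG, hLx] at this
    obtain ⟨e, j, h1, he, hjk, hjs, htype, -⟩ := pattern_of_nondeg hF hr hr2 hrp Q g hgQ hgr
      _ k hgc W hWinv' (nondeg_comp_of_nondegOn Q W hWnd)
    rw [hWm] at h1
    obtain ⟨j', hj'⟩ := c_dvd_sum hF hr hr2 hrp (orderOf (q : ZMod r)) c rfl hc j hjs
    rw [hj'] at h1
    have helt : e < c := by omega
    have hemod : m % c = e := by
      rw [h1, Nat.add_mul_mod_self_left, Nat.mod_eq_of_lt helt]
    have hjdiv : m / c = j' := by
      rw [h1, Nat.add_mul_div_left _ _ hc0, Nat.div_eq_of_lt helt, zero_add]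
    have e3 : c * j' = 2 * (c' * j') := by
      rw [hc']
      ring
    have hj'1 : 1 ≤ j' := by
      by_contra h0
      have h00 : j' = 0 := by omega
      rw [h00, mul_zero, add_zero] at h1
      omega
    have h6 : c * 1 ≤ c * j' := Nat.mul_le_mul_left _ hj'1
    refine ⟨by omega, by omega, ?_⟩
    intro h0
    rw [hemod] at h0
    have h7 := htype h0
    rw [← plusType_iff Q W, hWτ] at h7
    rw [h7]
    by_cases hie : Even (orderOf (q : ZMod r))
    · have hci := hieven hie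
      have hsj : ∑ a, j a = j' := by
        rw [hci] at hj'
        exact Nat.eq_of_mul_eq_mul_left hi0 hj'
      rw [hsj, ← hjdiv, hci]
    · have hio : Odd (orderOf (q : ZMod r)) := Nat.not_even_iff_odd.1 hie
      exact ⟨fun _ => Or.inl hio, fun _ => Or.inl hio⟩
  · rintro ⟨hcm, hlt, htype⟩ x hxmem hxo
    obtain ⟨h, hhΩ, rfl⟩ := (Cfsg.Agent.Helper17.OmegaElts.mem_omegaGL_iff Q x).1 hxmem
    have hxr : (h : GL κ F) ^ r = 1 := by
      rw [← hxo]
      exact pow_orderOf_eq_one _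
    have hgQ : ∀ v, Q (LG (h : GL κ F) v) = Q v := fun v => by
      rw [LG_apply]
      exact h.2 v v
    have hAr : LG (h : GL κ F) ^ r = 1 := by rw [← LG_pow, hxr, LG_one]
    obtain ⟨k, hks, hfin, hcp⟩ := struct_orth hF hr hr2 hrp Q hQ (LG (h : GL κ F)) hgQ hAr
    rw [Module.finrank_fintype_fun_eq_card, hκ] at hfin
    obtain ⟨t, ht⟩ := c_dvd_sum hF hr hr2 hrp (orderOf (q : ZMod r)) c rfl hc k hks
    rw [ht] at hfin
    have hsk : ∑ a, k a = w * t := by
      rw [hcw] at ht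
      have : orderOf (q : ZMod r) * ∑ a, k a = orderOf (q : ZMod r) * (w * t) := by
        rw [ht]
        ring
      exact Nat.eq_of_mul_eq_mul_left hi0 this
    generalize he₀ : kdim (LG (h : GL κ F)) (X - 1) = e₀ at hfin hcp
    have hj₀1 : 1 ≤ m / c := Nat.div_pos hcm hc0
    obtain ⟨j', hj't, hj'j₀, hcase⟩ : ∃ j', j' ≤ t ∧ j' ≤ m / c ∧
        (j' = m / c ∨ (j' = t ∧ t < m / c)) := by
      rcases le_or_gt (m / c) t with hle | hgt
      · exact ⟨m / c, hle, le_refl _, Or.inl rfl⟩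
      · exact ⟨t, le_refl _, hgt.le, Or.inr ⟨rfl, hgt⟩⟩
    obtain ⟨k₁, hk₁s, hk₁le, hk₁sum, hor⟩ := exists_peel (starΦ (F := F) hr hr2 hrp) hinv w hw
      k hks j'
    have hk₁eq : ∑ a, k₁ a = w * j' := by
      rcases hor with h | h
      · rw [h, hsk] at hk₁sum ⊢
        have : t ≤ j' := Nat.le_of_mul_le_mul_left hk₁sum hw0
        have : j' = t := le_antisymm hj't this
        rw [this]
      · exact h
    have hik₁ : orderOf (q : ZMod r) * ∑ a, k₁ a = c * j' := by
      rw [hk₁eq, hcw]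
      ring
    have h8 : c * j' ≤ c * (m / c) := Nat.mul_le_mul_left _ hj'j₀
    have h9 : c * j' ≤ c * t := Nat.mul_le_mul_left _ hj't
    have e3 : c * j' = 2 * (c' * j') := by
      rw [hc']
      ring
    obtain ⟨W, hW, hWinv⟩ := exists_nondeg_sub_of_pattern hF hr hr2 hrp h2 Q hQ (LG (h : GL κ F))
      hgQ hAr e₀ k hks hcp k₁ hk₁s hk₁le m (m - c * j') τ
      ⟨m' - c' * j', by omega⟩
      (by rw [hik₁]; omega)
      (by
        rcases hcase with h | ⟨h, hlt'⟩
        · rw [h]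
          have := mod_le_sub_mul (2 * d + 1) c t (by omega)
          omega
        · rw [h] at h8 ⊢
          omega)
      (by
        intro he0
        rcases hcase with h | ⟨h, hlt'⟩
        · rw [h] at he0
          have hm0 : m % c = 0 := by omega
          rw [htype hm0]
          by_cases hie : Even (orderOf (q : ZMod r))
          · have hci := hieven hie
            have hw1 : w = 1 := by
              rw [hci] at hcw
              have : 1 * orderOf (q : ZMod r) = w * orderOf (q : ZMod r) := by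
                rw [one_mul]
                exact hcw
              exact (Nat.eq_of_mul_eq_mul_right hi0 this).symm
            rw [hk₁eq, hw1, one_mul, h, hci]
          · have hio : Odd (orderOf (q : ZMod r)) := Nat.not_even_iff_odd.1 hie
            exact ⟨fun _ => Or.inl hio, fun _ => Or.inl hio⟩
        · exfalso
          rw [h] at he0
          have : c * (t + 1) ≤ c * (m / c) := Nat.mul_le_mul_left _ hlt'
          rw [mul_add, mul_one] at this
          omega)
    refine ⟨W, hW, ?_⟩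
    rintro _ ⟨v, hv, rfl⟩
    have := hWinv v hv
    rwa [← toLin'_eq_LG] at this

end main

end Cfsg.Agent.Helper13.OrthNd
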