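import Mathlib
import Cfsg.Agent.Lib.Helper13.OrthNd8
import Cfsg.Agent.Lib.Helper13.OrthJp8

set_option autoImplicit false
set_option linter.unusedSectionVars false

/-!
# Invariant nondegenerate subspaces in odd dimension: involutions, unipotent elements, and the
final statements
-/

namespace Cfsg.Agent.Helper13.OrthNd

open Polynomial Module QuadraticMap Matrix Cfsg.Agent.Helper13.OrthSS Cfsg.Agent.Helper13
  Cfsg.Agent.Helper17.Spinor Cfsg.Agent.Helper13.OrthTs Cfsg.Agent.Helper13.OrthTy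
  Cfsg.Agent.Helper13.OrthJp
open scoped Classical

universe u

section two
variable {F : Type u} [Field F] [Fintype F] {κ : Type} [Fintype κ] [DecidableEq κ]

/-- involutions of `Ω` in odd dimension fix nondegenerate subspaces of every even dimension and
type -/
theorem two_case (h2 : (2 : F) ≠ 0) (Q : QuadraticForm F (κ → F))
    (hQ : (polarBilin Q).Nondegenerate) (d m : ℕ) (hκ : Fintype.card κ = 2 * d + 1)
    (hm : 2 ≤ m) (hme : Even m) (hmn : m ≤ 2 * d) (τ : Prop)
    (x : GL κ F) (hx : x ∈ Cfsg.Geo.omegaGL (⇑Q)) (hxo : orderOf x = 2) :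
    ∃ W : Submodule F (κ → F), (finrank F W = m ∧
      Cfsg.Geo.IsNondegenerateOn (polar (⇑Q)) W ∧ (Cfsg.Geo.IsPlusTypeOn (⇑Q) W ↔ τ)) ∧
      W.map (Matrix.toLin' (x : Matrix κ κ F)) ≤ W := by
  obtain ⟨h, hhΩ, rfl⟩ := (Cfsg.Agent.Helper17.OmegaElts.mem_omegaGL_iff Q x).1 hx
  have hsq := sq_eq_one_of_orderOf Q h hxo
  obtain ⟨k, hk, -⟩ := type_Vm_of_mem_Omega Q h2 hQ h hhΩ hsq
  have hne1 : toEnd Q h ≠ 1 := by
    intro h1
    have : h = 1 := toEnd_injective Q (by rw [h1, map_one])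
    rw [this] at hxo
    have h3 : orderOf ((1 : ↥(Cfsg.isometryGroup F (⇑Q))) : GL κ F) = 1 := by
      rw [OneMemClass.coe_one, orderOf_one]
    omega
  have hb0 : finrank F (Vm (toEnd Q h)) ≠ 0 := by
    intro h0
    exact hne1 (eq_one_of_Vm h2 hsq (Submodule.finrank_eq_zero.1 h0))
  obtain ⟨W, hW, hinv⟩ := exists_nondeg_of_involution Q h2 hQ (toEnd Q h) (toEnd_isometry Q h) hsq
    m hm hme (by omega) (by omega) τ
  refine ⟨W, hW, ?_⟩
  rintro _ ⟨v, hv, rfl⟩
  have := hinv v hv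
  rwa [toEnd_apply, ← Matrix.toLin'_apply] at this

end two

section pcase
variable {F : Type u} [Field F] [Fintype F] {p : ℕ} [Fact p.Prime] [CharP F p]
  {κ : Type} [Fintype κ] [DecidableEq κ]

theorem even_count_cons_replicate (a k : ℕ) (ha : Odd a) (hk : Even k) (e : ℕ) (he : Even e) :
    Even ((a ::ₘ Multiset.replicate k 2).count e) := by
  have hne : e ≠ a := by
    rintro rfl
    exact (Nat.not_even_iff_odd.2 ha) he
  rw [Multiset.count_cons_of_ne hne, Multiset.count_replicate]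
  split_ifs
  · exact hk
  · exact Even.zero

/-- a unipotent element of `Ω` all of whose invariant nondegenerate subspaces of even dimension
are of plus type -/
theorem p_case (h2 : (2 : F) ≠ 0) (Q : QuadraticForm F (κ → F))
    (hQ : (polarBilin Q).Nondegenerate) (d m : ℕ) (hd : 3 ≤ d)
    (hκ : Fintype.card κ = 2 * d + 1) (hme : Even m) :
    ∃ x : GL κ F, x ∈ Cfsg.Geo.omegaGL (⇑Q) ∧ orderOf x = p ∧
      ∀ W : Submodule F (κ → F), finrank F W = m →
        Cfsg.Geo.IsNondegenerateOn (polar (⇑Q)) W →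
        W.map (Matrix.toLin' (x : Matrix κ κ F)) ≤ W → Cfsg.Geo.IsPlusTypeOn (⇑Q) W := by
  have hp : p.Prime := Fact.out
  have hp2 : p ≠ 2 := p_ne_two_of (F := F) h2
  have hp3 : 3 ≤ p := by
    have := hp.two_le
    omega
  have hoddκ : Odd (Fintype.card κ) := ⟨d, hκ⟩
  obtain ⟨a, k, hao, ha3, hke, hk1, hsum⟩ : ∃ a k, Odd a ∧ a ≤ 3 ∧ Even k ∧ 1 ≤ k ∧
      a + 2 * k = 2 * d + 1 := by
    rcases Nat.even_or_odd d with hde | hdo
    · exact ⟨1, d, odd_one, by omega, hde, by omega, by omega⟩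
    · obtain ⟨t, ht⟩ := hdo
      exact ⟨3, d - 1, ⟨1, rfl⟩, le_refl _, ⟨t, by omega⟩, by omega, by omega⟩
  have ha2 : a ≠ 2 := by
    rintro rfl
    exact absurd hao (by decide)
  have ha0 : 0 < a := hao.pos
  set μ : Multiset ℕ := a ::ₘ Multiset.replicate k 2 with hμ
  have hμmem : ∀ e ∈ μ, e = a ∨ e = 2 := by
    intro e he
    rcases Multiset.mem_cons.1 he with h | h
    · exact Or.inl h
    · exact Or.inr (Multiset.eq_of_mem_replicate h)
  have hpos : ∀ e ∈ μ, 0 < e := by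
    intro e he
    rcases hμmem e he with rfl | rfl
    · exact ha0
    · omega
  have hle : ∀ e ∈ μ, e ≤ p := by
    intro e he
    rcases hμmem e he with rfl | rfl
    · omega
    · omega
  have hpar : ∀ e, Even e → Even (μ.count e) := even_count_cons_replicate a k hao hke
  have hμsum : μ.sum = Fintype.card κ := by
    rw [hμ, Multiset.sum_cons, Multiset.sum_replicate, smul_eq_mul, hκ]
    omega
  have h2mem : 2 ∈ μ := by
    rw [hμ]
    apply Multiset.mem_cons_of_mem
    rw [Multiset.mem_replicate]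
    exact ⟨by omega, rfl⟩
  obtain ⟨Y, hY, hYμ⟩ := exists_unip_odd h2 Q hQ hoddκ μ hpos hpar hμsum
  have hex : Fintype.card F ≠ 2 ∨ Fintype.card κ ≠ 4 := Or.inr (by omega)
  obtain ⟨x, hxΩ, hxp, hxQ, hxμ⟩ := exists_gl_of_unip Q hQ hex hp2 Y hY hYμ hle
  have hx1 : x ≠ 1 := by
    intro h1
    apply hxμ.ne_zero 2 h2mem (le_refl _)
    rw [h1, Units.val_one, Matrix.toLin'_one]
    exact sub_self _
  refine ⟨x, hxΩ, orderOf_eq_prime hxp hx1, ?_⟩
  intro W hWm hWnd hinv
  have hXW : ∀ w ∈ W, Matrix.toLin' (x : Matrix κ κ F) w ∈ W := fun w hw =>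
    hinv (Submodule.mem_map_of_mem hw)
  have hN1 : ∀ w ∈ W, (Matrix.toLin' (x : Matrix κ κ F) - 1) w ∈ W := by
    intro w hw
    rw [LinearMap.sub_apply, Module.End.one_apply]
    exact W.sub_mem (hXW w hw) hw
  obtain ⟨ν, hνle, hν, hνpar⟩ := sub_type_of_invariant' h2 Q _ hxQ hxμ.isNilpotent hxμ W
    (fun w hw hw0 => (hWnd w hw hw0).1) hXW hN1
  have hνsum : ν.sum = m := by rw [hν.sum, hWm]
  obtain ⟨hca, hsum2⟩ := sum_of_le_two_vals ν a k ha2 hνle
  have hca0 : ν.count a = 0 := by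
    by_contra hne
    have h1 : ν.count a = 1 := by omega
    rw [h1, one_mul, hνsum] at hsum2
    obtain ⟨m', hm'⟩ := hme
    obtain ⟨a', ha'⟩ := hao
    omega
  have hall : ∀ e ∈ ν, e = 2 := by
    intro e he
    rcases hμmem e (Multiset.mem_of_le hνle he) with rfl | rfl
    · exact absurd he (Multiset.count_eq_zero.1 hca0)
    · rfl
  have e : ν = Multiset.replicate (Multiset.card ν) 2 := Multiset.eq_replicate_card.2 hall
  rw [e] at hν
  obtain ⟨U, hUW, hUts, hUdim⟩ := plus_of_all_two h2 Q _ hxQ W hN1 _ hν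
  exact ⟨U, hUW, hUts, hUdim⟩

end pcase

end Cfsg.Agent.Helper13.OrthNd
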