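import Mathlib
import Cfsg.Agent.Lib.Helper13.OrthNd9

set_option autoImplicit false
set_option linter.unusedSectionVars false

/-!
# Invariant hyperbolic and elliptic subspaces in odd dimension: the final statements
-/

namespace Cfsg.Agent.Helper13.OrthNd

open Polynomial Module QuadraticMap Matrix Cfsg.Agent.Helper13.OrthSS Cfsg.Agent.Helper13
  Cfsg.Agent.Helper13.OrthJp
open scoped Classical

universe u

section arith

theorem mod_pos_of_even (n c : ℕ) (hn : Odd n) (hc : Even c) : 0 < n % c := by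
  by_contra h0
  have h1 : n % c = 0 := by omega
  obtain ⟨k, hk⟩ := Nat.dvd_of_mod_eq_zero h1
  obtain ⟨c', hc'⟩ := hc
  obtain ⟨n', hn'⟩ := hn
  have : n = 2 * (c' * k) := by
    rw [hk, hc']
    ring
  omega

/-- the criterion in the hyperbolic case -/
theorem crit_true (r i c m n : ℕ) (hr2 : 2 < r) (hn : Odd n)
    (hc : c = if Even i then i else 2 * i) :
    (c ≤ m ∧ m % c < n % c ∧ (m % c = 0 → (True ↔ (Odd i ∨ Even (m / i))))) ↔
    ((2 < r ∧ Odd i ∧ c ≤ m ∧ (m % c = 0 ∨ (0 < m % c ∧ m % c < n % c))) ∨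
     (2 < r ∧ Even i ∧ i ≤ m ∧ m % c < n % c ∧ (0 < m % c ∨ Even (m / i)))) := by
  rcases Nat.even_or_odd i with hie | hio
  · have hci : c = i := by rw [hc, if_pos hie]
    have hno : ¬ Odd i := Nat.not_odd_iff_even.2 hie
    constructor
    · rintro ⟨h1, h3, h4⟩
      right
      refine ⟨hr2, hie, by omega, h3, ?_⟩
      rcases Nat.eq_zero_or_pos (m % c) with h0 | h0
      · right
        rcases (h4 h0).1 trivial with h | h
        · exact absurd h hno
        · exact h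
      · exact Or.inl h0
    · rintro (⟨-, h, -⟩ | ⟨-, -, h1, h3, h4⟩)
      · exact absurd h hno
      · refine ⟨by omega, h3, ?_⟩
        intro h0
        rcases h4 with h | h
        · omega
        · exact ⟨fun _ => Or.inr h, fun _ => trivial⟩
  · have hne : ¬ Even i := Nat.not_even_iff_odd.2 hio
    have hci : c = 2 * i := by rw [hc, if_neg hne]
    have hpos : 0 < n % c := mod_pos_of_even n c hn (by rw [hci]; exact even_two_mul i)
    constructor
    · rintro ⟨h1, h3, h4⟩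
      left
      refine ⟨hr2, hio, h1, ?_⟩
      rcases Nat.eq_zero_or_pos (m % c) with h0 | h0
      · exact Or.inl h0
      · exact Or.inr ⟨h0, h3⟩
    · rintro (⟨-, -, h1, h3⟩ | ⟨-, h, -⟩)
      · refine ⟨h1, ?_, ?_⟩
        · rcases h3 with h | ⟨-, h⟩
          · omega
          · exact h
        · intro _
          exact ⟨fun _ => Or.inl hio, fun _ => trivial⟩
      · exact absurd h hne

/-- the criterion in the elliptic case -/
theorem crit_false (r i c m n : ℕ) (hr2 : 2 < r) (hn : Odd n)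
    (hc : c = if Even i then i else 2 * i) :
    (c ≤ m ∧ m % c < n % c ∧ (m % c = 0 → (False ↔ (Odd i ∨ Even (m / i))))) ↔
    ((2 < r ∧ Odd i ∧ c ≤ m ∧ 0 < m % c ∧ m % c < n % c) ∨
     (2 < r ∧ Even i ∧ i ≤ m ∧ m % c < n % c ∧ (0 < m % c ∨ Odd (m / i)))) := by
  rcases Nat.even_or_odd i with hie | hio
  · have hci : c = i := by rw [hc, if_pos hie]
    have hno : ¬ Odd i := Nat.not_odd_iff_even.2 hie
    constructor
    · rintro ⟨h1, h3, h4⟩
      right
      refine ⟨hr2, hie, by omega, h3, ?_⟩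
      rcases Nat.eq_zero_or_pos (m % c) with h0 | h0
      · right
        rw [← Nat.not_even_iff_odd]
        intro hev
        exact (h4 h0).2 (Or.inr hev)
      · exact Or.inl h0
    · rintro (⟨-, h, -⟩ | ⟨-, -, h1, h3, h4⟩)
      · exact absurd h hno
      · refine ⟨by omega, h3, ?_⟩
        intro h0
        rcases h4 with h | h
        · omega
        · refine ⟨fun hf => hf.elim, ?_⟩
          rintro (h' | h')
          · exact absurd h' hno
          · exact (Nat.not_even_iff_odd.2 h) h'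
  · have hne : ¬ Even i := Nat.not_even_iff_odd.2 hio
    constructor
    · rintro ⟨h1, h3, h4⟩
      left
      refine ⟨hr2, hio, h1, ?_, h3⟩
      rcases Nat.eq_zero_or_pos (m % c) with h0 | h0
      · exact ((h4 h0).2 (Or.inl hio)).elim
      · exact h0
    · rintro (⟨-, -, h1, h3, h4⟩ | ⟨-, h, -⟩)
      · refine ⟨h1, h4, ?_⟩
        intro h0
        omega
      · exact absurd h hne

end arith

section stmts
variable {F : Type u} [Field F] [Fintype F] {p : ℕ} [Fact p.Prime] [CharP F p]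

theorem hyp_stmt {q : ℕ} (hq : Fintype.card F = q) (hqodd : Odd q)
    (d m : ℕ) (hd : 3 ≤ d) (hm : 2 ≤ m) (hme : Even m) (hmn : m ≤ 2 * d)
    (r : ℕ) [Fact r.Prime] (hrp : r ≠ p)
    (hrΩ : r ∣ Nat.card {W : Submodule F (Unit ⊕ (Fin d ⊕ Fin d) → F) // Module.finrank F ↥W = m ∧ Cfsg.Geo.IsNondegenerateOn (QuadraticMap.polar (Cfsg.quadFormOdd d F)) W ∧ Cfsg.Geo.IsPlusTypeOn (Cfsg.quadFormOdd d F) W})
    (i c : ℕ) (hi : i = orderOf (q : ZMod r)) (hc : c = if Even i then i else 2 * i) :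
    (∀ x : GL (Unit ⊕ (Fin d ⊕ Fin d)) F, x ∈ Cfsg.Geo.omegaGL (Cfsg.quadFormOdd d F) → orderOf x = r →
      ∃ W : Submodule F (Unit ⊕ (Fin d ⊕ Fin d) → F), (Module.finrank F ↥W = m ∧ Cfsg.Geo.IsNondegenerateOn (QuadraticMap.polar (Cfsg.quadFormOdd d F)) W ∧ Cfsg.Geo.IsPlusTypeOn (Cfsg.quadFormOdd d F) W) ∧ W.map (Matrix.toLin' (x : Matrix (Unit ⊕ (Fin d ⊕ Fin d)) (Unit ⊕ (Fin d ⊕ Fin d)) F)) ≤ W) ↔
    (r = 2 ∨
     (2 < r ∧ Odd i ∧ c ≤ m ∧ (m % c = 0 ∨ (0 < m % c ∧ m % c < (2 * d + 1) % c))) ∨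
     (2 < r ∧ Even i ∧ i ≤ m ∧ m % c < (2 * d + 1) % c ∧ (0 < m % c ∨ Even (m / i)))) := by
  have hr : r.Prime := Fact.out
  have h2 : (2 : F) ≠ 0 := two_ne_zero_of_odd hq hqodd
  rw [Cfsg.Agent.Helper2.Orth.quadFormOdd_eq d] at hrΩ ⊢
  have hQ := Cfsg.Agent.Helper2.Orth.nondeg_odd (F := F) d h2
  have hκ : Fintype.card (Unit ⊕ (Fin d ⊕ Fin d)) = 2 * d + 1 := by
    rw [Fintype.card_sum, Fintype.card_sum, Fintype.card_fin, Fintype.card_unit]
    ring
  by_cases hr2 : r = 2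
  · constructor
    · intro _
      exact Or.inl hr2
    · intro _ x hx hxo
      rw [hr2] at hxo
      have := two_case h2 _ hQ d m hκ hm hme hmn True x hx hxo
      simp only [iff_true] at this
      exact this
  · have hr2' : 2 < r := by
      have := hr.two_le
      omega
    have hrΩ' : r ∣ Nat.card {W : Submodule F (Unit ⊕ (Fin d ⊕ Fin d) → F) //
        Module.finrank F ↥W = m ∧
        Cfsg.Geo.IsNondegenerateOn (QuadraticMap.polar
          (⇑(matQ (Cfsg.Agent.Helper2.Orth.oddMat d F)))) W ∧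
        (Cfsg.Geo.IsPlusTypeOn (⇑(matQ (Cfsg.Agent.Helper2.Orth.oddMat d F))) W ↔ True)} := by
      simp only [iff_true]
      exact hrΩ
    have hmain := main_odd hq hr hr2 hrp h2 _ hQ d m hκ hm hme hmn True hrΩ' i c hi hc
    simp only [iff_true] at hmain
    rw [hmain]
    have hcrit := crit_true r i c m (2 * d + 1) hr2' ⟨d, rfl⟩ hc
    rw [hcrit]
    constructor
    · intro h
      exact Or.inr h
    · rintro (h | h)
      · exact absurd h hr2
      · exact h

theorem ell_stmt {q : ℕ} (hq : Fintype.card F = q) (hqodd : Odd q)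
    (d m : ℕ) (hd : 3 ≤ d) (hm : 2 ≤ m) (hme : Even m) (hmn : m ≤ 2 * d)
    (r : ℕ) [Fact r.Prime]
    (hrΩ : r ∣ Nat.card {W : Submodule F (Unit ⊕ (Fin d ⊕ Fin d) → F) // Module.finrank F ↥W = m ∧ Cfsg.Geo.IsNondegenerateOn (QuadraticMap.polar (Cfsg.quadFormOdd d F)) W ∧ ¬ Cfsg.Geo.IsPlusTypeOn (Cfsg.quadFormOdd d F) W})
    (i c : ℕ) (hi : i = orderOf (q : ZMod r)) (hc : c = if Even i then i else 2 * i) :
    (∀ x : GL (Unit ⊕ (Fin d ⊕ Fin d)) F, x ∈ Cfsg.Geo.omegaGL (Cfsg.quadFormOdd d F) → orderOf x = r →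
      ∃ W : Submodule F (Unit ⊕ (Fin d ⊕ Fin d) → F), (Module.finrank F ↥W = m ∧ Cfsg.Geo.IsNondegenerateOn (QuadraticMap.polar (Cfsg.quadFormOdd d F)) W ∧ ¬ Cfsg.Geo.IsPlusTypeOn (Cfsg.quadFormOdd d F) W) ∧ W.map (Matrix.toLin' (x : Matrix (Unit ⊕ (Fin d ⊕ Fin d)) (Unit ⊕ (Fin d ⊕ Fin d)) F)) ≤ W) ↔
    (r = 2 ∨
     (r ≠ p ∧ 2 < r ∧ Odd i ∧ c ≤ m ∧ 0 < m % c ∧ m % c < (2 * d + 1) % c) ∨
     (r ≠ p ∧ 2 < r ∧ Even i ∧ i ≤ m ∧ m % c < (2 * d + 1) % c ∧ (0 < m % c ∨ Odd (m / i)))) := by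
  have hr : r.Prime := Fact.out
  have h2 : (2 : F) ≠ 0 := two_ne_zero_of_odd hq hqodd
  have hp2 : p ≠ 2 := p_ne_two_of (F := F) h2
  rw [Cfsg.Agent.Helper2.Orth.quadFormOdd_eq d] at hrΩ ⊢
  have hQ := Cfsg.Agent.Helper2.Orth.nondeg_odd (F := F) d h2
  have hκ : Fintype.card (Unit ⊕ (Fin d ⊕ Fin d)) = 2 * d + 1 := by
    rw [Fintype.card_sum, Fintype.card_sum, Fintype.card_fin, Fintype.card_unit]
    ring
  by_cases hr2 : r = 2
  · constructor
    · intro _
      exact Or.inl hr2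
    · intro _ x hx hxo
      rw [hr2] at hxo
      have := two_case h2 _ hQ d m hκ hm hme hmn False x hx hxo
      simp only [iff_false] at this
      exact this
  have hr2' : 2 < r := by
    have := hr.two_le
    omega
  by_cases hrp : r = p
  · constructor
    · intro hall
      exfalso
      obtain ⟨x, hxΩ, hxo, hx⟩ := p_case (p := p) h2 _ hQ d m hd hκ hme
      rw [← hrp] at hxo
      obtain ⟨W, ⟨hWm, hWnd, hWminus⟩, hinv⟩ := hall x hxΩ hxo
      exact hWminus (hx W hWm hWnd hinv)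
    · rintro (h | ⟨h, -⟩ | ⟨h, -⟩)
      · exact absurd h hr2
      · exact absurd hrp h
      · exact absurd hrp h
  · have hrΩ' : r ∣ Nat.card {W : Submodule F (Unit ⊕ (Fin d ⊕ Fin d) → F) //
        Module.finrank F ↥W = m ∧
        Cfsg.Geo.IsNondegenerateOn (QuadraticMap.polar
          (⇑(matQ (Cfsg.Agent.Helper2.Orth.oddMat d F)))) W ∧
        (Cfsg.Geo.IsPlusTypeOn (⇑(matQ (Cfsg.Agent.Helper2.Orth.oddMat d F))) W ↔ False)} := by
      simp only [iff_false]
      exact hrΩ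
    have hmain := main_odd hq hr hr2 hrp h2 _ hQ d m hκ hm hme hmn False hrΩ' i c hi hc
    simp only [iff_false] at hmain
    rw [hmain]
    have hcrit := crit_false r i c m (2 * d + 1) hr2' ⟨d, rfl⟩ hc
    rw [hcrit]
    constructor
    · rintro (⟨h1, h3⟩ | ⟨h1, h3⟩)
      · exact Or.inr (Or.inl ⟨hrp, h1, h3⟩)
      · exact Or.inr (Or.inr ⟨hrp, h1, h3⟩)
    · rintro (h | ⟨-, h⟩ | ⟨-, h⟩)
      · exact absurd h hr2
      · exact Or.inl h
      · exact Or.inr h

end stmts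

end Cfsg.Agent.Helper13.OrthNd
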