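import Mathlib
import Cfsg.Agent.Lib.Helper13.OrthNd7

set_option autoImplicit false
set_option linter.unusedSectionVars false

/-!
# Subspaces in a fixed isometry class: counting modulo a prime
-/

namespace Cfsg.Agent.Helper13.OrthNi

open Polynomial Module QuadraticMap Matrix Cfsg.Agent.Helper13.SS Cfsg.Agent.Helper13.Dual
  Cfsg.Agent.Helper13.SympSS Cfsg.Agent.Helper13.SpDec Cfsg.Agent.Helper13.SlDec
  Cfsg.Agent.Helper13.SpTi Cfsg.Agent.Helper13.OrthSS Cfsg.Agent.Helper13
  Cfsg.Agent.Helper13.OrthTs Cfsg.Agent.Helper13.OrthTy Cfsg.Agent.Helper13.HermSS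
  Cfsg.Agent.Helper13.OrthNd
open scoped Classical

universe u

section defs
variable {F : Type u} [Field F] {U : Type u} [AddCommGroup U] [Module F U]
  {M : Type u} [AddCommGroup M] [Module F M]

/-- the subspace `W` is isometric to the model `(M, QM)` -/
def IsIsoTo (QU : QuadraticForm F U) (QM : QuadraticForm F M) (W : Submodule F U) : Prop :=
  ∃ e : M ≃ₗ[F] W, ∀ z, QU ((e z : W) : U) = QM z

/-- subspaces isometric to the model -/
abbrev IsoSub (QU : QuadraticForm F U) (QM : QuadraticForm F M) :=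
  {W : Submodule F U // IsIsoTo QU QM W}

variable (QU : QuadraticForm F U) (QM : QuadraticForm F M)

theorem IsIsoTo.nondeg {W : Submodule F U} (h : IsIsoTo QU QM W)
    (hQM : (polarBilin QM).Nondegenerate) : (polarBilin (QU.comp W.subtype)).Nondegenerate := by
  obtain ⟨e, he⟩ := h
  have := nondeg_comp_equiv QM hQM e.symm
  have e2 : QM.comp (e.symm : W →ₗ[F] M) = QU.comp W.subtype := by
    ext y
    have := he (e.symm y)
    rw [e.apply_symm_apply] at this
    exact this.symm
  rwa [e2] at this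

theorem IsIsoTo.finrank_eq {W : Submodule F U} (h : IsIsoTo QU QM W) :
    finrank F W = finrank F M := by
  obtain ⟨e, -⟩ := h
  exact e.finrank_eq.symm

theorem IsIsoTo.map {W : Submodule F U} (h : IsIsoTo QU QM W) (g : U ≃ₗ[F] U)
    (hg : ∀ v, QU (g v) = QU v) : IsIsoTo QU QM (W.map (g : U →ₗ[F] U)) := by
  obtain ⟨e, he⟩ := h
  refine ⟨e.trans (g.submoduleMap W), ?_⟩
  intro z
  show QU (g ((e z : W) : U)) = QM z
  rw [hg, he]

theorem isIsoTo_range (f : M →ₗ[F] U) (hf : Function.Injective f)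
    (hfQ : ∀ z, QU (f z) = QM z) : IsIsoTo QU QM (LinearMap.range f) :=
  ⟨LinearEquiv.ofInjective f hf, fun z => hfQ z⟩

/-- transport of the model -/
theorem IsIsoTo.of_model {M' : Type u} [AddCommGroup M'] [Module F M']
    (QM' : QuadraticForm F M') (Φ : M' ≃ₗ[F] M) (hΦ : ∀ z, QM (Φ z) = QM' z)
    {W : Submodule F U} (h : IsIsoTo QU QM' W) : IsIsoTo QU QM W := by
  obtain ⟨e, he⟩ := h
  refine ⟨Φ.symm.trans e, ?_⟩
  intro z
  show QU ((e (Φ.symm z) : W) : U) = QM z
  rw [he, ← hΦ, Φ.apply_symm_apply]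

/-- subspaces of a subspace -/
noncomputable def isosubSubEquiv (V₁ : Submodule F U) :
    {W : IsoSub QU QM // W.1 ≤ V₁} ≃ IsoSub (QU.comp V₁.subtype) QM where
  toFun := fun W => ⟨W.1.1.comap V₁.subtype, by
    obtain ⟨e, he⟩ := W.1.2
    refine ⟨e.trans (Submodule.comapSubtypeEquivOfLe W.2).symm, ?_⟩
    intro z
    have hfwd : ∀ y, (QU.comp W.1.1.subtype) (Submodule.comapSubtypeEquivOfLe W.2 y) =
        ((QU.comp V₁.subtype).comp (W.1.1.comap V₁.subtype).subtype) y := fun y => rfl
    have := hfwd ((Submodule.comapSubtypeEquivOfLe W.2).symm (e z))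
    rw [LinearEquiv.apply_symm_apply] at this
    have h3 : (QU.comp W.1.1.subtype) (e z) = QM z := he z
    rw [h3] at this
    exact this.symm⟩
  invFun := fun W' => ⟨⟨W'.1.map V₁.subtype, by
    obtain ⟨e, he⟩ := W'.2
    exact ⟨e.trans (Submodule.equivSubtypeMap V₁ W'.1), fun z => he z⟩⟩,
    Submodule.map_subtype_le V₁ W'.1⟩
  left_inv := fun W => by
    apply Subtype.ext
    apply Subtype.ext
    show (W.1.1.comap V₁.subtype).map V₁.subtype = W.1.1
    rw [Submodule.map_comap_subtype]
    exact inf_eq_right.2 W.2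
  right_inv := fun W' => by
    apply Subtype.ext
    show (W'.1.map V₁.subtype).comap V₁.subtype = W'.1
    exact Submodule.comap_map_eq_of_injective (Submodule.injective_subtype V₁) W'.1

end defs

section div
variable {F : Type u} [Field F] [Fintype F] {U : Type u} [AddCommGroup U] [Module F U]
  [FiniteDimensional F U] {M : Type u} [AddCommGroup M] [Module F M]
  (QU : QuadraticForm F U) (QM : QuadraticForm F M)

theorem finite_isosub : Finite (IsoSub QU QM) := by
  haveI : Finite U := Module.finite_of_finite F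
  apply Finite.of_injective (fun W : IsoSub QU QM => ((W.1 : Submodule F U) : Set U))
  intro W W' h
  apply Subtype.ext
  exact SetLike.coe_injective h

/-- the number of subspaces in an isometry class divides the order of the isometry group -/
theorem card_isosub_dvd (h2 : (2 : F) ≠ 0) (hQU : (polarBilin QU).Nondegenerate)
    (hQM : (polarBilin QM).Nondegenerate) (W₀ : IsoSub QU QM) :
    Nat.card (IsoSub QU QM) ∣ Nat.card (isoGroup QU) := by
  haveI : Finite (U ≃ₗ[F] U) := finite_linearEquiv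
  letI act : MulAction (isoGroup QU) (Submodule F U) :=
    { smul := fun g S => S.map ((g : U ≃ₗ[F] U) : U →ₗ[F] U)
      one_smul := fun S => by
        show S.map ((1 : U ≃ₗ[F] U) : U →ₗ[F] U) = S
        exact Submodule.map_id S
      mul_smul := fun g h S => by
        show S.map (((g * h : isoGroup QU) : U ≃ₗ[F] U) : U →ₗ[F] U) =
          (S.map ((h : U ≃ₗ[F] U) : U →ₗ[F] U)).map ((g : U ≃ₗ[F] U) : U →ₗ[F] U)
        rw [← Submodule.map_comp]
        rfl }
  have horb : ∀ S : Submodule F U, S ∈ MulAction.orbit (isoGroup QU) W₀.1 ↔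
      IsIsoTo QU QM S := by
    intro S
    constructor
    · rintro ⟨g, rfl⟩
      exact W₀.2.map QU QM g.1 g.2
    · intro hS
      obtain ⟨e₀, he₀⟩ := W₀.2
      obtain ⟨e₁, he₁⟩ := hS
      obtain ⟨g, hgQ, hgW⟩ := exists_isometry_map QU h2 hQU W₀.1 S (W₀.2.nondeg QU QM hQM)
        (IsIsoTo.nondeg QU QM ⟨e₁, he₁⟩ hQM) (e₀.symm.trans e₁) (fun w => by
          show QU ((e₁ (e₀.symm w) : S) : U) = QU (w : U)
          rw [he₁, ← he₀, e₀.apply_symm_apply])
      exact ⟨⟨g, hgQ⟩, hgW⟩
  have hcard : Nat.card (IsoSub QU QM) = Nat.card (MulAction.orbit (isoGroup QU) W₀.1) := by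
    apply Nat.card_congr
    exact Equiv.subtypeEquivRight (fun S => (horb S).symm)
  rw [hcard]
  have h5 := Nat.card_congr (MulAction.orbitProdStabilizerEquivGroup (isoGroup QU) W₀.1)
  rw [Nat.card_prod] at h5
  exact ⟨_, h5.symm⟩

/-- the number of subspaces in an isometry class is congruent to the number of invariant ones -/
theorem card_isosub_modEq (A : Module.End F U)
    (hAQ : ∀ v, QU (A v) = QU v) (r : ℕ) (hr : r.Prime) (hAr : A ^ r = 1) :
    Nat.card (IsoSub QU QM) ≡ Nat.card {W : IsoSub QU QM // W.1.map A = W.1} [MOD r] := by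
  have hr1 : 1 ≤ r := hr.one_lt.le
  haveI : Fact r.Prime := ⟨hr⟩
  haveI : Finite (IsoSub QU QM) := finite_isosub QU QM
  haveI : Fintype (IsoSub QU QM) := Fintype.ofFinite _
  set f : Function.End (IsoSub QU QM) := fun W => ⟨W.1.map A,
    W.2.map QU QM (equivOfPow A r hr1 hAr) (fun v => hAQ v)⟩ with hf
  have hfk : ∀ (k : ℕ) (W : IsoSub QU QM), ((f ^ k) W).1 = W.1.map (A ^ k) := by
    intro k
    induction k with
    | zero =>
      intro W
      show W.1 = W.1.map (LinearMap.id)
      rw [Submodule.map_id]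
    | succ k ih =>
      intro W
      rw [pow_succ]
      show ((f ^ k) (f W)).1 = _
      rw [ih (f W)]
      show (W.1.map A).map (A ^ k) = _
      rw [← Submodule.map_comp, pow_succ]
      rfl
  have hfr : f ^ r ^ 1 = 1 := by
    funext W
    apply Subtype.ext
    rw [pow_one, hfk, hAr]
    show W.1.map (LinearMap.id) = W.1
    rw [Submodule.map_id]
  have h1 := Equiv.Perm.card_fixedPoints_modEq (f := f) (p := r) (n := 1) hfr
  rw [Nat.card_eq_fintype_card]
  have h3 : Nat.card {W : IsoSub QU QM // W.1.map A = W.1} =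
      Fintype.card (Function.fixedPoints f) := by
    rw [← Nat.card_eq_fintype_card]
    apply Nat.card_congr
    apply Equiv.subtypeEquivRight
    intro W
    show _ ↔ f W = W
    constructor
    · intro h
      exact Subtype.ext h
    · intro h
      exact congrArg Subtype.val h
  rw [h3]
  exact h1

end div

section order
variable {F : Type u} [Field F] [Fintype F] {p : ℕ} [Fact p.Prime] [CharP F p] {r q : ℕ}
  {U : Type u} [AddCommGroup U] [Module F U] [FiniteDimensional F U]
  {M : Type u} [AddCommGroup M] [Module F M]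

/-- in a small space the number of subspaces in an isometry class is prime to `r` -/
theorem not_dvd_card_isosub (hF : Fintype.card F = q) (hr : r.Prime) (hr2 : r ≠ 2) (hrp : r ≠ p)
    (h2 : (2 : F) ≠ 0)
    (c : ℕ) (hc : c = if Even (orderOf (q : ZMod r)) then orderOf (q : ZMod r)
      else 2 * orderOf (q : ZMod r))
    (QU : QuadraticForm F U) (hQU : (polarBilin QU).Nondegenerate) (hlt : finrank F U < c)
    (QM : QuadraticForm F M) (hQM : (polarBilin QM).Nondegenerate) (W₀ : IsoSub QU QM) :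
    ¬ r ∣ Nat.card (IsoSub QU QM) := by
  intro hdvd
  have : Finite (U ≃ₗ[F] U) := finite_linearEquiv
  have : Fact r.Prime := ⟨hr⟩
  have h1 := dvd_trans hdvd (card_isosub_dvd QU QM h2 hQU hQM W₀)
  obtain ⟨g, hg⟩ := exists_prime_orderOf_dvd_card' r h1
  exact no_order_of_small hF hr hr2 hrp c hc QU hQU hlt g hg

end order

section count
variable {F : Type u} [Field F] [Fintype F] {p : ℕ} [Fact p.Prime] [CharP F p] {r q : ℕ}
  {κ : Type} [Fintype κ] [DecidableEq κ]
  {M : Type u} [AddCommGroup M] [Module F M] [FiniteDimensional F M]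

/-- the counting lemma for isometry classes -/
theorem not_dvd_of_lt_iso (hF : Fintype.card F = q) (hr : r.Prime) (hr2 : r ≠ 2) (hrp : r ≠ p)
    (h2 : (2 : F) ≠ 0) (c : ℕ)
    (hc : c = if Even (orderOf (q : ZMod r)) then orderOf (q : ZMod r)
      else 2 * orderOf (q : ZMod r))
    (Q : QuadraticForm F (κ → F)) (hQ : (polarBilin Q).Nondegenerate)
    (A : Module.End F (κ → F)) (hAQ : ∀ v, Q (A v) = Q v) (hAr : A ^ r = 1)
    (e₀ : ℕ) (k : ↥(cycFactors F r) → ℕ) (hcp : A.charpoly = gPoly r e₀ k) (he₀ : e₀ < c)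
    (QM : QuadraticForm F M) (hQM : (polarBilin QM).Nondegenerate)
    (hm : finrank F M < e₀) :
    ¬ r ∣ Nat.card (IsoSub Q QM) := by
  have hr1 : 1 ≤ r := hr.one_lt.le
  have hrF : (r : F) ≠ 0 := cast_ne_zero_of_prime_ne hr hrp
  obtain ⟨hfixA, -⟩ := kdim_of_gPoly hF hr hrp A hAr _ k hcp
  set V₁ : Submodule F (κ → F) := LinearMap.ker (aeval A (X - 1 : F[X])) with hV₁
  have hV₁fin : finrank F V₁ = e₀ := hfixA
  have hQ₁ : (polarBilin (Q.comp V₁.subtype)).Nondegenerate :=
    nondeg_fixed Q hQ A hAQ r hAr hrF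
  obtain ⟨f, hfinj, hfQ⟩ := exists_embedding h2 (Q.comp V₁.subtype) hQ₁ QM hQM
    (by rw [hV₁fin]; exact hm)
  have W₀ : IsoSub (Q.comp V₁.subtype) QM :=
    ⟨LinearMap.range f, isIsoTo_range (Q.comp V₁.subtype) QM f hfinj hfQ⟩
  have hnd := not_dvd_card_isosub hF hr hr2 hrp h2 c hc (Q.comp V₁.subtype) hQ₁
    (by rw [hV₁fin]; exact he₀) QM hQM W₀
  have hmod := card_isosub_modEq Q QM A hAQ r hr hAr
  have hiff : ∀ W : IsoSub Q QM, W.1.map A = W.1 ↔ W.1 ≤ V₁ := by
    intro W
    constructor
    · intro hWA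
      have hWinv : ∀ v ∈ W.1, A v ∈ W.1 := by
        intro v hv
        rw [← hWA]
        exact Submodule.mem_map_of_mem hv
      obtain ⟨e, j, h1, -, -, hjs, -, hfix⟩ := pattern_of_nondeg hF hr hr2 hrp Q A hAQ hAr e₀ k
        hcp W.1 hWinv (W.2.nondeg Q QM hQM)
      rw [W.2.finrank_eq Q QM] at h1
      have hj0 := eq_zero_of_lt hF hr hr2 hrp c hc j hjs (by omega)
      intro w hw
      rw [hV₁, mem_fix]
      exact hfix hj0 w hw
    · intro hle
      apply le_antisymm
      · rintro _ ⟨w, hw, rfl⟩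
        have : A w = w := (mem_fix A w).1 (hle hw)
        rw [this]
        exact hw
      · intro w hw
        have : A w = w := (mem_fix A w).1 (hle hw)
        exact ⟨w, hw, this⟩
  have hcard : Nat.card {W : IsoSub Q QM // W.1.map A = W.1} =
      Nat.card (IsoSub (Q.comp V₁.subtype) QM) := by
    apply Nat.card_congr
    exact (Equiv.subtypeEquivRight hiff).trans (isosubSubEquiv Q QM V₁)
  intro hdvd
  apply hnd
  rw [← hcard]
  exact (Nat.ModEq.dvd_iff hmod (dvd_refl r)).1 hdvd

end count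

end Cfsg.Agent.Helper13.OrthNi
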