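import Mathlib
import Cfsg.Agent.Lib.Helper13.OrthNi1
import Cfsg.Agent.Lib.Helper13.OrthNd8

set_option autoImplicit false
set_option linter.unusedSectionVars false

/-!
# Invariant subspaces in an isometry class: existence from patterns; the extremal element
-/

namespace Cfsg.Agent.Helper13.OrthNi

open Polynomial Module QuadraticMap Matrix Cfsg.Agent.Helper13.SS Cfsg.Agent.Helper13.Dual
  Cfsg.Agent.Helper13.SympSS Cfsg.Agent.Helper13.SpDec Cfsg.Agent.Helper13.SlDec
  Cfsg.Agent.Helper13.SpTi Cfsg.Agent.Helper13.OrthSS Cfsg.Agent.Helper13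
  Cfsg.Agent.Helper13.OrthTs Cfsg.Agent.Helper13.OrthTy Cfsg.Agent.Helper13.HermSS
  Cfsg.Agent.Helper13.OrthNd
open scoped Classical

universe u

section split
variable {F : Type u} [Field F] [Fintype F]
  {M : Type u} [AddCommGroup M] [Module F M] [FiniteDimensional F M]
  {M₀ : Type u} [AddCommGroup M₀] [Module F M₀] [FiniteDimensional F M₀]

/-- splitting off a nondegenerate space of smaller dimension -/
theorem exists_split (h2 : (2 : F) ≠ 0) (QM : QuadraticForm F M)
    (hQM : (polarBilin QM).Nondegenerate) (Q₀ : QuadraticForm F M₀)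
    (hQ₀ : (polarBilin Q₀).Nondegenerate) (hlt : finrank F M₀ < finrank F M) :
    ∃ (Ue : Type u) (_ : AddCommGroup Ue) (_ : Module F Ue) (_ : FiniteDimensional F Ue)
      (Qe : QuadraticForm F Ue) (Φ : (M₀ × Ue) ≃ₗ[F] M),
      (polarBilin Qe).Nondegenerate ∧ finrank F M₀ + finrank F Ue = finrank F M ∧
      ∀ z, QM (Φ z) = Q₀ z.1 + Qe z.2 := by
  obtain ⟨f, hfinj, hfQ⟩ := exists_embedding h2 QM hQM Q₀ hQ₀ hlt
  set W : Submodule F M := LinearMap.range f with hW
  have hWiso : IsIsoTo QM Q₀ W := isIsoTo_range QM Q₀ f hfinj hfQ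
  have hWnd : (polarBilin (QM.comp W.subtype)).Nondegenerate := hWiso.nondeg QM Q₀ hQ₀
  have hc := isCompl_orth QM W hWnd
  have hCnd := nondeg_orth QM hQM W hWnd
  set C := LinearMap.BilinForm.orthogonal (polarBilin QM) W with hC
  set E : M₀ ≃ₗ[F] W := LinearEquiv.ofInjective f hfinj with hE
  have hEQ : ∀ z, QM ((E z : W) : M) = Q₀ z := fun z => hfQ z
  refine ⟨C, inferInstance, inferInstance, inferInstance, QM.comp C.subtype,
    (E.prodCongr (LinearEquiv.refl F C)).trans (Submodule.prodEquivOfIsCompl W C hc),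
    hCnd, ?_, ?_⟩
  · have h1 := Submodule.finrank_add_eq_of_isCompl hc
    rw [← h1, E.finrank_eq]
  · intro z
    show QM (Submodule.prodEquivOfIsCompl W C hc (E z.1, z.2)) = _
    rw [apply_prodEquiv QM W hc, QuadraticMap.prod_apply]
    congr 1
    exact hEQ z.1

end split

section exist
variable {F : Type u} [Field F] [Fintype F] {p : ℕ} [Fact p.Prime] [CharP F p] {r q : ℕ}
  {κ : Type} [Fintype κ] [DecidableEq κ]
  {M : Type u} [AddCommGroup M] [Module F M] [FiniteDimensional F M]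

/-- an isometry of order `r` leaves invariant a subspace of a given isometry class for each
admissible shape with a fixed part which is not the whole fixed space -/
theorem exists_iso_of_pattern (hF : Fintype.card F = q) (hr : r.Prime) (hr2 : r ≠ 2)
    (hrp : r ≠ p) (h2 : (2 : F) ≠ 0)
    (Q : QuadraticForm F (κ → F)) (hQ : (polarBilin Q).Nondegenerate)
    (A : Module.End F (κ → F)) (hAQ : ∀ v, Q (A v) = Q v) (hAr : A ^ r = 1)
    (e₀ : ℕ) (k : ↥(cycFactors F r) → ℕ) (hk : ∀ a, k (starΦ hr hr2 hrp a) = k a)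
    (hcp : A.charpoly = gPoly r e₀ k)
    (j : ↥(cycFactors F r) → ℕ) (hj : ∀ a, j (starΦ hr hr2 hrp a) = j a)
    (hjk : ∀ a, j a ≤ k a)
    (QM : QuadraticForm F M) (hQM : (polarBilin QM).Nondegenerate) (e : ℕ)
    (hm : finrank F M = e + orderOf (q : ZMod r) * ∑ a, j a) (he1 : 1 ≤ e) (he : e < e₀) :
    ∃ W : Submodule F (κ → F), IsIsoTo Q QM W ∧ ∀ v ∈ W, A v ∈ W := by
  have hi0 : 0 < orderOf (q : ZMod r) := pos_orderOf hF hr hrp
  have hev := even_mul_sum hF hr hr2 hrp j hj
  obtain ⟨M₀, m1, m2, m3, Q₀, hQ₀, hM₀fin, hQ₀t⟩ := exists_space_of_type (F := F)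
    (orderOf (q : ZMod r) * ∑ a, j a) hev
    (Odd (orderOf (q : ZMod r)) ∨ Even (∑ a, j a)) (by
      intro h0
      right
      rcases Nat.mul_eq_zero.1 h0 with h | h
      · omega
      · rw [h]
        exact Even.zero)
  obtain ⟨Ue, u1, u2, u3, Qe, Φ, hQe, hdim, hΦ⟩ := exists_split h2 QM hQM Q₀ hQ₀
    (by rw [hM₀fin, hm]; omega)
  have hUefin : finrank F Ue = e := by
    rw [hM₀fin, hm] at hdim
    omega
  obtain ⟨Mj, i1, i2, i3, Qj, T, hQj, hMjfin, hMjev, hQjt, hTinj, hTQ, hTinv⟩ :=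
    exists_nondeg_of_pattern hF hr hr2 hrp h2 Q hQ A hAQ hAr e₀ k hk hcp j hj hjk Qe hQe
      (by rw [hUefin]; exact he)
  obtain ⟨E, hE⟩ := equiv_of_type Q₀ Qj hQ₀ hQj (by rw [hM₀fin, hMjfin])
    (by rw [hM₀fin]; exact hev) (by rw [hQ₀t, hQjt])
  refine ⟨LinearMap.range T, ?_, hTinv⟩
  refine ⟨Φ.symm.trans ((E.prodCongr (LinearEquiv.refl F Ue)).trans
    (LinearEquiv.ofInjective T hTinj)), ?_⟩
  intro z
  show Q (T (E (Φ.symm z).1, (Φ.symm z).2)) = QM z
  rw [hTQ, hE]
  have := hΦ (Φ.symm z)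
  rw [Φ.apply_symm_apply] at this
  exact this.symm

end exist

section ext
variable {F : Type u} [Field F] [Fintype F] {p : ℕ} [Fact p.Prime] [CharP F p] {r q : ℕ}
  {κ : Type} [Fintype κ] [DecidableEq κ]

/-- the semisimple isometry with the smallest fixed space, even dimension -/
theorem exists_ext_end (hF : Fintype.card F = q) (hr : r.Prime) (hr2 : r ≠ 2) (hrp : r ≠ p)
    (Q : QuadraticForm F (κ → F)) (hQ : (polarBilin Q).Nondegenerate)
    (hev : Even (Fintype.card κ)) (c : ℕ)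
    (hc : c = if Even (orderOf (q : ZMod r)) then orderOf (q : ZMod r)
      else 2 * orderOf (q : ZMod r))
    (hvalid : Fintype.card κ % c = 0 →
      ((Odd (orderOf (q : ZMod r)) ∨ Even (Fintype.card κ / orderOf (q : ZMod r))) ↔
        IsHyp Q)) :
    ∃ (g : Module.End F (κ → F)) (k : ↥(cycFactors F r) → ℕ),
      (∀ v, Q (g v) = Q v) ∧ g ^ r = 1 ∧ (∀ a, k (starΦ hr hr2 hrp a) = k a) ∧
      g.charpoly = gPoly r (Fintype.card κ % c) k ∧
      orderOf (q : ZMod r) * ∑ a, k a = c * (Fintype.card κ / c) := by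
  have hi0 : 0 < orderOf (q : ZMod r) := pos_orderOf hF hr hrp
  have hinv := starΦ_involutive (F := F) hr hr2 hrp
  obtain ⟨w, hw, hcw⟩ := exists_weight hF hr hr2 hrp (orderOf (q : ZMod r)) c rfl hc
  obtain ⟨a₀, ha₀⟩ := cycFactors_nonempty_aux (F := F) hF hr hrp
  set n := Fintype.card κ with hn
  set k : ↥(cycFactors F r) → ℕ :=
    fun b => (n / c) * unitFn (starΦ (F := F) hr hr2 hrp) ⟨a₀, ha₀⟩ b with hk
  have hks : ∀ a, k (starΦ hr hr2 hrp a) = k a := by
    intro a
    show (n / c) * unitFn _ _ (starΦ hr hr2 hrp a) = (n / c) * unitFn _ _ a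
    rw [unitFn_symm _ hinv]
  have hsum : orderOf (q : ZMod r) * ∑ a, k a = c * (n / c) := by
    rw [hk, ← Finset.mul_sum, unitFn_sum _ w hw, hcw]
    ring
  have hdn : c * (n / c) + n % c = n := Nat.div_add_mod n c
  have hreal := qrealT_primeProd hF hr hr2 hrp hi0 k hks
  have hdeg := natDegree_primeProd hF hr hrp k
  obtain ⟨g, hgQ, hgr, hgc⟩ := hreal.exists_end Q hQ hev
    (by rw [hdeg, hsum]; omega)
    (by
      rw [hdeg, hsum]
      intro hfull
      have hmod : n % c = 0 := by omega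
      rw [← hvalid hmod]
      by_cases hie : Even (orderOf (q : ZMod r))
      · have hci : c = orderOf (q : ZMod r) := by rw [hc, if_pos hie]
        have hsk : ∑ a, k a = n / orderOf (q : ZMod r) := by
          rw [hci] at hsum
          have := Nat.eq_of_mul_eq_mul_left hi0 hsum
          rw [this]
        rw [hsk]
      · have hio : Odd (orderOf (q : ZMod r)) := Nat.not_even_iff_odd.1 hie
        exact ⟨fun _ => Or.inl hio, fun _ => Or.inl hio⟩)
  rw [hdeg] at hgc
  refine ⟨g, k, hgQ, hgr, hks, ?_, hsum⟩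
  have e1 : Fintype.card κ - orderOf (q : ZMod r) * ∑ a, k a = n % c := by
    rw [hsum]
    omega
  rw [← e1]
  exact hgc

end ext

end Cfsg.Agent.Helper13.OrthNi
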