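import Mathlib
import Cfsg.Agent.Lib.Helper13.OrthNi2
import Cfsg.Agent.Lib.Helper13.OrthTy4

set_option autoImplicit false
set_option linter.unusedSectionVars false

/-!
# Invariant odd-dimensional nondegenerate subspaces in an isometry class: semisimple elements of
odd prime order in even dimension
-/

namespace Cfsg.Agent.Helper13.OrthNi

open Polynomial Module QuadraticMap Matrix Cfsg.Agent.Helper13.SS Cfsg.Agent.Helper13.Dual
  Cfsg.Agent.Helper13.SympSS Cfsg.Agent.Helper13.SpDec Cfsg.Agent.Helper13.SlDec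
  Cfsg.Agent.Helper13.SpTi Cfsg.Agent.Helper13.OrthSS Cfsg.Agent.Helper13
  Cfsg.Agent.Helper13.OrthTs Cfsg.Agent.Helper13.OrthTy Cfsg.Agent.Helper13.HermSS
  Cfsg.Agent.Helper13.OrthNd
open scoped Classical

universe u

section scal
variable {F : Type u} [Field F] [Fintype F] {κ : Type} [Fintype κ] [DecidableEq κ]

/-- a nontrivial isometry of odd order is not a scalar -/
theorem not_scalar_of_odd_order (Q : QuadraticForm F (κ → F)) (hQ : (polarBilin Q).Nondegenerate)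
    (hκ0 : 0 < Fintype.card κ) (x : GL κ F) (hxQ : ∀ v, Q (LG x v) = Q v) (r : ℕ)
    (hrodd : Odd r) (hxr : x ^ r = 1) (hx1 : x ≠ 1) (z : F) :
    (x : Matrix κ κ F) ≠ z • (1 : Matrix κ κ F) := by
  intro hz
  have hA : LG x = z • (1 : Module.End F (κ → F)) := by
    apply LinearMap.ext
    intro v
    rw [LG_apply, hz, Matrix.smul_mulVec, Matrix.one_mulVec, LinearMap.smul_apply,
      Module.End.one_apply]
  have hAr : LG x ^ r = 1 := by rw [← LG_pow, hxr, LG_one]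
  have hzz := scalar_sq_of_isom Q hQ hκ0 _ hxQ z hA
  have hzr : z ^ r = 1 := by
    have h1 : (z • (1 : Module.End F (κ → F))) ^ r = 1 := by rw [← hA, hAr]
    rw [_root_.smul_pow, one_pow] at h1
    obtain ⟨v, hv⟩ := Cfsg.Agent.Helper13.OrthEl.exists_nonsingular Q hQ hκ0
    have hv0 : v ≠ 0 := by
      rintro rfl
      exact hv (map_zero Q)
    have h2 := LinearMap.congr_fun h1 v
    rw [LinearMap.smul_apply, Module.End.one_apply] at h2
    have h3 : (z ^ r - 1) • v = 0 := by rw [sub_smul, one_smul, h2, sub_self]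
    rcases smul_eq_zero.1 h3 with h | h
    · exact sub_eq_zero.1 h
    · exact absurd h hv0
  have hz1 : z = 1 := by
    obtain ⟨t, ht⟩ := hrodd
    rw [ht, pow_succ, pow_mul, pow_two, hzz, one_pow, one_mul] at hzr
    exact hzr
  apply hx1
  apply Units.ext
  rw [hz, hz1, one_smul]
  rfl

end scal

section main
variable {F : Type u} [Field F] [Fintype F] {p : ℕ} [Fact p.Prime] [CharP F p] {r q : ℕ}
  {κ : Type} [Fintype κ] [DecidableEq κ]
  {M : Type u} [AddCommGroup M] [Module F M] [FiniteDimensional F M]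

/-- the extremal element as an element of `Ω` -/
theorem exists_ext_elt (hF : Fintype.card F = q) (hr : r.Prime) (hr2 : r ≠ 2) (hrp : r ≠ p)
    (Q : QuadraticForm F (κ → F)) (hQ : (polarBilin Q).Nondegenerate)
    (d : ℕ) (hκ : Fintype.card κ = 2 * d) (hd : 3 ≤ d) (c : ℕ)
    (hc : c = if Even (orderOf (q : ZMod r)) then orderOf (q : ZMod r)
      else 2 * orderOf (q : ZMod r))
    (hvalid : (2 * d) % c = 0 →
      ((Odd (orderOf (q : ZMod r)) ∨ Even ((2 * d) / orderOf (q : ZMod r))) ↔ IsHyp Q))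
    (hcn : c ≤ 2 * d) :
    ∃ (x : GL κ F) (k : ↥(cycFactors F r) → ℕ), x ∈ Cfsg.Geo.omegaGL (⇑Q) ∧ x ^ r = 1 ∧
      (∀ z : F, (x : Matrix κ κ F) ≠ z • (1 : Matrix κ κ F)) ∧
      (∀ v, Q (LG x v) = Q v) ∧ (LG x).charpoly = gPoly r ((2 * d) % c) k := by
  have hr1 : 1 ≤ r := hr.one_lt.le
  have hrodd : Odd r := hr.eq_two_or_odd'.resolve_left hr2
  have hi0 : 0 < orderOf (q : ZMod r) := pos_orderOf hF hr hrp
  have hκ0 : 0 < Fintype.card κ := by omega
  have hex : Fintype.card F ≠ 2 ∨ Fintype.card κ ≠ 4 := Or.inr (by omega)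
  obtain ⟨w, hw, hcw⟩ := exists_weight hF hr hr2 hrp (orderOf (q : ZMod r)) c rfl hc
  have hw0 : 0 < w := by
    rcases hw with ⟨-, rfl⟩ | ⟨-, rfl⟩ <;> omega
  have hc0 : 0 < c := by
    rw [hcw]
    exact Nat.mul_pos hw0 hi0
  obtain ⟨g, k, hgQ, hgr, hks, hgc, hsum⟩ := exists_ext_end hF hr hr2 hrp Q hQ
    ⟨d, by rw [hκ]; ring⟩ c hc (by rw [hκ]; exact hvalid)
  rw [hκ] at hgc hsum
  obtain ⟨x, hx, hxr, hLx⟩ := exists_gl_of_end (⇑Q) g hgQ r hr1 hgr
  have hxΩ : (⟨x, hx⟩ : ↥(Cfsg.isometryGroup F (⇑Q))) ∈ Cfsg.Omega F (⇑Q) := by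
    apply Cfsg.Agent.Helper13.OrthEl.mem_Omega_of_pow_odd Q hQ hex _ hrodd
    apply Subtype.ext
    rw [SubmonoidClass.coe_pow]
    exact hxr
  have hxmem : x ∈ Cfsg.Geo.omegaGL (⇑Q) :=
    Cfsg.Agent.Helper17.OmegaElts.coe_mem_omegaGL Q hxΩ
  have hnc : (2 * d) % c < c := Nat.mod_lt _ hc0
  have hxne : x ≠ 1 := by
    rintro rfl
    rw [LG_one] at hLx
    have hgc' := hgc
    rw [← hLx, LinearMap.charpoly_one, ← gPoly_zero_right (F := F) (r := r),
      Module.finrank_fintype_fun_eq_card, hκ] at hgc'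
    have := (gPoly_injective hr hrp _ _ _ _ hgc').1
    omega
  have hxQ : ∀ v, Q (LG x v) = Q v := by
    intro v
    rw [hLx]
    exact hgQ v
  refine ⟨x, k, hxmem, hxr, not_scalar_of_odd_order Q hQ hκ0 x hxQ r hrodd hxr hxne, hxQ, ?_⟩
  rw [hLx]
  exact hgc

/-- necessity of the criterion -/
theorem iso_nec (hF : Fintype.card F = q) (hr : r.Prime) (hr2 : r ≠ 2) (hrp : r ≠ p)
    (h2 : (2 : F) ≠ 0) (Q : QuadraticForm F (κ → F)) (hQ : (polarBilin Q).Nondegenerate)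
    (d m : ℕ) (hκ : Fintype.card κ = 2 * d) (hd : 3 ≤ d) (hmo : Odd m) (hmd : m < d)
    (QM : QuadraticForm F M) (hQM : (polarBilin QM).Nondegenerate) (hMfin : finrank F M = m)
    (hrΩ : r ∣ Nat.card (IsoSub Q QM))
    (i c : ℕ) (hi : i = orderOf (q : ZMod r)) (hc : c = if Even i then i else 2 * i)
    (hall : ∀ x : GL κ F, x ∈ Cfsg.Geo.omegaGL (⇑Q) →
      (∃ z : F, ((x ^ r : GL κ F) : Matrix κ κ F) = z • (1 : Matrix κ κ F)) →
      (∀ z : F, (x : Matrix κ κ F) ≠ z • (1 : Matrix κ κ F)) →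
      ∃ W : Submodule F (κ → F), IsIsoTo Q QM W ∧
        W.map (Matrix.toLin' (x : Matrix κ κ F)) ≤ W) :
    (((2 * d) % c = 0 ∧ ¬ ((Odd i ∨ Even ((2 * d) / i)) ↔ IsHyp Q)) ∨
      (c ≤ m ∧ m % c < (2 * d) % c)) := by
  subst hi
  have hi0 : 0 < orderOf (q : ZMod r) := pos_orderOf hF hr hrp
  obtain ⟨w, hw, hcw⟩ := exists_weight hF hr hr2 hrp (orderOf (q : ZMod r)) c rfl hc
  have hw0 : 0 < w := by
    rcases hw with ⟨-, rfl⟩ | ⟨-, rfl⟩ <;> omega
  have hc0 : 0 < c := by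
    rw [hcw]
    exact Nat.mul_pos hw0 hi0
  have hcev : Even c := by
    rw [hc]
    split_ifs with h
    · exact h
    · exact even_two_mul _
  obtain ⟨c', hc'⟩ := hcev
  obtain ⟨m', hm'⟩ := hmo
  have hdn : c * ((2 * d) / c) + (2 * d) % c = 2 * d := Nat.div_add_mod _ _
  have hdm : c * (m / c) + m % c = m := Nat.div_add_mod _ _
  have hnc : (2 * d) % c < c := Nat.mod_lt _ hc0
  have hmc : m % c < c := Nat.mod_lt _ hc0
  have e1 : c * ((2 * d) / c) = 2 * (c' * ((2 * d) / c)) := by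
    rw [hc']
    ring
  have e2 : c * (m / c) = 2 * (c' * (m / c)) := by
    rw [hc']
    ring
  -- the counting lemma
  have hCL : ¬ m < (2 * d) % c := by
    intro hlt
    obtain ⟨g, k, hgQ, hgr, hks, hgc, hsum⟩ := exists_ext_end hF hr hr2 hrp Q hQ
      ⟨d, by rw [hκ]; ring⟩ c hc (by
        rw [hκ]
        intro h0
        omega)
    rw [hκ] at hgc
    exact not_dvd_of_lt_iso hF hr hr2 hrp h2 c hc Q hQ g hgQ hgr _ k hgc hnc QM hQM
      (by rw [hMfin]; exact hlt) hrΩ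
  by_cases hk0 : (2 * d) % c = 0
  · by_cases hfull : ((Odd (orderOf (q : ZMod r)) ∨ Even ((2 * d) / orderOf (q : ZMod r))) ↔
        IsHyp Q)
    · exfalso
      have hcn : c ≤ 2 * d := by
        by_contra hlt
        push Not at hlt
        rw [Nat.mod_eq_of_lt hlt] at hk0
        omega
      obtain ⟨x, k, hxmem, hxr, hxns, hxQ, hxc⟩ := exists_ext_elt hF hr hr2 hrp Q hQ d hκ hd c hc
        (fun _ => hfull) hcn
      obtain ⟨W, hWiso, hWinv⟩ := hall x hxmem ⟨1, by rw [hxr, one_smul]; rfl⟩ hxns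
      have hWinv' : ∀ v ∈ W, LG x v ∈ W := by
        intro v hv
        have := hWinv (Submodule.mem_map_of_mem hv)
        rwa [toLin'_eq_LG] at this
      have hAr : LG x ^ r = 1 := by rw [← LG_pow, hxr, LG_one]
      obtain ⟨e, j, h1, he, -, hjs, -, -⟩ := pattern_of_nondeg hF hr hr2 hrp Q (LG x) hxQ hAr
        _ k hxc W hWinv' (hWiso.nondeg Q QM hQM)
      rw [hWiso.finrank_eq Q QM, hMfin] at h1
      obtain ⟨t, ht⟩ := even_mul_sum hF hr hr2 hrp j hjs
      omega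
    · exact Or.inl ⟨hk0, hfull⟩
  · right
    have hcn : c ≤ 2 * d := by
      by_contra hlt
      push Not at hlt
      rw [Nat.mod_eq_of_lt hlt] at hCL
      omega
    obtain ⟨x, k, hxmem, hxr, hxns, hxQ, hxc⟩ := exists_ext_elt hF hr hr2 hrp Q hQ d hκ hd c hc
      (fun h => absurd h hk0) hcn
    obtain ⟨W, hWiso, hWinv⟩ := hall x hxmem ⟨1, by rw [hxr, one_smul]; rfl⟩ hxns
    have hWinv' : ∀ v ∈ W, LG x v ∈ W := by
      intro v hv
      have := hWinv (Submodule.mem_map_of_mem hv)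
      rwa [toLin'_eq_LG] at this
    have hAr : LG x ^ r = 1 := by rw [← LG_pow, hxr, LG_one]
    obtain ⟨e, j, h1, he, -, hjs, -, -⟩ := pattern_of_nondeg hF hr hr2 hrp Q (LG x) hxQ hAr
      _ k hxc W hWinv' (hWiso.nondeg Q QM hQM)
    rw [hWiso.finrank_eq Q QM, hMfin] at h1
    obtain ⟨j', hj'⟩ := c_dvd_sum hF hr hr2 hrp (orderOf (q : ZMod r)) c rfl hc j hjs
    rw [hj'] at h1
    have helt : e < c := by omega
    have hemod : m % c = e := by
      rw [h1, Nat.add_mul_mod_self_left, Nat.mod_eq_of_lt helt]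
    have e3 : c * j' = 2 * (c' * j') := by
      rw [hc']
      ring
    have hj'1 : 1 ≤ j' := by
      by_contra h0
      have h00 : j' = 0 := by omega
      rw [h00, mul_zero, add_zero] at h1
      omega
    have h6 : c * 1 ≤ c * j' := Nat.mul_le_mul_left _ hj'1
    exact ⟨by omega, by omega⟩

/-- sufficiency of the criterion -/
theorem iso_suff (hF : Fintype.card F = q) (hr : r.Prime) (hr2 : r ≠ 2) (hrp : r ≠ p)
    (h2 : (2 : F) ≠ 0) (Q : QuadraticForm F (κ → F)) (hQ : (polarBilin Q).Nondegenerate)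
    (d m : ℕ) (hκ : Fintype.card κ = 2 * d) (hd : 3 ≤ d) (hmo : Odd m) (hmd : m < d)
    (QM : QuadraticForm F M) (hQM : (polarBilin QM).Nondegenerate) (hMfin : finrank F M = m)
    (i c : ℕ) (hi : i = orderOf (q : ZMod r)) (hc : c = if Even i then i else 2 * i)
    (hcrit : ((2 * d) % c = 0 ∧ ¬ ((Odd i ∨ Even ((2 * d) / i)) ↔ IsHyp Q)) ∨
      (c ≤ m ∧ m % c < (2 * d) % c))
    (x : GL κ F) (hxmem : x ∈ Cfsg.Geo.omegaGL (⇑Q))
    (hxz : ∃ z : F, ((x ^ r : GL κ F) : Matrix κ κ F) = z • (1 : Matrix κ κ F)) :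
    ∃ W : Submodule F (κ → F), IsIsoTo Q QM W ∧
      W.map (Matrix.toLin' (x : Matrix κ κ F)) ≤ W := by
  subst hi
  have hr1 : 1 ≤ r := hr.one_lt.le
  have hrodd : Odd r := hr.eq_two_or_odd'.resolve_left hr2
  have hi0 : 0 < orderOf (q : ZMod r) := pos_orderOf hF hr hrp
  have hinv := starΦ_involutive (F := F) hr hr2 hrp
  have hκ0 : 0 < Fintype.card κ := by omega
  obtain ⟨w, hw, hcw⟩ := exists_weight hF hr hr2 hrp (orderOf (q : ZMod r)) c rfl hc
  have hw0 : 0 < w := by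
    rcases hw with ⟨-, rfl⟩ | ⟨-, rfl⟩ <;> omega
  have hc0 : 0 < c := by
    rw [hcw]
    exact Nat.mul_pos hw0 hi0
  have hcev : Even c := by
    rw [hc]
    split_ifs with h
    · exact h
    · exact even_two_mul _
  obtain ⟨c', hc'⟩ := hcev
  obtain ⟨m', hm'⟩ := hmo
  have hdn : c * ((2 * d) / c) + (2 * d) % c = 2 * d := Nat.div_add_mod _ _
  have hdm : c * (m / c) + m % c = m := Nat.div_add_mod _ _
  have hnc : (2 * d) % c < c := Nat.mod_lt _ hc0
  have hmc : m % c < c := Nat.mod_lt _ hc0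
  have e2 : c * (m / c) = 2 * (c' * (m / c)) := by
    rw [hc']
    ring
  obtain ⟨z, hxz⟩ := hxz
  obtain ⟨h, hhΩ, rfl⟩ := (Cfsg.Agent.Helper17.OmegaElts.mem_omegaGL_iff Q x).1 hxmem
  set A := LG (h : GL κ F) with hA
  have hAQ : ∀ v, Q (A v) = Q v := fun v => by
    rw [hA, LG_apply]
    exact h.2 v v
  have hArz : A ^ r = z • (1 : Module.End F (κ → F)) := by
    rw [hA, ← LG_pow]
    apply LinearMap.ext
    intro v
    rw [LG_apply, hxz, Matrix.smul_mulVec, Matrix.one_mulVec, LinearMap.smul_apply,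
      Module.End.one_apply]
  have hpowQ : ∀ (t : ℕ) (v : κ → F), Q ((A ^ t) v) = Q v := by
    intro t
    induction t with
    | zero => intro v; simp
    | succ t ih =>
      intro v
      rw [pow_succ, Module.End.mul_apply, ih (A v), hAQ]
  have hzz : z * z = 1 := scalar_sq_of_isom Q hQ hκ0 _ (hpowQ r) z hArz
  have hz0 : z ≠ 0 := by
    rintro rfl
    rw [mul_zero] at hzz
    exact zero_ne_one hzz
  set A' : Module.End F (κ → F) := z • A with hA'
  have hA'Q : ∀ v, Q (A' v) = Q v := by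
    intro v
    rw [hA', LinearMap.smul_apply, QuadraticMap.map_smul, smul_eq_mul, hzz, one_mul, hAQ]
  have hA'r : A' ^ r = 1 := by
    rw [hA', _root_.smul_pow, hArz, smul_smul, ← pow_succ]
    obtain ⟨t, ht⟩ := hrodd
    have hr' : r + 1 = 2 * (t + 1) := by omega
    rw [hr', pow_mul, pow_two, hzz, one_pow, one_smul]
  obtain ⟨k, hks, hfin, hcp⟩ := struct_orth hF hr hr2 hrp Q hQ A' hA'Q hA'r
  rw [Module.finrank_fintype_fun_eq_card, hκ] at hfin
  obtain ⟨t, ht⟩ := c_dvd_sum hF hr hr2 hrp (orderOf (q : ZMod r)) c rfl hc k hks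
  have hsk : ∑ a, k a = w * t := by
    rw [hcw] at ht
    have : orderOf (q : ZMod r) * ∑ a, k a = orderOf (q : ZMod r) * (w * t) := by
      rw [ht]
      ring
    exact Nat.eq_of_mul_eq_mul_left hi0 this
  generalize he₀ : kdim A' (X - 1) = e₀ at hfin hcp
  -- the fixed space is large
  have hbig : m % c < e₀ ∧ (c ≤ m ∨ c ≤ e₀) := by
    rcases hcrit with ⟨hk0, hinvalid⟩ | ⟨hcm, hlt⟩
    · have he₀0 : e₀ ≠ 0 := by
        intro h0
        apply hinvalid
        rw [h0, zero_add] at hfin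
        rw [h0, gPoly_zero_left] at hcp
        have htype := type_of_nofix hF hr hr2 hrp Q hQ A' hA'Q hA'r k hks hcp
        rw [htype]
        by_cases hie : Even (orderOf (q : ZMod r))
        · have hsk' : ∑ a, k a = (2 * d) / orderOf (q : ZMod r) := by
            rw [hfin, Nat.mul_div_cancel_left _ hi0]
          rw [hsk']
        · have hio : Odd (orderOf (q : ZMod r)) := Nat.not_even_iff_odd.1 hie
          exact ⟨fun _ => Or.inl hio, fun _ => Or.inl hio⟩
      have hdvd : c ∣ e₀ := by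
        have h1 : c ∣ 2 * d := Nat.dvd_of_mod_eq_zero hk0
        rw [hfin, ht] at h1
        exact (Nat.dvd_add_left (dvd_mul_right c t)).1 h1
      have hce : c ≤ e₀ := Nat.le_of_dvd (Nat.pos_of_ne_zero he₀0) hdvd
      exact ⟨by omega, Or.inr hce⟩
    · have hfin' : 2 * d = e₀ + c * t := by rw [hfin, ht]
      have := mod_le_sub_mul (2 * d) c t (by omega)
      exact ⟨by omega, Or.inl hcm⟩
  obtain ⟨hbig1, hbig2⟩ := hbig
  rw [ht] at hfin
  obtain ⟨j', hj't, hj'j₀, hcase⟩ : ∃ j', j' ≤ t ∧ j' ≤ m / c ∧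
      (j' = m / c ∨ (j' = t ∧ t < m / c)) := by
    rcases le_or_gt (m / c) t with hle | hgt
    · exact ⟨m / c, hle, le_refl _, Or.inl rfl⟩
    · exact ⟨t, le_refl _, hgt.le, Or.inr ⟨rfl, hgt⟩⟩
  obtain ⟨k₁, hk₁s, hk₁le, hk₁sum, hor⟩ := exists_peel (starΦ (F := F) hr hr2 hrp) hinv w hw
    k hks j'
  have hk₁eq : ∑ a, k₁ a = w * j' := by
    rcases hor with h' | h'
    · rw [h', hsk] at hk₁sum ⊢
      have : t ≤ j' := Nat.le_of_mul_le_mul_left hk₁sum hw0
      have : j' = t := le_antisymm hj't this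
      rw [this]
    · exact h'
  have hik₁ : orderOf (q : ZMod r) * ∑ a, k₁ a = c * j' := by
    rw [hk₁eq, hcw]
    ring
  have h8 : c * j' ≤ c * (m / c) := Nat.mul_le_mul_left _ hj'j₀
  have e3 : c * j' = 2 * (c' * j') := by
    rw [hc']
    ring
  obtain ⟨W, hW, hWinv⟩ := exists_iso_of_pattern hF hr hr2 hrp h2 Q hQ A' hA'Q hA'r e₀ k hks
    hcp k₁ hk₁s hk₁le QM hQM (m - c * j')
    (by rw [hMfin, hik₁]; omega) (by omega)
    (by
      rcases hcase with h' | ⟨h', hlt'⟩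
      · rw [h']
        omega
      · rw [h'] at h8 ⊢
        omega)
  refine ⟨W, hW, ?_⟩
  rintro _ ⟨v, hv, rfl⟩
  have h1 := hWinv v hv
  rw [hA', LinearMap.smul_apply] at h1
  have h3 : A v = z⁻¹ • (z • A v) := by rw [smul_smul, inv_mul_cancel₀ hz0, one_smul]
  rw [toLin'_eq_LG, ← hA, h3]
  exact W.smul_mem _ h1

end main

end Cfsg.Agent.Helper13.OrthNi
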