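import Mathlib
import Cfsg.Agent.Lib.Helper13.OrthElusive4

set_option autoImplicit false
set_option linter.unusedSectionVars false

/-!
# Quadratic forms in characteristic 2 with a given polar form
-/

namespace Cfsg.Agent.Helper13.OrthSp

open Module QuadraticMap Cfsg.Agent.Helper13 Cfsg.Agent.Helper13.OrthSS
open scoped Classical

section char2
variable {F : Type*} [Field F] [Fintype F] {V : Type*} [AddCommGroup V] [Module F V]

theorem sq_injective (h2 : (2 : F) = 0) : Function.Injective (fun x : F => x ^ 2) := by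
  intro a b h
  have h1 : (a - b) ^ 2 = 0 := by
    have : (a - b) ^ 2 = a ^ 2 - b ^ 2 - 2 * (b * (a - b)) := by ring
    rw [this, h2, zero_mul, sub_zero]
    exact sub_eq_zero.2 h
  exact sub_eq_zero.1 ((pow_eq_zero_iff two_ne_zero).1 h1)

theorem exists_sqrt (h2 : (2 : F) = 0) (a : F) : ∃ s : F, s ^ 2 = a :=
  (Finite.injective_iff_surjective.1 (sq_injective h2)) a

theorem add_sq_char2 (h2 : (2 : F) = 0) (a b : F) : (a + b) ^ 2 = a ^ 2 + b ^ 2 := by
  have : (a + b) ^ 2 = a ^ 2 + b ^ 2 + 2 * (a * b) := by ring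
  rw [this, h2, zero_mul, add_zero]

/-- the form `Q + β(c, ·)²` -/
noncomputable def twist (Q : QuadraticForm F V) (c : V) : QuadraticForm F V :=
  Q + QuadraticMap.linMulLin (polarBilin Q c) (polarBilin Q c)

theorem twist_apply (Q : QuadraticForm F V) (c v : V) :
    twist Q c v = Q v + polar Q c v ^ 2 := by
  unfold twist
  show Q v + QuadraticMap.linMulLin (polarBilin Q c) (polarBilin Q c) v = _
  rw [QuadraticMap.linMulLin_apply, pow_two]
  rfl

theorem polar_twist (h2 : (2 : F) = 0) (Q : QuadraticForm F V) (c u v : V) :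
    polar (twist Q c) u v = polar Q u v := by
  unfold polar
  rw [twist_apply, twist_apply, twist_apply, polar_add_right, add_sq_char2 h2]
  unfold polar
  ring

theorem twist_twist (h2 : (2 : F) = 0) (Q : QuadraticForm F V) (c w v : V) :
    twist (twist Q c) w v = twist Q (c + w) v := by
  rw [twist_apply, twist_apply, twist_apply, polar_twist h2, polar_add_left, add_sq_char2 h2]
  ring

variable [FiniteDimensional F V]

/-- two quadratic forms with the same nondegenerate polar form differ by a twist -/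
theorem exists_twist_eq (h2 : (2 : F) = 0) (Q Q' : QuadraticForm F V)
    (hQ : (polarBilin Q).Nondegenerate) (hpol : ∀ u v, polar Q' u v = polar Q u v) :
    ∃ c : V, ∀ v, Q' v = twist Q c v := by
  have hneg : ∀ a : F, -a = a := by
    intro a
    rw [neg_eq_iff_add_eq_zero, ← two_mul, h2, zero_mul]
  set f : V → F := fun v => Q' v + Q v with hf
  have hfadd : ∀ u v, f (u + v) = f u + f v := by
    intro u v
    have h1 := hpol u v
    unfold polar at h1
    show Q' (u + v) + Q (u + v) = (Q' u + Q u) + (Q' v + Q v)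
    have h3 : Q' (u + v) = Q (u + v) - Q u - Q v + Q' u + Q' v := by linear_combination h1
    rw [h3]
    have h4 : Q (u + v) + Q (u + v) = 0 := by rw [← two_mul, h2, zero_mul]
    rw [sub_eq_add_neg, sub_eq_add_neg, hneg, hneg]
    linear_combination h4
  have hfsmul : ∀ (a : F) v, f (a • v) = a ^ 2 * f v := by
    intro a v
    show Q' (a • v) + Q (a • v) = a ^ 2 * (Q' v + Q v)
    rw [QuadraticMap.map_smul, QuadraticMap.map_smul, smul_eq_mul, smul_eq_mul]
    ring
  choose sq hsq using exists_sqrt (F := F) h2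
  set ℓ : V →ₗ[F] F :=
    { toFun := fun v => sq (f v)
      map_add' := by
        intro u v
        apply sq_injective h2
        show sq (f (u + v)) ^ 2 = (sq (f u) + sq (f v)) ^ 2
        rw [add_sq_char2 h2, hsq, hsq, hsq, hfadd]
      map_smul' := by
        intro a v
        apply sq_injective h2
        show sq (f (a • v)) ^ 2 = (a • sq (f v)) ^ 2
        rw [smul_eq_mul, mul_pow, hsq, hsq, hfsmul] } with hℓ
  have hℓ2 : ∀ v, ℓ v ^ 2 = f v := fun v => hsq (f v)
  refine ⟨(LinearMap.BilinForm.toDual (polarBilin Q) hQ).symm ℓ, ?_⟩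
  intro v
  rw [twist_apply]
  have h1 : polar Q ((LinearMap.BilinForm.toDual (polarBilin Q) hQ).symm ℓ) v = ℓ v :=
    LinearMap.BilinForm.apply_toDual_symm_apply (B := polarBilin Q) (hB := hQ) ℓ v
  rw [h1, hℓ2]
  show Q' v = Q v + (Q' v + Q v)
  have h4 : Q v + Q v = 0 := by rw [← two_mul, h2, zero_mul]
  linear_combination (-1 : F) * h4

omit [FiniteDimensional F V] in
/-- a twist by a vector whose value lies in the image of `s ↦ s² + s` is isometric to the
original form -/
theorem exists_equiv_twist (h2 : (2 : F) = 0) (Q : QuadraticForm F V) (c : V) (s : F)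
    (hs : s ^ 2 + s = Q c) : ∃ T : V ≃ₗ[F] V, ∀ v, Q (T v) = twist Q c v := by
  obtain ⟨l, hl⟩ : ∃ l : F, l ^ 2 * Q c + l = 1 := by
    by_cases ht : Q c = 0
    · exact ⟨1, by rw [ht]; ring⟩
    · refine ⟨s / Q c, ?_⟩
      field_simp
      linear_combination hs
  have hcc : polar Q c c = 0 := by
    rw [polar_self, two_smul, ← two_mul, h2, zero_mul]
  set T₀ : V →ₗ[F] V := LinearMap.id + l • (polarBilin Q c).smulRight c with hT₀
  have hT₀a : ∀ v, T₀ v = v + (l * polar Q c v) • c := by
    intro v
    rw [hT₀, LinearMap.add_apply, LinearMap.smul_apply, LinearMap.smulRight_apply, smul_smul]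
    rfl
  have hinv : Function.Involutive T₀ := by
    intro v
    rw [hT₀a, hT₀a, polar_add_right, polar_smul_right, hcc, smul_zero, add_zero, add_assoc,
      ← add_smul, ← two_mul, h2, zero_mul, zero_smul, add_zero]
  refine ⟨LinearEquiv.ofInvolutive T₀ hinv, ?_⟩
  intro v
  rw [LinearEquiv.coe_ofInvolutive, hT₀a, twist_apply, QuadraticMap.map_add Q,
    QuadraticMap.map_smul, polar_smul_right, smul_eq_mul, smul_eq_mul, polar_comm Q v c]
  linear_combination (polar Q c v) ^ 2 * hl

/-- twists by vectors with values outside the image of `s ↦ s² + s` change the type -/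
theorem isHyp_twist_iff_not (h2 : (2 : F) = 0) (Q Q' : QuadraticForm F V)
    (hQ : (polarBilin Q).Nondegenerate) (hpol : ∀ u v, polar Q' u v = polar Q u v)
    (htype : IsHyp Q' ↔ ¬ IsHyp Q) (u : V) (hu : ∀ s : F, s ^ 2 + s + Q u ≠ 0) :
    IsHyp (twist Q u) ↔ ¬ IsHyp Q := by
  have hneg : ∀ a : F, -a = a := by
    intro a
    rw [neg_eq_iff_add_eq_zero, ← two_mul, h2, zero_mul]
  obtain ⟨c, hc⟩ := exists_twist_eq h2 Q Q' hQ hpol
  have hQ'eq : Q' = twist Q c := by
    ext v
    exact hc v
  have hcn : ∀ s : F, s ^ 2 + s + Q c ≠ 0 := by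
    intro s hs
    obtain ⟨T, hT⟩ := exists_equiv_twist h2 Q c s (by
      have := hneg (Q c)
      linear_combination hs + this)
    have h1 : IsHyp (twist Q c) ↔ IsHyp Q := isHyp_iff_of_equiv T hT
    rw [← hQ'eq] at h1
    by_cases hh : IsHyp Q
    · exact (htype.1 (h1.2 hh)) hh
    · exact hh (h1.1 (htype.2 hh))
  -- `twist Q u = twist (twist Q c) (c + u)` and the value at `c + u` is in the image
  obtain ⟨s₀, hs₀⟩ := exists_plane_change_two h2 (Q c) (Q u) hcn hu
  have hval : twist Q c (c + u) = (s₀ + polar Q c u) ^ 2 + (s₀ + polar Q c u) := by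
    have hcc : polar Q c c = 0 := by
      rw [polar_self, two_smul, ← two_mul, h2, zero_mul]
    rw [twist_apply, QuadraticMap.map_add Q, polar_add_right, hcc, zero_add, add_sq_char2 h2]
    linear_combination (-1 : F) * hs₀
  obtain ⟨T, hT⟩ := exists_equiv_twist h2 (twist Q c) (c + u) (s₀ + polar Q c u) hval.symm
  have h3 : ∀ v, twist (twist Q c) (c + u) v = twist Q u v := by
    intro v
    rw [twist_twist h2]
    have : c + (c + u) = u := by
      rw [← add_assoc, ← two_smul F c, h2, zero_smul, zero_add]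
    rw [this]
  have h4 : IsHyp (twist (twist Q c) (c + u)) ↔ IsHyp (twist Q c) :=
    isHyp_iff_of_equiv T hT
  have h5 : IsHyp (twist (twist Q c) (c + u)) ↔ IsHyp (twist Q u) := by
    apply isHyp_iff_of_equiv (LinearEquiv.refl F V)
    intro v
    exact (h3 v).symm
  rw [← h5, h4, ← hQ'eq]
  exact htype

end char2

end Cfsg.Agent.Helper13.OrthSp
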