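import Mathlib
import Cfsg.Agent.Lib.Helper13.OrthSp1
import Cfsg.Agent.Lib.Helper28.SympIso
import Cfsg.Agent.Lib.Helper28.SpSingMax
import Cfsg.Agent.Lib.Helper23.OrthIso
import Cfsg.Agent.Lib.Helper2.SympCard

set_option autoImplicit false
set_option linter.unusedSectionVars false

/-!
# Orthogonal groups inside the symplectic group in characteristic 2: index
-/

namespace Cfsg.Agent.Helper13.OrthSp

open Module QuadraticMap Matrix Cfsg.Agent.Helper13 Cfsg.Agent.Helper13.OrthSS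
open scoped Classical

universe u

section forms
variable {F : Type u} [Field F] {d : ℕ}

/-- a quadratic form whose polar form is the standard alternating form is nondegenerate -/
theorem nondeg_of_polar_eq (Q : QuadraticForm F (Fin d ⊕ Fin d → F))
    (hpol : ∀ u v, polar Q u v = Cfsg.sympForm d F u v) : (polarBilin Q).Nondegenerate := by
  have h := Cfsg.Agent.Helper28.SympIso.sympBil_nondegenerate (F := F) d
  constructor
  · intro x hx
    apply h.1
    intro y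
    rw [Cfsg.Agent.Helper28.SympIso.sympBil_apply, ← hpol]
    exact hx y
  · intro x hx
    apply h.2
    intro y
    rw [Cfsg.Agent.Helper28.SympIso.sympBil_apply, ← hpol]
    exact hx y

theorem polar_comp' {V W : Type*} [AddCommGroup V] [Module F V] [AddCommGroup W] [Module F W]
    (Q : QuadraticForm F W) (f : V →ₗ[F] W) (u v : V) :
    polar (Q.comp f) u v = polar Q (f u) (f v) := by
  unfold polar
  rw [QuadraticMap.comp_apply, QuadraticMap.comp_apply, QuadraticMap.comp_apply, map_add]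

variable [Fintype F]

/-- forms of both types with the standard alternating form as polar form -/
theorem exists_form_of_type (h2 : (2 : F) = 0) (d : ℕ) (hd : 1 ≤ d) (t : Prop) :
    ∃ Q' : QuadraticForm F (Fin d ⊕ Fin d → F), (polarBilin Q').Nondegenerate ∧
      (∀ u v, polar Q' u v = Cfsg.sympForm d F u v) ∧ (IsHyp Q' ↔ t) := by
  obtain ⟨U, _, _, _, QU, hQU, hfin, htype⟩ := exists_space_of_type (F := F) (2 * d)
    (even_two_mul d) t (fun h => absurd h (by omega))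
  have halt : (polarBilin QU).IsAlt := by
    intro x
    show polar QU x x = 0
    rw [polar_self, two_smul, ← two_mul, h2, zero_mul]
  obtain ⟨e, he⟩ := Cfsg.Agent.Helper28.SympIso.exists_symp_equiv (polarBilin QU) halt hQU d hfin
  have hpol : ∀ u v, polar (QU.comp (e.symm : (Fin d ⊕ Fin d → F) →ₗ[F] U)) u v =
      Cfsg.sympForm d F u v := by
    intro u v
    rw [polar_comp']
    have h1 := he (e.symm u) (e.symm v)
    rw [Cfsg.Agent.Helper28.SympIso.sympBil_apply, LinearEquiv.apply_symm_apply,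
      LinearEquiv.apply_symm_apply] at h1
    rw [h1]
    rfl
  refine ⟨QU.comp (e.symm : (Fin d ⊕ Fin d → F) →ₗ[F] U), nondeg_of_polar_eq _ hpol, hpol, ?_⟩
  rw [← htype]
  apply isHyp_iff_of_equiv e.symm
  intro v
  rfl

end forms

section groups
variable {F : Type u} [Field F] {d : ℕ}

theorem exists_symp_ne_zero (hd : 1 ≤ d) :
    ∃ u v : Fin d ⊕ Fin d → F, Cfsg.sympForm d F u v ≠ 0 := by
  refine ⟨Cfsg.Agent.Helper2.Symp.fV ⟨0, hd⟩, Cfsg.Agent.Helper2.Symp.eV ⟨0, hd⟩, ?_⟩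
  have h : Cfsg.sympForm d F (Cfsg.Agent.Helper2.Symp.fV ⟨0, hd⟩)
      (Cfsg.Agent.Helper2.Symp.eV ⟨0, hd⟩) = 1 :=
    Cfsg.Agent.Helper2.Symp.Bf_fV_eV (F := F) (⟨0, hd⟩ : Fin d)
  rw [h]
  exact one_ne_zero

theorem symp_of_isom (Q : (Fin d ⊕ Fin d → F) → F)
    (hQf : ∀ u v, polar Q u v = Cfsg.sympForm d F u v)
    (A : Matrix (Fin d ⊕ Fin d) (Fin d ⊕ Fin d) F) (c : F) (hA : ∀ v, Q (A *ᵥ v) = c * Q v)
    (u v : Fin d ⊕ Fin d → F) :
    Cfsg.sympForm d F (A *ᵥ u) (A *ᵥ v) = c * Cfsg.sympForm d F u v := by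
  rw [← hQf, ← hQf]
  unfold polar
  rw [← Matrix.mulVec_add, hA, hA, hA]
  ring

/-- inside the symplectic group, the similarities of a quadratic form with the symplectic form
as polar form are isometries -/
theorem quadSim_inf_spGL (hd : 1 ≤ d) (Q : (Fin d ⊕ Fin d → F) → F)
    (hQf : ∀ u v, polar Q u v = Cfsg.sympForm d F u v) :
    Cfsg.Geo.quadSimilarityGroup Q ⊓ Cfsg.spGL d F = Cfsg.isometryGroup F Q := by
  ext x
  rw [Subgroup.mem_inf, mem_isometryGroup_iff]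
  constructor
  · rintro ⟨⟨c, hc⟩, hx⟩ v
    obtain ⟨u₀, v₀, h0⟩ := exists_symp_ne_zero (F := F) hd
    have h1 := symp_of_isom Q hQf (x : Matrix (Fin d ⊕ Fin d) (Fin d ⊕ Fin d) F) c hc u₀ v₀
    have h2 : Cfsg.sympForm d F ((x : Matrix (Fin d ⊕ Fin d) (Fin d ⊕ Fin d) F) *ᵥ u₀)
        ((x : Matrix (Fin d ⊕ Fin d) (Fin d ⊕ Fin d) F) *ᵥ v₀) = Cfsg.sympForm d F u₀ v₀ :=
      hx u₀ v₀
    rw [h2] at h1
    have hc1 : (c : F) = 1 := by
      have h3 : ((c : F) - 1) * Cfsg.sympForm d F u₀ v₀ = 0 := by linear_combination -h1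
      rcases mul_eq_zero.1 h3 with h4 | h4
      · exact sub_eq_zero.1 h4
      · exact absurd h4 h0
    rw [hc, hc1, one_mul]
  · intro h
    refine ⟨⟨1, fun v => by rw [h v, Units.val_one, one_mul]⟩, ?_⟩
    intro u v
    show Cfsg.sympForm d F ((x : Matrix (Fin d ⊕ Fin d) (Fin d ⊕ Fin d) F) *ᵥ u)
        ((x : Matrix (Fin d ⊕ Fin d) (Fin d ⊕ Fin d) F) *ᵥ v) = Cfsg.sympForm d F u v
    rw [symp_of_isom Q hQf _ 1 (fun v => by rw [h v, one_mul]), one_mul]

theorem isometryGroup_le_spGL (hd : 1 ≤ d) (Q : (Fin d ⊕ Fin d → F) → F)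
    (hQf : ∀ u v, polar Q u v = Cfsg.sympForm d F u v) :
    Cfsg.isometryGroup F Q ≤ Cfsg.spGL d F := by
  rw [← quadSim_inf_spGL hd Q hQf]
  exact inf_le_right

theorem card_spGL [Fintype F] (d : ℕ) :
    Nat.card (Cfsg.spGL d F) = Nat.card (Matrix.symplecticGroup (Fin d) F) := by
  symm
  apply Nat.card_eq_of_bijective
    (fun g => (⟨Cfsg.Agent.Helper28.SpSingMax.toGLHom d F g,
      Cfsg.Agent.Helper28.SpSingMax.toGLHom_mem_spGL g⟩ : Cfsg.spGL d F))
  constructor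
  · intro g h hgh
    have h1 := congrArg (fun z : Cfsg.spGL d F =>
      ((z : GL (Fin d ⊕ Fin d) F) : Matrix (Fin d ⊕ Fin d) (Fin d ⊕ Fin d) F)) hgh
    exact Subtype.ext h1
  · rintro ⟨x, hx⟩
    obtain ⟨g, hg⟩ := Cfsg.Agent.Helper28.SpSingMax.exists_of_mem_spGL x hx
    exact ⟨g, Subtype.ext hg⟩

end groups

section index
variable {F : Type u} [Field F] [Fintype F]

theorem card_isom_mul_relIndex (k : ℕ) (Q : (Fin (k + 1) ⊕ Fin (k + 1) → F) → F)
    (hQf : ∀ u v, polar Q u v = Cfsg.sympForm (k + 1) F u v) :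
    Nat.card (Cfsg.isometryGroup F Q) *
      (Cfsg.Geo.quadSimilarityGroup Q).relIndex (Cfsg.spGL (k + 1) F) =
      Nat.card (Cfsg.spGL (k + 1) F) := by
  have hd : 1 ≤ k + 1 := by omega
  rw [← Subgroup.inf_relIndex_right, quadSim_inf_spGL hd Q hQf,
    ← Subgroup.relIndex_bot_left (H := Cfsg.isometryGroup F Q),
    Subgroup.relIndex_mul_relIndex _ _ _ bot_le (isometryGroup_le_spGL hd Q hQf),
    Subgroup.relIndex_bot_left]

theorem arith_aux (q k : ℕ) (hq : 2 ≤ q) :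
    ∃ Y P A : ℕ, 0 < Y ∧ 0 < P ∧ 0 < A ∧ q ^ (k + 1) = Y + 1 ∧ q ^ ((k + 1) * k) = P ∧
      ∏ i ∈ Finset.range k, (q ^ (2 * (i + 1)) - 1) = A ∧
      q ^ ((k + 1) ^ 2) * ∏ i ∈ Finset.range (k + 1), (q ^ (2 * (i + 1)) - 1) =
        P * (Y + 1) * (A * (Y * (Y + 2))) := by
  have hX : 2 ≤ q ^ (k + 1) := by
    calc 2 ≤ q := hq
      _ = q ^ 1 := (pow_one q).symm
      _ ≤ q ^ (k + 1) := Nat.pow_le_pow_right (by omega) (by omega)
  obtain ⟨Y, hY⟩ : ∃ Y, q ^ (k + 1) = Y + 1 := ⟨q ^ (k + 1) - 1, by omega⟩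
  refine ⟨Y, q ^ ((k + 1) * k), ∏ i ∈ Finset.range k, (q ^ (2 * (i + 1)) - 1), by omega,
    pow_pos (by omega) _, ?_, hY, rfl, rfl, ?_⟩
  · apply Finset.prod_pos
    intro i _
    have : 2 ≤ q ^ (2 * (i + 1)) := by
      calc 2 ≤ q := hq
        _ = q ^ 1 := (pow_one q).symm
        _ ≤ q ^ (2 * (i + 1)) := Nat.pow_le_pow_right (by omega) (by omega)
    omega
  · rw [Finset.prod_range_succ]
    have e1 : q ^ ((k + 1) ^ 2) = q ^ ((k + 1) * k) * q ^ (k + 1) := by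
      rw [← pow_add]
      congr 1
      ring
    have e2 : q ^ (2 * (k + 1)) - 1 = Y * (Y + 2) := by
      rw [mul_comm 2 (k + 1), pow_mul, hY]
      apply Nat.sub_eq_of_eq_add
      ring
    rw [e1, e2, hY]

theorem two_mul_relIndex_plus (k : ℕ) (Qb : QuadraticForm F (Fin (k + 1) ⊕ Fin (k + 1) → F))
    (hpol : ∀ u v, polar Qb u v = Cfsg.sympForm (k + 1) F u v) (hh : IsHyp Qb) :
    2 * (Cfsg.Geo.quadSimilarityGroup (⇑Qb)).relIndex (Cfsg.spGL (k + 1) F) =
      Fintype.card F ^ (k + 1) * (Fintype.card F ^ (k + 1) + 1) := by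
  have hQb := nondeg_of_polar_eq Qb hpol
  obtain ⟨e, he⟩ := equiv_of_type Qb (matQ (plusMat (k + 1) F)) hQb
    (Cfsg.Agent.Helper2.Orth.nondeg_plus (k + 1)) rfl
    (by
      rw [Module.finrank_fintype_fun_eq_card, Fintype.card_sum, Fintype.card_fin]
      exact ⟨k + 1, rfl⟩)
    (iff_of_true hh (isHyp_plusMat (k + 1)))
  obtain ⟨φ⟩ := Cfsg.Agent.Helper23.Orth.nonempty_iso_of_equiv (⇑Qb)
    (⇑(matQ (plusMat (k + 1) F))) e he
  have hcard := Nat.card_congr φ.toEquiv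
  rw [← Cfsg.Agent.Helper2.Orth.quadFormPlus_eq, Cfsg.Agent.Helper2.Orth.card_plus_succ] at hcard
  have h1 := card_isom_mul_relIndex k (⇑Qb) hpol
  rw [hcard, card_spGL, Cfsg.Agent.Helper2.Symp.card_symplecticGroup] at h1
  obtain ⟨Y, P, A, hY0, hP0, hA0, hY, hP, hA, hprod⟩ :=
    arith_aux (Fintype.card F) k Fintype.one_lt_card
  rw [hprod, hP, hA, hY] at h1
  rw [hY]
  generalize (Cfsg.Geo.quadSimilarityGroup (⇑Qb)).relIndex (Cfsg.spGL (k + 1) F) = R at h1 ⊢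
  have h2 : Y + 1 - 1 = Y := by omega
  rw [h2] at h1
  have hpos : 0 < P * Y * A := Nat.mul_pos (Nat.mul_pos hP0 hY0) hA0
  apply Nat.eq_of_mul_eq_mul_left hpos
  linear_combination h1

theorem two_mul_relIndex_minus (k : ℕ) (Qb : QuadraticForm F (Fin (k + 1) ⊕ Fin (k + 1) → F))
    (hpol : ∀ u v, polar Qb u v = Cfsg.sympForm (k + 1) F u v) (hh : ¬ IsHyp Qb) :
    2 * (Cfsg.Geo.quadSimilarityGroup (⇑Qb)).relIndex (Cfsg.spGL (k + 1) F) =
      Fintype.card F ^ (k + 1) * (Fintype.card F ^ (k + 1) - 1) := by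
  have hQb := nondeg_of_polar_eq Qb hpol
  obtain ⟨ζ, hζ⟩ := exists_rootless (F := F)
  have hab := aniso_of_rootless ζ hζ
  obtain ⟨e, he⟩ := equiv_of_type Qb (matQ (minusMat k 1 ζ)) hQb
    (Cfsg.Agent.Helper2.Orth.nondeg_minus k 1 ζ hab)
    (by
      rw [Module.finrank_fintype_fun_eq_card, Module.finrank_fintype_fun_eq_card,
        Fintype.card_sum, Fintype.card_sum, Fintype.card_sum, Fintype.card_fin, Fintype.card_fin,
        Fintype.card_fin]
      omega)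
    (by
      rw [Module.finrank_fintype_fun_eq_card, Fintype.card_sum, Fintype.card_fin]
      exact ⟨k + 1, rfl⟩)
    (iff_of_false hh (not_isHyp_minusMat k 1 ζ hab))
  obtain ⟨φ⟩ := Cfsg.Agent.Helper23.Orth.nonempty_iso_of_equiv (⇑Qb)
    (⇑(matQ (minusMat k 1 ζ))) e he
  have hcard := Nat.card_congr φ.toEquiv
  rw [← Cfsg.Agent.Helper2.Orth.quadFormMinus_eq, Cfsg.Agent.Helper2.Orth.card_minus 1 ζ hab]
    at hcard
  have h1 := card_isom_mul_relIndex k (⇑Qb) hpol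
  rw [hcard, card_spGL, Cfsg.Agent.Helper2.Symp.card_symplecticGroup] at h1
  obtain ⟨Y, P, A, hY0, hP0, hA0, hY, hP, hA, hprod⟩ :=
    arith_aux (Fintype.card F) k Fintype.one_lt_card
  rw [hprod, hP, hA, hY] at h1
  rw [hY]
  generalize (Cfsg.Geo.quadSimilarityGroup (⇑Qb)).relIndex (Cfsg.spGL (k + 1) F) = R at h1 ⊢
  have h2 : Y + 1 - 1 = Y := by omega
  rw [h2]
  have hpos : 0 < P * (Y + 2) * A := Nat.mul_pos (Nat.mul_pos hP0 (by omega)) hA0
  apply Nat.eq_of_mul_eq_mul_left hpos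
  linear_combination h1

end index

end Cfsg.Agent.Helper13.OrthSp
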