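import Mathlib
import Cfsg.Agent.Lib.Helper13.OrthSp2

set_option autoImplicit false
set_option linter.unusedSectionVars false

/-!
# Elements of the symplectic group in characteristic 2 preserving quadratic forms of one type only
-/

namespace Cfsg.Agent.Helper13.OrthSp

open Polynomial Module QuadraticMap Matrix Cfsg.Agent.Helper13 Cfsg.Agent.Helper13.SS
  Cfsg.Agent.Helper13.SympSS Cfsg.Agent.Helper13.OrthSS Cfsg.Agent.Helper13.OrthEl
open scoped Classical

universe u

section bad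
variable {F : Type u} [Field F] [Fintype F] {p q : ℕ} [Fact p.Prime] [CharP F p] {r : ℕ}
  {ι : Type} [Fintype ι] [DecidableEq ι]

/-- an element of odd prime order of an orthogonal group all of whose invariant nondegenerate
quadratic forms have the same type -/
theorem exists_bad_odd (hF : Fintype.card F = q) (hr : r.Prime) (hr2 : r ≠ 2)
    (hrp : r ≠ p) (hi0 : 0 < orderOf (q : ZMod r)) (Q : QuadraticForm F (ι → F))
    (hQ : (QuadraticMap.polarBilin Q).Nondegenerate) (hev : Even (Fintype.card ι))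
    (hι : 0 < Fintype.card ι)
    (k : ↥(cycFactors F r) → ℕ) (hk1 : ∀ a, k (starΦ hr hr2 hrp a) = k a)
    (hk2 : orderOf (q : ZMod r) * ∑ a, k a = Fintype.card ι)
    (hk3 : (Odd (orderOf (q : ZMod r)) ∨ Even (∑ a, k a)) ↔ IsHyp Q) :
    ∃ x : GL ι F, x ∈ Cfsg.isometryGroup F (⇑Q) ∧ x ^ r = 1 ∧
      (∀ z : F, (x : Matrix ι ι F) ≠ z • (1 : Matrix ι ι F)) ∧
      ∀ Q'' : QuadraticForm F (ι → F), (polarBilin Q'').Nondegenerate →
        (∀ v, Q'' ((x : Matrix ι ι F) *ᵥ v) = Q'' v) → (IsHyp Q'' ↔ IsHyp Q) := by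
  have hrodd : Odd r := hr.odd_of_ne_two hr2
  have hrF : (r : F) ≠ 0 := cast_ne_zero_of_prime_ne hr hrp
  obtain ⟨g, hgr, hgc⟩ := exists_rep_even hF hr hr2 hrp hi0 Q hQ hev
    ⟨k, hk1, hk2.le, fun _ => hk3⟩
  have hcp : ((g : GL ι F) : Matrix ι ι F).charpoly = ∏ a : ↥(cycFactors F r), a.1 ^ k a := by
    rw [hgc]
    unfold primePolyN
    show (X - 1) ^ (Fintype.card ι - orderOf (q : ZMod r) * ∑ a, k a) *
      ∏ a : ↥(cycFactors F r), a.1 ^ k a = _
    rw [hk2, Nat.sub_self, pow_zero, one_mul]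
  have hg' : (g : GL ι F) ^ r = 1 := by
    rw [← SubmonoidClass.coe_pow, hgr]
    rfl
  have hgQ : ∀ v, Q (LG (g : GL ι F) v) = Q v := fun v => by
    rw [LG_apply]
    exact g.2 v v
  have hcg : (LG (g : GL ι F)).charpoly = ∏ a : ↥(cycFactors F r), a.1 ^ k a := by
    rw [LG_charpoly, hcp]
  have hgr' : (LG (g : GL ι F)) ^ r = 1 := by
    rw [← LG_pow, hg', LG_one]
  have h1 : (LG (g : GL ι F)).charpoly.eval 1 ≠ 0 := by
    rw [hcg]
    exact eval_one_primeProd_ne_zero hr hrp k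
  refine ⟨g, g.2, hg', ?_, ?_⟩
  · intro z hz
    -- every vector is an eigenvector for `z`, so `z` is a root of the characteristic polynomial
    obtain ⟨v, hv⟩ := exists_nonsingular Q hQ hι
    have hv0 : v ≠ 0 := by
      rintro rfl
      exact hv (map_zero Q)
    have hAv : LG (g : GL ι F) v = z • v := by
      rw [LG_apply, hz, Matrix.smul_mulVec, Matrix.one_mulVec]
    have h2 : (LG (g : GL ι F)).HasEigenvalue z := by
      apply Module.End.hasEigenvalue_of_hasEigenvector (x := v)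
      exact ⟨Module.End.mem_eigenspace_iff.2 hAv, hv0⟩
    have h3 : (LG (g : GL ι F)).charpoly.IsRoot z :=
      (Module.End.hasEigenvalue_iff_isRoot_charpoly _ z).1 h2
    rw [hcg, IsRoot.def, eval_prod, Finset.prod_eq_zero_iff] at h3
    obtain ⟨a, -, ha⟩ := h3
    rw [eval_pow] at ha
    have ha0 : a.1.eval z = 0 := eq_zero_of_pow_eq_zero ha
    have hzr : z ^ r = 1 := by
      obtain ⟨b, hb⟩ := cycFactors_dvd_X_pow a.2
      have h4 : (X ^ r - 1 : F[X]).eval z = 0 := by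
        rw [hb, eval_mul, ha0, zero_mul]
      rw [eval_sub, eval_pow, eval_X, eval_one, sub_eq_zero] at h4
      exact h4
    have hz1 : z ≠ 1 := by
      rintro rfl
      exact cycFactors_eval_one_ne_zero hr hrp a.2 ha0
    have hz2 : z ^ 2 ≠ 1 := by
      intro h
      apply hz1
      obtain ⟨j, hj⟩ := hrodd
      rw [hj, pow_succ, pow_mul, h, one_pow, one_mul] at hzr
      exact hzr
    have h5 := hgQ v
    rw [hAv, QuadraticMap.map_smul, smul_eq_mul] at h5
    have h6 : (z ^ 2 - 1) * Q v = 0 := by linear_combination h5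
    rcases mul_eq_zero.1 h6 with h7 | h7
    · exact hz2 (sub_eq_zero.1 h7)
    · exact hv h7
  · intro Q'' hQ'' hinv
    have hgQ'' : ∀ v, Q'' (LG (g : GL ι F) v) = Q'' v := fun v => by
      rw [LG_apply]
      exact hinv v
    obtain ⟨e, he⟩ := exists_isometry_of_charpoly Q'' Q hQ'' hQ (LG (g : GL ι F))
      (LG (g : GL ι F)) hgQ'' hgQ hr.one_lt.le hrodd hrF hgr' hgr' rfl h1
    exact (isHyp_iff_of_equiv e he).symm

end bad

section rev
variable {F : Type*} [Field F]

theorem sympForm_expand (d : ℕ) (u v : Fin d ⊕ Fin d → F) :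
    Cfsg.sympForm d F u v =
      ∑ i, (u (Sum.inr i) * v (Sum.inl i) - u (Sum.inl i) * v (Sum.inr i)) := by
  unfold Cfsg.sympForm
  rw [dotProduct, Fintype.sum_sum_type, Matrix.J, Matrix.fromBlocks_mulVec]
  simp only [Sum.elim_inl, Sum.elim_inr, Matrix.zero_mulVec, Matrix.neg_mulVec, Matrix.one_mulVec,
    zero_add, add_zero, Pi.neg_apply, Function.comp_apply]
  rw [Finset.sum_sub_distrib]
  simp only [mul_neg, Finset.sum_neg_distrib]
  ring

theorem polar_plusMat (h2 : (2 : F) = 0) (d : ℕ) (u v : Fin d ⊕ Fin d → F) :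
    polar (matQ (plusMat d F)) u v = Cfsg.sympForm d F u v := by
  unfold polar
  rw [matQ_plusMat, matQ_plusMat, matQ_plusMat, sympForm_expand, ← Finset.sum_sub_distrib,
    ← Finset.sum_sub_distrib]
  apply Finset.sum_congr rfl
  intro i _
  rw [Pi.add_apply, Pi.add_apply]
  linear_combination (u (Sum.inl i) * v (Sum.inr i)) * h2

theorem sum_rev_mul (h2 : (2 : F) = 0) {d : ℕ} (hd : Even d) (y : Fin d → F) :
    ∑ i, y i * y (Fin.rev i) = 0 := by
  apply Finset.sum_involution (fun i _ => Fin.rev i)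
  · intro i _
    rw [Fin.rev_rev]
    linear_combination (y (Fin.rev i) * y i) * h2
  · intro i _ _
    exact rev_ne_self hd i
  · intro i _
    exact Finset.mem_univ _
  · intro i _
    exact Fin.rev_rev i

/-- a quadratic form with the standard polar form which is invariant under `revInv` is
hyperbolic -/
theorem isHyp_of_revInv (h2 : (2 : F) = 0) {d : ℕ} (hd : Even d)
    (Q'' : QuadraticForm F (Fin d ⊕ Fin d → F))
    (hpol : ∀ u v, polar Q'' u v = Cfsg.sympForm d F u v)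
    (hinv : ∀ v, Q'' (revInv F d v) = Q'' v) : IsHyp Q'' := by
  refine ⟨LinearMap.range (extL (F := F) (Fin d) (Fin d)), ?_, ?_⟩
  · rintro _ ⟨y, rfl⟩
    set v := extR (F := F) (Fin d) (Fin d) (fun j => y (Fin.rev j)) with hv
    have hxv : revInv F d v = extL (Fin d) (Fin d) y + v := by
      funext j
      rcases j with j | j
      · rw [revInv_inl, Pi.add_apply, extL_inl, hv, extR_inl, extR_inr, Fin.rev_rev]
        ring
      · rw [revInv_inr, Pi.add_apply, extL_inr, zero_add]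
    have h1 := hinv v
    rw [hxv] at h1
    have h3 : polar Q'' (extL (Fin d) (Fin d) y) v = 0 := by
      rw [hpol, sympForm_expand]
      have h4 : ∀ i : Fin d, extL (F := F) (Fin d) (Fin d) y (Sum.inr i) * v (Sum.inl i) -
          extL (F := F) (Fin d) (Fin d) y (Sum.inl i) * v (Sum.inr i) =
          - (y i * y (Fin.rev i)) := by
        intro i
        rw [extL_inr, extL_inl, hv, extR_inl, extR_inr]
        ring
      rw [Finset.sum_congr rfl (fun i _ => h4 i), Finset.sum_neg_distrib, sum_rev_mul h2 hd,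
        neg_zero]
    unfold polar at h3
    linear_combination h1 - h3
  · rw [LinearMap.finrank_range_of_inj (extL_injective _ _), Module.finrank_fintype_fun_eq_card,
      Module.finrank_fintype_fun_eq_card, Fintype.card_sum, Fintype.card_fin]
    omega

/-- an involution of the symplectic group preserving only hyperbolic forms -/
theorem exists_bad_revInv (h2 : (2 : F) = 0) {d : ℕ} (hd : Even d) (hd1 : 1 ≤ d) :
    ∃ x : GL (Fin d ⊕ Fin d) F, x ∈ Cfsg.spGL d F ∧ x ^ 2 = 1 ∧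
      (∀ z : F, (x : Matrix (Fin d ⊕ Fin d) (Fin d ⊕ Fin d) F) ≠
        z • (1 : Matrix (Fin d ⊕ Fin d) (Fin d ⊕ Fin d) F)) ∧
      ∀ Q'' : QuadraticForm F (Fin d ⊕ Fin d → F),
        (∀ u v, polar Q'' u v = Cfsg.sympForm d F u v) →
        (∀ v, Q'' ((x : Matrix (Fin d ⊕ Fin d) (Fin d ⊕ Fin d) F) *ᵥ v) = Q'' v) →
        IsHyp Q'' := by
  have hsq : revInv F d ^ 2 = 1 := by
    apply LinearMap.ext
    intro v
    rw [pow_two, Module.End.mul_apply, revInv_revInv h2]
    rfl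
  obtain ⟨x, hx, hxr, hLx⟩ := exists_gl_of_end (⇑(matQ (plusMat d F))) (revInv F d)
    (Q_revInv h2 hd) 2 (by norm_num) hsq
  have hxv : ∀ v, (x : Matrix (Fin d ⊕ Fin d) (Fin d ⊕ Fin d) F) *ᵥ v = revInv F d v := by
    intro v
    rw [← hLx, LG_apply]
  refine ⟨x, isometryGroup_le_spGL hd1 _ (polar_plusMat h2 d) hx, hxr, ?_, ?_⟩
  · intro z hz
    set j : Fin d := ⟨0, hd1⟩ with hj
    have h1 := hxv (Pi.single (Sum.inr j) 1)
    rw [hz, Matrix.smul_mulVec, Matrix.one_mulVec] at h1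
    have h3 := congrFun h1 (Sum.inl (Fin.rev j))
    rw [revInv_inl, Fin.rev_rev, Pi.smul_apply, Pi.single_eq_of_ne (by simp), Pi.single_eq_same,
      smul_zero, zero_add] at h3
    exact one_ne_zero h3.symm
  · intro Q'' hpol hinv
    apply isHyp_of_revInv h2 hd Q'' hpol
    intro v
    rw [← hxv, hinv]

end rev

section transport
variable {F : Type*} [Field F] {d : ℕ}

/-- an element of the symplectic group conjugate into the orthogonal group of `Q` preserves a
form isometric to `Q` with the same polar form -/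
theorem exists_invariant_of_conj (hd : 1 ≤ d) (Qb : QuadraticForm F (Fin d ⊕ Fin d → F))
    (hpol : ∀ u v, polar Qb u v = Cfsg.sympForm d F u v) (x g : GL (Fin d ⊕ Fin d) F)
    (hx : x ∈ Cfsg.spGL d F) (hg : g ∈ Cfsg.spGL d F)
    (h : g⁻¹ * x * g ∈ Cfsg.Geo.quadSimilarityGroup (⇑Qb)) :
    ∃ Q'' : QuadraticForm F (Fin d ⊕ Fin d → F),
      (∀ u v, polar Q'' u v = Cfsg.sympForm d F u v) ∧
      (∀ v, Q'' ((x : Matrix (Fin d ⊕ Fin d) (Fin d ⊕ Fin d) F) *ᵥ v) = Q'' v) ∧
      (IsHyp Q'' ↔ IsHyp Qb) := by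
  have hy : g⁻¹ * x * g ∈ Cfsg.isometryGroup F (⇑Qb) := by
    rw [← quadSim_inf_spGL hd (⇑Qb) hpol]
    exact ⟨h, Subgroup.mul_mem _ (Subgroup.mul_mem _ (Subgroup.inv_mem _ hg) hx) hg⟩
  rw [mem_isometryGroup_iff] at hy
  have hgi : (g⁻¹ : GL (Fin d ⊕ Fin d) F) ∈ Cfsg.spGL d F := Subgroup.inv_mem _ hg
  set T : (Fin d ⊕ Fin d → F) →ₗ[F] (Fin d ⊕ Fin d → F) :=
    Matrix.toLin' ((g⁻¹ : GL (Fin d ⊕ Fin d) F) : Matrix (Fin d ⊕ Fin d) (Fin d ⊕ Fin d) F)
    with hT
  set T' : (Fin d ⊕ Fin d → F) →ₗ[F] (Fin d ⊕ Fin d → F) :=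
    Matrix.toLin' ((g : GL (Fin d ⊕ Fin d) F) : Matrix (Fin d ⊕ Fin d) (Fin d ⊕ Fin d) F)
    with hT'
  have hTT' : T ∘ₗ T' = LinearMap.id := by
    rw [hT, hT', ← Matrix.toLin'_mul, ← Units.val_mul, inv_mul_cancel, Units.val_one,
      Matrix.toLin'_one]
  have hT'T : T' ∘ₗ T = LinearMap.id := by
    rw [hT, hT', ← Matrix.toLin'_mul, ← Units.val_mul, mul_inv_cancel, Units.val_one,
      Matrix.toLin'_one]
  have hTv : ∀ v, T v = ((g⁻¹ : GL (Fin d ⊕ Fin d) F) :
      Matrix (Fin d ⊕ Fin d) (Fin d ⊕ Fin d) F) *ᵥ v := fun v => Matrix.toLin'_apply _ v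
  refine ⟨Qb.comp T, ?_, ?_, ?_⟩
  · intro u v
    rw [polar_comp', hpol, hTv, hTv]
    exact hgi u v
  · intro v
    rw [QuadraticMap.comp_apply, QuadraticMap.comp_apply, hTv, hTv]
    have h1 := hy (((g⁻¹ : GL (Fin d ⊕ Fin d) F) :
      Matrix (Fin d ⊕ Fin d) (Fin d ⊕ Fin d) F) *ᵥ v)
    rw [Matrix.mulVec_mulVec, ← Units.val_mul, mul_inv_cancel_right, Units.val_mul,
      ← Matrix.mulVec_mulVec] at h1
    exact h1
  · apply isHyp_iff_of_equiv (LinearEquiv.ofLinearMap T T' hTT' hT'T)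
    intro v
    rfl

end transport

end Cfsg.Agent.Helper13.OrthSp
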