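import Mathlib
import Cfsg.Agent.Lib.Helper13.OrthSp3
import Cfsg.Agent.Lib.Helper11.AltForm

set_option autoImplicit false
set_option linter.unusedSectionVars false

/-!
# Involutions of the symplectic group in characteristic 2 preserve quadratic forms
-/

namespace Cfsg.Agent.Helper13.OrthSp

open Polynomial Module QuadraticMap Matrix Cfsg.Agent.Helper13 Cfsg.Agent.Helper13.SS
  Cfsg.Agent.Helper13.SympSS Cfsg.Agent.Helper13.OrthSS Cfsg.Agent.Helper13.OrthEl
open scoped Classical

universe u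

section alt
variable {F : Type*} [Field F] {V : Type*} [AddCommGroup V] [Module F V] [FiniteDimensional F V]

/-- if `B (N v) v = 0` for all `v` then `N` has even rank -/
theorem even_finrank_range_of_alt (B : LinearMap.BilinForm F V) (hB : B.Nondegenerate)
    (N : Module.End F V) (halt : ∀ v, B (N v) v = 0) : Even (finrank F (LinearMap.range N)) := by
  set γ : LinearMap.BilinForm F V := B.comp N LinearMap.id with hγ
  have hγa : ∀ u v, γ u v = B (N u) v := fun u v => rfl
  have hγalt : γ.IsAlt := fun v => by rw [hγa]; exact halt v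
  obtain ⟨U, hU⟩ := Submodule.exists_isCompl (LinearMap.ker N)
  have hfin : finrank F U = finrank F (LinearMap.range N) := by
    have h1 := Submodule.finrank_add_eq_of_isCompl hU
    have h2 := LinearMap.finrank_range_add_finrank_ker N
    omega
  rw [← hfin]
  set γU : LinearMap.BilinForm F U := γ.restrict U with hγU
  have hγUa : ∀ u v : U, γU u v = B (N u) v := fun u v => rfl
  have hγUalt : γU.IsAlt := fun v => by rw [hγUa]; exact halt v
  apply Cfsg.Agent.Helper11.even_finrank_of_nondegenerate_isAlt γU ?_ hγUalt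
  apply (hγUalt.isRefl.nondegenerate_iff_separatingLeft).2
  intro u hu
  have h1 : ∀ v : V, B (N u) v = 0 := by
    intro v
    obtain ⟨k, hk, u', hu', rfl⟩ : ∃ k ∈ LinearMap.ker N, ∃ u' ∈ U, k + u' = v := by
      have : v ∈ LinearMap.ker N ⊔ U := by
        rw [hU.sup_eq_top]
        exact Submodule.mem_top
      exact Submodule.mem_sup.1 this
    rw [map_add]
    have h2 : B (N u) k = 0 := by
      have h3 := LinearMap.IsAlt.neg hγalt k (u : V)
      rw [hγa, hγa, LinearMap.mem_ker.1 hk, map_zero, LinearMap.zero_apply, neg_zero] at h3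
      exact h3.symm
    rw [h2, zero_add]
    exact hu ⟨u', hu'⟩
  have h3 : N u = 0 := hB.1 _ h1
  have h4 : (u : V) ∈ LinearMap.ker N ⊓ U := ⟨h3, u.2⟩
  rw [hU.inf_eq_bot] at h4
  exact Subtype.ext ((Submodule.mem_bot F).1 h4)

end alt

section invol
variable {F : Type u} [Field F] [Fintype F] {V : Type*} [AddCommGroup V] [Module F V]
  [FiniteDimensional F V]

/-- an involutory isometry of the polar form of `Q` preserves a quadratic form with the same
polar form and the same type as `Q`, if `Q` is hyperbolic or of dimension `2 (mod 4)` -/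
theorem exists_invariant_form (h2 : (2 : F) = 0) (Q : QuadraticForm F V)
    (hQ : (polarBilin Q).Nondegenerate) (d : ℕ) (hfin : finrank F V = 2 * d)
    (A : Module.End F V) (hAA : ∀ v, A (A v) = v)
    (hAβ : ∀ u v, polar Q (A u) (A v) = polar Q u v) (hcase : IsHyp Q ∨ Odd d) :
    ∃ Q₂ : QuadraticForm F V, (∀ u v, polar Q₂ u v = polar Q u v) ∧ (∀ v, Q₂ (A v) = Q₂ v) ∧
      (IsHyp Q₂ ↔ IsHyp Q) := by
  have hneg : ∀ a : F, -a = a := by
    intro a
    rw [neg_eq_iff_add_eq_zero, ← two_mul, h2, zero_mul]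
  have hself : ∀ u v, polar Q (A u) v = polar Q u (A v) := by
    intro u v
    have h := hAβ u (A v)
    rw [hAA] at h
    exact h
  set N : Module.End F V := A - 1 with hN
  have hNv : ∀ v, N v = A v - v := fun v => rfl
  have hNN : N * N = 0 := by
    apply LinearMap.ext
    intro v
    rw [Module.End.mul_apply, hNv, hNv, map_sub, hAA, LinearMap.zero_apply]
    calc v - A v - (A v - v) = (2 : F) • v - (2 : F) • A v := by
          rw [two_smul, two_smul]; abel
      _ = 0 := by rw [h2, zero_smul, zero_smul, sub_zero]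
  have hker : ∀ v, v ∈ LinearMap.ker N ↔ A v = v := by
    intro v
    rw [LinearMap.mem_ker, hNv, sub_eq_zero]
  -- the transported form
  have hpolA : ∀ u v, polar (Q.comp A) u v = polar Q u v := by
    intro u v
    rw [polar_comp', hAβ]
  obtain ⟨c, hc⟩ := exists_twist_eq h2 Q (Q.comp A) hQ hpolA
  have hc' : ∀ v, Q (A v) = Q v + polar Q c v ^ 2 := by
    intro v
    rw [← twist_apply, ← hc]
    rfl
  have hcker : ∀ v, A v = v → polar Q c v = 0 := by
    intro v hv
    have h := hc' v
    rw [hv] at h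
    have h3 : polar Q c v ^ 2 = 0 := by linear_combination -h
    exact eq_zero_of_pow_eq_zero h3
  -- `c` lies in the range of `N`
  have hrange : LinearMap.range N = LinearMap.BilinForm.orthogonal (polarBilin Q)
      (LinearMap.ker N) := by
    apply Submodule.eq_of_le_of_finrank_eq
    · rintro _ ⟨u, rfl⟩ n hn
      show polar Q n (N u) = 0
      rw [hNv, polar_sub_right, ← hself, (hker n).1 hn, sub_self]
    · have h1 := LinearMap.BilinForm.finrank_orthogonal hQ (LinearMap.ker N)
      have h3 := LinearMap.finrank_range_add_finrank_ker N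
      have h4 := Submodule.finrank_le (LinearMap.ker N)
      omega
  have hcr : c ∈ LinearMap.range N := by
    rw [hrange]
    intro n hn
    show polar Q n c = 0
    rw [polar_comm]
    exact hcker n ((hker n).1 hn)
  obtain ⟨w, hw⟩ := hcr
  -- the first invariant form
  set Q₁ := twist Q w with hQ₁
  have hpol₁ : ∀ u v, polar Q₁ u v = polar Q u v := fun u v => polar_twist h2 Q w u v
  have hQ₁nd : (polarBilin Q₁).Nondegenerate := by
    constructor
    · intro x hx
      apply hQ.1
      intro y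
      have := hx y
      show polar Q x y = 0
      rw [← hpol₁]
      exact this
    · intro x hx
      apply hQ.2
      intro y
      have := hx y
      show polar Q y x = 0
      rw [← hpol₁]
      exact this
  have hinv₁ : ∀ v, Q₁ (A v) = Q₁ v := by
    intro v
    rw [hQ₁, twist_apply, twist_apply, hc', ← hw, hNv, polar_sub_left, hself]
    have e1 : (polar Q w (A v) - polar Q w v) ^ 2 = polar Q w (A v) ^ 2 + polar Q w v ^ 2 := by
      rw [sub_eq_add_neg, hneg, add_sq_char2 h2]
    rw [e1]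
    linear_combination polar Q w (A v) ^ 2 * h2
  by_cases hsame : IsHyp Q₁ ↔ IsHyp Q
  · exact ⟨Q₁, hpol₁, hinv₁, hsame⟩
  have htype : IsHyp Q ↔ ¬ IsHyp Q₁ := by
    by_cases h1 : IsHyp Q <;> by_cases h3 : IsHyp Q₁
    · exact absurd (iff_of_true h3 h1) hsame
    · exact iff_of_true h1 h3
    · exact iff_of_false h1 (not_not.2 h3)
    · exact absurd (iff_of_false h3 h1) hsame
  by_cases hts : ∀ u, A u = u → Q₁ u = 0
  · -- the fixed space is totally singular: impossible
    exfalso
    have hts' : ∀ x ∈ LinearMap.ker N, Q₁ x = 0 := fun x hx => hts x ((hker x).1 hx)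
    have h1 := two_mul_finrank_le_of_ts Q₁ hQ₁nd (LinearMap.ker N) hts'
    have h3 := finrank_le_two_mul_ker N hNN
    have hkd : finrank F (LinearMap.ker N) = d := by omega
    have hH₁ : IsHyp Q₁ := ⟨LinearMap.ker N, hts', by rw [hkd, hfin]⟩
    have hnH : ¬ IsHyp Q := fun h => (htype.1 h) hH₁
    have hodd : Odd d := hcase.resolve_left hnH
    have halt : ∀ v, polarBilin Q (N v) v = 0 := by
      intro v
      show polar Q (N v) v = 0
      have h4 : Q₁ (N v) = 0 := by
        apply hts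
        rw [hNv, map_sub, hAA]
        rw [sub_eq_add_neg, sub_eq_add_neg, ← neg_one_smul F (A v), ← neg_one_smul F v, hneg,
          one_smul, one_smul, add_comm]
      have h5 : A v = N v + v := by
        rw [hNv]
        abel
      have h6 := hinv₁ v
      rw [h5, QuadraticMap.map_add Q₁, h4, hpol₁] at h6
      linear_combination h6
    have hev := even_finrank_range_of_alt (polarBilin Q) hQ N halt
    have h7 := LinearMap.finrank_range_add_finrank_ker N
    have h8 : finrank F (LinearMap.range N) = d := by omega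
    rw [h8] at hev
    exact (Nat.not_even_iff_odd.2 hodd) hev
  · push Not at hts
    obtain ⟨u₀, hu₀, hQu₀⟩ := hts
    obtain ⟨ζ, hζ⟩ := exists_rootless (F := F)
    obtain ⟨s, hs⟩ := exists_sqrt h2 (ζ / Q₁ u₀)
    set u := s • u₀ with hu
    have hAu : A u = u := by rw [hu, map_smul, hu₀]
    have hQu : Q₁ u = ζ := by
      rw [hu, QuadraticMap.map_smul, smul_eq_mul, ← pow_two, hs]
      field_simp
    refine ⟨twist Q₁ u, ?_, ?_, ?_⟩
    · intro a b
      rw [polar_twist h2, hpol₁]
    · intro v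
      rw [twist_apply Q₁ u (A v), twist_apply Q₁ u v, hinv₁]
      congr 2
      rw [hpol₁, hpol₁]
      have h := hAβ u v
      rw [hAu] at h
      exact h
    · rw [isHyp_twist_iff_not h2 Q₁ Q hQ₁nd (fun a b => (hpol₁ a b).symm) htype u
        (by rw [hQu]; exact hζ)]
      exact htype.symm

end invol

section final
variable {F : Type u} [Field F] [Fintype F] {d : ℕ}

theorem pow_two_eq_one_of_scalar (h2 : (2 : F) = 0) (hd : 1 ≤ d)
    (x : GL (Fin d ⊕ Fin d) F) (hx : x ∈ Cfsg.spGL d F) (z : F)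
    (hz : ((x ^ 2 : GL (Fin d ⊕ Fin d) F) : Matrix (Fin d ⊕ Fin d) (Fin d ⊕ Fin d) F) =
      z • (1 : Matrix (Fin d ⊕ Fin d) (Fin d ⊕ Fin d) F)) : x ^ 2 = 1 := by
  obtain ⟨u₀, v₀, h0⟩ := exists_symp_ne_zero (F := F) hd
  have hx2 : x ^ 2 ∈ Cfsg.spGL d F := Subgroup.pow_mem _ hx 2
  have h1 : Cfsg.sympForm d F
      (((x ^ 2 : GL (Fin d ⊕ Fin d) F) : Matrix (Fin d ⊕ Fin d) (Fin d ⊕ Fin d) F) *ᵥ u₀)
      (((x ^ 2 : GL (Fin d ⊕ Fin d) F) : Matrix (Fin d ⊕ Fin d) (Fin d ⊕ Fin d) F) *ᵥ v₀) =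
      Cfsg.sympForm d F u₀ v₀ := hx2 u₀ v₀
  rw [hz, Matrix.smul_mulVec, Matrix.smul_mulVec, Matrix.one_mulVec, Matrix.one_mulVec] at h1
  have h3 : Cfsg.sympForm d F (z • u₀) (z • v₀) = z * z * Cfsg.sympForm d F u₀ v₀ := by
    have e1 := Cfsg.Agent.Helper2.Symp.Bf_smul_left z u₀ (z • v₀)
    have e2 := Cfsg.Agent.Helper2.Symp.Bf_smul_right z u₀ v₀
    show Cfsg.Agent.Helper2.Symp.Bf (z • u₀) (z • v₀) = z * z * Cfsg.Agent.Helper2.Symp.Bf u₀ v₀
    rw [e1, e2]
    ring
  rw [h3] at h1
  have h4 : (z - 1) * (z - 1) = 0 := by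
    have h5 : (z * z - 1) * Cfsg.sympForm d F u₀ v₀ = 0 := by linear_combination h1
    rcases mul_eq_zero.1 h5 with h6 | h6
    · linear_combination h6 + (1 - z) * h2
    · exact absurd h6 h0
  have hz1 : z = 1 := by
    rcases mul_eq_zero.1 h4 with h6 | h6 <;> exact sub_eq_zero.1 h6
  apply Units.ext
  rw [hz, hz1, one_smul]
  rfl

/-- involutions of the symplectic group are conjugate into the orthogonal group of a form which
is hyperbolic or of dimension `2 (mod 4)` -/
theorem exists_conj_of_involution (h2 : (2 : F) = 0)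
    (Qb : QuadraticForm F (Fin d ⊕ Fin d → F))
    (hpol : ∀ u v, polar Qb u v = Cfsg.sympForm d F u v) (hcase : IsHyp Qb ∨ Odd d)
    (x : GL (Fin d ⊕ Fin d) F) (hx : x ∈ Cfsg.spGL d F) (hx2 : x ^ 2 = 1) :
    ∃ g ∈ Cfsg.spGL d F, g⁻¹ * x * g ∈ Cfsg.Geo.quadSimilarityGroup (⇑Qb) := by
  have hQb := nondeg_of_polar_eq Qb hpol
  have hfin : finrank F (Fin d ⊕ Fin d → F) = 2 * d := by
    rw [Module.finrank_fintype_fun_eq_card, Fintype.card_sum, Fintype.card_fin]
    ring
  have hAA : ∀ v, LG x (LG x v) = v := by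
    intro v
    have h1 : LG x (LG x v) = (LG x ^ 2) v := by
      rw [pow_two, Module.End.mul_apply]
    rw [h1, ← LG_pow, hx2, LG_one]
    rfl
  have hAβ : ∀ u v, polar Qb (LG x u) (LG x v) = polar Qb u v := by
    intro u v
    rw [hpol, hpol, LG_apply, LG_apply]
    exact hx u v
  obtain ⟨Q₂, hpol₂, hinv₂, htype₂⟩ := exists_invariant_form h2 Qb hQb d hfin (LG x) hAA hAβ hcase
  have hQ₂nd : (polarBilin Q₂).Nondegenerate :=
    nondeg_of_polar_eq Q₂ (fun u v => by rw [hpol₂, hpol])
  obtain ⟨e, he⟩ := equiv_of_type Q₂ Qb hQ₂nd hQb rfl (by rw [hfin]; exact even_two_mul d) htype₂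
  obtain ⟨g, -, hg⟩ := exists_gl_of_equiv (fun _ : Fin d ⊕ Fin d → F => (0 : F)) e.symm
    (fun _ => rfl)
  have hgv : ∀ v, (g : Matrix (Fin d ⊕ Fin d) (Fin d ⊕ Fin d) F) *ᵥ v = e.symm v := by
    intro v
    rw [← LG_apply, hg]
  have hgiv : ∀ w, ((g⁻¹ : GL (Fin d ⊕ Fin d) F) : Matrix (Fin d ⊕ Fin d) (Fin d ⊕ Fin d) F) *ᵥ w
      = e w := by
    intro w
    have h1 : w = (g : Matrix (Fin d ⊕ Fin d) (Fin d ⊕ Fin d) F) *ᵥ (e w) := by
      rw [hgv, LinearEquiv.symm_apply_apply]
    conv_lhs => rw [h1]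
    rw [Matrix.mulVec_mulVec, ← Units.val_mul, inv_mul_cancel, Units.val_one, Matrix.one_mulVec]
  have hepol : ∀ a b, polar Qb (e a) (e b) = polar Qb a b := by
    intro a b
    rw [← hpol₂ a b]
    unfold polar
    rw [← map_add, he, he, he]
  refine ⟨g, ?_, ?_⟩
  · intro u v
    show Cfsg.sympForm d F ((g : Matrix (Fin d ⊕ Fin d) (Fin d ⊕ Fin d) F) *ᵥ u)
      ((g : Matrix (Fin d ⊕ Fin d) (Fin d ⊕ Fin d) F) *ᵥ v) = Cfsg.sympForm d F u v
    rw [hgv, hgv, ← hpol, ← hpol, ← hepol (e.symm u) (e.symm v), LinearEquiv.apply_symm_apply,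
      LinearEquiv.apply_symm_apply]
  · refine ⟨1, fun v => ?_⟩
    rw [Units.val_one, one_mul, Units.val_mul, Units.val_mul, ← Matrix.mulVec_mulVec,
      ← Matrix.mulVec_mulVec, hgiv, hgv, he, ← LG_apply, hinv₂, ← he, LinearEquiv.apply_symm_apply]

end final

end Cfsg.Agent.Helper13.OrthSp
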