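import Mathlib
import Cfsg.Agent.Lib.Helper13.OrthTy8

set_option autoImplicit false
set_option linter.unusedSectionVars false

/-!
# Isometries with square `-1` and their invariant totally singular subspaces
-/

namespace Cfsg.Agent.Helper13.OrthTy

open Polynomial Module QuadraticMap Matrix Cfsg.Agent.Helper13.OrthSS Cfsg.Agent.Helper13
  Cfsg.Agent.Helper17.Spinor Cfsg.Agent.Helper13.OrthTs Cfsg.Agent.Helper28.WittQuad
open scoped Classical

universe u

section cplx
variable {F : Type u} [Field F] {V : Type*} [AddCommGroup V] [Module F V]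
  {Q : QuadraticForm F V} {A : Module.End F V}

theorem cplx_apply (hA : A * A = -1) (v : V) : A (A v) = -v := by
  have := LinearMap.congr_fun hA v
  rw [Module.End.mul_apply] at this
  rw [this]
  simp

theorem polar_cplx_right (hA : A * A = -1) (hAQ : ∀ v, Q (A v) = Q v) (u v : V) :
    polar Q u (A v) = -polar Q (A u) v := by
  have h1 := polar_of_isom (Q := Q) hAQ u (A v)
  rw [cplx_apply hA, polar_neg_right] at h1
  rw [← h1]

theorem polar_cplx_self (h2 : (2 : F) ≠ 0) (hA : A * A = -1) (hAQ : ∀ v, Q (A v) = Q v)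
    (v : V) : polar Q v (A v) = 0 := by
  have h1 := polar_cplx_right hA hAQ v v
  rw [polar_comm Q (A v) v] at h1
  have : (2 : F) * polar Q v (A v) = 0 := by linear_combination h1
  exact (mul_eq_zero.1 this).resolve_left h2

/-- invariant subspaces have even dimension when `-1` is not a square -/
theorem even_finrank_of_invariant [FiniteDimensional F V] (hns : ¬ IsSquare (-1 : F))
    (hA : A * A = -1) (W : Submodule F V) (hW : ∀ v ∈ W, A v ∈ W) : Even (finrank F W) := by
  by_contra hodd
  rw [Nat.not_even_iff_odd] at hodd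
  apply hns
  have h1 : A.restrict hW * A.restrict hW = (-1 : F) • (1 : Module.End F W) := by
    apply LinearMap.ext
    intro w
    apply Subtype.ext
    rw [Module.End.mul_apply, LinearMap.restrict_coe_apply, LinearMap.restrict_coe_apply,
      cplx_apply hA]
    simp
  have h3 := congrArg LinearMap.det h1
  rw [map_mul, LinearMap.det_smul, map_one, mul_one, hodd.neg_one_pow] at h3
  exact ⟨_, h3.symm⟩

theorem ts_sup_of_orth (W₁ W₂ : Submodule F V) (h1 : ∀ w ∈ W₁, Q w = 0)
    (h3 : ∀ w ∈ W₂, Q w = 0) (horth : ∀ u ∈ W₁, ∀ v ∈ W₂, polar Q u v = 0) :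
    ∀ w ∈ W₁ ⊔ W₂, Q w = 0 := by
  intro w hw
  obtain ⟨a, ha, b, hb, rfl⟩ := Submodule.mem_sup.1 hw
  rw [QuadraticMap.map_add Q, h1 a ha, h3 b hb, horth a ha b hb]
  simp

/-- when `-1` is a square the eigenspaces are totally singular -/
theorem exists_inv_ts_of_sq [FiniteDimensional F V] (h2 : (2 : F) ≠ 0) (t : F)
    (ht : t * t = -1) (hA : A * A = -1) (hAQ : ∀ v, Q (A v) = Q v) (m : ℕ)
    (hm : 2 * m ≤ finrank F V) :
    ∃ W : Submodule F V, finrank F W = m ∧ (∀ w ∈ W, Q w = 0) ∧ ∀ v ∈ W, A v ∈ W := by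
  have hmem₁ : ∀ v, v ∈ LinearMap.ker (A - t • (1 : Module.End F V)) ↔ A v = t • v := by
    intro v
    rw [LinearMap.mem_ker, LinearMap.sub_apply, LinearMap.smul_apply, Module.End.one_apply,
      sub_eq_zero]
  have hmem₂ : ∀ v, v ∈ LinearMap.ker (A + t • (1 : Module.End F V)) ↔ A v = (-t) • v := by
    intro v
    rw [LinearMap.mem_ker, LinearMap.add_apply, LinearMap.smul_apply, Module.End.one_apply,
      add_eq_zero_iff_eq_neg, neg_smul]
  have hts : ∀ s : F, s * s = -1 → ∀ v, A v = s • v → Q v = 0 := by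
    intro s hs v hv
    have h1 := hAQ v
    rw [hv, QuadraticMap.map_smul, smul_eq_mul, hs] at h1
    have : (2 : F) * Q v = 0 := by linear_combination -h1
    exact (mul_eq_zero.1 this).resolve_left h2
  have ht0 : t ≠ 0 := by
    rintro rfl
    rw [mul_zero] at ht
    exact zero_ne_one (neg_eq_zero.1 ht.symm).symm
  have hsup : LinearMap.ker (A - t • (1 : Module.End F V)) ⊔
      LinearMap.ker (A + t • (1 : Module.End F V)) = ⊤ := by
    rw [eq_top_iff]
    intro v _
    have e1 : A v + t • v ∈ LinearMap.ker (A - t • (1 : Module.End F V)) := by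
      rw [hmem₁, map_add, map_smul, cplx_apply hA, smul_add, smul_smul, ht, neg_one_smul]
      abel
    have e2 : A v - t • v ∈ LinearMap.ker (A + t • (1 : Module.End F V)) := by
      rw [hmem₂, map_sub, map_smul, cplx_apply hA, smul_sub, smul_smul, neg_mul, ht, neg_neg,
        one_smul, neg_smul]
      abel
    have e3 : v = (2 * t)⁻¹ • (A v + t • v) + (-(2 * t)⁻¹) • (A v - t • v) := by
      have h2t : (2 * t) ≠ 0 := mul_ne_zero h2 ht0
      rw [neg_smul, ← sub_eq_add_neg, ← smul_sub]
      have : A v + t • v - (A v - t • v) = (2 * t) • v := by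
        rw [mul_smul, two_smul]
        abel
      rw [this, smul_smul, inv_mul_cancel₀ h2t, one_smul]
    rw [e3]
    exact Submodule.add_mem_sup (Submodule.smul_mem _ _ e1) (Submodule.smul_mem _ _ e2)
  have hdim : finrank F V ≤ finrank F (LinearMap.ker (A - t • (1 : Module.End F V))) +
      finrank F (LinearMap.ker (A + t • (1 : Module.End F V))) := by
    have := Submodule.finrank_add_le_finrank_add_finrank
      (LinearMap.ker (A - t • (1 : Module.End F V))) (LinearMap.ker (A + t • (1 : Module.End F V)))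
    rw [hsup, finrank_top] at this
    exact this
  have key : ∃ (E : Submodule F V) (s : F), s * s = -1 ∧ (∀ v ∈ E, A v = s • v) ∧
      m ≤ finrank F E := by
    by_cases h : m ≤ finrank F (LinearMap.ker (A - t • (1 : Module.End F V)))
    · exact ⟨_, t, ht, fun v hv => (hmem₁ v).1 hv, h⟩
    · exact ⟨LinearMap.ker (A + t • (1 : Module.End F V)), -t, by rw [neg_mul_neg, ht],
        fun v hv => (hmem₂ v).1 hv, by omega⟩
  obtain ⟨E, s, hs, hE, hmE⟩ := key
  obtain ⟨W, hWE, hWm⟩ := Cfsg.Agent.Helper13.OrthEl.exists_le_finrank_eq E m hmE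
  refine ⟨W, hWm, fun w hw => hts s hs w (hE w (hWE hw)), fun v hv => ?_⟩
  rw [hE v (hWE hv)]
  exact W.smul_mem _ hv

end cplx

section cplxts
variable {F : Type u} [Field F] [Fintype F] {V : Type u} [AddCommGroup V] [Module F V]
  [FiniteDimensional F V] {Q : QuadraticForm F V} {A : Module.End F V}

/-- invariant totally singular subspaces of every even dimension up to half of the Witt-index
bound -/
theorem exists_inv_ts_cplx (h2 : (2 : F) ≠ 0) (hns : ¬ IsSquare (-1 : F))
    (hQ : (polarBilin Q).Nondegenerate) (hA : A * A = -1) (hAQ : ∀ v, Q (A v) = Q v) (n : ℕ)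
    (hn : finrank F V = 2 * n) :
    ∀ s, 2 * s ≤ n → ∃ W : Submodule F V, finrank F W = 2 * s ∧ (∀ w ∈ W, Q w = 0) ∧
      ∀ v ∈ W, A v ∈ W := by
  intro s
  induction s with
  | zero =>
    intro _
    refine ⟨⊥, by simp, ?_, ?_⟩
    · intro w hw
      rw [(Submodule.mem_bot F).1 hw, map_zero]
    · intro v hv
      rw [(Submodule.mem_bot F).1 hv, map_zero]
      exact Submodule.zero_mem _
  | succ s ih =>
    intro hs
    obtain ⟨W, hWd, hWts, hWinv⟩ := ih (by omega)
    obtain ⟨L, hLd, hLts⟩ := exists_ts_of_le h2 Q hQ (2 * s + 1) (by rw [hn]; omega)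
    obtain ⟨L', hL'ts, hL'd, hWL'⟩ := exists_ts_ge Q hQ W L hWts hLts (by rw [hWd, hLd]; omega)
    have hlt : W < L' := lt_of_le_of_ne hWL' (by
      intro h
      rw [h] at hWd
      omega)
    obtain ⟨v, hvL', hvW⟩ := SetLike.exists_of_lt hlt
    have hPmem : ∀ x ∈ Submodule.span F (Set.range ![v, A v]),
        ∃ α β : F, x = α • v + β • A v := by
      intro x hx
      obtain ⟨c, rfl⟩ := (Submodule.mem_span_range_iff_exists_fun F).1 hx
      exact ⟨c 0, c 1, by rw [Fin.sum_univ_two]; rfl⟩
    have hvP : v ∈ Submodule.span F (Set.range ![v, A v]) :=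
      Submodule.subset_span ⟨0, rfl⟩
    have hAvP : A v ∈ Submodule.span F (Set.range ![v, A v]) :=
      Submodule.subset_span ⟨1, rfl⟩
    have hvQ : Q v = 0 := hL'ts v hvL'
    have hPts : ∀ x ∈ Submodule.span F (Set.range ![v, A v]), Q x = 0 := by
      intro x hx
      obtain ⟨α, β, rfl⟩ := hPmem x hx
      rw [QuadraticMap.map_add Q, QuadraticMap.map_smul, QuadraticMap.map_smul, hAQ, hvQ,
        polar_smul_left, polar_smul_right, polar_cplx_self h2 hA hAQ]
      simp
    have horth : ∀ u ∈ W, ∀ x ∈ Submodule.span F (Set.range ![v, A v]), polar Q u x = 0 := by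
      intro u hu x hx
      obtain ⟨α, β, rfl⟩ := hPmem x hx
      rw [polar_add_right, polar_smul_right, polar_smul_right,
        polar_ts Q L' hL'ts (hWL' hu) hvL', polar_cplx_right hA hAQ,
        polar_ts Q L' hL'ts (hWL' (hWinv u hu)) hvL']
      simp
    have hts := ts_sup_of_orth W _ hWts hPts horth
    have hinv : ∀ x ∈ W ⊔ Submodule.span F (Set.range ![v, A v]),
        A x ∈ W ⊔ Submodule.span F (Set.range ![v, A v]) := by
      intro x hx
      obtain ⟨a, ha, b, hb, rfl⟩ := Submodule.mem_sup.1 hx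
      obtain ⟨α, β, rfl⟩ := hPmem b hb
      rw [map_add, map_add, map_smul, map_smul, cplx_apply hA]
      apply Submodule.add_mem_sup (hWinv a ha)
      exact Submodule.add_mem _ (Submodule.smul_mem _ _ hAvP)
        (Submodule.smul_mem _ _ (Submodule.neg_mem _ hvP))
    have hev := even_finrank_of_invariant hns hA _ hinv
    have hlt' : W < W ⊔ Submodule.span F (Set.range ![v, A v]) :=
      lt_of_le_of_ne le_sup_left (by
        intro h
        apply hvW
        rw [h]
        exact Submodule.mem_sup_right hvP)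
    have h4 := Submodule.finrank_lt_finrank_of_lt hlt'
    have h5 := Submodule.finrank_add_le_finrank_add_finrank W
      (Submodule.span F (Set.range ![v, A v]))
    have h6 : finrank F (Submodule.span F (Set.range ![v, A v])) ≤ 2 := by
      have := finrank_range_le_card (R := F) ![v, A v]
      rw [Fintype.card_fin] at this
      exact this
    refine ⟨W ⊔ Submodule.span F (Set.range ![v, A v]), ?_, hts, hinv⟩
    obtain ⟨e, he⟩ := hev
    omega

end cplxts

section fam
variable {F : Type u} [Field F] {V : Type*} [AddCommGroup V] [Module F V]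
  {Q : QuadraticForm F V} {A : Module.End F V} {n : ℕ} {a : ℕ → V}

/-- orthonormal family adapted to the complex structure -/
def CFam (Q : QuadraticForm F V) (A : Module.End F V) (n : ℕ) (a : ℕ → V) : Prop :=
  (∀ j < n, Q (a j) = 1) ∧
    ∀ j < n, ∀ k < n, j ≠ k → polar Q (a j) (a k) = 0 ∧ polar Q (a j) (A (a k)) = 0

/-- the combined family -/
def cvec (A : Module.End F V) (a : ℕ → V) (n : ℕ) : Fin n ⊕ Fin n → V :=
  Sum.elim (fun j => a j) (fun j => A (a j))

theorem CFam.mono (h : CFam Q A (n + 1) a) : CFam Q A n a :=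
  ⟨fun j hj => h.1 j (by omega), fun j hj k hk => h.2 j (by omega) k (by omega)⟩

theorem cvec_one (hAQ : ∀ v, Q (A v) = Q v) (h : CFam Q A n a) (i : Fin n ⊕ Fin n) :
    Q (cvec A a n i) = 1 := by
  rcases i with j | j
  · exact h.1 j j.2
  · show Q (A (a j)) = 1
    rw [hAQ]
    exact h.1 j j.2

theorem cvec_orth (h2 : (2 : F) ≠ 0) (hA : A * A = -1) (hAQ : ∀ v, Q (A v) = Q v)
    (h : CFam Q A n a) (i i' : Fin n ⊕ Fin n) (hii : i ≠ i') :
    polar Q (cvec A a n i) (cvec A a n i') = 0 := by
  rcases i with j | j <;> rcases i' with k | k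
  · have hjk : (j : ℕ) ≠ k := fun h' => hii (by rw [Fin.ext h'])
    exact (h.2 j j.2 k k.2 hjk).1
  · show polar Q (a j) (A (a k)) = 0
    by_cases hjk : (j : ℕ) = k
    · rw [← hjk]
      exact polar_cplx_self h2 hA hAQ _
    · exact (h.2 j j.2 k k.2 hjk).2
  · show polar Q (A (a j)) (a k) = 0
    rw [polar_comm]
    by_cases hjk : (k : ℕ) = j
    · rw [← hjk]
      exact polar_cplx_self h2 hA hAQ _
    · exact (h.2 k k.2 j j.2 hjk).2
  · show polar Q (A (a j)) (A (a k)) = 0
    rw [polar_of_isom hAQ]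
    exact (h.2 j j.2 k k.2 (fun h' => hii (by rw [Fin.ext h']))).1

theorem cvec_li (h2 : (2 : F) ≠ 0) (hA : A * A = -1) (hAQ : ∀ v, Q (A v) = Q v)
    (h : CFam Q A n a) : LinearIndependent F (cvec A a n) := by
  apply LinearMap.BilinForm.linearIndependent_of_iIsOrtho (B := polarBilin Q)
  · rw [LinearMap.BilinForm.iIsOrtho_def]
    intro i i' hii
    exact cvec_orth h2 hA hAQ h i i' hii
  · intro i
    show polar Q _ _ ≠ 0
    rw [polar_self, cvec_one hAQ h, nsmul_eq_mul, mul_one]
    exact_mod_cast h2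

theorem CFam.le [FiniteDimensional F V] (h2 : (2 : F) ≠ 0) (hA : A * A = -1)
    (hAQ : ∀ v, Q (A v) = Q v) (h : CFam Q A n a) : 2 * n ≤ finrank F V := by
  have := (cvec_li h2 hA hAQ h).fintype_card_le_finrank
  rw [Fintype.card_sum, Fintype.card_fin] at this
  omega

/-- a nonsingular vector orthogonal to an orthonormal family which does not span -/
theorem exists_orth_nonsing [FiniteDimensional F V] (h2 : (2 : F) ≠ 0)
    (hQ : (polarBilin Q).Nondegenerate) {ι : Type*} [Fintype ι] [DecidableEq ι] (c : ι → V)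
    (horth : ∀ i j, i ≠ j → polar Q (c i) (c j) = 0) (hone : ∀ i, Q (c i) = 1)
    (hlt : Fintype.card ι < finrank F V) : ∃ w, Q w ≠ 0 ∧ ∀ i, polar Q (c i) w = 0 := by
  set f : V →ₗ[F] (ι → F) := LinearMap.pi (fun i => polarBilin Q (c i)) with hf
  have hker : 0 < finrank F (LinearMap.ker f) := by
    have h1 := LinearMap.finrank_range_add_finrank_ker f
    have h3 : finrank F (LinearMap.range f) ≤ Fintype.card ι := by
      have := Submodule.finrank_le (LinearMap.range f)
      rwa [Module.finrank_fintype_fun_eq_card] at this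
    omega
  obtain ⟨w₀, hw₀⟩ := (Module.finrank_pos_iff_exists_ne_zero (R := F)
    (M := ↥(LinearMap.ker f))).1 hker
  have hw₀' : (w₀ : V) ≠ 0 := fun h => hw₀ (Subtype.ext h)
  have hw₀k : ∀ i, polar Q (c i) (w₀ : V) = 0 := by
    intro i
    have := LinearMap.mem_ker.1 w₀.2
    exact congrFun this i
  by_contra hcon
  push Not at hcon
  have hT : ∀ w, (∀ i, polar Q (c i) w = 0) → Q w = 0 := by
    intro w hw
    by_contra h
    obtain ⟨i, hi⟩ := hcon w h
    exact hi (hw i)
  obtain ⟨y, hy⟩ := exists_polar_ne_zero Q hQ hw₀'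
  set y' : V := y - ∑ i, ((2 : F)⁻¹ * polar Q (c i) y) • c i with hy'
  have hy'k : ∀ k, polar Q (c k) y' = 0 := by
    intro k
    rw [hy', polar_sub_right]
    have e1 : polar Q (c k) (∑ i, ((2 : F)⁻¹ * polar Q (c i) y) • c i) =
        ∑ i, polar Q (c k) (((2 : F)⁻¹ * polar Q (c i) y) • c i) :=
      map_sum (polarBilin Q (c k)) _ _
    rw [e1, Finset.sum_eq_single k]
    · rw [polar_smul_right, polar_self, hone k, nsmul_eq_mul, mul_one, smul_eq_mul]
      push_cast
      field_simp
      ring
    · intro i _ hik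
      rw [polar_smul_right, horth k i (Ne.symm hik), smul_zero]
    · intro h
      exact absurd (Finset.mem_univ k) h
  have h5 : polar Q (w₀ : V) y' = polar Q (w₀ : V) y := by
    rw [hy', polar_sub_right]
    have e1 : polar Q (w₀ : V) (∑ i, ((2 : F)⁻¹ * polar Q (c i) y) • c i) =
        ∑ i, polar Q (w₀ : V) (((2 : F)⁻¹ * polar Q (c i) y) • c i) :=
      map_sum (polarBilin Q (w₀ : V)) _ _
    rw [e1, Finset.sum_eq_zero, sub_zero]
    intro i _
    rw [polar_smul_right, polar_comm Q (w₀ : V) (c i), hw₀k i, smul_zero]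
  apply hy
  rw [← h5]
  unfold polar
  rw [hT _ (fun i => by rw [polar_add_right, hw₀k i, hy'k i, add_zero]), hT _ hw₀k, hT _ hy'k]
  simp

theorem CFam.extend [Fintype F] [FiniteDimensional F V] (h2 : (2 : F) ≠ 0)
    (hQ : (polarBilin Q).Nondegenerate) (hA : A * A = -1) (hAQ : ∀ v, Q (A v) = Q v)
    (h : CFam Q A n a) (hlt : 2 * n < finrank F V) : ∃ a', CFam Q A (n + 1) a' := by
  obtain ⟨w, hw, hwo⟩ := exists_orth_nonsing h2 hQ (cvec A a n) (cvec_orth h2 hA hAQ h)
    (cvec_one hAQ h) (by rw [Fintype.card_sum, Fintype.card_fin]; omega)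
  obtain ⟨α, β, hαβ⟩ := exists_binary_one h2 (Q w) (Q w) hw hw
  have hwa : ∀ j < n, polar Q (a j) w = 0 := fun j hj => hwo (Sum.inl ⟨j, hj⟩)
  have hwAa : ∀ j < n, polar Q (A (a j)) w = 0 := fun j hj => hwo (Sum.inr ⟨j, hj⟩)
  have hQnew : Q (α • w + β • A w) = 1 := by
    rw [QuadraticMap.map_add Q, QuadraticMap.map_smul, QuadraticMap.map_smul, hAQ,
      polar_smul_left, polar_smul_right, polar_cplx_self h2 hA hAQ]
    simp only [smul_eq_mul, mul_zero, add_zero]
    linear_combination hαβ
  have hAnew : A (α • w + β • A w) = α • A w - β • w := by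
    rw [map_add, map_smul, map_smul, cplx_apply hA, smul_neg, sub_eq_add_neg]
  have h1 : ∀ j < n, polar Q (a j) (α • w + β • A w) = 0 := by
    intro j hj
    rw [polar_add_right, polar_smul_right, polar_smul_right, hwa j hj,
      polar_cplx_right hA hAQ, hwAa j hj]
    simp
  have h3 : ∀ j < n, polar Q (a j) (A (α • w + β • A w)) = 0 := by
    intro j hj
    rw [hAnew, polar_sub_right, polar_smul_right, polar_smul_right, hwa j hj,
      polar_cplx_right hA hAQ, hwAa j hj]
    simp
  have h4 : ∀ j < n, polar Q (α • w + β • A w) (A (a j)) = 0 := by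
    intro j hj
    rw [polar_comm, polar_add_right, polar_smul_right, polar_smul_right, hwAa j hj,
      polar_of_isom hAQ, hwa j hj]
    simp
  refine ⟨Function.update a n (α • w + β • A w), ?_, ?_⟩
  · intro j hj
    by_cases hjn : j = n
    · rw [hjn, Function.update_self]
      exact hQnew
    · rw [Function.update_of_ne hjn]
      exact h.1 j (by omega)
  · intro j hj k hk hjk
    by_cases hjn : j = n
    · have hkn : k ≠ n := fun h' => hjk (hjn.trans h'.symm)
      rw [hjn, Function.update_self, Function.update_of_ne hkn]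
      refine ⟨?_, h4 k (by omega)⟩
      rw [polar_comm]
      exact h1 k (by omega)
    · rw [Function.update_of_ne hjn]
      by_cases hkn : k = n
      · rw [hkn, Function.update_self]
        exact ⟨h1 j (by omega), h3 j (by omega)⟩
      · rw [Function.update_of_ne hkn]
        exact h.2 j (by omega) k (by omega) hjk

theorem exists_cfam [Fintype F] [FiniteDimensional F V] (h2 : (2 : F) ≠ 0)
    (hQ : (polarBilin Q).Nondegenerate) (hA : A * A = -1) (hAQ : ∀ v, Q (A v) = Q v) :
    ∀ n, 2 * n ≤ finrank F V + 1 → ∃ a, CFam Q A n a := by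
  intro n
  induction n with
  | zero =>
    intro _
    exact ⟨fun _ => 0, fun j hj => absurd hj (Nat.not_lt_zero j),
      fun j hj => absurd hj (Nat.not_lt_zero j)⟩
  | succ n ih =>
    intro hn
    obtain ⟨a, ha⟩ := ih (by omega)
    exact ha.extend h2 hQ hA hAQ (by omega)

/-- the structure theorem: an orthonormal basis adapted to the complex structure -/
theorem exists_cbasis [Fintype F] [FiniteDimensional F V] (h2 : (2 : F) ≠ 0)
    (hQ : (polarBilin Q).Nondegenerate) (hA : A * A = -1) (hAQ : ∀ v, Q (A v) = Q v) :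
    ∃ (n : ℕ) (a : ℕ → V), CFam Q A n a ∧ finrank F V = 2 * n := by
  obtain ⟨a, ha⟩ := exists_cfam h2 hQ hA hAQ ((finrank F V + 1) / 2) (by omega)
  have := ha.le h2 hA hAQ
  exact ⟨_, a, ha, by omega⟩

/-- the type of a space with a complex structure -/
theorem isHyp_iff_of_cplx [Fintype F] [FiniteDimensional F V] (h2 : (2 : F) ≠ 0)
    (hns : ¬ IsSquare (-1 : F)) (hQ : (polarBilin Q).Nondegenerate) (hA : A * A = -1)
    (hAQ : ∀ v, Q (A v) = Q v) (n : ℕ) (hn : finrank F V = 2 * n) : IsHyp Q ↔ Even n := by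
  obtain ⟨n', a, ha, hn'⟩ := exists_cbasis h2 hQ hA hAQ
  have hnn : n' = n := by omega
  subst hnn
  set c := basisOfLinearIndependentOfCardEqFinrank' (cvec A a n') (cvec_li h2 hA hAQ ha)
    (by rw [Fintype.card_sum, Fintype.card_fin, hn]; ring) with hc
  have hcc : ∀ i, c i = cvec A a n' i := fun i => by
    rw [hc, coe_basisOfLinearIndependentOfCardEqFinrank']
  have horth : ∀ i j, i ≠ j → polar Q (c i) (c j) = 0 := by
    intro i j hij
    rw [hcc, hcc]
    exact cvec_orth h2 hA hAQ ha i j hij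
  rw [isHyp_iff_gram h2 Q hQ c n' (by rw [Fintype.card_sum, Fintype.card_fin]; ring),
    gram_det_orth Q c horth]
  have e1 : ∏ i, (2 * Q (c i)) = (2 ^ n') ^ 2 := by
    rw [Finset.prod_congr rfl (fun i _ => by rw [hcc, cvec_one hAQ ha, mul_one]),
      Finset.prod_const, Finset.card_univ, Fintype.card_sum, Fintype.card_fin]
    ring
  rw [e1, mul_comm, isSquare_mul_sq_iff _ _ (pow_ne_zero _ h2), isSquare_neg_one_pow hns]

end fam

end Cfsg.Agent.Helper13.OrthTy
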