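import Mathlib
import Cfsg.Agent.Lib.Helper13.OrthTy9

set_option autoImplicit false
set_option linter.unusedSectionVars false

/-!
# Isometries with square `-1`: the spinor norm and existence
-/

namespace Cfsg.Agent.Helper13.OrthTy

open Polynomial Module QuadraticMap Matrix Cfsg.Agent.Helper13.OrthSS Cfsg.Agent.Helper13
  Cfsg.Agent.Helper17.Spinor Cfsg.Agent.Helper13.OrthTs Cfsg.Agent.Helper28.WittQuad
open scoped Classical

universe u

section rl
variable {F : Type u} [Field F] {V : Type*} [AddCommGroup V] [Module F V]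
  {Q : QuadraticForm F V} {A : Module.End F V} {n : ℕ} {a : ℕ → V}

/-- the list of reflection vectors -/
def rlist (A : Module.End F V) (a : ℕ → V) : ℕ → List V
  | 0 => []
  | n + 1 => rlist A a n ++ [a n, a n - A (a n)]

theorem mem_rlist {w : V} : w ∈ rlist A a n → ∃ j < n, w = a j ∨ w = a j - A (a j) := by
  induction n with
  | zero =>
    intro h
    simp [rlist] at h
  | succ n ih =>
    intro h
    rw [rlist, List.mem_append] at h
    rcases h with h | h
    · obtain ⟨j, hj, hw⟩ := ih h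
      exact ⟨j, by omega, hw⟩
    · simp only [List.mem_cons, List.not_mem_nil, or_false] at h
      exact ⟨n, by omega, h⟩

theorem Q_sub_cplx (h2 : (2 : F) ≠ 0) (hA : A * A = -1) (hAQ : ∀ v, Q (A v) = Q v) (v : V)
    (hv : Q v = 1) : Q (v - A v) = 2 := by
  rw [sub_eq_add_neg, QuadraticMap.map_add Q, QuadraticMap.map_neg, hAQ, hv, polar_neg_right,
    polar_cplx_self h2 hA hAQ]
  norm_num

theorem rlist_ne (h2 : (2 : F) ≠ 0) (hA : A * A = -1) (hAQ : ∀ v, Q (A v) = Q v)
    (h : CFam Q A n a) : ∀ w ∈ rlist A a n, Q w ≠ 0 := by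
  intro w hw
  obtain ⟨j, hj, rfl | rfl⟩ := mem_rlist hw
  · rw [h.1 j hj]
    exact one_ne_zero
  · rw [Q_sub_cplx h2 hA hAQ _ (h.1 j hj)]
    exact h2

theorem rlist_length : (rlist A a n).length = 2 * n := by
  induction n with
  | zero => simp [rlist]
  | succ n ih =>
    rw [rlist, List.length_append, ih]
    simp
    ring

theorem rlist_prod (h2 : (2 : F) ≠ 0) (hA : A * A = -1) (hAQ : ∀ v, Q (A v) = Q v) :
    ∀ n, CFam Q A n a → ((rlist A a n).map (fun v => Q v)).prod = 2 ^ n := by
  intro n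
  induction n with
  | zero =>
    intro _
    simp [rlist]
  | succ n ih =>
    intro h
    rw [rlist, List.map_append, List.prod_append, ih h.mono, List.map_cons, List.map_cons,
      List.map_nil, List.prod_cons, List.prod_cons, List.prod_nil, h.1 n (by omega),
      Q_sub_cplx h2 hA hAQ _ (h.1 n (by omega))]
    ring

theorem rpair_apply_left (h2 : (2 : F) ≠ 0) (hA : A * A = -1) (hAQ : ∀ v, Q (A v) = Q v)
    (v : V) (hv : Q v = 1) : (refl Q v * refl Q (v - A v)) v = A v := by
  have hp : polar Q v (A v) = 0 := polar_cplx_self h2 hA hAQ v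
  have hp' : polar Q (A v) v = 0 := by
    rw [polar_comm]
    exact hp
  rw [Module.End.mul_apply, refl_apply Q (v - A v) v, Q_sub_cplx h2 hA hAQ v hv, polar_sub_left,
    polar_self, hv, hp']
  have e1 : ((2 : F)⁻¹ * (2 • (1 : F) - 0)) = 1 := by
    rw [sub_zero, nsmul_eq_mul, mul_one]
    push_cast
    exact inv_mul_cancel₀ h2
  rw [e1, one_smul, sub_sub_cancel]
  exact refl_apply_of_polar_eq_zero Q v (A v) hp

theorem rpair_apply_right (h2 : (2 : F) ≠ 0) (hA : A * A = -1) (hAQ : ∀ v, Q (A v) = Q v)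
    (v : V) (hv : Q v = 1) : (refl Q v * refl Q (v - A v)) (A v) = -v := by
  have hp : polar Q v (A v) = 0 := polar_cplx_self h2 hA hAQ v
  rw [Module.End.mul_apply, refl_apply Q (v - A v) (A v), Q_sub_cplx h2 hA hAQ v hv,
    polar_sub_left, polar_self, hAQ, hv, hp]
  have e1 : ((2 : F)⁻¹ * (0 - 2 • (1 : F))) = -1 := by
    rw [zero_sub, nsmul_eq_mul, mul_one, mul_neg]
    push_cast
    rw [inv_mul_cancel₀ h2]
  rw [e1, neg_one_smul, sub_neg_eq_add]
  have e2 : A v + (v - A v) = v := by abel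
  rw [e2]
  exact refl_self Q h2 (by rw [hv]; exact one_ne_zero)

theorem rpair_apply_orth (v w : V) (h1 : polar Q v w = 0) (h3 : polar Q (A v) w = 0) :
    (refl Q v * refl Q (v - A v)) w = w := by
  rw [Module.End.mul_apply,
    refl_apply_of_polar_eq_zero Q (v - A v) w (by rw [polar_sub_left, h1, h3, sub_zero]),
    refl_apply_of_polar_eq_zero Q v w h1]

theorem rlist_prod_succ : ((rlist A a (n + 1)).map (refl Q)).prod =
    ((rlist A a n).map (refl Q)).prod * (refl Q (a n) * refl Q (a n - A (a n))) := by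
  rw [rlist, List.map_append, List.prod_append, List.map_cons, List.map_cons, List.map_nil,
    List.prod_cons, List.prod_cons, List.prod_nil, mul_one]

theorem rlist_prod_apply_orth (w : V)
    (hw : ∀ j < n, polar Q (a j) w = 0 ∧ polar Q (A (a j)) w = 0) :
    ((rlist A a n).map (refl Q)).prod w = w := by
  apply prod_refl_apply_of_polar_eq_zero
  intro y hy
  obtain ⟨j, hj, rfl | rfl⟩ := mem_rlist hy
  · exact (hw j hj).1
  · rw [polar_sub_left, (hw j hj).1, (hw j hj).2, sub_zero]

theorem rlist_prod_apply (h2 : (2 : F) ≠ 0) (hA : A * A = -1) (hAQ : ∀ v, Q (A v) = Q v) :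
    ∀ n, CFam Q A n a → ∀ j < n, ((rlist A a n).map (refl Q)).prod (a j) = A (a j) ∧
      ((rlist A a n).map (refl Q)).prod (A (a j)) = -(a j) := by
  intro n
  induction n with
  | zero =>
    intro _ j hj
    omega
  | succ n ih =>
    intro h j hj
    rw [rlist_prod_succ]
    have e : ∀ w : V, (((rlist A a n).map (refl Q)).prod *
        (refl Q (a n) * refl Q (a n - A (a n)))) w =
        ((rlist A a n).map (refl Q)).prod ((refl Q (a n) * refl Q (a n - A (a n))) w) :=
      fun w => rfl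
    rw [e, e]
    by_cases hjn : j = n
    · rw [hjn, rpair_apply_left h2 hA hAQ _ (h.1 n (by omega)),
        rpair_apply_right h2 hA hAQ _ (h.1 n (by omega)), map_neg]
      constructor
      · apply rlist_prod_apply_orth
        intro k hk
        refine ⟨(h.2 k (by omega) n (by omega) (by omega)).2, ?_⟩
        rw [polar_of_isom hAQ]
        exact (h.2 k (by omega) n (by omega) (by omega)).1
      · congr 1
        apply rlist_prod_apply_orth
        intro k hk
        refine ⟨(h.2 k (by omega) n (by omega) (by omega)).1, ?_⟩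
        rw [polar_comm]
        exact (h.2 n (by omega) k (by omega) (by omega)).2
    · have hjn' : j < n := by omega
      have e1 : polar Q (a n) (a j) = 0 := (h.2 n (by omega) j (by omega) (Ne.symm hjn)).1
      have e2 : polar Q (A (a n)) (a j) = 0 := by
        rw [polar_comm]
        exact (h.2 j (by omega) n (by omega) hjn).2
      have e3 : polar Q (a n) (A (a j)) = 0 := (h.2 n (by omega) j (by omega) (Ne.symm hjn)).2
      have e4 : polar Q (A (a n)) (A (a j)) = 0 := by
        rw [polar_of_isom hAQ]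
        exact e1
      rw [rpair_apply_orth (a n) (a j) e1 e2, rpair_apply_orth (a n) (A (a j)) e3 e4]
      exact ih h.mono j hjn'

theorem rlist_prod_eq [FiniteDimensional F V] (h2 : (2 : F) ≠ 0) (hA : A * A = -1)
    (hAQ : ∀ v, Q (A v) = Q v) (h : CFam Q A n a) (hn : finrank F V = 2 * n) :
    ((rlist A a n).map (refl Q)).prod = A := by
  set c := basisOfLinearIndependentOfCardEqFinrank' (cvec A a n) (cvec_li h2 hA hAQ h)
    (by rw [Fintype.card_sum, Fintype.card_fin, hn]; ring) with hc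
  apply c.ext
  intro i
  rw [hc, coe_basisOfLinearIndependentOfCardEqFinrank']
  rcases i with j | j
  · exact (rlist_prod_apply h2 hA hAQ n h j j.2).1
  · show _ = A (A (a j))
    rw [cplx_apply hA]
    exact (rlist_prod_apply h2 hA hAQ n h j j.2).2

end rl

section conc
variable {F : Type u} [Field F] [Fintype F] {κ : Type} [Fintype κ] [DecidableEq κ]
  (Q : QuadraticForm F (κ → F))

/-- the spinor norm of an isometry with square `-1` -/
theorem mem_Omega_iff_of_cplx (h2 : (2 : F) ≠ 0) (hQ : (polarBilin Q).Nondegenerate)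
    (h : ↥(Cfsg.isometryGroup F (⇑Q))) (hA : toEnd Q h * toEnd Q h = -1) (n : ℕ)
    (hκ : Fintype.card κ = 2 * n) : h ∈ Cfsg.Omega F (⇑Q) ↔ IsSquare ((2 : F) ^ n) := by
  have hAQ : ∀ v, Q (toEnd Q h v) = Q v := toEnd_isometry Q h
  obtain ⟨n', a, ha, hn'⟩ := exists_cbasis h2 hQ hA hAQ
  have hnn : n' = n := by
    rw [Module.finrank_fintype_fun_eq_card, hκ] at hn'
    omega
  subst hnn
  have hprod := rlist_prod_eq h2 hA hAQ ha hn'
  have hvs := rlist_ne h2 hA hAQ ha
  have hg : ((h : Matrix.GeneralLinearGroup κ F) : Matrix κ κ F) =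
      ((rlist (toEnd Q h) a n').map (fun v => Cfsg.reflectionMatrix (⇑Q) v)).prod := by
    apply Matrix.toLin'.injective
    rw [toLin'_prod_reflectionMatrix, hprod]
    rfl
  rw [mem_Omega_iff Q h2 hQ h _ hvs hg, rlist_length, rlist_prod h2 hA hAQ n' ha]
  constructor
  · exact fun h => h.2
  · exact fun h => ⟨⟨n', by ring⟩, h⟩

/-- the model of a complex structure -/
def cplxModel (n : ℕ) : Module.End F (Fin n ⊕ Fin n → F) where
  toFun v := Sum.elim (fun j => -v (Sum.inr j)) (fun j => v (Sum.inl j))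
  map_add' := by
    intro u v
    ext (j | j) <;> simp [add_comm]
  map_smul' := by
    intro c v
    ext (j | j) <;> simp

theorem cplxModel_sq (n : ℕ) : cplxModel (F := F) n * cplxModel n = -1 := by
  apply LinearMap.ext
  intro v
  ext (j | j) <;> simp [cplxModel]

theorem matQ_one_apply {ι : Type*} [Fintype ι] [DecidableEq ι] (v : ι → F) :
    matQ (1 : Matrix ι ι F) v = ∑ i, v i * v i := by
  rw [matQ_apply, Matrix.one_mulVec]
  rfl

theorem cplxModel_isom (n : ℕ) (v : Fin n ⊕ Fin n → F) :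
    matQ (1 : Matrix (Fin n ⊕ Fin n) (Fin n ⊕ Fin n) F) (cplxModel n v) =
      matQ (1 : Matrix (Fin n ⊕ Fin n) (Fin n ⊕ Fin n) F) v := by
  rw [matQ_one_apply, matQ_one_apply, Fintype.sum_sum_type, Fintype.sum_sum_type]
  simp only [cplxModel, LinearMap.coe_mk, AddHom.coe_mk, Sum.elim_inl, Sum.elim_inr, neg_mul_neg]
  exact add_comm _ _

theorem one_add_transpose_det (n : ℕ) :
    ((1 : Matrix (Fin n ⊕ Fin n) (Fin n ⊕ Fin n) F) +
      (1 : Matrix (Fin n ⊕ Fin n) (Fin n ⊕ Fin n) F)ᵀ).det = (2 ^ n) ^ 2 := by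
  rw [Matrix.transpose_one, ← two_smul F (1 : Matrix (Fin n ⊕ Fin n) (Fin n ⊕ Fin n) F),
    Matrix.det_smul, Matrix.det_one, mul_one, Fintype.card_sum, Fintype.card_fin]
  ring

/-- existence of isometries with square `-1` -/
theorem exists_cplx (h2 : (2 : F) ≠ 0) (hns : ¬ IsSquare (-1 : F))
    (hQ : (polarBilin Q).Nondegenerate) (n : ℕ) (hκ : Fintype.card κ = 2 * n)
    (htype : IsHyp Q ↔ Even n) :
    ∃ h : ↥(Cfsg.isometryGroup F (⇑Q)), toEnd Q h * toEnd Q h = -1 := by
  have hnd0 : (polarBilin (matQ (1 : Matrix (Fin n ⊕ Fin n) (Fin n ⊕ Fin n) F))).Nondegenerate := by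
    apply matQ_nondeg
    rw [one_add_transpose_det]
    exact pow_ne_zero _ (pow_ne_zero _ h2)
  have hfin0 : finrank F (Fin n ⊕ Fin n → F) = 2 * n := by
    rw [Module.finrank_fintype_fun_eq_card, Fintype.card_sum, Fintype.card_fin]
    ring
  have htype0 : IsHyp (matQ (1 : Matrix (Fin n ⊕ Fin n) (Fin n ⊕ Fin n) F)) ↔ Even n := by
    rw [isHyp_iff_gram h2 _ hnd0 (Pi.basisFun F (Fin n ⊕ Fin n)) n
      (by rw [Fintype.card_sum, Fintype.card_fin]; ring), gram_matQ, one_add_transpose_det,
      mul_comm, isSquare_mul_sq_iff _ _ (pow_ne_zero _ h2), isSquare_neg_one_pow hns]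
  obtain ⟨e, he⟩ := equiv_of_type (matQ (1 : Matrix (Fin n ⊕ Fin n) (Fin n ⊕ Fin n) F)) Q hnd0 hQ
    (by rw [hfin0, Module.finrank_fintype_fun_eq_card, hκ]) ⟨n, by rw [hfin0]; ring⟩
    (htype0.trans htype.symm)
  set A : Module.End F (κ → F) := e.conj (cplxModel n) with hAdef
  have hAapp : ∀ v, A v = e (cplxModel n (e.symm v)) := fun v => rfl
  have hAQ : ∀ v, Q (A v) = Q v := by
    intro v
    rw [hAapp, he, cplxModel_isom, ← he, e.apply_symm_apply]
  have hAA : A * A = -1 := by
    apply LinearMap.ext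
    intro v
    rw [Module.End.mul_apply, hAapp, hAapp, e.symm_apply_apply, ← Module.End.mul_apply,
      cplxModel_sq]
    simp
  have hA4 : A ^ 4 = 1 := by
    have : A ^ 4 = (A * A) * (A * A) := by
      rw [← pow_two, ← pow_two, ← pow_mul]
    rw [this]
    apply LinearMap.ext
    intro v
    rw [Module.End.mul_apply, hAA]
    simp
  obtain ⟨x, hx, -, hLx⟩ := exists_gl_of_end (⇑Q) A hAQ 4 (by norm_num) hA4
  refine ⟨⟨x, hx⟩, ?_⟩
  have hto : toEnd Q ⟨x, hx⟩ = A := by
    rw [← hLx]
    apply LinearMap.ext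
    intro v
    rw [toEnd_apply, LG_apply]
  rw [hto, hAA]

end conc

end Cfsg.Agent.Helper13.OrthTy
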