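import Mathlib
import Cfsg.Agent.Lib.Helper13.OrthTy10

set_option autoImplicit false
set_option linter.unusedSectionVars false

/-!
# Elements of order two of `PΩ^±_{2d}(q)` and invariant totally singular subspaces
-/

namespace Cfsg.Agent.Helper13.OrthTy

open Polynomial Module QuadraticMap Matrix Cfsg.Agent.Helper13.OrthSS Cfsg.Agent.Helper13
  Cfsg.Agent.Helper17.Spinor Cfsg.Agent.Helper13.OrthTs Cfsg.Agent.Helper28.WittQuad
open scoped Classical

universe u

section conc
variable {F : Type u} [Field F] [Fintype F] {κ : Type} [Fintype κ] [DecidableEq κ]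
  (Q : QuadraticForm F (κ → F)) {q : ℕ}

theorem toEnd_sq_eq_iff (h : ↥(Cfsg.isometryGroup F (⇑Q))) (z : F) :
    (((h : GL κ F) ^ 2 : GL κ F) : Matrix κ κ F) = z • (1 : Matrix κ κ F) ↔
      toEnd Q h * toEnd Q h = z • (1 : Module.End F (κ → F)) := by
  have e1 : toEnd Q h * toEnd Q h =
      Matrix.toLin' ((((h : GL κ F) ^ 2 : GL κ F) : Matrix κ κ F)) := by
    rw [Units.val_pow_eq_pow_val, pow_two, Matrix.toLin'_mul]
    rfl
  have e2 : (z • (1 : Module.End F (κ → F))) = Matrix.toLin' (z • (1 : Matrix κ κ F)) := by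
    rw [map_smul, Matrix.toLin'_one]
    rfl
  rw [e1, e2]
  exact ⟨fun h => by rw [h], fun h => Matrix.toLin'.injective h⟩

theorem toEnd_eq_smul_iff (h : ↥(Cfsg.isometryGroup F (⇑Q))) (z : F) :
    ((h : GL κ F) : Matrix κ κ F) = z • (1 : Matrix κ κ F) ↔
      toEnd Q h = z • (1 : Module.End F (κ → F)) := by
  have e2 : (z • (1 : Module.End F (κ → F))) = Matrix.toLin' (z • (1 : Matrix κ κ F)) := by
    rw [map_smul, Matrix.toLin'_one]
    rfl
  rw [e2]
  exact ⟨fun h' => by rw [← h']; rfl, fun h' => Matrix.toLin'.injective h'⟩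

theorem neg_one_smul_one_end :
    (-1 : F) • (1 : Module.End F (κ → F)) = -1 := by
  apply LinearMap.ext
  intro v
  simp

theorem map_le_iff_toEnd (h : ↥(Cfsg.isometryGroup F (⇑Q))) (W : Submodule F (κ → F)) :
    W.map (Matrix.toLin' ((h : GL κ F) : Matrix κ κ F)) ≤ W ↔ ∀ v ∈ W, toEnd Q h v ∈ W := by
  rw [Submodule.map_le_iff_le_comap]
  exact Iff.rfl

/-- an isometry with square `-1` is not a scalar -/
theorem not_scalar_of_cplx (h2 : (2 : F) ≠ 0) (hQ : (polarBilin Q).Nondegenerate)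
    (hκ0 : 0 < Fintype.card κ) (A : Module.End F (κ → F)) (hAQ : ∀ v, Q (A v) = Q v)
    (hAA : A * A = -1) (z : F) : A ≠ z • (1 : Module.End F (κ → F)) := by
  intro hz
  have hzz := scalar_sq_of_isom Q hQ hκ0 A hAQ z hz
  obtain ⟨v, hv⟩ := Cfsg.Agent.Helper13.OrthEl.exists_nonsingular Q hQ hκ0
  have hv0 : v ≠ 0 := by
    rintro rfl
    exact hv (map_zero Q)
  have h1 := cplx_apply hAA v
  simp only [hz, LinearMap.smul_apply, Module.End.one_apply, smul_smul, hzz, one_smul] at h1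
  have h3 : (2 : F) • v = 0 := by
    rw [two_smul]
    nth_rewrite 1 [h1]
    exact neg_add_cancel v
  exact hv0 ((smul_eq_zero.1 h3).resolve_left h2)

theorem isSquare_two_of_pow {d : ℕ} (h2 : (2 : F) ≠ 0) (hd : Odd d)
    (h : IsSquare ((2 : F) ^ d)) : IsSquare (2 : F) := by
  obtain ⟨t, ht⟩ := hd
  have e : (2 : F) ^ d = (2 ^ t) ^ 2 * 2 := by
    rw [ht, pow_succ, pow_mul, pow_two, pow_two, ← mul_pow]
  rw [e, isSquare_mul_sq_iff _ _ (pow_ne_zero _ h2)] at h
  exact h

/-- the criterion for elements of order two -/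
theorem two_main_even (hF : Fintype.card F = q) (h2 : (2 : F) ≠ 0)
    (hQ : (polarBilin Q).Nondegenerate) (d m : ℕ) (hκ : Fintype.card κ = 2 * d) (hd : 3 ≤ d)
    (hm : 1 ≤ m) (hmd : m + 1 ≤ d) :
    (∀ x : GL κ F, x ∈ Cfsg.Geo.omegaGL (⇑Q) →
      (∃ z : F, ((x ^ 2 : GL κ F) : Matrix κ κ F) = z • (1 : Matrix κ κ F)) →
      (∀ z : F, (x : Matrix κ κ F) ≠ z • (1 : Matrix κ κ F)) →
      ∃ W : Submodule F (κ → F), finrank F W = m ∧ (∀ w ∈ W, Q w = 0) ∧
        W.map (Matrix.toLin' (x : Matrix κ κ F)) ≤ W) ↔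
    ((IsHyp Q ∧ (q % 4 = 1 ∨ (q % 4 = 3 ∧ m + 2 ≤ d ∧ (Even m ∨ Odd d)))) ∨
     (¬ IsHyp Q ∧ (Even d ∨ Even m ∨ q % 8 ≠ 7))) := by
  have hκ0 : 0 < Fintype.card κ := by omega
  have hfin : finrank F (κ → F) = 2 * d := by
    rw [Module.finrank_fintype_fun_eq_card, hκ]
  have hqodd : q % 2 = 1 := by
    rw [← hF]
    exact card_odd_of_two_ne_zero h2
  have hsq4 : IsSquare (-1 : F) ↔ q % 4 = 1 := by
    rw [FiniteField.isSquare_neg_one_iff, hF]
    omega
  have hsq8 : IsSquare (2 : F) ↔ (q % 8 = 1 ∨ q % 8 = 7) := by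
    rw [FiniteField.isSquare_two_iff, hF]
    omega
  -- reduction to the isometry group
  have hred : (∀ x : GL κ F, x ∈ Cfsg.Geo.omegaGL (⇑Q) →
      (∃ z : F, ((x ^ 2 : GL κ F) : Matrix κ κ F) = z • (1 : Matrix κ κ F)) →
      (∀ z : F, (x : Matrix κ κ F) ≠ z • (1 : Matrix κ κ F)) →
      ∃ W : Submodule F (κ → F), finrank F W = m ∧ (∀ w ∈ W, Q w = 0) ∧
        W.map (Matrix.toLin' (x : Matrix κ κ F)) ≤ W) ↔
      (∀ h : ↥(Cfsg.isometryGroup F (⇑Q)), h ∈ Cfsg.Omega F (⇑Q) →
        (∃ z : F, toEnd Q h * toEnd Q h = z • (1 : Module.End F (κ → F))) →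
        (∀ z : F, toEnd Q h ≠ z • (1 : Module.End F (κ → F))) →
        ∃ W : Submodule F (κ → F), finrank F W = m ∧ (∀ w ∈ W, Q w = 0) ∧
          ∀ v ∈ W, toEnd Q h v ∈ W) := by
    constructor
    · intro hall h hΩ ⟨z, hz⟩ hns
      obtain ⟨W, h1, h3, h4⟩ := hall (h : GL κ F)
        (Cfsg.Agent.Helper17.OmegaElts.coe_mem_omegaGL Q hΩ)
        ⟨z, (toEnd_sq_eq_iff Q h z).2 hz⟩ (fun z' hz' => hns z' ((toEnd_eq_smul_iff Q h z').1 hz'))
      exact ⟨W, h1, h3, (map_le_iff_toEnd Q h W).1 h4⟩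
    · intro hall x hxmem ⟨z, hz⟩ hns
      obtain ⟨h, hhΩ, rfl⟩ := (Cfsg.Agent.Helper17.OmegaElts.mem_omegaGL_iff Q x).1 hxmem
      obtain ⟨W, h1, h3, h4⟩ := hall h hhΩ ⟨z, (toEnd_sq_eq_iff Q h z).1 hz⟩
        (fun z' hz' => hns z' ((toEnd_eq_smul_iff Q h z').2 hz'))
      exact ⟨W, h1, h3, (map_le_iff_toEnd Q h W).2 h4⟩
  rw [hred]
  constructor
  · -- necessity
    intro hall
    by_cases hH : IsHyp Q
    · left
      refine ⟨hH, ?_⟩
      by_cases hq1 : q % 4 = 1
      · exact Or.inl hq1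
      · right
        have hq3 : q % 4 = 3 := by omega
        have hns : ¬ IsSquare (-1 : F) := fun h => hq1 (hsq4.1 h)
        refine ⟨hq3, ?_, ?_⟩
        · apply invol_nec Q h2 hQ hH hns d m hκ (by omega) hmd
          intro h hΩ hsq hne1 hne2
          apply hall h hΩ ⟨1, by rw [hsq, one_smul]⟩
          intro z hz
          have hzz := scalar_sq_of_isom Q hQ hκ0 _ (toEnd_isometry Q h) z hz
          have h4 : (z - 1) * (z + 1) = 0 := by linear_combination hzz
          rcases mul_eq_zero.1 h4 with h5 | h5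
          · apply hne1
            rw [hz, sub_eq_zero.1 h5, one_smul]
          · apply hne2
            rw [hz, eq_neg_of_add_eq_zero_left h5]
            exact neg_one_smul_one_end
        · by_contra hcon
          push Not at hcon
          obtain ⟨hmo, hdo⟩ := hcon
          have hde : Even d := Nat.not_odd_iff_even.1 hdo
          obtain ⟨h, hAA⟩ := exists_cplx Q h2 hns hQ d hκ (iff_of_true hH hde)
          have hΩ : h ∈ Cfsg.Omega F (⇑Q) := by
            rw [mem_Omega_iff_of_cplx Q h2 hQ h hAA d hκ]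
            obtain ⟨t, ht⟩ := hde
            exact ⟨2 ^ t, by rw [ht, pow_add]⟩
          obtain ⟨W, hWm, -, hWinv⟩ := hall h hΩ ⟨-1, by rw [hAA]; exact neg_one_smul_one_end.symm⟩
            (not_scalar_of_cplx Q h2 hQ hκ0 _ (toEnd_isometry Q h) hAA)
          have := even_finrank_of_invariant hns hAA W hWinv
          rw [hWm] at this
          exact hmo this
    · right
      refine ⟨hH, ?_⟩
      by_contra hcon
      push Not at hcon
      obtain ⟨hdo, hmo, hq7⟩ := hcon
      have hns : ¬ IsSquare (-1 : F) := by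
        rw [hsq4]
        omega
      have hs2 : IsSquare (2 : F) := hsq8.2 (Or.inr hq7)
      obtain ⟨h, hAA⟩ := exists_cplx Q h2 hns hQ d hκ (iff_of_false hH hdo)
      have hΩ : h ∈ Cfsg.Omega F (⇑Q) := by
        rw [mem_Omega_iff_of_cplx Q h2 hQ h hAA d hκ]
        exact hs2.pow d
      obtain ⟨W, hWm, -, hWinv⟩ := hall h hΩ ⟨-1, by rw [hAA]; exact neg_one_smul_one_end.symm⟩
        (not_scalar_of_cplx Q h2 hQ hκ0 _ (toEnd_isometry Q h) hAA)
      have := even_finrank_of_invariant hns hAA W hWinv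
      rw [hWm] at this
      exact hmo this
  · -- sufficiency
    intro hcond h hΩ ⟨z, hz⟩ hns
    have hAQ : ∀ v, Q (toEnd Q h v) = Q v := toEnd_isometry Q h
    have hAAQ : ∀ v, Q ((toEnd Q h * toEnd Q h) v) = Q v := by
      intro v
      rw [Module.End.mul_apply, hAQ, hAQ]
    have hzz := scalar_sq_of_isom Q hQ hκ0 _ hAAQ z hz
    have h4 : (z - 1) * (z + 1) = 0 := by linear_combination hzz
    rcases mul_eq_zero.1 h4 with h5 | h5
    · -- involutions
      have hsq : toEnd Q h * toEnd Q h = 1 := by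
        rw [hz, sub_eq_zero.1 h5, one_smul]
      have hne1 : toEnd Q h ≠ 1 := by
        intro h'
        exact hns 1 (by rw [h', one_smul])
      have hne2 : toEnd Q h ≠ -1 := by
        intro h'
        exact hns (-1) (by rw [h']; exact neg_one_smul_one_end.symm)
      apply invol_suff Q h2 hQ h hΩ hsq hne1 hne2 d m hκ hmd
      rcases hcond with ⟨-, hc | ⟨-, hc, -⟩⟩ | ⟨hc, -⟩
      · exact Or.inr (Or.inl (hsq4.2 hc))
      · exact Or.inr (Or.inr hc)
      · exact Or.inl hc
    · -- square -1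
      have hAA : toEnd Q h * toEnd Q h = -1 := by
        rw [hz, eq_neg_of_add_eq_zero_left h5]
        exact neg_one_smul_one_end
      by_cases hsq : IsSquare (-1 : F)
      · obtain ⟨t, ht⟩ := hsq
        exact exists_inv_ts_of_sq h2 t ht.symm hAA hAQ m (by rw [hfin]; omega)
      · have hty := isHyp_iff_of_cplx h2 hsq hQ hAA hAQ d hfin
        have hΩiff := mem_Omega_iff_of_cplx Q h2 hQ h hAA d hκ
        have hq3 : q % 4 = 3 := by
          have : ¬ q % 4 = 1 := fun h' => hsq (hsq4.2 h')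
          omega
        have hme : Even m := by
          rcases hcond with ⟨hH, hc | ⟨-, -, hc⟩⟩ | ⟨hH, hc⟩
          · omega
          · rcases hc with hc | hc
            · exact hc
            · exact absurd (hty.1 hH) (Nat.not_even_iff_odd.2 hc)
          · have hdo : Odd d := Nat.not_even_iff_odd.1 (fun h' => hH (hty.2 h'))
            have hs2 := isSquare_two_of_pow h2 hdo (hΩiff.1 hΩ)
            have hq8 := hsq8.1 hs2
            rcases hc with hc | hc | hc
            · exact absurd hc (Nat.not_even_iff_odd.2 hdo)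
            · exact hc
            · omega
        obtain ⟨s, hs⟩ := hme
        obtain ⟨W, hW, hts, hinv⟩ := exists_inv_ts_cplx h2 hsq hQ hAA hAQ d hfin s (by omega)
        exact ⟨W, by rw [hW, hs]; ring, hts, hinv⟩

end conc

end Cfsg.Agent.Helper13.OrthTy
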