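import Mathlib
import Cfsg.Agent.Lib.Helper13.OrthNi3
import Cfsg.Agent.Lib.Helper13.OrthTy11
import Cfsg.Agent.Lib.Helper13.OrthSp4
import Cfsg.Agent.Lib.Helper13.OrthJp5

set_option autoImplicit false
set_option linter.unusedSectionVars false

/-!
# Invariant odd-dimensional nondegenerate subspaces in an isometry class: elements of order two
-/

namespace Cfsg.Agent.Helper13.OrthNi

open Polynomial Module QuadraticMap Matrix Cfsg.Agent.Helper13.OrthSS Cfsg.Agent.Helper13
  Cfsg.Agent.Helper17.Spinor Cfsg.Agent.Helper13.OrthTs Cfsg.Agent.Helper13.OrthTy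
  Cfsg.Agent.Helper13.OrthNd
open scoped Classical

universe u

section cplxeven
variable {F : Type u} [Field F] {V : Type u} [AddCommGroup V] [Module F V]
  [FiniteDimensional F V] {Q : QuadraticForm F V} {A : Module.End F V}

/-- a nondegenerate subspace invariant under a complex structure has even dimension -/
theorem even_finrank_of_nondeg_cplx (h2 : (2 : F) ≠ 0) (hA : A * A = -1)
    (hAQ : ∀ v, Q (A v) = Q v) (W : Submodule F V) (hW : ∀ v ∈ W, A v ∈ W)
    (hWnd : (polarBilin (Q.comp W.subtype)).Nondegenerate) : Even (finrank F W) := by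
  set N : Module.End F W := A.restrict hW with hN
  have hNN : ∀ w : W, N (N w) = -w := by
    intro w
    apply Subtype.ext
    rw [hN, LinearMap.restrict_coe_apply, LinearMap.restrict_coe_apply, cplx_apply hA]
    rfl
  have halt : ∀ w : W, polarBilin (Q.comp W.subtype) (N w) w = 0 := by
    intro w
    show polar (Q.comp W.subtype) (N w) w = 0
    rw [OrthTs.polar_comp, polar_comm]
    show polar Q (w : V) (A (w : V)) = 0
    exact polar_cplx_self h2 hA hAQ _
  have h1 := Cfsg.Agent.Helper13.OrthSp.even_finrank_range_of_alt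
    (polarBilin (Q.comp W.subtype)) hWnd N halt
  have hsurj : LinearMap.range N = ⊤ := by
    rw [LinearMap.range_eq_top]
    intro w
    refine ⟨-(N w), ?_⟩
    rw [map_neg, hNN, neg_neg]
  rw [hsurj, finrank_top] at h1
  exact h1

end cplxeven

section sub
variable {F : Type u} [Field F] [Fintype F] {κ : Type} [Fintype κ] [DecidableEq κ]
  {M : Type u} [AddCommGroup M] [Module F M] [FiniteDimensional F M]

/-- a copy of the model inside a larger nondegenerate subspace -/
theorem exists_iso_in_sub (h2 : (2 : F) ≠ 0) (Q : QuadraticForm F (κ → F))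
    (V₀ : Submodule F (κ → F)) (hV₀ : (polarBilin (Q.comp V₀.subtype)).Nondegenerate)
    (QM : QuadraticForm F M) (hQM : (polarBilin QM).Nondegenerate)
    (hlt : finrank F M < finrank F V₀) :
    ∃ W : Submodule F (κ → F), IsIsoTo Q QM W ∧ W ≤ V₀ := by
  obtain ⟨f, hfinj, hfQ⟩ := exists_embedding h2 (Q.comp V₀.subtype) hV₀ QM hQM hlt
  refine ⟨LinearMap.range (V₀.subtype ∘ₗ f), ?_, ?_⟩
  · apply isIsoTo_range Q QM (V₀.subtype ∘ₗ f)
    · intro a b hab
      apply hfinj
      apply Subtype.ext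
      exact hab
    · intro z
      exact hfQ z
  · rintro _ ⟨z, rfl⟩
    exact (f z).2

/-- a non-scalar involution fixes a copy of every small model -/
theorem invol_iso (h2 : (2 : F) ≠ 0) (Q : QuadraticForm F (κ → F))
    (hQ : (polarBilin Q).Nondegenerate) (A : Module.End F (κ → F))
    (hAQ : ∀ v, Q (A v) = Q v) (hA : A * A = 1) (d : ℕ) (hκ : Fintype.card κ = 2 * d)
    (QM : QuadraticForm F M) (hQM : (polarBilin QM).Nondegenerate)
    (hlt : finrank F M < d) :
    ∃ W : Submodule F (κ → F), IsIsoTo Q QM W ∧ ∀ v ∈ W, A v ∈ W := by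
  have hab := finrank_Vp_add (A := A) h2 hA
  rw [Module.finrank_fintype_fun_eq_card, hκ] at hab
  rcases le_or_gt d (finrank F (Vp A)) with hp | hp
  · obtain ⟨W, hW, hle⟩ := exists_iso_in_sub h2 Q (Vp A) (nondeg_Vp h2 hA hAQ hQ) QM hQM
      (by omega)
    refine ⟨W, hW, fun v hv => ?_⟩
    rw [mem_Vp.1 (hle hv)]
    exact hv
  · obtain ⟨W, hW, hle⟩ := exists_iso_in_sub h2 Q (Vm A) (nondeg_Vm h2 hA hAQ hQ) QM hQM
      (by omega)
    refine ⟨W, hW, fun v hv => ?_⟩
    rw [mem_Vm.1 (hle hv)]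
    exact W.neg_mem hv

end sub

section cplxex
variable {F : Type u} [Field F] [Fintype F] {κ : Type} [Fintype κ] [DecidableEq κ]
  (Q : QuadraticForm F (κ → F))

/-- the complex structure on a hyperbolic space when `-1` is a square -/
theorem exists_cplx_of_sq (h2 : (2 : F) ≠ 0) (t : F) (ht : t * t = -1)
    (hQ : (polarBilin Q).Nondegenerate) (n : ℕ) (hκ : Fintype.card κ = 2 * n)
    (hH : IsHyp Q) :
    ∃ h : ↥(Cfsg.isometryGroup F (⇑Q)), toEnd Q h * toEnd Q h = -1 := by
  set J : Module.End F ((Fin n → F) × (Fin n → F)) :=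
    (t • (LinearMap.id : (Fin n → F) →ₗ[F] (Fin n → F))).prodMap
      ((-t) • (LinearMap.id : (Fin n → F) →ₗ[F] (Fin n → F))) with hJ
  have hJa : ∀ v, J v = (t • v.1, (-t) • v.2) := fun v => rfl
  have hJQ : ∀ v, hypQ (Fin n) F (J v) = hypQ (Fin n) F v := by
    intro v
    rw [hypQ_apply, hypQ_apply, hJa]
    simp only
    rw [smul_dotProduct, dotProduct_smul, smul_eq_mul, smul_eq_mul, ← mul_assoc]
    have : t * -t = 1 := by rw [mul_neg, ht, neg_neg]
    rw [this, one_mul]
  have hJJ : J * J = -1 := by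
    apply LinearMap.ext
    intro v
    rw [Module.End.mul_apply, hJa, hJa]
    simp only
    rw [smul_smul, smul_smul, neg_mul_neg, ht]
    simp only [neg_smul, one_smul, LinearMap.neg_apply, Module.End.one_apply]
    rfl
  have hfin0 : finrank F ((Fin n → F) × (Fin n → F)) = 2 * n := by
    rw [Module.finrank_prod, Module.finrank_fintype_fun_eq_card, Fintype.card_fin]
    ring
  obtain ⟨e, he⟩ := equiv_of_type (hypQ (Fin n) F) Q hypQ_nondeg hQ
    (by rw [hfin0, Module.finrank_fintype_fun_eq_card, hκ]) ⟨n, by rw [hfin0]; ring⟩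
    (iff_of_true Cfsg.Agent.Helper13.OrthJp.isHyp_hypQ hH)
  set A : Module.End F (κ → F) := e.conj J with hAdef
  have hAapp : ∀ v, A v = e (J (e.symm v)) := fun v => rfl
  have hAQ : ∀ v, Q (A v) = Q v := by
    intro v
    rw [hAapp, he, hJQ, ← he, e.apply_symm_apply]
  have hAA : A * A = -1 := by
    apply LinearMap.ext
    intro v
    rw [Module.End.mul_apply, hAapp, hAapp, e.symm_apply_apply, ← Module.End.mul_apply, hJJ]
    simp
  have hA4 : A ^ 4 = 1 := by
    have : A ^ 4 = (A * A) * (A * A) := by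
      rw [← pow_two, ← pow_two, ← pow_mul]
    rw [this]
    apply LinearMap.ext
    intro v
    rw [Module.End.mul_apply, hAA]
    simp
  obtain ⟨x, hx, -, hLx⟩ := exists_gl_of_end (⇑Q) A hAQ 4 (by norm_num) hA4
  refine ⟨⟨x, hx⟩, ?_⟩
  have hto : toEnd Q ⟨x, hx⟩ = A := by
    rw [← hLx]
    apply LinearMap.ext
    intro v
    rw [toEnd_apply, LG_apply]
  rw [hto, hAA]

end cplxex

section two
variable {F : Type u} [Field F] [Fintype F] {κ : Type} [Fintype κ] [DecidableEq κ]
  (Q : QuadraticForm F (κ → F)) {q : ℕ}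
  {M : Type u} [AddCommGroup M] [Module F M] [FiniteDimensional F M]

/-- the criterion for elements of order two: no complex structure in `Ω` -/
theorem two_iso (h2 : (2 : F) ≠ 0) (hQ : (polarBilin Q).Nondegenerate) (d m : ℕ)
    (hκ : Fintype.card κ = 2 * d) (hd : 3 ≤ d) (hmo : Odd m) (hmd : m < d)
    (QM : QuadraticForm F M) (hQM : (polarBilin QM).Nondegenerate) (hMfin : finrank F M = m) :
    (∀ x : GL κ F, x ∈ Cfsg.Geo.omegaGL (⇑Q) →
      (∃ z : F, ((x ^ 2 : GL κ F) : Matrix κ κ F) = z • (1 : Matrix κ κ F)) →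
      (∀ z : F, (x : Matrix κ κ F) ≠ z • (1 : Matrix κ κ F)) →
      ∃ W : Submodule F (κ → F), IsIsoTo Q QM W ∧
        W.map (Matrix.toLin' (x : Matrix κ κ F)) ≤ W) ↔
    ¬ ∃ h : ↥(Cfsg.isometryGroup F (⇑Q)), h ∈ Cfsg.Omega F (⇑Q) ∧
      toEnd Q h * toEnd Q h = -1 := by
  have hκ0 : 0 < Fintype.card κ := by omega
  constructor
  · rintro hall ⟨h, hΩ, hAA⟩
    have hAQ : ∀ v, Q (toEnd Q h v) = Q v := toEnd_isometry Q h
    obtain ⟨W, hWiso, hWinv⟩ := hall (h : GL κ F)
      (Cfsg.Agent.Helper17.OmegaElts.coe_mem_omegaGL Q hΩ)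
      ⟨-1, (toEnd_sq_eq_iff Q h (-1)).2 (by rw [hAA]; exact neg_one_smul_one_end.symm)⟩
      (fun z hz => not_scalar_of_cplx Q h2 hQ hκ0 _ hAQ hAA z ((toEnd_eq_smul_iff Q h z).1 hz))
    have hinv' := (map_le_iff_toEnd Q h W).1 hWinv
    have hev := even_finrank_of_nondeg_cplx h2 hAA hAQ W hinv' (hWiso.nondeg Q QM hQM)
    rw [hWiso.finrank_eq Q QM, hMfin] at hev
    exact (Nat.not_even_iff_odd.2 hmo) hev
  · intro hno x hxmem ⟨z, hz⟩ hns
    obtain ⟨h, hhΩ, rfl⟩ := (Cfsg.Agent.Helper17.OmegaElts.mem_omegaGL_iff Q x).1 hxmem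
    have hz' := (toEnd_sq_eq_iff Q h z).1 hz
    have hns' : ∀ z' : F, toEnd Q h ≠ z' • (1 : Module.End F (κ → F)) :=
      fun z' hz' => hns z' ((toEnd_eq_smul_iff Q h z').2 hz')
    have hAQ : ∀ v, Q (toEnd Q h v) = Q v := toEnd_isometry Q h
    have hAAQ : ∀ v, Q ((toEnd Q h * toEnd Q h) v) = Q v := by
      intro v
      rw [Module.End.mul_apply, hAQ, hAQ]
    have hzz := scalar_sq_of_isom Q hQ hκ0 _ hAAQ z hz'
    have h4 : (z - 1) * (z + 1) = 0 := by linear_combination hzz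
    rcases mul_eq_zero.1 h4 with h5 | h5
    · have hsq : toEnd Q h * toEnd Q h = 1 := by
        rw [hz', sub_eq_zero.1 h5, one_smul]
      obtain ⟨W, hW, hinv⟩ := invol_iso h2 Q hQ (toEnd Q h) hAQ hsq d hκ QM hQM
        (by rw [hMfin]; exact hmd)
      exact ⟨W, hW, (map_le_iff_toEnd Q h W).2 hinv⟩
    · exfalso
      apply hno
      refine ⟨h, hhΩ, ?_⟩
      rw [hz', eq_neg_of_add_eq_zero_left h5]
      exact neg_one_smul_one_end

/-- complex structures in `Ω`: hyperbolic case -/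
theorem cplx_plus_iff (hF : Fintype.card F = q) (h2 : (2 : F) ≠ 0)
    (hQ : (polarBilin Q).Nondegenerate) (d : ℕ) (hκ : Fintype.card κ = 2 * d) (hH : IsHyp Q) :
    (¬ ∃ h : ↥(Cfsg.isometryGroup F (⇑Q)), h ∈ Cfsg.Omega F (⇑Q) ∧
      toEnd Q h * toEnd Q h = -1) ↔ (Odd d ∧ q % 8 ≠ 1) := by
  have hfin : finrank F (κ → F) = 2 * d := by
    rw [Module.finrank_fintype_fun_eq_card, hκ]
  have hqodd : q % 2 = 1 := by
    rw [← hF]
    exact card_odd_of_two_ne_zero h2
  have hsq4 : IsSquare (-1 : F) ↔ q % 4 = 1 := by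
    rw [FiniteField.isSquare_neg_one_iff, hF]
    omega
  have hsq8 : IsSquare (2 : F) ↔ (q % 8 = 1 ∨ q % 8 = 7) := by
    rw [FiniteField.isSquare_two_iff, hF]
    omega
  constructor
  · intro hno
    by_contra hcon
    apply hno
    have hcase : Even d ∨ q % 8 = 1 := by
      by_contra h'
      push Not at h'
      exact hcon ⟨Nat.not_even_iff_odd.1 h'.1, h'.2⟩
    have hsq2d : IsSquare ((2 : F) ^ d) := by
      rcases hcase with ⟨t, ht⟩ | h8
      · exact ⟨2 ^ t, by rw [ht, pow_add]⟩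
      · exact (hsq8.2 (Or.inl h8)).pow d
    have hex : ∃ h : ↥(Cfsg.isometryGroup F (⇑Q)), toEnd Q h * toEnd Q h = -1 := by
      by_cases hs : IsSquare (-1 : F)
      · obtain ⟨t, ht⟩ := hs
        exact exists_cplx_of_sq Q h2 t ht.symm hQ d hκ hH
      · have hde : Even d := by
          rcases hcase with h | h
          · exact h
          · exfalso
            apply hs
            rw [hsq4]
            omega
        exact exists_cplx Q h2 hs hQ d hκ (iff_of_true hH hde)
    obtain ⟨h, hAA⟩ := hex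
    exact ⟨h, (mem_Omega_iff_of_cplx Q h2 hQ h hAA d hκ).2 hsq2d, hAA⟩
  · rintro ⟨hdo, hq8⟩ ⟨h, hΩ, hAA⟩
    have hAQ : ∀ v, Q (toEnd Q h v) = Q v := toEnd_isometry Q h
    have hsq2d := (mem_Omega_iff_of_cplx Q h2 hQ h hAA d hκ).1 hΩ
    have hs2 : IsSquare (2 : F) := isSquare_two_of_pow h2 hdo hsq2d
    have hq7 : q % 8 = 7 := by
      rcases hsq8.1 hs2 with h' | h'
      · exact absurd h' hq8
      · exact h'
    have hns : ¬ IsSquare (-1 : F) := by
      rw [hsq4]
      omega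
    have := (isHyp_iff_of_cplx h2 hns hQ hAA hAQ d hfin).1 hH
    exact (Nat.not_even_iff_odd.2 hdo) this

/-- complex structures in `Ω`: elliptic case -/
theorem cplx_minus_iff (hF : Fintype.card F = q) (h2 : (2 : F) ≠ 0)
    (hQ : (polarBilin Q).Nondegenerate) (d : ℕ) (hκ : Fintype.card κ = 2 * d)
    (hH : ¬ IsHyp Q) :
    (¬ ∃ h : ↥(Cfsg.isometryGroup F (⇑Q)), h ∈ Cfsg.Omega F (⇑Q) ∧
      toEnd Q h * toEnd Q h = -1) ↔ (Even d ∨ q % 8 ≠ 7) := by
  have hfin : finrank F (κ → F) = 2 * d := by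
    rw [Module.finrank_fintype_fun_eq_card, hκ]
  have hqodd : q % 2 = 1 := by
    rw [← hF]
    exact card_odd_of_two_ne_zero h2
  have hsq4 : IsSquare (-1 : F) ↔ q % 4 = 1 := by
    rw [FiniteField.isSquare_neg_one_iff, hF]
    omega
  have hsq8 : IsSquare (2 : F) ↔ (q % 8 = 1 ∨ q % 8 = 7) := by
    rw [FiniteField.isSquare_two_iff, hF]
    omega
  constructor
  · intro hno
    by_contra hcon
    push Not at hcon
    obtain ⟨hdo, hq7⟩ := hcon
    have hdo' : Odd d := Nat.not_even_iff_odd.1 hdo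
    apply hno
    have hns : ¬ IsSquare (-1 : F) := by
      rw [hsq4]
      omega
    obtain ⟨h, hAA⟩ := exists_cplx Q h2 hns hQ d hκ (iff_of_false hH hdo)
    exact ⟨h, (mem_Omega_iff_of_cplx Q h2 hQ h hAA d hκ).2 ((hsq8.2 (Or.inr hq7)).pow d), hAA⟩
  · rintro hcond ⟨h, hΩ, hAA⟩
    have hAQ : ∀ v, Q (toEnd Q h v) = Q v := toEnd_isometry Q h
    have hsq2d := (mem_Omega_iff_of_cplx Q h2 hQ h hAA d hκ).1 hΩ
    by_cases hs : IsSquare (-1 : F)
    · obtain ⟨t, ht⟩ := hs
      obtain ⟨W, hWd, hWts, -⟩ := exists_inv_ts_of_sq (Q := Q) h2 t ht.symm hAA hAQ d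
        (by rw [hfin])
      exact hH ⟨W, hWts, by rw [hWd, hfin]⟩
    · have hdo : ¬ Even d := fun hde =>
        hH ((isHyp_iff_of_cplx h2 hs hQ hAA hAQ d hfin).2 hde)
      have hdo' : Odd d := Nat.not_even_iff_odd.1 hdo
      have hs2 : IsSquare (2 : F) := isSquare_two_of_pow h2 hdo' hsq2d
      rcases hcond with h' | h'
      · exact hdo h'
      · rcases hsq8.1 hs2 with h8 | h8
        · apply hs
          rw [hsq4]
          omega
        · exact h' h8

end two

end Cfsg.Agent.Helper13.OrthNi
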