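import Mathlib
import Cfsg.Agent.Lib.Helper13.OrthNi4
import Cfsg.Agent.Lib.Helper13.OrthJp8

set_option autoImplicit false
set_option linter.unusedSectionVars false

/-!
# Unipotent elements without invariant nondegenerate subspaces of a given odd dimension
-/

namespace Cfsg.Agent.Helper13.OrthNi

open Module QuadraticMap Matrix Cfsg.Agent.Helper13.OrthSS Cfsg.Agent.Helper13
  Cfsg.Agent.Helper13.OrthJp
open scoped Classical

universe u

section comb

theorem sum_of_two_vals (ν : Multiset ℕ) (a : ℕ) (ha : a ≠ 2) (h : ∀ e ∈ ν, e = a ∨ e = 2) :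
    ν.sum = ν.count a * a + 2 * ν.count 2 := by
  induction ν using Multiset.induction_on with
  | empty => simp
  | cons e ν ih =>
    have ih' := ih (fun e' he' => h e' (Multiset.mem_cons_of_mem he'))
    rcases h e (Multiset.mem_cons_self e ν) with rfl | rfl
    · rw [Multiset.sum_cons, Multiset.count_cons_self, Multiset.count_cons_of_ne (Ne.symm ha),
        ih']
      ring
    · rw [Multiset.sum_cons, Multiset.count_cons_self, Multiset.count_cons_of_ne ha, ih']
      ring

/-- sub-partitions of `(a, a, 2^k)` with odd sum -/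
theorem sum_mod_four (ν : Multiset ℕ) (a k : ℕ) (hao : Odd a)
    (h : ν ≤ a ::ₘ a ::ₘ Multiset.replicate k 2)
    (hpar : ∀ e, Even e → Even (ν.count e)) (hodd : Odd ν.sum) : ν.sum % 4 = a % 4 := by
  have ha2 : a ≠ 2 := by
    rintro rfl
    exact absurd hao (by decide)
  have hmem : ∀ e ∈ ν, e = a ∨ e = 2 := by
    intro e he
    have := Multiset.mem_of_le h he
    rcases Multiset.mem_cons.1 this with h1 | h1
    · exact Or.inl h1
    · rcases Multiset.mem_cons.1 h1 with h3 | h3
      · exact Or.inl h3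
      · exact Or.inr (Multiset.eq_of_mem_replicate h3)
  have hsum := sum_of_two_vals ν a ha2 hmem
  have hca : ν.count a ≤ 2 := by
    have := Multiset.le_iff_count.1 h a
    rw [Multiset.count_cons_self, Multiset.count_cons_self, Multiset.count_replicate,
      if_neg (Ne.symm ha2)] at this
    exact this
  obtain ⟨t, ht⟩ := hpar 2 (by decide)
  obtain ⟨s, hs⟩ := hodd
  obtain ⟨a', ha'⟩ := hao
  have hc1 : ν.count a = 1 := by
    rcases Nat.lt_or_ge (ν.count a) 1 with h0 | h1
    · have h00 : ν.count a = 0 := by omega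
      rw [h00, zero_mul, zero_add] at hsum
      omega
    · rcases Nat.lt_or_ge (ν.count a) 2 with h3 | h3
      · omega
      · have h22 : ν.count a = 2 := by omega
        rw [h22] at hsum
        omega
  rw [hc1, one_mul, ht] at hsum
  omega

end comb

section pcase
variable {F : Type u} [Field F] [Fintype F] {p : ℕ} [Fact p.Prime] [CharP F p]
  {κ : Type} [Fintype κ] [DecidableEq κ]

/-- packaging: a unipotent element of given type all of whose invariant nondegenerate subspaces
give sub-partitions -/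
theorem exists_unip_elt (h2 : (2 : F) ≠ 0) (Q : QuadraticForm F (κ → F))
    (hQ : (polarBilin Q).Nondegenerate) (d : ℕ) (hd : 3 ≤ d) (hκ : Fintype.card κ = 2 * d)
    (μ : Multiset ℕ) (hle : ∀ e ∈ μ, e ≤ p) (hbig : ∃ a ∈ μ, 2 ≤ a)
    (Y : Module.End F (κ → F)) (hY : ∀ v, Q (Y v) = Q v) (hYμ : HasType (Y - 1) μ) :
    ∃ x : GL κ F, x ∈ Cfsg.Geo.omegaGL (⇑Q) ∧ x ^ p = 1 ∧
      (∀ z : F, (x : Matrix κ κ F) ≠ z • (1 : Matrix κ κ F)) ∧
      ∀ (m : ℕ) (W : Submodule F (κ → F)), finrank F W = m →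
        Cfsg.Geo.IsNondegenerateOn (polar (⇑Q)) W →
        W.map (Matrix.toLin' (x : Matrix κ κ F)) ≤ W →
        ∃ ν : Multiset ℕ, ν ≤ μ ∧ ν.sum = m ∧ ∀ e, Even e → Even (ν.count e) := by
  have hp2 : p ≠ 2 := p_ne_two_of (F := F) h2
  have hex : Fintype.card F ≠ 2 ∨ Fintype.card κ ≠ 4 := Or.inr (by omega)
  obtain ⟨a, ha, ha2⟩ := hbig
  obtain ⟨x, hxΩ, hxp, hxQ, hxμ⟩ := exists_gl_of_unip Q hQ hex hp2 Y hY hYμ hle
  refine ⟨x, hxΩ, hxp, ?_, ?_⟩
  · intro z hz
    apply not_smul_of_hasType hxμ a ha ha2 (z - 1)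
    rw [hz, map_smul, Matrix.toLin'_one]
    apply LinearMap.ext
    intro v
    simp [sub_smul]
  · intro m W hWm hWnd hinv
    exact sub_type_of_gl h2 Q x hxQ hxμ m W hWm hWnd hinv

/-- a unipotent element of `Ω` without invariant nondegenerate subspaces of a given odd
dimension -/
theorem p_iso (h2 : (2 : F) ≠ 0) (Q : QuadraticForm F (κ → F))
    (hQ : (polarBilin Q).Nondegenerate) (d m : ℕ) (hd : 3 ≤ d) (hκ : Fintype.card κ = 2 * d)
    (hmo : Odd m) (hgood : Odd d ∨ IsHyp Q) :
    ∃ x : GL κ F, x ∈ Cfsg.Geo.omegaGL (⇑Q) ∧ x ^ p = 1 ∧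
      (∀ z : F, (x : Matrix κ κ F) ≠ z • (1 : Matrix κ κ F)) ∧
      ∀ W : Submodule F (κ → F), finrank F W = m →
        Cfsg.Geo.IsNondegenerateOn (polar (⇑Q)) W →
        W.map (Matrix.toLin' (x : Matrix κ κ F)) ≤ W → False := by
  have hp : p.Prime := Fact.out
  have hp2 : p ≠ 2 := p_ne_two_of (F := F) h2
  have hp3 : 3 ≤ p := by
    have := hp.two_le
    omega
  rcases Nat.even_or_odd d with hde | hdo
  · -- all parts equal to two
    have hH : IsHyp Q := by
      rcases hgood with h | h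
      · exact absurd hde (Nat.not_even_iff_odd.2 h)
      · exact h
    set μ : Multiset ℕ := Multiset.replicate d 2 with hμ
    have hpos : ∀ e ∈ μ, 0 < e := by
      intro e he
      rw [Multiset.eq_of_mem_replicate he]
      omega
    have hle : ∀ e ∈ μ, e ≤ p := by
      intro e he
      rw [Multiset.eq_of_mem_replicate he]
      omega
    have hpar : ∀ e, Even e → Even (μ.count e) := by
      intro e _
      rw [hμ, Multiset.count_replicate]
      split_ifs
      · exact hde
      · exact Even.zero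
    have hsum : μ.sum = 2 * d := by
      rw [hμ, Multiset.sum_replicate, smul_eq_mul, mul_comm]
    obtain ⟨Y, hY, hYμ⟩ := exists_unip_plus h2 d Q hQ hκ hH μ hpos hpar hsum
    obtain ⟨x, hxΩ, hxp, hxns, hx⟩ := exists_unip_elt h2 Q hQ d hd hκ μ hle
      ⟨2, by rw [hμ, Multiset.mem_replicate]; exact ⟨by omega, rfl⟩, le_refl _⟩ Y hY hYμ
    refine ⟨x, hxΩ, hxp, hxns, ?_⟩
    intro W hWm hWnd hinv
    obtain ⟨ν, hνle, hνsum, -⟩ := hx m W hWm hWnd hinv
    obtain ⟨k, -, rfl⟩ := Multiset.le_replicate_iff.1 hνle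
    rw [Multiset.sum_replicate, smul_eq_mul] at hνsum
    obtain ⟨m', hm'⟩ := hmo
    omega
  · -- two odd parts
    obtain ⟨a, hao, ha3, ham⟩ : ∃ a, Odd a ∧ a ≤ 3 ∧ a % 4 ≠ m % 4 := by
      by_cases h1 : m % 4 = 1
      · exact ⟨3, ⟨1, rfl⟩, le_refl _, by omega⟩
      · exact ⟨1, odd_one, by omega, by omega⟩
    have ha0 : 0 < a := hao.pos
    have ha2 : a ≠ 2 := by
      rintro rfl
      exact absurd hao (by decide)
    have hke : Even (d - a) := by
      obtain ⟨d', hd'⟩ := hdo
      obtain ⟨a', ha'⟩ := hao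
      exact ⟨d' - a', by omega⟩
    set μ : Multiset ℕ := a ::ₘ a ::ₘ Multiset.replicate (d - a) 2 with hμ
    have hμmem : ∀ e ∈ μ, e = a ∨ e = 2 := by
      intro e he
      rcases Multiset.mem_cons.1 he with h1 | h1
      · exact Or.inl h1
      · rcases Multiset.mem_cons.1 h1 with h3 | h3
        · exact Or.inl h3
        · exact Or.inr (Multiset.eq_of_mem_replicate h3)
    have hpos : ∀ e ∈ μ, 0 < e := by
      intro e he
      rcases hμmem e he with rfl | rfl
      · exact ha0
      · omega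
    have hle : ∀ e ∈ μ, e ≤ p := by
      intro e he
      rcases hμmem e he with rfl | rfl
      · omega
      · omega
    have hpar : ∀ e, Even e → Even (μ.count e) := by
      intro e he
      have hne : e ≠ a := by
        rintro rfl
        exact (Nat.not_even_iff_odd.2 hao) he
      rw [hμ, Multiset.count_cons_of_ne hne, Multiset.count_cons_of_ne hne,
        Multiset.count_replicate]
      split_ifs
      · exact hke
      · exact Even.zero
    have hsum : μ.sum = 2 * d := by
      rw [hμ, Multiset.sum_cons, Multiset.sum_cons, Multiset.sum_replicate, smul_eq_mul]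
      omega
    have hbig : ∃ b ∈ μ, 2 ≤ b := by
      by_cases ha2' : 2 ≤ a
      · exact ⟨a, Multiset.mem_cons_self a _, ha2'⟩
      · refine ⟨2, ?_, le_refl _⟩
        rw [hμ]
        apply Multiset.mem_cons_of_mem
        apply Multiset.mem_cons_of_mem
        rw [Multiset.mem_replicate]
        exact ⟨by omega, rfl⟩
    obtain ⟨Y, hY, hYμ⟩ := exists_unip_odd_part h2 d Q hQ hκ μ hpos hpar hsum
      ⟨a, Multiset.mem_cons_self a _, hao⟩
    obtain ⟨x, hxΩ, hxp, hxns, hx⟩ := exists_unip_elt h2 Q hQ d hd hκ μ hle hbig Y hY hYμ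
    refine ⟨x, hxΩ, hxp, hxns, ?_⟩
    intro W hWm hWnd hinv
    obtain ⟨ν, hνle, hνsum, hνpar⟩ := hx m W hWm hWnd hinv
    have := sum_mod_four ν a (d - a) hao hνle hνpar (by rw [hνsum]; exact hmo)
    rw [hνsum] at this
    exact ham this.symm

end pcase

end Cfsg.Agent.Helper13.OrthNi
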