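import Mathlib
import Cfsg.Agent.Lib.Helper13.OrthNi5

set_option autoImplicit false
set_option linter.unusedSectionVars false

/-!
# Invariant odd-dimensional nondegenerate subspaces in an isometry class: assembling the cases
-/

namespace Cfsg.Agent.Helper13.OrthNi

open Polynomial Module QuadraticMap Matrix Cfsg.Agent.Helper13.OrthSS Cfsg.Agent.Helper13
  Cfsg.Agent.Helper17.Spinor Cfsg.Agent.Helper13.OrthTs Cfsg.Agent.Helper13.OrthTy
  Cfsg.Agent.Helper13.OrthNd Cfsg.Agent.Helper13.OrthJp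
open scoped Classical

universe u

section conv
variable {F : Type u} [Field F] {κ : Type} [Fintype κ] [DecidableEq κ]
  (Q : QuadraticForm F (κ → F))

/-- the statement-level description of the isometry class -/
theorem stmt_iso_iff (W₀ W : Submodule F (κ → F)) (m : ℕ)
    (hW₀ : finrank F W₀ = m ∧ Cfsg.Geo.IsNondegenerateOn (polar (⇑Q)) W₀) :
    (finrank F W = m ∧ Cfsg.Geo.IsNondegenerateOn (polar (⇑Q)) W ∧
      Cfsg.Geo.AreIsometricFor (⇑Q) W W₀) ↔ IsIsoTo Q (Q.comp W₀.subtype) W := by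
  have hQM := nondeg_comp_of_nondegOn Q W₀ hW₀.2
  constructor
  · rintro ⟨-, -, ⟨e, he⟩⟩
    refine ⟨e.symm, ?_⟩
    intro z
    have := he (e.symm z)
    rw [e.apply_symm_apply] at this
    exact this.symm
  · intro h
    refine ⟨?_, ?_, ?_⟩
    · rw [h.finrank_eq Q (Q.comp W₀.subtype), hW₀.1]
    · exact nondegOn_of_nondeg_comp Q W (h.nondeg Q (Q.comp W₀.subtype) hQM)
    · obtain ⟨e, he⟩ := h
      refine ⟨e.symm, ?_⟩
      intro w
      have := he (e.symm w)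
      rw [e.apply_symm_apply] at this
      exact this.symm

end conv

section gen
variable {F : Type u} [Field F] [Fintype F] {p : ℕ} [Fact p.Prime] [CharP F p] {q : ℕ}
  {κ : Type} [Fintype κ] [DecidableEq κ]

/-- the general criterion, all primes -/
theorem gen_iso (hF : Fintype.card F = q) (h2 : (2 : F) ≠ 0) (Q : QuadraticForm F (κ → F))
    (hQ : (polarBilin Q).Nondegenerate) (d m : ℕ) (hκ : Fintype.card κ = 2 * d) (hd : 3 ≤ d)
    (hmo : Odd m) (hmd : m < d) (W₀ : Submodule F (κ → F))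
    (hW₀ : finrank F W₀ = m ∧ Cfsg.Geo.IsNondegenerateOn (polar (⇑Q)) W₀)
    (r : ℕ) (hr : r.Prime)
    (hrΩ : r ∣ Nat.card {W : Submodule F (κ → F) // finrank F W = m ∧
      Cfsg.Geo.IsNondegenerateOn (polar (⇑Q)) W ∧ Cfsg.Geo.AreIsometricFor (⇑Q) W W₀})
    (i c : ℕ) (hi : i = orderOf (q : ZMod r)) (hc : c = if Even i then i else 2 * i)
    (hgood : r ≠ p ∨ Odd d ∨ IsHyp Q) :
    (∀ x : GL κ F, x ∈ Cfsg.Geo.omegaGL (⇑Q) →
      (∃ z : F, ((x ^ r : GL κ F) : Matrix κ κ F) = z • (1 : Matrix κ κ F)) →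
      (∀ z : F, (x : Matrix κ κ F) ≠ z • (1 : Matrix κ κ F)) →
      ∃ W : Submodule F (κ → F), (finrank F W = m ∧
        Cfsg.Geo.IsNondegenerateOn (polar (⇑Q)) W ∧ Cfsg.Geo.AreIsometricFor (⇑Q) W W₀) ∧
        W.map (Matrix.toLin' (x : Matrix κ κ F)) ≤ W) ↔
    ((r = 2 ∧ ¬ ∃ h : ↥(Cfsg.isometryGroup F (⇑Q)), h ∈ Cfsg.Omega F (⇑Q) ∧
        toEnd Q h * toEnd Q h = -1) ∨
     (r ≠ p ∧ 2 < r ∧ (((2 * d) % c = 0 ∧ ¬ ((Odd i ∨ Even ((2 * d) / i)) ↔ IsHyp Q)) ∨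
        (c ≤ m ∧ m % c < (2 * d) % c)))) := by
  have hp2 : p ≠ 2 := p_ne_two_of (F := F) h2
  have hQM := nondeg_comp_of_nondegOn Q W₀ hW₀.2
  have hMfin : finrank F W₀ = m := hW₀.1
  -- rewrite in terms of `IsIsoTo`
  have hLHS : (∀ x : GL κ F, x ∈ Cfsg.Geo.omegaGL (⇑Q) →
      (∃ z : F, ((x ^ r : GL κ F) : Matrix κ κ F) = z • (1 : Matrix κ κ F)) →
      (∀ z : F, (x : Matrix κ κ F) ≠ z • (1 : Matrix κ κ F)) →
      ∃ W : Submodule F (κ → F), (finrank F W = m ∧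
        Cfsg.Geo.IsNondegenerateOn (polar (⇑Q)) W ∧ Cfsg.Geo.AreIsometricFor (⇑Q) W W₀) ∧
        W.map (Matrix.toLin' (x : Matrix κ κ F)) ≤ W) ↔
      (∀ x : GL κ F, x ∈ Cfsg.Geo.omegaGL (⇑Q) →
      (∃ z : F, ((x ^ r : GL κ F) : Matrix κ κ F) = z • (1 : Matrix κ κ F)) →
      (∀ z : F, (x : Matrix κ κ F) ≠ z • (1 : Matrix κ κ F)) →
      ∃ W : Submodule F (κ → F), IsIsoTo Q (Q.comp W₀.subtype) W ∧
        W.map (Matrix.toLin' (x : Matrix κ κ F)) ≤ W) := by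
    constructor
    · intro hall x h1 h3 h4
      obtain ⟨W, hW, hinv⟩ := hall x h1 h3 h4
      exact ⟨W, (stmt_iso_iff Q W₀ W m hW₀).1 hW, hinv⟩
    · intro hall x h1 h3 h4
      obtain ⟨W, hW, hinv⟩ := hall x h1 h3 h4
      exact ⟨W, (stmt_iso_iff Q W₀ W m hW₀).2 hW, hinv⟩
  rw [hLHS]
  have hrΩ' : r ∣ Nat.card (IsoSub Q (Q.comp W₀.subtype)) := by
    have h3 : Nat.card (IsoSub Q (Q.comp W₀.subtype)) =
        Nat.card {W : Submodule F (κ → F) // finrank F W = m ∧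
          Cfsg.Geo.IsNondegenerateOn (polar (⇑Q)) W ∧
          Cfsg.Geo.AreIsometricFor (⇑Q) W W₀} := by
      apply Nat.card_congr
      exact Equiv.subtypeEquivRight (fun W => (stmt_iso_iff Q W₀ W m hW₀).symm)
    rw [h3]
    exact hrΩ
  by_cases hr2 : r = 2
  · subst hr2
    rw [two_iso Q h2 hQ d m hκ hd hmo hmd (Q.comp W₀.subtype) hQM hMfin]
    constructor
    · intro h
      exact Or.inl ⟨rfl, h⟩
    · rintro (⟨-, h⟩ | ⟨-, h, -⟩)
      · exact h
      · omega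
  have hr2' : 2 < r := by
    have := hr.two_le
    omega
  by_cases hrp : r = p
  · subst hrp
    have hgood' : Odd d ∨ IsHyp Q := by
      rcases hgood with h | h
      · exact absurd rfl h
      · exact h
    constructor
    · intro hall
      exfalso
      obtain ⟨x, hxΩ, hxp, hxns, hx⟩ := p_iso (p := r) h2 Q hQ d m hd hκ hmo hgood'
      obtain ⟨W, hW, hinv⟩ := hall x hxΩ ⟨1, by rw [hxp, one_smul]; rfl⟩ hxns
      have hW' := (stmt_iso_iff Q W₀ W m hW₀).2 hW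
      exact hx W hW'.1 hW'.2.1 hinv
    · rintro (⟨h, -⟩ | ⟨h, -⟩)
      · exact absurd h hr2
      · exact absurd rfl h
  · constructor
    · intro hall
      right
      exact ⟨hrp, hr2', iso_nec hF hr hr2 hrp h2 Q hQ d m hκ hd hmo hmd (Q.comp W₀.subtype) hQM
        hMfin hrΩ' i c hi hc hall⟩
    · rintro (⟨h, -⟩ | ⟨-, -, hcrit⟩)
      · exact absurd h hr2
      · intro x hxmem hxz _
        exact iso_suff hF hr hr2 hrp h2 Q hQ d m hκ hd hmo hmd (Q.comp W₀.subtype) hQM hMfin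
          i c hi hc hcrit x hxmem hxz

end gen

section arith

theorem mod_odd_of_even (m c : ℕ) (hm : Odd m) (hc : Even c) : 0 < m % c := by
  by_contra h0
  have h1 : m % c = 0 := by omega
  obtain ⟨k, hk⟩ := Nat.dvd_of_mod_eq_zero h1
  obtain ⟨c', hc'⟩ := hc
  obtain ⟨m', hm'⟩ := hm
  have : m = 2 * (c' * k) := by
    rw [hk, hc']
    ring
  omega

/-- the criterion in the hyperbolic case -/
theorem crit_plus (r p i c m n : ℕ) (hm : Odd m)
    (hc : c = if Even i then i else 2 * i) :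
    (r ≠ p ∧ 2 < r ∧ ((n % c = 0 ∧ ¬ ((Odd i ∨ Even (n / i)) ↔ True)) ∨
        (c ≤ m ∧ m % c < n % c))) ↔
    ((r ≠ p ∧ 2 < r ∧ Odd i ∧ c ≤ m ∧ 0 < m % c ∧ m % c < n % c) ∨
     (r ≠ p ∧ 2 < r ∧ Even i ∧ ((n % c = 0 ∧ Odd (n / i)) ∨
        (i ≤ m ∧ 0 < m % c ∧ m % c < n % c)))) := by
  rcases Nat.even_or_odd i with hie | hio
  · have hci : c = i := by rw [hc, if_pos hie]
    have hno : ¬ Odd i := Nat.not_odd_iff_even.2 hie
    have hpos : 0 < m % c := mod_odd_of_even m c hm (by rw [hci]; exact hie)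
    constructor
    · rintro ⟨h1, h3, h4⟩
      right
      refine ⟨h1, h3, hie, ?_⟩
      rcases h4 with ⟨h5, h6⟩ | ⟨h5, h6⟩
      · left
        refine ⟨h5, ?_⟩
        rw [← Nat.not_even_iff_odd]
        intro hev
        exact h6 ⟨fun _ => trivial, fun _ => Or.inr hev⟩
      · right
        exact ⟨by omega, hpos, h6⟩
    · rintro (⟨-, -, h, -⟩ | ⟨h1, h3, -, h4⟩)
      · exact absurd h hno
      · refine ⟨h1, h3, ?_⟩
        rcases h4 with ⟨h5, h6⟩ | ⟨h5, -, h6⟩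
        · left
          refine ⟨h5, ?_⟩
          intro h7
          rcases h7.2 trivial with h8 | h8
          · exact hno h8
          · exact (Nat.not_even_iff_odd.2 h6) h8
        · right
          exact ⟨by omega, h6⟩
  · have hne : ¬ Even i := Nat.not_even_iff_odd.2 hio
    have hci : c = 2 * i := by rw [hc, if_neg hne]
    have hpos : 0 < m % c := mod_odd_of_even m c hm (by rw [hci]; exact even_two_mul i)
    constructor
    · rintro ⟨h1, h3, h4⟩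
      left
      rcases h4 with ⟨-, h6⟩ | ⟨h5, h6⟩
      · exact absurd ⟨fun _ => trivial, fun _ => Or.inl hio⟩ h6
      · exact ⟨h1, h3, hio, h5, hpos, h6⟩
    · rintro (⟨h1, h3, -, h5, -, h6⟩ | ⟨-, -, h, -⟩)
      · exact ⟨h1, h3, Or.inr ⟨h5, h6⟩⟩
      · exact absurd h hne

/-- the criterion in the elliptic case -/
theorem crit_minus (r p i c m n : ℕ) (hm : Odd m)
    (hc : c = if Even i then i else 2 * i) :
    (r ≠ p ∧ 2 < r ∧ ((n % c = 0 ∧ ¬ ((Odd i ∨ Even (n / i)) ↔ False)) ∨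
        (c ≤ m ∧ m % c < n % c))) ↔
    ((r ≠ p ∧ 2 < r ∧ Odd i ∧ (n % c = 0 ∨ (c ≤ m ∧ 0 < m % c ∧ m % c < n % c))) ∨
     (r ≠ p ∧ 2 < r ∧ Even i ∧ ((n % c = 0 ∧ Even (n / i)) ∨
        (0 < n % c ∧ i ≤ m ∧ 0 < m % c ∧ m % c < n % c)))) := by
  rcases Nat.even_or_odd i with hie | hio
  · have hci : c = i := by rw [hc, if_pos hie]
    have hno : ¬ Odd i := Nat.not_odd_iff_even.2 hie
    have hpos : 0 < m % c := mod_odd_of_even m c hm (by rw [hci]; exact hie)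
    constructor
    · rintro ⟨h1, h3, h4⟩
      right
      refine ⟨h1, h3, hie, ?_⟩
      rcases h4 with ⟨h5, h6⟩ | ⟨h5, h6⟩
      · left
        refine ⟨h5, ?_⟩
        by_contra hev
        apply h6
        constructor
        · rintro (h7 | h7)
          · exact hno h7
          · exact hev h7
        · intro hf
          exact hf.elim
      · right
        exact ⟨by omega, by omega, hpos, h6⟩
    · rintro (⟨-, -, h, -⟩ | ⟨h1, h3, -, h4⟩)
      · exact absurd h hno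
      · refine ⟨h1, h3, ?_⟩
        rcases h4 with ⟨h5, h6⟩ | ⟨-, h5, -, h6⟩
        · left
          refine ⟨h5, ?_⟩
          intro h7
          exact h7.1 (Or.inr h6)
        · right
          exact ⟨by omega, h6⟩
  · have hne : ¬ Even i := Nat.not_even_iff_odd.2 hio
    have hci : c = 2 * i := by rw [hc, if_neg hne]
    have hpos : 0 < m % c := mod_odd_of_even m c hm (by rw [hci]; exact even_two_mul i)
    constructor
    · rintro ⟨h1, h3, h4⟩
      left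
      refine ⟨h1, h3, hio, ?_⟩
      rcases h4 with ⟨h5, -⟩ | ⟨h5, h6⟩
      · exact Or.inl h5
      · exact Or.inr ⟨h5, hpos, h6⟩
    · rintro (⟨h1, h3, -, h4⟩ | ⟨-, -, h, -⟩)
      · refine ⟨h1, h3, ?_⟩
        rcases h4 with h5 | ⟨h5, -, h6⟩
        · left
          refine ⟨h5, ?_⟩
          intro h7
          exact h7.1 (Or.inl hio)
        · exact Or.inr ⟨h5, h6⟩
      · exact absurd h hne

end arith

section stmts
variable {F : Type u} [Field F] [Fintype F] {p : ℕ} [Fact p.Prime] [CharP F p]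

theorem plus_iso_stmt {q : ℕ} (hq : Fintype.card F = q)
    (hodd : Odd q) (d m : ℕ) (hd : 4 ≤ d) (hm : Odd m) (hmd : m < d)
    (W₀ : Submodule F (Fin d ⊕ Fin d → F)) (hW₀ : Module.finrank F ↥W₀ = m ∧ Cfsg.Geo.IsNondegenerateOn (QuadraticMap.polar (Cfsg.quadFormPlus d F)) W₀)
    (r : ℕ) [Fact r.Prime]
    (hrΩ : r ∣ Nat.card {W : Submodule F (Fin d ⊕ Fin d → F) // Module.finrank F ↥W = m ∧ Cfsg.Geo.IsNondegenerateOn (QuadraticMap.polar (Cfsg.quadFormPlus d F)) W ∧ Cfsg.Geo.AreIsometricFor (Cfsg.quadFormPlus d F) W W₀})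
    (i c : ℕ) (hi : i = orderOf (q : ZMod r)) (hc : c = if Even i then i else 2 * i) :
    (∀ x : GL (Fin d ⊕ Fin d) F, x ∈ Cfsg.Geo.omegaGL (Cfsg.quadFormPlus d F) →
      (∃ z : F, ((x ^ r : GL (Fin d ⊕ Fin d) F) : Matrix (Fin d ⊕ Fin d) (Fin d ⊕ Fin d) F) = z • (1 : Matrix (Fin d ⊕ Fin d) (Fin d ⊕ Fin d) F)) →
      (∀ z : F, (x : Matrix (Fin d ⊕ Fin d) (Fin d ⊕ Fin d) F) ≠ z • (1 : Matrix (Fin d ⊕ Fin d) (Fin d ⊕ Fin d) F)) →
      ∃ W : Submodule F (Fin d ⊕ Fin d → F), (Module.finrank F ↥W = m ∧ Cfsg.Geo.IsNondegenerateOn (QuadraticMap.polar (Cfsg.quadFormPlus d F)) W ∧ Cfsg.Geo.AreIsometricFor (Cfsg.quadFormPlus d F) W W₀) ∧ W.map (Matrix.toLin' (x : Matrix (Fin d ⊕ Fin d) (Fin d ⊕ Fin d) F)) ≤ W) ↔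
    ((r = 2 ∧ Odd d ∧ q % 8 ≠ 1) ∨
     (r ≠ p ∧ 2 < r ∧ Odd i ∧ c ≤ m ∧ 0 < m % c ∧ m % c < (2 * d) % c) ∨
     (r ≠ p ∧ 2 < r ∧ Even i ∧ (((2 * d) % c = 0 ∧ Odd ((2 * d) / i)) ∨ (i ≤ m ∧ 0 < m % c ∧ m % c < (2 * d) % c)))) := by
  have hr : r.Prime := Fact.out
  have h2 : (2 : F) ≠ 0 := two_ne_zero_of_odd hq hodd
  rw [Cfsg.Agent.Helper2.Orth.quadFormPlus_eq d] at hrΩ hW₀ ⊢
  have hQ := Cfsg.Agent.Helper2.Orth.nondeg_plus (F := F) d
  have hH : IsHyp (matQ (plusMat d F)) := isHyp_plusMat d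
  have hκ : Fintype.card (Fin d ⊕ Fin d) = 2 * d := by
    rw [Fintype.card_sum, Fintype.card_fin]
    ring
  rw [gen_iso hq h2 _ hQ d m hκ (by omega) hm hmd W₀ hW₀ r hr hrΩ i c hi hc
    (Or.inr (Or.inr hH)), cplx_plus_iff _ hq h2 hQ d hκ hH]
  have hcrit := crit_plus r p i c m (2 * d) hm hc
  have e1 : ((Odd i ∨ Even ((2 * d) / i)) ↔
      IsHyp (matQ (plusMat d F))) ↔
      ((Odd i ∨ Even ((2 * d) / i)) ↔ True) := by
    constructor
    · intro h
      exact ⟨fun _ => trivial, fun _ => h.2 hH⟩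
    · intro h
      exact ⟨fun _ => hH, fun _ => h.2 trivial⟩
  rw [e1, hcrit]

end stmts

end Cfsg.Agent.Helper13.OrthNi
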