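import Mathlib
import Cfsg.Agent.Lib.Helper13.OrthNi6

set_option autoImplicit false
set_option linter.unusedSectionVars false

/-!
# Even-dimensional nondegenerate subspaces of even-dimensional quadratic spaces (any
characteristic): models, Witt's theorem, counting
-/

namespace Cfsg.Agent.Helper13.OrthNe

open Polynomial Module QuadraticMap Matrix Cfsg.Agent.Helper13.SS Cfsg.Agent.Helper13.Dual
  Cfsg.Agent.Helper13.SympSS Cfsg.Agent.Helper13.SpDec Cfsg.Agent.Helper13.SlDec
  Cfsg.Agent.Helper13.SpTi Cfsg.Agent.Helper13.OrthSS Cfsg.Agent.Helper13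
  Cfsg.Agent.Helper13.OrthTs Cfsg.Agent.Helper13.OrthTy Cfsg.Agent.Helper13.HermSS
  Cfsg.Agent.Helper13.OrthNd
open scoped Classical

universe u

section model
variable {F : Type u} [Field F] [Fintype F] {T : Type u} [AddCommGroup T] [Module F T]
  [FiniteDimensional F T]

/-- a nondegenerate even-dimensional space is an orthogonal summand of any even-dimensional
nondegenerate space which is large enough (or of the same dimension and type) -/
theorem exists_model_iso_typed {V' : Type u} [AddCommGroup V'] [Module F V']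
    [FiniteDimensional F V'] (Q' : QuadraticForm F V') (hQ' : (polarBilin Q').Nondegenerate)
    (hV'ev : Even (finrank F V')) (S : QuadraticForm F T) (hS : (polarBilin S).Nondegenerate)
    (hTev : Even (finrank F T)) (hle : finrank F V' ≤ finrank F T)
    (htype : finrank F V' = finrank F T → (IsHyp Q' ↔ IsHyp S)) :
    ∃ (U : Type u) (_ : AddCommGroup U) (_ : Module F U) (_ : FiniteDimensional F U)
      (QU : QuadraticForm F U) (Φ : (V' × U) ≃ₗ[F] T),
      (polarBilin QU).Nondegenerate ∧ finrank F U = finrank F T - finrank F V' ∧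
      (IsHyp QU ↔ (IsHyp Q' ↔ IsHyp S)) ∧ ∀ z, S (Φ z) = QuadraticMap.prod Q' QU z := by
  have huev : Even (finrank F T - finrank F V') := by
    rw [Nat.even_sub hle]
    exact iff_of_true hTev hV'ev
  obtain ⟨U, i1, i2, i3, QU, hQU, hUfin, hUt⟩ := exists_space_of_type (F := F)
    (finrank F T - finrank F V') huev (IsHyp Q' ↔ IsHyp S) (fun h0 => htype (by omega))
  set QP : QuadraticForm F (V' × U) := QuadraticMap.prod Q' QU with hQP
  have hQPnd : (polarBilin QP).Nondegenerate := nondeg_prod Q' QU hQ' hQU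
  have hdim : finrank F (V' × U) = finrank F T := by
    rw [Module.finrank_prod, hUfin]
    omega
  have htyp : IsHyp QP ↔ IsHyp S := by
    rw [hQP, isHyp_prod_iff Q' QU hQ' hQU hV'ev (hUfin ▸ huev), hUt]
    by_cases h1 : IsHyp Q' <;> by_cases h2 : IsHyp S <;> simp [h1, h2]
  obtain ⟨e, he⟩ := equiv_of_type QP S hQPnd hS hdim (by rw [hdim]; exact hTev) htyp
  exact ⟨U, i1, i2, i3, QU, e, hQU, hUfin, hUt, fun z => he z⟩

/-- isometric embeddings of even-dimensional nondegenerate spaces -/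
theorem exists_embedding_typed {M : Type u} [AddCommGroup M] [Module F M]
    [FiniteDimensional F M] (QM : QuadraticForm F M) (hQM : (polarBilin QM).Nondegenerate)
    (hMev : Even (finrank F M)) (S : QuadraticForm F T) (hS : (polarBilin S).Nondegenerate)
    (hTev : Even (finrank F T)) (hle : finrank F M ≤ finrank F T)
    (htype : finrank F M = finrank F T → (IsHyp QM ↔ IsHyp S)) :
    ∃ f : M →ₗ[F] T, Function.Injective f ∧ ∀ z, S (f z) = QM z := by
  obtain ⟨U, i1, i2, i3, QU, Φ, -, -, -, hΦ⟩ :=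
    exists_model_iso_typed QM hQM hMev S hS hTev hle htype
  refine ⟨(Φ : (M × U) →ₗ[F] T) ∘ₗ LinearMap.inl F M U, ?_, ?_⟩
  · intro a b hab
    have h1 : Φ (a, 0) = Φ (b, 0) := hab
    exact congrArg Prod.fst (Φ.injective h1)
  · intro z
    show S (Φ (z, 0)) = QM z
    rw [hΦ, QuadraticMap.prod_apply, map_zero, add_zero]

end model

theorem prop_cancel (a b b' c c' : Prop) (h1 : a ↔ (b ↔ c)) (h2 : a ↔ (b' ↔ c'))
    (h3 : b ↔ b') : c ↔ c' := by
  tauto

section witt
variable {F : Type u} [Field F] [Fintype F] {U : Type u} [AddCommGroup U] [Module F U]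
  [FiniteDimensional F U] (QU : QuadraticForm F U)

/-- the type of the orthogonal complement of a nondegenerate even-dimensional subspace -/
theorem isHyp_orth_iff (hQU : (polarBilin QU).Nondegenerate) (hUev : Even (finrank F U))
    (W : Submodule F U) (hW : (polarBilin (QU.comp W.subtype)).Nondegenerate)
    (hWev : Even (finrank F W)) :
    Even (finrank F ↥(LinearMap.BilinForm.orthogonal (polarBilin QU) W)) ∧
    (IsHyp QU ↔ (IsHyp (QU.comp W.subtype) ↔
      IsHyp (QU.comp (LinearMap.BilinForm.orthogonal (polarBilin QU) W).subtype))) := by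
  have hc := isCompl_orth QU W hW
  have hndC := nondeg_orth QU hQU W hW
  have hCev : Even (finrank F ↥(LinearMap.BilinForm.orthogonal (polarBilin QU) W)) := by
    have h1 := Submodule.finrank_add_eq_of_isCompl hc
    obtain ⟨a, ha⟩ := hUev
    obtain ⟨b, hb⟩ := hWev
    exact ⟨a - b, by omega⟩
  refine ⟨hCev, ?_⟩
  rw [← isHyp_prod_iff _ _ hW hndC hWev hCev]
  exact (isHyp_iff_of_equiv (Submodule.prodEquivOfIsCompl W _ hc)
    (fun z => apply_prodEquiv QU W hc z)).symm

/-- Witt's theorem for nondegenerate subspaces of even dimension, any characteristic -/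
theorem exists_isometry_map_even (hQU : (polarBilin QU).Nondegenerate)
    (hUev : Even (finrank F U))
    (W W' : Submodule F U) (hW : (polarBilin (QU.comp W.subtype)).Nondegenerate)
    (hW' : (polarBilin (QU.comp W'.subtype)).Nondegenerate) (hWev : Even (finrank F W))
    (e₁ : W ≃ₗ[F] W') (he₁ : ∀ w, QU ((e₁ w : W') : U) = QU (w : U)) :
    ∃ g : U ≃ₗ[F] U, (∀ v, QU (g v) = QU v) ∧ W.map (g : U →ₗ[F] U) = W' := by
  classical
  set C := LinearMap.BilinForm.orthogonal (polarBilin QU) W with hC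
  set C' := LinearMap.BilinForm.orthogonal (polarBilin QU) W' with hC'
  have hc : IsCompl W C := isCompl_orth QU W hW
  have hc' : IsCompl W' C' := isCompl_orth QU W' hW'
  have hndC : (polarBilin (QU.comp C.subtype)).Nondegenerate := nondeg_orth QU hQU W hW
  have hndC' : (polarBilin (QU.comp C'.subtype)).Nondegenerate := nondeg_orth QU hQU W' hW'
  set Φ := Submodule.prodEquivOfIsCompl W C hc with hΦ
  set Φ' := Submodule.prodEquivOfIsCompl W' C' hc' with hΦ'
  have hΦQ : ∀ z, QU (Φ z) = (QuadraticMap.prod (QU.comp W.subtype) (QU.comp C.subtype)) z :=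
    apply_prodEquiv QU W hc
  have hΦ'Q : ∀ z, QU (Φ' z) = (QuadraticMap.prod (QU.comp W'.subtype) (QU.comp C'.subtype)) z :=
    apply_prodEquiv QU W' hc'
  have hdimW : finrank F W = finrank F W' := e₁.finrank_eq
  have hW'ev : Even (finrank F W') := hdimW ▸ hWev
  have hdimC : finrank F C = finrank F C' := by
    have h1 := Submodule.finrank_add_eq_of_isCompl hc
    have h3 := Submodule.finrank_add_eq_of_isCompl hc'
    omega
  obtain ⟨hCev, hT⟩ := isHyp_orth_iff QU hQU hUev W hW hWev
  obtain ⟨-, hT'⟩ := isHyp_orth_iff QU hQU hUev W' hW' hW'ev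
  have hWW' : IsHyp (QU.comp W.subtype) ↔ IsHyp (QU.comp W'.subtype) :=
    isHyp_iff_of_equiv e₁ (fun w => he₁ w)
  have hCC' : IsHyp (QU.comp C.subtype) ↔ IsHyp (QU.comp C'.subtype) :=
    prop_cancel _ _ _ _ _ hT hT' hWW'
  obtain ⟨e₂, he₂⟩ := equiv_of_type (QU.comp C.subtype) (QU.comp C'.subtype) hndC hndC' hdimC
    hCev hCC'
  refine ⟨Φ.symm.trans ((e₁.prodCongr e₂).trans Φ'), ?_, ?_⟩
  · intro v
    show QU (Φ' ((e₁.prodCongr e₂) (Φ.symm v))) = QU v
    have hv : v = Φ (Φ.symm v) := (Φ.apply_symm_apply v).symm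
    conv_rhs => rw [hv]
    rw [hΦ'Q, hΦQ, QuadraticMap.prod_apply, QuadraticMap.prod_apply]
    congr 1
    · exact he₁ _
    · exact he₂ _
  · apply le_antisymm
    · rintro _ ⟨w, hw, rfl⟩
      show Φ' ((e₁.prodCongr e₂) (Φ.symm w)) ∈ W'
      have h1 : Φ.symm w = ((⟨w, hw⟩ : W), 0) :=
        Submodule.prodEquivOfIsCompl_symm_apply_left W C hc ⟨w, hw⟩
      rw [h1]
      show Φ' (e₁ ⟨w, hw⟩, e₂ 0) ∈ W'
      rw [map_zero, Submodule.coe_prodEquivOfIsCompl']
      simp
    · intro w' hw'
      refine ⟨((e₁.symm ⟨w', hw'⟩ : W) : U), (e₁.symm ⟨w', hw'⟩).2, ?_⟩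
      show Φ' ((e₁.prodCongr e₂) (Φ.symm ((e₁.symm ⟨w', hw'⟩ : W) : U))) = w'
      have h1 : Φ.symm ((e₁.symm ⟨w', hw'⟩ : W) : U) = (e₁.symm ⟨w', hw'⟩, 0) :=
        Submodule.prodEquivOfIsCompl_symm_apply_left W C hc _
      rw [h1]
      show Φ' (e₁ (e₁.symm ⟨w', hw'⟩), e₂ 0) = w'
      rw [map_zero, e₁.apply_symm_apply, Submodule.coe_prodEquivOfIsCompl']
      simp

/-- the number of nondegenerate subspaces of a given type divides the order of the isometry
group (even dimensions, any characteristic) -/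
theorem card_ndsub_dvd_even (hQU : (polarBilin QU).Nondegenerate) (hUev : Even (finrank F U))
    (m : ℕ) (hme : Even m) (τ : Prop) (W₀ : NdSub QU m τ) :
    Nat.card (NdSub QU m τ) ∣ Nat.card (isoGroup QU) := by
  haveI : Finite (U ≃ₗ[F] U) := finite_linearEquiv
  letI act : MulAction (isoGroup QU) (Submodule F U) :=
    { smul := fun g S => S.map ((g : U ≃ₗ[F] U) : U →ₗ[F] U)
      one_smul := fun S => by
        show S.map ((1 : U ≃ₗ[F] U) : U →ₗ[F] U) = S
        exact Submodule.map_id S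
      mul_smul := fun g h S => by
        show S.map (((g * h : isoGroup QU) : U ≃ₗ[F] U) : U →ₗ[F] U) =
          (S.map ((h : U ≃ₗ[F] U) : U →ₗ[F] U)).map ((g : U ≃ₗ[F] U) : U →ₗ[F] U)
        rw [← Submodule.map_comp]
        rfl }
  have horb : ∀ S : Submodule F U, S ∈ MulAction.orbit (isoGroup QU) W₀.1 ↔
      (finrank F S = m ∧ (polarBilin (QU.comp S.subtype)).Nondegenerate ∧
        (IsHyp (QU.comp S.subtype) ↔ τ)) := by
    intro S
    constructor
    · rintro ⟨g, rfl⟩
      exact ndsub_map QU g.1 g.2 m τ W₀.1 W₀.2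
    · rintro ⟨h1, h3, h4⟩
      obtain ⟨g1, g3, g4⟩ := W₀.2
      obtain ⟨e₁, he₁⟩ := equiv_of_type (QU.comp W₀.1.subtype) (QU.comp S.subtype) g3 h3
        (by rw [g1, h1]) (by rw [g1]; exact hme) (by rw [g4, h4])
      obtain ⟨g, hgQ, hgW⟩ := exists_isometry_map_even QU hQU hUev W₀.1 S g3 h3
        (by rw [g1]; exact hme) e₁ (fun w => he₁ w)
      exact ⟨⟨g, hgQ⟩, hgW⟩
  have hcard : Nat.card (NdSub QU m τ) = Nat.card (MulAction.orbit (isoGroup QU) W₀.1) := by
    apply Nat.card_congr
    exact Equiv.subtypeEquivRight (fun S => (horb S).symm)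
  rw [hcard]
  have h5 := Nat.card_congr (MulAction.orbitProdStabilizerEquivGroup (isoGroup QU) W₀.1)
  rw [Nat.card_prod] at h5
  exact ⟨_, h5.symm⟩

end witt

end Cfsg.Agent.Helper13.OrthNe
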