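import Mathlib
import Cfsg.Agent.Lib.Helper13.OrthNi6

set_option autoImplicit false
set_option linter.unusedSectionVars false

/-!
# The discriminant class of a quadratic space, and spaces that are a line plus a hyperbolic space
-/

namespace Cfsg.Agent.Helper13.OrthNi

open Module QuadraticMap Matrix Cfsg.Agent.Helper13.OrthSS Cfsg.Agent.Helper13
  Cfsg.Agent.Helper13.OrthTs Cfsg.Agent.Helper13.OrthTy Cfsg.Agent.Helper13.OrthNd
  Cfsg.Agent.Helper13.OrthJp
open scoped Classical

universe u

section disc
variable {F : Type u} [Field F] {V : Type*} [AddCommGroup V] [Module F V] [FiniteDimensional F V]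

/-- the discriminant (computed in the standard basis) is a square -/
def SqDisc (Q : QuadraticForm F V) : Prop :=
  IsSquare (Matrix.of fun i j =>
    polar Q (Module.finBasis F V i) (Module.finBasis F V j)).det

theorem isSquare_gram_of_basis (Q : QuadraticForm F V) {ι ι' : Type*} [Fintype ι] [DecidableEq ι]
    [Fintype ι'] [DecidableEq ι'] (b : Module.Basis ι F V) (c : Module.Basis ι' F V)
    (h : IsSquare (Matrix.of fun i j => polar Q (b i) (b j)).det) :
    IsSquare (Matrix.of fun i j => polar Q (c i) (c j)).det := by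
  have hcard : Fintype.card ι = Fintype.card ι' := by
    rw [← Module.finrank_eq_card_basis b, ← Module.finrank_eq_card_basis c]
  set e : ι ≃ ι' := Fintype.equivOfCardEq hcard with he
  have h1 := gram_det_basis Q (b.reindex e) c
  rw [gram_det_reindex] at h1
  rw [h1]
  obtain ⟨s, hs⟩ := h
  exact ⟨((b.reindex e).toMatrix c).det * s, by rw [hs]; ring⟩

theorem sqDisc_iff (Q : QuadraticForm F V) {ι : Type*} [Fintype ι] [DecidableEq ι]
    (b : Module.Basis ι F V) :
    SqDisc Q ↔ IsSquare (Matrix.of fun i j => polar Q (b i) (b j)).det :=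
  ⟨fun h => isSquare_gram_of_basis Q (Module.finBasis F V) b h,
    fun h => isSquare_gram_of_basis Q b (Module.finBasis F V) h⟩

theorem sqDisc_of_equiv {V' : Type*} [AddCommGroup V'] [Module F V'] [FiniteDimensional F V']
    (Q : QuadraticForm F V) (Q' : QuadraticForm F V') (e : V ≃ₗ[F] V')
    (he : ∀ v, Q' (e v) = Q v) : SqDisc Q ↔ SqDisc Q' := by
  rw [sqDisc_iff Q' ((Module.finBasis F V).map e)]
  unfold SqDisc
  have : (Matrix.of fun i j => polar Q' (((Module.finBasis F V).map e) i)
      (((Module.finBasis F V).map e) j)) =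
      Matrix.of fun i j => polar Q (Module.finBasis F V i) (Module.finBasis F V j) := by
    ext i j
    simp only [Matrix.of_apply, Module.Basis.map_apply]
    exact polar_of_embedding Q Q' e.toLinearMap (fun z => he z) _ _
  rw [this]

end disc

section fin
variable {F : Type u} [Field F] [Fintype F] {V : Type*} [AddCommGroup V] [Module F V]
  [FiniteDimensional F V]

theorem isSquare_mul_iff {a b : F} (ha : a ≠ 0) (hb : b ≠ 0) :
    IsSquare (a * b) ↔ (IsSquare a ↔ IsSquare b) := by
  by_cases hsb : IsSquare b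
  · obtain ⟨t, ht⟩ := hsb
    have ht0 : t ≠ 0 := by
      rintro rfl
      rw [mul_zero] at ht
      exact hb ht
    have e : a * b = t ^ 2 * a := by
      rw [ht]
      ring
    rw [e, isSquare_mul_sq_iff a t ht0]
    constructor
    · intro h
      exact ⟨fun _ => ⟨t, ht⟩, fun _ => h⟩
    · intro h
      exact h.2 ⟨t, ht⟩
  · rw [isSquare_mul_nonsquare ha hsb]
    constructor
    · intro h
      exact ⟨fun h' => absurd h' h, fun h' => absurd h' hsb⟩
    · intro h h'
      exact hsb (h.1 h')

theorem sqDisc_prod {V' : Type*} [AddCommGroup V'] [Module F V'] [FiniteDimensional F V']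
    (Q : QuadraticForm F V) (Q' : QuadraticForm F V') (hQ : (polarBilin Q).Nondegenerate)
    (hQ' : (polarBilin Q').Nondegenerate) :
    SqDisc (QuadraticMap.prod Q Q') ↔ (SqDisc Q ↔ SqDisc Q') := by
  rw [sqDisc_iff (QuadraticMap.prod Q Q') ((Module.finBasis F V).prod (Module.finBasis F V')),
    gram_det_prod, isSquare_mul_iff (gram_det_ne_zero Q _ hQ) (gram_det_ne_zero Q' _ hQ')]
  rfl

/-- a hyperbolic space of dimension divisible by four has square discriminant -/
theorem sqDisc_of_isHyp (h2 : (2 : F) ≠ 0) (Q : QuadraticForm F V)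
    (hQ : (polarBilin Q).Nondegenerate) (k : ℕ) (hfin : finrank F V = 2 * k) (hk : Even k)
    (hH : IsHyp Q) : SqDisc Q := by
  have h := (isHyp_iff_gram h2 Q hQ (Module.finBasis F V) k
    (by rw [Fintype.card_fin, hfin])).1 hH
  rw [hk.neg_one_pow, one_mul] at h
  exact h

/-- the discriminant of a line -/
theorem sqDisc_line (Q : QuadraticForm F V) (hfin : finrank F V = 1) (v : V) (hv : Q v ≠ 0) :
    SqDisc Q ↔ IsSquare (2 * Q v) := by
  have hv0 : v ≠ 0 := by
    rintro rfl
    exact hv (QuadraticMap.map_zero Q)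
  rw [sqDisc_iff Q (FiniteDimensional.basisSingleton (Fin 1) hfin v hv0), Matrix.det_fin_one,
    Matrix.of_apply, FiniteDimensional.basisSingleton_apply, polar_self, two_smul, two_mul]

end fin

section linehyp
variable {F : Type u} [Field F] [Fintype F] {U : Type u} [AddCommGroup U] [Module F U]
  [FiniteDimensional F U]

/-- a nondegenerate space of dimension `4j+1` containing a nonsingular vector orthogonal to a
totally singular subspace of dimension `2j` -/
theorem sqDisc_of_line_hyp (h2 : (2 : F) ≠ 0) (QU : QuadraticForm F U)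
    (hQU : (polarBilin QU).Nondegenerate) (j : ℕ) (hfin : finrank F U = 4 * j + 1)
    (k : U) (hk : QU k ≠ 0) (I : Submodule F U) (hI : ∀ x ∈ I, QU x = 0)
    (hIk : ∀ x ∈ I, polar QU k x = 0) (hIfin : finrank F I = 2 * j) :
    SqDisc QU ↔ IsSquare (2 * QU k) := by
  have hk0 : k ≠ 0 := by
    rintro rfl
    exact hk (QuadraticMap.map_zero QU)
  set L : Submodule F U := Submodule.span F {k} with hL
  have hkL : k ∈ L := Submodule.mem_span_singleton_self k
  have hLfin : finrank F L = 1 := finrank_span_singleton hk0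
  have hLnd : (polarBilin (QU.comp L.subtype)).Nondegenerate := by
    apply nondeg_of_polar
    intro x hx
    obtain ⟨c, hc⟩ := Submodule.mem_span_singleton.1 x.2
    have h1 := hx ⟨k, hkL⟩
    rw [OrthTs.polar_comp] at h1
    simp only [Submodule.subtype_apply] at h1
    rw [← hc, polar_smul_left, polar_self, smul_eq_mul, two_smul, ← two_mul] at h1
    have hc0 : c = 0 := by
      rcases mul_eq_zero.1 h1 with h | h
      · exact h
      · rcases mul_eq_zero.1 h with h' | h'
        · exact absurd h' h2
        · exact absurd h' hk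
    apply Subtype.ext
    rw [← hc, hc0, zero_smul]
    rfl
  set C := LinearMap.BilinForm.orthogonal (polarBilin QU) L with hC
  have hc : IsCompl L C := isCompl_orth QU L hLnd
  have hCnd : (polarBilin (QU.comp C.subtype)).Nondegenerate := nondeg_orth QU hQU L hLnd
  have hCfin : finrank F C = 2 * (2 * j) := by
    have := Submodule.finrank_add_eq_of_isCompl hc
    omega
  have hIC : I ≤ C := by
    intro x hx
    rw [hC, LinearMap.BilinForm.mem_orthogonal_iff]
    intro y hy
    obtain ⟨c, rfl⟩ := Submodule.mem_span_singleton.1 hy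
    show polarBilin QU (c • k) x = 0
    rw [polarBilin_apply_apply, polar_smul_left, hIk x hx, smul_zero]
  have hHyp : IsHyp (QU.comp C.subtype) := by
    refine ⟨I.comap C.subtype, ?_, ?_⟩
    · intro x hx
      exact hI _ hx
    · rw [(Submodule.comapSubtypeEquivOfLe hIC).finrank_eq, hIfin, hCfin]
  have hsC : SqDisc (QU.comp C.subtype) :=
    sqDisc_of_isHyp h2 _ hCnd (2 * j) hCfin (even_two_mul j) hHyp
  have hsL : SqDisc (QU.comp L.subtype) ↔ IsSquare (2 * QU k) :=
    sqDisc_line (QU.comp L.subtype) hLfin ⟨k, hkL⟩ hk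
  rw [← sqDisc_of_equiv _ QU (Submodule.prodEquivOfIsCompl L C hc)
    (fun z => apply_prodEquiv QU L hc z), sqDisc_prod _ _ hLnd hCnd, hsL]
  exact ⟨fun h => h.2 hsC, fun h => ⟨fun _ => hsC, fun _ => h⟩⟩

end linehyp

section typeE
variable {F : Type u} [Field F] [Fintype F] {V : Type u} [AddCommGroup V] [Module F V]
  [FiniteDimensional F V]

/-- an invariant nondegenerate subspace on which a unipotent isometry has type `(1, 2^{2j})`:
its discriminant is that of the fixed vectors -/
theorem sqDisc_of_type (h2 : (2 : F) ≠ 0) (Q : QuadraticForm F V) (X : Module.End F V)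
    (hXQ : ∀ v, Q (X v) = Q v) (U : Submodule F V) (hN1 : ∀ w ∈ U, (X - 1) w ∈ U)
    (hUnd : (polarBilin (Q.comp U.subtype)).Nondegenerate) (j : ℕ)
    (hty : HasType ((X - 1).restrict hN1) (1 ::ₘ Multiset.replicate (2 * j) 2))
    (γ : F) (hfix : ∀ u, X u = u → ∃ t : F, Q u = γ * t ^ 2) :
    SqDisc (Q.comp U.subtype) ↔ IsSquare (2 * γ) := by
  set N' : Module.End F U := (X - 1).restrict hN1 with hN'
  have hXpolar : ∀ a b, polar Q (X a) (X b) = polar Q a b := by
    intro a b
    unfold polar
    rw [← map_add, hXQ, hXQ, hXQ]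
  have hsq : N' ^ 2 = 0 := hty.pow_eq_zero 2 (by
    intro a ha
    rcases Multiset.mem_cons.1 ha with h | h
    · omega
    · rw [Multiset.eq_of_mem_replicate h])
  have hsq' : ∀ w : U, (X - 1) ((X - 1) (w : V)) = 0 := by
    intro w
    have := congrArg (fun f => ((f w : U) : V)) hsq
    simp only [pow_two, Module.End.mul_apply, hN', LinearMap.coe_restrict_apply,
      LinearMap.zero_apply, ZeroMemClass.coe_zero] at this
    exact this
  have hfin : finrank F U = 4 * j + 1 := by
    rw [← hty.sum, Multiset.sum_cons, Multiset.sum_replicate, smul_eq_mul]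
    ring
  have hrank : finrank F (LinearMap.range N') = 2 * j := by
    have h1 := hty.2 1
    rw [pow_one] at h1
    rw [h1, Multiset.map_cons, Multiset.sum_cons, Multiset.map_replicate,
      Multiset.sum_replicate, smul_eq_mul]
    omega
  have hker : finrank F (LinearMap.ker N') = 2 * j + 1 := by
    have := LinearMap.finrank_range_add_finrank_ker N'
    omega
  -- a nonsingular fixed vector
  obtain ⟨k, hkker, hk⟩ : ∃ k ∈ LinearMap.ker N', (Q.comp U.subtype) k ≠ 0 := by
    by_contra hcon
    push Not at hcon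
    have := OrthEl.two_mul_finrank_le_of_ts (Q.comp U.subtype) hUnd (LinearMap.ker N') hcon
    omega
  have hkfix : X (k : V) = (k : V) := by
    have h1 : N' k = 0 := hkker
    have h3 := congrArg (Subtype.val) h1
    rw [hN', LinearMap.coe_restrict_apply, LinearMap.sub_apply, Module.End.one_apply] at h3
    exact sub_eq_zero.1 h3
  obtain ⟨t, ht⟩ := hfix (k : V) hkfix
  have hkQ : (Q.comp U.subtype) k = γ * t ^ 2 := ht
  have ht0 : t ≠ 0 := by
    rintro rfl
    apply hk
    rw [hkQ]
    ring
  rw [sqDisc_of_line_hyp h2 (Q.comp U.subtype) hUnd j hfin k hk (LinearMap.range N') ?_ ?_ hrank,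
    hkQ]
  · have e : 2 * (γ * t ^ 2) = t ^ 2 * (2 * γ) := by ring
    rw [e, isSquare_mul_sq_iff _ _ ht0]
  · rintro _ ⟨w, rfl⟩
    show Q (((X - 1).restrict hN1 w : U) : V) = 0
    rw [LinearMap.coe_restrict_apply]
    exact ts_of_sq_zero h2 Q X hXQ (w : V) (hsq' w)
  · rintro _ ⟨w, rfl⟩
    rw [OrthTs.polar_comp]
    show polar Q (k : V) (((X - 1).restrict hN1 w : U) : V) = 0
    rw [LinearMap.coe_restrict_apply, LinearMap.sub_apply, Module.End.one_apply, polar_sub_right]
    have := hXpolar (k : V) (w : V)
    rw [hkfix] at this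
    rw [this, sub_self]

end typeE

end Cfsg.Agent.Helper13.OrthNi
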