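import Mathlib
import Cfsg.Agent.Lib.Helper13.OrthNi7
import Cfsg.Agent.Lib.Helper13.OrthNd9

set_option autoImplicit false
set_option linter.unusedSectionVars false

/-!
# A unipotent isometry of type `(1, 3, 2^{d-2})` with a prescribed class of fixed vectors
-/

namespace Cfsg.Agent.Helper13.OrthNi

open Module QuadraticMap Matrix Cfsg.Agent.Helper13.OrthSS Cfsg.Agent.Helper13
  Cfsg.Agent.Helper13.OrthTs Cfsg.Agent.Helper13.OrthTy Cfsg.Agent.Helper13.OrthNd
  Cfsg.Agent.Helper13.OrthJp
open scoped Classical

universe u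

section kerrange
variable {F : Type*} [Field F] {V : Type*} [AddCommGroup V] [Module F V] [FiniteDimensional F V]

theorem sum_sub_succ (μ : Multiset ℕ) (j : ℕ) (hall : ∀ a ∈ μ, j + 1 ≤ a) :
    (μ.map (fun a => a - j)).sum = (μ.map (fun a => a - (j + 1))).sum + Multiset.card μ := by
  induction μ using Multiset.induction_on with
  | empty => simp
  | cons a μ ih =>
    have ih' := ih (fun b hb => hall b (Multiset.mem_cons_of_mem hb))
    have ha := hall a (Multiset.mem_cons_self a μ)
    rw [Multiset.map_cons, Multiset.sum_cons, Multiset.map_cons, Multiset.sum_cons,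
      Multiset.card_cons, ih']
    omega

theorem finrank_ker_inf_range (N : Module.End F V) :
    finrank F (LinearMap.range (N ^ 2)) + finrank F ↥(LinearMap.range N ⊓ LinearMap.ker N) =
      finrank F (LinearMap.range N) := by
  set f : LinearMap.range N →ₗ[F] V := N.comp (LinearMap.range N).subtype with hf
  have h1 := LinearMap.finrank_range_add_finrank_ker f
  have h3 : LinearMap.range f = LinearMap.range (N ^ 2) := by
    rw [hf, LinearMap.range_comp, Submodule.range_subtype, pow_two, Module.End.mul_eq_comp,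
      LinearMap.range_comp]
  have h4 : finrank F (LinearMap.ker f) =
      finrank F ↥(LinearMap.range N ⊓ LinearMap.ker N) := by
    have e : (LinearMap.ker f).map (LinearMap.range N).subtype =
        LinearMap.range N ⊓ LinearMap.ker N := by
      rw [hf, LinearMap.ker_comp, Submodule.map_comap_subtype]
    rw [← e, Submodule.finrank_map_subtype_eq]
  rw [h3, h4] at h1
  exact h1

/-- if all Jordan blocks have size at least two, fixed vectors lie in the image -/
theorem ker_le_range_of_parts (N : Module.End F V) {μ : Multiset ℕ} (h : HasType N μ)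
    (hall : ∀ a ∈ μ, 2 ≤ a) : LinearMap.ker N ≤ LinearMap.range N := by
  have h0 := h.2 0
  have h1 := h.2 1
  have h2 := h.2 2
  rw [pow_one] at h1
  rw [pow_zero, Module.End.one_eq_id, LinearMap.range_id, finrank_top] at h0
  have s0 : (μ.map (fun a => a - 0)).sum = (μ.map (fun a => a - 1)).sum + Multiset.card μ :=
    sum_sub_succ μ 0 (fun a ha => by have := hall a ha; omega)
  have s1 : (μ.map (fun a => a - 1)).sum = (μ.map (fun a => a - 2)).sum + Multiset.card μ :=
    sum_sub_succ μ 1 (fun a ha => by have := hall a ha; omega)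
  have h5 := finrank_ker_inf_range N
  have h6 := LinearMap.finrank_range_add_finrank_ker N
  have hle : LinearMap.range N ⊓ LinearMap.ker N ≤ LinearMap.ker N := inf_le_right
  have heq : finrank F ↥(LinearMap.range N ⊓ LinearMap.ker N) = finrank F (LinearMap.ker N) := by
    omega
  have := Submodule.eq_of_le_of_finrank_eq hle heq
  rw [← this]
  exact inf_le_left

end kerrange

section constr
variable {F : Type u} [Field F] [Fintype F] {κ : Type} [Fintype κ] [DecidableEq κ]

theorem hasType_zero_self : HasType (0 : Module.End F F) {1} := by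
  refine ⟨?_, ?_⟩
  · intro a ha
    rw [Multiset.mem_singleton] at ha
    omega
  · intro j
    rw [Multiset.map_singleton, Multiset.sum_singleton]
    rcases Nat.eq_zero_or_pos j with rfl | hj
    · rw [pow_zero, Module.End.one_eq_id, LinearMap.range_id, finrank_top, Module.finrank_self]
    · rw [zero_pow (by omega), LinearMap.range_zero, finrank_bot]
      omega

/-- a unipotent isometry of type `(1, 3, 2^{d-2})` all of whose fixed vectors have values in
the class of `γ` -/
theorem exists_unip_gamma (h2 : (2 : F) ≠ 0) (Q : QuadraticForm F (κ → F))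
    (hQ : (polarBilin Q).Nondegenerate) (d : ℕ) (hd : 3 ≤ d) (hde : Even d)
    (hκ : Fintype.card κ = 2 * d) (γ : F) (hγ : γ ≠ 0) :
    ∃ A : Module.End F (κ → F), (∀ v, Q (A v) = Q v) ∧
      HasType (A - 1) (1 ::ₘ 3 ::ₘ Multiset.replicate (d - 2) 2) ∧
      ∀ u, A u = u → ∃ t : F, Q u = γ * t ^ 2 := by
  set Q₀ : QuadraticForm F F := γ • QuadraticMap.sq with hQ₀
  have hQ₀app : ∀ t : F, Q₀ t = γ * t ^ 2 := by
    intro t
    rw [hQ₀, QuadraticMap.smul_apply, QuadraticMap.sq_apply, smul_eq_mul]
    ring
  have hQ₀nd : (polarBilin Q₀).Nondegenerate := by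
    apply nondeg_of_polar
    intro x hx
    have := hx 1
    unfold polar at this
    rw [hQ₀app, hQ₀app, hQ₀app] at this
    have e : γ * (x + 1) ^ 2 - γ * x ^ 2 - γ * 1 ^ 2 = 2 * γ * x := by ring
    rw [e] at this
    rcases mul_eq_zero.1 this with h | h
    · exact absurd h (mul_ne_zero h2 hγ)
    · exact h
  have hlt : finrank F F < Fintype.card κ := by
    rw [Module.finrank_self, hκ]
    omega
  obtain ⟨QU, e, hQUnd, he⟩ := exists_model_iso h2 Q₀ hQ₀nd Q hQ hlt
  have hcard : Fintype.card (Fin (Fintype.card κ - finrank F F)) = 2 * d - 1 := by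
    rw [Fintype.card_fin, Module.finrank_self, hκ]
  set μ₁ : Multiset ℕ := 3 ::ₘ Multiset.replicate (d - 2) 2 with hμ₁
  have hmem : ∀ a ∈ μ₁, a = 3 ∨ a = 2 := by
    intro a ha
    rcases Multiset.mem_cons.1 ha with h | h
    · exact Or.inl h
    · exact Or.inr (Multiset.eq_of_mem_replicate h)
  have hpos : ∀ a ∈ μ₁, 0 < a := by
    intro a ha
    rcases hmem a ha with rfl | rfl <;> omega
  have hall : ∀ a ∈ μ₁, 2 ≤ a := by
    intro a ha
    rcases hmem a ha with rfl | rfl <;> omega
  have hpar : ∀ e, Even e → Even (μ₁.count e) :=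
    even_count_cons_replicate 3 (d - 2) ⟨1, rfl⟩ (by
      obtain ⟨t, ht⟩ := hde
      exact ⟨t - 1, by omega⟩)
  have hsum : μ₁.sum = Fintype.card (Fin (Fintype.card κ - finrank F F)) := by
    rw [hcard, hμ₁, Multiset.sum_cons, Multiset.sum_replicate, smul_eq_mul]
    omega
  obtain ⟨Y, hY, hYμ⟩ := exists_unip_odd h2 QU hQUnd (by
    rw [hcard]
    exact ⟨d - 1, by omega⟩) μ₁ hpos hpar hsum
  set X : Module.End F (F × (Fin (Fintype.card κ - finrank F F) → F)) :=
    (1 : Module.End F F).prodMap Y with hX
  have hXQ : ∀ z, (QuadraticMap.prod Q₀ QU) (X z) = (QuadraticMap.prod Q₀ QU) z := by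
    rintro ⟨a, b⟩
    rw [hX, LinearMap.prodMap_apply, QuadraticMap.prod_apply, QuadraticMap.prod_apply, hY]
    rfl
  have hXμ : HasType (X - 1) (1 ::ₘ μ₁) := by
    rw [hX, prodMap_sub_one, sub_self]
    have := HasType.prodMap (hasType_zero_self (F := F)) hYμ
    rwa [Multiset.singleton_add] at this
  refine ⟨e.conj X, ?_, ?_, ?_⟩
  · intro v
    rw [LinearEquiv.conj_apply_apply, he, hXQ, ← he, LinearEquiv.apply_symm_apply]
  · refine hasType_of_equiv e ?_ hXμ
    intro x
    rw [LinearMap.sub_apply, LinearMap.sub_apply, LinearEquiv.conj_apply_apply,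
      Module.End.one_apply, Module.End.one_apply, LinearEquiv.symm_apply_apply, map_sub]
  · intro u hu
    rw [LinearEquiv.conj_apply_apply] at hu
    have hz : X (e.symm u) = e.symm u := by
      have := congrArg e.symm hu
      rwa [LinearEquiv.symm_apply_apply] at this
    set z := e.symm u with hzdef
    have hz2 : Y z.2 = z.2 := by
      have := congrArg Prod.snd hz
      rwa [hX, LinearMap.prodMap_apply] at this
    have hker : z.2 ∈ LinearMap.ker (Y - 1) := by
      rw [LinearMap.mem_ker, LinearMap.sub_apply, Module.End.one_apply, hz2, sub_self]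
    obtain ⟨y', hy'⟩ := ker_le_range_of_parts (Y - 1) hYμ hall hker
    have hsing : QU z.2 = 0 := by
      rw [← hy']
      apply ts_of_sq_zero h2 QU Y hY y'
      rw [hy']
      exact hker
    refine ⟨z.1, ?_⟩
    have hu' : u = e z := (e.apply_symm_apply u).symm
    rw [hu', he, QuadraticMap.prod_apply, hsing, add_zero, hQ₀app]

end constr

end Cfsg.Agent.Helper13.OrthNi
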