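import Mathlib
import Cfsg.Agent.Lib.Helper13.OrthNi8

set_option autoImplicit false
set_option linter.unusedSectionVars false

/-!
# Unipotent elements fixing no member of an isometry class of odd-dimensional subspaces
(even-dimensional spaces of either type, `d` even)
-/

namespace Cfsg.Agent.Helper13.OrthNi

open Module QuadraticMap Matrix Cfsg.Agent.Helper13.OrthSS Cfsg.Agent.Helper13
  Cfsg.Agent.Helper13.OrthTs Cfsg.Agent.Helper13.OrthTy Cfsg.Agent.Helper13.OrthNd
  Cfsg.Agent.Helper13.OrthJp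
open scoped Classical

universe u

section comb

theorem sub_cases (ν : Multiset ℕ) (n : ℕ)
    (h : ν ≤ 1 ::ₘ 3 ::ₘ Multiset.replicate n 2) (hodd : Odd ν.sum) :
    (∃ k, k ≤ n ∧ ν = 1 ::ₘ Multiset.replicate k 2) ∨
      (∃ k, k ≤ n ∧ ν = 3 ::ₘ Multiset.replicate k 2) := by
  rcases le_cons_cases h with h1 | ⟨ν₀, rfl, h1⟩
  · rcases le_cons_cases h1 with h3 | ⟨ν₁, rfl, h3⟩
    · obtain ⟨k, hk, rfl⟩ := Multiset.le_replicate_iff.1 h3
      exfalso
      rw [Multiset.sum_replicate, smul_eq_mul] at hodd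
      obtain ⟨s, hs⟩ := hodd
      omega
    · obtain ⟨k, hk, rfl⟩ := Multiset.le_replicate_iff.1 h3
      exact Or.inr ⟨k, hk, rfl⟩
  · rcases le_cons_cases h1 with h3 | ⟨ν₁, rfl, h3⟩
    · obtain ⟨k, hk, rfl⟩ := Multiset.le_replicate_iff.1 h3
      exact Or.inl ⟨k, hk, rfl⟩
    · obtain ⟨k, hk, rfl⟩ := Multiset.le_replicate_iff.1 h3
      exfalso
      rw [Multiset.sum_cons, Multiset.sum_cons, Multiset.sum_replicate, smul_eq_mul] at hodd
      obtain ⟨s, hs⟩ := hodd
      omega

theorem prop_contra (a b c : Prop) (h1 : a ↔ (b ↔ c)) (h2 : c ↔ ¬ (a ↔ b)) : False := by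
  tauto

end comb

section pair
variable {F : Type u} [Field F] {V : Type u} [AddCommGroup V] [Module F V]
  [FiniteDimensional F V]

theorem exists_polar_of_nondeg (Q : QuadraticForm F V) (W : Submodule F V)
    (hWnd : (polarBilin (Q.comp W.subtype)).Nondegenerate) :
    ∀ w ∈ W, w ≠ 0 → ∃ x ∈ W, polar Q x w ≠ 0 := by
  intro w hw hw0
  by_contra hcon
  push Not at hcon
  apply hw0
  have : (⟨w, hw⟩ : W) = 0 := by
    apply hWnd.1
    intro y
    show polar (Q.comp W.subtype) ⟨w, hw⟩ y = 0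
    rw [OrthTs.polar_comp, polar_comm]
    exact hcon y y.2
  exact congrArg Subtype.val this

theorem orth_invariant (Q : QuadraticForm F V) (X : Module.End F V)
    (hXQ : ∀ v, Q (X v) = Q v) (hXinj : Function.Injective X) (W : Submodule F V)
    (hXW : ∀ w ∈ W, X w ∈ W) :
    ∀ u ∈ LinearMap.BilinForm.orthogonal (polarBilin Q) W,
      X u ∈ LinearMap.BilinForm.orthogonal (polarBilin Q) W := by
  have hXpolar : ∀ a b, polar Q (X a) (X b) = polar Q a b := by
    intro a b
    unfold polar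
    rw [← map_add, hXQ, hXQ, hXQ]
  have hXWinj : Function.Injective (X.restrict hXW) := by
    intro a b hab
    apply Subtype.ext
    apply hXinj
    have := congrArg (Subtype.val) hab
    rwa [LinearMap.coe_restrict_apply, LinearMap.coe_restrict_apply] at this
  have hXWsurj : Function.Surjective (X.restrict hXW) :=
    LinearMap.injective_iff_surjective.1 hXWinj
  intro u hu
  rw [LinearMap.BilinForm.mem_orthogonal_iff]
  intro w hw
  obtain ⟨w', hw'⟩ := hXWsurj ⟨w, hw⟩
  have e : w = X (w' : V) := by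
    have := congrArg (Subtype.val) hw'
    rw [LinearMap.coe_restrict_apply] at this
    exact this.symm
  show polarBilin Q w (X u) = 0
  rw [polarBilin_apply_apply, e, hXpolar]
  exact hu _ w'.2

/-- the types on an invariant nondegenerate subspace and on its orthogonal complement -/
theorem type_pair (h2 : (2 : F) ≠ 0) (Q : QuadraticForm F V) (hQ : (polarBilin Q).Nondegenerate)
    (X : Module.End F V) (hXQ : ∀ v, Q (X v) = Q v) {μ : Multiset ℕ}
    (hμ : HasType (X - 1) μ) (W : Submodule F V)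
    (hWnd : (polarBilin (Q.comp W.subtype)).Nondegenerate) (hXW : ∀ w ∈ W, X w ∈ W) :
    ∃ (hN1 : ∀ w ∈ W, (X - 1) w ∈ W)
      (hN2 : ∀ w ∈ LinearMap.BilinForm.orthogonal (polarBilin Q) W,
        (X - 1) w ∈ LinearMap.BilinForm.orthogonal (polarBilin Q) W) (ν ν' : Multiset ℕ),
      μ = ν + ν' ∧ HasType ((X - 1).restrict hN1) ν ∧ HasType ((X - 1).restrict hN2) ν' ∧
      (∀ e, Even e → Even (ν.count e)) ∧ (∀ e, Even e → Even (ν'.count e)) := by
  have hnil : IsNilpotent (X - 1) := hμ.isNilpotent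
  have hXu : IsUnit X := by
    have := IsNilpotent.isUnit_one_add hnil
    rwa [add_sub_cancel] at this
  have hXinj : Function.Injective X := ((Module.End.isUnit_iff X).1 hXu).1
  have hXW' := orth_invariant Q X hXQ hXinj W hXW
  have hN1 : ∀ w ∈ W, (X - 1) w ∈ W := by
    intro w hw
    rw [LinearMap.sub_apply, Module.End.one_apply]
    exact W.sub_mem (hXW w hw) hw
  have hN2 : ∀ w ∈ LinearMap.BilinForm.orthogonal (polarBilin Q) W,
      (X - 1) w ∈ LinearMap.BilinForm.orthogonal (polarBilin Q) W := by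
    intro u hu
    rw [LinearMap.sub_apply, Module.End.one_apply]
    exact Submodule.sub_mem _ (hXW' u hu) hu
  have hW'nd := nondeg_orth Q hQ W hWnd
  have hcompl := isCompl_orth Q W hWnd
  obtain ⟨ν, -, hν, hνpar⟩ := sub_type_of_invariant' h2 Q X hXQ hnil hμ W
    (exists_polar_of_nondeg Q W hWnd) hXW hN1
  obtain ⟨ν', -, hν', hν'par⟩ := sub_type_of_invariant' h2 Q X hXQ hnil hμ _
    (exists_polar_of_nondeg Q _ hW'nd) hXW' hN2
  exact ⟨hN1, hN2, ν, ν', hμ.unique (HasType.add hcompl hN1 hN2 hν hν'), hν, hν', hνpar, hν'par⟩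

end pair

section main
variable {F : Type u} [Field F] [Fintype F] {p : ℕ} [Fact p.Prime] [CharP F p]
  {κ : Type} [Fintype κ] [DecidableEq κ]

theorem exists_gamma (h2 : (2 : F) ≠ 0) (P : Prop) :
    ∃ γ : F, γ ≠ 0 ∧ (IsSquare (2 * γ) ↔ P) := by
  by_cases hP : P
  · refine ⟨2⁻¹, inv_ne_zero h2, ?_⟩
    rw [mul_inv_cancel₀ h2]
    exact ⟨fun _ => hP, fun _ => ⟨1, (mul_one 1).symm⟩⟩
  · have hF : ringChar F ≠ 2 := by
      intro h
      apply h2
      have := ringChar.Nat.cast_ringChar (R := F)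
      rw [h] at this
      exact_mod_cast this
    obtain ⟨ε, hε⟩ := FiniteField.exists_nonsquare hF
    have hε0 : ε ≠ 0 := by
      rintro rfl
      exact hε IsSquare.zero
    refine ⟨ε / 2, div_ne_zero hε0 h2, ?_⟩
    rw [mul_div_cancel₀ _ h2]
    exact ⟨fun h => absurd h hε, fun h => absurd h hP⟩

/-- for `d` even: a unipotent element of `Ω` fixing no subspace of a given isometry class of
odd-dimensional nondegenerate subspaces -/
theorem p_iso_class (h2 : (2 : F) ≠ 0) (Q : QuadraticForm F (κ → F))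
    (hQ : (polarBilin Q).Nondegenerate) (d m : ℕ) (hd : 3 ≤ d) (hκ : Fintype.card κ = 2 * d)
    (hde : Even d) (hmo : Odd m)
    {M : Type u} [AddCommGroup M] [Module F M] [FiniteDimensional F M]
    (QM : QuadraticForm F M) (hQM : (polarBilin QM).Nondegenerate) (hMfin : finrank F M = m) :
    ∃ x : GL κ F, x ∈ Cfsg.Geo.omegaGL (⇑Q) ∧ x ^ p = 1 ∧
      (∀ z : F, (x : Matrix κ κ F) ≠ z • (1 : Matrix κ κ F)) ∧
      ∀ W : Submodule F (κ → F), IsIsoTo Q QM W →
        W.map (Matrix.toLin' (x : Matrix κ κ F)) ≤ W → False := by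
  have hp : p.Prime := Fact.out
  have hp2 : p ≠ 2 := p_ne_two_of (F := F) h2
  have hp3 : 3 ≤ p := by
    have := hp.two_le
    omega
  obtain ⟨γ, hγ0, hγP⟩ := exists_gamma h2
    ((m % 4 = 1 → ¬ SqDisc QM) ∧ (m % 4 ≠ 1 → ¬ (SqDisc Q ↔ SqDisc QM)))
  obtain ⟨A, hA, hAμ, hAfix⟩ := exists_unip_gamma h2 Q hQ d hd hde hκ γ hγ0
  set μ : Multiset ℕ := 1 ::ₘ 3 ::ₘ Multiset.replicate (d - 2) 2 with hμ
  have hle : ∀ a ∈ μ, a ≤ p := by
    intro a ha
    rcases Multiset.mem_cons.1 ha with h | h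
    · omega
    · rcases Multiset.mem_cons.1 h with h' | h'
      · omega
      · rw [Multiset.eq_of_mem_replicate h']
        omega
  have h3mem : 3 ∈ μ := by
    rw [hμ]
    exact Multiset.mem_cons_of_mem (Multiset.mem_cons_self 3 _)
  obtain ⟨x, hx, hxp, hLG⟩ := OrthSS.exists_gl_of_end (⇑Q) A hA p hp.one_lt.le
    (pow_char_eq_one p hAμ hle)
  have hoddp : Odd p := hp.odd_of_ne_two hp2
  have hex : Fintype.card F ≠ 2 ∨ Fintype.card κ ≠ 4 := Or.inr (by omega)
  have hΩ : (⟨x, hx⟩ : ↥(Cfsg.isometryGroup F ⇑Q)) ∈ Cfsg.Omega F ⇑Q :=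
    OrthEl.mem_Omega_of_pow_odd Q hQ hex ⟨x, hx⟩ hoddp (Subtype.ext hxp)
  have e : Matrix.toLin' (x : Matrix κ κ F) = A := hLG
  refine ⟨x, Cfsg.Agent.Helper17.OmegaElts.coe_mem_omegaGL Q hΩ, hxp, ?_, ?_⟩
  · intro z hz
    apply not_smul_of_hasType hAμ 3 h3mem (by omega) (z - 1)
    rw [← e, hz, map_smul, Matrix.toLin'_one]
    apply LinearMap.ext
    intro v
    simp [sub_smul]
  · intro W hiso hinv
    rw [e] at hinv
    have hWnd := hiso.nondeg Q QM hQM
    have hWfin : finrank F W = m := by rw [hiso.finrank_eq Q QM, hMfin]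
    have hXW : ∀ w ∈ W, A w ∈ W := fun w hw => hinv (Submodule.mem_map_of_mem hw)
    obtain ⟨hN1, hN2, ν, ν', hsum, hν, hν', hνpar, hν'par⟩ :=
      type_pair h2 Q hQ A hA hAμ W hWnd hXW
    have hνle : ν ≤ μ := by
      rw [hsum]
      exact Multiset.le_add_right _ _
    have hνsum : ν.sum = m := by rw [hν.sum, hWfin]
    have hWM : SqDisc (Q.comp W.subtype) ↔ SqDisc QM := by
      obtain ⟨f, hf⟩ := hiso
      exact (sqDisc_of_equiv QM (Q.comp W.subtype) f (fun z => hf z)).symm
    rcases sub_cases ν (d - 2) hνle (by rw [hνsum]; exact hmo) with ⟨k, hk, rfl⟩ | ⟨k, hk, rfl⟩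
    · -- the line is inside `W`
      have hke : Even k := by
        have := hνpar 2 (by decide)
        rwa [Multiset.count_cons_of_ne (by decide), Multiset.count_replicate_self] at this
      obtain ⟨j, hj⟩ := hke
      have hk2 : k = 2 * j := by omega
      subst hk2
      have hm4 : m % 4 = 1 := by
        rw [Multiset.sum_cons, Multiset.sum_replicate, smul_eq_mul] at hνsum
        omega
      have h5 := sqDisc_of_type h2 Q A hA W hN1 hWnd j hν γ hAfix
      rw [hWM] at h5
      have h6 := (hγP.1 (h5.1 ?_)).1 hm4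
      · exact h6 (h5.2 (hγP.2 ⟨fun _ => h6, fun h => absurd hm4 h⟩))
      · by_contra hcon
        have h7 : IsSquare (2 * γ) := hγP.2 ⟨fun _ => hcon, fun h => absurd hm4 h⟩
        exact hcon (h5.2 h7)
    · -- the line is inside the orthogonal complement
      have hke : Even k := by
        have := hνpar 2 (by decide)
        rwa [Multiset.count_cons_of_ne (by decide), Multiset.count_replicate_self] at this
      have hm4 : m % 4 ≠ 1 := by
        rw [Multiset.sum_cons, Multiset.sum_replicate, smul_eq_mul] at hνsum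
        obtain ⟨j, hj⟩ := hke
        omega
      obtain ⟨j', hj'⟩ : ∃ j', d - 2 - k = 2 * j' := by
        obtain ⟨j, hj⟩ := hke
        obtain ⟨t, ht⟩ := hde
        exact ⟨t - 1 - j, by omega⟩
      have hν'eq : ν' = 1 ::ₘ Multiset.replicate (2 * j') 2 := by
        have h8 : (3 ::ₘ Multiset.replicate k 2) + (1 ::ₘ Multiset.replicate (2 * j') 2) = μ := by
          rw [hμ, Multiset.cons_add, Multiset.add_cons, ← Multiset.replicate_add, ← hj',
            Multiset.cons_swap]
          congr 3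
          omega
        rw [hsum] at h8
        exact (add_left_cancel h8).symm
      rw [hν'eq] at hν'
      have hW'nd := nondeg_orth Q hQ W hWnd
      have hcompl := isCompl_orth Q W hWnd
      have h5 := sqDisc_of_type h2 Q A hA _ hN2 hW'nd j' hν' γ hAfix
      have h6 : SqDisc Q ↔ (SqDisc (Q.comp W.subtype) ↔
          SqDisc (Q.comp (LinearMap.BilinForm.orthogonal (polarBilin Q) W).subtype)) := by
        rw [← sqDisc_prod _ _ hWnd hW'nd]
        exact (sqDisc_of_equiv _ Q (Submodule.prodEquivOfIsCompl W _ hcompl)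
          (fun z => apply_prodEquiv Q W hcompl z)).symm
      rw [hWM, h5] at h6
      have h7 : IsSquare (2 * γ) ↔ ¬ (SqDisc Q ↔ SqDisc QM) := by
        rw [hγP]
        exact ⟨fun h => h.2 hm4, fun h => ⟨fun h' => absurd h' hm4, fun _ => h⟩⟩
      exact prop_contra _ _ _ h6 h7

end main

end Cfsg.Agent.Helper13.OrthNi
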