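import Mathlib
import Cfsg.Agent.Lib.Helper13.OrthNe1
import Cfsg.Agent.Lib.Helper13.OrthNi9

set_option autoImplicit false
set_option linter.unusedSectionVars false

/-!
# Invariant nondegenerate subspaces of semisimple isometries: the pattern of a subspace
together with its orthogonal complement
-/

namespace Cfsg.Agent.Helper13.OrthNe

open Polynomial Module QuadraticMap Matrix Cfsg.Agent.Helper13.SS Cfsg.Agent.Helper13.Dual
  Cfsg.Agent.Helper13.SympSS Cfsg.Agent.Helper13.SpDec Cfsg.Agent.Helper13.SlDec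
  Cfsg.Agent.Helper13.SpTi Cfsg.Agent.Helper13.OrthSS Cfsg.Agent.Helper13
  Cfsg.Agent.Helper13.OrthTs Cfsg.Agent.Helper13.OrthTy Cfsg.Agent.Helper13.HermSS
  Cfsg.Agent.Helper13.OrthNd Cfsg.Agent.Helper13.OrthNi
open scoped Classical

universe u

section split
variable {F : Type*} [Field F] {V : Type*} [AddCommGroup V] [Module F V] [FiniteDimensional F V]

/-- characteristic polynomial of an endomorphism preserving two complementary subspaces -/
theorem charpoly_split {L P : Submodule F V} (hLP : IsCompl L P) (a : Module.End F V)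
    (hL : ∀ v ∈ L, a v ∈ L) (hP : ∀ v ∈ P, a v ∈ P) :
    a.charpoly = (a.restrict hL).charpoly * (a.restrict hP).charpoly := by
  set E := Submodule.prodEquivOfIsCompl L P hLP with hE
  have h1 : a = E.conj ((a.restrict hL).prodMap (a.restrict hP)) := by
    apply LinearMap.ext
    intro v
    obtain ⟨⟨l, p⟩, rfl⟩ := E.surjective v
    rw [LinearEquiv.conj_apply_apply, LinearEquiv.symm_apply_apply, LinearMap.prodMap_apply]
    have h2 : E (l, p) = (l : V) + (p : V) := Submodule.coe_prodEquivOfIsCompl' L P hLP (l, p)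
    rw [h2, map_add]
    exact (Submodule.coe_prodEquivOfIsCompl' L P hLP (a.restrict hL l, a.restrict hP p)).symm
  conv_lhs => rw [h1]
  rw [LinearEquiv.charpoly_conj, LinearMap.charpoly_prodMap]

end split

section pattern
variable {F : Type u} [Field F] [Fintype F] {p : ℕ} [Fact p.Prime] [CharP F p] {r q : ℕ}

/-- the shape of the restriction of a semisimple isometry to an invariant nondegenerate
subspace -/
theorem pattern_single (hF : Fintype.card F = q) (hr : r.Prime) (hr2 : r ≠ 2) (hrp : r ≠ p)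
    {V : Type u} [AddCommGroup V] [Module F V] [FiniteDimensional F V]
    (Q : QuadraticForm F V) (A : Module.End F V) (hAQ : ∀ v, Q (A v) = Q v) (hAr : A ^ r = 1)
    (W : Submodule F V) (hWinv : ∀ v ∈ W, A v ∈ W)
    (hWnd : (polarBilin (Q.comp W.subtype)).Nondegenerate) :
    ∃ (e : ℕ) (j : ↥(cycFactors F r) → ℕ),
      finrank F W = e + orderOf (q : ZMod r) * ∑ a, j a ∧
      (A.restrict hWinv).charpoly = gPoly r e j ∧
      (∀ a, j (starΦ hr hr2 hrp a) = j a) ∧
      (e = 0 → (IsHyp (Q.comp W.subtype) ↔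
        (Odd (orderOf (q : ZMod r)) ∨ Even (∑ a, j a)))) ∧
      ((∀ a, j a = 0) → ∀ w ∈ W, A w = w) := by
  have hr1 : 1 ≤ r := hr.one_lt.le
  have hrF : (r : F) ≠ 0 := cast_ne_zero_of_prime_ne hr hrp
  have hi0 : 0 < orderOf (q : ZMod r) := pos_orderOf hF hr hrp
  set A' := A.restrict hWinv with hA'
  have hA'r : A' ^ r = 1 := restrict_pow_eq_one A hAr W hWinv
  have hA'Q : ∀ w, (Q.comp W.subtype) (A' w) = (Q.comp W.subtype) w := by
    intro w
    show Q ((A' w : W) : V) = Q (w : V)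
    rw [hA', LinearMap.coe_restrict_apply, hAQ]
  obtain ⟨j, hjs, hfin, hcp'⟩ := struct_orth hF hr hr2 hrp (Q.comp W.subtype) hWnd A' hA'Q hA'r
  refine ⟨kdim A' (X - 1), j, hfin, hcp', hjs, ?_, ?_⟩
  · intro he0
    rw [he0, gPoly_zero_left] at hcp'
    exact type_of_nofix hF hr hr2 hrp (Q.comp W.subtype) hWnd A' hA'Q hA'r j hjs hcp'
  · intro hj0 w hw
    have hsum : ∑ a, j a = 0 := Finset.sum_eq_zero (fun a _ => hj0 a)
    rw [hsum, mul_zero, add_zero] at hfin
    have htop : LinearMap.ker (aeval A' (X - 1 : F[X])) = ⊤ :=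
      Submodule.eq_top_of_finrank_eq hfin.symm
    have h1 : (⟨w, hw⟩ : W) ∈ LinearMap.ker (aeval A' (X - 1 : F[X])) := by
      rw [htop]
      trivial
    rw [LinearMap.mem_ker, map_sub, aeval_X, map_one, LinearMap.sub_apply,
      Module.End.one_apply, sub_eq_zero] at h1
    have := congrArg (Subtype.val) h1
    rwa [hA', LinearMap.coe_restrict_apply] at this

/-- the shapes of an invariant nondegenerate subspace and of its orthogonal complement -/
theorem pattern_pair (hF : Fintype.card F = q) (hr : r.Prime) (hr2 : r ≠ 2) (hrp : r ≠ p)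
    {V : Type u} [AddCommGroup V] [Module F V] [FiniteDimensional F V]
    (Q : QuadraticForm F V) (hQ : (polarBilin Q).Nondegenerate)
    (A : Module.End F V) (hAQ : ∀ v, Q (A v) = Q v) (hAr : A ^ r = 1)
    (e₀ : ℕ) (k : ↥(cycFactors F r) → ℕ) (hcp : A.charpoly = gPoly r e₀ k)
    (W : Submodule F V) (hWinv : ∀ v ∈ W, A v ∈ W)
    (hWnd : (polarBilin (Q.comp W.subtype)).Nondegenerate) :
    ∃ (e e' : ℕ) (j j' : ↥(cycFactors F r) → ℕ),
      e + e' = e₀ ∧ (∀ a, j a + j' a = k a) ∧
      finrank F W = e + orderOf (q : ZMod r) * ∑ a, j a ∧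
      (∀ a, j (starΦ hr hr2 hrp a) = j a) ∧ (∀ a, j' (starΦ hr hr2 hrp a) = j' a) ∧
      (e = 0 → (IsHyp (Q.comp W.subtype) ↔
        (Odd (orderOf (q : ZMod r)) ∨ Even (∑ a, j a)))) ∧
      (e' = 0 → (IsHyp (Q.comp (LinearMap.BilinForm.orthogonal (polarBilin Q) W).subtype) ↔
        (Odd (orderOf (q : ZMod r)) ∨ Even (∑ a, j' a)))) ∧
      ((∀ a, j a = 0) → ∀ w ∈ W, A w = w) := by
  have hr1 : 1 ≤ r := hr.one_lt.le
  have hAinj : Function.Injective A := by
    intro x y hxy
    have h1 : (A ^ r) x = (A ^ r) y := by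
      rw [← Nat.sub_add_cancel hr1, pow_succ, Module.End.mul_apply, Module.End.mul_apply, hxy]
    rwa [hAr] at h1
  have hW'inv := orth_invariant Q A hAQ hAinj W hWinv
  have hW'nd := nondeg_orth Q hQ W hWnd
  have hcompl := isCompl_orth Q W hWnd
  obtain ⟨e, j, hfin, hcpW, hjs, hty, hfix⟩ :=
    pattern_single hF hr hr2 hrp Q A hAQ hAr W hWinv hWnd
  obtain ⟨e', j', -, hcpW', hj's, hty', -⟩ :=
    pattern_single hF hr hr2 hrp Q A hAQ hAr _ hW'inv hW'nd
  have hsplit := charpoly_split hcompl A hWinv hW'inv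
  rw [hcp, hcpW, hcpW', gPoly_mul] at hsplit
  obtain ⟨h1, h3⟩ := gPoly_injective hr hrp _ _ _ _ hsplit
  exact ⟨e, e', j, j', h1.symm, fun a => (congrFun h3 a).symm, hfin, hjs, hj's, hty, hty', hfix⟩

end pattern

end Cfsg.Agent.Helper13.OrthNe
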