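import Mathlib
import Cfsg.Agent.Lib.Helper13.OrthNe2

set_option autoImplicit false
set_option linter.unusedSectionVars false

/-!
# Existence of invariant nondegenerate subspaces of each admissible shape (even dimension,
any characteristic)
-/

namespace Cfsg.Agent.Helper13.OrthNe

open Polynomial Module QuadraticMap Matrix Cfsg.Agent.Helper13.SS Cfsg.Agent.Helper13.Dual
  Cfsg.Agent.Helper13.SympSS Cfsg.Agent.Helper13.SpDec Cfsg.Agent.Helper13.SlDec
  Cfsg.Agent.Helper13.SpTi Cfsg.Agent.Helper13.OrthSS Cfsg.Agent.Helper13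
  Cfsg.Agent.Helper13.OrthTs Cfsg.Agent.Helper13.OrthTy Cfsg.Agent.Helper13.HermSS
  Cfsg.Agent.Helper13.OrthNd Cfsg.Agent.Helper13.OrthNi
open scoped Classical

universe u

theorem tau_add (i a b : ℕ) :
    (Odd i ∨ Even (a + b)) ↔ ((Odd i ∨ Even a) ↔ (Odd i ∨ Even b)) := by
  by_cases hi : Odd i
  · simp [hi]
  · simp only [hi, false_or]
    exact Nat.even_add

theorem prop_model (hQ tj te tk' tk : Prop) (h1 : tk ↔ (tj ↔ tk')) (h2 : te ↔ (hQ ↔ tk)) :
    (((tj ↔ te) ↔ tk') ↔ hQ) := by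
  tauto

section exist
variable {F : Type u} [Field F] [Fintype F] {p : ℕ} [Fact p.Prime] [CharP F p] {r q : ℕ}
  {κ : Type} [Fintype κ] [DecidableEq κ]

/-- an isometry of order `r` of an even-dimensional space leaves invariant a nondegenerate
subspace of each admissible shape -/
theorem exists_nondeg_of_pattern_even (hF : Fintype.card F = q) (hr : r.Prime) (hr2 : r ≠ 2)
    (hrp : r ≠ p)
    (Q : QuadraticForm F (κ → F)) (hQ : (polarBilin Q).Nondegenerate)
    (hκev : Even (Fintype.card κ))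
    (A : Module.End F (κ → F)) (hAQ : ∀ v, Q (A v) = Q v) (hAr : A ^ r = 1)
    (e₀ : ℕ) (k : ↥(cycFactors F r) → ℕ) (hk : ∀ a, k (starΦ hr hr2 hrp a) = k a)
    (hcp : A.charpoly = gPoly r e₀ k)
    (j : ↥(cycFactors F r) → ℕ) (hj : ∀ a, j (starΦ hr hr2 hrp a) = j a)
    (hjk : ∀ a, j a ≤ k a)
    {Ue : Type u} [AddCommGroup Ue] [Module F Ue] [FiniteDimensional F Ue]
    (Qe : QuadraticForm F Ue) (hQe : (polarBilin Qe).Nondegenerate)
    (hUeev : Even (finrank F Ue)) (he : finrank F Ue ≤ e₀)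
    (htype : finrank F Ue = e₀ →
      (IsHyp Qe ↔ (IsHyp Q ↔ (Odd (orderOf (q : ZMod r)) ∨ Even (∑ a, k a))))) :
    ∃ (Mj : Type u) (_ : AddCommGroup Mj) (_ : Module F Mj) (_ : FiniteDimensional F Mj)
      (Qj : QuadraticForm F Mj) (T : (Mj × Ue) →ₗ[F] (κ → F)),
      (polarBilin Qj).Nondegenerate ∧ finrank F Mj = orderOf (q : ZMod r) * ∑ a, j a ∧
      Even (finrank F Mj) ∧ (IsHyp Qj ↔ (Odd (orderOf (q : ZMod r)) ∨ Even (∑ a, j a))) ∧
      Function.Injective T ∧ (∀ z, Q (T z) = Qj z.1 + Qe z.2) ∧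
      ∀ w ∈ LinearMap.range T, A w ∈ LinearMap.range T := by
  have hr1 : 1 ≤ r := hr.one_lt.le
  have hrF : (r : F) ≠ 0 := cast_ne_zero_of_prime_ne hr hrp
  have hrodd : Odd r := hr.eq_two_or_odd'.resolve_left hr2
  have hi0 : 0 < orderOf (q : ZMod r) := pos_orderOf hF hr hrp
  set S := insert (X - 1 : F[X]) (cycFactors F r) with hS
  have hirr : ∀ f ∈ S, Irreducible f := fun f hf => insert_irreducible hf
  have e1 : (X - 1 : F[X]) = X - C 1 := by rw [map_one]
  have hmon : ∀ f ∈ S, f.Monic := by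
    intro f hf
    rcases Finset.mem_insert.1 hf with rfl | hf
    · rw [e1]
      exact monic_X_sub_C 1
    · exact cycFactors_monic hf
  have hkill : ∀ {U : Type u} [AddCommGroup U] [Module F U] (C : Module.End F U),
      C ^ r = 1 → aeval C (∏ f ∈ S, f) = 0 := by
    intro U _ _ C hC
    rw [hS, X_sub_one_mul_prod hr hrp, map_sub, map_pow, aeval_X, map_one, hC, sub_self]
  have hcard : Fintype.card κ = e₀ + orderOf (q : ZMod r) * ∑ a, k a := by
    rw [← finrank_of_gPoly hF hr hrp A hAr e₀ k hcp, Module.finrank_fintype_fun_eq_card]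
  -- the remaining part
  set k' : ↥(cycFactors F r) → ℕ := fun a => k a - j a with hk'
  have hk'a : ∀ a, j a + k' a = k a := by
    intro a
    have := hjk a
    show j a + (k a - j a) = k a
    omega
  have hk's : ∀ a, k' (starΦ hr hr2 hrp a) = k' a := by
    intro a
    show k (starΦ hr hr2 hrp a) - j (starΦ hr hr2 hrp a) = k a - j a
    rw [hk a, hj a]
  have hsumk : ∑ a, j a + ∑ a, k' a = ∑ a, k a := by
    rw [← Finset.sum_add_distrib]
    exact Finset.sum_congr rfl (fun a _ => hk'a a)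
  obtain ⟨Mj, i1, i2, i3, Aj, Qj, hAjr, hQj, hAjQ, hAjc, hMjev, hQjt⟩ :=
    qrealT_primeProd hF hr hr2 hrp hi0 j hj
  obtain ⟨Mk, l1, l2, l3, Ak, Qk, hAkr, hQk, hAkQ, hAkc, hMkev, hQkt⟩ :=
    qrealT_primeProd hF hr hr2 hrp hi0 k' hk's
  have hMjfin : finrank F Mj = orderOf (q : ZMod r) * ∑ a, j a := by
    rw [← LinearMap.charpoly_natDegree Aj, hAjc, natDegree_primeProd hF hr hrp]
  have hMkfin : finrank F Mk = orderOf (q : ZMod r) * ∑ a, k' a := by
    rw [← LinearMap.charpoly_natDegree Ak, hAkc, natDegree_primeProd hF hr hrp]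
  -- the model
  set Q' : QuadraticForm F ((Mj × Ue) × Mk) :=
    QuadraticMap.prod (QuadraticMap.prod Qj Qe) Qk with hQ'
  have hQjend : (polarBilin (QuadraticMap.prod Qj Qe)).Nondegenerate := nondeg_prod _ _ hQj hQe
  have hQ'nd : (polarBilin Q').Nondegenerate := nondeg_prod _ _ hQjend hQk
  have hjefin : finrank F (Mj × Ue) = finrank F Mj + finrank F Ue := Module.finrank_prod
  have hjeev : Even (finrank F (Mj × Ue)) := by
    rw [hjefin]
    exact hMjev.add hUeev
  have hV'fin : finrank F ((Mj × Ue) × Mk) =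
      orderOf (q : ZMod r) * ∑ a, k a + finrank F Ue := by
    rw [Module.finrank_prod, Module.finrank_prod, hMjfin, hMkfin, ← hsumk]
    ring
  have hV'ev : Even (finrank F ((Mj × Ue) × Mk)) := by
    rw [Module.finrank_prod]
    exact hjeev.add hMkev
  have hTfin : finrank F (κ → F) = Fintype.card κ := Module.finrank_fintype_fun_eq_card F
  have hQ't : IsHyp Q' ↔ ((IsHyp Qj ↔ IsHyp Qe) ↔ IsHyp Qk) := by
    rw [hQ', isHyp_prod_iff _ Qk hQjend hQk hjeev hMkev,
      isHyp_prod_iff Qj Qe hQj hQe hMjev hUeev]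
  have hmodel := exists_model_iso_typed Q' hQ'nd hV'ev Q hQ (by rw [hTfin]; exact hκev)
    (by rw [hV'fin, hTfin, hcard]; omega)
    (by
      intro hfull
      rw [hV'fin, hTfin, hcard] at hfull
      have hfe : finrank F Ue = e₀ := by omega
      rw [hQ't, hQjt, hQkt]
      exact prop_model _ _ _ _ _
        (by rw [← hsumk]; exact tau_add _ _ _) (htype hfe))
  obtain ⟨U, u1, u2, u3, QU, Φ, hQUnd, hUfin, -, hΦ⟩ := hmodel
  have huu0 : finrank F Ue + finrank F U = e₀ := by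
    rw [hUfin, hV'fin, hTfin, hcard]
    omega
  set y : Module.End F (((Mj × Ue) × Mk) × U) :=
    ((Aj.prodMap (1 : Module.End F Ue)).prodMap Ak).prodMap (1 : Module.End F U)
    with hy
  have hyQ : ∀ z, (QuadraticMap.prod Q' QU) (y z) = (QuadraticMap.prod Q' QU) z := by
    rintro ⟨⟨⟨a, b⟩, c⟩, d⟩
    show (QuadraticMap.prod Q' QU) (((Aj a, b), Ak c), d) = _
    rw [QuadraticMap.prod_apply, QuadraticMap.prod_apply, hQ', QuadraticMap.prod_apply,
      QuadraticMap.prod_apply, QuadraticMap.prod_apply, QuadraticMap.prod_apply, hAjQ, hAkQ]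
  have hyM : y ^ r = 1 := by
    rw [hy, prodMap_pow, prodMap_pow, prodMap_pow, hAjr, hAkr, one_pow, one_pow,
      prodMap_one_one]
    have : ((1 : Module.End F (Mj × Ue)).prodMap (1 : Module.End F Mk)) = 1 := prodMap_one_one
    rw [this, prodMap_one_one]
  have hycp : y.charpoly = A.charpoly := by
    rw [hy, LinearMap.charpoly_prodMap, LinearMap.charpoly_prodMap, LinearMap.charpoly_prodMap,
      hAjc, hAkc, LinearMap.charpoly_one, LinearMap.charpoly_one, hcp,
      ← gPoly_zero_left, ← gPoly_zero_left, ← gPoly_zero_right (F := F) (r := r) (finrank F U),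
      ← gPoly_zero_right (F := F) (r := r) (finrank F Ue), gPoly_mul, gPoly_mul, gPoly_mul]
    congr 1
    · omega
    · funext a
      have := hk'a a
      omega
  obtain ⟨Ψ, hΨQ, hΨc⟩ := exists_conj_iso r hr1 hrodd hrF S hirr hmon Q hQ A hAQ (hkill A hAr)
    (QuadraticMap.prod Q' QU) y hyQ hyM (hkill y hyM) hycp Φ hΦ
  set L : (Mj × Ue) →ₗ[F] (((Mj × Ue) × Mk) × U) :=
    LinearMap.inl F _ U ∘ₗ LinearMap.inl F (Mj × Ue) Mk with hL
  have hLa : ∀ z, L z = ((z, 0), 0) := fun z => rfl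
  refine ⟨Mj, i1, i2, i3, Qj, (Ψ : _ →ₗ[F] _) ∘ₗ L, hQj, hMjfin, hMjev, hQjt, ?_, ?_, ?_⟩
  · intro a b hab
    have h1 : Ψ (L a) = Ψ (L b) := hab
    have h3 := Ψ.injective h1
    rw [hLa, hLa] at h3
    exact congrArg (fun z => z.1.1) h3
  · intro z
    show Q (Ψ (L z)) = _
    rw [hΨQ, hLa, QuadraticMap.prod_apply, hQ', QuadraticMap.prod_apply,
      QuadraticMap.prod_apply, map_zero, map_zero, add_zero, add_zero]
  · rintro _ ⟨z, rfl⟩
    refine ⟨(Aj z.1, z.2), ?_⟩
    show Ψ (L (Aj z.1, z.2)) = A (Ψ (L z))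
    rw [← hΨc, hLa, hLa, hy]
    show _ = Ψ (((Aj z.1, (1 : Module.End F Ue) z.2), Ak 0),
      (1 : Module.End F U) 0)
    rw [map_zero, map_zero]
    rfl

end exist

end Cfsg.Agent.Helper13.OrthNe
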