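import Mathlib
import Cfsg.Agent.Lib.Helper13.OrthNe3

set_option autoImplicit false
set_option linter.unusedSectionVars false

/-!
# Even dimension: invariant subspaces from arithmetic data, elements with a given number of
blocks, and the counting lemma
-/

namespace Cfsg.Agent.Helper13.OrthNe

open Polynomial Module QuadraticMap Matrix Cfsg.Agent.Helper13.SS Cfsg.Agent.Helper13.Dual
  Cfsg.Agent.Helper13.SympSS Cfsg.Agent.Helper13.SpDec Cfsg.Agent.Helper13.SlDec
  Cfsg.Agent.Helper13.SpTi Cfsg.Agent.Helper13.OrthSS Cfsg.Agent.Helper13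
  Cfsg.Agent.Helper13.OrthTs Cfsg.Agent.Helper13.OrthTy Cfsg.Agent.Helper13.HermSS
  Cfsg.Agent.Helper13.OrthNd Cfsg.Agent.Helper13.OrthNi
open scoped Classical

universe u

/-- the type of an orthogonal sum of `s` blocks -/
def bt (i s : ℕ) : Prop := Odd i ∨ Even s

theorem bt_add (i a b : ℕ) : bt i (a + b) ↔ (bt i a ↔ bt i b) := tau_add i a b

theorem bt_zero (i : ℕ) : bt i 0 := Or.inr Even.zero

section blocks
variable {F : Type u} [Field F] [Fintype F] {p : ℕ} [Fact p.Prime] [CharP F p] {r q : ℕ}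

/-- the type of the nonfixed part in terms of the number of blocks -/
theorem tau_iff_bt (hF : Fintype.card F = q) (hr : r.Prime) (hr2 : r ≠ 2) (hrp : r ≠ p)
    (c : ℕ) (hc : c = if Even (orderOf (q : ZMod r)) then orderOf (q : ZMod r)
      else 2 * orderOf (q : ZMod r))
    (k : ↥(cycFactors F r) → ℕ) (s : ℕ) (hs : orderOf (q : ZMod r) * ∑ a, k a = c * s) :
    (Odd (orderOf (q : ZMod r)) ∨ Even (∑ a, k a)) ↔ bt (orderOf (q : ZMod r)) s := by
  have hi0 : 0 < orderOf (q : ZMod r) := pos_orderOf hF hr hrp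
  unfold bt
  by_cases hie : Even (orderOf (q : ZMod r))
  · rw [if_pos hie] at hc
    rw [hc] at hs
    rw [Nat.eq_of_mul_eq_mul_left hi0 hs]
  · have hio : Odd (orderOf (q : ZMod r)) := Nat.not_even_iff_odd.1 hie
    exact ⟨fun _ => Or.inl hio, fun _ => Or.inl hio⟩

end blocks

section sub
variable {F : Type u} [Field F] [Fintype F] {p : ℕ} [Fact p.Prime] [CharP F p] {r q : ℕ}
  {κ : Type} [Fintype κ] [DecidableEq κ]

theorem prop_sub (τ tj b : Prop) (h : tj ↔ b) : (tj ↔ (τ ↔ b)) ↔ τ := by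
  tauto

/-- invariant nondegenerate subspaces from arithmetic data -/
theorem exists_sub_even (hF : Fintype.card F = q) (hr : r.Prime) (hr2 : r ≠ 2) (hrp : r ≠ p)
    (c : ℕ) (hc : c = if Even (orderOf (q : ZMod r)) then orderOf (q : ZMod r)
      else 2 * orderOf (q : ZMod r))
    (Q : QuadraticForm F (κ → F)) (hQ : (polarBilin Q).Nondegenerate)
    (hκev : Even (Fintype.card κ))
    (A : Module.End F (κ → F)) (hAQ : ∀ v, Q (A v) = Q v) (hAr : A ^ r = 1)
    (e₀ : ℕ) (k : ↥(cycFactors F r) → ℕ) (hk : ∀ a, k (starΦ hr hr2 hrp a) = k a)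
    (hcp : A.charpoly = gPoly r e₀ k) (s : ℕ)
    (hs : orderOf (q : ZMod r) * ∑ a, k a = c * s)
    (t e : ℕ) (hts : t ≤ s) (hee : Even e) (he : e ≤ e₀) (τ : Prop)
    (h0 : e = 0 → (τ ↔ bt (orderOf (q : ZMod r)) t))
    (hfull : e = e₀ → ((τ ↔ bt (orderOf (q : ZMod r)) t) ↔
      (IsHyp Q ↔ bt (orderOf (q : ZMod r)) s))) :
    ∃ W : Submodule F (κ → F), (finrank F W = e + c * t ∧
      (polarBilin (Q.comp W.subtype)).Nondegenerate ∧ (IsHyp (Q.comp W.subtype) ↔ τ)) ∧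
      ∀ v ∈ W, A v ∈ W := by
  have hi0 : 0 < orderOf (q : ZMod r) := pos_orderOf hF hr hrp
  have hinv := starΦ_involutive (F := F) hr hr2 hrp
  obtain ⟨w, hw, hcw⟩ := exists_weight hF hr hr2 hrp (orderOf (q : ZMod r)) c rfl hc
  have hw0 : 0 < w := by
    rcases hw with ⟨-, rfl⟩ | ⟨-, rfl⟩ <;> omega
  have hsk : ∑ a, k a = w * s := by
    rw [hcw] at hs
    have : orderOf (q : ZMod r) * ∑ a, k a = orderOf (q : ZMod r) * (w * s) := by
      rw [hs]
      ring
    exact Nat.eq_of_mul_eq_mul_left hi0 this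
  obtain ⟨j, hjs, hjle, hjsum, hor⟩ := exists_peel (starΦ (F := F) hr hr2 hrp) hinv w hw
    k hk t
  have hjeq : ∑ a, j a = w * t := by
    rcases hor with h' | h'
    · rw [h', hsk] at hjsum ⊢
      have : s ≤ t := Nat.le_of_mul_le_mul_left hjsum hw0
      have : t = s := le_antisymm hts this
      rw [this]
    · exact h'
  have hij : orderOf (q : ZMod r) * ∑ a, j a = c * t := by
    rw [hjeq, hcw]
    ring
  have hτj := tau_iff_bt hF hr hr2 hrp c hc j t hij
  have hτk := tau_iff_bt hF hr hr2 hrp c hc k s hs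
  obtain ⟨Ue, u1, u2, u3, Qe, hQe, hUefin, hQet⟩ := exists_space_of_type (F := F) e hee
    (τ ↔ bt (orderOf (q : ZMod r)) t) h0
  obtain ⟨Mj, i1, i2, i3, Qj, T, hQj, hMjfin, hMjev, hQjt, hTinj, hTQ, hTinv⟩ :=
    exists_nondeg_of_pattern_even hF hr hr2 hrp Q hQ hκev A hAQ hAr e₀ k hk hcp j hjs hjle
      Qe hQe (by rw [hUefin]; exact hee) (by rw [hUefin]; exact he)
      (by
        intro hfe
        rw [hUefin] at hfe
        rw [hQet, hτk]
        exact hfull hfe)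
  have hnd : (polarBilin (QuadraticMap.prod Qj Qe)).Nondegenerate := nondeg_prod _ _ hQj hQe
  have hprops := props_of_equiv (QuadraticMap.prod Qj Qe) (Q.comp (LinearMap.range T).subtype)
    (LinearEquiv.ofInjective T hTinj) (fun z => by
      show Q (T z) = _
      rw [hTQ, QuadraticMap.prod_apply]) (e + c * t) τ
    ⟨by rw [Module.finrank_prod, hMjfin, hUefin, hij]; ring, hnd, by
      rw [isHyp_prod_iff Qj Qe hQj hQe hMjev (by rw [hUefin]; exact hee), hQjt, hQet]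
      exact prop_sub _ _ _ hτj⟩
  exact ⟨LinearMap.range T, hprops, hTinv⟩

end sub

section elt
variable {F : Type u} [Field F] [Fintype F] {p : ℕ} [Fact p.Prime] [CharP F p] {r q : ℕ}
  {κ : Type} [Fintype κ] [DecidableEq κ]

/-- a semisimple isometry with a prescribed number of blocks -/
theorem exists_end_of_blocks (hF : Fintype.card F = q) (hr : r.Prime) (hr2 : r ≠ 2)
    (hrp : r ≠ p)
    (Q : QuadraticForm F (κ → F)) (hQ : (polarBilin Q).Nondegenerate)
    (hev : Even (Fintype.card κ)) (c : ℕ)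
    (hc : c = if Even (orderOf (q : ZMod r)) then orderOf (q : ZMod r)
      else 2 * orderOf (q : ZMod r))
    (s : ℕ) (hle : c * s ≤ Fintype.card κ)
    (hvalid : c * s = Fintype.card κ → (bt (orderOf (q : ZMod r)) s ↔ IsHyp Q)) :
    ∃ (g : Module.End F (κ → F)) (k : ↥(cycFactors F r) → ℕ),
      (∀ v, Q (g v) = Q v) ∧ g ^ r = 1 ∧ (∀ a, k (starΦ hr hr2 hrp a) = k a) ∧
      g.charpoly = gPoly r (Fintype.card κ - c * s) k ∧
      orderOf (q : ZMod r) * ∑ a, k a = c * s := by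
  have hi0 : 0 < orderOf (q : ZMod r) := pos_orderOf hF hr hrp
  have hinv := starΦ_involutive (F := F) hr hr2 hrp
  obtain ⟨w, hw, hcw⟩ := exists_weight hF hr hr2 hrp (orderOf (q : ZMod r)) c rfl hc
  obtain ⟨a₀, ha₀⟩ := cycFactors_nonempty_aux (F := F) hF hr hrp
  set k : ↥(cycFactors F r) → ℕ :=
    fun b => s * unitFn (starΦ (F := F) hr hr2 hrp) ⟨a₀, ha₀⟩ b with hk
  have hks : ∀ a, k (starΦ hr hr2 hrp a) = k a := by
    intro a
    show s * unitFn _ _ (starΦ hr hr2 hrp a) = s * unitFn _ _ a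
    rw [unitFn_symm _ hinv]
  have hsum : orderOf (q : ZMod r) * ∑ a, k a = c * s := by
    rw [hk, ← Finset.mul_sum, unitFn_sum _ w hw, hcw]
    ring
  have hreal := qrealT_primeProd hF hr hr2 hrp hi0 k hks
  have hdeg := natDegree_primeProd hF hr hrp k
  obtain ⟨g, hgQ, hgr, hgc⟩ := hreal.exists_end Q hQ hev
    (by rw [hdeg, hsum]; exact hle)
    (by
      rw [hdeg, hsum]
      intro hfull
      rw [tau_iff_bt hF hr hr2 hrp c hc k s hsum]
      exact hvalid hfull)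
  rw [hdeg, hsum] at hgc
  exact ⟨g, k, hgQ, hgr, hks, hgc, hsum⟩

/-- the same as an element of `Ω` -/
theorem exists_elt_of_blocks (hF : Fintype.card F = q) (hr : r.Prime) (hr2 : r ≠ 2)
    (hrp : r ≠ p)
    (Q : QuadraticForm F (κ → F)) (hQ : (polarBilin Q).Nondegenerate)
    (d : ℕ) (hκ : Fintype.card κ = 2 * d) (hd : 3 ≤ d) (c : ℕ)
    (hc : c = if Even (orderOf (q : ZMod r)) then orderOf (q : ZMod r)
      else 2 * orderOf (q : ZMod r))
    (s : ℕ) (hs1 : 1 ≤ s) (hle : c * s ≤ 2 * d)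
    (hvalid : c * s = 2 * d → (bt (orderOf (q : ZMod r)) s ↔ IsHyp Q)) :
    ∃ (x : GL κ F) (k : ↥(cycFactors F r) → ℕ), x ∈ Cfsg.Geo.omegaGL (⇑Q) ∧ x ^ r = 1 ∧
      (∀ z : F, (x : Matrix κ κ F) ≠ z • (1 : Matrix κ κ F)) ∧
      (∀ v, Q (LG x v) = Q v) ∧ (∀ a, k (starΦ hr hr2 hrp a) = k a) ∧
      (LG x).charpoly = gPoly r (2 * d - c * s) k ∧
      orderOf (q : ZMod r) * ∑ a, k a = c * s := by
  have hr1 : 1 ≤ r := hr.one_lt.le
  have hrodd : Odd r := hr.eq_two_or_odd'.resolve_left hr2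
  have hi0 : 0 < orderOf (q : ZMod r) := pos_orderOf hF hr hrp
  have hκ0 : 0 < Fintype.card κ := by omega
  have hex : Fintype.card F ≠ 2 ∨ Fintype.card κ ≠ 4 := Or.inr (by omega)
  obtain ⟨w, hw, hcw⟩ := exists_weight hF hr hr2 hrp (orderOf (q : ZMod r)) c rfl hc
  have hw0 : 0 < w := by
    rcases hw with ⟨-, rfl⟩ | ⟨-, rfl⟩ <;> omega
  have hc0 : 0 < c := by
    rw [hcw]
    exact Nat.mul_pos hw0 hi0
  obtain ⟨g, k, hgQ, hgr, hks, hgc, hsum⟩ := exists_end_of_blocks hF hr hr2 hrp Q hQ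
    ⟨d, by rw [hκ]; ring⟩ c hc s (by rw [hκ]; exact hle) (by rw [hκ]; exact hvalid)
  rw [hκ] at hgc
  obtain ⟨x, hx, hxr, hLx⟩ := exists_gl_of_end (⇑Q) g hgQ r hr1 hgr
  have hxΩ : (⟨x, hx⟩ : ↥(Cfsg.isometryGroup F (⇑Q))) ∈ Cfsg.Omega F (⇑Q) := by
    apply Cfsg.Agent.Helper13.OrthEl.mem_Omega_of_pow_odd Q hQ hex _ hrodd
    apply Subtype.ext
    rw [SubmonoidClass.coe_pow]
    exact hxr
  have hxmem : x ∈ Cfsg.Geo.omegaGL (⇑Q) :=
    Cfsg.Agent.Helper17.OmegaElts.coe_mem_omegaGL Q hxΩ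
  have hcs : c * 1 ≤ c * s := Nat.mul_le_mul_left _ hs1
  have hxne : x ≠ 1 := by
    rintro rfl
    rw [LG_one] at hLx
    have hgc' := hgc
    rw [← hLx, LinearMap.charpoly_one, ← gPoly_zero_right (F := F) (r := r),
      Module.finrank_fintype_fun_eq_card, hκ] at hgc'
    have := (gPoly_injective hr hrp _ _ _ _ hgc').1
    omega
  have hxQ : ∀ v, Q (LG x v) = Q v := by
    intro v
    rw [hLx]
    exact hgQ v
  refine ⟨x, k, hxmem, hxr, not_scalar_of_odd_order Q hQ hκ0 x hxQ r hrodd hxr hxne, hxQ, hks,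
    ?_, hsum⟩
  rw [hLx]
  exact hgc

end elt

section count
variable {F : Type u} [Field F] [Fintype F] {p : ℕ} [Fact p.Prime] [CharP F p] {r q : ℕ}
  {κ : Type} [Fintype κ] [DecidableEq κ]

/-- in a small space the number of nondegenerate subspaces of a given type is prime to `r` -/
theorem not_dvd_card_ndsub_even (hF : Fintype.card F = q) (hr : r.Prime) (hr2 : r ≠ 2)
    (hrp : r ≠ p)
    (c : ℕ) (hc : c = if Even (orderOf (q : ZMod r)) then orderOf (q : ZMod r)
      else 2 * orderOf (q : ZMod r))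
    {U : Type u} [AddCommGroup U] [Module F U] [FiniteDimensional F U]
    (QU : QuadraticForm F U) (hQU : (polarBilin QU).Nondegenerate) (hlt : finrank F U < c)
    (hUev : Even (finrank F U))
    (m : ℕ) (hme : Even m) (τ : Prop) (W₀ : NdSub QU m τ) :
    ¬ r ∣ Nat.card (NdSub QU m τ) := by
  intro hdvd
  have : Finite (U ≃ₗ[F] U) := finite_linearEquiv
  have : Fact r.Prime := ⟨hr⟩
  have h1 := dvd_trans hdvd (card_ndsub_dvd_even QU hQU hUev m hme τ W₀)
  obtain ⟨g, hg⟩ := exists_prime_orderOf_dvd_card' r h1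
  exact no_order_of_small hF hr hr2 hrp c hc QU hQU hlt g hg

/-- the counting lemma: if the extremal element has a small fixed space and the subspaces are
small, the number of subspaces is prime to `r` -/
theorem not_dvd_of_lt_even (hF : Fintype.card F = q) (hr : r.Prime) (hr2 : r ≠ 2)
    (hrp : r ≠ p) (c : ℕ)
    (hc : c = if Even (orderOf (q : ZMod r)) then orderOf (q : ZMod r)
      else 2 * orderOf (q : ZMod r))
    (Q : QuadraticForm F (κ → F)) (hQ : (polarBilin Q).Nondegenerate)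
    (A : Module.End F (κ → F)) (hAQ : ∀ v, Q (A v) = Q v) (hAr : A ^ r = 1)
    (e₀ : ℕ) (k : ↥(cycFactors F r) → ℕ) (hcp : A.charpoly = gPoly r e₀ k) (he₀ : e₀ < c)
    (he₀ev : Even e₀)
    (m : ℕ) (hme : Even m) (hmc : m < c) (τ : Prop)
    (W₁ : NdSub Q m τ) (hW₁ : ∀ v ∈ W₁.1, A v ∈ W₁.1) :
    ¬ r ∣ Nat.card (NdSub Q m τ) := by
  have hr1 : 1 ≤ r := hr.one_lt.le
  have hrF : (r : F) ≠ 0 := cast_ne_zero_of_prime_ne hr hrp
  obtain ⟨hfixA, -⟩ := kdim_of_gPoly hF hr hrp A hAr _ k hcp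
  set V₁ : Submodule F (κ → F) := LinearMap.ker (aeval A (X - 1 : F[X])) with hV₁
  have hV₁fin : finrank F V₁ = e₀ := hfixA
  have hQ₁ : (polarBilin (Q.comp V₁.subtype)).Nondegenerate :=
    nondeg_fixed Q hQ A hAQ r hAr hrF
  have hsub : ∀ W : NdSub Q m τ, (∀ v ∈ W.1, A v ∈ W.1) → W.1 ≤ V₁ := by
    intro W hWinv
    obtain ⟨e, j, h1, -, -, hjs, -, hfix⟩ := pattern_of_nondeg hF hr hr2 hrp Q A hAQ hAr e₀ k
      hcp W.1 hWinv W.2.2.1
    rw [W.2.1] at h1
    have hj0 := eq_zero_of_lt hF hr hr2 hrp c hc j hjs (by omega)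
    intro w hw
    rw [hV₁, mem_fix]
    exact hfix hj0 w hw
  have hiff : ∀ W : NdSub Q m τ, W.1.map A = W.1 ↔ W.1 ≤ V₁ := by
    intro W
    constructor
    · intro hWA
      apply hsub W
      intro v hv
      rw [← hWA]
      exact Submodule.mem_map_of_mem hv
    · intro hle
      apply le_antisymm
      · rintro _ ⟨w, hw, rfl⟩
        have : A w = w := (mem_fix A w).1 (hle hw)
        rw [this]
        exact hw
      · intro w hw
        have : A w = w := (mem_fix A w).1 (hle hw)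
        exact ⟨w, hw, this⟩
  set W₀ : NdSub (Q.comp V₁.subtype) m τ := ndsubSubEquiv Q V₁ m τ ⟨W₁, hsub W₁ hW₁⟩
  have hnd := not_dvd_card_ndsub_even hF hr hr2 hrp c hc (Q.comp V₁.subtype) hQ₁
    (by rw [hV₁fin]; exact he₀) (by rw [hV₁fin]; exact he₀ev) m hme τ W₀
  have hmod := card_ndsub_modEq Q A hAQ r hr hAr m τ
  have hcard : Nat.card {W : NdSub Q m τ // W.1.map A = W.1} =
      Nat.card (NdSub (Q.comp V₁.subtype) m τ) := by
    apply Nat.card_congr
    exact (Equiv.subtypeEquivRight hiff).trans (ndsubSubEquiv Q V₁ m τ)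
  intro hdvd
  apply hnd
  rw [← hcard]
  exact (Nat.ModEq.dvd_iff hmod (dvd_refl r)).1 hdvd

end count

end Cfsg.Agent.Helper13.OrthNe
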