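import Mathlib
import Cfsg.Agent.Lib.Helper13.OrthNe4

set_option autoImplicit false
set_option linter.unusedSectionVars false

/-!
# Semisimple elements of odd prime order and invariant nondegenerate subspaces of even
dimension and given type: the abstract criterion
-/

namespace Cfsg.Agent.Helper13.OrthNe

open Polynomial Module QuadraticMap Matrix Cfsg.Agent.Helper13.SS Cfsg.Agent.Helper13.Dual
  Cfsg.Agent.Helper13.SympSS Cfsg.Agent.Helper13.SpDec Cfsg.Agent.Helper13.SlDec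
  Cfsg.Agent.Helper13.SpTi Cfsg.Agent.Helper13.OrthSS Cfsg.Agent.Helper13
  Cfsg.Agent.Helper13.OrthTs Cfsg.Agent.Helper13.OrthTy Cfsg.Agent.Helper13.HermSS
  Cfsg.Agent.Helper13.OrthNd Cfsg.Agent.Helper13.OrthNi Cfsg.Agent.Helper17.Spinor
open scoped Classical

universe u

/-- the abstract criterion: for every admissible number `s` of blocks there is an admissible
number `t` of blocks inside the subspace -/
def AC (i c n m : ℕ) (τV τ : Prop) : Prop :=
  ∀ s, 1 ≤ s → c * s ≤ n → (c * s = n → (bt i s ↔ τV)) →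
    ∃ t, t ≤ s ∧ c * t ≤ m ∧ m - c * t ≤ n - c * s ∧ (m = c * t → (τ ↔ bt i t)) ∧
      (m - c * t = n - c * s → ((τ ↔ bt i t) ↔ (τV ↔ bt i s)))

theorem prop_full (hQ τ b b' bs : Prop) (h1 : hQ ↔ (τ ↔ b')) (h2 : bs ↔ (b ↔ b')) :
    (τ ↔ b) ↔ (hQ ↔ bs) := by
  tauto

section main
variable {F : Type u} [Field F] [Fintype F] {p : ℕ} [Fact p.Prime] [CharP F p] {r q : ℕ}
  {κ : Type} [Fintype κ] [DecidableEq κ]

theorem ss_even_nec (hF : Fintype.card F = q) (hr : r.Prime) (hr2 : r ≠ 2) (hrp : r ≠ p)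
    (Q : QuadraticForm F (κ → F)) (hQ : (polarBilin Q).Nondegenerate)
    (d m : ℕ) (hκ : Fintype.card κ = 2 * d) (hd : 3 ≤ d) (hme : Even m) (τ : Prop)
    (i c : ℕ) (hi : i = orderOf (q : ZMod r)) (hc : c = if Even i then i else 2 * i)
    (hall : ∀ x : GL κ F, x ∈ Cfsg.Geo.omegaGL (⇑Q) →
      (∃ z : F, ((x ^ r : GL κ F) : Matrix κ κ F) = z • (1 : Matrix κ κ F)) →
      (∀ z : F, (x : Matrix κ κ F) ≠ z • (1 : Matrix κ κ F)) →
      ∃ W : Submodule F (κ → F), (finrank F W = m ∧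
        (polarBilin (Q.comp W.subtype)).Nondegenerate ∧ (IsHyp (Q.comp W.subtype) ↔ τ)) ∧
        W.map (Matrix.toLin' (x : Matrix κ κ F)) ≤ W) :
    AC i c (2 * d) m (IsHyp Q) τ := by
  subst hi
  have hi0 : 0 < orderOf (q : ZMod r) := pos_orderOf hF hr hrp
  obtain ⟨w, hw, hcw⟩ := exists_weight hF hr hr2 hrp (orderOf (q : ZMod r)) c rfl hc
  have hw0 : 0 < w := by
    rcases hw with ⟨-, rfl⟩ | ⟨-, rfl⟩ <;> omega
  have hc0 : 0 < c := by
    rw [hcw]
    exact Nat.mul_pos hw0 hi0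
  have hVev : Even (finrank F (κ → F)) := by
    rw [Module.finrank_fintype_fun_eq_card, hκ]
    exact even_two_mul d
  intro s hs1 hle hvalid
  obtain ⟨x, k, hxmem, hxr, hxns, hxQ, hks, hxc, hsum⟩ := exists_elt_of_blocks hF hr hr2 hrp
    Q hQ d hκ hd c hc s hs1 hle hvalid
  obtain ⟨W, ⟨hWm, hWnd, hWt⟩, hWinv⟩ := hall x hxmem ⟨1, by rw [hxr, one_smul]; rfl⟩ hxns
  have hWinv' : ∀ v ∈ W, LG x v ∈ W := by
    intro v hv
    have := hWinv (Submodule.mem_map_of_mem hv)
    rwa [toLin'_eq_LG] at this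
  have hAr : LG x ^ r = 1 := by rw [← LG_pow, hxr, LG_one]
  obtain ⟨e, e', j, j', hee', hjj', hfin, hjs, hj's, hty, hty', -⟩ :=
    pattern_pair hF hr hr2 hrp Q hQ (LG x) hxQ hAr _ k hxc W hWinv' hWnd
  rw [hWm] at hfin
  obtain ⟨t, ht⟩ := c_dvd_sum hF hr hr2 hrp (orderOf (q : ZMod r)) c rfl hc j hjs
  obtain ⟨t', ht'⟩ := c_dvd_sum hF hr hr2 hrp (orderOf (q : ZMod r)) c rfl hc j' hj's
  have hsumjj : ∑ a, j a + ∑ a, j' a = ∑ a, k a := by
    rw [← Finset.sum_add_distrib]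
    exact Finset.sum_congr rfl (fun a _ => hjj' a)
  have hts : t + t' = s := by
    have h1 : c * (t + t') = c * s := by
      rw [mul_add, ← ht, ← ht', ← mul_add, hsumjj, hsum]
    exact Nat.eq_of_mul_eq_mul_left hc0 h1
  have hτj := tau_iff_bt hF hr hr2 hrp c hc j t ht
  have hτj' := tau_iff_bt hF hr hr2 hrp c hc j' t' ht'
  rw [ht] at hfin
  have hct : c * t ≤ c * s := Nat.mul_le_mul_left _ (by omega)
  refine ⟨t, by omega, by omega, by omega, ?_, ?_⟩
  · intro hm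
    have he0 : e = 0 := by omega
    rw [← hWt, ← hτj]
    exact hty he0
  · intro hm
    have he'0 : e' = 0 := by omega
    have h1 := (isHyp_orth_iff Q hQ hVev W hWnd (by rw [hWm]; exact hme)).2
    rw [hty' he'0, hτj', hWt] at h1
    have h2 : bt (orderOf (q : ZMod r)) s ↔
        (bt (orderOf (q : ZMod r)) t ↔ bt (orderOf (q : ZMod r)) t') := by
      rw [← hts]
      exact bt_add _ _ _
    exact prop_full _ _ _ _ _ h1 h2

theorem ss_even_suff (hF : Fintype.card F = q) (hr : r.Prime) (hr2 : r ≠ 2) (hrp : r ≠ p)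
    (Q : QuadraticForm F (κ → F)) (hQ : (polarBilin Q).Nondegenerate)
    (d m : ℕ) (hκ : Fintype.card κ = 2 * d) (hd : 3 ≤ d) (hme : Even m) (τ : Prop)
    (i c : ℕ) (hi : i = orderOf (q : ZMod r)) (hc : c = if Even i then i else 2 * i)
    (hAC : AC i c (2 * d) m (IsHyp Q) τ)
    (x : GL κ F) (hxmem : x ∈ Cfsg.Geo.omegaGL (⇑Q))
    (hxz : ∃ z : F, ((x ^ r : GL κ F) : Matrix κ κ F) = z • (1 : Matrix κ κ F))
    (hxns : ∀ z : F, (x : Matrix κ κ F) ≠ z • (1 : Matrix κ κ F)) :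
    ∃ W : Submodule F (κ → F), (finrank F W = m ∧
      (polarBilin (Q.comp W.subtype)).Nondegenerate ∧ (IsHyp (Q.comp W.subtype) ↔ τ)) ∧
      W.map (Matrix.toLin' (x : Matrix κ κ F)) ≤ W := by
  subst hi
  have hr1 : 1 ≤ r := hr.one_lt.le
  have hrodd : Odd r := hr.eq_two_or_odd'.resolve_left hr2
  have hi0 : 0 < orderOf (q : ZMod r) := pos_orderOf hF hr hrp
  have hκ0 : 0 < Fintype.card κ := by omega
  obtain ⟨w, hw, hcw⟩ := exists_weight hF hr hr2 hrp (orderOf (q : ZMod r)) c rfl hc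
  have hw0 : 0 < w := by
    rcases hw with ⟨-, rfl⟩ | ⟨-, rfl⟩ <;> omega
  have hc0 : 0 < c := by
    rw [hcw]
    exact Nat.mul_pos hw0 hi0
  have hcev : Even c := by
    rw [hc]
    split_ifs with h
    · exact h
    · exact even_two_mul _
  obtain ⟨z, hxz⟩ := hxz
  obtain ⟨h, hhΩ, rfl⟩ := (Cfsg.Agent.Helper17.OmegaElts.mem_omegaGL_iff Q x).1 hxmem
  set A := LG (h : GL κ F) with hA
  have hAQ : ∀ v, Q (A v) = Q v := fun v => by
    rw [hA, LG_apply]
    exact h.2 v v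
  have hArz : A ^ r = z • (1 : Module.End F (κ → F)) := by
    rw [hA, ← LG_pow]
    apply LinearMap.ext
    intro v
    rw [LG_apply, hxz, Matrix.smul_mulVec, Matrix.one_mulVec, LinearMap.smul_apply,
      Module.End.one_apply]
  have hpowQ : ∀ (t : ℕ) (v : κ → F), Q ((A ^ t) v) = Q v := by
    intro t
    induction t with
    | zero => intro v; simp
    | succ t ih =>
      intro v
      rw [pow_succ, Module.End.mul_apply, ih (A v), hAQ]
  have hzz : z * z = 1 := scalar_sq_of_isom Q hQ hκ0 _ (hpowQ r) z hArz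
  have hz0 : z ≠ 0 := by
    rintro rfl
    rw [mul_zero] at hzz
    exact zero_ne_one hzz
  set A' : Module.End F (κ → F) := z • A with hA'
  have hA'Q : ∀ v, Q (A' v) = Q v := by
    intro v
    rw [hA', LinearMap.smul_apply, QuadraticMap.map_smul, smul_eq_mul, hzz, one_mul, hAQ]
  have hA'r : A' ^ r = 1 := by
    rw [hA', _root_.smul_pow, hArz, smul_smul, ← pow_succ]
    obtain ⟨t, ht⟩ := hrodd
    have hr' : r + 1 = 2 * (t + 1) := by omega
    rw [hr', pow_mul, pow_two, hzz, one_pow, one_smul]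
  obtain ⟨k, hks, hfin, hcp⟩ := struct_orth hF hr hr2 hrp Q hQ A' hA'Q hA'r
  rw [Module.finrank_fintype_fun_eq_card, hκ] at hfin
  obtain ⟨s, hs⟩ := c_dvd_sum hF hr hr2 hrp (orderOf (q : ZMod r)) c rfl hc k hks
  generalize he₀ : kdim A' (X - 1) = e₀ at hfin hcp
  rw [hs] at hfin
  have hs1 : 1 ≤ s := by
    by_contra h0
    have hs0 : s = 0 := by omega
    rw [hs0, mul_zero, add_zero] at hfin
    have hfin' : finrank F (LinearMap.ker (aeval A' (X - 1 : F[X]))) = finrank F (κ → F) := by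
      rw [Module.finrank_fintype_fun_eq_card, hκ, hfin]
      exact he₀
    have htop : LinearMap.ker (aeval A' (X - 1 : F[X])) = ⊤ :=
      Submodule.eq_top_of_finrank_eq hfin'
    have hA'1 : ∀ v, A' v = v := by
      intro v
      have h1 : v ∈ LinearMap.ker (aeval A' (X - 1 : F[X])) := by
        rw [htop]
        trivial
      rwa [LinearMap.mem_ker, map_sub, aeval_X, map_one, LinearMap.sub_apply,
        Module.End.one_apply, sub_eq_zero] at h1
    apply hxns z⁻¹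
    ext a b
    have h1 := hA'1 (Pi.single b 1)
    rw [hA', LinearMap.smul_apply, hA, LG_apply] at h1
    have h3 := congrFun h1 a
    rw [Pi.smul_apply, Matrix.mulVec_single_one, smul_eq_mul] at h3
    rw [Matrix.smul_apply, Matrix.one_apply, smul_eq_mul]
    have h4 : ((h : GL κ F) : Matrix κ κ F) a b = z⁻¹ * (z * ((h : GL κ F) : Matrix κ κ F) a b) := by
      rw [← mul_assoc, inv_mul_cancel₀ hz0, one_mul]
    rw [h4]
    have h5 : (((h : GL κ F) : Matrix κ κ F).col b) a = ((h : GL κ F) : Matrix κ κ F) a b := rfl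
    rw [← h5, h3, Pi.single_apply]
  have hvalid : c * s = 2 * d → (bt (orderOf (q : ZMod r)) s ↔ IsHyp Q) := by
    intro hfull
    have h0 : e₀ = 0 := by omega
    rw [h0, gPoly_zero_left] at hcp
    rw [type_of_nofix hF hr hr2 hrp Q hQ A' hA'Q hA'r k hks hcp,
      tau_iff_bt hF hr hr2 hrp c hc k s hs]
  obtain ⟨t, hts, htm, hte, ht0, htfull⟩ := hAC s hs1 (by omega) hvalid
  have he₀' : e₀ = 2 * d - c * s := by omega
  obtain ⟨c', hc'⟩ := hcev
  obtain ⟨m', hm'⟩ := hme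
  have e3 : c * t = 2 * (c' * t) := by
    rw [hc']
    ring
  obtain ⟨W, hW, hWinv⟩ := exists_sub_even hF hr hr2 hrp c hc Q hQ ⟨d, by rw [hκ]; ring⟩
    A' hA'Q hA'r e₀ k hks hcp s hs t (m - c * t) hts ⟨m' - c' * t, by omega⟩
    (by rw [he₀']; exact hte) τ
    (fun h0 => ht0 (by omega))
    (fun hf => htfull (by rw [hf, he₀']))
  have hmm : m - c * t + c * t = m := by omega
  rw [hmm] at hW
  refine ⟨W, hW, ?_⟩
  rintro _ ⟨v, hv, rfl⟩
  have h1 := hWinv v hv
  rw [hA', LinearMap.smul_apply] at h1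
  have h3 : A v = z⁻¹ • (z • A v) := by rw [smul_smul, inv_mul_cancel₀ hz0, one_smul]
  rw [toLin'_eq_LG, ← hA, h3]
  exact W.smul_mem _ h1

end main

end Cfsg.Agent.Helper13.OrthNe
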