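import Mathlib
import Cfsg.Agent.Lib.Helper13.OrthNe5

set_option autoImplicit false
set_option linter.unusedSectionVars false

/-!
# The arithmetic form of the abstract criterion
-/

namespace Cfsg.Agent.Helper13.OrthNe

open Polynomial Module QuadraticMap Matrix Cfsg.Agent.Helper13.SS Cfsg.Agent.Helper13.Dual
  Cfsg.Agent.Helper13.SympSS Cfsg.Agent.Helper13.SpDec Cfsg.Agent.Helper13.SlDec
  Cfsg.Agent.Helper13.SpTi Cfsg.Agent.Helper13.OrthSS Cfsg.Agent.Helper13
  Cfsg.Agent.Helper13.OrthTs Cfsg.Agent.Helper13.OrthTy Cfsg.Agent.Helper13.HermSS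
  Cfsg.Agent.Helper13.OrthNd Cfsg.Agent.Helper13.OrthNi Cfsg.Agent.Helper17.Spinor
open scoped Classical

universe u

theorem prop_shift (τ τV x y z : Prop) (h1 : (τ ↔ (x ↔ z)) ↔ (τV ↔ (y ↔ z))) :
    (τ ↔ x) ↔ (τV ↔ y) := by
  tauto

theorem prop_one (τ τV x y z : Prop) (h1 : ¬ (τ ↔ (x ↔ z))) (h2 : ¬ ((y ↔ z) ↔ τV)) :
    (τ ↔ x) ↔ (τV ↔ y) := by
  tauto

theorem AC_iff (i c n m N k M ℓ : ℕ) (τV τ : Prop) (hc0 : 0 < c)
    (hn : n = c * N + k) (hk : k < c) (hm : m = c * M + ℓ) (hℓ : ℓ < c)
    (hm1 : 1 ≤ m) (hmn : m < n) (hN1 : 1 ≤ N) :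
    AC i c n m τV τ ↔
      ((k = 0 ∧ ¬ (bt i N ↔ τV)) ∨
       (ℓ ≤ k ∧ (ℓ = 0 → (τ ↔ bt i M)) ∧ (ℓ = k → ((τ ↔ bt i M) ↔ (τV ↔ bt i N))))) := by
  have hMN : M ≤ N := by
    by_contra h
    have h1 : c * (N + 1) ≤ c * M := Nat.mul_le_mul_left c (by omega)
    rw [Nat.mul_succ] at h1
    omega
  have hMN' : k = 0 → M < N := by
    intro hk0
    by_contra h
    have h1 : c * N ≤ c * M := Nat.mul_le_mul_left c (by omega)
    omega
  constructor
  · intro hAC
    by_cases hv : k = 0 ∧ ¬ (bt i N ↔ τV)
    · exact Or.inl hv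
    · right
      have hvalid : c * N = n → (bt i N ↔ τV) := by
        intro h
        by_contra h'
        exact hv ⟨by omega, h'⟩
      obtain ⟨t, htN, htm, hte, h1, h2⟩ := hAC N hN1 (by omega) hvalid
      have htM : t = M := by
        rcases lt_trichotomy t M with h | h | h
        · exfalso
          have h3 : c * (t + 1) ≤ c * M := Nat.mul_le_mul_left c (by omega)
          rw [Nat.mul_succ] at h3
          omega
        · exact h
        · exfalso
          have h3 : c * (M + 1) ≤ c * t := Nat.mul_le_mul_left c (by omega)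
          rw [Nat.mul_succ] at h3
          omega
      subst htM
      refine ⟨by omega, fun h0 => h1 (by omega), fun hk' => h2 (by omega)⟩
  · rintro (⟨hk0, hinv⟩ | ⟨hle, hz, hkk⟩)
    · intro s hs1 hsn hvalid
      have hsN : s ≤ N := by
        by_contra h
        have h3 : c * (N + 1) ≤ c * s := Nat.mul_le_mul_left c (by omega)
        rw [Nat.mul_succ] at h3
        omega
      have hsN' : s ≠ N := by
        intro h
        subst h
        exact hinv (hvalid (by omega))
      obtain ⟨v, rfl⟩ : ∃ v, N = s + (v + 1) := ⟨N - s - 1, by omega⟩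
      have hM := hMN' hk0
      subst hk0
      rw [Nat.mul_add, Nat.mul_succ] at hn
      by_cases hℓ0 : 0 < ℓ
      · by_cases hvM : v ≤ M
        · obtain ⟨t, rfl⟩ : ∃ t, M = t + v := ⟨M - v, by omega⟩
          rw [Nat.mul_add] at hm
          exact ⟨t, by omega, by omega, by omega, fun h => by omega, fun h => by omega⟩
        · have h3 : c * (M + 1) ≤ c * v := Nat.mul_le_mul_left c (by omega)
          rw [Nat.mul_succ] at h3
          exact ⟨0, by omega, by omega, by omega, fun h => by omega, fun h => by omega⟩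
      · have hℓ0' : ℓ = 0 := by omega
        subst hℓ0'
        have hM1 : 1 ≤ M := by
          by_contra h
          have : M = 0 := by omega
          subst this
          omega
        by_cases hv1 : 1 ≤ v
        · by_cases hvM : v ≤ M
          · obtain ⟨t, rfl⟩ : ∃ t, M = t + v := ⟨M - v, by omega⟩
            rw [Nat.mul_add] at hm
            have h3 : c * 1 ≤ c * v := Nat.mul_le_mul_left c hv1
            exact ⟨t, by omega, by omega, by omega, fun h => by omega, fun h => by omega⟩
          · have h3 : c * (M + 1) ≤ c * v := Nat.mul_le_mul_left c (by omega)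
            rw [Nat.mul_succ] at h3
            have h4 : c * 1 ≤ c * M := Nat.mul_le_mul_left c hM1
            exact ⟨0, by omega, by omega, by omega, fun h => by omega, fun h => by omega⟩
        · have hv0 : v = 0 := by omega
          subst hv0
          rw [Nat.mul_zero] at hn
          by_cases hτ : τ ↔ bt i M
          · exact ⟨M, by omega, by omega, by omega, fun _ => hτ, fun h => by omega⟩
          · obtain ⟨t, rfl⟩ : ∃ t, M = t + 1 := ⟨M - 1, by omega⟩
            rw [Nat.mul_succ] at hm
            refine ⟨t, by omega, by omega, by omega, fun h => by omega, fun _ => ?_⟩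
            rw [bt_add] at hτ
            have hinv' : ¬ ((bt i s ↔ bt i 1) ↔ τV) := by
              rw [← bt_add]
              exact hinv
            exact prop_one _ _ _ _ _ hτ hinv'
    · intro s hs1 hsn hvalid
      have hsN : s ≤ N := by
        by_contra h
        have h3 : c * (N + 1) ≤ c * s := Nat.mul_le_mul_left c (by omega)
        rw [Nat.mul_succ] at h3
        omega
      obtain ⟨v, rfl⟩ : ∃ v, N = s + v := ⟨N - s, by omega⟩
      rw [Nat.mul_add] at hn
      by_cases hvM : v ≤ M
      · obtain ⟨t, rfl⟩ : ∃ t, M = t + v := ⟨M - v, by omega⟩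
        rw [Nat.mul_add] at hm
        refine ⟨t, by omega, by omega, by omega, fun h => ?_, fun h => ?_⟩
        · have hℓ0 : ℓ = 0 := by omega
          have hv0 : v = 0 := by
            by_contra hv
            have h3 : c * 1 ≤ c * v := Nat.mul_le_mul_left c (by omega)
            omega
          subst hv0
          exact hz hℓ0
        · have hℓk : ℓ = k := by omega
          have h5 := hkk hℓk
          rw [bt_add, bt_add] at h5
          exact prop_shift _ _ _ _ _ h5
      · have h3 : c * (M + 1) ≤ c * v := Nat.mul_le_mul_left c (by omega)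
        rw [Nat.mul_succ] at h3
        exact ⟨0, by omega, by omega, by omega, fun h => by omega, fun h => by omega⟩

end Cfsg.Agent.Helper13.OrthNe
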