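import Mathlib
import Cfsg.Agent.Lib.Helper13.OrthNe6

set_option autoImplicit false
set_option linter.unusedSectionVars false

/-!
# Semisimple elements of odd prime order: the general criterion for even-dimensional
nondegenerate subspaces of given type
-/

namespace Cfsg.Agent.Helper13.OrthNe

open Polynomial Module QuadraticMap Matrix Cfsg.Agent.Helper13.SS Cfsg.Agent.Helper13.Dual
  Cfsg.Agent.Helper13.SympSS Cfsg.Agent.Helper13.SpDec Cfsg.Agent.Helper13.SlDec
  Cfsg.Agent.Helper13.SpTi Cfsg.Agent.Helper13.OrthSS Cfsg.Agent.Helper13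
  Cfsg.Agent.Helper13.OrthTs Cfsg.Agent.Helper13.OrthTy Cfsg.Agent.Helper13.HermSS
  Cfsg.Agent.Helper13.OrthNd Cfsg.Agent.Helper13.OrthNi Cfsg.Agent.Helper17.Spinor
open scoped Classical

universe u

section main
variable {F : Type u} [Field F] [Fintype F] {p : ℕ} [Fact p.Prime] [CharP F p] {r q : ℕ}
  {κ : Type} [Fintype κ] [DecidableEq κ]

/-- nondegenerate subspaces of every even dimension and type exist -/
theorem exists_ndsub {U : Type u} [AddCommGroup U] [Module F U] [FiniteDimensional F U]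
    (Q : QuadraticForm F U) (hQ : (polarBilin Q).Nondegenerate)
    (hUev : Even (finrank F U)) (m : ℕ) (hme : Even m) (hm : 0 < m) (hmn : m < finrank F U)
    (τ : Prop) : Nonempty (NdSub Q m τ) := by
  obtain ⟨M, i1, i2, i3, QM, hQM, hMfin, hMt⟩ := exists_space_of_type (F := F) m hme τ
    (by omega)
  obtain ⟨f, hf, hfQ⟩ := exists_embedding_typed QM hQM (by rw [hMfin]; exact hme) Q hQ hUev
    (by omega) (by omega)
  exact nonempty_ndsub_of_embedding Q QM f hf hfQ m τ ⟨hMfin, hQM, hMt⟩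

/-- the general criterion for elements of odd prime order different from the characteristic -/
theorem gen_even (hF : Fintype.card F = q) (hr : r.Prime) (hr2 : r ≠ 2) (hrp : r ≠ p)
    (Q : QuadraticForm F (κ → F)) (hQ : (polarBilin Q).Nondegenerate)
    (d m : ℕ) (hκ : Fintype.card κ = 2 * d) (hd : 3 ≤ d) (hme : Even m) (hm2 : 2 ≤ m)
    (hmn : m + 2 ≤ 2 * d) (τ : Prop)
    (i c : ℕ) (hi : i = orderOf (q : ZMod r)) (hc : c = if Even i then i else 2 * i)
    (hrΩ : r ∣ Nat.card (NdSub Q m τ)) :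
    (∀ x : GL κ F, x ∈ Cfsg.Geo.omegaGL (⇑Q) →
      (∃ z : F, ((x ^ r : GL κ F) : Matrix κ κ F) = z • (1 : Matrix κ κ F)) →
      (∀ z : F, (x : Matrix κ κ F) ≠ z • (1 : Matrix κ κ F)) →
      ∃ W : Submodule F (κ → F), (finrank F W = m ∧
        (polarBilin (Q.comp W.subtype)).Nondegenerate ∧ (IsHyp (Q.comp W.subtype) ↔ τ)) ∧
        W.map (Matrix.toLin' (x : Matrix κ κ F)) ≤ W) ↔
    (((2 * d) % c = 0 ∧ ¬ (bt i ((2 * d) / c) ↔ IsHyp Q)) ∨
     (c ≤ m ∧ m % c ≤ (2 * d) % c ∧ (m % c = 0 → (τ ↔ bt i (m / c))) ∧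
       (m % c = (2 * d) % c → ((τ ↔ bt i (m / c)) ↔ (IsHyp Q ↔ bt i ((2 * d) / c)))))) := by
  have hi' := hi
  subst hi
  have hi0 : 0 < orderOf (q : ZMod r) := pos_orderOf hF hr hrp
  obtain ⟨w, hw, hcw⟩ := exists_weight hF hr hr2 hrp (orderOf (q : ZMod r)) c rfl hc
  have hw0 : 0 < w := by
    rcases hw with ⟨-, rfl⟩ | ⟨-, rfl⟩ <;> omega
  have hc0 : 0 < c := by
    rw [hcw]
    exact Nat.mul_pos hw0 hi0
  have hcev : Even c := by
    rw [hc]
    split_ifs with h
    · exact h
    · exact even_two_mul _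
  have hVfin : finrank F (κ → F) = 2 * d := by
    rw [Module.finrank_fintype_fun_eq_card, hκ]
  have hVev : Even (finrank F (κ → F)) := by
    rw [hVfin]
    exact even_two_mul d
  obtain ⟨W₀⟩ := exists_ndsub Q hQ hVev m hme (by omega) (by rw [hVfin]; omega) τ
  have hdn : c * ((2 * d) / c) + (2 * d) % c = 2 * d := Nat.div_add_mod _ _
  have hdm : c * (m / c) + m % c = m := Nat.div_add_mod _ _
  have hnc : (2 * d) % c < c := Nat.mod_lt _ hc0
  have hmc : m % c < c := Nat.mod_lt _ hc0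
  -- `c ≤ 2 d`
  have hcn : c ≤ 2 * d := by
    by_contra hlt
    push Not at hlt
    exact not_dvd_card_ndsub_even hF hr hr2 hrp c hc Q hQ (by rw [hVfin]; exact hlt) hVev m hme
      τ W₀ hrΩ
  have hN1 : 1 ≤ (2 * d) / c := Nat.div_pos hcn hc0
  have hACiff := AC_iff (orderOf (q : ZMod r)) c (2 * d) m ((2 * d) / c) ((2 * d) % c) (m / c)
    (m % c) (IsHyp Q) τ hc0 hdn.symm hnc hdm.symm hmc (by omega) (by omega) hN1
  constructor
  · intro hall
    have hAC := ss_even_nec hF hr hr2 hrp Q hQ d m hκ hd hme τ _ c rfl hc hall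
    rcases hACiff.1 hAC with h | ⟨h1, h2, h3⟩
    · exact Or.inl h
    · by_cases hv : (2 * d) % c = 0 ∧ ¬ (bt (orderOf (q : ZMod r)) ((2 * d) / c) ↔ IsHyp Q)
      · exact Or.inl hv
      · right
        refine ⟨?_, h1, h2, h3⟩
        by_contra hlt
        push Not at hlt
        have hvalid : c * ((2 * d) / c) = 2 * d →
            (bt (orderOf (q : ZMod r)) ((2 * d) / c) ↔ IsHyp Q) := by
          intro h
          by_contra h'
          exact hv ⟨by omega, h'⟩
        obtain ⟨x, k, hxmem, hxr, hxns, hxQ, hks, hxc, hsum⟩ := exists_elt_of_blocks hF hr hr2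
          hrp Q hQ d hκ hd c hc _ hN1 (by omega) hvalid
        obtain ⟨W, hW, hWinv⟩ := hall x hxmem ⟨1, by rw [hxr, one_smul]; rfl⟩ hxns
        have hWinv' : ∀ v ∈ W, LG x v ∈ W := by
          intro v hv
          have := hWinv (Submodule.mem_map_of_mem hv)
          rwa [toLin'_eq_LG] at this
        have hAr : LG x ^ r = 1 := by rw [← LG_pow, hxr, LG_one]
        have he₀ : 2 * d - c * ((2 * d) / c) = (2 * d) % c := by omega
        rw [he₀] at hxc
        have he₀ev : Even ((2 * d) % c) := by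
          obtain ⟨c', hc'⟩ := hcev
          have e1 : c * ((2 * d) / c) = 2 * (c' * ((2 * d) / c)) := by
            rw [hc']
            ring
          exact ⟨d - c' * ((2 * d) / c), by omega⟩
        exact not_dvd_of_lt_even hF hr hr2 hrp c hc Q hQ (LG x) hxQ hAr _ k hxc hnc he₀ev m hme
          hlt τ ⟨W, hW⟩ hWinv' hrΩ
  · intro hcond
    have hAC : AC (orderOf (q : ZMod r)) c (2 * d) m (IsHyp Q) τ := by
      rw [hACiff]
      rcases hcond with h | ⟨-, h1, h2, h3⟩
      · exact Or.inl h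
      · exact Or.inr ⟨h1, h2, h3⟩
    intro x hxmem hxz hxns
    exact ss_even_suff hF hr hr2 hrp Q hQ d m hκ hd hme τ _ c rfl hc hAC x hxmem hxz hxns

end main

end Cfsg.Agent.Helper13.OrthNe
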