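import Mathlib
import Cfsg.Agent.Lib.Helper13.OrthNe7

set_option autoImplicit false
set_option linter.unusedSectionVars false

/-!
# Invariant nondegenerate subspaces of given dimension and type: general constructions
-/

namespace Cfsg.Agent.Helper13.OrthNe

open Polynomial Module QuadraticMap Matrix Cfsg.Agent.Helper13.SS Cfsg.Agent.Helper13.Dual
  Cfsg.Agent.Helper13.SympSS Cfsg.Agent.Helper13.SpDec Cfsg.Agent.Helper13.SlDec
  Cfsg.Agent.Helper13.SpTi Cfsg.Agent.Helper13.OrthSS Cfsg.Agent.Helper13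
  Cfsg.Agent.Helper13.OrthTs Cfsg.Agent.Helper13.OrthTy Cfsg.Agent.Helper13.HermSS
  Cfsg.Agent.Helper13.OrthNd Cfsg.Agent.Helper13.OrthNi Cfsg.Agent.Helper17.Spinor
open scoped Classical

universe u

section fix
variable {F : Type u} [Field F] [Fintype F] {V : Type u} [AddCommGroup V] [Module F V]
  [FiniteDimensional F V]

/-- the endomorphism `A` fixes a nondegenerate subspace of dimension `m` and type `τ` -/
def Fix (Q : QuadraticForm F V) (A : Module.End F V) (m : ℕ) (τ : Prop) : Prop :=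
  ∃ W : Submodule F V, (finrank F W = m ∧ (polarBilin (Q.comp W.subtype)).Nondegenerate ∧
    (IsHyp (Q.comp W.subtype) ↔ τ)) ∧ ∀ v ∈ W, A v ∈ W

variable (Q : QuadraticForm F V) (A : Module.End F V)

theorem Fix.congr {m : ℕ} {τ τ' : Prop} (h : Fix Q A m τ) (hτ : τ ↔ τ') : Fix Q A m τ' := by
  obtain ⟨W, ⟨h1, h2, h3⟩, h4⟩ := h
  exact ⟨W, ⟨h1, h2, h3.trans hτ⟩, h4⟩

/-- the image of an equivariant isometric embedding -/
theorem Fix.of_range {M : Type u} [AddCommGroup M] [Module F M] (QM : QuadraticForm F M)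
    (f : M →ₗ[F] V) (hf : Function.Injective f) (hfQ : ∀ z, Q (f z) = QM z) (m : ℕ) (τ : Prop)
    (h : finrank F M = m ∧ (polarBilin QM).Nondegenerate ∧ (IsHyp QM ↔ τ))
    (hinv : ∀ z, ∃ z', A (f z) = f z') : Fix Q A m τ := by
  refine ⟨LinearMap.range f, props_of_equiv QM (Q.comp (LinearMap.range f).subtype)
    (LinearEquiv.ofInjective f hf) (fun z => hfQ z) m τ h, ?_⟩
  rintro _ ⟨z, rfl⟩
  obtain ⟨z', hz'⟩ := hinv z
  exact ⟨z', hz'.symm⟩

/-- subspaces of an invariant subspace -/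
theorem Fix.of_sub (V₁ : Submodule F V) (hV₁ : ∀ v ∈ V₁, A v ∈ V₁) (m : ℕ) (τ : Prop)
    (h : Fix (Q.comp V₁.subtype) (A.restrict hV₁) m τ) : Fix Q A m τ := by
  obtain ⟨W, hW, hWinv⟩ := h
  refine Fix.of_range Q A ((Q.comp V₁.subtype).comp W.subtype) (V₁.subtype ∘ₗ W.subtype) ?_
    (fun z => rfl) m τ hW ?_
  · intro a b hab
    apply Subtype.ext
    apply Subtype.ext
    exact hab
  · intro z
    refine ⟨⟨A.restrict hV₁ (z : V₁), hWinv _ z.2⟩, ?_⟩
    rfl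

/-- the zero subspace -/
theorem Fix.zero : Fix Q A 0 True := by
  refine ⟨⊥, ⟨finrank_bot F V, ?_, ?_⟩, ?_⟩
  · apply nondeg_of_polar
    intro x _
    apply Subtype.ext
    exact (Submodule.mem_bot F).1 x.2
  · refine iff_of_true ⟨⊥, ?_, ?_⟩ trivial
    · intro x hx
      rw [(Submodule.mem_bot F).1 hx, map_zero]
    · rw [finrank_bot, finrank_bot]
  · intro v hv
    rw [(Submodule.mem_bot F).1 hv, map_zero]
    exact Submodule.zero_mem _

/-- the whole space -/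
theorem Fix.top (hQ : (polarBilin Q).Nondegenerate) : Fix Q A (finrank F V) (IsHyp Q) := by
  refine Fix.of_range Q A Q LinearMap.id (fun a b h => h) (fun z => rfl) _ _
    ⟨rfl, hQ, Iff.rfl⟩ (fun z => ⟨A z, rfl⟩)

/-- an invariant subspace as a whole -/
theorem Fix.self (V₁ : Submodule F V) (hV₁ : ∀ v ∈ V₁, A v ∈ V₁)
    (hnd : (polarBilin (Q.comp V₁.subtype)).Nondegenerate) :
    Fix Q A (finrank F V₁) (IsHyp (Q.comp V₁.subtype)) :=
  ⟨V₁, ⟨rfl, hnd, Iff.rfl⟩, hV₁⟩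

/-- subspaces of a subspace on which `A` is scalar -/
theorem Fix.of_scalar (V₁ : Submodule F V) (z : F) (hV₁ : ∀ v ∈ V₁, A v = z • v)
    (hnd : (polarBilin (Q.comp V₁.subtype)).Nondegenerate) (hev : Even (finrank F V₁))
    (m : ℕ) (hme : Even m) (hm : 0 < m) (hlt : m < finrank F V₁) (τ : Prop) : Fix Q A m τ := by
  obtain ⟨W, hW⟩ := exists_ndsub (Q.comp V₁.subtype) hnd hev m hme hm hlt τ
  refine Fix.of_range Q A ((Q.comp V₁.subtype).comp W.subtype) (V₁.subtype ∘ₗ W.subtype) ?_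
    (fun z => rfl) m τ hW ?_
  · intro a b hab
    apply Subtype.ext
    apply Subtype.ext
    exact hab
  · intro w
    refine ⟨z • w, ?_⟩
    rw [map_smul]
    exact hV₁ _ (w : V₁).2

/-- orthogonal sums -/
theorem Fix.osum (W₁ W₂ : Submodule F V) (m₁ m₂ : ℕ) (τ₁ τ₂ : Prop)
    (h₁ : finrank F W₁ = m₁ ∧ (polarBilin (Q.comp W₁.subtype)).Nondegenerate ∧
      (IsHyp (Q.comp W₁.subtype) ↔ τ₁))
    (h₂ : finrank F W₂ = m₂ ∧ (polarBilin (Q.comp W₂.subtype)).Nondegenerate ∧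
      (IsHyp (Q.comp W₂.subtype) ↔ τ₂))
    (hev₁ : Even m₁) (hev₂ : Even m₂)
    (horth : ∀ u ∈ W₁, ∀ v ∈ W₂, polar Q u v = 0)
    (hinv₁ : ∀ v ∈ W₁, A v ∈ W₁) (hinv₂ : ∀ v ∈ W₂, A v ∈ W₂) :
    Fix Q A (m₁ + m₂) (τ₁ ↔ τ₂) := by
  obtain ⟨h11, h12, h13⟩ := h₁
  obtain ⟨h21, h22, h23⟩ := h₂
  set f : (W₁ × W₂) →ₗ[F] V := W₁.subtype.coprod W₂.subtype with hf
  have hfa : ∀ z : W₁ × W₂, f z = (z.1 : V) + (z.2 : V) := fun z => by
    rw [hf, LinearMap.coprod_apply]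
    rfl
  have hdisj : ∀ a : W₁, ∀ b : W₂, (a : V) + (b : V) = 0 → a = 0 ∧ b = 0 := by
    intro a b hab
    have ha : a = 0 := by
      apply h12.1
      intro y
      show polar (Q.comp W₁.subtype) a y = 0
      rw [OrthTs.polar_comp, polar_comm]
      have h1 : (a : V) = -(b : V) := eq_neg_of_add_eq_zero_left hab
      show polar Q (y : V) (a : V) = 0
      rw [h1, polar_neg_right, horth _ y.2 _ b.2, neg_zero]
    refine ⟨ha, ?_⟩
    rw [ha, Submodule.coe_zero, zero_add] at hab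
    exact Subtype.ext hab
  refine Fix.of_range Q A (QuadraticMap.prod (Q.comp W₁.subtype) (Q.comp W₂.subtype)) f ?_ ?_
    _ _ ⟨?_, nondeg_prod _ _ h12 h22, ?_⟩ ?_
  · rw [← LinearMap.ker_eq_bot, LinearMap.ker_eq_bot']
    intro z hz
    rw [hfa] at hz
    obtain ⟨ha, hb⟩ := hdisj _ _ hz
    exact Prod.ext ha hb
  · intro z
    rw [hfa, QuadraticMap.map_add Q, horth _ z.1.2 _ z.2.2, add_zero, QuadraticMap.prod_apply]
    rfl
  · rw [Module.finrank_prod, h11, h21]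
  · rw [isHyp_prod_iff _ _ h12 h22 (h11 ▸ hev₁) (h21 ▸ hev₂), h13, h23]
  · intro z
    refine ⟨(⟨A z.1, hinv₁ _ z.1.2⟩, ⟨A z.2, hinv₂ _ z.2.2⟩), ?_⟩
    rw [hfa, hfa, map_add]

/-- orthogonal complements -/
theorem Fix.compl (hQ : (polarBilin Q).Nondegenerate) (hVev : Even (finrank F V))
    (hAQ : ∀ v, Q (A v) = Q v) (k : ℕ) (hAk : A ^ (k + 1) = 1) (m : ℕ) (hme : Even m)
    (τ τ' : Prop) (hτ : IsHyp Q ↔ (τ ↔ τ')) (h : Fix Q A m τ) :
    Fix Q A (finrank F V - m) τ' := by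
  obtain ⟨W, ⟨h1, h2, h3⟩, hWinv⟩ := h
  have hc := isCompl_orth Q W h2
  have hndC := nondeg_orth Q hQ W h2
  obtain ⟨hCev, hT⟩ := isHyp_orth_iff Q hQ hVev W h2 (h1 ▸ hme)
  have hfin := Submodule.finrank_add_eq_of_isCompl hc
  refine ⟨LinearMap.BilinForm.orthogonal (polarBilin Q) W, ⟨by omega, hndC, ?_⟩, ?_⟩
  · rw [h3] at hT
    exact prop_cancel _ _ _ _ _ hT hτ Iff.rfl
  · intro v hv
    rw [LinearMap.BilinForm.mem_orthogonal_iff] at hv ⊢
    intro w hw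
    show polar Q w (A v) = 0
    have hpow : ∀ (j : ℕ) (x : V), x ∈ W → (A ^ j) x ∈ W := by
      intro j
      induction j with
      | zero => intro x hx; exact hx
      | succ j ih =>
        intro x hx
        rw [pow_succ', Module.End.mul_apply]
        exact hWinv _ (ih x hx)
    have hw' : w = A ((A ^ k) w) := by
      rw [← Module.End.mul_apply, ← pow_succ', hAk, Module.End.one_apply]
    rw [hw', Cfsg.Agent.Helper28.WittQuad.polar_of_isom (Q := Q) hAQ]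
    exact hv _ (hpow k w hw)

end fix

end Cfsg.Agent.Helper13.OrthNe
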