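import Mathlib
import Cfsg.Agent.Lib.Helper13.OrthNe9

set_option autoImplicit false
set_option linter.unusedSectionVars false

/-!
# Elements of order two in odd characteristic and invariant nondegenerate subspaces of given
type
-/

namespace Cfsg.Agent.Helper13.OrthNe

open Polynomial Module QuadraticMap Matrix Cfsg.Agent.Helper13.SS Cfsg.Agent.Helper13.Dual
  Cfsg.Agent.Helper13.SympSS Cfsg.Agent.Helper13.SpDec Cfsg.Agent.Helper13.SlDec
  Cfsg.Agent.Helper13.SpTi Cfsg.Agent.Helper13.OrthSS Cfsg.Agent.Helper13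
  Cfsg.Agent.Helper13.OrthTs Cfsg.Agent.Helper13.OrthTy Cfsg.Agent.Helper13.HermSS
  Cfsg.Agent.Helper13.OrthNd Cfsg.Agent.Helper13.OrthNi Cfsg.Agent.Helper17.Spinor
open scoped Classical

universe u

section gen
variable {F : Type u} [Field F] [Fintype F] {V : Type u} [AddCommGroup V] [Module F V]
  [FiniteDimensional F V] (Q : QuadraticForm F V) (A : Module.End F V)

/-- nondegenerate subspaces of given type inside a nondegenerate subspace -/
theorem exists_sub_in (V₁ : Submodule F V)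
    (hnd : (polarBilin (Q.comp V₁.subtype)).Nondegenerate) (hev : Even (finrank F V₁))
    (m : ℕ) (hme : Even m) (hm : 0 < m) (hlt : m < finrank F V₁) (τ : Prop) :
    ∃ W : Submodule F V, W ≤ V₁ ∧ (finrank F W = m ∧
      (polarBilin (Q.comp W.subtype)).Nondegenerate ∧ (IsHyp (Q.comp W.subtype) ↔ τ)) := by
  obtain ⟨W, hW⟩ := exists_ndsub (Q.comp V₁.subtype) hnd hev m hme hm hlt τ
  have hinj : Function.Injective (V₁.subtype ∘ₗ W.subtype) := by
    intro a b hab
    apply Subtype.ext
    apply Subtype.ext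
    exact hab
  refine ⟨LinearMap.range (V₁.subtype ∘ₗ W.subtype), ?_, ?_⟩
  · rintro _ ⟨z, rfl⟩
    exact (z : V₁).2
  · exact props_of_equiv ((Q.comp V₁.subtype).comp W.subtype)
      (Q.comp (LinearMap.range (V₁.subtype ∘ₗ W.subtype)).subtype)
      (LinearEquiv.ofInjective _ hinj) (fun z => rfl) m τ hW

/-- subspaces of a subspace on which `A` is scalar, odd characteristic -/
theorem Fix.of_scalar_odd (h2 : (2 : F) ≠ 0) (V₁ : Submodule F V) (z : F)
    (hV₁ : ∀ v ∈ V₁, A v = z • v)
    (hnd : (polarBilin (Q.comp V₁.subtype)).Nondegenerate)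
    (m : ℕ) (hme : Even m) (hlt : m < finrank F V₁) (τ : Prop) (h0 : m = 0 → τ) :
    Fix Q A m τ := by
  obtain ⟨M, i1, i2, i3, QM, hQM, hMfin, hMt⟩ := exists_space_of_type (F := F) m hme τ h0
  obtain ⟨f, hf, hfQ⟩ := exists_embedding h2 (Q.comp V₁.subtype) hnd QM hQM
    (by rw [hMfin]; exact hlt)
  refine Fix.of_range Q A QM (V₁.subtype ∘ₗ f) ?_ (fun z => hfQ z) m τ ⟨hMfin, hQM, hMt⟩ ?_
  · intro a b hab
    apply hf
    apply Subtype.ext
    exact hab
  · intro w
    refine ⟨z • w, ?_⟩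
    rw [map_smul]
    exact hV₁ _ (f w).2

/-- involutions fix subspaces of every even dimension and type -/
theorem invol_fix (h2 : (2 : F) ≠ 0) (hQ : (polarBilin Q).Nondegenerate)
    (hAQ : ∀ v, Q (A v) = Q v) (hA : A * A = 1) (d : ℕ) (hfin : finrank F V = 2 * d)
    (hd : 4 ≤ d) (m : ℕ) (hme : Even m) (hm : 2 ≤ m) (hmn : m + 2 ≤ 2 * d) (τ : Prop) :
    Fix Q A m τ := by
  have hab := finrank_Vp_add (A := A) h2 hA
  rw [hfin] at hab
  have hVev : Even (finrank F V) := by
    rw [hfin]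
    exact even_two_mul d
  have hp : ∀ v ∈ Vp A, A v = (1 : F) • v := fun v hv => by rw [one_smul]; exact mem_Vp.1 hv
  have hmi : ∀ v ∈ Vm A, A v = (-1 : F) • v := fun v hv => by
    rw [neg_smul, one_smul]
    exact mem_Vm.1 hv
  have hndp := nondeg_Vp h2 hA hAQ hQ
  have hndm := nondeg_Vm h2 hA hAQ hQ
  have hA2 : A ^ (1 + 1) = 1 := by rw [pow_succ, pow_one, hA]
  have hme' : Even (2 * d - m) := by
    obtain ⟨m', hm'⟩ := hme
    exact ⟨d - m', by omega⟩
  by_cases h1 : m < finrank F (Vp A)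
  · exact Fix.of_scalar_odd Q A h2 _ 1 hp hndp m hme h1 τ (by omega)
  by_cases h3 : m < finrank F (Vm A)
  · exact Fix.of_scalar_odd Q A h2 _ (-1) hmi hndm m hme h3 τ (by omega)
  by_cases h4 : finrank F (Vm A) < m
  · have h5 := Fix.of_scalar_odd Q A h2 _ 1 hp hndp (2 * d - m) hme' (by omega)
      (IsHyp Q ↔ τ) (by omega)
    have h6 := Fix.compl Q A hQ hVev hAQ 1 hA2 (2 * d - m) hme' (IsHyp Q ↔ τ) τ (by tauto) h5
    rw [hfin] at h6
    have e1 : 2 * d - (2 * d - m) = m := by omega
    rwa [e1] at h6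
  by_cases h7 : finrank F (Vp A) < m
  · have h5 := Fix.of_scalar_odd Q A h2 _ (-1) hmi hndm (2 * d - m) hme' (by omega)
      (IsHyp Q ↔ τ) (by omega)
    have h6 := Fix.compl Q A hQ hVev hAQ 1 hA2 (2 * d - m) hme' (IsHyp Q ↔ τ) τ (by tauto) h5
    rw [hfin] at h6
    have e1 : 2 * d - (2 * d - m) = m := by omega
    rwa [e1] at h6
  -- both eigenspaces have dimension `m = d`
  have hpm : finrank F (Vp A) = m := by omega
  have hmm : finrank F (Vm A) = m := by omega
  obtain ⟨W₁, hW₁le, hW₁⟩ := exists_sub_in Q (Vp A) hndp (hpm ▸ hme) 2 (by decide) (by omega)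
    (by omega) True
  have hme2 : Even (m - 2) := by
    obtain ⟨m', hm'⟩ := hme
    exact ⟨m' - 1, by omega⟩
  obtain ⟨W₂, hW₂le, hW₂⟩ := exists_sub_in Q (Vm A) hndm (hmm ▸ hme) (m - 2) hme2 (by omega)
    (by omega) τ
  have h8 := Fix.osum Q A W₁ W₂ 2 (m - 2) True τ hW₁ hW₂ (by decide) hme2
    (fun u hu v hv => polar_Vp_Vm h2 hAQ (hW₁le hu) (hW₂le hv))
    (fun v hv => by rw [mem_Vp.1 (hW₁le hv)]; exact hv)
    (fun v hv => by rw [mem_Vm.1 (hW₂le hv)]; exact W₂.neg_mem hv)
  have e1 : 2 + (m - 2) = m := by omega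
  rw [e1] at h8
  exact h8.congr Q A (by tauto)

/-- complex structures: invariant nondegenerate subspaces of every even dimension -/
theorem cplx_exists_inv (h2 : (2 : F) ≠ 0) (hQ : (polarBilin Q).Nondegenerate)
    (hA : A * A = -1) (hAQ : ∀ v, Q (A v) = Q v) (s : ℕ) (hs : 2 * s ≤ finrank F V) :
    ∃ W : Submodule F V, finrank F W = 2 * s ∧
      (polarBilin (Q.comp W.subtype)).Nondegenerate ∧ ∀ v ∈ W, A v ∈ W := by
  obtain ⟨a, ha⟩ := exists_cfam h2 hQ hA hAQ s (by omega)
  have hli := cvec_li h2 hA hAQ ha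
  refine ⟨Submodule.span F (Set.range (cvec A a s)), ?_, ?_, ?_⟩
  · rw [finrank_span_eq_card hli, Fintype.card_sum, Fintype.card_fin]
    ring
  · apply nondeg_of_polar
    intro w hw
    obtain ⟨x, hx⟩ := (Submodule.mem_span_range_iff_exists_fun F).1 w.2
    have hxj : ∀ j, x j = 0 := by
      intro j
      have h1 := hw ⟨cvec A a s j, Submodule.subset_span ⟨j, rfl⟩⟩
      have h3 : polar Q (w : V) (cvec A a s j) = 0 := h1
      rw [← hx, polar_comm] at h3
      have h4 : polar Q (cvec A a s j) (∑ i, x i • cvec A a s i) =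
          ∑ i, x i * polar Q (cvec A a s j) (cvec A a s i) := by
        have := map_sum (polarBilin Q (cvec A a s j)) (fun i => x i • cvec A a s i) Finset.univ
        rw [show polar Q (cvec A a s j) (∑ i, x i • cvec A a s i) =
          polarBilin Q (cvec A a s j) (∑ i, x i • cvec A a s i) from rfl, this]
        apply Finset.sum_congr rfl
        intro i _
        rw [map_smul, smul_eq_mul]
        rfl
      rw [h4, Finset.sum_eq_single j] at h3
      · rw [polar_self, cvec_one hAQ ha, nsmul_eq_mul, mul_one] at h3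
        rcases mul_eq_zero.1 h3 with h5 | h5
        · exact h5
        · exact absurd (by exact_mod_cast h5) h2
      · intro i _ hij
        rw [cvec_orth h2 hA hAQ ha j i (Ne.symm hij), mul_zero]
      · intro hj
        exact absurd (Finset.mem_univ j) hj
    apply Subtype.ext
    rw [← hx]
    simp [hxj]
  · intro v hv
    have h1 : (Submodule.span F (Set.range (cvec A a s))).map A ≤
        Submodule.span F (Set.range (cvec A a s)) := by
      rw [Submodule.map_span_le]
      rintro _ ⟨j, rfl⟩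
      rcases j with j | j
      · exact Submodule.subset_span ⟨Sum.inr j, rfl⟩
      · show A (A (a j)) ∈ _
        rw [cplx_apply hA]
        exact Submodule.neg_mem _ (Submodule.subset_span ⟨Sum.inl j, rfl⟩)
    exact h1 (Submodule.mem_map_of_mem hv)

theorem restrict_cplx (hA : A * A = -1) (W : Submodule F V) (hW : ∀ v ∈ W, A v ∈ W) :
    A.restrict hW * A.restrict hW = -1 := by
  apply LinearMap.ext
  intro w
  apply Subtype.ext
  rw [Module.End.mul_apply, LinearMap.restrict_coe_apply, LinearMap.restrict_coe_apply,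
    cplx_apply hA]
  rfl

/-- when `-1` is a square the invariant nondegenerate subspaces are hyperbolic -/
theorem cplx_type_sq (h2 : (2 : F) ≠ 0) (t : F) (ht : t * t = -1) (hA : A * A = -1)
    (hAQ : ∀ v, Q (A v) = Q v) (W : Submodule F V) (hW : ∀ v ∈ W, A v ∈ W)
    (hWnd : (polarBilin (Q.comp W.subtype)).Nondegenerate) : IsHyp (Q.comp W.subtype) := by
  obtain ⟨s, hs⟩ := even_finrank_of_nondeg_cplx h2 hA hAQ W hW hWnd
  obtain ⟨L, hLs, hLts, -⟩ := exists_inv_ts_of_sq (Q := Q.comp W.subtype)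
    (A := A.restrict hW) h2 t ht (restrict_cplx A hA W hW) (fun v => hAQ _) s (by omega)
  exact ⟨L, hLts, by omega⟩

/-- when `-1` is not a square the type of an invariant nondegenerate subspace is determined
by its dimension -/
theorem cplx_type_ns (h2 : (2 : F) ≠ 0) (hns : ¬ IsSquare (-1 : F)) (hA : A * A = -1)
    (hAQ : ∀ v, Q (A v) = Q v) (W : Submodule F V) (hW : ∀ v ∈ W, A v ∈ W)
    (hWnd : (polarBilin (Q.comp W.subtype)).Nondegenerate) (s : ℕ)
    (hs : finrank F W = 2 * s) : IsHyp (Q.comp W.subtype) ↔ Even s :=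
  isHyp_iff_of_cplx (Q := Q.comp W.subtype) (A := A.restrict hW) h2 hns hWnd
    (restrict_cplx A hA W hW) (fun v => hAQ _) s hs

end gen

end Cfsg.Agent.Helper13.OrthNe
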