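import Mathlib
import Cfsg.Agent.Lib.Helper13.OrthNe10

set_option autoImplicit false
set_option linter.unusedSectionVars false

/-!
# Elements of order two in odd characteristic: the criterion
-/

namespace Cfsg.Agent.Helper13.OrthNe

open Polynomial Module QuadraticMap Matrix Cfsg.Agent.Helper13.SS Cfsg.Agent.Helper13.Dual
  Cfsg.Agent.Helper13.SympSS Cfsg.Agent.Helper13.SpDec Cfsg.Agent.Helper13.SlDec
  Cfsg.Agent.Helper13.SpTi Cfsg.Agent.Helper13.OrthSS Cfsg.Agent.Helper13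
  Cfsg.Agent.Helper13.OrthTs Cfsg.Agent.Helper13.OrthTy Cfsg.Agent.Helper13.HermSS
  Cfsg.Agent.Helper13.OrthNd Cfsg.Agent.Helper13.OrthNi Cfsg.Agent.Helper17.Spinor
open scoped Classical

universe u

section two
variable {F : Type u} [Field F] [Fintype F] {κ : Type} [Fintype κ] [DecidableEq κ]
  (Q : QuadraticForm F (κ → F)) {q : ℕ}

/-- the criterion for elements of order two in odd characteristic -/
theorem two_even (h2 : (2 : F) ≠ 0) (hQ : (polarBilin Q).Nondegenerate) (d m : ℕ)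
    (hκ : Fintype.card κ = 2 * d) (hd : 4 ≤ d) (hme : Even m) (hm2 : 2 ≤ m)
    (hmn : m + 2 ≤ 2 * d) (τ : Prop) :
    (∀ x : GL κ F, x ∈ Cfsg.Geo.omegaGL (⇑Q) →
      (∃ z : F, ((x ^ 2 : GL κ F) : Matrix κ κ F) = z • (1 : Matrix κ κ F)) →
      (∀ z : F, (x : Matrix κ κ F) ≠ z • (1 : Matrix κ κ F)) →
      ∃ W : Submodule F (κ → F), (finrank F W = m ∧
        (polarBilin (Q.comp W.subtype)).Nondegenerate ∧ (IsHyp (Q.comp W.subtype) ↔ τ)) ∧
        W.map (Matrix.toLin' (x : Matrix κ κ F)) ≤ W) ↔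
    ((¬ ∃ h : ↥(Cfsg.isometryGroup F (⇑Q)), h ∈ Cfsg.Omega F (⇑Q) ∧
      toEnd Q h * toEnd Q h = -1) ∨
     ((IsSquare (-1 : F) → τ) ∧ (¬ IsSquare (-1 : F) → (τ ↔ Even (m / 2))))) := by
  have hκ0 : 0 < Fintype.card κ := by omega
  have hfin : finrank F (κ → F) = 2 * d := by
    rw [Module.finrank_fintype_fun_eq_card, hκ]
  obtain ⟨m', hm'⟩ := hme
  have hm'2 : m / 2 = m' := by omega
  constructor
  · intro hall
    by_cases hex : ∃ h : ↥(Cfsg.isometryGroup F (⇑Q)), h ∈ Cfsg.Omega F (⇑Q) ∧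
      toEnd Q h * toEnd Q h = -1
    · right
      obtain ⟨h, hΩ, hAA⟩ := hex
      have hAQ : ∀ v, Q (toEnd Q h v) = Q v := toEnd_isometry Q h
      obtain ⟨W, ⟨hW1, hW2, hW3⟩, hWinv⟩ := hall (h : GL κ F)
        (Cfsg.Agent.Helper17.OmegaElts.coe_mem_omegaGL Q hΩ)
        ⟨-1, (toEnd_sq_eq_iff Q h (-1)).2 (by rw [hAA]; exact neg_one_smul_one_end.symm)⟩
        (fun z hz => not_scalar_of_cplx Q h2 hQ hκ0 _ hAQ hAA z ((toEnd_eq_smul_iff Q h z).1 hz))
      have hinv' := (map_le_iff_toEnd Q h W).1 hWinv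
      constructor
      · rintro ⟨t, ht⟩
        exact hW3.1 (cplx_type_sq Q _ h2 t ht.symm hAA hAQ W hinv' hW2)
      · intro hns
        rw [← hW3, hm'2]
        exact cplx_type_ns Q _ h2 hns hAA hAQ W hinv' hW2 m' (by omega)
    · exact Or.inl hex
  · intro hcond x hxmem ⟨z, hz⟩ hns
    obtain ⟨h, hhΩ, rfl⟩ := (Cfsg.Agent.Helper17.OmegaElts.mem_omegaGL_iff Q x).1 hxmem
    have hz' := (toEnd_sq_eq_iff Q h z).1 hz
    have hAQ : ∀ v, Q (toEnd Q h v) = Q v := toEnd_isometry Q h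
    have hAAQ : ∀ v, Q ((toEnd Q h * toEnd Q h) v) = Q v := by
      intro v
      rw [Module.End.mul_apply, hAQ, hAQ]
    have hzz := scalar_sq_of_isom Q hQ hκ0 _ hAAQ z hz'
    have h4 : (z - 1) * (z + 1) = 0 := by linear_combination hzz
    rcases mul_eq_zero.1 h4 with h5 | h5
    · have hsq : toEnd Q h * toEnd Q h = 1 := by
        rw [hz', sub_eq_zero.1 h5, one_smul]
      obtain ⟨W, hW, hinv⟩ := invol_fix Q (toEnd Q h) h2 hQ hAQ hsq d hfin hd m ⟨m', hm'⟩ hm2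
        hmn τ
      exact ⟨W, hW, (map_le_iff_toEnd Q h W).2 hinv⟩
    · have hAA : toEnd Q h * toEnd Q h = -1 := by
        rw [hz', eq_neg_of_add_eq_zero_left h5]
        exact neg_one_smul_one_end
      rcases hcond with hno | ⟨hc1, hc2⟩
      · exact absurd ⟨h, hhΩ, hAA⟩ hno
      · obtain ⟨W, hW1, hW2, hWinv⟩ := cplx_exists_inv Q (toEnd Q h) h2 hQ hAA hAQ m'
          (by rw [hfin]; omega)
        refine ⟨W, ⟨by omega, hW2, ?_⟩, (map_le_iff_toEnd Q h W).2 hWinv⟩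
        by_cases hs : IsSquare (-1 : F)
        · obtain ⟨t, ht⟩ := hs
          exact iff_of_true (cplx_type_sq Q _ h2 t ht.symm hAA hAQ W hWinv hW2)
            (hc1 ⟨t, ht⟩)
        · rw [cplx_type_ns Q _ h2 hs hAA hAQ W hWinv hW2 m' hW1, ← hm'2]
          exact (hc2 hs).symm

end two

end Cfsg.Agent.Helper13.OrthNe
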