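import Mathlib
import Cfsg.Agent.Lib.Helper13.OrthNe9

set_option autoImplicit false
set_option linter.unusedSectionVars false

/-!
# Isometries `1 + N` with `N² = 0` and totally singular image: rank counting
-/

namespace Cfsg.Agent.Helper13.OrthNe

open Polynomial Module QuadraticMap Matrix Cfsg.Agent.Helper13.SS Cfsg.Agent.Helper13.Dual
  Cfsg.Agent.Helper13.SympSS Cfsg.Agent.Helper13.SpDec Cfsg.Agent.Helper13.SlDec
  Cfsg.Agent.Helper13.SpTi Cfsg.Agent.Helper13.OrthSS Cfsg.Agent.Helper13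
  Cfsg.Agent.Helper13.OrthTs Cfsg.Agent.Helper13.OrthTy Cfsg.Agent.Helper13.HermSS
  Cfsg.Agent.Helper13.OrthNd Cfsg.Agent.Helper13.OrthNi Cfsg.Agent.Helper17.Spinor
open scoped Classical

universe u

section rank
variable {F : Type u} [Field F] {V : Type u} [AddCommGroup V] [Module F V]
  [FiniteDimensional F V]

theorem two_mul_finrank_map_le (N : Module.End F V) (hNN : N * N = 0) (W : Submodule F V)
    (hW : ∀ v ∈ W, N v ∈ W) : 2 * finrank F (W.map N) ≤ finrank F W := by
  set f : W →ₗ[F] V := N.domRestrict W with hf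
  have h1 := LinearMap.finrank_range_add_finrank_ker f
  rw [hf, LinearMap.range_domRestrict] at h1
  have h2 : finrank F (W.map N) ≤ finrank F (LinearMap.ker (N.domRestrict W)) := by
    have hmem : ∀ y : ↥(W.map N), (y : V) ∈ W := by
      rintro ⟨_, ⟨w, hw, rfl⟩⟩
      exact hW w hw
    set g : ↥(W.map N) →ₗ[F] W := LinearMap.codRestrict W (W.map N).subtype hmem with hg
    have hg2 : ∀ y, g y ∈ LinearMap.ker (N.domRestrict W) := by
      rintro ⟨_, ⟨w, hw, rfl⟩⟩
      rw [LinearMap.mem_ker]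
      show N (N w) = 0
      rw [← Module.End.mul_apply, hNN]
      rfl
    set g' : ↥(W.map N) →ₗ[F] ↥(LinearMap.ker (N.domRestrict W)) :=
      LinearMap.codRestrict _ g hg2 with hg'
    apply LinearMap.finrank_le_finrank_of_injective (f := g')
    intro a b hab
    apply Subtype.ext
    have := congrArg (fun z : ↥(LinearMap.ker (N.domRestrict W)) => ((z : W) : V)) hab
    exact this
  omega

theorem finrank_range_split (N : Module.End F V) (W C : Submodule F V) (hc : IsCompl W C)
    (hW : ∀ v ∈ W, N v ∈ W) (hC : ∀ v ∈ C, N v ∈ C) :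
    finrank F (LinearMap.range N) = finrank F (W.map N) + finrank F (C.map N) := by
  have h1 : LinearMap.range N = W.map N ⊔ C.map N := by
    rw [← Submodule.map_sup, hc.sup_eq_top, Submodule.map_top]
  have h2 := Submodule.finrank_sup_add_finrank_inf_eq (W.map N) (C.map N)
  have h3 : W.map N ⊓ C.map N = ⊥ := by
    rw [eq_bot_iff]
    intro y hy
    rw [Submodule.mem_inf] at hy
    have hyW : y ∈ W := by
      obtain ⟨w, hw, rfl⟩ := hy.1
      exact hW w hw
    have hyC : y ∈ C := by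
      obtain ⟨w, hw, rfl⟩ := hy.2
      exact hC w hw
    have : y ∈ W ⊓ C := Submodule.mem_inf.2 ⟨hyW, hyC⟩
    rwa [hc.inf_eq_bot] at this
  rw [h3, finrank_bot, ← h1] at h2
  omega

theorem isHyp_of_rank (Q : QuadraticForm F V) (N : Module.End F V) (hts : ∀ v, Q (N v) = 0)
    (W : Submodule F V) (hW : ∀ v ∈ W, N v ∈ W)
    (h : 2 * finrank F (W.map N) = finrank F W) : IsHyp (Q.comp W.subtype) := by
  have hle : W.map N ≤ W := by
    rintro _ ⟨w, hw, rfl⟩
    exact hW w hw
  refine ⟨(W.map N).comap W.subtype, ?_, ?_⟩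
  · rintro x ⟨w, -, hw⟩
    show Q (x : V) = 0
    have : (x : V) = N w := hw.symm
    rw [this, hts]
  · rw [(Submodule.comapSubtypeEquivOfLe hle).finrank_eq]
    exact h

end rank

section bad
variable {F : Type u} [Field F] [Fintype F] {V : Type u} [AddCommGroup V] [Module F V]
  [FiniteDimensional F V]

/-- an isometry `Y = 1 + N` with `N² = 0`, totally singular image of dimension `ρ` -/
def IsAType (Q : QuadraticForm F V) (Y : Module.End F V) (ρ : ℕ) : Prop :=
  (∀ v, Q (Y v) = Q v) ∧ (Y - 1) * (Y - 1) = 0 ∧ (∀ v, Q ((Y - 1) v) = 0) ∧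
    finrank F (LinearMap.range (Y - 1)) = ρ

variable {Q : QuadraticForm F V} {Y : Module.End F V} {ρ : ℕ}

theorem IsAType.polar_self (h : IsAType Q Y ρ) (v : V) : polar Q v ((Y - 1) v) = 0 := by
  obtain ⟨h1, -, h3, -⟩ := h
  have h4 := h1 v
  have h5 : Y v = v + (Y - 1) v := by
    rw [LinearMap.sub_apply, Module.End.one_apply]
    abel
  rw [h5, QuadraticMap.map_add Q, h3] at h4
  linear_combination h4

theorem IsAType.polar_skew (h : IsAType Q Y ρ) (u v : V) :
    polar Q u ((Y - 1) v) = -polar Q ((Y - 1) u) v := by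
  have h1 := h.polar_self (u + v)
  rw [map_add, polar_add_left, polar_add_right, polar_add_right, h.polar_self u,
    h.polar_self v] at h1
  rw [polar_comm Q ((Y - 1) u) v]
  linear_combination h1

theorem IsAType.inv_sub (h : IsAType Q Y ρ) (W : Submodule F V) (hW : ∀ v ∈ W, Y v ∈ W) :
    ∀ v ∈ W, (Y - 1) v ∈ W := by
  intro v hv
  rw [LinearMap.sub_apply, Module.End.one_apply]
  exact W.sub_mem (hW v hv) hv

theorem IsAType.inv_orth (h : IsAType Q Y ρ) (W : Submodule F V) (hW : ∀ v ∈ W, Y v ∈ W) :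
    ∀ v ∈ LinearMap.BilinForm.orthogonal (polarBilin Q) W,
      (Y - 1) v ∈ LinearMap.BilinForm.orthogonal (polarBilin Q) W := by
  intro v hv
  rw [LinearMap.BilinForm.mem_orthogonal_iff] at hv ⊢
  intro w hw
  show polar Q w ((Y - 1) v) = 0
  rw [h.polar_skew]
  have := hv _ (h.inv_sub W hW w hw)
  have h2 : polar Q ((Y - 1) w) v = 0 := this
  rw [h2, neg_zero]

/-- the rank of `N` on an invariant nondegenerate subspace is even -/
theorem IsAType.even_rank (h : IsAType Q Y ρ) (W : Submodule F V) (hW : ∀ v ∈ W, Y v ∈ W)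
    (hWnd : (polarBilin (Q.comp W.subtype)).Nondegenerate) :
    Even (finrank F (W.map (Y - 1))) := by
  have hN := h.inv_sub W hW
  set N' : Module.End F W := (Y - 1).restrict hN with hN'
  have halt : ∀ w : W, polarBilin (Q.comp W.subtype) (N' w) w = 0 := by
    intro w
    show polar (Q.comp W.subtype) (N' w) w = 0
    rw [OrthTs.polar_comp, polar_comm]
    exact h.polar_self (w : V)
  have h1 := Cfsg.Agent.Helper13.OrthSp.even_finrank_range_of_alt
    (polarBilin (Q.comp W.subtype)) hWnd N' halt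
  have h2 : (LinearMap.range N').map W.subtype = W.map (Y - 1) := by
    ext y
    constructor
    · rintro ⟨_, ⟨w, rfl⟩, rfl⟩
      exact ⟨w, w.2, rfl⟩
    · rintro ⟨w, hw, rfl⟩
      exact ⟨N' ⟨w, hw⟩, ⟨⟨w, hw⟩, rfl⟩, rfl⟩
  rw [← h2, Submodule.finrank_map_subtype_eq]
  exact h1

/-- when the rank is almost maximal every invariant nondegenerate subspace is hyperbolic -/
theorem IsAType.isHyp_sub (h : IsAType Q Y ρ) (hQ : (polarBilin Q).Nondegenerate)
    (hVev : Even (finrank F V)) (hH : IsHyp Q) (hρ : finrank F V ≤ 2 * ρ + 2)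
    (W : Submodule F V) (hW : ∀ v ∈ W, Y v ∈ W)
    (hWnd : (polarBilin (Q.comp W.subtype)).Nondegenerate) (hWev : Even (finrank F W)) :
    IsHyp (Q.comp W.subtype) := by
  obtain ⟨h1, h2, h3, h4⟩ := h
  have hh : IsAType Q Y ρ := ⟨h1, h2, h3, h4⟩
  have hc := isCompl_orth Q W hWnd
  have hndC := nondeg_orth Q hQ W hWnd
  obtain ⟨hCev, hT⟩ := isHyp_orth_iff Q hQ hVev W hWnd hWev
  have hfin := Submodule.finrank_add_eq_of_isCompl hc
  have hNW := hh.inv_sub W hW
  have hNC := hh.inv_orth W hW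
  have hsplit := finrank_range_split (Y - 1) W _ hc hNW hNC
  have hleW := two_mul_finrank_map_le (Y - 1) h2 W hNW
  have hleC := two_mul_finrank_map_le (Y - 1) h2 _ hNC
  obtain ⟨a, ha⟩ := hWev
  obtain ⟨b, hb⟩ := hCev
  by_cases hcase : 2 * finrank F (W.map (Y - 1)) = finrank F W
  · exact isHyp_of_rank Q (Y - 1) h3 W hNW hcase
  · have hC2 : 2 * finrank F ((LinearMap.BilinForm.orthogonal (polarBilin Q) W).map (Y - 1)) =
        finrank F ↥(LinearMap.BilinForm.orthogonal (polarBilin Q) W) := by omega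
    have hCh := isHyp_of_rank Q (Y - 1) h3 _ hNC hC2
    exact (hT.1 hH).2 hCh

/-- when the rank is maximal every invariant nondegenerate subspace has dimension divisible
by four -/
theorem IsAType.four_dvd (h : IsAType Q Y ρ) (hQ : (polarBilin Q).Nondegenerate)
    (hρ : finrank F V = 2 * ρ)
    (W : Submodule F V) (hW : ∀ v ∈ W, Y v ∈ W)
    (hWnd : (polarBilin (Q.comp W.subtype)).Nondegenerate) : 4 ∣ finrank F W := by
  obtain ⟨h1, h2, h3, h4⟩ := h
  have hh : IsAType Q Y ρ := ⟨h1, h2, h3, h4⟩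
  have hc := isCompl_orth Q W hWnd
  have hfin := Submodule.finrank_add_eq_of_isCompl hc
  have hNW := hh.inv_sub W hW
  have hNC := hh.inv_orth W hW
  have hsplit := finrank_range_split (Y - 1) W _ hc hNW hNC
  have hleW := two_mul_finrank_map_le (Y - 1) h2 W hNW
  have hleC := two_mul_finrank_map_le (Y - 1) h2 _ hNC
  obtain ⟨a, ha⟩ := hh.even_rank W hW hWnd
  exact ⟨a, by omega⟩

/-- when the rank is `d - 1` with `d` odd, invariant nondegenerate subspaces of dimension
divisible by four are hyperbolic -/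
theorem IsAType.isHyp_of_four_dvd (h : IsAType Q Y ρ) (hQ : (polarBilin Q).Nondegenerate)
    (d : ℕ) (hd : Odd d) (hfinV : finrank F V = 2 * d) (hρ : ρ + 1 = d)
    (W : Submodule F V) (hW : ∀ v ∈ W, Y v ∈ W)
    (hWnd : (polarBilin (Q.comp W.subtype)).Nondegenerate) (hW4 : 4 ∣ finrank F W) :
    IsHyp (Q.comp W.subtype) := by
  obtain ⟨h1, h2, h3, h4⟩ := h
  have hh : IsAType Q Y ρ := ⟨h1, h2, h3, h4⟩
  have hc := isCompl_orth Q W hWnd
  have hndC := nondeg_orth Q hQ W hWnd
  have hfin := Submodule.finrank_add_eq_of_isCompl hc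
  have hNW := hh.inv_sub W hW
  have hNC := hh.inv_orth W hW
  have hYC : ∀ v ∈ LinearMap.BilinForm.orthogonal (polarBilin Q) W,
      Y v ∈ LinearMap.BilinForm.orthogonal (polarBilin Q) W := by
    intro v hv
    have h5 : Y v = v + (Y - 1) v := by
      rw [LinearMap.sub_apply, Module.End.one_apply]
      abel
    rw [h5]
    exact Submodule.add_mem _ hv (hNC v hv)
  have hsplit := finrank_range_split (Y - 1) W _ hc hNW hNC
  have hleW := two_mul_finrank_map_le (Y - 1) h2 W hNW
  have hleC := two_mul_finrank_map_le (Y - 1) h2 _ hNC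
  obtain ⟨a, ha⟩ := hh.even_rank W hW hWnd
  obtain ⟨b, hb⟩ := hh.even_rank _ hYC hndC
  obtain ⟨w, hw⟩ := hW4
  obtain ⟨e, he⟩ := hd
  apply isHyp_of_rank Q (Y - 1) h3 W hNW
  omega

end bad

end Cfsg.Agent.Helper13.OrthNe
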