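import Mathlib
import Cfsg.Agent.Lib.Helper13.OrthNe12
import Cfsg.Agent.Lib.Helper17.OmegaChar2

set_option autoImplicit false
set_option linter.unusedSectionVars false

/-!
# Construction of the isometries `1 + N` with `N² = 0` and totally singular image
-/

namespace Cfsg.Agent.Helper13.OrthNe

open Polynomial Module QuadraticMap Matrix Cfsg.Agent.Helper13.SS Cfsg.Agent.Helper13.Dual
  Cfsg.Agent.Helper13.SympSS Cfsg.Agent.Helper13.SpDec Cfsg.Agent.Helper13.SlDec
  Cfsg.Agent.Helper13.SpTi Cfsg.Agent.Helper13.OrthSS Cfsg.Agent.Helper13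
  Cfsg.Agent.Helper13.OrthTs Cfsg.Agent.Helper13.OrthTy Cfsg.Agent.Helper13.HermSS
  Cfsg.Agent.Helper13.OrthNd Cfsg.Agent.Helper13.OrthNi Cfsg.Agent.Helper17.Spinor
  Cfsg.Agent.Helper13.OrthJp
open scoped Classical

universe u

section constr
variable {F : Type u} [Field F] [Fintype F]

/-- the hyperbolic model -/
theorem isAType_hyp (d l : ℕ) (hl : 2 * l ≤ d) :
    ∃ Y : Module.End F ((Fin d → F) × (Fin d → F)),
      IsAType (OrthTs.hypQ (Fin d) F) Y (2 * l) := by
  set ν : Multiset ℕ := Multiset.replicate l 2 + Multiset.replicate (d - 2 * l) 1 with hν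
  have hpos : ∀ a ∈ ν, 0 < a := by
    intro a ha
    rw [hν, Multiset.mem_add] at ha
    rcases ha with ha | ha
    · rw [Multiset.eq_of_mem_replicate ha]
      decide
    · rw [Multiset.eq_of_mem_replicate ha]
      decide
  have hle2 : ∀ a ∈ ν, a ≤ 2 := by
    intro a ha
    rw [hν, Multiset.mem_add] at ha
    rcases ha with ha | ha
    · rw [Multiset.eq_of_mem_replicate ha]
    · rw [Multiset.eq_of_mem_replicate ha]
      decide
  have hsum : ν.sum = d := by
    rw [hν, Multiset.sum_add, Multiset.sum_replicate, Multiset.sum_replicate, smul_eq_mul,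
      smul_eq_mul]
    omega
  have hsum1 : (ν.map (fun a => a - 1)).sum = l := by
    rw [hν, Multiset.map_add, Multiset.map_replicate, Multiset.map_replicate, Multiset.sum_add,
      Multiset.sum_replicate, Multiset.sum_replicate, smul_eq_mul, smul_eq_mul]
    norm_num
  obtain ⟨g, cb, hcb⟩ := Nilp.exists_of_type (F := F) ν hpos hsum
  have h1 : HasType (Matrix.toLin' (g : Matrix (Fin d) (Fin d) F) - 1) ν := by
    have e : Matrix.toLin' (g : Matrix (Fin d) (Fin d) F) - 1 = Nilp.nilOf g := by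
      unfold Nilp.nilOf Nilp.nilMat
      rw [map_sub, map_one]
      rfl
    rw [e, ← hcb]
    exact ⟨cb.type_pos, cb.finrank_range_pow⟩
  set G : Matrix (Fin d) (Fin d) F := (g : Matrix (Fin d) (Fin d) F) with hG
  set Gi : Matrix (Fin d) (Fin d) F := ((g⁻¹ : GL (Fin d) F) : Matrix (Fin d) (Fin d) F) with hGi
  have hGGi : G * Gi = 1 := Nilp.gln_mul_inv g
  have hGiG : Gi * G = 1 := Nilp.gln_inv_mul g
  have hμ := hasType_hypMap G Gi hGGi hGiG h1
  have hEE : (G - 1) * (G - 1) = 0 := by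
    have h2 := h1.pow_eq_zero 2 hle2
    have h3 : Matrix.toLin' ((G - 1) * (G - 1)) = 0 := by
      rw [Matrix.toLin'_mul, map_sub, Matrix.toLin'_one, ← h2, pow_two]
      rfl
    exact Matrix.toLin'.injective (by rw [h3, map_zero])
  have hE'E : (Gi - 1) * (G - 1) = 0 := by
    have e1 : Gi - 1 = -(Gi * (G - 1)) := by
      rw [Matrix.mul_sub, hGiG, Matrix.mul_one]
      abel
    rw [e1, Matrix.neg_mul, Matrix.mul_assoc, hEE, Matrix.mul_zero, neg_zero]
  refine ⟨SpTi.hypMap G Gi, fun v => OrthTs.hypMap_isom _ _ hGiG v, ?_, ?_, ?_⟩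
  · have := hμ.pow_eq_zero 2 (by
      intro a ha
      rcases Multiset.mem_add.1 ha with h | h
      · exact hle2 a h
      · exact hle2 a h)
    rwa [pow_two] at this
  · intro v
    rw [LinearMap.sub_apply, Module.End.one_apply, SpTi.hypMap_apply, OrthTs.hypQ_apply]
    show (G.mulVec v.1 - v.1) ⬝ᵥ (Giᵀ.mulVec v.2 - v.2) = 0
    have e1 : G.mulVec v.1 - v.1 = (G - 1).mulVec v.1 := by
      rw [Matrix.sub_mulVec, Matrix.one_mulVec]
    have e2 : Giᵀ.mulVec v.2 - v.2 = (Gi - 1)ᵀ.mulVec v.2 := by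
      rw [Matrix.transpose_sub, Matrix.transpose_one, Matrix.sub_mulVec, Matrix.one_mulVec]
    rw [e1, e2, Matrix.mulVec_transpose, dotProduct_comm, ← Matrix.dotProduct_mulVec,
      Matrix.mulVec_mulVec, hE'E, Matrix.zero_mulVec, dotProduct_zero]
  · have := hμ.2 1
    rw [pow_one] at this
    rw [this, Multiset.map_add, Multiset.sum_add, hsum1]
    ring

variable {V : Type u} [AddCommGroup V] [Module F V] [FiniteDimensional F V]
  {V' : Type u} [AddCommGroup V'] [Module F V'] [FiniteDimensional F V']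

theorem IsAType.prod_one {Q : QuadraticForm F V} {Y : Module.End F V} {ρ : ℕ}
    (h : IsAType Q Y ρ) (Q' : QuadraticForm F V') :
    IsAType (QuadraticMap.prod Q Q') (Y.prodMap (1 : Module.End F V')) ρ := by
  obtain ⟨h1, h2, h3, h4⟩ := h
  have e : (Y.prodMap (1 : Module.End F V') - 1 : Module.End F (V × V')) =
      (Y - 1).prodMap 0 := by
    rw [prodMap_sub_one, sub_self]
  refine ⟨?_, ?_, ?_, ?_⟩
  · rintro ⟨a, b⟩
    rw [LinearMap.prodMap_apply, QuadraticMap.prod_apply, QuadraticMap.prod_apply, h1]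
    rfl
  · rw [e]
    apply LinearMap.ext
    rintro ⟨a, b⟩
    rw [Module.End.mul_apply, LinearMap.prodMap_apply, LinearMap.prodMap_apply,
      LinearMap.zero_apply]
    show ((Y - 1) ((Y - 1) a), (0 : V' →ₗ[F] V') 0) = 0
    rw [← Module.End.mul_apply, h2]
    rfl
  · rw [e]
    rintro ⟨a, b⟩
    rw [LinearMap.prodMap_apply, QuadraticMap.prod_apply, h3, LinearMap.zero_apply, map_zero,
      add_zero]
  · rw [e]
    have e2 : LinearMap.range ((Y - 1).prodMap (0 : V' →ₗ[F] V')) =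
        (LinearMap.range (Y - 1)).map (LinearMap.inl F V V') := by
      ext ⟨a, b⟩
      constructor
      · rintro ⟨⟨x, y⟩, hxy⟩
        rw [LinearMap.prodMap_apply, LinearMap.zero_apply] at hxy
        refine ⟨(Y - 1) x, ⟨x, rfl⟩, ?_⟩
        rw [← hxy]
        rfl
      · rintro ⟨_, ⟨x, rfl⟩, hx⟩
        refine ⟨(x, 0), ?_⟩
        rw [← hx, LinearMap.prodMap_apply, LinearMap.zero_apply]
        rfl
    rw [e2, ← (Submodule.equivMapOfInjective (LinearMap.inl F V V') LinearMap.inl_injective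
      (LinearMap.range (Y - 1))).finrank_eq, h4]

theorem IsAType.of_equiv {Q : QuadraticForm F V} {Y : Module.End F V} {ρ : ℕ}
    (h : IsAType Q Y ρ) (Q' : QuadraticForm F V') (e : V ≃ₗ[F] V')
    (he : ∀ v, Q' (e v) = Q v) : IsAType Q' (e.conj Y) ρ := by
  obtain ⟨h1, h2, h3, h4⟩ := h
  have hN : ∀ w, (e.conj Y - 1) w = e ((Y - 1) (e.symm w)) := by
    intro w
    rw [LinearMap.sub_apply, LinearEquiv.conj_apply_apply, Module.End.one_apply,
      LinearMap.sub_apply, Module.End.one_apply, map_sub, e.apply_symm_apply]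
  refine ⟨?_, ?_, ?_, ?_⟩
  · intro w
    rw [LinearEquiv.conj_apply_apply, he, h1, ← he, e.apply_symm_apply]
  · apply LinearMap.ext
    intro w
    rw [Module.End.mul_apply, hN, hN, e.symm_apply_apply, ← Module.End.mul_apply, h2]
    simp
  · intro w
    rw [hN, he, h3]
  · have e2 : LinearMap.range (e.conj Y - 1) = (LinearMap.range (Y - 1)).map (e : V →ₗ[F] V') := by
      ext w
      constructor
      · rintro ⟨x, rfl⟩
        rw [hN]
        exact ⟨_, ⟨e.symm x, rfl⟩, rfl⟩
      · rintro ⟨_, ⟨x, rfl⟩, rfl⟩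
        refine ⟨e x, ?_⟩
        rw [hN, e.symm_apply_apply]
        rfl
    rw [e2, ← (Submodule.equivMapOfInjective (e : V →ₗ[F] V') e.injective
      (LinearMap.range (Y - 1))).finrank_eq, h4]

end constr

section elt
variable {F : Type u} [Field F] [Fintype F] {p : ℕ} [Fact p.Prime] [CharP F p]
  {κ : Type} [Fintype κ] [DecidableEq κ]

/-- existence in the concrete space -/
theorem exists_atype (Q : QuadraticForm F (κ → F)) (hQ : (polarBilin Q).Nondegenerate)
    (d : ℕ) (hκ : Fintype.card κ = 2 * d) (l : ℕ)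
    (hl : (IsHyp Q ∧ 2 * l ≤ d) ∨ 2 * l + 1 ≤ d) :
    ∃ Y : Module.End F (κ → F), IsAType Q Y (2 * l) := by
  have hfin : finrank F (κ → F) = 2 * d := by
    rw [Module.finrank_fintype_fun_eq_card, hκ]
  have hVev : Even (finrank F (κ → F)) := by
    rw [hfin]
    exact even_two_mul d
  have hfinH : ∀ d' : ℕ, finrank F ((Fin d' → F) × (Fin d' → F)) = 2 * d' := by
    intro d'
    rw [Module.finrank_prod, Module.finrank_fintype_fun_eq_card, Fintype.card_fin]
    ring
  have key : ∀ d' : ℕ, 2 * l ≤ d' → d' ≤ d → (d' = d → IsHyp Q) →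
      ∃ Y : Module.End F (κ → F), IsAType Q Y (2 * l) := by
    intro d' hl' hd' hty
    obtain ⟨Y₀, hY₀⟩ := isAType_hyp (F := F) d' l hl'
    obtain ⟨U, i1, i2, i3, QU, Φ, -, -, -, hΦ⟩ := exists_model_iso_typed
      (OrthTs.hypQ (Fin d') F) OrthTs.hypQ_nondeg (by rw [hfinH]; exact even_two_mul d') Q hQ
      hVev (by rw [hfinH, hfin]; omega)
      (fun h => iff_of_true isHyp_hypQ (hty (by rw [hfinH, hfin] at h; omega)))
    exact ⟨_, (hY₀.prod_one QU).of_equiv Q Φ hΦ⟩
  rcases hl with ⟨hH, hl⟩ | hl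
  · exact key d hl le_rfl (fun _ => hH)
  · exact key (d - 1) (by omega) (by omega) (fun h => by omega)

theorem pow_char_of_sq_zero {V : Type u} [AddCommGroup V] [Module F V]
    (Y : Module.End F V) (h : (Y - 1) * (Y - 1) = 0) : Y ^ p = 1 := by
  have hp : p.Prime := Fact.out
  rcases subsingleton_or_nontrivial V with hs | hn
  · ext v
    exact Subsingleton.elim _ _
  · haveI : CharP (Module.End F V) p :=
      charP_of_injective_algebraMap (algebraMap F (Module.End F V)).injective p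
    have h1 := sub_pow_char_of_commute p (Commute.one_right Y)
    have h2 : (Y - 1) ^ p = 0 := by
      obtain ⟨k, hk⟩ : ∃ k, p = 2 + k := ⟨p - 2, by have := hp.two_le; omega⟩
      rw [hk, pow_add, pow_two, h, zero_mul]
    rw [h2, one_pow] at h1
    exact sub_eq_zero.1 h1.symm

/-- the bad elements -/
theorem exists_bad_elt (Q : QuadraticForm F (κ → F)) (hQ : (polarBilin Q).Nondegenerate)
    (d : ℕ) (hκ : Fintype.card κ = 2 * d) (hd : 3 ≤ d) (l : ℕ) (hl1 : 1 ≤ l)
    (hl : (IsHyp Q ∧ 2 * l ≤ d) ∨ 2 * l + 1 ≤ d) :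
    ∃ x : GL κ F, x ∈ Cfsg.Geo.omegaGL (⇑Q) ∧ x ^ p = 1 ∧
      (∀ z : F, (x : Matrix κ κ F) ≠ z • (1 : Matrix κ κ F)) ∧
      IsAType Q (Matrix.toLin' (x : Matrix κ κ F)) (2 * l) := by
  have hp : p.Prime := Fact.out
  have hex : Fintype.card F ≠ 2 ∨ Fintype.card κ ≠ 4 := Or.inr (by omega)
  obtain ⟨Y, hY⟩ := exists_atype Q hQ d hκ l hl
  have hYp : Y ^ p = 1 := pow_char_of_sq_zero Y hY.2.1
  obtain ⟨x, hx, hxp, hLG⟩ := OrthSS.exists_gl_of_end (⇑Q) Y hY.1 p hp.one_lt.le hYp
  have e : Matrix.toLin' (x : Matrix κ κ F) = Y := hLG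
  have hΩ : (⟨x, hx⟩ : ↥(Cfsg.isometryGroup F ⇑Q)) ∈ Cfsg.Omega F ⇑Q := by
    by_cases hp2 : p = 2
    · subst hp2
      show (⟨x, hx⟩ : ↥(Cfsg.isometryGroup F ⇑Q)) ∈ commutator ↥(Cfsg.isometryGroup F (⇑Q))
      rw [mem_commutator_iff_even_rank Q hQ hex]
      have e1 : (1 : Module.End F (κ → F)) - toEnd Q ⟨x, hx⟩ = -(Y - 1) := by
        rw [neg_sub]
        congr 1
      rw [e1, LinearMap.range_neg, hY.2.2.2]
      exact even_two_mul l
    · have hodd : Odd p := hp.odd_of_ne_two hp2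
      exact OrthEl.mem_Omega_of_pow_odd Q hQ hex ⟨x, hx⟩ hodd (Subtype.ext hxp)
  refine ⟨x, Cfsg.Agent.Helper17.OmegaElts.coe_mem_omegaGL Q hΩ, hxp, ?_, ?_⟩
  · intro z hz
    have hYz : Y = z • (1 : Module.End F (κ → F)) := by
      rw [← e, hz, map_smul, Matrix.toLin'_one]
      rfl
    have hN : Y - 1 = (z - 1) • (1 : Module.End F (κ → F)) := by
      rw [hYz]
      module
    have hNN := hY.2.1
    rw [hN, smul_mul_smul_comm, mul_one] at hNN
    have hκ0 : 0 < Fintype.card κ := by omega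
    obtain ⟨a⟩ := Fintype.card_pos_iff.1 hκ0
    have h3 := LinearMap.congr_fun hNN (Pi.single a 1)
    rw [LinearMap.smul_apply, Module.End.one_apply, LinearMap.zero_apply] at h3
    have h4 := congrFun h3 a
    rw [Pi.smul_apply, Pi.single_eq_same, smul_eq_mul, mul_one, Pi.zero_apply] at h4
    have hz1 : z - 1 = 0 := by
      rcases mul_eq_zero.1 h4 with h5 | h5 <;> exact h5
    have hr := hY.2.2.2
    rw [hN, hz1, zero_smul, LinearMap.range_zero, finrank_bot] at hr
    omega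
  · rw [e]
    exact hY

end elt

end Cfsg.Agent.Helper13.OrthNe
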