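import Mathlib
import Cfsg.Agent.Lib.Helper13.OrthNe7

set_option autoImplicit false
set_option linter.unusedSectionVars false

/-!
# The arithmetic of the three statements (odd primes different from the characteristic)
-/

namespace Cfsg.Agent.Helper13.OrthNe

theorem bt_of_even (i s : ℕ) (hi : Even i) : bt i s ↔ s % 2 = 0 := by
  unfold bt
  rw [Nat.even_iff]
  constructor
  · rintro (h | h)
    · exact absurd hi (Nat.not_even_iff_odd.2 h)
    · exact h
  · intro h
    exact Or.inr h

theorem bt_of_odd (i s : ℕ) (hi : Odd i) : bt i s ↔ True :=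
  iff_of_true (Or.inl hi) trivial

theorem div_sum (c n m : ℕ) (hc0 : 0 < c) (h : m % c = n % c) :
    (n + m - 2 * (n % c)) / c = n / c + m / c := by
  have hdn : c * (n / c) + n % c = n := Nat.div_add_mod _ _
  have hdm : c * (m / c) + m % c = m := Nat.div_add_mod _ _
  have h1 : n + m - 2 * (n % c) = c * (n / c + m / c) := by
    rw [Nat.mul_add]
    omega
  rw [h1, Nat.mul_div_cancel_left _ hc0]

/-- hyperbolic space, elliptic subspaces -/
theorem crit88 (i c n m : ℕ) (hc : c = if Even i then i else 2 * i) (hi0 : 0 < i)
    (hm2 : 2 ≤ m) (hmn : m < n) :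
    ((n % c = 0 ∧ ¬ (bt i (n / c) ↔ True)) ∨
     (c ≤ m ∧ m % c ≤ n % c ∧ (m % c = 0 → (False ↔ bt i (m / c))) ∧
       (m % c = n % c → ((False ↔ bt i (m / c)) ↔ (True ↔ bt i (n / c)))))) ↔
    ((Odd i ∧ c ≤ m ∧ 0 < m % c ∧ m % c < n % c) ∨
     (Even i ∧
       ((n % c = 0 ∧ (Odd (n / i) ∨ (m % c = 0 ∧ Odd (m / i)))) ∨
        (i ≤ m ∧ ((0 < m % c ∧ m % c < n % c) ∨
                  (0 < m % c ∧ m % c = n % c ∧ Odd ((n + m - 2 * (n % c)) / i)) ∨
                  (m % c = 0 ∧ 0 < n % c ∧ Odd (m / i))))))) := by
  by_cases hie : Even i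
  · rw [if_pos hie] at hc
    subst hc
    have hio : ¬ Odd c := Nat.not_odd_iff_even.2 hie
    have hdm : c * (m / c) + m % c = m := Nat.div_add_mod _ _
    have hdn : c * (n / c) + n % c = n := Nat.div_add_mod _ _
    have hnc : n % c < c := Nat.mod_lt _ hi0
    have hmc : m % c < c := Nat.mod_lt _ hi0
    have hM0 : m / c = 0 ∨ c ≤ c * (m / c) := by
      rcases Nat.eq_zero_or_pos (m / c) with h | h
      · exact Or.inl h
      · right
        have h3 : c * 1 ≤ c * (m / c) := Nat.mul_le_mul_left c h
        omega
    have hM0' : m / c = 0 → c * (m / c) = 0 := by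
      intro h
      rw [h, Nat.mul_zero]
    have hds := div_sum c n m hi0
    simp only [bt_of_even c _ hie, Nat.odd_iff, hio, hie, false_and, true_and, false_or,
      iff_true, false_iff, true_iff]
    by_cases hkl : m % c = n % c
    · rw [hds hkl]
      generalize n / c = N at *
      generalize m / c = M at *
      generalize n % c = k at *
      generalize m % c = ℓ at *
      constructor <;> intro h <;> omega
    · generalize (n + m - 2 * (n % c)) / c = X at *
      generalize n / c = N at *
      generalize m / c = M at *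
      generalize n % c = k at *
      generalize m % c = ℓ at *
      constructor <;> intro h <;> omega
  · rw [if_neg hie] at hc
    have hio : Odd i := Nat.not_even_iff_odd.1 hie
    simp only [bt_of_odd i _ hio, hio, hie, false_and, true_and, or_false, iff_true,
      not_true_eq_false, and_false, false_or, imp_false]
    generalize n % c = k at *
    generalize m % c = ℓ at *
    constructor <;> intro h <;> omega

/-- hyperbolic space, hyperbolic subspaces -/
theorem crit74 (i c n m : ℕ) (hc : c = if Even i then i else 2 * i) (hi0 : 0 < i)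
    (hm2 : 2 ≤ m) (hmn : m < n) :
    ((n % c = 0 ∧ ¬ (bt i (n / c) ↔ True)) ∨
     (c ≤ m ∧ m % c ≤ n % c ∧ (m % c = 0 → (True ↔ bt i (m / c))) ∧
       (m % c = n % c → ((True ↔ bt i (m / c)) ↔ (True ↔ bt i (n / c)))))) ↔
    ((Odd i ∧ c ≤ m ∧ m % c ≤ n % c) ∨
     (Even i ∧
       ((n % c = 0 ∧ (Odd (n / i) ∨ (m % c = 0 ∧ Even (m / i)))) ∨
        (i ≤ m ∧ ((m % c < n % c ∧ 0 < m % c) ∨
                  (n % c = m % c ∧ 0 < m % c ∧ Even ((n + m - 2 * (n % c)) / i)) ∨
                  (0 < n % c ∧ m % c = 0 ∧ Even (m / i))))))) := by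
  by_cases hie : Even i
  · rw [if_pos hie] at hc
    subst hc
    have hio : ¬ Odd c := Nat.not_odd_iff_even.2 hie
    have hdm : c * (m / c) + m % c = m := Nat.div_add_mod _ _
    have hdn : c * (n / c) + n % c = n := Nat.div_add_mod _ _
    have hnc : n % c < c := Nat.mod_lt _ hi0
    have hmc : m % c < c := Nat.mod_lt _ hi0
    have hM0 : m / c = 0 ∨ c ≤ c * (m / c) := by
      rcases Nat.eq_zero_or_pos (m / c) with h | h
      · exact Or.inl h
      · right
        have h3 : c * 1 ≤ c * (m / c) := Nat.mul_le_mul_left c h
        omega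
    have hM0' : m / c = 0 → c * (m / c) = 0 := by
      intro h
      rw [h, Nat.mul_zero]
    have hds := div_sum c n m hi0
    simp only [bt_of_even c _ hie, Nat.odd_iff, Nat.even_iff, hio, hie, false_and, true_and,
      false_or, iff_true, true_iff]
    by_cases hkl : m % c = n % c
    · rw [hds hkl]
      generalize n / c = N at *
      generalize m / c = M at *
      generalize n % c = k at *
      generalize m % c = ℓ at *
      constructor <;> intro h <;> omega
    · generalize (n + m - 2 * (n % c)) / c = X at *
      generalize n / c = N at *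
      generalize m / c = M at *
      generalize n % c = k at *
      generalize m % c = ℓ at *
      constructor <;> intro h <;> omega
  · rw [if_neg hie] at hc
    have hio : Odd i := Nat.not_even_iff_odd.1 hie
    simp only [bt_of_odd i _ hio, hio, hie, false_and, true_and, or_false,
      not_true_eq_false, and_false, false_or, implies_true, and_true]

/-- elliptic space, elliptic subspaces -/
theorem crit90 (i c n m : ℕ) (hc : c = if Even i then i else 2 * i) (hi0 : 0 < i)
    (hm2 : 2 ≤ m) (hmn : m < n) :
    ((n % c = 0 ∧ ¬ (bt i (n / c) ↔ False)) ∨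
     (c ≤ m ∧ m % c ≤ n % c ∧ (m % c = 0 → (False ↔ bt i (m / c))) ∧
       (m % c = n % c → ((False ↔ bt i (m / c)) ↔ (False ↔ bt i (n / c)))))) ↔
    ((Odd i ∧ (n % c = 0 ∨ (c ≤ m ∧ 0 < m % c ∧ m % c ≤ n % c))) ∨
     (Even i ∧
       ((n % c = 0 ∧ (Even (n / i) ∨ (m % c = 0 ∧ Odd (m / i)))) ∨
        (0 < n % c ∧ i ≤ m ∧ ((0 < m % c ∧ m % c < n % c) ∨ (m % c = 0 ∧ Odd (m / i)) ∨
                                    (m % c = n % c ∧ Even ((n + m - 2 * (n % c)) / i))))))) := by
  by_cases hie : Even i
  · rw [if_pos hie] at hc
    subst hc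
    have hio : ¬ Odd c := Nat.not_odd_iff_even.2 hie
    have hdm : c * (m / c) + m % c = m := Nat.div_add_mod _ _
    have hdn : c * (n / c) + n % c = n := Nat.div_add_mod _ _
    have hnc : n % c < c := Nat.mod_lt _ hi0
    have hmc : m % c < c := Nat.mod_lt _ hi0
    have hM0 : m / c = 0 ∨ c ≤ c * (m / c) := by
      rcases Nat.eq_zero_or_pos (m / c) with h | h
      · exact Or.inl h
      · right
        have h3 : c * 1 ≤ c * (m / c) := Nat.mul_le_mul_left c h
        omega
    have hM0' : m / c = 0 → c * (m / c) = 0 := by
      intro h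
      rw [h, Nat.mul_zero]
    have hds := div_sum c n m hi0
    simp only [bt_of_even c _ hie, Nat.odd_iff, Nat.even_iff, hio, hie, false_and, true_and,
      false_or, iff_false, false_iff]
    by_cases hkl : m % c = n % c
    · rw [hds hkl]
      generalize n / c = N at *
      generalize m / c = M at *
      generalize n % c = k at *
      generalize m % c = ℓ at *
      constructor <;> intro h <;> omega
    · generalize (n + m - 2 * (n % c)) / c = X at *
      generalize n / c = N at *
      generalize m / c = M at *
      generalize n % c = k at *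
      generalize m % c = ℓ at *
      constructor <;> intro h <;> omega
  · rw [if_neg hie] at hc
    have hio : Odd i := Nat.not_even_iff_odd.1 hie
    simp only [bt_of_odd i _ hio, hio, hie, false_and, true_and, or_false, iff_true,
      not_true_eq_false, iff_false, not_false_eq_true, and_true, imp_false, implies_true]
    generalize n % c = k at *
    generalize m % c = ℓ at *
    constructor <;> intro h <;> omega

end Cfsg.Agent.Helper13.OrthNe
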