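import Mathlib
import Cfsg.Agent.Lib.Helper13.OrthNe8
import Cfsg.Agent.Lib.Helper13.OrthNe11
import Cfsg.Agent.Lib.Helper13.OrthNe13

set_option autoImplicit false
set_option linter.unusedSectionVars false

/-!
# Elliptic subspaces of hyperbolic spaces: the statement
-/

namespace Cfsg.Agent.Helper13.OrthNe

open Polynomial Module QuadraticMap Matrix Cfsg.Agent.Helper13.SS Cfsg.Agent.Helper13.Dual
  Cfsg.Agent.Helper13.SympSS Cfsg.Agent.Helper13.SpDec Cfsg.Agent.Helper13.SlDec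
  Cfsg.Agent.Helper13.SpTi Cfsg.Agent.Helper13.OrthSS Cfsg.Agent.Helper13
  Cfsg.Agent.Helper13.OrthTs Cfsg.Agent.Helper13.OrthTy Cfsg.Agent.Helper13.HermSS
  Cfsg.Agent.Helper13.OrthNd Cfsg.Agent.Helper13.OrthNi Cfsg.Agent.Helper17.Spinor
  Cfsg.Agent.Helper13.OrthJp
open scoped Classical

universe u

section conv
variable {F : Type u} [Field F] [Fintype F] {κ : Type} [Fintype κ] [DecidableEq κ]

/-- changing the predicate on subspaces -/
theorem lhs_congr (Qf : (κ → F) → F) (P P' : Submodule F (κ → F) → Prop)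
    (h : ∀ W, P W ↔ P' W) (r : ℕ) :
    (∀ x : GL κ F, x ∈ Cfsg.Geo.omegaGL Qf →
      (∃ z : F, ((x ^ r : GL κ F) : Matrix κ κ F) = z • (1 : Matrix κ κ F)) →
      (∀ z : F, (x : Matrix κ κ F) ≠ z • (1 : Matrix κ κ F)) →
      ∃ W : Submodule F (κ → F), P W ∧ W.map (Matrix.toLin' (x : Matrix κ κ F)) ≤ W) ↔
    (∀ x : GL κ F, x ∈ Cfsg.Geo.omegaGL Qf →
      (∃ z : F, ((x ^ r : GL κ F) : Matrix κ κ F) = z • (1 : Matrix κ κ F)) →
      (∀ z : F, (x : Matrix κ κ F) ≠ z • (1 : Matrix κ κ F)) →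
      ∃ W : Submodule F (κ → F), P' W ∧ W.map (Matrix.toLin' (x : Matrix κ κ F)) ≤ W) := by
  have : P = P' := funext (fun W => propext (h W))
  rw [this]

theorem two_ne_zero_of_ne {p : ℕ} [Fact p.Prime] [CharP F p] (hp2 : p ≠ 2) : (2 : F) ≠ 0 := by
  intro h
  have h1 : ((2 : ℕ) : F) = 0 := by exact_mod_cast h
  rw [CharP.cast_eq_zero_iff F p] at h1
  have hp : p.Prime := Fact.out
  exact hp2 ((Nat.prime_dvd_prime_iff_eq hp Nat.prime_two).1 h1)

/-- elliptic subspaces: statement form versus the internal form -/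
theorem ell_conv (Q : QuadraticForm F (κ → F)) (m : ℕ) (W : Submodule F (κ → F)) :
    (finrank F W = m ∧ Cfsg.Geo.IsNondegenerateOn (polar (⇑Q)) W ∧
      ¬ Cfsg.Geo.IsPlusTypeOn (⇑Q) W) ↔
    (finrank F W = m ∧ (polarBilin (Q.comp W.subtype)).Nondegenerate ∧
      (IsHyp (Q.comp W.subtype) ↔ False)) := by
  rw [← stmt_iff Q W m False, iff_false]

end conv

section stmts
variable {F : Type u} [Field F] [Fintype F] {p : ℕ} [Fact p.Prime] [CharP F p]

theorem plus_ell_stmt {q : ℕ} (hq : Fintype.card F = q)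
    (d m : ℕ) (hd : 4 ≤ d) (hm : 2 ≤ m) (hme : Even m) (hmd : m < d)
    (r : ℕ) [Fact r.Prime]
    (hrΩ : r ∣ Nat.card {W : Submodule F (Fin d ⊕ Fin d → F) // Module.finrank F ↥W = m ∧ Cfsg.Geo.IsNondegenerateOn (QuadraticMap.polar (Cfsg.quadFormPlus d F)) W ∧ ¬ Cfsg.Geo.IsPlusTypeOn (Cfsg.quadFormPlus d F) W})
    (i c : ℕ) (hi : i = orderOf (q : ZMod r)) (hc : c = if Even i then i else 2 * i) :
    (∀ x : GL (Fin d ⊕ Fin d) F, x ∈ Cfsg.Geo.omegaGL (Cfsg.quadFormPlus d F) →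
      (∃ z : F, ((x ^ r : GL (Fin d ⊕ Fin d) F) : Matrix (Fin d ⊕ Fin d) (Fin d ⊕ Fin d) F) = z • (1 : Matrix (Fin d ⊕ Fin d) (Fin d ⊕ Fin d) F)) →
      (∀ z : F, (x : Matrix (Fin d ⊕ Fin d) (Fin d ⊕ Fin d) F) ≠ z • (1 : Matrix (Fin d ⊕ Fin d) (Fin d ⊕ Fin d) F)) →
      ∃ W : Submodule F (Fin d ⊕ Fin d → F), (Module.finrank F ↥W = m ∧ Cfsg.Geo.IsNondegenerateOn (QuadraticMap.polar (Cfsg.quadFormPlus d F)) W ∧ ¬ Cfsg.Geo.IsPlusTypeOn (Cfsg.quadFormPlus d F) W) ∧ W.map (Matrix.toLin' (x : Matrix (Fin d ⊕ Fin d) (Fin d ⊕ Fin d) F)) ≤ W) ↔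
    ((r = 2 ∧ p ≠ 2 ∧ ((Even d ∧ q % 4 = 3 ∧ m % 4 = 2) ∨ (Odd d ∧ q % 8 ≠ 1))) ∨
     (r ≠ p ∧ 2 < r ∧ Odd i ∧ c ≤ m ∧ 0 < m % c ∧ m % c < (2 * d) % c) ∨
     (r ≠ p ∧ 2 < r ∧ Even i ∧
       (((2 * d) % c = 0 ∧ (Odd ((2 * d) / i) ∨ (m % c = 0 ∧ Odd (m / i)))) ∨
        (i ≤ m ∧ ((0 < m % c ∧ m % c < (2 * d) % c) ∨
                  (0 < m % c ∧ m % c = (2 * d) % c ∧ Odd ((2 * d + m - 2 * ((2 * d) % c)) / i)) ∨
                  (m % c = 0 ∧ 0 < (2 * d) % c ∧ Odd (m / i))))))) := by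
  have hr : r.Prime := Fact.out
  rw [Cfsg.Agent.Helper2.Orth.quadFormPlus_eq d] at hrΩ ⊢
  have hQ := Cfsg.Agent.Helper2.Orth.nondeg_plus (F := F) d
  have hH : IsHyp (matQ (plusMat d F)) := isHyp_plusMat d
  have hκ : Fintype.card (Fin d ⊕ Fin d) = 2 * d := by
    rw [Fintype.card_sum, Fintype.card_fin]
    ring
  have hfin : finrank F (Fin d ⊕ Fin d → F) = 2 * d := by
    rw [Module.finrank_fintype_fun_eq_card, hκ]
  have hVev : Even (finrank F (Fin d ⊕ Fin d → F)) := by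
    rw [hfin]
    exact even_two_mul d
  have hconv := ell_conv (matQ (plusMat d F)) m
  have hrΩ' : r ∣ Nat.card (NdSub (matQ (plusMat d F)) m False) := by
    have h3 : Nat.card (NdSub (matQ (plusMat d F)) m False) =
        Nat.card {W : Submodule F (Fin d ⊕ Fin d → F) // finrank F W = m ∧
        Cfsg.Geo.IsNondegenerateOn (polar (⇑(matQ (plusMat d F)))) W ∧
          ¬ Cfsg.Geo.IsPlusTypeOn (⇑(matQ (plusMat d F))) W} := by
      apply Nat.card_congr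
      exact Equiv.subtypeEquivRight (fun W => (hconv W).symm)
    rw [h3]
    exact hrΩ
  refine (lhs_congr _ _ _ hconv r).trans ?_
  by_cases hrp : r = p
  · constructor
    · intro hall
      exfalso
      obtain ⟨x, hxΩ, hxp, hxns, hx⟩ := exists_bad_elt (p := p) (matQ (plusMat d F)) hQ d hκ
        (by omega) (d / 2) (by omega) (Or.inl ⟨hH, by omega⟩)
      obtain ⟨W, ⟨hWm, hWnd, hWt⟩, hinv⟩ := hall x hxΩ ⟨1, by rw [hrp, hxp, one_smul]; rfl⟩ hxns
      have hinv' : ∀ v ∈ W, Matrix.toLin' (x : Matrix (Fin d ⊕ Fin d) (Fin d ⊕ Fin d) F) v ∈ W :=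
        fun v hv => hinv (Submodule.mem_map_of_mem hv)
      exact hWt.1 (hx.isHyp_sub hQ hVev hH (by rw [hfin]; omega) W hinv' hWnd (hWm ▸ hme))
    · rintro (⟨h, h', -⟩ | ⟨h, -⟩ | ⟨h, -⟩)
      · exact absurd (hrp ▸ h) h'
      · exact absurd hrp h
      · exact absurd hrp h
  by_cases hr2 : r = 2
  · have hp2 : p ≠ 2 := fun h => hrp (hr2.trans h.symm)
    have h2 : (2 : F) ≠ 0 := two_ne_zero_of_ne hp2
    subst hr2
    rw [two_even _ h2 hQ d m hκ hd hme hm (by omega) False,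
      cplx_plus_iff _ hq h2 hQ d hκ hH]
    have hqodd : q % 2 = 1 := by
      rw [← hq]
      exact card_odd_of_two_ne_zero h2
    have hsq4 : IsSquare (-1 : F) ↔ q % 4 = 1 := by
      rw [FiniteField.isSquare_neg_one_iff, hq]
      omega
    rw [hsq4]
    obtain ⟨m', hm'⟩ := hme
    have hm2 : m / 2 = m' := by omega
    rw [hm2]
    simp only [Nat.even_iff, Nat.odd_iff, false_iff, imp_false]
    constructor
    · rintro (h | ⟨h1, h3⟩)
      · exact Or.inl ⟨trivial, hp2, Or.inr h⟩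
      · have h4 := h3 h1
        left
        refine ⟨trivial, hp2, ?_⟩
        by_cases hde : d % 2 = 0
        · exact Or.inl ⟨hde, by omega, by omega⟩
        · exact Or.inr ⟨by omega, by omega⟩
    · rintro (⟨-, -, h | h⟩ | ⟨-, h, -⟩ | ⟨-, h, -⟩)
      · exact Or.inr ⟨by omega, fun _ => by omega⟩
      · exact Or.inl h
      · exact absurd h (by omega)
      · exact absurd h (by omega)
  · have hr2' : 2 < r := by
      have := hr.two_le
      omega
    have hi0 : 0 < i := by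
      rw [hi]
      exact pos_orderOf hq hr hrp
    rw [gen_even hq hr hr2 hrp _ hQ d m hκ (by omega) hme hm (by omega) False i c hi hc hrΩ']
    have hHT : IsHyp (matQ (plusMat d F)) ↔ True := iff_of_true hH trivial
    simp only [hHT]
    rw [crit88 i c (2 * d) m hc hi0 hm (by omega)]
    constructor
    · rintro (h | h)
      · exact Or.inr (Or.inl ⟨hrp, hr2', h⟩)
      · exact Or.inr (Or.inr ⟨hrp, hr2', h⟩)
    · rintro (⟨h, -⟩ | ⟨-, -, h⟩ | ⟨-, -, h⟩)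
      · exact absurd h hr2
      · exact Or.inl h
      · exact Or.inr h

end stmts

end Cfsg.Agent.Helper13.OrthNe
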