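import Mathlib
import Cfsg.Agent.Lib.Helper13.OrthNe12

set_option autoImplicit false
set_option linter.unusedSectionVars false

/-!
# Involutions of quadratic spaces in characteristic two: basic identities and the splitting of
a hyperbolic block of dimension four
-/

namespace Cfsg.Agent.Helper13.OrthNe

open Polynomial Module QuadraticMap Matrix Cfsg.Agent.Helper13.SS Cfsg.Agent.Helper13.Dual
  Cfsg.Agent.Helper13.SympSS Cfsg.Agent.Helper13.SpDec Cfsg.Agent.Helper13.SlDec
  Cfsg.Agent.Helper13.SpTi Cfsg.Agent.Helper13.OrthSS Cfsg.Agent.Helper13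
  Cfsg.Agent.Helper13.OrthTs Cfsg.Agent.Helper13.OrthTy Cfsg.Agent.Helper13.HermSS
  Cfsg.Agent.Helper13.OrthNd Cfsg.Agent.Helper13.OrthNi Cfsg.Agent.Helper17.Spinor
open scoped Classical

universe u

section basic
variable {F : Type u} [Field F] [CharP F 2] {V : Type u} [AddCommGroup V] [Module F V]
  (Q : QuadraticForm F V) (A : Module.End F V)

theorem two_eq_zero' : (2 : F) = 0 := CharTwo.two_eq_zero

theorem polar_self_two (v : V) : polar Q v v = 0 := by
  rw [polar_self, two_nsmul]
  have : Q v + Q v = (2 : F) * Q v := by ring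
  rw [this, two_eq_zero', zero_mul]

theorem inv2_A_apply (v : V) : A v = v + (A - 1) v := by
  rw [LinearMap.sub_apply, Module.End.one_apply]
  abel

theorem inv2_NN (hA : A * A = 1) : (A - 1) * (A - 1) = 0 := by
  have h1 : (A - 1) * (A - 1) = A * A - A - A + 1 := by noncomm_ring
  rw [h1, hA]
  have h2 : (1 : Module.End F V) - A - A + 1 = (2 : F) • ((1 : Module.End F V) - A) := by
    rw [two_smul]
    abel
  rw [h2, two_eq_zero', zero_smul]

theorem inv2_NN_apply (hA : A * A = 1) (v : V) : (A - 1) ((A - 1) v) = 0 := by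
  rw [← Module.End.mul_apply, inv2_NN A hA]
  rfl

theorem inv2_adj (hA : A * A = 1) (hAQ : ∀ v, Q (A v) = Q v) (u v : V) :
    polar Q ((A - 1) u) v = polar Q u ((A - 1) v) := by
  have h1 := Cfsg.Agent.Helper28.WittQuad.polar_of_isom (Q := Q) hAQ (A u) v
  have h2 : A (A u) = u := by
    rw [← Module.End.mul_apply, hA, Module.End.one_apply]
  rw [h2] at h1
  rw [LinearMap.sub_apply, LinearMap.sub_apply, Module.End.one_apply, Module.End.one_apply,
    polar_sub_left, polar_sub_right, ← h1]

theorem inv2_QN (hAQ : ∀ v, Q (A v) = Q v) (v : V) :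
    Q ((A - 1) v) = polar Q v ((A - 1) v) := by
  have h1 := hAQ v
  rw [inv2_A_apply A v, QuadraticMap.map_add Q] at h1
  have h2 : (2 : F) = 0 := two_eq_zero'
  linear_combination h1 - polar Q v ((A - 1) v) * h2

theorem inv2_polar_NN (hA : A * A = 1) (hAQ : ∀ v, Q (A v) = Q v) (u v : V) :
    polar Q ((A - 1) u) ((A - 1) v) = 0 := by
  rw [inv2_adj Q A hA hAQ, inv2_NN_apply A hA, polar_zero_right]

theorem inv2_QN_add (hA : A * A = 1) (hAQ : ∀ v, Q (A v) = Q v) (u v : V) :
    Q ((A - 1) (u + v)) = Q ((A - 1) u) + Q ((A - 1) v) := by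
  rw [map_add, QuadraticMap.map_add Q, inv2_polar_NN Q A hA hAQ, add_zero]

theorem inv2_QN_smul (a : F) (v : V) :
    Q ((A - 1) (a • v)) = a * a * Q ((A - 1) v) := by
  rw [map_smul, QuadraticMap.map_smul, smul_eq_mul]

end basic

section block
variable {F : Type u} [Field F] [Fintype F] [CharP F 2] {V : Type u} [AddCommGroup V]
  [Module F V] [FiniteDimensional F V] (Q : QuadraticForm F V) (A : Module.End F V)

/-- the span of four vectors as the image of a linear map -/
noncomputable def quadMap (a b c d : V) : ((Fin 2 → F) × (Fin 2 → F)) →ₗ[F] V :=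
  ((LinearMap.proj 0 : (Fin 2 → F) →ₗ[F] F).smulRight a +
    (LinearMap.proj 1 : (Fin 2 → F) →ₗ[F] F).smulRight b).coprod
  ((LinearMap.proj 0 : (Fin 2 → F) →ₗ[F] F).smulRight c +
    (LinearMap.proj 1 : (Fin 2 → F) →ₗ[F] F).smulRight d)

theorem quadMap_apply (a b c d : V) (z : (Fin 2 → F) × (Fin 2 → F)) :
    quadMap a b c d z = z.1 0 • a + z.1 1 • b + (z.2 0 • c + z.2 1 • d) := by
  unfold quadMap
  rw [LinearMap.coprod_apply]
  rfl

theorem finrank_quad : finrank F ((Fin 2 → F) × (Fin 2 → F)) = 4 := by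
  rw [Module.finrank_prod, Module.finrank_fintype_fun_eq_card, Fintype.card_fin]

/-- the polar form on the span of four vectors -/
theorem polar_quadMap (a b c d : V) (z z' : (Fin 2 → F) × (Fin 2 → F)) :
    polar Q (quadMap a b c d z) (quadMap a b c d z') =
      z.1 0 * z'.1 0 * polar Q a a + z.1 0 * z'.1 1 * polar Q a b + z.1 0 * z'.2 0 * polar Q a c +
      z.1 0 * z'.2 1 * polar Q a d +
      z.1 1 * z'.1 0 * polar Q b a + z.1 1 * z'.1 1 * polar Q b b + z.1 1 * z'.2 0 * polar Q b c +
      z.1 1 * z'.2 1 * polar Q b d +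
      z.2 0 * z'.1 0 * polar Q c a + z.2 0 * z'.1 1 * polar Q c b + z.2 0 * z'.2 0 * polar Q c c +
      z.2 0 * z'.2 1 * polar Q c d +
      z.2 1 * z'.1 0 * polar Q d a + z.2 1 * z'.1 1 * polar Q d b + z.2 1 * z'.2 0 * polar Q d c +
      z.2 1 * z'.2 1 * polar Q d d := by
  rw [quadMap_apply, quadMap_apply]
  simp only [polar_add_left, polar_add_right, polar_smul_left, polar_smul_right, smul_eq_mul]
  ring

end block

end Cfsg.Agent.Helper13.OrthNe
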