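import Mathlib
import Cfsg.Agent.Lib.Helper13.OrthNe15

set_option autoImplicit false
set_option linter.unusedSectionVars false

/-!
# Involutions in characteristic two: splitting off a hyperbolic block of dimension four
-/

namespace Cfsg.Agent.Helper13.OrthNe

open Polynomial Module QuadraticMap Matrix Cfsg.Agent.Helper13.SS Cfsg.Agent.Helper13.Dual
  Cfsg.Agent.Helper13.SympSS Cfsg.Agent.Helper13.SpDec Cfsg.Agent.Helper13.SlDec
  Cfsg.Agent.Helper13.SpTi Cfsg.Agent.Helper13.OrthSS Cfsg.Agent.Helper13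
  Cfsg.Agent.Helper13.OrthTs Cfsg.Agent.Helper13.OrthTy Cfsg.Agent.Helper13.HermSS
  Cfsg.Agent.Helper13.OrthNd Cfsg.Agent.Helper13.OrthNi Cfsg.Agent.Helper17.Spinor
open scoped Classical

universe u

section quad
variable {F : Type u} [Field F] [Fintype F] [CharP F 2] {V : Type u} [AddCommGroup V]
  [Module F V] [FiniteDimensional F V] (Q : QuadraticForm F V)

theorem polar_quadMap_left (a b c d : V) (z : (Fin 2 → F) × (Fin 2 → F)) (w : V) :
    polar Q (quadMap a b c d z) w =
      z.1 0 * polar Q a w + z.1 1 * polar Q b w + z.2 0 * polar Q c w + z.2 1 * polar Q d w := by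
  rw [quadMap_apply]
  simp only [polar_add_left, polar_smul_left, smul_eq_mul]
  ring

theorem quadMap_e1 (a b c d : V) :
    quadMap (F := F) a b c d ((Pi.single 0 1 : Fin 2 → F), 0) = a := by
  rw [quadMap_apply]
  simp

theorem quadMap_e2 (a b c d : V) :
    quadMap (F := F) a b c d ((Pi.single 1 1 : Fin 2 → F), 0) = b := by
  rw [quadMap_apply]
  simp

theorem quadMap_e3 (a b c d : V) :
    quadMap (F := F) a b c d (0, (Pi.single 0 1 : Fin 2 → F)) = c := by
  rw [quadMap_apply]
  simp

theorem quadMap_e4 (a b c d : V) :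
    quadMap (F := F) a b c d (0, (Pi.single 1 1 : Fin 2 → F)) = d := by
  rw [quadMap_apply]
  simp

theorem quad_ext (z : (Fin 2 → F) × (Fin 2 → F)) (h1 : z.1 0 = 0) (h2 : z.1 1 = 0)
    (h3 : z.2 0 = 0) (h4 : z.2 1 = 0) : z = 0 := by
  apply Prod.ext
  · funext i
    fin_cases i
    · exact h1
    · exact h2
  · funext i
    fin_cases i
    · exact h3
    · exact h4

/-- the span of four vectors with nondegenerate Gram matrix -/
theorem quad_props (a b c d : V)
    (hker : ∀ z : (Fin 2 → F) × (Fin 2 → F), polar Q (quadMap a b c d z) a = 0 →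
      polar Q (quadMap a b c d z) b = 0 → polar Q (quadMap a b c d z) c = 0 →
      polar Q (quadMap a b c d z) d = 0 → z = 0) :
    Function.Injective (quadMap (F := F) a b c d) ∧
      (polarBilin (Q.comp (quadMap (F := F) a b c d))).Nondegenerate := by
  constructor
  · rw [← LinearMap.ker_eq_bot, LinearMap.ker_eq_bot']
    intro z hz
    apply hker z <;> rw [hz, polar_zero_left]
  · apply nondeg_of_polar
    intro z hz
    apply hker z
    · have := hz ((Pi.single 0 1 : Fin 2 → F), 0)
      rw [OrthTs.polar_comp, quadMap_e1] at this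
      exact this
    · have := hz ((Pi.single 1 1 : Fin 2 → F), 0)
      rw [OrthTs.polar_comp, quadMap_e2] at this
      exact this
    · have := hz (0, (Pi.single 0 1 : Fin 2 → F))
      rw [OrthTs.polar_comp, quadMap_e3] at this
      exact this
    · have := hz (0, (Pi.single 1 1 : Fin 2 → F))
      rw [OrthTs.polar_comp, quadMap_e4] at this
      exact this

end quad

section block
variable {F : Type u} [Field F] [Fintype F] [CharP F 2] {V : Type u} [AddCommGroup V]
  [Module F V] [FiniteDimensional F V] (Q : QuadraticForm F V) (A : Module.End F V)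

/-- splitting off a hyperbolic block -/
theorem exists_block (hA : A * A = 1) (hAQ : ∀ v, Q (A v) = Q v) (u v : V)
    (hβ : polar Q u ((A - 1) v) ≠ 0) (hu : Q ((A - 1) u) = 0) (hv : Q ((A - 1) v) = 0) :
    ∃ W : Submodule F V, (finrank F W = 4 ∧ (polarBilin (Q.comp W.subtype)).Nondegenerate ∧
      (IsHyp (Q.comp W.subtype) ↔ True)) ∧ (∀ w ∈ W, A w ∈ W) ∧
      finrank F (W.map (A - 1)) = 2 := by
  set N := A - 1 with hN
  set f := quadMap (F := F) u v (N u) (N v) with hf
  have huu : polar Q u (N u) = 0 := by rw [← inv2_QN Q A hAQ, hu]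
  have hvv : polar Q v (N v) = 0 := by rw [← inv2_QN Q A hAQ, hv]
  have hvu : polar Q v (N u) = polar Q u (N v) := by
    rw [← inv2_adj Q A hA hAQ, polar_comm]
  have hNN : ∀ x y, polar Q (N x) (N y) = 0 := inv2_polar_NN Q A hA hAQ
  have hker : ∀ z : (Fin 2 → F) × (Fin 2 → F), polar Q (f z) u = 0 →
      polar Q (f z) v = 0 → polar Q (f z) (N u) = 0 → polar Q (f z) (N v) = 0 → z = 0 := by
    intro z h1 h2 h3 h4
    rw [hf, polar_quadMap_left] at h1 h2 h3 h4
    rw [polar_self_two, polar_comm Q (N u) u, huu, polar_comm Q (N v) u] at h1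
    rw [polar_self_two, polar_comm Q (N v) v, hvv, polar_comm Q (N u) v, hvu] at h2
    rw [huu, hvu, hNN, hNN] at h3
    rw [hvv, hNN, hNN] at h4
    simp only [mul_zero, zero_mul, add_zero, zero_add] at h1 h2 h3 h4
    have z11 : z.1 1 = 0 := (mul_eq_zero.1 h3).resolve_right hβ
    have z10 : z.1 0 = 0 := (mul_eq_zero.1 h4).resolve_right hβ
    rw [z11] at h1
    rw [z10] at h2
    simp only [mul_zero, zero_mul, add_zero, zero_add] at h1 h2
    have z21 : z.2 1 = 0 := (mul_eq_zero.1 h1).resolve_right hβ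
    have z20 : z.2 0 = 0 := (mul_eq_zero.1 h2).resolve_right hβ
    exact quad_ext z z10 z11 z20 z21
  obtain ⟨hinj, hnd⟩ := quad_props Q u v (N u) (N v) hker
  have hNf : ∀ z, N (f z) = f (0, z.1) := by
    intro z
    rw [hf, quadMap_apply, quadMap_apply]
    simp only [map_add, map_smul, hN, inv2_NN_apply A hA, smul_zero, add_zero, Prod.fst_zero,
      Pi.zero_apply, zero_smul, zero_add]
  have hhyp : IsHyp (Q.comp f) := by
    refine ⟨LinearMap.range (LinearMap.inr F (Fin 2 → F) (Fin 2 → F)), ?_, ?_⟩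
    · rintro _ ⟨y, rfl⟩
      show Q (f (0, y)) = 0
      rw [hf, quadMap_apply]
      simp only [Pi.zero_apply, zero_smul, zero_add]
      rw [QuadraticMap.map_add Q, QuadraticMap.map_smul, QuadraticMap.map_smul, polar_smul_left,
        polar_smul_right, hNN, hu, hv]
      simp
    · rw [LinearMap.finrank_range_of_inj LinearMap.inr_injective, finrank_quad,
        Module.finrank_fintype_fun_eq_card, Fintype.card_fin]
  have hprops := props_of_equiv (Q.comp f) (Q.comp (LinearMap.range f).subtype)
    (LinearEquiv.ofInjective f hinj) (fun z => rfl) 4 True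
    ⟨finrank_quad, hnd, iff_of_true hhyp trivial⟩
  refine ⟨LinearMap.range f, hprops, ?_, ?_⟩
  · rintro _ ⟨z, rfl⟩
    rw [inv2_A_apply A (f z), ← hN, hNf, ← map_add]
    exact ⟨_, rfl⟩
  · have e1 : (LinearMap.range f).map N =
        LinearMap.range (f ∘ₗ LinearMap.inr F (Fin 2 → F) (Fin 2 → F)) := by
      ext y
      constructor
      · rintro ⟨_, ⟨z, rfl⟩, rfl⟩
        rw [hNf]
        exact ⟨z.1, rfl⟩
      · rintro ⟨x, rfl⟩
        refine ⟨f (x, 0), ⟨_, rfl⟩, ?_⟩
        rw [hNf]
        rfl
    have hinj2 : Function.Injective (f ∘ₗ LinearMap.inr F (Fin 2 → F) (Fin 2 → F)) := by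
      rw [LinearMap.coe_comp]
      exact hinj.comp LinearMap.inr_injective
    rw [e1, LinearMap.finrank_range_of_inj hinj2,
      Module.finrank_fintype_fun_eq_card, Fintype.card_fin]

end block

end Cfsg.Agent.Helper13.OrthNe
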