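import Mathlib
import Cfsg.Agent.Lib.Helper13.OrthNe16

set_option autoImplicit false
set_option linter.unusedSectionVars false

/-!
# Involutions in characteristic two: passing to the orthogonal complement of an invariant
nondegenerate subspace
-/

namespace Cfsg.Agent.Helper13.OrthNe

open Polynomial Module QuadraticMap Matrix Cfsg.Agent.Helper13.SS Cfsg.Agent.Helper13.Dual
  Cfsg.Agent.Helper13.SympSS Cfsg.Agent.Helper13.SpDec Cfsg.Agent.Helper13.SlDec
  Cfsg.Agent.Helper13.SpTi Cfsg.Agent.Helper13.OrthSS Cfsg.Agent.Helper13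
  Cfsg.Agent.Helper13.OrthTs Cfsg.Agent.Helper13.OrthTy Cfsg.Agent.Helper13.HermSS
  Cfsg.Agent.Helper13.OrthNd Cfsg.Agent.Helper13.OrthNi Cfsg.Agent.Helper17.Spinor
open scoped Classical

universe u

section compl
variable {F : Type u} [Field F] [Fintype F] {V : Type u} [AddCommGroup V]
  [Module F V] [FiniteDimensional F V] (Q : QuadraticForm F V) (A : Module.End F V)

/-- the orthogonal complement of an invariant subspace is invariant -/
theorem inv_orth_of_invol (hA : A * A = 1) (hAQ : ∀ v, Q (A v) = Q v) (W : Submodule F V)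
    (hW : ∀ w ∈ W, A w ∈ W) :
    ∀ v ∈ LinearMap.BilinForm.orthogonal (polarBilin Q) W,
      A v ∈ LinearMap.BilinForm.orthogonal (polarBilin Q) W := by
  intro v hv
  rw [LinearMap.BilinForm.mem_orthogonal_iff] at hv ⊢
  intro w hw
  show polar Q w (A v) = 0
  have hw' : w = A (A w) := by
    rw [← Module.End.mul_apply, hA, Module.End.one_apply]
  rw [hw', Cfsg.Agent.Helper28.WittQuad.polar_of_isom (Q := Q) hAQ]
  exact hv _ (hW w hw)

theorem restrict_invol (hA : A * A = 1) (C : Submodule F V) (hC : ∀ v ∈ C, A v ∈ C) :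
    A.restrict hC * A.restrict hC = 1 := by
  apply LinearMap.ext
  intro w
  apply Subtype.ext
  rw [Module.End.mul_apply, LinearMap.restrict_coe_apply, LinearMap.restrict_coe_apply,
    ← Module.End.mul_apply, hA]
  rfl

theorem finrank_range_restrict (C : Submodule F V) (hC : ∀ v ∈ C, A v ∈ C) :
    finrank F (LinearMap.range (A.restrict hC - 1)) = finrank F (C.map (A - 1)) := by
  have h2 : (LinearMap.range (A.restrict hC - 1)).map C.subtype = C.map (A - 1) := by
    ext y
    constructor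
    · rintro ⟨_, ⟨w, rfl⟩, rfl⟩
      exact ⟨w, w.2, rfl⟩
    · rintro ⟨w, hw, rfl⟩
      exact ⟨(A.restrict hC - 1) ⟨w, hw⟩, ⟨⟨w, hw⟩, rfl⟩, rfl⟩
  rw [← h2, Submodule.finrank_map_subtype_eq]

/-- subspaces of an invariant subspace, keeping track of the inclusion -/
theorem Fix.le_of_sub (V₁ : Submodule F V) (hV₁ : ∀ v ∈ V₁, A v ∈ V₁) (m : ℕ) (τ : Prop)
    (h : Fix (Q.comp V₁.subtype) (A.restrict hV₁) m τ) :
    ∃ W : Submodule F V, W ≤ V₁ ∧ (finrank F W = m ∧
      (polarBilin (Q.comp W.subtype)).Nondegenerate ∧ (IsHyp (Q.comp W.subtype) ↔ τ)) ∧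
      ∀ v ∈ W, A v ∈ W := by
  obtain ⟨W, hW, hWinv⟩ := h
  have hinj : Function.Injective (V₁.subtype ∘ₗ W.subtype) := by
    intro a b hab
    apply Subtype.ext
    apply Subtype.ext
    exact hab
  refine ⟨LinearMap.range (V₁.subtype ∘ₗ W.subtype), ?_, ?_, ?_⟩
  · rintro _ ⟨z, rfl⟩
    exact (z : V₁).2
  · exact props_of_equiv ((Q.comp V₁.subtype).comp W.subtype)
      (Q.comp (LinearMap.range (V₁.subtype ∘ₗ W.subtype)).subtype)
      (LinearEquiv.ofInjective _ hinj) (fun z => rfl) m τ hW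
  · rintro _ ⟨z, rfl⟩
    exact ⟨⟨A.restrict hV₁ (z : V₁), hWinv _ z.2⟩, rfl⟩

/-- the data of the orthogonal complement -/
theorem compl_data (hQ : (polarBilin Q).Nondegenerate) (hVev : Even (finrank F V))
    (hA : A * A = 1) (hAQ : ∀ v, Q (A v) = Q v) (W : Submodule F V)
    (hW : ∀ w ∈ W, A w ∈ W) (hWnd : (polarBilin (Q.comp W.subtype)).Nondegenerate)
    (hWev : Even (finrank F W)) :
    (polarBilin (Q.comp (LinearMap.BilinForm.orthogonal (polarBilin Q) W).subtype)).Nondegenerate ∧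
    finrank F ↥(LinearMap.BilinForm.orthogonal (polarBilin Q) W) + finrank F W = finrank F V ∧
    Even (finrank F ↥(LinearMap.BilinForm.orthogonal (polarBilin Q) W)) ∧
    (IsHyp Q ↔ (IsHyp (Q.comp W.subtype) ↔
      IsHyp (Q.comp (LinearMap.BilinForm.orthogonal (polarBilin Q) W).subtype))) ∧
    finrank F (LinearMap.range (A - 1)) = finrank F (W.map (A - 1)) +
      finrank F ((LinearMap.BilinForm.orthogonal (polarBilin Q) W).map (A - 1)) := by
  have hc := isCompl_orth Q W hWnd
  have hndC := nondeg_orth Q hQ W hWnd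
  obtain ⟨hCev, hT⟩ := isHyp_orth_iff Q hQ hVev W hWnd hWev
  have hfin := Submodule.finrank_add_eq_of_isCompl hc
  have hC := inv_orth_of_invol Q A hA hAQ W hW
  have hsub : ∀ (U : Submodule F V), (∀ v ∈ U, A v ∈ U) → ∀ v ∈ U, (A - 1) v ∈ U := by
    intro U hU v hv
    rw [LinearMap.sub_apply, Module.End.one_apply]
    exact U.sub_mem (hU v hv) hv
  refine ⟨hndC, by omega, hCev, hT, ?_⟩
  exact finrank_range_split (A - 1) W _ hc (hsub W hW) (hsub _ hC)

end compl

end Cfsg.Agent.Helper13.OrthNe
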