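import Mathlib
import Cfsg.Agent.Lib.Helper13.OrthNe17

set_option autoImplicit false
set_option linter.unusedSectionVars false

/-!
# Involutions in characteristic two: invariant planes of both types
-/

namespace Cfsg.Agent.Helper13.OrthNe

open Polynomial Module QuadraticMap Matrix Cfsg.Agent.Helper13.SS Cfsg.Agent.Helper13.Dual
  Cfsg.Agent.Helper13.SympSS Cfsg.Agent.Helper13.SpDec Cfsg.Agent.Helper13.SlDec
  Cfsg.Agent.Helper13.SpTi Cfsg.Agent.Helper13.OrthSS Cfsg.Agent.Helper13
  Cfsg.Agent.Helper13.OrthTs Cfsg.Agent.Helper13.OrthTy Cfsg.Agent.Helper13.HermSS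
  Cfsg.Agent.Helper13.OrthNd Cfsg.Agent.Helper13.OrthNi Cfsg.Agent.Helper17.Spinor
open scoped Classical

universe u

section field2
variable {F : Type u} [Field F] [Fintype F] [CharP F 2]

theorem exists_sqrt2 (a : F) : ∃ c : F, c * c = a := by
  obtain ⟨c, hc⟩ := FiniteField.isSquare_of_char_two (ringChar.eq F 2) a
  exact ⟨c, hc.symm⟩

/-- the Artin-Schreier map is not surjective -/
theorem exists_non_as : ∃ c₀ : F, ∀ y : F, y * y + y ≠ c₀ := by
  by_contra h
  push Not at h
  have hsurj : Function.Surjective (fun y : F => y * y + y) := h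
  have hinj := Finite.injective_iff_surjective.2 hsurj
  have h01 : (fun y : F => y * y + y) 0 = (fun y : F => y * y + y) 1 := by
    show (0 : F) * 0 + 0 = 1 * 1 + 1
    have h2 : (2 : F) = 0 := CharTwo.two_eq_zero
    linear_combination -h2
  exact zero_ne_one (hinj h01)

end field2

section plane
variable {F : Type u} [Field F] [Fintype F] {V : Type u} [AddCommGroup V]
  [Module F V] [FiniteDimensional F V] (Q : QuadraticForm F V)

/-- the span of two vectors as the image of a linear map -/
noncomputable def pairMap (x y : V) : (Fin 2 → F) →ₗ[F] V :=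
  (LinearMap.proj 0 : (Fin 2 → F) →ₗ[F] F).smulRight x +
    (LinearMap.proj 1 : (Fin 2 → F) →ₗ[F] F).smulRight y

theorem pairMap_apply (x y : V) (z : Fin 2 → F) : pairMap x y z = z 0 • x + z 1 • y := rfl

theorem pairMap_mem_span (x y : V) (z : Fin 2 → F) :
    pairMap x y z ∈ Submodule.span F ({x, y} : Set V) := by
  rw [pairMap_apply]
  apply Submodule.add_mem
  · exact Submodule.smul_mem _ _ (Submodule.subset_span (by simp))
  · exact Submodule.smul_mem _ _ (Submodule.subset_span (by simp))

theorem pair_ext (z : Fin 2 → F) (h0 : z 0 = 0) (h1 : z 1 = 0) : z = 0 := by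
  funext i
  fin_cases i
  · exact h0
  · exact h1

theorem Q_pairMap (x y : V) (z : Fin 2 → F) :
    Q (pairMap x y z) = z 0 * z 0 * Q x + z 1 * z 1 * Q y + z 0 * z 1 * polar Q x y := by
  rw [pairMap_apply, QuadraticMap.map_add Q, QuadraticMap.map_smul, QuadraticMap.map_smul,
    polar_smul_left, polar_smul_right]
  simp only [smul_eq_mul]
  ring

theorem polar_pairMap (x y : V) (z z' : Fin 2 → F) :
    polar Q (pairMap x y z) (pairMap x y z') =
      z 0 * z' 0 * polar Q x x + z 0 * z' 1 * polar Q x y + z 1 * z' 0 * polar Q y x +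
      z 1 * z' 1 * polar Q y y := by
  rw [pairMap_apply, pairMap_apply]
  simp only [polar_add_left, polar_add_right, polar_smul_left, polar_smul_right, smul_eq_mul]
  ring

/-- a two-dimensional space is hyperbolic iff it has a nonzero singular vector -/
theorem isHyp_two_iff {M : Type u} [AddCommGroup M] [Module F M] [FiniteDimensional F M]
    (QM : QuadraticForm F M) (hM : finrank F M = 2) :
    IsHyp QM ↔ ∃ z : M, z ≠ 0 ∧ QM z = 0 := by
  constructor
  · rintro ⟨L, hL, hfin⟩
    have h1 : 0 < finrank F L := by omega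
    rw [Module.finrank_pos_iff] at h1
    obtain ⟨z, hz⟩ := exists_ne (0 : L)
    exact ⟨(z : M), fun h => hz (Subtype.ext h), hL _ z.2⟩
  · rintro ⟨z, hz, hQz⟩
    refine ⟨Submodule.span F {z}, ?_, ?_⟩
    · intro x hx
      obtain ⟨c, rfl⟩ := Submodule.mem_span_singleton.1 hx
      rw [QuadraticMap.map_smul, hQz, smul_zero]
    · rw [finrank_span_singleton hz, hM]

end plane

section planes
variable {F : Type u} [Field F] [Fintype F] [CharP F 2] {V : Type u} [AddCommGroup V]
  [Module F V] [FiniteDimensional F V] (Q : QuadraticForm F V) (A : Module.End F V)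

/-- invariant nondegenerate planes of both types -/
theorem exists_plane (hA : A * A = 1) (hAQ : ∀ v, Q (A v) = Q v) (v₁ w : V)
    (hb : Q ((A - 1) v₁) ≠ 0) (hNw : (A - 1) w = 0) (hQw : Q w ≠ 0) (hvw : polar Q v₁ w = 0)
    (τ : Prop) :
    ∃ W : Submodule F V, W ≤ Submodule.span F ({v₁, (A - 1) v₁, w} : Set V) ∧
      (finrank F W = 2 ∧ (polarBilin (Q.comp W.subtype)).Nondegenerate ∧
        (IsHyp (Q.comp W.subtype) ↔ τ)) ∧ ∀ x ∈ W, A x ∈ W := by
  set N := A - 1 with hN
  set b := Q (N v₁) with hbdef
  have h2 : (2 : F) = 0 := CharTwo.two_eq_zero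
  have hMfin : finrank F (Fin 2 → F) = 2 := by
    rw [Module.finrank_fintype_fun_eq_card, Fintype.card_fin]
  -- the plane attached to a scalar
  have key : ∀ a : F, ∀ σ : Prop,
      (IsHyp (Q.comp (pairMap (F := F) (v₁ + a • w) (N v₁))) ↔ σ) →
      ∃ W : Submodule F V, W ≤ Submodule.span F ({v₁, N v₁, w} : Set V) ∧
      (finrank F W = 2 ∧ (polarBilin (Q.comp W.subtype)).Nondegenerate ∧
        (IsHyp (Q.comp W.subtype) ↔ σ)) ∧ ∀ x ∈ W, A x ∈ W := by
    intro a σ hσ
    set x := v₁ + a • w with hx
    set y := N v₁ with hy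
    set f := pairMap (F := F) x y with hf
    have hxy : polar Q x y = b := by
      rw [hx, hy, polar_add_left, polar_smul_left, ← inv2_QN Q A hAQ, polar_comm Q w,
        inv2_adj Q A hA hAQ, ← hN, hNw, polar_zero_right, smul_zero, add_zero]
    have hxx : polar Q x x = 0 := polar_self_two Q x
    have hyy : polar Q y y = 0 := polar_self_two Q y
    have hker : ∀ z : Fin 2 → F, polar Q (f z) x = 0 → polar Q (f z) y = 0 → z = 0 := by
      intro z h1 h3
      have e1 : f z = z 0 • x + z 1 • y := rfl
      rw [e1, polar_add_left, polar_smul_left, polar_smul_left, hxx, polar_comm Q y x, hxy]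
        at h1
      rw [e1, polar_add_left, polar_smul_left, polar_smul_left, hxy, hyy] at h3
      simp only [smul_eq_mul, mul_zero, zero_add, add_zero] at h1 h3
      exact pair_ext z ((mul_eq_zero.1 h3).resolve_right hb) ((mul_eq_zero.1 h1).resolve_right hb)
    have hinj : Function.Injective f := by
      rw [← LinearMap.ker_eq_bot, LinearMap.ker_eq_bot']
      intro z hz
      apply hker z <;> rw [hz, polar_zero_left]
    have hnd : (polarBilin (Q.comp f)).Nondegenerate := by
      apply nondeg_of_polar
      intro z hz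
      apply hker z
      · have := hz (Pi.single 0 1)
        rw [OrthTs.polar_comp] at this
        have e : f (Pi.single 0 1) = x := by
          rw [hf, pairMap_apply]
          simp
        rwa [e] at this
      · have := hz (Pi.single 1 1)
        rw [OrthTs.polar_comp] at this
        have e : f (Pi.single 1 1) = y := by
          rw [hf, pairMap_apply]
          simp
        rwa [e] at this
    have hprops := props_of_equiv (Q.comp f) (Q.comp (LinearMap.range f).subtype)
      (LinearEquiv.ofInjective f hinj) (fun z => rfl) 2 σ ⟨hMfin, hnd, hσ⟩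
    refine ⟨LinearMap.range f, ?_, hprops, ?_⟩
    · rintro _ ⟨z, rfl⟩
      have e1 : f z = z 0 • x + z 1 • y := rfl
      rw [e1, hx]
      apply Submodule.add_mem
      · apply Submodule.smul_mem
        apply Submodule.add_mem
        · exact Submodule.subset_span (by simp)
        · exact Submodule.smul_mem _ _ (Submodule.subset_span (by simp))
      · exact Submodule.smul_mem _ _ (Submodule.subset_span (by simp))
    · rintro _ ⟨z, rfl⟩
      have e1 : f z = z 0 • x + z 1 • y := rfl
      have hAx : A x = x + y := by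
        rw [inv2_A_apply A x, ← hN, hx, map_add, map_smul, hNw, smul_zero, add_zero]
      have hAy : A y = y := by
        rw [inv2_A_apply A y, hy, hN, inv2_NN_apply A hA, add_zero]
      refine ⟨![z 0, z 0 + z 1], ?_⟩
      rw [e1, map_add, map_smul, map_smul, hAx, hAy, hf, pairMap_apply]
      simp only [Matrix.cons_val_zero, Matrix.cons_val_one]
      module
  have hQx : ∀ a : F, Q (v₁ + a • w) = Q v₁ + a * a * Q w := by
    intro a
    rw [QuadraticMap.map_add Q, QuadraticMap.map_smul, polar_smul_right, hvw, smul_zero,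
      add_zero, smul_eq_mul]
  have hxy' : ∀ a : F, polar Q (v₁ + a • w) (N v₁) = b := by
    intro a
    rw [polar_add_left, polar_smul_left, ← inv2_QN Q A hAQ, polar_comm Q w,
      inv2_adj Q A hA hAQ, ← hN, hNw, polar_zero_right, smul_zero, add_zero]
  by_cases hτ : τ
  · obtain ⟨a, ha⟩ := exists_sqrt2 (Q v₁ / Q w)
    obtain ⟨W, hle, hW, hinv⟩ := key a True (by
      refine iff_of_true ?_ trivial
      rw [isHyp_two_iff _ hMfin]
      refine ⟨Pi.single 0 1, ?_, ?_⟩
      · intro h
        have := congrFun h 0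
        simp at this
      · show Q (pairMap (F := F) (v₁ + a • w) (N v₁) (Pi.single 0 1)) = 0
        rw [Q_pairMap]
        simp only [Pi.single_eq_same, Pi.single_eq_of_ne (show (1 : Fin 2) ≠ 0 by decide),
          mul_zero, zero_mul, add_zero, one_mul]
        rw [hQx, ha, div_mul_cancel₀ _ hQw]
        linear_combination Q v₁ * h2)
    exact ⟨W, hle, ⟨hW.1, hW.2.1, hW.2.2.trans (iff_of_true trivial hτ)⟩, hinv⟩
  · obtain ⟨c₀, hc₀⟩ := exists_non_as (F := F)
    obtain ⟨a, ha⟩ := exists_sqrt2 ((c₀ * b + Q v₁) / Q w)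
    obtain ⟨W, hle, hW, hinv⟩ := key a False (by
      refine iff_of_false ?_ (fun h => h)
      rw [isHyp_two_iff _ hMfin]
      rintro ⟨z, hz, hQz⟩
      have hQz' : Q (pairMap (F := F) (v₁ + a • w) (N v₁) z) = 0 := hQz
      rw [Q_pairMap, hQx, ha, div_mul_cancel₀ _ hQw, hxy'] at hQz'
      have h3 : b * (c₀ * (z 0 * z 0) + z 0 * z 1 + z 1 * z 1) = 0 := by
        linear_combination hQz' - (z 0 * z 0 * Q v₁) * h2
      have h4 := (mul_eq_zero.1 h3).resolve_left hb
      by_cases hz0 : z 0 = 0
      · rw [hz0] at h4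
        simp only [mul_zero, zero_mul, zero_add] at h4
        have hz1 : z 1 = 0 := by
          rcases mul_eq_zero.1 h4 with h | h <;> exact h
        exact hz (pair_ext z hz0 hz1)
      · apply hc₀ (z 1 / z 0)
        field_simp
        linear_combination h4 - (z 0 ^ 2 * c₀) * h2)
    exact ⟨W, hle, ⟨hW.1, hW.2.1, hW.2.2.trans (iff_of_false (fun h => h) hτ)⟩, hinv⟩

end planes

end Cfsg.Agent.Helper13.OrthNe
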