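import Mathlib
import Cfsg.Agent.Lib.Helper13.OrthNe18
import Cfsg.Agent.Lib.Helper13.OrthNe10

set_option autoImplicit false
set_option linter.unusedSectionVars false

/-!
# Involutions in characteristic two: the terminal case with a non-alternating form
-/

namespace Cfsg.Agent.Helper13.OrthNe

open Polynomial Module QuadraticMap Matrix Cfsg.Agent.Helper13.SS Cfsg.Agent.Helper13.Dual
  Cfsg.Agent.Helper13.SympSS Cfsg.Agent.Helper13.SpDec Cfsg.Agent.Helper13.SlDec
  Cfsg.Agent.Helper13.SpTi Cfsg.Agent.Helper13.OrthSS Cfsg.Agent.Helper13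
  Cfsg.Agent.Helper13.OrthTs Cfsg.Agent.Helper13.OrthTy Cfsg.Agent.Helper13.HermSS
  Cfsg.Agent.Helper13.OrthNd Cfsg.Agent.Helper13.OrthNi Cfsg.Agent.Helper17.Spinor
open scoped Classical

universe u

section terminal
variable {F : Type u} [Field F] [Fintype F] [CharP F 2] {V : Type u} [AddCommGroup V]
  [Module F V] [FiniteDimensional F V] (Q : QuadraticForm F V) (A : Module.End F V)

/-- the terminal case with a non-alternating form: every proper even dimension and every type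
occurs -/
theorem ctype_terminal (hQ : (polarBilin Q).Nondegenerate) (hVev : Even (finrank F V))
    (hA : A * A = 1) (hAQ : ∀ v, Q (A v) = Q v)
    (hterm : ∀ u v, Q ((A - 1) u) = 0 → Q ((A - 1) v) = 0 → polar Q u ((A - 1) v) = 0)
    (v₁ : V) (hb : Q ((A - 1) v₁) ≠ 0) (heven : Even (finrank F (LinearMap.range (A - 1))))
    (e : ℕ) (hee : Even e) (he0 : 0 < e) (hen : e < finrank F V) (τ : Prop) : Fix Q A e τ := by
  set N := A - 1 with hN
  have h2 : (2 : F) = 0 := CharTwo.two_eq_zero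
  have hNN : ∀ x, N (N x) = 0 := inv2_NN_apply A hA
  have hpNN : ∀ x y, polar Q (N x) (N y) = 0 := inv2_polar_NN Q A hA hAQ
  have hadj : ∀ x y, polar Q (N x) y = polar Q x (N y) := inv2_adj Q A hA hAQ
  have hQN : ∀ x, Q (N x) = polar Q x (N x) := inv2_QN Q A hAQ
  -- decomposition
  have hdec : ∀ v : V, ∃ (a : F) (s : V), v = s + a • v₁ ∧ Q (N s) = 0 := by
    intro v
    obtain ⟨c, hc⟩ := exists_sqrt2 (Q (N v) / Q (N v₁))
    refine ⟨c, v + c • v₁, ?_, ?_⟩
    · have h3 : c • v₁ + c • v₁ = (0 : V) := by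
        rw [← add_smul, ← two_mul, h2, zero_mul, zero_smul]
      rw [add_assoc, h3, add_zero]
    · rw [hN, inv2_QN_add Q A hA hAQ, inv2_QN_smul, hc, div_mul_cancel₀ _ hb]
      linear_combination Q ((A - 1) v) * h2
  -- a vector of `S` not orthogonal to `v₁`
  have hs₁ : ∃ s₁, Q (N s₁) = 0 ∧ polar Q v₁ (N s₁) ≠ 0 := by
    by_contra hcon
    push Not at hcon
    have hNS : ∀ s, Q (N s) = 0 → N s = 0 := by
      intro s hs
      apply hQ.1
      intro y
      show polar Q (N s) y = 0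
      obtain ⟨a, s', rfl, hs'⟩ := hdec y
      rw [polar_add_right, polar_smul_right, hadj, hterm s s' hs hs', polar_comm Q (N s) v₁,
        hcon s hs, smul_zero, add_zero]
    have hrange : LinearMap.range N = Submodule.span F {N v₁} := by
      apply le_antisymm
      · rintro _ ⟨v, rfl⟩
        obtain ⟨a, s, rfl, hs⟩ := hdec v
        rw [map_add, map_smul, hNS s hs, zero_add]
        exact Submodule.smul_mem _ _ (Submodule.mem_span_singleton_self _)
      · rw [Submodule.span_singleton_le_iff_mem]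
        exact ⟨v₁, rfl⟩
    have hNv₁ : N v₁ ≠ 0 := by
      intro h
      apply hb
      rw [h, map_zero]
    rw [hrange, finrank_span_singleton hNv₁] at heven
    exact absurd heven (by decide)
  obtain ⟨s₁, hs₁0, hk⟩ := hs₁
  set b := Q (N v₁) with hbdef
  set k := polar Q v₁ (N s₁) with hkdef
  set γ := b / k with hγ
  set ρ := γ * polar Q v₁ s₁ / b with hρ
  set v₂ := v₁ + γ • s₁ + ρ • N v₁ with hv₂
  have hNv₂ : N v₂ = N v₁ + γ • N s₁ := by
    rw [hv₂, map_add, map_add, map_smul, map_smul, hNN, smul_zero, add_zero]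
  have hγk : γ * k = b := div_mul_cancel₀ _ hk
  have hγ0 : γ ≠ 0 := by
    intro h
    rw [h, zero_mul] at hγk
    exact hb hγk.symm
  have hQNv₂ : Q (N v₂) = b := by
    rw [hNv₂, QuadraticMap.map_add Q, QuadraticMap.map_smul, hs₁0, polar_smul_right, hpNN]
    simp only [smul_zero, add_zero]
    exact hbdef.symm
  have h12 : polar Q v₁ (N v₂) = 0 := by
    rw [hNv₂, polar_add_right, polar_smul_right, ← hQN, smul_eq_mul, hγk]
    linear_combination b * h2
  have h11 : polar Q v₁ v₂ = 0 := by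
    rw [hv₂, polar_add_right, polar_add_right, polar_self_two, polar_smul_right,
      polar_smul_right, ← hQN, smul_eq_mul, smul_eq_mul, hρ, div_mul_cancel₀ _ hb]
    linear_combination (γ * polar Q v₁ s₁) * h2
  -- the Gram matrix
  have g12 : polar Q v₁ (N v₁) = b := (hQN v₁).symm
  have g21 : polar Q (N v₁) v₁ = b := by rw [polar_comm, g12]
  have g31 : polar Q v₂ v₁ = 0 := by rw [polar_comm, h11]
  have g41 : polar Q (N v₂) v₁ = 0 := by rw [polar_comm, h12]
  have g23 : polar Q (N v₁) v₂ = 0 := by rw [hadj, h12]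
  have g32 : polar Q v₂ (N v₁) = 0 := by rw [polar_comm, g23]
  have g34 : polar Q v₂ (N v₂) = b := by rw [← hQN, hQNv₂]
  have g43 : polar Q (N v₂) v₂ = b := by rw [polar_comm, g34]
  set f := quadMap (F := F) v₁ (N v₁) v₂ (N v₂) with hf
  have hker : ∀ z : (Fin 2 → F) × (Fin 2 → F), polar Q (f z) v₁ = 0 →
      polar Q (f z) (N v₁) = 0 → polar Q (f z) v₂ = 0 → polar Q (f z) (N v₂) = 0 → z = 0 := by
    intro z z1 z2 z3 z4
    rw [hf, polar_quadMap_left] at z1 z2 z3 z4
    rw [polar_self_two, g21, g31, g41] at z1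
    rw [g12, polar_self_two, g32, hpNN] at z2
    rw [h11, g23, polar_self_two, g43] at z3
    rw [h12, hpNN, g34, polar_self_two] at z4
    simp only [mul_zero, zero_mul, add_zero, zero_add] at z1 z2 z3 z4
    exact quad_ext z ((mul_eq_zero.1 z2).resolve_right hb) ((mul_eq_zero.1 z1).resolve_right hb)
      ((mul_eq_zero.1 z4).resolve_right hb) ((mul_eq_zero.1 z3).resolve_right hb)
  obtain ⟨hinj, hnd⟩ := quad_props Q v₁ (N v₁) v₂ (N v₂) hker
  have hV₄props := props_of_equiv (Q.comp f) (Q.comp (LinearMap.range f).subtype)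
    (LinearEquiv.ofInjective f hinj) (fun z => rfl) 4 (IsHyp (Q.comp f))
    ⟨finrank_quad, hnd, Iff.rfl⟩
  have hV₄inv : ∀ x ∈ LinearMap.range f, A x ∈ LinearMap.range f := by
    rintro _ ⟨z, rfl⟩
    have hNf : N (f z) = f (![0, z.1 0], ![0, z.2 0]) := by
      rw [hf, quadMap_apply, quadMap_apply]
      simp only [map_add, map_smul, hNN, smul_zero, add_zero, Matrix.cons_val_zero,
        Matrix.cons_val_one, zero_smul, zero_add]
    rw [inv2_A_apply A (f z), ← hN, hNf, ← map_add]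
    exact ⟨_, rfl⟩
  have hm1 : v₁ ∈ LinearMap.range f := ⟨_, quadMap_e1 _ _ _ _⟩
  have hm2 : N v₁ ∈ LinearMap.range f := ⟨_, quadMap_e2 _ _ _ _⟩
  have hm3 : v₂ ∈ LinearMap.range f := ⟨_, quadMap_e3 _ _ _ _⟩
  have hm4 : N v₂ ∈ LinearMap.range f := ⟨_, quadMap_e4 _ _ _ _⟩
  obtain ⟨hC₀nd, hfin, hC₀ev, hT, -⟩ := compl_data Q A hQ hVev hA hAQ (LinearMap.range f) hV₄inv
    hV₄props.2.1 (by rw [hV₄props.1]; decide)
  rw [hV₄props.1] at hfin
  have hC₀inv := inv_orth_of_invol Q A hA hAQ (LinearMap.range f) hV₄inv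
  set C₀ := LinearMap.BilinForm.orthogonal (polarBilin Q) (LinearMap.range f) with hC₀
  have hC₀orth : ∀ x ∈ LinearMap.range f, ∀ c ∈ C₀, polar Q x c = 0 := by
    intro x hx c hc
    rw [hC₀, LinearMap.BilinForm.mem_orthogonal_iff] at hc
    exact hc x hx
  have hC₀fix : ∀ c ∈ C₀, N c = 0 := by
    intro c hc
    have c1 := hC₀orth _ hm2 c hc
    have c4 := hC₀orth _ hm4 c hc
    obtain ⟨θ, s, rfl, hs⟩ := hdec c
    rw [hNv₂, polar_add_left, c1, zero_add, polar_smul_left, smul_eq_mul] at c4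
    have c5 := (mul_eq_zero.1 c4).resolve_left hγ0
    rw [polar_add_right, polar_smul_right, polar_comm Q (N s₁) s, hterm s s₁ hs hs₁0, zero_add,
      polar_comm Q (N s₁) v₁, smul_eq_mul] at c5
    have hθ : θ = 0 := (mul_eq_zero.1 c5).resolve_right hk
    rw [hθ, zero_smul, add_zero] at c1 ⊢
    apply hQ.1
    intro y
    show polar Q (N s) y = 0
    obtain ⟨a, s', rfl, hs'⟩ := hdec y
    rw [polar_add_right, polar_smul_right, hadj, hterm s s' hs hs', hadj, polar_comm Q s (N v₁),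
      c1, smul_zero, add_zero]
  have hC₀triv : ∀ c ∈ C₀, A c = (1 : F) • c := by
    intro c hc
    rw [inv2_A_apply A c, ← hN, hC₀fix c hc, add_zero, one_smul]
  -- planes
  have hplane : ∀ σ : Prop, ∃ W : Submodule F V, W ≤ LinearMap.range f ∧
      (finrank F W = 2 ∧ (polarBilin (Q.comp W.subtype)).Nondegenerate ∧
        (IsHyp (Q.comp W.subtype) ↔ σ)) ∧ ∀ x ∈ W, A x ∈ W := by
    intro σ
    obtain ⟨W, hle, hW, hinv⟩ := exists_plane Q A hA hAQ v₁ (N v₂) hb (hNN v₂)
      (by rw [hQNv₂]; exact hb) h12 σ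
    refine ⟨W, hle.trans ?_, hW, hinv⟩
    rw [Submodule.span_le]
    intro x hx
    rcases hx with rfl | rfl | rfl
    · exact hm1
    · exact hm2
    · exact hm4
  have hA2 : A ^ (1 + 1) = 1 := by rw [pow_succ, pow_one, hA]
  by_cases he2 : e = 2
  · obtain ⟨W, -, hW, hinv⟩ := hplane τ
    rw [he2]
    exact ⟨W, hW, hinv⟩
  by_cases hen2 : e + 2 = finrank F V
  · obtain ⟨W, -, hW, hinv⟩ := hplane (IsHyp Q ↔ τ)
    have h6 := Fix.compl Q A hQ hVev hAQ 1 hA2 2 (by decide) (IsHyp Q ↔ τ) τ (by tauto)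
      ⟨W, hW, hinv⟩
    have e1 : finrank F V - 2 = e := by omega
    rwa [e1] at h6
  obtain ⟨e', he'⟩ := hee
  obtain ⟨n', hn'⟩ := hVev
  by_cases hlt : e < finrank F C₀
  · exact Fix.of_scalar Q A C₀ 1 hC₀triv hC₀nd hC₀ev e ⟨e', he'⟩ he0 hlt τ
  by_cases h4 : 4 < e
  · have h5 := Fix.of_scalar Q A C₀ 1 hC₀triv hC₀nd hC₀ev 4 (by decide) (by decide) (by omega)
      (IsHyp Q ↔ τ)
    have h6 := Fix.compl Q A hQ ⟨n', hn'⟩ hAQ 1 hA2 4 (by decide) (IsHyp Q ↔ τ) τ (by tauto) h5
    have e1 : finrank F V - 4 = e := by omega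
    rwa [e1] at h6
  · have he4 : e = 4 := by omega
    have hC4 : finrank F C₀ = 4 := by omega
    obtain ⟨W₁, hW₁le, hW₁, hinv₁⟩ := hplane True
    obtain ⟨W₂, hW₂le, hW₂⟩ := exists_sub_in Q C₀ hC₀nd hC₀ev 2 (by decide) (by decide)
      (by omega) τ
    have h8 := Fix.osum Q A W₁ W₂ 2 2 True τ hW₁ hW₂ (by decide) (by decide)
      (fun u hu v hv => hC₀orth u (hW₁le hu) v (hW₂le hv)) hinv₁
      (fun v hv => by
        rw [hC₀triv v (hW₂le hv), one_smul]
        exact hv)
    rw [he4]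
    exact h8.congr Q A (by tauto)

end terminal

end Cfsg.Agent.Helper13.OrthNe
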