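import Mathlib
import Cfsg.Agent.Lib.Helper13.OrthNe19

set_option autoImplicit false
set_option linter.unusedSectionVars false

/-!
# Involutions of even rank in characteristic two: the structure theorem
-/

namespace Cfsg.Agent.Helper13.OrthNe

open Polynomial Module QuadraticMap Matrix Cfsg.Agent.Helper13.SS Cfsg.Agent.Helper13.Dual
  Cfsg.Agent.Helper13.SympSS Cfsg.Agent.Helper13.SpDec Cfsg.Agent.Helper13.SlDec
  Cfsg.Agent.Helper13.SpTi Cfsg.Agent.Helper13.OrthSS Cfsg.Agent.Helper13
  Cfsg.Agent.Helper13.OrthTs Cfsg.Agent.Helper13.OrthTy Cfsg.Agent.Helper13.HermSS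
  Cfsg.Agent.Helper13.OrthNd Cfsg.Agent.Helper13.OrthNi Cfsg.Agent.Helper17.Spinor
open scoped Classical

universe u

section struct
variable {F : Type u} [Field F] [Fintype F] [CharP F 2]

/-- the space is an orthogonal sum of `b` invariant hyperbolic blocks of dimension four and an
invariant subspace of dimension `n''` in which every admissible dimension and type is fixed -/
def Struct {V : Type u} [AddCommGroup V] [Module F V] [FiniteDimensional F V]
    (Q : QuadraticForm F V) (A : Module.End F V) : Prop :=
  ∃ b n'' : ℕ, finrank F V = 4 * b + n'' ∧ (n'' = 0 → IsHyp Q) ∧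
    ∀ j ≤ b, ∀ (e' : ℕ) (τ : Prop), Even e' → e' ≤ n'' → (e' = 0 → τ) →
      (e' = n'' → (τ ↔ IsHyp Q)) → Fix Q A (4 * j + e') τ

theorem isHyp_of_finrank_zero {V : Type u} [AddCommGroup V] [Module F V]
    [FiniteDimensional F V] (Q : QuadraticForm F V) (h : finrank F V = 0) : IsHyp Q := by
  refine ⟨⊥, ?_, ?_⟩
  · intro x hx
    rw [(Submodule.mem_bot F).1 hx, map_zero]
  · rw [finrank_bot, h]

theorem struct_invol : ∀ n : ℕ, ∀ (V : Type u) [AddCommGroup V] [Module F V]
    [FiniteDimensional F V] (Q : QuadraticForm F V) (A : Module.End F V),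
    finrank F V = n → (polarBilin Q).Nondegenerate → Even (finrank F V) → A * A = 1 →
    (∀ v, Q (A v) = Q v) → Even (finrank F (LinearMap.range (A - 1))) → Struct Q A := by
  intro n
  induction n using Nat.strong_induction_on with
  | _ n ih =>
    intro V _ _ _ Q A hn hQ hVev hA hAQ hrk
    by_cases hblk : ∃ u v, polar Q u ((A - 1) v) ≠ 0 ∧ Q ((A - 1) u) = 0 ∧ Q ((A - 1) v) = 0
    · obtain ⟨u, v, hβ, hu, hv⟩ := hblk
      obtain ⟨W, ⟨hW4, hWnd, hWt⟩, hWinv, hWrk⟩ := exists_block Q A hA hAQ u v hβ hu hv
      obtain ⟨hCnd, hfin, hCev, hT, hsplit⟩ := compl_data Q A hQ hVev hA hAQ W hWinv hWnd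
        (by rw [hW4]; decide)
      have hCinv := inv_orth_of_invol Q A hA hAQ W hWinv
      set C := LinearMap.BilinForm.orthogonal (polarBilin Q) W with hC
      have hrkC : Even (finrank F (LinearMap.range (A.restrict hCinv - 1))) := by
        rw [finrank_range_restrict A C hCinv]
        obtain ⟨t, ht⟩ := hrk
        exact ⟨t - 1, by omega⟩
      have hCQ : IsHyp (Q.comp C.subtype) ↔ IsHyp Q := by
        rw [hT, hWt]
        tauto
      obtain ⟨b', n'', hdim, h0, hfix⟩ := ih (finrank F C) (by omega) ↥C (Q.comp C.subtype)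
        (A.restrict hCinv) rfl hCnd hCev (restrict_invol A hA C hCinv) (fun v => hAQ _) hrkC
      refine ⟨b' + 1, n'', by omega, fun h => hCQ.1 (h0 h), ?_⟩
      intro j hj e' τ hee hle h00 hnn
      have hnn' : e' = n'' → (τ ↔ IsHyp (Q.comp C.subtype)) := fun h => (hnn h).trans hCQ.symm
      by_cases hjb : j ≤ b'
      · exact Fix.of_sub Q A C hCinv _ τ (hfix j hjb e' τ hee hle h00 hnn')
      · have hj' : j = b' + 1 := by omega
        obtain ⟨W', hW'le, hW', hW'inv⟩ := Fix.le_of_sub Q A C hCinv _ τ
          (hfix b' le_rfl e' τ hee hle h00 hnn')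
        have hev' : Even (4 * b' + e') := by
          obtain ⟨t, ht⟩ := hee
          exact ⟨2 * b' + t, by omega⟩
        have h8 := Fix.osum Q A W W' 4 (4 * b' + e') True τ ⟨hW4, hWnd, hWt⟩ hW' (by decide)
          hev'
          (fun x hx y hy => by
            have hy' := hW'le hy
            rw [hC, LinearMap.BilinForm.mem_orthogonal_iff] at hy'
            exact hy' x hx)
          hWinv hW'inv
        have e1 : 4 + (4 * b' + e') = 4 * j + e' := by omega
        rw [e1] at h8
        exact h8.congr Q A (by tauto)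
    · have hterm : ∀ u v, Q ((A - 1) u) = 0 → Q ((A - 1) v) = 0 →
          polar Q u ((A - 1) v) = 0 := by
        intro u v hu hv
        by_contra hβ
        exact hblk ⟨u, v, hβ, hu, hv⟩
      have hmid : ∀ (e' : ℕ) (τ : Prop), Even e' → 0 < e' → e' < finrank F V → Fix Q A e' τ := by
        intro e' τ hee he0 hen
        by_cases hc : ∃ v₁, Q ((A - 1) v₁) ≠ 0
        · obtain ⟨v₁, hb⟩ := hc
          exact ctype_terminal Q A hQ hVev hA hAQ hterm v₁ hb hrk e' hee he0 hen τ
        · push Not at hc
          have hN0 : ∀ v, (A - 1) v = 0 := by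
            intro v
            apply hQ.1
            intro y
            show polar Q ((A - 1) v) y = 0
            rw [polar_comm]
            exact hterm y v (hc y) (hc v)
          obtain ⟨W, hW⟩ := exists_ndsub Q hQ hVev e' hee he0 hen τ
          refine ⟨W, hW, ?_⟩
          intro v hv
          rw [inv2_A_apply A v, hN0, add_zero]
          exact hv
      refine ⟨0, finrank F V, by omega, fun h => isHyp_of_finrank_zero Q h, ?_⟩
      intro j hj e' τ hee hle h00 hnn
      have hj0 : j = 0 := by omega
      rw [hj0, mul_zero, zero_add]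
      by_cases he0 : e' = 0
      · rw [he0]
        exact (Fix.zero Q A).congr Q A (iff_of_true trivial (h00 he0))
      by_cases hen : e' = finrank F V
      · rw [hen]
        exact (Fix.top Q A hQ).congr Q A (hnn hen).symm
      exact hmid e' τ hee (by omega) (by omega)

end struct

end Cfsg.Agent.Helper13.OrthNe
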