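import Mathlib
import Cfsg.Agent.Lib.Helper13.OrthNe20
import Cfsg.Agent.Lib.Helper13.OrthNe11
import Cfsg.Agent.Lib.Helper17.OmegaChar2

set_option autoImplicit false
set_option linter.unusedSectionVars false

/-!
# Elements of order two in characteristic two: sufficiency
-/

namespace Cfsg.Agent.Helper13.OrthNe

open Polynomial Module QuadraticMap Matrix Cfsg.Agent.Helper13.SS Cfsg.Agent.Helper13.Dual
  Cfsg.Agent.Helper13.SympSS Cfsg.Agent.Helper13.SpDec Cfsg.Agent.Helper13.SlDec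
  Cfsg.Agent.Helper13.SpTi Cfsg.Agent.Helper13.OrthSS Cfsg.Agent.Helper13
  Cfsg.Agent.Helper13.OrthTs Cfsg.Agent.Helper13.OrthTy Cfsg.Agent.Helper13.HermSS
  Cfsg.Agent.Helper13.OrthNd Cfsg.Agent.Helper13.OrthNi Cfsg.Agent.Helper17.Spinor
open scoped Classical

universe u

section two
variable {F : Type u} [Field F] [Fintype F] [CharP F 2] {κ : Type} [Fintype κ] [DecidableEq κ]
  (Q : QuadraticForm F (κ → F))

/-- the arithmetic choice of the number of blocks -/
theorem struct_fix {V : Type u} [AddCommGroup V] [Module F V] [FiniteDimensional F V]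
    (QV : QuadraticForm F V) (A : Module.End F V) (h : Struct QV A) (d m : ℕ)
    (hfin : finrank F V = 2 * d) (hme : Even m) (hm2 : 2 ≤ m) (hmn : m ≤ 2 * d) (τ : Prop)
    (hcond : (IsHyp QV ∧ τ ∧ (Odd d ∨ 4 ∣ m)) ∨ (¬ IsHyp QV ∧ ¬ τ ∧ (Even d ∨ m % 4 = 2))) :
    Fix QV A m τ := by
  obtain ⟨b, n'', hdim, h0, hfix⟩ := h
  obtain ⟨m', hm'⟩ := hme
  rcases hcond with ⟨hH, hτ, hc⟩ | ⟨hH, hτ, hc⟩
  · by_cases hb : b ≤ m / 4
    · have := hfix b le_rfl (m - 4 * b) τ ⟨m' - 2 * b, by omega⟩ (by omega) (fun _ => hτ)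
        (fun _ => iff_of_true hτ hH)
      have e1 : 4 * b + (m - 4 * b) = m := by omega
      rwa [e1] at this
    · have hle : m % 4 ≤ n'' := by
        rcases hc with hc | hc
        · obtain ⟨t, ht⟩ := hc
          omega
        · omega
      have := hfix (m / 4) (by omega) (m % 4) τ ⟨m' - 2 * (m / 4), by omega⟩ hle (fun _ => hτ)
        (fun _ => iff_of_true hτ hH)
      have e1 : 4 * (m / 4) + m % 4 = m := Nat.div_add_mod m 4
      rwa [e1] at this
  · have hn0 : n'' ≠ 0 := fun h => hH (h0 h)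
    by_cases hb : b ≤ (m - 2) / 4
    · have := hfix b le_rfl (m - 4 * b) τ ⟨m' - 2 * b, by omega⟩ (by omega) (fun h => by omega)
        (fun _ => iff_of_false hτ hH)
      have e1 : 4 * b + (m - 4 * b) = m := by omega
      rwa [e1] at this
    · have hle : m - 4 * ((m - 2) / 4) ≤ n'' := by
        rcases hc with hc | hc
        · obtain ⟨t, ht⟩ := hc
          omega
        · omega
      have := hfix ((m - 2) / 4) (by omega) (m - 4 * ((m - 2) / 4)) τ
        ⟨m' - 2 * ((m - 2) / 4), by omega⟩ hle (fun h => by omega)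
        (fun _ => iff_of_false hτ hH)
      have e1 : 4 * ((m - 2) / 4) + (m - 4 * ((m - 2) / 4)) = m := by omega
      rwa [e1] at this

/-- sufficiency in characteristic two -/
theorem char2_suff (hQ : (polarBilin Q).Nondegenerate) (d m : ℕ)
    (hκ : Fintype.card κ = 2 * d) (hd : 3 ≤ d) (hme : Even m) (hm2 : 2 ≤ m)
    (hmn : m ≤ 2 * d) (τ : Prop)
    (hcond : (IsHyp Q ∧ τ ∧ (Odd d ∨ 4 ∣ m)) ∨ (¬ IsHyp Q ∧ ¬ τ ∧ (Even d ∨ m % 4 = 2)))
    (x : GL κ F) (hxmem : x ∈ Cfsg.Geo.omegaGL (⇑Q))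
    (hxz : ∃ z : F, ((x ^ 2 : GL κ F) : Matrix κ κ F) = z • (1 : Matrix κ κ F)) :
    ∃ W : Submodule F (κ → F), (finrank F W = m ∧
      (polarBilin (Q.comp W.subtype)).Nondegenerate ∧ (IsHyp (Q.comp W.subtype) ↔ τ)) ∧
      W.map (Matrix.toLin' (x : Matrix κ κ F)) ≤ W := by
  have hκ0 : 0 < Fintype.card κ := by omega
  have hex : Fintype.card F ≠ 2 ∨ Fintype.card κ ≠ 4 := Or.inr (by omega)
  have hfin : finrank F (κ → F) = 2 * d := by
    rw [Module.finrank_fintype_fun_eq_card, hκ]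
  obtain ⟨z, hz⟩ := hxz
  obtain ⟨h, hhΩ, rfl⟩ := (Cfsg.Agent.Helper17.OmegaElts.mem_omegaGL_iff Q x).1 hxmem
  have hz' := (toEnd_sq_eq_iff Q h z).1 hz
  have hAQ : ∀ v, Q (toEnd Q h v) = Q v := toEnd_isometry Q h
  have hAAQ : ∀ v, Q ((toEnd Q h * toEnd Q h) v) = Q v := by
    intro v
    rw [Module.End.mul_apply, hAQ, hAQ]
  have hzz := scalar_sq_of_isom Q hQ hκ0 _ hAAQ z hz'
  have h2 : (2 : F) = 0 := CharTwo.two_eq_zero
  have hz1 : z = 1 := by
    have h4 : (z - 1) * (z - 1) = 0 := by linear_combination hzz - (z - 1) * h2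
    have h5 : z - 1 = 0 := by
      rcases mul_eq_zero.1 h4 with h' | h' <;> exact h'
    exact sub_eq_zero.1 h5
  have hA : toEnd Q h * toEnd Q h = 1 := by
    rw [hz', hz1, one_smul]
  have hrk : Even (finrank F (LinearMap.range (toEnd Q h - 1))) := by
    have h1 : h ∈ commutator ↥(Cfsg.isometryGroup F (⇑Q)) := hhΩ
    rw [mem_commutator_iff_even_rank Q hQ hex] at h1
    have e1 : (1 : Module.End F (κ → F)) - toEnd Q h = -(toEnd Q h - 1) := by
      rw [neg_sub]
    rwa [e1, LinearMap.range_neg] at h1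
  have hst := struct_invol (F := F) (2 * d) (κ → F) Q (toEnd Q h) hfin hQ
    (by rw [hfin]; exact even_two_mul d) hA hAQ hrk
  obtain ⟨W, hW, hinv⟩ := struct_fix Q (toEnd Q h) hst d m hfin hme hm2 hmn τ hcond
  exact ⟨W, hW, (map_le_iff_toEnd Q h W).2 hinv⟩

end two

end Cfsg.Agent.Helper13.OrthNe
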