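import Mathlib
import Cfsg.Agent.Lib.Helper13.OrthNe14
import Cfsg.Agent.Lib.Helper13.OrthNe21

set_option autoImplicit false
set_option linter.unusedSectionVars false

/-!
# Hyperbolic subspaces of hyperbolic spaces and elliptic subspaces of elliptic spaces: the
statements
-/

namespace Cfsg.Agent.Helper13.OrthNe

open Polynomial Module QuadraticMap Matrix Cfsg.Agent.Helper13.SS Cfsg.Agent.Helper13.Dual
  Cfsg.Agent.Helper13.SympSS Cfsg.Agent.Helper13.SpDec Cfsg.Agent.Helper13.SlDec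
  Cfsg.Agent.Helper13.SpTi Cfsg.Agent.Helper13.OrthSS Cfsg.Agent.Helper13
  Cfsg.Agent.Helper13.OrthTs Cfsg.Agent.Helper13.OrthTy Cfsg.Agent.Helper13.HermSS
  Cfsg.Agent.Helper13.OrthNd Cfsg.Agent.Helper13.OrthNi Cfsg.Agent.Helper17.Spinor
  Cfsg.Agent.Helper13.OrthJp
open scoped Classical

universe u

section conv
variable {F : Type u} [Field F] [Fintype F] {κ : Type} [Fintype κ] [DecidableEq κ]

/-- hyperbolic subspaces: the explicit statement form versus the internal form -/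
theorem hyp_conv (Q : QuadraticForm F (κ → F)) (m : ℕ) (W : Submodule F (κ → F)) :
    (finrank F W = m ∧ (∀ u ∈ W, u ≠ 0 → ∃ v ∈ W, polar (⇑Q) u v ≠ 0) ∧
      ∃ U : Submodule F (κ → F), U ≤ W ∧ 2 * finrank F U = m ∧ ∀ u ∈ U, Q u = 0) ↔
    (finrank F W = m ∧ (polarBilin (Q.comp W.subtype)).Nondegenerate ∧
      (IsHyp (Q.comp W.subtype) ↔ True)) := by
  rw [← stmt_iff Q W m True, iff_true]
  constructor
  · rintro ⟨h1, h2, U, hU, hUm, hUQ⟩
    refine ⟨h1, ?_, U, hU, hUQ, by rw [hUm, h1]⟩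
    intro w hw hw0
    obtain ⟨v, hv, hwv⟩ := h2 w hw hw0
    exact ⟨⟨v, hv, by rw [polar_comm]; exact hwv⟩, ⟨v, hv, hwv⟩⟩
  · rintro ⟨h1, h2, U, hU, hUQ, hUm⟩
    refine ⟨h1, fun u hu hu0 => (h2 u hu hu0).2, U, hU, by rw [hUm, h1], hUQ⟩

end conv

section stmts
variable {F : Type u} [Field F] [Fintype F] {p : ℕ} [Fact p.Prime] [CharP F p]

theorem card_mod_four_of_char_two [CharP F 2] {q : ℕ} (hq : Fintype.card F = q) :
    q % 2 = 0 := by
  rw [← hq]
  exact FiniteField.even_card_of_char_two (ringChar.eq F 2)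

theorem plus_hyp_stmt {q : ℕ} (hq : Fintype.card F = q)
    (d m : ℕ) (hd : 4 ≤ d) (hm : 2 ≤ m) (hme : Even m) (hmd : m < d)
    (r : ℕ) [Fact r.Prime] (hr : r = 2 ∨ r ≠ p)
    (hrΩ : r ∣ Nat.card {W : Submodule F (Fin d ⊕ Fin d → F) // (Module.finrank F ↥W = m ∧ (∀ u ∈ W, u ≠ 0 → ∃ v ∈ W, QuadraticMap.polar (Cfsg.quadFormPlus d F) u v ≠ 0) ∧
          ∃ U : Submodule F (Fin d ⊕ Fin d → F), U ≤ W ∧ 2 * Module.finrank F ↥U = m ∧ ∀ u ∈ U, Cfsg.quadFormPlus d F u = 0)})
    (i c : ℕ) (hi : i = orderOf (q : ZMod r)) (hc : c = if Even i then i else 2 * i) :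
    (∀ x : GL (Fin d ⊕ Fin d) F, x ∈ Cfsg.Geo.omegaGL (Cfsg.quadFormPlus d F) →
      (∃ z : F, ((x ^ r : GL (Fin d ⊕ Fin d) F) : Matrix (Fin d ⊕ Fin d) (Fin d ⊕ Fin d) F) = z • (1 : Matrix (Fin d ⊕ Fin d) (Fin d ⊕ Fin d) F)) →
      (∀ z : F, (x : Matrix (Fin d ⊕ Fin d) (Fin d ⊕ Fin d) F) ≠ z • (1 : Matrix (Fin d ⊕ Fin d) (Fin d ⊕ Fin d) F)) →
      ∃ W : Submodule F (Fin d ⊕ Fin d → F), (Module.finrank F ↥W = m ∧ (∀ u ∈ W, u ≠ 0 → ∃ v ∈ W, QuadraticMap.polar (Cfsg.quadFormPlus d F) u v ≠ 0) ∧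
          ∃ U : Submodule F (Fin d ⊕ Fin d → F), U ≤ W ∧ 2 * Module.finrank F ↥U = m ∧ ∀ u ∈ U, Cfsg.quadFormPlus d F u = 0) ∧
        W.map (Matrix.toLin' (x : Matrix (Fin d ⊕ Fin d) (Fin d ⊕ Fin d) F)) ≤ W) ↔
    ((r = 2 ∧ ((2 * d) % 4 = 2 ∨ m % 4 = 0 ∨ q % 4 = 1)) ∨
     (r ≠ p ∧ 2 < r ∧ Odd i ∧ c ≤ m ∧ m % c ≤ (2 * d) % c) ∨
     (r ≠ p ∧ 2 < r ∧ Even i ∧
       (((2 * d) % c = 0 ∧ (Odd ((2 * d) / i) ∨ (m % c = 0 ∧ Even (m / i)))) ∨
        (i ≤ m ∧ ((m % c < (2 * d) % c ∧ 0 < m % c) ∨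
                  ((2 * d) % c = m % c ∧ 0 < m % c ∧ Even ((2 * d + m - 2 * ((2 * d) % c)) / i)) ∨
                  (0 < (2 * d) % c ∧ m % c = 0 ∧ Even (m / i))))))) := by
  have hr' : r.Prime := Fact.out
  rw [Cfsg.Agent.Helper2.Orth.quadFormPlus_eq d] at hrΩ ⊢
  have hQ := Cfsg.Agent.Helper2.Orth.nondeg_plus (F := F) d
  have hH : IsHyp (matQ (plusMat d F)) := isHyp_plusMat d
  have hκ : Fintype.card (Fin d ⊕ Fin d) = 2 * d := by
    rw [Fintype.card_sum, Fintype.card_fin]
    ring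
  have hfin : finrank F (Fin d ⊕ Fin d → F) = 2 * d := by
    rw [Module.finrank_fintype_fun_eq_card, hκ]
  have hconv := hyp_conv (matQ (plusMat d F)) m
  have hrΩ' : r ∣ Nat.card (NdSub (matQ (plusMat d F)) m True) := by
    have h3 : Nat.card (NdSub (matQ (plusMat d F)) m True) =
        Nat.card {W : Submodule F (Fin d ⊕ Fin d → F) // (finrank F W = m ∧
          (∀ u ∈ W, u ≠ 0 → ∃ v ∈ W, polar (⇑(matQ (plusMat d F))) u v ≠ 0) ∧
          ∃ U : Submodule F (Fin d ⊕ Fin d → F), U ≤ W ∧ 2 * finrank F U = m ∧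
            ∀ u ∈ U, matQ (plusMat d F) u = 0)} := by
      apply Nat.card_congr
      exact Equiv.subtypeEquivRight (fun W => (hconv W).symm)
    rw [h3]
    exact hrΩ
  refine (lhs_congr _ _ _ hconv r).trans ?_
  by_cases hr2 : r = 2
  · subst hr2
    by_cases hp2 : p = 2
    · subst hp2
      have hq2 := card_mod_four_of_char_two (F := F) hq
      constructor
      · intro hall
        left
        refine ⟨rfl, ?_⟩
        by_contra hcon
        push Not at hcon
        obtain ⟨hc1, hc2, -⟩ := hcon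
        have hde : d % 2 = 0 := by omega
        obtain ⟨x, hxΩ, hxp, hxns, hx⟩ := exists_bad_elt (p := 2) (matQ (plusMat d F)) hQ d hκ
          (by omega) (d / 2) (by omega) (Or.inl ⟨hH, by omega⟩)
        obtain ⟨W, ⟨hWm, hWnd, hWt⟩, hinv⟩ := hall x hxΩ ⟨1, by rw [hxp, one_smul]; rfl⟩ hxns
        have hinv' : ∀ v ∈ W,
            Matrix.toLin' (x : Matrix (Fin d ⊕ Fin d) (Fin d ⊕ Fin d) F) v ∈ W :=
          fun v hv => hinv (Submodule.mem_map_of_mem hv)
        have h4 := hx.four_dvd hQ (by rw [hfin]; omega) W hinv' hWnd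
        rw [hWm] at h4
        obtain ⟨m', hm'⟩ := hme
        omega
      · rintro (⟨-, h⟩ | ⟨h, -⟩ | ⟨h, -⟩)
        · intro x hxmem hxz _
          apply char2_suff _ hQ d m hκ (by omega) hme hm (by omega) True _ x hxmem hxz
          left
          refine ⟨hH, trivial, ?_⟩
          rcases h with h | h | h
          · left
            rw [Nat.odd_iff]
            omega
          · right
            exact Nat.dvd_of_mod_eq_zero h
          · omega
        · exact absurd rfl h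
        · exact absurd rfl h
    · have h2 : (2 : F) ≠ 0 := two_ne_zero_of_ne hp2
      rw [two_even _ h2 hQ d m hκ hd hme hm (by omega) True,
        cplx_plus_iff _ hq h2 hQ d hκ hH]
      have hqodd : q % 2 = 1 := by
        rw [← hq]
        exact card_odd_of_two_ne_zero h2
      have hsq4 : IsSquare (-1 : F) ↔ q % 4 = 1 := by
        rw [FiniteField.isSquare_neg_one_iff, hq]
        omega
      rw [hsq4]
      obtain ⟨m', hm'⟩ := hme
      have hm2 : m / 2 = m' := by omega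
      rw [hm2]
      simp only [Nat.even_iff, Nat.odd_iff, true_iff, imp_true_iff, true_and]
      constructor
      · rintro (h | h)
        · exact Or.inl (Or.inl (by omega))
        · left
          by_cases hq4 : q % 4 = 1
          · exact Or.inr (Or.inr hq4)
          · have := h hq4
            exact Or.inr (Or.inl (by omega))
      · rintro (h | ⟨-, h, -⟩ | ⟨-, h, -⟩)
        · by_cases hq8 : q % 8 = 1
          · right
            intro hq4
            omega
          · rcases h with h | h | h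
            · exact Or.inl ⟨by omega, hq8⟩
            · right
              intro _
              omega
            · right
              intro hq4
              exact absurd h hq4
        · exact absurd h (by omega)
        · exact absurd h (by omega)
  · have hrp : r ≠ p := by
      rcases hr with h | h
      · exact absurd h hr2
      · exact h
    have hr2' : 2 < r := by
      have := hr'.two_le
      omega
    have hi0 : 0 < i := by
      rw [hi]
      exact pos_orderOf hq hr' hrp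
    rw [gen_even hq hr' hr2 hrp _ hQ d m hκ (by omega) hme hm (by omega) True i c hi hc hrΩ']
    have hHT : IsHyp (matQ (plusMat d F)) ↔ True := iff_of_true hH trivial
    simp only [hHT]
    rw [crit74 i c (2 * d) m hc hi0 hm (by omega)]
    constructor
    · rintro (h | h)
      · exact Or.inr (Or.inl ⟨hrp, hr2', h⟩)
      · exact Or.inr (Or.inr ⟨hrp, hr2', h⟩)
    · rintro (⟨h, -⟩ | ⟨-, -, h⟩ | ⟨-, -, h⟩)
      · exact absurd h hr2
      · exact Or.inl h
      · exact Or.inr h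

end stmts

end Cfsg.Agent.Helper13.OrthNe
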