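import Mathlib
import Cfsg.Agent.Lib.Helper13.OrthNe22

set_option autoImplicit false
set_option linter.unusedSectionVars false

/-!
# Elliptic subspaces of elliptic spaces: the statement
-/

namespace Cfsg.Agent.Helper13.OrthNe

open Polynomial Module QuadraticMap Matrix Cfsg.Agent.Helper13.SS Cfsg.Agent.Helper13.Dual
  Cfsg.Agent.Helper13.SympSS Cfsg.Agent.Helper13.SpDec Cfsg.Agent.Helper13.SlDec
  Cfsg.Agent.Helper13.SpTi Cfsg.Agent.Helper13.OrthSS Cfsg.Agent.Helper13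
  Cfsg.Agent.Helper13.OrthTs Cfsg.Agent.Helper13.OrthTy Cfsg.Agent.Helper13.HermSS
  Cfsg.Agent.Helper13.OrthNd Cfsg.Agent.Helper13.OrthNi Cfsg.Agent.Helper17.Spinor
  Cfsg.Agent.Helper13.OrthJp
open scoped Classical

universe u

section stmts
variable {F : Type u} [Field F] [Fintype F] {p : ℕ} [Fact p.Prime] [CharP F p]

theorem minus_ell_stmt {q : ℕ} (hq : Fintype.card F = q)
    (d m : ℕ) (hd : 4 ≤ d) (hm : 2 ≤ m) (hme : Even m) (hmn : m + 2 ≤ 2 * d) (a b : F) (hab : ∀ x y : F, x ^ 2 + a * x * y + b * y ^ 2 = 0 → x = 0 ∧ y = 0)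
    (r : ℕ) [Fact r.Prime] (hr : r = 2 ∨ r ≠ p)
    (hrΩ : r ∣ Nat.card {W : Submodule F ((Fin (d - 1) ⊕ Fin (d - 1)) ⊕ Fin 2 → F) // Module.finrank F ↥W = m ∧ Cfsg.Geo.IsNondegenerateOn (QuadraticMap.polar (Cfsg.quadFormMinus (d - 1) F a b)) W ∧ ¬ Cfsg.Geo.IsPlusTypeOn (Cfsg.quadFormMinus (d - 1) F a b) W})
    (i c : ℕ) (hi : i = orderOf (q : ZMod r)) (hc : c = if Even i then i else 2 * i) :
    (∀ x : GL ((Fin (d - 1) ⊕ Fin (d - 1)) ⊕ Fin 2) F, x ∈ Cfsg.Geo.omegaGL (Cfsg.quadFormMinus (d - 1) F a b) →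
      (∃ z : F, ((x ^ r : GL ((Fin (d - 1) ⊕ Fin (d - 1)) ⊕ Fin 2) F) : Matrix ((Fin (d - 1) ⊕ Fin (d - 1)) ⊕ Fin 2) ((Fin (d - 1) ⊕ Fin (d - 1)) ⊕ Fin 2) F) = z • (1 : Matrix ((Fin (d - 1) ⊕ Fin (d - 1)) ⊕ Fin 2) ((Fin (d - 1) ⊕ Fin (d - 1)) ⊕ Fin 2) F)) →
      (∀ z : F, (x : Matrix ((Fin (d - 1) ⊕ Fin (d - 1)) ⊕ Fin 2) ((Fin (d - 1) ⊕ Fin (d - 1)) ⊕ Fin 2) F) ≠ z • (1 : Matrix ((Fin (d - 1) ⊕ Fin (d - 1)) ⊕ Fin 2) ((Fin (d - 1) ⊕ Fin (d - 1)) ⊕ Fin 2) F)) →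
      ∃ W : Submodule F ((Fin (d - 1) ⊕ Fin (d - 1)) ⊕ Fin 2 → F), (Module.finrank F ↥W = m ∧ Cfsg.Geo.IsNondegenerateOn (QuadraticMap.polar (Cfsg.quadFormMinus (d - 1) F a b)) W ∧ ¬ Cfsg.Geo.IsPlusTypeOn (Cfsg.quadFormMinus (d - 1) F a b) W) ∧ W.map (Matrix.toLin' (x : Matrix ((Fin (d - 1) ⊕ Fin (d - 1)) ⊕ Fin 2) ((Fin (d - 1) ⊕ Fin (d - 1)) ⊕ Fin 2) F)) ≤ W) ↔
    ((r = 2 ∧ p = 2 ∧ (Even d ∨ m % 4 = 2)) ∨
     (r = 2 ∧ p ≠ 2 ∧ (Even d ∨ q % 8 ≠ 7 ∨ m % 4 = 2)) ∨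
     (r ≠ p ∧ 2 < r ∧ Odd i ∧ ((2 * d) % c = 0 ∨ (c ≤ m ∧ 0 < m % c ∧ m % c ≤ (2 * d) % c))) ∨
     (r ≠ p ∧ 2 < r ∧ Even i ∧
       (((2 * d) % c = 0 ∧ (Even ((2 * d) / i) ∨ (m % c = 0 ∧ Odd (m / i)))) ∨
        (0 < (2 * d) % c ∧ i ≤ m ∧ ((0 < m % c ∧ m % c < (2 * d) % c) ∨ (m % c = 0 ∧ Odd (m / i)) ∨
                                    (m % c = (2 * d) % c ∧ Even ((2 * d + m - 2 * ((2 * d) % c)) / i))))))) := by
  have hr' : r.Prime := Fact.out
  rw [Cfsg.Agent.Helper2.Orth.quadFormMinus_eq (d - 1) a b] at hrΩ ⊢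
  have hQ := Cfsg.Agent.Helper2.Orth.nondeg_minus (m := d - 1) a b hab
  have hH : ¬ IsHyp (matQ (minusMat (d - 1) a b)) := not_isHyp_minusMat (d - 1) a b hab
  have hκ : Fintype.card ((Fin (d - 1) ⊕ Fin (d - 1)) ⊕ Fin 2) = 2 * d := by
    rw [Fintype.card_sum, Fintype.card_sum, Fintype.card_fin, Fintype.card_fin]
    omega
  have hfin : finrank F ((Fin (d - 1) ⊕ Fin (d - 1)) ⊕ Fin 2 → F) = 2 * d := by
    rw [Module.finrank_fintype_fun_eq_card, hκ]
  have hconv := ell_conv (matQ (minusMat (d - 1) a b)) m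
  have hrΩ' : r ∣ Nat.card (NdSub (matQ (minusMat (d - 1) a b)) m False) := by
    have h3 : Nat.card (NdSub (matQ (minusMat (d - 1) a b)) m False) =
        Nat.card {W : Submodule F ((Fin (d - 1) ⊕ Fin (d - 1)) ⊕ Fin 2 → F) // finrank F W = m ∧
        Cfsg.Geo.IsNondegenerateOn (polar (⇑(matQ (minusMat (d - 1) a b)))) W ∧
          ¬ Cfsg.Geo.IsPlusTypeOn (⇑(matQ (minusMat (d - 1) a b))) W} := by
      apply Nat.card_congr
      exact Equiv.subtypeEquivRight (fun W => (hconv W).symm)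
    rw [h3]
    exact hrΩ
  refine (lhs_congr _ _ _ hconv r).trans ?_
  by_cases hr2 : r = 2
  · subst hr2
    by_cases hp2 : p = 2
    · subst hp2
      constructor
      · intro hall
        left
        refine ⟨rfl, rfl, ?_⟩
        by_contra hcon
        push Not at hcon
        obtain ⟨hc1, hc2⟩ := hcon
        have hdo : Odd d := Nat.not_even_iff_odd.1 hc1
        obtain ⟨t, ht⟩ := hdo
        obtain ⟨x, hxΩ, hxp, hxns, hx⟩ := exists_bad_elt (p := 2) (matQ (minusMat (d - 1) a b))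
          hQ d hκ (by omega) t (by omega) (Or.inr (by omega))
        obtain ⟨W, ⟨hWm, hWnd, hWt⟩, hinv⟩ := hall x hxΩ ⟨1, by rw [hxp, one_smul]; rfl⟩ hxns
        have hinv' : ∀ v ∈ W, Matrix.toLin' (x : Matrix ((Fin (d - 1) ⊕ Fin (d - 1)) ⊕ Fin 2)
            ((Fin (d - 1) ⊕ Fin (d - 1)) ⊕ Fin 2) F) v ∈ W :=
          fun v hv => hinv (Submodule.mem_map_of_mem hv)
        obtain ⟨m', hm'⟩ := hme
        have h4 : 4 ∣ finrank F W := by
          rw [hWm]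
          exact Nat.dvd_of_mod_eq_zero (by omega)
        exact hWt.1 (hx.isHyp_of_four_dvd hQ d ⟨t, ht⟩ hfin (by omega) W hinv' hWnd h4)
      · rintro (⟨-, -, h⟩ | ⟨-, h, -⟩ | ⟨h, -⟩ | ⟨h, -⟩)
        · intro x hxmem hxz _
          apply char2_suff _ hQ d m hκ (by omega) hme hm (by omega) False _ x hxmem hxz
          right
          exact ⟨hH, fun h' => h', h⟩
        · exact absurd rfl h
        · exact absurd rfl h
        · exact absurd rfl h
    · have h2 : (2 : F) ≠ 0 := two_ne_zero_of_ne hp2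
      rw [two_even _ h2 hQ d m hκ hd hme hm hmn False,
        cplx_minus_iff _ hq h2 hQ d hκ hH]
      have hqodd : q % 2 = 1 := by
        rw [← hq]
        exact card_odd_of_two_ne_zero h2
      have hsq4 : IsSquare (-1 : F) ↔ q % 4 = 1 := by
        rw [FiniteField.isSquare_neg_one_iff, hq]
        omega
      rw [hsq4]
      obtain ⟨m', hm'⟩ := hme
      have hm2 : m / 2 = m' := by omega
      rw [hm2]
      simp only [Nat.even_iff, false_iff, imp_false]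
      constructor
      · rintro (h | ⟨h1, h3⟩)
        · right
          left
          refine ⟨trivial, hp2, ?_⟩
          rcases h with h | h
          · exact Or.inl h
          · exact Or.inr (Or.inl h)
        · have h4 := h3 h1
          exact Or.inr (Or.inl ⟨trivial, hp2, Or.inr (Or.inr (by omega))⟩)
      · rintro (⟨-, h, -⟩ | ⟨-, -, h⟩ | ⟨-, h, -⟩ | ⟨-, h, -⟩)
        · exact absurd h hp2
        · rcases h with h | h | h
          · exact Or.inl (Or.inl h)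
          · exact Or.inl (Or.inr h)
          · by_cases hq8 : q % 8 = 7
            · exact Or.inr ⟨by omega, fun _ => by omega⟩
            · exact Or.inl (Or.inr hq8)
        · exact absurd h (by omega)
        · exact absurd h (by omega)
  · have hrp : r ≠ p := by
      rcases hr with h | h
      · exact absurd h hr2
      · exact h
    have hr2' : 2 < r := by
      have := hr'.two_le
      omega
    have hi0 : 0 < i := by
      rw [hi]
      exact pos_orderOf hq hr' hrp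
    rw [gen_even hq hr' hr2 hrp _ hQ d m hκ (by omega) hme hm hmn False i c hi hc hrΩ']
    have hHF : IsHyp (matQ (minusMat (d - 1) a b)) ↔ False := iff_of_false hH (fun h => h)
    simp only [hHF]
    rw [crit90 i c (2 * d) m hc hi0 hm (by omega)]
    constructor
    · rintro (h | h)
      · exact Or.inr (Or.inr (Or.inl ⟨hrp, hr2', h⟩))
      · exact Or.inr (Or.inr (Or.inr ⟨hrp, hr2', h⟩))
    · rintro (⟨h, -⟩ | ⟨h, -⟩ | ⟨-, -, h⟩ | ⟨-, -, h⟩)
      · exact absurd h hr2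
      · exact absurd h hr2
      · exact Or.inl h
      · exact Or.inr h

end stmts

end Cfsg.Agent.Helper13.OrthNe
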