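import Mathlib
import Cfsg.Agent.Lib.Helper13.OrthNi9

set_option autoImplicit false
set_option linter.unusedSectionVars false

/-!
# Isometry classes of odd-dimensional nondegenerate subspaces: the elliptic statement
-/

namespace Cfsg.Agent.Helper13.OrthNi

open Polynomial Module QuadraticMap Matrix Cfsg.Agent.Helper13.OrthSS Cfsg.Agent.Helper13
  Cfsg.Agent.Helper17.Spinor Cfsg.Agent.Helper13.OrthTs Cfsg.Agent.Helper13.OrthTy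
  Cfsg.Agent.Helper13.OrthNd Cfsg.Agent.Helper13.OrthJp
open scoped Classical

universe u

section stmts
variable {F : Type u} [Field F] [Fintype F] {p : ℕ} [Fact p.Prime] [CharP F p]

theorem minus_iso_stmt {q : ℕ} (hq : Fintype.card F = q)
    (hodd : Odd q) (d m : ℕ) (hd : 4 ≤ d) (hm : Odd m) (hmd : m < d) (a b : F) (hab : ∀ x y : F, x ^ 2 + a * x * y + b * y ^ 2 = 0 → x = 0 ∧ y = 0)
    (W₀ : Submodule F ((Fin (d - 1) ⊕ Fin (d - 1)) ⊕ Fin 2 → F)) (hW₀ : Module.finrank F ↥W₀ = m ∧ Cfsg.Geo.IsNondegenerateOn (QuadraticMap.polar (Cfsg.quadFormMinus (d - 1) F a b)) W₀)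
    (r : ℕ) [Fact r.Prime]
    (hrΩ : r ∣ Nat.card {W : Submodule F ((Fin (d - 1) ⊕ Fin (d - 1)) ⊕ Fin 2 → F) // Module.finrank F ↥W = m ∧ Cfsg.Geo.IsNondegenerateOn (QuadraticMap.polar (Cfsg.quadFormMinus (d - 1) F a b)) W ∧ Cfsg.Geo.AreIsometricFor (Cfsg.quadFormMinus (d - 1) F a b) W W₀})
    (i c : ℕ) (hi : i = orderOf (q : ZMod r)) (hc : c = if Even i then i else 2 * i) :
    (∀ x : GL ((Fin (d - 1) ⊕ Fin (d - 1)) ⊕ Fin 2) F, x ∈ Cfsg.Geo.omegaGL (Cfsg.quadFormMinus (d - 1) F a b) →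
      (∃ z : F, ((x ^ r : GL ((Fin (d - 1) ⊕ Fin (d - 1)) ⊕ Fin 2) F) : Matrix ((Fin (d - 1) ⊕ Fin (d - 1)) ⊕ Fin 2) ((Fin (d - 1) ⊕ Fin (d - 1)) ⊕ Fin 2) F) = z • (1 : Matrix ((Fin (d - 1) ⊕ Fin (d - 1)) ⊕ Fin 2) ((Fin (d - 1) ⊕ Fin (d - 1)) ⊕ Fin 2) F)) →
      (∀ z : F, (x : Matrix ((Fin (d - 1) ⊕ Fin (d - 1)) ⊕ Fin 2) ((Fin (d - 1) ⊕ Fin (d - 1)) ⊕ Fin 2) F) ≠ z • (1 : Matrix ((Fin (d - 1) ⊕ Fin (d - 1)) ⊕ Fin 2) ((Fin (d - 1) ⊕ Fin (d - 1)) ⊕ Fin 2) F)) →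
      ∃ W : Submodule F ((Fin (d - 1) ⊕ Fin (d - 1)) ⊕ Fin 2 → F), (Module.finrank F ↥W = m ∧ Cfsg.Geo.IsNondegenerateOn (QuadraticMap.polar (Cfsg.quadFormMinus (d - 1) F a b)) W ∧ Cfsg.Geo.AreIsometricFor (Cfsg.quadFormMinus (d - 1) F a b) W W₀) ∧ W.map (Matrix.toLin' (x : Matrix ((Fin (d - 1) ⊕ Fin (d - 1)) ⊕ Fin 2) ((Fin (d - 1) ⊕ Fin (d - 1)) ⊕ Fin 2) F)) ≤ W) ↔
    ((r = 2 ∧ (Even d ∨ q % 8 ≠ 7)) ∨
     (r ≠ p ∧ 2 < r ∧ Odd i ∧ ((2 * d) % c = 0 ∨ (c ≤ m ∧ 0 < m % c ∧ m % c < (2 * d) % c))) ∨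
     (r ≠ p ∧ 2 < r ∧ Even i ∧ (((2 * d) % c = 0 ∧ Even ((2 * d) / i)) ∨ (0 < (2 * d) % c ∧ i ≤ m ∧ 0 < m % c ∧ m % c < (2 * d) % c)))) := by
  have hr : r.Prime := Fact.out
  have h2 : (2 : F) ≠ 0 := two_ne_zero_of_odd hq hodd
  have hp2 : p ≠ 2 := p_ne_two_of (F := F) h2
  rw [Cfsg.Agent.Helper2.Orth.quadFormMinus_eq (d - 1) a b] at hrΩ hW₀ ⊢
  have hQ := Cfsg.Agent.Helper2.Orth.nondeg_minus (m := d - 1) a b hab
  have hH : ¬ IsHyp (matQ (minusMat (d - 1) a b)) := not_isHyp_minusMat (d - 1) a b hab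
  have hκ : Fintype.card ((Fin (d - 1) ⊕ Fin (d - 1)) ⊕ Fin 2) = 2 * d := by
    rw [Fintype.card_sum, Fintype.card_sum, Fintype.card_fin, Fintype.card_fin]
    omega
  by_cases hgood : r ≠ p ∨ Odd d
  · have hgood' : r ≠ p ∨ Odd d ∨ IsHyp (matQ (minusMat (d - 1) a b)) := by
      rcases hgood with h | h
      · exact Or.inl h
      · exact Or.inr (Or.inl h)
    rw [gen_iso hq h2 _ hQ d m hκ (by omega) hm hmd W₀ hW₀ r hr hrΩ i c hi hc hgood',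
      cplx_minus_iff _ hq h2 hQ d hκ hH]
    have hcrit := crit_minus r p i c m (2 * d) hm hc
    have e1 : ((Odd i ∨ Even ((2 * d) / i)) ↔
        IsHyp (matQ (minusMat (d - 1) a b))) ↔
        ((Odd i ∨ Even ((2 * d) / i)) ↔ False) := by
      constructor
      · intro h
        exact ⟨fun h' => hH (h.1 h'), fun h' => h'.elim⟩
      · intro h
        exact ⟨fun h' => (h.1 h').elim, fun h' => absurd h' hH⟩
    rw [e1, hcrit]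
  · push Not at hgood
    obtain ⟨hrp, hdo⟩ := hgood
    have hde : Even d := Nat.not_odd_iff_even.1 hdo
    constructor
    · intro hall
      exfalso
      have hQM := nondeg_comp_of_nondegOn _ W₀ hW₀.2
      obtain ⟨x, hxΩ, hxp, hxns, hx⟩ := p_iso_class (p := p) h2 _ hQ d m (by omega) hκ hde hm
        ((matQ (minusMat (d - 1) a b)).comp W₀.subtype) hQM hW₀.1
      obtain ⟨W, hW, hinv⟩ := hall x hxΩ ⟨1, by rw [hrp, hxp, one_smul]; rfl⟩ hxns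
      exact hx W ((stmt_iso_iff _ W₀ W m hW₀).1 hW) hinv
    · rintro (⟨h, -⟩ | ⟨h, -⟩ | ⟨h, -⟩)
      · exact absurd (hrp ▸ h) hp2
      · exact absurd hrp h
      · exact absurd hrp h

end stmts

end Cfsg.Agent.Helper13.OrthNi
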