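import Mathlib
import Cfsg.Agent.Lib.Helper13.OrthSp4

set_option autoImplicit false
set_option linter.unusedSectionVars false

/-!
# Elements of odd prime order of `Sp_{2d}(q)`, `q` even, preserving forms of one type only
-/

namespace Cfsg.Agent.Helper13.OrthSp

open Polynomial Module QuadraticMap Matrix Cfsg.Agent.Helper13 Cfsg.Agent.Helper13.SS
  Cfsg.Agent.Helper13.SympSS Cfsg.Agent.Helper13.OrthSS Cfsg.Agent.Helper13.OrthEl
open scoped Classical

universe u

section bad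
variable {F : Type u} [Field F] [Fintype F] {p q : ℕ} [Fact p.Prime] [CharP F p] {r : ℕ}

theorem card_sum_fin (d : ℕ) : Fintype.card (Fin d ⊕ Fin d) = 2 * d := by
  rw [Fintype.card_sum, Fintype.card_fin]
  ring

theorem cycFactors_nonempty' (hF : Fintype.card F = q) (hr : r.Prime) (hrp : r ≠ p) :
    (cycFactors F r).Nonempty := by
  have hcardΦ := cycFactors_card (F := F) hF hr hrp
  rw [← Finset.card_pos]
  rcases Nat.eq_zero_or_pos (cycFactors F r).card with h | h
  · rw [h, zero_mul] at hcardΦ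
    have := hr.two_le
    omega
  · exact h

/-- if `r` divides `q ^ d + 1` there is an element of order `r` preserving only forms of minus
type -/
theorem exists_bad_plus (hF : Fintype.card F = q) (h2 : (2 : F) = 0) (hr : r.Prime)
    (hr2 : r ≠ 2) (hrp : r ≠ p) (k : ℕ) (hrd : r ∣ q ^ (k + 1) + 1) :
    ∃ x : GL (Fin (k + 1) ⊕ Fin (k + 1)) F, x ∈ Cfsg.spGL (k + 1) F ∧ x ^ r = 1 ∧
      (∀ z : F, (x : Matrix (Fin (k + 1) ⊕ Fin (k + 1)) (Fin (k + 1) ⊕ Fin (k + 1)) F) ≠
        z • (1 : Matrix (Fin (k + 1) ⊕ Fin (k + 1)) (Fin (k + 1) ⊕ Fin (k + 1)) F)) ∧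
      ∀ Q'' : QuadraticForm F (Fin (k + 1) ⊕ Fin (k + 1) → F),
        (∀ u v, polar Q'' u v = Cfsg.sympForm (k + 1) F u v) →
        (∀ v, Q'' ((x : Matrix (Fin (k + 1) ⊕ Fin (k + 1)) (Fin (k + 1) ⊕ Fin (k + 1)) F) *ᵥ v)
          = Q'' v) → ¬ IsHyp Q'' := by
  haveI : Fact r.Prime := ⟨hr⟩
  have hd1 : 1 ≤ k + 1 := by omega
  set i := orderOf (q : ZMod r) with hi
  have hqd : (q : ZMod r) ^ (k + 1) = -1 := by
    have h1 : ((q ^ (k + 1) + 1 : ℕ) : ZMod r) = 0 := (ZMod.natCast_eq_zero_iff _ _).2 hrd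
    push_cast at h1
    exact eq_neg_of_add_eq_zero_left h1
  have hi2d : i ∣ 2 * (k + 1) := by
    apply orderOf_dvd_of_pow_eq_one
    rw [mul_comm, pow_mul, hqd]
    ring
  have hnid : ¬ i ∣ (k + 1) := by
    rintro ⟨m', hm'⟩
    have h1 : (q : ZMod r) ^ (k + 1) = 1 := by
      rw [hm', pow_mul, pow_orderOf_eq_one, one_pow]
    rw [hqd] at h1
    have h3 : ((2 : ℕ) : ZMod r) = 0 := by
      push_cast
      linear_combination -h1
    have h4 := (ZMod.natCast_eq_zero_iff 2 r).1 h3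
    exact hr2 ((Nat.prime_dvd_prime_iff_eq hr Nat.prime_two).1 h4)
  obtain ⟨m, hm⟩ := hi2d
  have hmodd : Odd m := by
    rcases Nat.even_or_odd m with ⟨m', hm'⟩ | h
    · exfalso
      apply hnid
      refine ⟨m', ?_⟩
      apply Nat.eq_of_mul_eq_mul_left (two_pos)
      rw [hm, hm']
      ring
    · exact h
  have hieven : Even i := by
    have h1 : Even (i * m) := ⟨k + 1, by rw [← hm]; ring⟩
    rcases Nat.even_mul.1 h1 with h | h
    · exact h
    · exact absurd h (Nat.not_even_iff_odd.2 hmodd)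
  have hi0 : 0 < i := by
    apply Nat.pos_of_ne_zero
    intro h
    rw [h, zero_mul] at hm
    omega
  obtain ⟨a₀, ha₀⟩ := cycFactors_nonempty' (F := F) hF hr hrp
  have hinv := starΦ_involutive (F := F) hr hr2 hrp
  set σ := starΦ (F := F) hr hr2 hrp with hσ
  set a : ↥(cycFactors F r) := ⟨a₀, ha₀⟩ with ha
  have hσa : σ a = a := Subtype.ext (dualPoly_eq_self_of_even hF hr hi0 hieven a.2)
  set kk : ↥(cycFactors F r) → ℕ := fun c => if c = a then m else 0 with hkk
  have hksum : ∑ c, kk c = m := by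
    rw [hkk, Finset.sum_ite_eq' Finset.univ a]
    simp
  have hk1 : ∀ c, kk (σ c) = kk c := by
    intro c
    have e1 : (σ c = a) ↔ (c = a) := by
      constructor
      · intro h
        rw [← hinv c, h, hσa]
      · intro h
        rw [h, hσa]
    show (if σ c = a then m else 0) = (if c = a then m else 0)
    rw [if_congr e1 rfl rfl]
  obtain ⟨Q', hQ'nd, hpol', htype'⟩ := exists_form_of_type h2 (k + 1) hd1 False
  obtain ⟨x, hxO, hxr, hxns, hxT⟩ := exists_bad_odd hF hr hr2 hrp hi0 Q' hQ'nd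
    (by rw [card_sum_fin]; exact even_two_mul _) (by rw [card_sum_fin]; omega) kk hk1
    (by rw [hksum, card_sum_fin, hm])
    (by
      rw [hksum]
      apply iff_of_false
      · rintro (h | h)
        · exact (Nat.not_odd_iff_even.2 hieven) h
        · exact (Nat.not_even_iff_odd.2 hmodd) h
      · exact htype'.1)
  refine ⟨x, isometryGroup_le_spGL hd1 _ hpol' hxO, hxr, hxns, ?_⟩
  intro Q'' hpol'' hinv'' hH
  exact htype'.1 ((hxT Q'' (nondeg_of_polar_eq Q'' hpol'') hinv'').1 hH)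

/-- if `r` divides `q ^ d - 1` there is an element of order `r` preserving only forms of plus
type -/
theorem exists_bad_minus (hF : Fintype.card F = q) (h2 : (2 : F) = 0) (hr : r.Prime)
    (hr2 : r ≠ 2) (hrp : r ≠ p) (k : ℕ) (hq1 : 1 ≤ q) (hrd : r ∣ q ^ (k + 1) - 1) :
    ∃ x : GL (Fin (k + 1) ⊕ Fin (k + 1)) F, x ∈ Cfsg.spGL (k + 1) F ∧ x ^ r = 1 ∧
      (∀ z : F, (x : Matrix (Fin (k + 1) ⊕ Fin (k + 1)) (Fin (k + 1) ⊕ Fin (k + 1)) F) ≠
        z • (1 : Matrix (Fin (k + 1) ⊕ Fin (k + 1)) (Fin (k + 1) ⊕ Fin (k + 1)) F)) ∧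
      ∀ Q'' : QuadraticForm F (Fin (k + 1) ⊕ Fin (k + 1) → F),
        (∀ u v, polar Q'' u v = Cfsg.sympForm (k + 1) F u v) →
        (∀ v, Q'' ((x : Matrix (Fin (k + 1) ⊕ Fin (k + 1)) (Fin (k + 1) ⊕ Fin (k + 1)) F) *ᵥ v)
          = Q'' v) → IsHyp Q'' := by
  have hd1 : 1 ≤ k + 1 := by omega
  have hid : orderOf (q : ZMod r) ∣ (k + 1) := orderOf_dvd_of_dvd_pow_sub_one hr hq1 hrd
  have hi0 : 0 < orderOf (q : ZMod r) := Nat.pos_of_dvd_of_pos hid (by omega)
  set i := orderOf (q : ZMod r) with hi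
  obtain ⟨a₀, ha₀⟩ := cycFactors_nonempty' (F := F) hF hr hrp
  have hinv := starΦ_involutive (F := F) hr hr2 hrp
  set σ := starΦ (F := F) hr hr2 hrp with hσ
  set a : ↥(cycFactors F r) := ⟨a₀, ha₀⟩ with ha
  set kk : ↥(cycFactors F r) → ℕ :=
    fun c => (if c = a then (k + 1) / i else 0) + (if c = σ a then (k + 1) / i else 0) with hkk
  have hksum : ∑ c, kk c = (k + 1) / i + (k + 1) / i := by
    rw [hkk, Finset.sum_add_distrib, Finset.sum_ite_eq' Finset.univ a,
      Finset.sum_ite_eq' Finset.univ (σ a)]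
    simp
  have hk1 : ∀ c, kk (σ c) = kk c := by
    intro c
    have e1 : (σ c = a) ↔ (c = σ a) := by
      constructor
      · intro h
        rw [← h, hinv c]
      · intro h
        rw [h, hinv a]
    have e2 : (σ c = σ a) ↔ (c = a) := hinv.injective.eq_iff
    show (if σ c = a then (k + 1) / i else 0) + (if σ c = σ a then (k + 1) / i else 0) =
      (if c = a then (k + 1) / i else 0) + (if c = σ a then (k + 1) / i else 0)
    rw [if_congr e1 rfl rfl, if_congr e2 rfl rfl, add_comm]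
  obtain ⟨Q', hQ'nd, hpol', htype'⟩ := exists_form_of_type h2 (k + 1) hd1 True
  obtain ⟨x, hxO, hxr, hxns, hxT⟩ := exists_bad_odd hF hr hr2 hrp hi0 Q' hQ'nd
    (by rw [card_sum_fin]; exact even_two_mul _) (by rw [card_sum_fin]; omega) kk hk1
    (by
      rw [hksum, card_sum_fin, ← two_mul, ← mul_assoc, mul_comm i 2, mul_assoc,
        Nat.mul_div_cancel' hid])
    (by
      rw [hksum]
      exact iff_of_true (Or.inr ⟨_, rfl⟩) (htype'.2 trivial))
  refine ⟨x, isometryGroup_le_spGL hd1 _ hpol' hxO, hxr, hxns, ?_⟩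
  intro Q'' hpol'' hinv''
  exact (hxT Q'' (nondeg_of_polar_eq Q'' hpol'') hinv'').2 (htype'.2 trivial)

end bad

end Cfsg.Agent.Helper13.OrthSp
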