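import Mathlib
import Cfsg.Prelude.Def_Classical
import Cfsg.Agent.Lib.Helper13.IsomTransfer
import Cfsg.Agent.Lib.Helper13.Hyperbolic

/-!
# Sylow 2-subgroups of `O⁺(2m,2)` intersect non-trivially (helper13)

`sylow_inter_of_pgroup`: if a `p`-subgroup `P₀` meets each of its conjugates non-trivially, then so does
every Sylow `p`-subgroup.  For `O⁺(2m,2)` we take `P₀` = the pointwise stabilizer of the totally singular
`(m-1)`-space `A = ⟨e_i : i ≠ L⟩`; it has exponent dividing 8, and `P₀ ∩ yP₀y⁻¹` contains the pointwise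
stabilizer of `A + yA`, which contains a reflection or a Siegel transformation.
-/

set_option autoImplicit false
open scoped Pointwise MatrixGroups
open Matrix

namespace Cfsg.Agent.Helper13.OrthSyl

/-- If a `p`-subgroup `P₀` meets each of its conjugates non-trivially, any two Sylow `p`-subgroups meet
non-trivially. -/
theorem sylow_inter_of_pgroup {G : Type*} [Group G] [Finite G] {p : ℕ} [Fact p.Prime]
    (P₀ : Subgroup G) (hP : IsPGroup p P₀)
    (h : ∀ y : G, ∃ z : G, z ≠ 1 ∧ z ∈ P₀ ∧ y⁻¹ * z * y ∈ P₀)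
    (H : Sylow p G) (x : G) :
    (H : Subgroup G) ⊓ MulAut.conj x • (H : Subgroup G) ≠ ⊥ := by
  obtain ⟨S, hS⟩ := hP.exists_le_sylow
  obtain ⟨g, hg⟩ := MulAction.exists_smul_eq G S H
  have hH : (H : Subgroup G) = MulAut.conj g • (S : Subgroup G) := by
    rw [← hg, Sylow.coe_subgroup_smul]
  obtain ⟨z, hz1, hz, hzy⟩ := h (g⁻¹ * x * g)
  intro hbot
  have hw : g * z * g⁻¹ ∈ (H : Subgroup G) ⊓ MulAut.conj x • (H : Subgroup G) := by
    refine Subgroup.mem_inf.2 ⟨?_, ?_⟩
    · rw [hH, Subgroup.mem_pointwise_smul_iff_inv_smul_mem]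
      simp only [MulAut.smul_def, MulAut.conj_inv_apply]
      have : g⁻¹ * (g * z * g⁻¹) * g = z := by group
      rw [this]
      exact hS hz
    · rw [Subgroup.mem_pointwise_smul_iff_inv_smul_mem]
      simp only [MulAut.smul_def, MulAut.conj_inv_apply]
      rw [hH, Subgroup.mem_pointwise_smul_iff_inv_smul_mem]
      simp only [MulAut.smul_def, MulAut.conj_inv_apply]
      have : g⁻¹ * (x⁻¹ * (g * z * g⁻¹) * x) * g = (g⁻¹ * x * g)⁻¹ * z * (g⁻¹ * x * g) := by group
      rw [this]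
      exact hS hzy
  rw [hbot, Subgroup.mem_bot] at hw
  apply hz1
  have : z = g⁻¹ * (g * z * g⁻¹) * g := by group
  rw [this, hw]
  group

section
variable {F : Type*} [Field F] {m : ℕ}

/-- polar form of `quadFormPlus` -/
def pol (u v : Fin m ⊕ Fin m → F) : F :=
  ∑ i : Fin m, (u (.inl i) * v (.inr i) + u (.inr i) * v (.inl i))

theorem Q_add (u v : Fin m ⊕ Fin m → F) :
    Cfsg.quadFormPlus m F (u + v) =
      Cfsg.quadFormPlus m F u + Cfsg.quadFormPlus m F v + pol u v := by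
  unfold Cfsg.quadFormPlus pol
  rw [← Finset.sum_add_distrib, ← Finset.sum_add_distrib]
  refine Finset.sum_congr rfl fun i _ => ?_
  simp only [Pi.add_apply]
  ring

theorem Q_smul (c : F) (v : Fin m ⊕ Fin m → F) :
    Cfsg.quadFormPlus m F (c • v) = c * c * Cfsg.quadFormPlus m F v := by
  unfold Cfsg.quadFormPlus
  rw [Finset.mul_sum]
  refine Finset.sum_congr rfl fun i _ => ?_
  simp only [Pi.smul_apply, smul_eq_mul]
  ring

theorem pol_add_left (u u' v : Fin m ⊕ Fin m → F) : pol (u + u') v = pol u v + pol u' v := by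
  unfold pol
  rw [← Finset.sum_add_distrib]
  refine Finset.sum_congr rfl fun i _ => ?_
  simp only [Pi.add_apply]
  ring

theorem pol_smul_left (c : F) (u v : Fin m ⊕ Fin m → F) : pol (c • u) v = c * pol u v := by
  unfold pol
  rw [Finset.mul_sum]
  refine Finset.sum_congr rfl fun i _ => ?_
  simp only [Pi.smul_apply, smul_eq_mul]
  ring

theorem pol_comm (u v : Fin m ⊕ Fin m → F) : pol u v = pol v u := by
  unfold pol
  refine Finset.sum_congr rfl fun i _ => ?_
  ring

theorem pol_add_right (u v v' : Fin m ⊕ Fin m → F) : pol u (v + v') = pol u v + pol u v' := by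
  rw [pol_comm, pol_add_left, pol_comm v, pol_comm v']

theorem pol_smul_right (c : F) (u v : Fin m ⊕ Fin m → F) : pol u (c • v) = c * pol u v := by
  rw [pol_comm, pol_smul_left, pol_comm]

theorem pol_sub_left (u u' v : Fin m ⊕ Fin m → F) : pol (u - u') v = pol u v - pol u' v := by
  have := pol_add_left (u - u') u' v
  rw [sub_add_cancel] at this
  rw [this]
  ring

theorem pol_single_inl (u : Fin m ⊕ Fin m → F) (i : Fin m) :
    pol u (Pi.single (Sum.inl i) 1) = u (.inr i) := by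
  classical
  unfold pol
  simp [Pi.single_apply]

theorem pol_single_inr (u : Fin m ⊕ Fin m → F) (i : Fin m) :
    pol u (Pi.single (Sum.inr i) 1) = u (.inl i) := by
  classical
  unfold pol
  simp [Pi.single_apply]

theorem pol_self (v : Fin m ⊕ Fin m → F) : pol v v = 2 * Cfsg.quadFormPlus m F v := by
  unfold pol Cfsg.quadFormPlus
  rw [Finset.mul_sum]
  refine Finset.sum_congr rfl fun i _ => ?_
  ring

/-- linear functional `x ↦ pol x v` -/
def polL (v : Fin m ⊕ Fin m → F) : (Fin m ⊕ Fin m → F) →ₗ[F] F where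
  toFun x := pol x v
  map_add' x x' := pol_add_left x x' v
  map_smul' c x := by simp [pol_smul_left]

@[simp] theorem polL_apply (v x : Fin m ⊕ Fin m → F) : polL v x = pol x v := rfl

theorem exists_pol_ne_zero {v : Fin m ⊕ Fin m → F} (hv : v ≠ 0) : ∃ x, pol x v ≠ 0 := by
  classical
  have : ∃ j, v j ≠ 0 := by
    by_contra hcon
    push Not at hcon
    exact hv (funext hcon)
  obtain ⟨j, hj⟩ := this
  rcases j with i | i
  · exact ⟨Pi.single (Sum.inr i) 1, by rw [pol_comm, pol_single_inr]; exact hj⟩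
  · exact ⟨Pi.single (Sum.inl i) 1, by rw [pol_comm, pol_single_inl]; exact hj⟩

/-- isometry predicate on matrices -/
def IsIso (M : Matrix (Fin m ⊕ Fin m) (Fin m ⊕ Fin m) F) : Prop :=
  ∀ u, Cfsg.quadFormPlus m F (M *ᵥ u) = Cfsg.quadFormPlus m F u

theorem pol_iso {M : Matrix (Fin m ⊕ Fin m) (Fin m ⊕ Fin m) F} (hM : IsIso M)
    (u v : Fin m ⊕ Fin m → F) : pol (M *ᵥ u) (M *ᵥ v) = pol u v := by
  have h := hM (u + v)
  rw [Matrix.mulVec_add, Q_add, Q_add, hM u, hM v] at h
  exact add_left_cancel h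

variable (L : Fin m)

/-- the matrix fixes `e_i` for `i ≠ L` -/
def fixA (M : Matrix (Fin m ⊕ Fin m) (Fin m ⊕ Fin m) F) : Prop :=
  ∀ i : Fin m, i ≠ L → M *ᵥ Pi.single (Sum.inl i) 1 = Pi.single (Sum.inl i) 1

/-- membership in `A^⊥` -/
def inAp (x : Fin m ⊕ Fin m → F) : Prop := ∀ i, i ≠ L → x (.inr i) = 0

/-- membership in `A` -/
def inA (x : Fin m ⊕ Fin m → F) : Prop := (∀ i, x (.inr i) = 0) ∧ x (.inl L) = 0

variable {L}

theorem inAp.add {x y : Fin m ⊕ Fin m → F} (hx : inAp L x) (hy : inAp L y) : inAp L (x + y) := by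
  intro i hi
  rw [Pi.add_apply, hx i hi, hy i hi, add_zero]

theorem inAp.sub {x y : Fin m ⊕ Fin m → F} (hx : inAp L x) (hy : inAp L y) : inAp L (x - y) := by
  intro i hi
  rw [Pi.sub_apply, hx i hi, hy i hi, sub_zero]

theorem fix_of_inA {M : Matrix (Fin m ⊕ Fin m) (Fin m ⊕ Fin m) F} (hM : fixA L M)
    {x : Fin m ⊕ Fin m → F} (hx : inA L x) : M *ᵥ x = x := by
  classical
  have hx' : x = ∑ i : Fin m, x (.inl i) • (Pi.single (Sum.inl i) 1 : Fin m ⊕ Fin m → F) := by
    ext j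
    rcases j with j | j
    · simp [Finset.sum_apply, Pi.single_apply]
    · simp [Finset.sum_apply, hx.1 j]
  have key : M *ᵥ (∑ i : Fin m, x (.inl i) • (Pi.single (Sum.inl i) 1 : Fin m ⊕ Fin m → F)) =
      ∑ i : Fin m, x (.inl i) • (Pi.single (Sum.inl i) 1 : Fin m ⊕ Fin m → F) := by
    rw [Matrix.mulVec_sum]
    refine Finset.sum_congr rfl fun i _ => ?_
    rw [Matrix.mulVec_smul]
    by_cases hi : i = L
    · rw [hi, hx.2, zero_smul, zero_smul]
    · rw [hM i hi]
  rw [← hx'] at key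
  exact key

theorem sub_inAp {M : Matrix (Fin m ⊕ Fin m) (Fin m ⊕ Fin m) F} (hI : IsIso M) (hM : fixA L M)
    (x : Fin m ⊕ Fin m → F) : inAp L (M *ᵥ x - x) := by
  intro i hi
  have h := pol_iso hI x (Pi.single (Sum.inl i) 1)
  rw [hM i hi, pol_single_inl, pol_single_inl] at h
  rw [Pi.sub_apply, h, sub_self]

theorem mulVec_inAp {M : Matrix (Fin m ⊕ Fin m) (Fin m ⊕ Fin m) F} (hI : IsIso M) (hM : fixA L M)
    {x : Fin m ⊕ Fin m → F} (hx : inAp L x) : inAp L (M *ᵥ x) := by
  have := (sub_inAp hI hM x).add hx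
  rwa [sub_add_cancel] at this

theorem Q_of_inAp {x : Fin m ⊕ Fin m → F} (hx : inAp L x) :
    Cfsg.quadFormPlus m F x = x (.inl L) * x (.inr L) := by
  unfold Cfsg.quadFormPlus
  rw [Finset.sum_eq_single L]
  · intro i _ hi
    rw [hx i hi, mul_zero]
  · intro h
    exact absurd (Finset.mem_univ L) h

theorem decomp_inA {x : Fin m ⊕ Fin m → F} (hx : inAp L x) :
    inA L (x - x (.inl L) • (Pi.single (Sum.inl L) 1 : Fin m ⊕ Fin m → F)
      - x (.inr L) • (Pi.single (Sum.inr L) 1 : Fin m ⊕ Fin m → F)) := by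
  classical
  constructor
  · intro i
    by_cases hi : i = L
    · subst hi
      simp [Pi.single_apply]
    · simp [Pi.single_apply, hx i hi, hi]
  · simp [Pi.single_apply]

theorem mulVec_coord {M : Matrix (Fin m ⊕ Fin m) (Fin m ⊕ Fin m) F} (hM : fixA L M)
    {z : Fin m ⊕ Fin m → F} (hz : inAp L z) (j : Fin m ⊕ Fin m) (hj : j = .inl L ∨ j = .inr L) :
    (M *ᵥ z) j = z (.inl L) * (M *ᵥ Pi.single (Sum.inl L) 1) j
      + z (.inr L) * (M *ᵥ Pi.single (Sum.inr L) 1) j := by
  have ha := decomp_inA hz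
  have hMa := fix_of_inA hM ha
  have hz' : z = (z - z (.inl L) • (Pi.single (Sum.inl L) 1 : Fin m ⊕ Fin m → F)
      - z (.inr L) • (Pi.single (Sum.inr L) 1 : Fin m ⊕ Fin m → F))
      + z (.inl L) • (Pi.single (Sum.inl L) 1 : Fin m ⊕ Fin m → F)
      + z (.inr L) • (Pi.single (Sum.inr L) 1 : Fin m ⊕ Fin m → F) := by
    abel
  have haj : (z - z (.inl L) • (Pi.single (Sum.inl L) 1 : Fin m ⊕ Fin m → F)
      - z (.inr L) • (Pi.single (Sum.inr L) 1 : Fin m ⊕ Fin m → F)) j = 0 := by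
    rcases hj with rfl | rfl
    · exact ha.2
    · exact ha.1 L
  conv_lhs => rw [hz', Matrix.mulVec_add, Matrix.mulVec_add, Matrix.mulVec_smul, Matrix.mulVec_smul,
    hMa]
  simp only [Pi.add_apply, Pi.smul_apply, smul_eq_mul, haj, zero_add]

theorem f2_identities (h01 : ∀ a : F, a = 0 ∨ a = 1) (p q r s : F) (c1 : p * q = 0) (c2 : r * s = 0)
    (c3 : (p + r) * (q + s) = 1) :
    p * p + q * r = 1 ∧ r * p + s * r = 0 ∧ p * q + q * s = 0 ∧ r * q + s * s = 1 := by
  have h2 : (2 : F) = 0 := by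
    rcases h01 2 with h | h
    · exact h
    · exfalso
      have : (1 : F) = 0 := by
        have h' : (1 : F) + 1 = 1 := by rw [one_add_one_eq_two]; exact h
        exact add_eq_right.1 h'
      exact one_ne_zero this
  rcases h01 p with rfl | rfl <;> rcases h01 q with rfl | rfl <;> rcases h01 r with rfl | rfl <;>
    rcases h01 s with rfl | rfl <;> simp_all

theorem sq_sub_inA (h01 : ∀ a : F, a = 0 ∨ a = 1)
    {M : Matrix (Fin m ⊕ Fin m) (Fin m ⊕ Fin m) F} (hI : IsIso M) (hM : fixA L M)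
    {x : Fin m ⊕ Fin m → F} (hx : inAp L x) : inA L (M *ᵥ (M *ᵥ x) - x) := by
  classical
  have he : inAp L (Pi.single (Sum.inl L) 1 : Fin m ⊕ Fin m → F) := by
    intro i _
    simp
  have hf : inAp L (Pi.single (Sum.inr L) 1 : Fin m ⊕ Fin m → F) := by
    intro i hi
    simp [Pi.single_apply, hi]
  have hMe := mulVec_inAp hI hM he
  have hMf := mulVec_inAp hI hM hf
  have hMx := mulVec_inAp hI hM hx
  have hMMx := mulVec_inAp hI hM hMx
  set p := (M *ᵥ (Pi.single (Sum.inl L) 1 : Fin m ⊕ Fin m → F)) (.inl L) with hp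
  set q := (M *ᵥ (Pi.single (Sum.inl L) 1 : Fin m ⊕ Fin m → F)) (.inr L) with hq
  set r := (M *ᵥ (Pi.single (Sum.inr L) 1 : Fin m ⊕ Fin m → F)) (.inl L) with hr
  set s := (M *ᵥ (Pi.single (Sum.inr L) 1 : Fin m ⊕ Fin m → F)) (.inr L) with hs
  have v1 : (Pi.single (Sum.inl L) (1 : F) : Fin m ⊕ Fin m → F) (Sum.inr L) = 0 := by simp
  have v2 : (Pi.single (Sum.inr L) (1 : F) : Fin m ⊕ Fin m → F) (Sum.inl L) = 0 := by simp
  have v3 : (Pi.single (Sum.inl L) (1 : F) : Fin m ⊕ Fin m → F) (Sum.inl L) = 1 := by simp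
  have v4 : (Pi.single (Sum.inr L) (1 : F) : Fin m ⊕ Fin m → F) (Sum.inr L) = 1 := by simp
  have c1 : p * q = 0 := by
    have h1 := hI (Pi.single (Sum.inl L) 1)
    rw [Q_of_inAp hMe, Q_of_inAp he, v1, mul_zero] at h1
    exact h1
  have c2 : r * s = 0 := by
    have h1 := hI (Pi.single (Sum.inr L) 1)
    rw [Q_of_inAp hMf, Q_of_inAp hf, v2, zero_mul] at h1
    exact h1
  have c3 : (p + r) * (q + s) = 1 := by
    have h1 := hI ((Pi.single (Sum.inl L) 1 : Fin m ⊕ Fin m → F) + Pi.single (Sum.inr L) 1)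
    rw [Matrix.mulVec_add, Q_of_inAp (hMe.add hMf), Q_of_inAp (he.add hf), Pi.add_apply, Pi.add_apply,
      Pi.add_apply, Pi.add_apply, v1, v2, v3, v4, add_zero, zero_add, mul_one] at h1
    exact h1
  obtain ⟨i1, i2, i3, i4⟩ := f2_identities h01 p q r s c1 c2 c3
  have a1 := mulVec_coord hM hx (.inl L) (Or.inl rfl)
  have a2 := mulVec_coord hM hx (.inr L) (Or.inr rfl)
  have b1 := mulVec_coord hM hMx (.inl L) (Or.inl rfl)
  have b2 := mulVec_coord hM hMx (.inr L) (Or.inr rfl)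
  rw [← hp, ← hr] at a1 b1
  rw [← hq, ← hs] at a2 b2
  have e1 : (M *ᵥ (M *ᵥ x)) (.inl L) = x (.inl L) := by
    rw [b1, a1, a2]
    calc (x (.inl L) * p + x (.inr L) * r) * p + (x (.inl L) * q + x (.inr L) * s) * r
        = x (.inl L) * (p * p + q * r) + x (.inr L) * (r * p + s * r) := by ring
      _ = x (.inl L) := by rw [i1, i2]; ring
  have e2 : (M *ᵥ (M *ᵥ x)) (.inr L) = x (.inr L) := by
    rw [b2, a1, a2]
    calc (x (.inl L) * p + x (.inr L) * r) * q + (x (.inl L) * q + x (.inr L) * s) * s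
        = x (.inl L) * (p * q + q * s) + x (.inr L) * (r * q + s * s) := by ring
      _ = x (.inr L) := by rw [i3, i4]; ring
  constructor
  · intro i
    by_cases hi : i = L
    · rw [hi, Pi.sub_apply, e2, sub_self]
    · exact (hMMx.sub hx) i hi
  · rw [Pi.sub_apply, e1, sub_self]

theorem pow_eight [Fintype F] (hF : Fintype.card F = 2)
    {M : Matrix (Fin m ⊕ Fin m) (Fin m ⊕ Fin m) F} (hI : IsIso M) (hM : fixA L M) : M ^ 8 = 1 := by
  classical
  have h01 : ∀ a : F, a = 0 ∨ a = 1 := by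
    intro a
    by_contra hcon
    push Not at hcon
    have h3 : ({0, 1, a} : Finset F).card = 3 := by
      rw [Finset.card_insert_of_notMem, Finset.card_insert_of_notMem, Finset.card_singleton]
      · simp only [Finset.mem_singleton]
        exact fun h => hcon.2 h.symm
      · simp only [Finset.mem_insert, Finset.mem_singleton]
        rintro (h | h)
        · exact zero_ne_one h
        · exact hcon.1 h.symm
    have := Finset.card_le_univ ({0, 1, a} : Finset F)
    omega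
  haveI : Fact (Nat.Prime 2) := ⟨Nat.prime_two⟩
  haveI : CharP F 2 := charP_of_card_eq_prime hF
  haveI : Nonempty (Fin m ⊕ Fin m) := ⟨.inl L⟩
  set N := M * M - 1 with hN
  have hNx : ∀ x, N *ᵥ x = M *ᵥ (M *ᵥ x) - x := by
    intro x
    rw [hN, Matrix.sub_mulVec, Matrix.one_mulVec, Matrix.mulVec_mulVec]
  have h3 : ∀ x, (N * N * N) *ᵥ x = 0 := by
    intro x
    rw [← Matrix.mulVec_mulVec, ← Matrix.mulVec_mulVec]
    have y1 : inAp L (N *ᵥ x) := by
      rw [hNx]
      have := (sub_inAp hI hM (M *ᵥ x)).add (sub_inAp hI hM x)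
      rwa [sub_add_sub_cancel] at this
    have y2 : inA L (N *ᵥ (N *ᵥ x)) := by
      rw [hNx (N *ᵥ x)]
      exact sq_sub_inA h01 hI hM y1
    rw [hNx (N *ᵥ (N *ᵥ x)), fix_of_inA hM y2, fix_of_inA hM y2, sub_self]
  have hN3 : N * N * N = 0 := by
    ext i j
    have := congrFun (h3 (Pi.single j 1)) i
    simpa using this
  have h4 := sub_pow_char_pow_of_commute (p := 2) (n := 2) (x := M * M) (y := 1)
    (Commute.one_right _)
  rw [one_pow, ← hN] at h4
  have hN4 : N ^ 2 ^ 2 = 0 := by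
    have : N ^ 2 ^ 2 = N * N * N * N := by
      norm_num [pow_succ]
    rw [this, hN3, zero_mul]
  rw [hN4] at h4
  have : (M * M) ^ 2 ^ 2 = 1 := (sub_eq_zero.1 h4.symm)
  calc M ^ 8 = (M * M) ^ 2 ^ 2 := by
        rw [← pow_two, ← pow_mul]
        norm_num
    _ = 1 := this

end

end Cfsg.Agent.Helper13.OrthSyl
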