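import Mathlib
import Cfsg.Agent.Lib.Helper13.OrthSyl

/-!
# Sylow 2-subgroups of `O⁺(2m,2)` intersect non-trivially, part 2 (helper13)
-/

set_option autoImplicit false
open scoped Pointwise MatrixGroups
open Matrix Module

namespace Cfsg.Agent.Helper13.OrthSyl

section
variable {F : Type*} [Field F] {m : ℕ}

/-- the full orthogonal group of `quadFormPlus` -/
abbrev OG (m : ℕ) (F : Type*) [Field F] : Subgroup (GL (Fin m ⊕ Fin m) F) :=
  Cfsg.isometryGroup F (Cfsg.quadFormPlus m F)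

theorem isIso_of_mem (g : OG m F) : IsIso ((g : GL (Fin m ⊕ Fin m) F) : Matrix (Fin m ⊕ Fin m) (Fin m ⊕ Fin m) F) :=
  (mem_isometryGroup_iff _ g.1).1 g.2

theorem coe_mul' (a b : OG m F) :
    (((a * b : OG m F) : GL (Fin m ⊕ Fin m) F) : Matrix (Fin m ⊕ Fin m) (Fin m ⊕ Fin m) F) =
      ((a : GL (Fin m ⊕ Fin m) F) : Matrix (Fin m ⊕ Fin m) (Fin m ⊕ Fin m) F) * ((b : GL (Fin m ⊕ Fin m) F) : Matrix (Fin m ⊕ Fin m) (Fin m ⊕ Fin m) F) := by
  rw [Subgroup.coe_mul, Units.val_mul]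

theorem coe_one' :
    (((1 : OG m F) : GL (Fin m ⊕ Fin m) F) : Matrix (Fin m ⊕ Fin m) (Fin m ⊕ Fin m) F) = 1 := by
  rw [Subgroup.coe_one, Units.val_one]

theorem coe_inv_mul (a : OG m F) :
    (((a⁻¹ : OG m F) : GL (Fin m ⊕ Fin m) F) : Matrix (Fin m ⊕ Fin m) (Fin m ⊕ Fin m) F) *
      ((a : GL (Fin m ⊕ Fin m) F) : Matrix (Fin m ⊕ Fin m) (Fin m ⊕ Fin m) F) = 1 := by
  rw [← coe_mul', inv_mul_cancel, coe_one']

/-- pointwise stabilizer of `A = ⟨e_i : i ≠ L⟩` -/
def P0 (L : Fin m) : Subgroup (OG m F) where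
  carrier := {g | fixA L ((g : GL (Fin m ⊕ Fin m) F) : Matrix (Fin m ⊕ Fin m) (Fin m ⊕ Fin m) F)}
  mul_mem' := by
    intro a b ha hb i hi
    rw [coe_mul', ← Matrix.mulVec_mulVec, hb i hi, ha i hi]
  one_mem' := by
    intro i hi
    rw [coe_one', Matrix.one_mulVec]
  inv_mem' := by
    intro a ha i hi
    have h1 := ha i hi
    calc ((a⁻¹ : OG m F) : GL (Fin m ⊕ Fin m) F).1 *ᵥ (Pi.single (Sum.inl i) 1)
        = ((a⁻¹ : OG m F) : GL (Fin m ⊕ Fin m) F).1 *ᵥ
            ((a : GL (Fin m ⊕ Fin m) F).1 *ᵥ (Pi.single (Sum.inl i) 1)) := by rw [h1]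
      _ = Pi.single (Sum.inl i) 1 := by
        rw [Matrix.mulVec_mulVec]
        have := coe_inv_mul a
        rw [this, Matrix.one_mulVec]

theorem mem_P0 (L : Fin m) (g : OG m F) :
    g ∈ P0 L ↔ fixA L ((g : GL (Fin m ⊕ Fin m) F) : Matrix (Fin m ⊕ Fin m) (Fin m ⊕ Fin m) F) := Iff.rfl

theorem isPGroup_P0 [Fintype F] (hF : Fintype.card F = 2) (L : Fin m) :
    IsPGroup 2 (P0 (F := F) L) := by
  intro g
  refine ⟨3, ?_⟩
  apply Subtype.ext
  apply Subtype.ext
  apply Units.ext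
  have h := pow_eight hF (isIso_of_mem g.1) ((mem_P0 L g.1).1 g.2)
  simpa using h

/-- invertible matrix of an involutive linear map -/
noncomputable def glOfInvol (T : (Fin m ⊕ Fin m → F) →ₗ[F] (Fin m ⊕ Fin m → F))
    (h : ∀ x, T (T x) = x) : GL (Fin m ⊕ Fin m) F :=
  ⟨LinearMap.toMatrix' T, LinearMap.toMatrix' T,
    by rw [← LinearMap.toMatrix'_comp, (LinearMap.ext h : T ∘ₗ T = LinearMap.id),
      LinearMap.toMatrix'_id],
    by rw [← LinearMap.toMatrix'_comp, (LinearMap.ext h : T ∘ₗ T = LinearMap.id),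
      LinearMap.toMatrix'_id]⟩

theorem glOfInvol_mulVec (T : (Fin m ⊕ Fin m → F) →ₗ[F] (Fin m ⊕ Fin m → F))
    (h : ∀ x, T (T x) = x) (x : Fin m ⊕ Fin m → F) :
    ((glOfInvol T h : GL (Fin m ⊕ Fin m) F) : Matrix (Fin m ⊕ Fin m) (Fin m ⊕ Fin m) F) *ᵥ x = T x :=
  LinearMap.toMatrix'_mulVec T x

theorem exists_elt (L : Fin m) (y : OG m F)
    (T : (Fin m ⊕ Fin m → F) →ₗ[F] (Fin m ⊕ Fin m → F)) (hinv : ∀ x, T (T x) = x)
    (hiso : ∀ x, Cfsg.quadFormPlus m F (T x) = Cfsg.quadFormPlus m F x)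
    (hfix1 : ∀ i, i ≠ L → T (Pi.single (Sum.inl i) 1) = Pi.single (Sum.inl i) 1)
    (hfix2 : ∀ i, i ≠ L → T (((y : GL (Fin m ⊕ Fin m) F) : Matrix (Fin m ⊕ Fin m) (Fin m ⊕ Fin m) F) *ᵥ Pi.single (Sum.inl i) 1)
      = ((y : GL (Fin m ⊕ Fin m) F) : Matrix (Fin m ⊕ Fin m) (Fin m ⊕ Fin m) F) *ᵥ Pi.single (Sum.inl i) 1)
    (hne : ∃ x, T x ≠ x) :
    ∃ z : OG m F, z ≠ 1 ∧ z ∈ P0 L ∧ y⁻¹ * z * y ∈ P0 L := by
  have hmem : glOfInvol T hinv ∈ OG m F :=
    (mem_isometryGroup_iff _ _).2 (fun u => by rw [glOfInvol_mulVec]; exact hiso u)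
  refine ⟨⟨glOfInvol T hinv, hmem⟩, ?_, ?_, ?_⟩
  · intro h1
    obtain ⟨x, hx⟩ := hne
    apply hx
    rw [← glOfInvol_mulVec T hinv x]
    have : (glOfInvol T hinv : GL (Fin m ⊕ Fin m) F) = 1 := congrArg Subtype.val h1
    rw [this, Units.val_one, Matrix.one_mulVec]
  · intro i hi
    show ((glOfInvol T hinv : GL (Fin m ⊕ Fin m) F) : Matrix (Fin m ⊕ Fin m) (Fin m ⊕ Fin m) F) *ᵥ _ = _
    rw [glOfInvol_mulVec]
    exact hfix1 i hi
  · intro i hi
    rw [coe_mul', coe_mul', ← Matrix.mulVec_mulVec, ← Matrix.mulVec_mulVec]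
    show ((y⁻¹ : OG m F) : GL (Fin m ⊕ Fin m) F).1 *ᵥ
      (((glOfInvol T hinv : GL (Fin m ⊕ Fin m) F) : Matrix (Fin m ⊕ Fin m) (Fin m ⊕ Fin m) F) *ᵥ
        ((y : GL (Fin m ⊕ Fin m) F).1 *ᵥ Pi.single (Sum.inl i) 1)) = _
    rw [glOfInvol_mulVec, hfix2 i hi, Matrix.mulVec_mulVec]
    have := coe_inv_mul y
    rw [this, Matrix.one_mulVec]

/-- reflection in `v` -/
def reflL (v : Fin m ⊕ Fin m → F) : (Fin m ⊕ Fin m → F) →ₗ[F] (Fin m ⊕ Fin m → F) :=
  LinearMap.id + (polL v).smulRight v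

theorem reflL_apply (v x : Fin m ⊕ Fin m → F) : reflL v x = x + pol x v • v := rfl

/-- Siegel transformation -/
def siegL (a b : Fin m ⊕ Fin m → F) : (Fin m ⊕ Fin m → F) →ₗ[F] (Fin m ⊕ Fin m → F) :=
  LinearMap.id + (polL b).smulRight a + (polL a).smulRight b

theorem siegL_apply (a b x : Fin m ⊕ Fin m → F) :
    siegL a b x = x + pol x b • a + pol x a • b := rfl

theorem add_self_F (h2 : (2 : F) = 0) (c : F) : c + c = 0 := by
  rw [← two_mul, h2, zero_mul]

theorem refl_iso (h2 : (2 : F) = 0) {v : Fin m ⊕ Fin m → F} (hv : Cfsg.quadFormPlus m F v = 1)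
    (x : Fin m ⊕ Fin m → F) :
    Cfsg.quadFormPlus m F (reflL v x) = Cfsg.quadFormPlus m F x := by
  rw [reflL_apply, Q_add, Q_smul, hv, pol_smul_right, mul_one, add_assoc, add_self_F h2, add_zero]

theorem refl_invol (h2 : (2 : F) = 0) (v x : Fin m ⊕ Fin m → F) : reflL v (reflL v x) = x := by
  rw [reflL_apply, reflL_apply, pol_add_left, pol_smul_left, pol_self, h2, zero_mul, mul_zero,
    add_zero, add_assoc, ← add_smul, add_self_F h2, zero_smul, add_zero]

theorem sieg_iso (h2 : (2 : F) = 0) {a b : Fin m ⊕ Fin m → F}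
    (ha : Cfsg.quadFormPlus m F a = 0) (hb : Cfsg.quadFormPlus m F b = 0) (hab : pol a b = 0)
    (x : Fin m ⊕ Fin m → F) :
    Cfsg.quadFormPlus m F (siegL a b x) = Cfsg.quadFormPlus m F x := by
  rw [siegL_apply, add_assoc, Q_add, Q_add, Q_smul, Q_smul, ha, hb, pol_smul_left, pol_smul_right,
    hab, pol_add_right, pol_smul_right, pol_smul_right]
  have : pol x b * pol x a + pol x a * pol x b = 0 := by
    rw [mul_comm (pol x a), add_self_F h2]
  rw [this]
  ring

theorem sieg_invol (h2 : (2 : F) = 0) {a b : Fin m ⊕ Fin m → F}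
    (hab : pol a b = 0) (x : Fin m ⊕ Fin m → F) : siegL a b (siegL a b x) = x := by
  have haa : pol a a = 0 := by rw [pol_self, h2, zero_mul]
  have hbb : pol b b = 0 := by rw [pol_self, h2, zero_mul]
  have hba : pol b a = 0 := by rw [pol_comm, hab]
  have e1 : pol (siegL a b x) b = pol x b := by
    rw [siegL_apply, pol_add_left, pol_add_left, pol_smul_left, pol_smul_left, hab, hbb]
    ring
  have e2 : pol (siegL a b x) a = pol x a := by
    rw [siegL_apply, pol_add_left, pol_add_left, pol_smul_left, pol_smul_left, haa, hba]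
    ring
  rw [siegL_apply (x := siegL a b x), e1, e2, siegL_apply]
  have : x + pol x b • a + pol x a • b + pol x b • a + pol x a • b
      = x + (pol x b + pol x b) • a + (pol x a + pol x a) • b := by
    rw [add_smul, add_smul]
    abel
  rw [this, add_self_F h2, add_self_F h2, zero_smul, zero_smul, add_zero, add_zero]

/-- the linear map whose kernel is `(A + yA)^⊥` -/
def Phi (L : Fin m) (M : Matrix (Fin m ⊕ Fin m) (Fin m ⊕ Fin m) F) :
    (Fin m ⊕ Fin m → F) →ₗ[F] (({i : Fin m // i ≠ L} → F) × ({i : Fin m // i ≠ L} → F)) :=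
  LinearMap.prod (LinearMap.pi fun i => polL (Pi.single (Sum.inl i.1) 1))
    (LinearMap.pi fun i => polL (M *ᵥ Pi.single (Sum.inl i.1) 1))

theorem mem_ker_Phi (L : Fin m) (M : Matrix (Fin m ⊕ Fin m) (Fin m ⊕ Fin m) F)
    (v : Fin m ⊕ Fin m → F) :
    v ∈ LinearMap.ker (Phi L M) ↔ ∀ i, i ≠ L → pol v (Pi.single (Sum.inl i) 1) = 0 ∧
      pol v (M *ᵥ Pi.single (Sum.inl i) 1) = 0 := by
  rw [LinearMap.mem_ker, Phi, LinearMap.prod_apply, Prod.mk_eq_zero]
  constructor
  · rintro ⟨h1, h2⟩ i hi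
    exact ⟨congrFun h1 ⟨i, hi⟩, congrFun h2 ⟨i, hi⟩⟩
  · intro h
    constructor
    · funext i
      exact (h i.1 i.2).1
    · funext i
      exact (h i.1 i.2).2

theorem finrank_ker_Phi (L : Fin m) (M : Matrix (Fin m ⊕ Fin m) (Fin m ⊕ Fin m) F) :
    2 ≤ finrank F (LinearMap.ker (Phi L M)) := by
  classical
  have h1 := LinearMap.finrank_range_add_finrank_ker (Phi L M)
  have h2 : finrank F (LinearMap.range (Phi L M)) ≤
      finrank F (({i : Fin m // i ≠ L} → F) × ({i : Fin m // i ≠ L} → F)) :=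
    Submodule.finrank_le _
  have hc : Fintype.card {i : Fin m // i ≠ L} = m - 1 := by
    rw [Fintype.card_subtype_compl, Fintype.card_fin, Fintype.card_subtype_eq]
  have hm : 1 ≤ m := by
    have := L.2
    omega
  rw [Module.finrank_prod, Module.finrank_fintype_fun_eq_card, hc] at h2
  rw [Module.finrank_fintype_fun_eq_card, Fintype.card_sum, Fintype.card_fin] at h1
  omega

end

theorem main {F : Type*} [Field F] [Fintype F] (hF : Fintype.card F = 2) {m : ℕ} (hm : 1 ≤ m)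
    (H : Sylow 2 (Cfsg.isometryGroup F (Cfsg.quadFormPlus m F)))
    (x : Cfsg.isometryGroup F (Cfsg.quadFormPlus m F)) :
    (H : Subgroup (Cfsg.isometryGroup F (Cfsg.quadFormPlus m F))) ⊓
      MulAut.conj x • (H : Subgroup _) ≠ ⊥ := by
  classical
  have h01 : ∀ a : F, a = 0 ∨ a = 1 := by
    intro a
    by_contra hcon
    push Not at hcon
    have h3 : ({0, 1, a} : Finset F).card = 3 := by
      rw [Finset.card_insert_of_notMem, Finset.card_insert_of_notMem, Finset.card_singleton]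
      · simp only [Finset.mem_singleton]
        exact fun h => hcon.2 h.symm
      · simp only [Finset.mem_insert, Finset.mem_singleton]
        rintro (h | h)
        · exact zero_ne_one h
        · exact hcon.1 h.symm
    have := Finset.card_le_univ ({0, 1, a} : Finset F)
    omega
  have h2 : (2 : F) = 0 := by
    rcases h01 2 with h | h
    · exact h
    · exfalso
      have : (1 : F) = 0 := by
        have h' : (1 : F) + 1 = 1 := by rw [one_add_one_eq_two]; exact h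
        exact add_eq_right.1 h'
      exact one_ne_zero this
  haveI : Fact (Nat.Prime 2) := ⟨Nat.prime_two⟩
  set L : Fin m := ⟨0, hm⟩ with hL
  apply sylow_inter_of_pgroup (P0 L) (isPGroup_P0 hF L)
  intro y
  set M : Matrix (Fin m ⊕ Fin m) (Fin m ⊕ Fin m) F := ((y : GL (Fin m ⊕ Fin m) F) : Matrix (Fin m ⊕ Fin m) (Fin m ⊕ Fin m) F)
    with hM
  have hK2 := finrank_ker_Phi L M
  obtain ⟨a, haK, ha0⟩ := exists_ne_zero_of_finrank_pos (W := LinearMap.ker (Phi L M)) (by omega)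
  obtain ⟨b, hbK, hb⟩ := exists_mem_not_mem_span (LinearMap.ker (Phi L M)) a hK2
  by_cases hq : ∃ v ∈ LinearMap.ker (Phi L M), Cfsg.quadFormPlus m F v ≠ 0
  · obtain ⟨v, hvK, hQv⟩ := hq
    have hQ1 : Cfsg.quadFormPlus m F v = 1 := (h01 _).resolve_left hQv
    have hv0 : v ≠ 0 := by
      rintro rfl
      apply hQv
      simp [Cfsg.quadFormPlus]
    obtain ⟨x₀, hx₀⟩ := exists_pol_ne_zero hv0
    rw [mem_ker_Phi] at hvK
    refine exists_elt L y (reflL v) (refl_invol h2 v) (refl_iso h2 hQ1) ?_ ?_ ⟨x₀, ?_⟩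
    · intro i hi
      rw [reflL_apply, pol_comm, (hvK i hi).1, zero_smul, add_zero]
    · intro i hi
      rw [reflL_apply, pol_comm, (hvK i hi).2, zero_smul, add_zero]
    · rw [reflL_apply]
      intro h
      have : pol x₀ v • v = 0 := by
        have := congrArg (fun w => w - x₀) h
        simpa using this
      rcases smul_eq_zero.1 this with h' | h'
      · exact hx₀ h'
      · exact hv0 h'
  · push Not at hq
    have hQa := hq a haK
    have hQb := hq b hbK
    have hQab := hq (a + b) (add_mem haK hbK)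
    have hab : pol a b = 0 := by
      rw [Q_add, hQa, hQb, zero_add, zero_add] at hQab
      exact hQab
    obtain ⟨x₀, hx₀⟩ := exists_pol_ne_zero ha0
    rw [mem_ker_Phi] at haK hbK
    refine exists_elt L y (siegL a b) (sieg_invol h2 hab) (sieg_iso h2 hQa hQb hab) ?_ ?_ ⟨x₀, ?_⟩
    · intro i hi
      rw [siegL_apply, pol_comm _ b, pol_comm _ a, (haK i hi).1, (hbK i hi).1, zero_smul, zero_smul,
        add_zero, add_zero]
    · intro i hi
      rw [siegL_apply, pol_comm _ b, pol_comm _ a, (haK i hi).2, (hbK i hi).2, zero_smul, zero_smul,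
        add_zero, add_zero]
    · rw [siegL_apply]
      intro h
      have h' : pol x₀ b • a + pol x₀ a • b = 0 := by
        have := congrArg (fun w => w - x₀) h
        simpa [add_assoc] using this
      apply hb
      rw [Submodule.mem_span_singleton]
      refine ⟨-((pol x₀ a)⁻¹ * pol x₀ b), ?_⟩
      have h'' : pol x₀ a • b = -(pol x₀ b • a) := eq_neg_of_add_eq_zero_right h'
      calc (-((pol x₀ a)⁻¹ * pol x₀ b)) • a = (pol x₀ a)⁻¹ • (-(pol x₀ b • a)) := by
            rw [neg_smul, smul_neg, mul_smul]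
        _ = (pol x₀ a)⁻¹ • (pol x₀ a • b) := by rw [h'']
        _ = b := by rw [smul_smul, inv_mul_cancel₀ hx₀, one_smul]

end Cfsg.Agent.Helper13.OrthSyl
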