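import Mathlib
import Cfsg.Agent.Lib.Helper13.OrthTs3
import Cfsg.Agent.Lib.Helper13.OrthType5

set_option autoImplicit false
set_option linter.style.haveILetI false
set_option linter.unusedSectionVars false

/-!
# Counting totally singular subspaces of even-dimensional quadratic spaces, by type
-/

namespace Cfsg.Agent.Helper13.OrthTy

open Module QuadraticMap Cfsg.Agent.Helper13.OrthSS Cfsg.Agent.Helper13
  Cfsg.Agent.Helper13.OrthTs

/-- the number of nonzero singular vectors of a space of dimension `2k`, by type -/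
noncomputable def NS (q : ℕ) (hyp : Prop) (k : ℕ) : ℕ :=
  open Classical in
  if hyp then (q ^ k - 1) * (q ^ (k - 1) + 1) else (q ^ k + 1) * (q ^ (k - 1) - 1)

theorem NS_congr (q : ℕ) {P P' : Prop} (h : P ↔ P') (k : ℕ) : NS q P k = NS q P' k := by
  unfold NS
  by_cases hP : P
  · rw [if_pos hP, if_pos (h.1 hP)]
  · rw [if_neg hP, if_neg (fun h' => hP (h.2 h'))]

section sing
variable {F : Type*} [Field F] [Fintype F] {V : Type*} [AddCommGroup V] [Module F V]
  [FiniteDimensional F V]

theorem card_sing_transfer {V' : Type*} [AddCommGroup V'] [Module F V'] (Q : QuadraticForm F V)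
    (Q' : QuadraticForm F V') (e : V ≃ₗ[F] V') (he : ∀ x, Q' (e x) = Q x) :
    Nat.card {v : V // Q v = 0} = Nat.card {w : V' // Q' w = 0} := by
  apply Nat.card_congr
  apply Equiv.subtypeEquiv e.toEquiv
  intro v
  show Q v = 0 ↔ Q' (e v) = 0
  rw [he]

/-- the number of singular vectors of a nondegenerate space of even dimension -/
theorem card_sing_typed (Q : QuadraticForm F V) (hQ : (polarBilin Q).Nondegenerate) (k : ℕ)
    (hk : finrank F V = 2 * (k + 1)) :
    Nat.card {v : V // Q v = 0} = NS (Fintype.card F) (IsHyp Q) (k + 1) + 1 := by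
  classical
  have hq1 : 1 ≤ Fintype.card F := Fintype.card_pos
  set q := Fintype.card F with hq
  have hqk : 1 ≤ q ^ k := Nat.one_le_pow _ _ hq1
  have hqk1 : 1 ≤ q ^ (k + 1) := Nat.one_le_pow _ _ hq1
  unfold NS
  by_cases hh : IsHyp Q
  · rw [if_pos hh]
    have hcard : finrank F V = finrank F (Fin (k + 1) ⊕ Fin (k + 1) → F) := by
      rw [Module.finrank_fintype_fun_eq_card, Fintype.card_sum, Fintype.card_fin, hk]
      ring
    obtain ⟨e, he⟩ := equiv_of_type Q (matQ (plusMat (k + 1) F)) hQ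
      (Cfsg.Agent.Helper2.Orth.nondeg_plus (k + 1)) hcard (by rw [hk]; exact ⟨k + 1, by ring⟩)
      (iff_of_true hh (isHyp_plusMat (k + 1)))
    rw [card_sing_transfer Q _ e he]
    have h1 := Cfsg.Agent.Helper2.Orth.Nsing_plus (F := F) (k + 1)
    unfold Cfsg.Agent.Helper2.Orth.Nsing at h1
    rw [Cfsg.Agent.Helper2.Orth.quadFormPlus_eq] at h1
    set N := Nat.card {w : Fin (k + 1) ⊕ Fin (k + 1) → F // matQ (plusMat (k + 1) F) w = 0}
      with hN
    have h2 : N * q = ((q ^ (k + 1) - 1) * (q ^ (k + 1 - 1) + 1) + 1) * q := by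
      rw [Nat.add_sub_cancel]
      zify [hqk1]
      zify at h1
      have e1 : (q : ℤ) ^ (2 * (k + 1)) = (q : ℤ) ^ (k + 1) * (q : ℤ) ^ (k + 1) := by
        rw [← pow_add]
        congr 1
        ring
      have e2 : (q : ℤ) ^ (k + 1 + 1) = (q : ℤ) ^ (k + 1) * q := pow_succ _ _
      have e3 : (q : ℤ) ^ (k + 1) = (q : ℤ) ^ k * q := pow_succ _ _
      rw [e1, e2] at h1
      linear_combination h1 + (1 - (q : ℤ) ^ (k + 1)) * e3
    exact Nat.eq_of_mul_eq_mul_right (by omega) h2
  · rw [if_neg hh]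
    obtain ⟨ζ, hζ⟩ := exists_rootless (F := F)
    have hab := aniso_of_rootless ζ hζ
    have hcard : finrank F V = finrank F ((Fin k ⊕ Fin k) ⊕ Fin 2 → F) := by
      rw [Module.finrank_fintype_fun_eq_card, Fintype.card_sum, Fintype.card_sum,
        Fintype.card_fin, Fintype.card_fin, hk]
      ring
    obtain ⟨e, he⟩ := equiv_of_type Q (matQ (minusMat k 1 ζ)) hQ
      (Cfsg.Agent.Helper2.Orth.nondeg_minus k 1 ζ hab) hcard
      (by rw [hk]; exact ⟨k + 1, by ring⟩)
      (iff_of_false hh (not_isHyp_minusMat k 1 ζ hab))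
    rw [card_sing_transfer Q _ e he]
    have h1 := Cfsg.Agent.Helper2.Orth.Nsing_minus (F := F) 1 ζ hab k
    unfold Cfsg.Agent.Helper2.Orth.Nsing at h1
    rw [Cfsg.Agent.Helper2.Orth.quadFormMinus_eq] at h1
    set N := Nat.card {w : (Fin k ⊕ Fin k) ⊕ Fin 2 → F // matQ (minusMat k 1 ζ) w = 0} with hN
    rw [Nat.add_sub_cancel]
    zify [hqk]
    zify at h1
    have e1 : (q : ℤ) ^ (2 * k + 1) = (q : ℤ) ^ (k + 1) * (q : ℤ) ^ k := by
      rw [← pow_add]
      congr 1
      ring
    rw [e1] at h1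
    linear_combination h1

end sing

section orth
variable {F V : Type*} [Field F] [Fintype F] [AddCommGroup V] [Module F V] [Finite V]

/-- the orthogonal complement of a totally singular subspace: a nondegenerate complement and
the number of singular vectors -/
theorem card_sing_orth_gen (Q : QuadraticForm F V)
    (hQ : (polarBilin Q).Nondegenerate) (n : ℕ) (hn : finrank F V = n)
    (S : Submodule F V) (s : ℕ) (hSs : finrank F S = s) (hS0 : ∀ u ∈ S, Q u = 0) :
    ∃ T : Submodule F V, finrank F T + 2 * s = n ∧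
      (polarBilin (Q.comp T.subtype)).Nondegenerate ∧ S ⊓ T = ⊥ ∧
      (∀ u ∈ S, ∀ t ∈ T, polar Q u t = 0) ∧
      Nat.card {v : V // v ∈ LinearMap.BilinForm.orthogonal (polarBilin Q) S ∧ Q v = 0} =
        Fintype.card F ^ s * Nat.card {t : T // (Q.comp T.subtype) t = 0} := by
  classical
  haveI : Fintype V := Fintype.ofFinite V
  set B := polarBilin Q with hB
  have hBa : ∀ u v, B u v = polar Q u v := fun u v => rfl
  have hsymm : B.IsSymm := ⟨fun x y => polar_comm Q x y⟩
  have hrefl : B.IsRefl := hsymm.isRefl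
  set O := LinearMap.BilinForm.orthogonal B S with hO
  have hSS : ∀ u ∈ S, ∀ v ∈ S, polar Q u v = 0 := by
    intro u hu v hv
    unfold polar
    rw [hS0 _ (S.add_mem hu hv), hS0 u hu, hS0 v hv]
    simp
  have hSO : S ≤ O := by
    intro v hv
    rw [hO, LinearMap.BilinForm.mem_orthogonal_iff]
    intro w hw
    exact hSS w hw v hv
  obtain ⟨T₀, hT₀⟩ := Submodule.exists_isCompl S
  set T := T₀ ⊓ O with hT
  have hdisj : S ⊓ T = ⊥ := by
    rw [eq_bot_iff, ← hT₀.inf_eq_bot, hT, ← inf_assoc]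
    exact inf_le_left
  have hsup : S ⊔ T = O := by
    rw [hT, ← sup_inf_assoc_of_le T₀ hSO, hT₀.sup_eq_top, top_inf_eq]
  have hOfin : finrank F O = n - s := by
    rw [hO, LinearMap.BilinForm.finrank_orthogonal hQ, hn, hSs]
  have hsn : s ≤ n := by
    rw [← hSs, ← hn]
    exact Submodule.finrank_le S
  have hTfin : finrank F T + 2 * s = n := by
    have h1 := Submodule.finrank_sup_add_finrank_inf_eq S T
    rw [hdisj, finrank_bot, add_zero, hsup, hOfin, hSs] at h1
    have h2 := Submodule.finrank_mono hSO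
    rw [hOfin, hSs] at h2
    omega
  have hTO : T ≤ O := hT ▸ inf_le_right
  have hST : ∀ u ∈ S, ∀ t ∈ T, polar Q u t = 0 := by
    intro u hu t ht
    have := hTO ht
    rw [hO, LinearMap.BilinForm.mem_orthogonal_iff] at this
    exact this u hu
  set QT : QuadraticForm F T := Q.comp T.subtype with hQT
  have hQTa : ∀ t : T, QT t = Q (t : V) := fun t => rfl
  have hQTp : ∀ t t' : T, polar QT t t' = polar Q (t : V) (t' : V) := by
    intro t t'
    unfold polar
    rw [hQTa, hQTa, hQTa]
    rfl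
  have hQTnd : (polarBilin QT).Nondegenerate := by
    have hleft : (polarBilin QT).SeparatingLeft := by
      intro t ht
      have h1 : (t : V) ∈ LinearMap.BilinForm.orthogonal B O := by
        rw [LinearMap.BilinForm.mem_orthogonal_iff]
        intro o ho
        rw [← hsup] at ho
        obtain ⟨u, hu, t', ht', rfl⟩ := Submodule.mem_sup.1 ho
        show B (u + t') t = 0
        rw [map_add, LinearMap.add_apply, hBa, hBa, hST u hu t t.2, zero_add, polar_comm]
        have := ht ⟨t', ht'⟩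
        rw [polarBilin_apply_apply, hQTp] at this
        exact this
      rw [hO, LinearMap.BilinForm.orthogonal_orthogonal hQ hrefl] at h1
      have h2' : (t : V) ∈ S ⊓ T := ⟨h1, t.2⟩
      rw [hdisj, Submodule.mem_bot] at h2'
      exact Subtype.ext h2'
    have hsymT : (polarBilin QT).IsSymm := ⟨fun x y => polar_comm QT x y⟩
    exact ⟨hleft, (hsymT.isRefl.nondegenerate_iff_separatingLeft.2 hleft).2⟩
  refine ⟨T, hTfin, hQTnd, hdisj, hST, ?_⟩
  let f : S × {t : T // QT t = 0} → {v : V // v ∈ O ∧ Q v = 0} := fun z =>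
    ⟨(z.1 : V) + (z.2.1 : V), by
      rw [← hsup]
      exact Submodule.add_mem_sup z.1.2 z.2.1.2, by
      have h1 := hST z.1.1 z.1.2 z.2.1.1 z.2.1.2
      unfold polar at h1
      have h3 : Q (z.2.1 : V) = 0 := z.2.2
      rw [hS0 _ z.1.2, h3] at h1
      simpa using h1⟩
  have hfinj : Function.Injective f := by
    rintro ⟨u, t⟩ ⟨u', t'⟩ h
    have h1 : (u : V) + (t.1 : V) = (u' : V) + (t'.1 : V) := congrArg Subtype.val h
    have h3 : (u : V) - u' = (t'.1 : V) - t.1 := by
      have : (u : V) - u' - ((t'.1 : V) - t.1) = 0 := by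
        calc (u : V) - u' - ((t'.1 : V) - t.1) = ((u : V) + t.1) - (u' + t'.1) := by abel
          _ = 0 := by rw [h1, sub_self]
      exact sub_eq_zero.1 this
    have h4 : (u : V) - u' ∈ S ⊓ T :=
      ⟨S.sub_mem u.2 u'.2, h3 ▸ T.sub_mem t'.1.2 t.1.2⟩
    rw [hdisj, Submodule.mem_bot] at h4
    have h5 : (t'.1 : V) - t.1 = 0 := by rw [← h3, h4]
    have hu : u = u' := Subtype.ext (sub_eq_zero.1 h4)
    have ht : t = t' := Subtype.ext (Subtype.ext (sub_eq_zero.1 h5).symm)
    rw [hu, ht]
  have hfsurj : Function.Surjective f := by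
    rintro ⟨v, hvO, hv0⟩
    rw [← hsup] at hvO
    obtain ⟨u, hu, t, ht, rfl⟩ := Submodule.mem_sup.1 hvO
    have h1 := hST u hu t ht
    unfold polar at h1
    rw [hv0, hS0 u hu] at h1
    have ht0 : Q t = 0 := by
      have : -Q t = 0 := by simpa using h1
      exact neg_eq_zero.1 this
    exact ⟨(⟨u, hu⟩, ⟨⟨t, ht⟩, ht0⟩), rfl⟩
  rw [← Nat.card_congr (Equiv.ofBijective f ⟨hfinj, hfsurj⟩), Nat.card_prod,
    Nat.card_eq_fintype_card, Module.card_eq_pow_finrank (K := F) (V := S), hSs]

/-- the complement has the type of the whole space -/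
theorem isHyp_compl (Q : QuadraticForm F V) (hQ : (polarBilin Q).Nondegenerate)
    (S T : Submodule F V) (hS0 : ∀ u ∈ S, Q u = 0)
    (hST : ∀ u ∈ S, ∀ t ∈ T, polar Q u t = 0) (hdisj : S ⊓ T = ⊥)
    (hdim : 2 * finrank F S + finrank F T = finrank F V) :
    IsHyp (Q.comp T.subtype) ↔ IsHyp Q := by
  haveI : FiniteDimensional F V := Module.Finite.of_finite
  constructor
  · rintro ⟨L, hL, hLd⟩
    refine ⟨S ⊔ L.map T.subtype, ?_, ?_⟩
    · intro x hx
      obtain ⟨u, hu, t, ht, rfl⟩ := Submodule.mem_sup.1 hx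
      obtain ⟨t', ht', rfl⟩ := ht
      have h1 : polar Q u (T.subtype t') = 0 := hST u hu _ t'.2
      have h2 : Q (T.subtype t') = 0 := hL t' ht'
      rw [QuadraticMap.map_add Q, hS0 u hu, h1, h2]
      simp
    · have h1 := Submodule.finrank_sup_add_finrank_inf_eq S (L.map T.subtype)
      have h2 : S ⊓ L.map T.subtype = ⊥ := by
        rw [eq_bot_iff, ← hdisj]
        apply inf_le_inf le_rfl
        rintro _ ⟨t', -, rfl⟩
        exact t'.2
      rw [h2, finrank_bot, add_zero, Submodule.finrank_map_subtype_eq] at h1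
      omega
  · rintro ⟨L, hL, hLd⟩
    obtain ⟨L', hL'T, hL'ts, hL'fin⟩ := max_ts Q hQ S T L hS0 hST hdisj hdim hL (by omega)
    refine ⟨L'.comap T.subtype, ?_, ?_⟩
    · intro x hx
      exact hL'ts _ hx
    · rw [LinearEquiv.finrank_eq (Submodule.comapSubtypeEquivOfLe hL'T)]
      omega

theorem card_extQ_even (Q : QuadraticForm F V)
    (hQ : (polarBilin Q).Nondegenerate) (d : ℕ) (hn : finrank F V = 2 * d)
    {j : ℕ} (hjd : j + 1 ≤ d) (s : Fin j → V)
    (hli : LinearIndependent F s) (hs0 : ∀ a, Q (s a) = 0)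
    (hs : ∀ a b, polar Q (s a) (s b) = 0) :
    Nat.card (ExtQ Q s) = Fintype.card F ^ j * NS (Fintype.card F) (IsHyp Q) (d - j) := by
  classical
  haveI : Fintype V := Fintype.ofFinite V
  haveI : FiniteDimensional F V := Module.Finite.of_finite
  set S := Submodule.span F (Set.range s) with hS
  have hSm : finrank F S = j := by rw [hS, finrank_span_eq_card hli, Fintype.card_fin]
  have hS0 : ∀ u ∈ S, Q u = 0 := apply_span_eq_zero Q s hs0 hs
  have hSS := polar_span_eq_zero Q s hs
  set O := LinearMap.BilinForm.orthogonal (polarBilin Q) S with hO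
  have hmemO : ∀ v, v ∈ O ↔ ∀ a, polar Q (s a) v = 0 := by
    intro v
    rw [hO, LinearMap.BilinForm.mem_orthogonal_iff]
    constructor
    · intro h a
      exact h (s a) (Submodule.subset_span ⟨a, rfl⟩)
    · intro h w hw
      show polar Q w v = 0
      refine Submodule.span_induction (p := fun w _ => polar Q w v = 0) ?_ ?_ ?_ ?_ hw
      · rintro _ ⟨a, rfl⟩
        exact h a
      · exact polar_zero_left _ _
      · intro x y _ _ hx hy
        rw [polar_add_left, hx, hy, add_zero]
      · intro c x _ hx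
        rw [polar_smul_left, hx, smul_zero]
  have hSO : S ≤ O := by
    intro v hv
    rw [hmemO]
    intro a
    exact hSS _ (Submodule.subset_span ⟨a, rfl⟩) v hv
  obtain ⟨T, hTfin, hTnd, hdisj, hST, hcount⟩ := card_sing_orth_gen Q hQ (2 * d) hn S j hSm hS0
  have htype := isHyp_compl Q hQ S T hS0 hST hdisj (by rw [hSm, hn]; omega)
  have hTfin' : finrank F T = 2 * ((d - j - 1) + 1) := by omega
  have hTsing := card_sing_typed (Q.comp T.subtype) hTnd (d - j - 1) hTfin'
  rw [NS_congr _ htype, show d - j - 1 + 1 = d - j by omega] at hTsing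
  rw [hTsing] at hcount
  have e : ExtQ Q s ≃ {w : {v : V // v ∈ O ∧ Q v = 0} // ¬ ((w : V) ∈ S)} :=
    { toFun := fun v => ⟨⟨v.1, (hmemO v.1).2 v.2.1.2, v.2.1.1⟩, v.2.2⟩
      invFun := fun w => ⟨w.1.1, ⟨w.1.2.2, (hmemO w.1.1).1 w.1.2.1⟩, w.2⟩
      left_inv := fun v => rfl
      right_inv := fun w => rfl }
  rw [Nat.card_congr e, Nat.card_eq_fintype_card, Fintype.card_subtype_compl,
    ← Nat.card_eq_fintype_card, hcount]
  have h3 : Fintype.card {w : {v : V // v ∈ O ∧ Q v = 0} // (w : V) ∈ S} =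
      Fintype.card F ^ j := by
    have e2 : {w : {v : V // v ∈ O ∧ Q v = 0} // (w : V) ∈ S} ≃ S :=
      { toFun := fun w => ⟨w.1.1, w.2⟩
        invFun := fun v => ⟨⟨v.1, hSO v.2, hS0 v.1 v.2⟩, v.2⟩
        left_inv := fun w => rfl
        right_inv := fun v => rfl }
    rw [Fintype.card_congr e2, Module.card_eq_pow_finrank (K := F) (V := S), hSm]
  rw [h3, Nat.mul_add, mul_one, Nat.add_sub_cancel]

/-- the number of totally singular independent tuples, given the numbers of extensions -/
theorem card_tsTuple_gen (Q : QuadraticForm F V) (f : ℕ → ℕ) (m : ℕ)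
    (hf : ∀ j, j < m → ∀ s : TsTuple Q j, Nat.card (ExtQ Q s.1) = f j) :
    Nat.card (TsTuple Q m) = ∏ j : Fin m, f j.val := by
  induction m with
  | zero =>
    rw [Finset.univ_eq_empty, Finset.prod_empty]
    haveI : Unique (TsTuple Q 0) :=
      { default := ⟨Fin.elim0, linearIndependent_empty_type, fun a => a.elim0,
          fun a => a.elim0⟩
        uniq := fun s => Subtype.ext (funext fun a => a.elim0) }
    exact Nat.card_unique
  | succ m ih =>
    haveI := finite_tsTuple Q m
    haveI : Fintype (TsTuple Q m) := Fintype.ofFinite _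
    haveI : ∀ s : TsTuple Q m, Finite (ExtQ Q s.1) := fun s => by
      unfold ExtQ
      infer_instance
    rw [Nat.card_congr (succEquivQ Q m), Nat.card_sigma]
    have h1 : ∀ s : TsTuple Q m, Nat.card (ExtQ Q s.1) = f m := fun s => hf m (by omega) s
    simp only [h1]
    rw [Finset.sum_const, Finset.card_univ, smul_eq_mul, ← Nat.card_eq_fintype_card,
      ih (fun j hj s => hf j (by omega) s), Fin.prod_univ_castSucc]
    rfl

theorem card_ts_mul_gen (Q : QuadraticForm F V) (f : ℕ → ℕ) (m : ℕ)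
    (hf : ∀ j, j < m → ∀ s : TsTuple Q j, Nat.card (ExtQ Q s.1) = f j) :
    Nat.card (TsSub Q m) * ∏ j : Fin m, (Fintype.card F ^ m - Fintype.card F ^ j.val) =
    ∏ j : Fin m, f j.val := by
  classical
  haveI : Finite (Submodule F V) := Finite.of_injective (fun W => (W : Set V)) SetLike.coe_injective
  haveI : Fintype (TsSub Q m) := Fintype.ofFinite _
  haveI := finite_tsTuple Q m
  rw [← card_tsTuple_gen Q f m hf]
  let g : TsTuple Q m → TsSub Q m :=
    fun s => ⟨Submodule.span F (Set.range s.1), by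
      rw [finrank_span_eq_card s.2.1, Fintype.card_fin],
      apply_span_eq_zero Q s.1 s.2.2.1 s.2.2.2⟩
  rw [Nat.card_congr (Equiv.sigmaFiberEquiv g).symm, Nat.card_sigma]
  have : ∀ W : TsSub Q m, Nat.card {s : TsTuple Q m // g s = W} =
        ∏ j : Fin m, (Fintype.card F ^ m - Fintype.card F ^ j.val) := by
    intro W
    have hWp : ∀ u ∈ W.1, ∀ v ∈ W.1, polar Q u v = 0 := by
      intro u hu v hv
      unfold polar
      rw [W.2.2 _ (W.1.add_mem hu hv), W.2.2 u hu, W.2.2 v hv]
      simp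
    have e : {s : TsTuple Q m // g s = W} ≃
        {s : {s : Fin m → V // LinearIndependent F s} //
          Submodule.span F (Set.range s.1) = W.1} :=
      { toFun := fun s => ⟨⟨s.1.1, s.1.2.1⟩, congrArg Subtype.val s.2⟩
        invFun := fun s => ⟨⟨s.1.1, s.1.2,
            fun a => W.2.2 _ ((le_of_eq s.2) (Submodule.subset_span ⟨a, rfl⟩)),
            fun a b => hWp _
              ((le_of_eq s.2) (Submodule.subset_span ⟨a, rfl⟩)) _
              ((le_of_eq s.2) (Submodule.subset_span ⟨b, rfl⟩))⟩,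
          Subtype.ext s.2⟩
        left_inv := fun s => rfl
        right_inv := fun s => rfl }
    rw [Nat.card_congr (e.trans (Cfsg.Agent.Helper13.SubCnt.fiberEquiv m W.1 W.2.1))]
    have h3 := card_linearIndependent (K := F) (V := W.1) (k := m) (by rw [W.2.1])
    rw [W.2.1] at h3
    exact h3
  simp only [this]
  rw [Finset.sum_const, Finset.card_univ, smul_eq_mul, Nat.card_eq_fintype_card]

/-- the number of totally singular subspaces of an even-dimensional space -/
theorem card_ts_mul_even (Q : QuadraticForm F V)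
    (hQ : (polarBilin Q).Nondegenerate) (d : ℕ) (hn : finrank F V = 2 * d) (m : ℕ)
    (hm : m ≤ d) :
    Nat.card (TsSub Q m) * ∏ j : Fin m, (Fintype.card F ^ (m - j.val) - 1) =
    ∏ j : Fin m, NS (Fintype.card F) (IsHyp Q) (d - j.val) := by
  have h := card_ts_mul_gen Q
    (fun j => Fintype.card F ^ j * NS (Fintype.card F) (IsHyp Q) (d - j)) m
    (fun j hj s => card_extQ_even Q hQ d hn (by omega) s.1 s.2.1 s.2.2.1 s.2.2.2)
  rw [Cfsg.Agent.Helper13.SubCnt.prod_pow_sub_pow _ m m le_rfl, Finset.prod_mul_distrib] at h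
  have hpos : 0 < ∏ j : Fin m, Fintype.card F ^ j.val :=
    Finset.prod_pos fun j _ => pow_pos Fintype.card_pos _
  have h' : (∏ j : Fin m, Fintype.card F ^ j.val) *
      (Nat.card (TsSub Q m) * ∏ j : Fin m, (Fintype.card F ^ (m - j.val) - 1)) =
      (∏ j : Fin m, Fintype.card F ^ j.val) *
        ∏ j : Fin m, NS (Fintype.card F) (IsHyp Q) (d - j.val) := by
    rw [← h]; ring
  exact Nat.eq_of_mul_eq_mul_left hpos h'

theorem exists_dvd_of_dvd_card_ts_even (r : ℕ) (hr : r.Prime)
    (Q : QuadraticForm F V) (hQ : (polarBilin Q).Nondegenerate) (d : ℕ)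
    (hn : finrank F V = 2 * d) (m : ℕ) (hm : m ≤ d)
    (h : r ∣ Nat.card (TsSub Q m)) :
    ∃ j, j < m ∧ r ∣ NS (Fintype.card F) (IsHyp Q) (d - j) := by
  have h1 := card_ts_mul_even Q hQ d hn m hm
  have h3 : r ∣ ∏ j : Fin m, NS (Fintype.card F) (IsHyp Q) (d - j.val) := by
    rw [← h1]; exact Dvd.dvd.mul_right h _
  rw [hr.prime.dvd_finsetProd_iff] at h3
  obtain ⟨j, -, hj⟩ := h3
  exact ⟨j.val, j.2, hj⟩

end orth

end Cfsg.Agent.Helper13.OrthTy
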