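import Mathlib
import Cfsg.Agent.Lib.Helper13.OrthTy5
import Cfsg.Agent.Lib.Helper13.OrthType3

set_option autoImplicit false
set_option linter.unusedSectionVars false

/-!
# Arithmetic consequences of a prime dividing the number of totally singular subspaces
-/

namespace Cfsg.Agent.Helper13.OrthTy

open Cfsg.Agent.Helper13.OrthSS
open scoped Classical

section arith
variable {r q : ℕ}

theorem dvd_of_dvd_pow_add_one (hr : r.Prime) (hr2 : r ≠ 2) {E : ℕ}
    (h : r ∣ q ^ E + 1) : orderOf (q : ZMod r) ∣ 2 * E ∧ ¬ orderOf (q : ZMod r) ∣ E := by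
  haveI : Fact r.Prime := ⟨hr⟩
  have h1 : ((q ^ E + 1 : ℕ) : ZMod r) = 0 := (ZMod.natCast_eq_zero_iff _ _).2 h
  rw [Nat.cast_add, Nat.cast_pow, Nat.cast_one] at h1
  have h2 : (q : ZMod r) ^ E = -1 := eq_neg_of_add_eq_zero_left h1
  constructor
  · apply orderOf_dvd_of_pow_eq_one
    rw [mul_comm, pow_mul, h2]
    norm_num
  · intro hdvd
    have h3 : (q : ZMod r) ^ E = 1 := orderOf_dvd_iff_pow_eq_one.1 hdvd
    rw [h3] at h2
    have h4 : ((2 : ℕ) : ZMod r) = 0 := by
      have : (1 : ZMod r) + 1 = 0 := by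
        nth_rewrite 1 [h2]
        exact neg_add_cancel 1
      rw [Nat.cast_ofNat, ← one_add_one_eq_two]
      exact this
    have h5 := (ZMod.natCast_eq_zero_iff _ _).1 h4
    exact hr2 ((Nat.prime_dvd_prime_iff_eq hr Nat.prime_two).1 h5)

/-- the pattern witnessing divisibility of the number of totally singular subspaces -/
theorem hstar_of_dvd_NS (hr : r.Prime) (hr2 : r ≠ 2) (hq1 : 1 ≤ q) (hyp : Prop) (d j : ℕ)
    (hjd : j + 2 ≤ d) (h : r ∣ NS q hyp (d - j)) (b : ℕ) (hb : b = if hyp then 0 else 1) :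
    ∃ s, 1 ≤ s ∧ orderOf (q : ZMod r) * s + 2 * j + (if s % 2 = b then 0 else 2) = 2 * d := by
  obtain ⟨k, hk⟩ : ∃ k, k = d - j := ⟨_, rfl⟩
  have hk2 : 2 ≤ k := by omega
  rw [← hk] at h
  unfold NS at h
  by_cases hh : hyp
  · rw [if_pos hh] at h hb
    rcases (Nat.Prime.dvd_mul hr).1 h with h1 | h1
    · obtain ⟨u, hu⟩ := orderOf_dvd_of_dvd_pow_sub_one hr hq1 h1
      have hu1 : 1 ≤ u := by
        rcases Nat.eq_zero_or_pos u with h0 | h0
        · rw [h0, mul_zero] at hu
          omega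
        · exact h0
      refine ⟨2 * u, by omega, ?_⟩
      rw [if_pos (by omega)]
      have : orderOf (q : ZMod r) * (2 * u) = 2 * (orderOf (q : ZMod r) * u) := by ring
      rw [this, ← hu]
      omega
    · obtain ⟨⟨s, hs⟩, hnd⟩ := dvd_of_dvd_pow_add_one hr hr2 h1
      have hs1 : 1 ≤ s := by
        rcases Nat.eq_zero_or_pos s with h0 | h0
        · rw [h0, mul_zero] at hs
          omega
        · exact h0
      have hsodd : s % 2 = 1 := by
        by_contra hne
        have hev : s % 2 = 0 := by omega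
        obtain ⟨u, hu⟩ : ∃ u, s = 2 * u := ⟨s / 2, by omega⟩
        apply hnd
        refine ⟨u, ?_⟩
        rw [hu] at hs
        have : orderOf (q : ZMod r) * (2 * u) = 2 * (orderOf (q : ZMod r) * u) := by ring
        rw [this] at hs
        omega
      refine ⟨s, hs1, ?_⟩
      rw [if_neg (by omega), ← hs]
      omega
  · rw [if_neg hh] at h hb
    rcases (Nat.Prime.dvd_mul hr).1 h with h1 | h1
    · obtain ⟨⟨s, hs⟩, hnd⟩ := dvd_of_dvd_pow_add_one hr hr2 h1
      have hs1 : 1 ≤ s := by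
        rcases Nat.eq_zero_or_pos s with h0 | h0
        · rw [h0, mul_zero] at hs
          omega
        · exact h0
      have hsodd : s % 2 = 1 := by
        by_contra hne
        have hev : s % 2 = 0 := by omega
        obtain ⟨u, hu⟩ : ∃ u, s = 2 * u := ⟨s / 2, by omega⟩
        apply hnd
        refine ⟨u, ?_⟩
        rw [hu] at hs
        have : orderOf (q : ZMod r) * (2 * u) = 2 * (orderOf (q : ZMod r) * u) := by ring
        rw [this] at hs
        omega
      refine ⟨s, hs1, ?_⟩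
      rw [if_pos (by omega), ← hs]
      omega
    · obtain ⟨u, hu⟩ := orderOf_dvd_of_dvd_pow_sub_one hr hq1 h1
      have hu1 : 1 ≤ u := by
        rcases Nat.eq_zero_or_pos u with h0 | h0
        · rw [h0, mul_zero] at hu
          omega
        · exact h0
      refine ⟨2 * u, by omega, ?_⟩
      rw [if_neg (by omega)]
      have : orderOf (q : ZMod r) * (2 * u) = 2 * (orderOf (q : ZMod r) * u) := by ring
      rw [this, ← hu]
      omega

/-- the bounds for odd order of `q` -/
theorem cbounds_of_dvd_NS (hr : r.Prime) (hr2 : r ≠ 2) (hq1 : 1 ≤ q) (hyp : Prop) (d j m : ℕ)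
    (hjm : j < m) (hjd : j + 2 ≤ d) (hio : Odd (orderOf (q : ZMod r)))
    (h : r ∣ NS q hyp (d - j)) (n₁ : ℕ) (hn₁ : n₁ = if hyp then 2 * d else 2 * d - 2) :
    2 * orderOf (q : ZMod r) ≤ n₁ ∧ n₁ % (2 * orderOf (q : ZMod r)) < 2 * m := by
  obtain ⟨k, hk⟩ : ∃ k, k = d - j := ⟨_, rfl⟩
  have hk2 : 2 ≤ k := by omega
  rw [← hk] at h
  unfold NS at h
  have key : ∀ N u : ℕ, 1 ≤ u → N = 2 * j + 2 * orderOf (q : ZMod r) * u →
      2 * orderOf (q : ZMod r) ≤ N ∧ N % (2 * orderOf (q : ZMod r)) < 2 * m := by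
    intro N u hu hN
    have h1 : 2 * orderOf (q : ZMod r) ≤ 2 * orderOf (q : ZMod r) * u :=
      Nat.le_mul_of_pos_right _ hu
    refine ⟨by omega, ?_⟩
    rw [hN, Nat.add_mul_mod_self_left]
    have := Nat.mod_le (2 * j) (2 * orderOf (q : ZMod r))
    omega
  by_cases hh : hyp
  · rw [if_pos hh] at h hn₁
    rcases (Nat.Prime.dvd_mul hr).1 h with h1 | h1
    · obtain ⟨u, hu⟩ := orderOf_dvd_of_dvd_pow_sub_one hr hq1 h1
      have hu1 : 1 ≤ u := by
        rcases Nat.eq_zero_or_pos u with h0 | h0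
        · rw [h0, mul_zero] at hu
          omega
        · exact h0
      apply key n₁ u hu1
      have : 2 * orderOf (q : ZMod r) * u = 2 * (orderOf (q : ZMod r) * u) := by ring
      rw [this, ← hu]
      omega
    · exfalso
      obtain ⟨h3, hnd⟩ := dvd_of_dvd_pow_add_one hr hr2 h1
      exact hnd (Nat.Coprime.dvd_of_dvd_mul_left hio.coprime_two_right h3)
  · rw [if_neg hh] at h hn₁
    rcases (Nat.Prime.dvd_mul hr).1 h with h1 | h1
    · exfalso
      obtain ⟨h3, hnd⟩ := dvd_of_dvd_pow_add_one hr hr2 h1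
      exact hnd (Nat.Coprime.dvd_of_dvd_mul_left hio.coprime_two_right h3)
    · obtain ⟨u, hu⟩ := orderOf_dvd_of_dvd_pow_sub_one hr hq1 h1
      have hu1 : 1 ≤ u := by
        rcases Nat.eq_zero_or_pos u with h0 | h0
        · rw [h0, mul_zero] at hu
          omega
        · exact h0
      apply key n₁ u hu1
      have : 2 * orderOf (q : ZMod r) * u = 2 * (orderOf (q : ZMod r) * u) := by ring
      rw [this, ← hu]
      omega

theorem not_char_dvd_NS {p : ℕ} (hp : p.Prime) (hpq : p ∣ q) (hq1 : 1 ≤ q) (hyp : Prop)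
    (k : ℕ) (hk : 2 ≤ k) : ¬ p ∣ NS q hyp k := by
  have hsub : ∀ a : ℕ, 1 ≤ a → ¬ p ∣ q ^ a - 1 := by
    intro a ha h
    have h1 : p ∣ q ^ a := dvd_pow hpq (by omega)
    have h2 := Nat.dvd_sub h1 h
    have h3 : q ^ a - (q ^ a - 1) = 1 := by
      have := Nat.one_le_pow a q hq1
      omega
    rw [h3] at h2
    exact hp.one_lt.ne' (Nat.dvd_one.1 h2)
  have hadd : ∀ a : ℕ, 1 ≤ a → ¬ p ∣ q ^ a + 1 := by
    intro a ha h
    have h1 : p ∣ q ^ a := dvd_pow hpq (by omega)
    have h2 := Nat.dvd_sub h h1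
    rw [Nat.add_sub_cancel_left] at h2
    exact hp.one_lt.ne' (Nat.dvd_one.1 h2)
  intro h
  unfold NS at h
  by_cases hh : hyp
  · rw [if_pos hh] at h
    rcases (Nat.Prime.dvd_mul hp).1 h with h1 | h1
    · exact hsub k (by omega) h1
    · exact hadd (k - 1) (by omega) h1
  · rw [if_neg hh] at h
    rcases (Nat.Prime.dvd_mul hp).1 h with h1 | h1
    · exact hadd k (by omega) h1
    · exact hsub (k - 1) (by omega) h1

end arith

end Cfsg.Agent.Helper13.OrthTy
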