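import Mathlib
import Cfsg.Agent.Lib.Helper13.OrthTy4
import Cfsg.Agent.Lib.Helper13.OrthTy6
import Cfsg.Agent.Lib.Helper13.SpDec7

set_option autoImplicit false
set_option linter.unusedSectionVars false

/-!
# Elements of odd prime order of even-dimensional orthogonal groups fixing totally singular
subspaces: the criterion
-/

namespace Cfsg.Agent.Helper13.OrthTy

open Polynomial Module QuadraticMap Matrix Cfsg.Agent.Helper13.SS Cfsg.Agent.Helper13.Dual
  Cfsg.Agent.Helper13.SympSS Cfsg.Agent.Helper13.SpDec Cfsg.Agent.Helper13.SlDec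
  Cfsg.Agent.Helper13.SpTi Cfsg.Agent.Helper13.OrthSS Cfsg.Agent.Helper13
  Cfsg.Agent.Helper13.OrthTs
open scoped Classical

universe u

section typed
variable {F : Type u} [Field F] [Fintype F] {p : ℕ} [Fact p.Prime] [CharP F p] {r q : ℕ}
  {κ : Type} [Fintype κ] [DecidableEq κ]

theorem odd_main_even (hF : Fintype.card F = q) (hr : r.Prime) (hr2 : r ≠ 2) (hrp : r ≠ p)
    (Q : QuadraticForm F (κ → F)) (hQ : (polarBilin Q).Nondegenerate)
    (d m : ℕ) (hκ : Fintype.card κ = 2 * d) (hd : 3 ≤ d) (hm : 1 ≤ m) (hmd : m + 1 ≤ d)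
    (j₀ : ℕ) (hj₀ : j₀ < m) (hdvd : r ∣ NS q (IsHyp Q) (d - j₀))
    (b : ℕ) (hb : b = if IsHyp Q then 0 else 1)
    (n₁ : ℕ) (hn₁ : n₁ = if IsHyp Q then 2 * d else 2 * d - 2)
    (i : ℕ) (hi : i = orderOf (q : ZMod r)) :
    (∀ x : GL κ F, x ∈ Cfsg.Geo.omegaGL (⇑Q) →
      (∃ z : F, ((x ^ r : GL κ F) : Matrix κ κ F) = z • (1 : Matrix κ κ F)) →
      (∀ z : F, (x : Matrix κ κ F) ≠ z • (1 : Matrix κ κ F)) →
      ∃ W : Submodule F (κ → F), finrank F W = m ∧ (∀ w ∈ W, Q w = 0) ∧
        W.map (Matrix.toLin' (x : Matrix κ κ F)) ≤ W) ↔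
    ((Odd i ∧ i ≤ m ∧ 2 * (m % i) ≤ n₁ % (2 * i)) ∨
     (Even i ∧ i ≤ m ∧ (r - 1) / i + 2 * (m / i) ≤ (2 * d) / i ∧
       ((2 * (m % i) ≤ i ∧ (2 * d) % i = 0 ∧ ((2 * d) / i) % 2 ≠ b ∧
            (r - 1) / i + 2 * (m / i) < (2 * d) / i) ∨
        (2 * (m % i) ≤ (2 * d) % i ∧ ((2 * d) / i) % 2 = b) ∨
        (2 * (m % i) < (2 * d) % i ∧ ((2 * d) / i) % 2 ≠ b)))) := by
  have hi0 : 0 < orderOf (q : ZMod r) := pos_orderOf hF hr hrp
  have hq1 : 1 ≤ q := by rw [← hF]; exact Fintype.card_pos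
  have hinv := starΦ_involutive (F := F) hr hr2 hrp
  obtain ⟨w, hw, -⟩ := exists_weight hF hr hr2 hrp i (if Even i then i else 2 * i) hi rfl
  have hcard : Fintype.card ↥(cycFactors F r) = (r - 1) / i := by
    rw [Fintype.card_coe, hi, ← cycFactors_card (F := F) hF hr hrp, Nat.mul_div_cancel _ hi0]
  obtain ⟨a₀, ha₀⟩ := cycFactors_nonempty_aux (F := F) hF hr hrp
  subst hi
  rw [typed_main hF hr hr2 hrp Q hQ d m hκ hd]
  have hbb : b ≤ 1 := by
    rw [hb]
    split_ifs <;> omega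
  rcases Nat.even_or_odd (orderOf (q : ZMod r)) with hie | hio
  · -- self-dual factors
    have hno : ¬ Odd (orderOf (q : ZMod r)) := Nat.not_odd_iff_even.2 hie
    have hσ : ∀ a, starΦ (F := F) hr hr2 hrp a = a := fun a =>
      Subtype.ext (dualPoly_eq_self_of_even hF hr hi0 hie a.2)
    have hi2 : 2 ≤ orderOf (q : ZMod r) := by
      obtain ⟨t, ht⟩ := hie
      omega
    have htau : ∀ k : ↥(cycFactors F r) → ℕ,
        (IsHyp Q ↔ (Odd (orderOf (q : ZMod r)) ∨ Even (∑ a, k a))) ↔ (∑ a, k a) % 2 = b := by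
      intro k
      rw [hb]
      by_cases hh : IsHyp Q
      · rw [if_pos hh, Nat.even_iff]
        constructor
        · intro h
          exact (h.1 hh).resolve_left hno
        · intro h
          exact iff_of_true hh (Or.inr h)
      · rw [if_neg hh, Nat.even_iff]
        constructor
        · intro h
          by_contra hne
          exact hh (h.2 (Or.inr (by omega)))
        · intro h
          apply iff_of_false hh
          rintro (h' | h')
          · exact hno h'
          · omega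
    have hstar : ∃ s jj, 1 ≤ s ∧ jj < m ∧
        orderOf (q : ZMod r) * s + 2 * jj + (if s % 2 = b then 0 else 2) = 2 * d := by
      obtain ⟨s, hs1, hs⟩ := hstar_of_dvd_NS hr hr2 hq1 (IsHyp Q) d j₀ (by omega) hdvd b hb
      exact ⟨s, j₀, hs1, hj₀, hs⟩
    constructor
    · intro hall
      right
      have hall' : ∀ k : ↥(cycFactors F r) → ℕ, (∃ a, k a ≠ 0) →
          orderOf (q : ZMod r) * ∑ a, k a ≤ 2 * d →
          (orderOf (q : ZMod r) * ∑ a, k a = 2 * d → (∑ a, k a) % 2 = b) →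
          TFits id (orderOf (q : ZMod r)) (2 * d) m ((∑ a, k a) % 2 = b) k := by
        intro k hk0 hkd hkt
        obtain ⟨e, j, h1, h2, h3, h4⟩ := hall k (fun a => by rw [hσ a]) hk0 hkd
          (fun h => (htau k).2 (hkt h))
        refine ⟨e, j, h1, h2, ?_, ?_⟩
        · intro hne
          exact h3 (fun h => hne ((htau k).1 h))
        · intro a
          have := h4 a
          rw [hσ a] at this
          exact this
      obtain ⟨h1, h2, h3⟩ := cond_of_tfits_even (orderOf (q : ZMod r)) (2 * d) m b hbb hi2 hie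
        ⟨d, by ring⟩ (by omega) (⟨a₀, ha₀⟩ : ↥(cycFactors F r)) hstar hall'
      rw [hcard] at h2 h3
      exact ⟨hie, h1, h2, h3⟩
    · rintro (⟨hodd, -⟩ | ⟨-, h1, h2, h3⟩)
      · exact absurd hodd hno
      · intro k hks hk0 hkd htype
        rw [← hcard] at h2 h3
        obtain ⟨e, j, g1, g2, g3, g4⟩ := tfits_of_cond_even (orderOf (q : ZMod r)) (2 * d) m b hbb
          hi2 hie ⟨d, by ring⟩ h2 h3 k hkd (fun h => (htau k).1 (htype h))
        refine ⟨e, j, g1, g2, ?_, ?_⟩
        · intro hne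
          exact g3 (fun h => hne ((htau k).2 h))
        · intro a
          rw [hσ a]
          exact g4 a
  · -- pairs of dual factors
    have hne : ¬ Even (orderOf (q : ZMod r)) := Nat.not_even_iff_odd.2 hio
    have hσ : ∀ a, starΦ (F := F) hr hr2 hrp a ≠ a := by
      intro a h
      exact dualPoly_ne_self_of_odd hF hr hr2 hrp hio a.2 (congrArg Subtype.val h)
    have hw2 : ((∀ a, starΦ (F := F) hr hr2 hrp a = a) ∧ 2 = 1) ∨
        ((∀ a, starΦ (F := F) hr hr2 hrp a ≠ a) ∧ 2 = 2) := Or.inr ⟨hσ, rfl⟩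
    have htau : ∀ k : ↥(cycFactors F r) → ℕ,
        (IsHyp Q ↔ (Odd (orderOf (q : ZMod r)) ∨ Even (∑ a, k a))) ↔ IsHyp Q := by
      intro k
      exact ⟨fun h => h.2 (Or.inl hio), fun h => iff_of_true h (Or.inl hio)⟩
    obtain ⟨hcn, hΩ⟩ := cbounds_of_dvd_NS hr hr2 hq1 (IsHyp Q) d j₀ m hj₀ (by omega) hio hdvd
      n₁ hn₁
    have hn₁le : n₁ ≤ 2 * d := by
      rw [hn₁]
      split_ifs <;> omega
    have hmn₁ : 2 * m ≤ n₁ := by
      rw [hn₁]
      split_ifs <;> omega
    constructor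
    · intro hall
      left
      have hall' : ∀ k : ↥(cycFactors F r) → ℕ, (∀ a, k (starΦ hr hr2 hrp a) = k a) →
          (∃ a, k a ≠ 0) → orderOf (q : ZMod r) * ∑ a, k a ≤ n₁ →
          Fits (starΦ (F := F) hr hr2 hrp) (orderOf (q : ZMod r)) n₁ m k := by
        intro k hks hk0 hkd
        by_cases hh : IsHyp Q
        · rw [if_pos hh] at hn₁
          obtain ⟨e, j, h1, h2, -, h4⟩ := hall k hks hk0 (by omega)
            (fun _ => (htau k).2 hh)
          exact ⟨e, j, h1, by omega, h4⟩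
        · rw [if_neg hh] at hn₁
          obtain ⟨e, j, h1, h2, h3, h4⟩ := hall k hks hk0 (by omega)
            (fun h => absurd h (by omega))
          have := h3 (fun h => hh ((htau k).1 h))
          exact ⟨e, j, h1, by omega, h4⟩
      obtain ⟨h1, h2⟩ := cond_of_fits_max (starΦ (F := F) hr hr2 hrp) hinv 2 hw2
        (orderOf (q : ZMod r)) n₁ m hi0 ⟨a₀, ha₀⟩ hcn hΩ hall'
      exact ⟨hio, h1, h2⟩
    · rintro (⟨-, h1, h2⟩ | ⟨hev, -⟩)
      · intro k hks hk0 hkd htype
        have hevk := even_mul_sum hF hr hr2 hrp k hks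
        have hkd' : orderOf (q : ZMod r) * ∑ a, k a ≤ n₁ := by
          by_cases hh : IsHyp Q
          · rw [if_pos hh] at hn₁
            omega
          · rw [if_neg hh] at hn₁
            have hne' : orderOf (q : ZMod r) * ∑ a, k a ≠ 2 * d :=
              fun h => hh ((htau k).1 (htype h))
            obtain ⟨t, ht⟩ := hevk
            omega
        obtain ⟨e, j, g1, g2, g4⟩ := fits_of_cond_two (starΦ (F := F) hr hr2 hrp) hinv hσ
          (orderOf (q : ZMod r)) n₁ m hmn₁ h2 k hks hkd'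
        refine ⟨e, j, g1, by omega, ?_, g4⟩
        intro hnt
        have hh : ¬ IsHyp Q := fun h => hnt ((htau k).2 h)
        rw [if_neg hh] at hn₁
        omega
      · exact absurd hev hne

end typed

end Cfsg.Agent.Helper13.OrthTy
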