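import Mathlib
import Cfsg.Agent.Lib.Helper13.OrthTy7
import Cfsg.Agent.Lib.Helper13.OrthTy11

set_option autoImplicit false
set_option linter.unusedSectionVars false

/-!
# Elements of prime order of `PΩ^±_{2d}(q)` and invariant totally singular subspaces
-/

namespace Cfsg.Agent.Helper13.OrthTy

open Polynomial Module QuadraticMap Matrix Cfsg.Agent.Helper13.OrthSS Cfsg.Agent.Helper13
  Cfsg.Agent.Helper17.Spinor Cfsg.Agent.Helper13.OrthTs Cfsg.Agent.Helper28.WittQuad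
open scoped Classical

universe u

section shape

theorem shape_plus {R2 P2 H A A' B Rp R3 Oi Ei C1 C1' C2 C2' : Prop} (hH : H) (hA : A ↔ A')
    (h1 : Oi → (C1 ↔ C1')) (h2 : Ei → (C2 ↔ C2')) :
    ((R2 ∧ P2 ∧ ((H ∧ A) ∨ (¬ H ∧ B))) ∨ (Rp ∧ R3 ∧ ((Oi ∧ C1) ∨ (Ei ∧ C2)))) ↔
      ((R2 ∧ P2 ∧ A') ∨ (Rp ∧ R3 ∧ Oi ∧ C1') ∨ (Rp ∧ R3 ∧ Ei ∧ C2')) := by
  tauto

theorem shape_minus {R2 P2 H A B B' Rp R3 Oi Ei C1 C1' C2 C2' : Prop} (hH : ¬ H) (hB : B ↔ B')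
    (h1 : Oi → (C1 ↔ C1')) (h2 : Ei → (C2 ↔ C2')) :
    ((R2 ∧ P2 ∧ ((H ∧ A) ∨ (¬ H ∧ B))) ∨ (Rp ∧ R3 ∧ ((Oi ∧ C1) ∨ (Ei ∧ C2)))) ↔
      ((R2 ∧ P2 ∧ B') ∨ (Rp ∧ R3 ∧ Oi ∧ C1') ∨ (Rp ∧ R3 ∧ Ei ∧ C2')) := by
  tauto

theorem pred_mod (d i : ℕ) (hd : 1 ≤ d) (hi : 1 ≤ i) :
    (d - 1) % i = if d % i = 0 then i - 1 else d % i - 1 := by
  have h1 := Nat.div_add_mod d i
  have h2 := Nat.mod_lt d hi
  split_ifs with h0
  · have ht : 1 ≤ d / i := by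
      by_contra h
      have h3 : d / i = 0 := Nat.lt_one_iff.1 (not_le.1 h)
      rw [h3, mul_zero] at h1
      omega
    obtain ⟨t', ht'⟩ : ∃ t', d / i = t' + 1 := ⟨d / i - 1, (Nat.sub_add_cancel ht).symm⟩
    rw [ht', Nat.mul_succ] at h1
    have h4 : d - 1 = (i - 1) + i * t' := by omega
    rw [h4, Nat.add_mul_mod_self_left, Nat.mod_eq_of_lt (by omega)]
  · have h4 : d - 1 = (d % i - 1) + i * (d / i) := by omega
    rw [h4, Nat.add_mul_mod_self_left, Nat.mod_eq_of_lt (by omega)]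

theorem minus_odd_cond (d i l : ℕ) (hd : 1 ≤ d) (hi : 1 ≤ i) (hl : l < i) :
    2 * l ≤ (2 * d - 2) % (2 * i) ↔ ((2 * d) % (2 * i) = 0 ∨ 2 * l < (2 * d) % (2 * i)) := by
  have e1 : 2 * d - 2 = 2 * (d - 1) := by omega
  rw [e1, Nat.mul_mod_mul_left, Nat.mul_mod_mul_left, pred_mod d i hd hi]
  have h2 := Nat.mod_lt d hi
  split_ifs with h0
  · constructor
    · intro _
      left
      omega
    · intro _
      omega
  · omega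

end shape

section typed
variable {F : Type u} [Field F] [Fintype F] {p : ℕ} [Fact p.Prime] [CharP F p] {q : ℕ}
  {κ : Type} [Fintype κ] [DecidableEq κ]

/-- the criterion for all primes -/
theorem ts_main_even (hF : Fintype.card F = q) (Q : QuadraticForm F (κ → F))
    (hQ : (polarBilin Q).Nondegenerate) (d m : ℕ) (hκ : Fintype.card κ = 2 * d) (hd : 3 ≤ d)
    (hm : 1 ≤ m) (hmd : m + 1 ≤ d) (r : ℕ) (hr : r.Prime)
    (hrΩ : r ∣ Nat.card (TsSub Q m))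
    (b : ℕ) (hb : b = if IsHyp Q then 0 else 1)
    (n₁ : ℕ) (hn₁ : n₁ = if IsHyp Q then 2 * d else 2 * d - 2)
    (i : ℕ) (hi : i = orderOf (q : ZMod r)) :
    (∀ x : GL κ F, x ∈ Cfsg.Geo.omegaGL (⇑Q) →
      (∃ z : F, ((x ^ r : GL κ F) : Matrix κ κ F) = z • (1 : Matrix κ κ F)) →
      (∀ z : F, (x : Matrix κ κ F) ≠ z • (1 : Matrix κ κ F)) →
      ∃ W : Submodule F (κ → F), finrank F W = m ∧ (∀ w ∈ W, Q w = 0) ∧
        W.map (Matrix.toLin' (x : Matrix κ κ F)) ≤ W) ↔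
    ((r = 2 ∧ p ≠ 2 ∧
        ((IsHyp Q ∧ (q % 4 = 1 ∨ (q % 4 = 3 ∧ m + 2 ≤ d ∧ (Even m ∨ Odd d)))) ∨
          (¬ IsHyp Q ∧ (Even d ∨ Even m ∨ q % 8 ≠ 7)))) ∨
     (r ≠ p ∧ 2 < r ∧ ((Odd i ∧ (i ≤ m ∧ 2 * (m % i) ≤ n₁ % (2 * i))) ∨
       (Even i ∧ (i ≤ m ∧ (r - 1) / i + 2 * (m / i) ≤ (2 * d) / i ∧
         ((2 * (m % i) ≤ i ∧ (2 * d) % i = 0 ∧ ((2 * d) / i) % 2 ≠ b ∧
              (r - 1) / i + 2 * (m / i) < (2 * d) / i) ∨
          (2 * (m % i) ≤ (2 * d) % i ∧ ((2 * d) / i) % 2 = b) ∨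
          (2 * (m % i) < (2 * d) % i ∧ ((2 * d) / i) % 2 ≠ b))))))) := by
  have hp : p.Prime := Fact.out
  have hq1 : 1 ≤ q := by
    rw [← hF]
    exact Fintype.card_pos
  have hpq : p ∣ q := by
    rw [← hF]
    exact (CharP.cast_eq_zero_iff F p (Fintype.card F)).1 (Nat.cast_card_eq_zero F)
  have hfin : finrank F (κ → F) = 2 * d := by
    rw [Module.finrank_fintype_fun_eq_card, hκ]
  obtain ⟨j₀, hj₀, hdvd⟩ := exists_dvd_of_dvd_card_ts_even r hr Q hQ d hfin m (by omega) hrΩ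
  rw [hF] at hdvd
  by_cases hrp : r = p
  · exfalso
    rw [hrp] at hdvd
    exact not_char_dvd_NS hp hpq hq1 (IsHyp Q) (d - j₀) (by omega) hdvd
  by_cases hr2 : r = 2
  · subst hr2
    have hp2 : p ≠ 2 := Ne.symm hrp
    have h2 : (2 : F) ≠ 0 := by
      intro h
      have h1 : ((2 : ℕ) : F) = 0 := by exact_mod_cast h
      have h3 := (CharP.cast_eq_zero_iff F p 2).1 h1
      exact hp2 ((Nat.prime_dvd_prime_iff_eq hp Nat.prime_two).1 h3)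
    rw [two_main_even Q hF h2 hQ d m hκ hd hm hmd]
    constructor
    · intro h
      exact Or.inl ⟨rfl, hp2, h⟩
    · rintro (⟨-, -, h⟩ | ⟨-, h, -⟩)
      · exact h
      · omega
  · have hr3 : 2 < r := by
      have := hr.two_le
      omega
    rw [odd_main_even hF hr hr2 hrp Q hQ d m hκ hd hm hmd j₀ hj₀ hdvd b hb n₁ hn₁ i hi]
    constructor
    · rintro (⟨h1, h3, h4⟩ | ⟨h1, h3, h4, h5⟩)
      · exact Or.inr ⟨hrp, hr3, Or.inl ⟨h1, h3, h4⟩⟩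
      · exact Or.inr ⟨hrp, hr3, Or.inr ⟨h1, h3, h4, h5⟩⟩
    · rintro (⟨h, -⟩ | ⟨-, -, ⟨h1, h3, h4⟩ | ⟨h1, h3, h4, h5⟩⟩)
      · exact absurd h hr2
      · exact Or.inl ⟨h1, h3, h4⟩
      · exact Or.inr ⟨h1, h3, h4, h5⟩

end typed

end Cfsg.Agent.Helper13.OrthTy
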