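import Mathlib
import Cfsg.Agent.Lib.Helper25.SpM2

/-!
# The (B, N)-pair of the symplectic group, part 0 (helper13)

The order `e_0 < … < e_{m-1} < f_{m-1} < … < f_0` on the signed indices, the upper triangular subgroup
`bor m F`, monomial matrices and the monomial subgroup `mon m F` of `Matrix.symplecticGroup (Fin m) F`.
-/

set_option autoImplicit false
set_option linter.unusedSectionVars false
set_option linter.unusedVariables false

namespace Cfsg.Agent.Helper13.SpBN

open Matrix Cfsg.Agent.Helper6.SpN Cfsg.Agent.Helper25.SpRoot Cfsg.Agent.Helper25.SpM2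

variable {m : ℕ} {F : Type*} [Field F]

/-- the position of a signed index in the order `e_0 < … < e_{m-1} < f_{m-1} < … < f_0` -/
def key : Fin m ⊕ Fin m → ℕ
  | Sum.inl i => i.val
  | Sum.inr i => 2 * m - 1 - i.val

theorem key_inl (i : Fin m) : key (Sum.inl i : Fin m ⊕ Fin m) = i.val := rfl

theorem key_inr (i : Fin m) : key (Sum.inr i : Fin m ⊕ Fin m) = 2 * m - 1 - i.val := rfl

theorem key_lt (a : Fin m ⊕ Fin m) : key a < 2 * m := by
  cases a with
  | inl i => have := i.2; rw [key_inl]; omega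
  | inr i => have := i.2; rw [key_inr]; omega

theorem key_ng (a : Fin m ⊕ Fin m) : key (ng a) = 2 * m - 1 - key a := by
  cases a with
  | inl i => rfl
  | inr i =>
    have := i.2
    show i.val = 2 * m - 1 - (2 * m - 1 - i.val)
    omega

theorem key_injective : Function.Injective (key : Fin m ⊕ Fin m → ℕ) := by
  intro a b h
  cases a with
  | inl i =>
    cases b with
    | inl j => rw [key_inl, key_inl] at h; rw [Fin.ext h]
    | inr j => have := i.2; have := j.2; rw [key_inl, key_inr] at h; omega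
  | inr i =>
    cases b with
    | inl j => have := i.2; have := j.2; rw [key_inl, key_inr] at h; omega
    | inr j =>
      have := i.2; have := j.2; rw [key_inr, key_inr] at h
      have : i.val = j.val := by omega
      rw [Fin.ext this]

theorem key_ng_lt_iff (a b : Fin m ⊕ Fin m) : key (ng a) < key (ng b) ↔ key b < key a := by
  rw [key_ng, key_ng]
  have := key_lt a
  have := key_lt b
  omega

/-! ### entries -/

theorem J_apply (a c : Fin m ⊕ Fin m) :
    J (Fin m) F a c = if c = ng a then - sg F a else 0 := by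
  cases a with
  | inl i =>
    cases c with
    | inl j => simp [J, ng]
    | inr j =>
      by_cases h : i = j
      · subst h; simp [J, ng, sg]
      · have h' : ¬ j = i := fun e => h e.symm
        simp [J, ng, sg, h, h']
  | inr i =>
    cases c with
    | inl j =>
      by_cases h : i = j
      · subst h; simp [J, ng, sg]
      · have h' : ¬ j = i := fun e => h e.symm
        simp [J, ng, sg, h, h', Matrix.one_apply_ne h]
    | inr j => simp [J, ng]

/-- the entries of the inverse of a symplectic matrix -/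
theorem inv_apply (g : symplecticGroup (Fin m) F) (a b : Fin m ⊕ Fin m) :
    (g⁻¹ : symplecticGroup (Fin m) F).1 a b = sg F a * sg F b * g.1 (ng b) (ng a) := by
  show ((-J (Fin m) F) * (g.1)ᵀ * J (Fin m) F) a b = _
  rw [Matrix.mul_apply]
  rw [Finset.sum_eq_single (ng b)]
  · rw [Matrix.mul_apply, Finset.sum_eq_single (ng a)]
    · rw [Matrix.neg_apply, J_apply, J_apply, if_pos rfl, if_pos (ng_ng b).symm, transpose_apply,
        sg_ng]
      ring
    · intro c _ hc
      rw [Matrix.neg_apply, J_apply, if_neg hc, neg_zero, zero_mul]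
    · intro h; exact absurd (Finset.mem_univ _) h
  · intro d _ hd
    rw [J_apply, if_neg, mul_zero]
    intro e
    apply hd
    rw [e, ng_ng]
  · intro h; exact absurd (Finset.mem_univ _) h

theorem mulVec_ev (M : Matrix (Fin m ⊕ Fin m) (Fin m ⊕ Fin m) F) (q p : Fin m ⊕ Fin m) :
    (M *ᵥ (ev q : Fin m ⊕ Fin m → F)) p = M p q := by
  unfold ev
  rw [Matrix.mulVec_single_one]
  rfl

theorem val_mul (g h : symplecticGroup (Fin m) F) : (g * h).1 = g.1 * h.1 := rfl

theorem val_one : (1 : symplecticGroup (Fin m) F).1 = 1 := rfl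

theorem inv_mul_val (g : symplecticGroup (Fin m) F) :
    (g⁻¹ : symplecticGroup (Fin m) F).1 * g.1 = 1 := by
  rw [← val_mul, inv_mul_cancel, val_one]

theorem mul_inv_val (g : symplecticGroup (Fin m) F) :
    g.1 * (g⁻¹ : symplecticGroup (Fin m) F).1 = 1 := by
  rw [← val_mul, mul_inv_cancel, val_one]

/-! ### the upper triangular subgroup -/

/-- the upper triangular subgroup -/
def bor (m : ℕ) (F : Type*) [Field F] : Subgroup (symplecticGroup (Fin m) F) where
  carrier := {g | ∀ a b, key b < key a → g.1 a b = 0}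
  one_mem' := by
    intro a b hab
    have : a ≠ b := fun e => by rw [e] at hab; exact lt_irrefl _ hab
    exact Matrix.one_apply_ne this
  mul_mem' := by
    intro g h hg hh a b hab
    show (g.1 * h.1) a b = 0
    rw [Matrix.mul_apply]
    apply Finset.sum_eq_zero
    intro c _
    by_cases hc : key c < key a
    · rw [hg a c hc, zero_mul]
    · rw [hh c b (by omega), mul_zero]
  inv_mem' := by
    intro g hg a b hab
    rw [inv_apply, hg _ _ ((key_ng_lt_iff _ _).2 hab), mul_zero]

theorem mem_bor_iff (g : symplecticGroup (Fin m) F) :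
    g ∈ bor m F ↔ ∀ a b, key b < key a → g.1 a b = 0 := Iff.rfl

/-! ### monomial matrices -/

/-- `g` is monomial with permutation `π`: the only non-zero entry of the column `b` is in the row `π b` -/
def IsMon (g : Matrix (Fin m ⊕ Fin m) (Fin m ⊕ Fin m) F) (π : Equiv.Perm (Fin m ⊕ Fin m)) : Prop :=
  ∀ a b, a ≠ π b → g a b = 0

theorem isMon_one : IsMon (1 : Matrix (Fin m ⊕ Fin m) (Fin m ⊕ Fin m) F) 1 := by
  intro a b hab
  exact Matrix.one_apply_ne hab

theorem IsMon.mul {g h : Matrix (Fin m ⊕ Fin m) (Fin m ⊕ Fin m) F}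
    {π ρ : Equiv.Perm (Fin m ⊕ Fin m)} (hg : IsMon g π) (hh : IsMon h ρ) : IsMon (g * h) (π * ρ) := by
  intro a b hab
  rw [Matrix.mul_apply]
  apply Finset.sum_eq_zero
  intro c _
  by_cases hc : c = ρ b
  · rw [hg a c (by rw [hc]; exact hab), zero_mul]
  · rw [hh c b hc, mul_zero]

theorem IsMon.inv {g : symplecticGroup (Fin m) F} {π : Equiv.Perm (Fin m ⊕ Fin m)}
    (hπ : ∀ a, π (ng a) = ng (π a)) (hg : IsMon g.1 π) :
    IsMon (g⁻¹ : symplecticGroup (Fin m) F).1 π⁻¹ := by
  intro a b hab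
  rw [inv_apply, hg, mul_zero]
  intro e
  apply hab
  rw [hπ, ng_inj] at e
  rw [e]
  simp

/-- left multiplication by a monomial matrix -/
theorem IsMon.mul_apply {n : Matrix (Fin m ⊕ Fin m) (Fin m ⊕ Fin m) F}
    {π : Equiv.Perm (Fin m ⊕ Fin m)} (hn : IsMon n π)
    (M : Matrix (Fin m ⊕ Fin m) (Fin m ⊕ Fin m) F) (a b : Fin m ⊕ Fin m) :
    (n * M) a b = n a (π⁻¹ a) * M (π⁻¹ a) b := by
  rw [Matrix.mul_apply, Finset.sum_eq_single (π⁻¹ a)]
  · intro c _ hc
    rw [hn a c, zero_mul]
    intro e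
    apply hc
    rw [e]
    simp
  · intro h; exact absurd (Finset.mem_univ _) h

/-- right multiplication by a monomial matrix -/
theorem IsMon.apply_mul {n : Matrix (Fin m ⊕ Fin m) (Fin m ⊕ Fin m) F}
    {π : Equiv.Perm (Fin m ⊕ Fin m)} (hn : IsMon n π)
    (M : Matrix (Fin m ⊕ Fin m) (Fin m ⊕ Fin m) F) (a b : Fin m ⊕ Fin m) :
    (M * n) a b = M a (π b) * n (π b) b := by
  rw [Matrix.mul_apply, Finset.sum_eq_single (π b)]
  · intro c _ hc
    rw [hn c b hc, mul_zero]
  · intro h; exact absurd (Finset.mem_univ _) h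

/-- the non-zero entries of a monomial symplectic matrix -/
theorem IsMon.apply_ne_zero {g : symplecticGroup (Fin m) F} {π : Equiv.Perm (Fin m ⊕ Fin m)}
    (hg : IsMon g.1 π) (b : Fin m ⊕ Fin m) : g.1 (π b) b ≠ 0 := by
  intro h0
  have h1 := congrFun (congrFun (inv_mul_val g) b) b
  rw [hg.apply_mul, h0, mul_zero, Matrix.one_apply_eq] at h1
  exact zero_ne_one h1

/-- the permutation of a monomial symplectic matrix is unique -/
theorem IsMon.unique {g : symplecticGroup (Fin m) F} {π ρ : Equiv.Perm (Fin m ⊕ Fin m)}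
    (hg : IsMon g.1 π) (hg' : IsMon g.1 ρ) : π = ρ := by
  ext b
  by_contra h
  exact hg.apply_ne_zero b (hg' _ _ h)

/-- the permutation of a monomial symplectic matrix commutes with `ng` -/
theorem IsMon.comm_ng {g : symplecticGroup (Fin m) F} {π : Equiv.Perm (Fin m ⊕ Fin m)}
    (hg : IsMon g.1 π) (a : Fin m ⊕ Fin m) : π (ng a) = ng (π a) := by
  -- `(g⁻¹)_{a, π a} ≠ 0` and it is `± g_{ng (π a), ng a}`
  have h1 := congrFun (congrFun (inv_mul_val g) a) a
  rw [hg.apply_mul, Matrix.one_apply_eq, inv_apply] at h1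
  by_contra h
  have h2 : g.1 (ng (π a)) (ng a) = 0 := hg _ _ (fun e => h e.symm)
  rw [h2, mul_zero, zero_mul] at h1
  exact zero_ne_one h1

/-- the monomial subgroup -/
def mon (m : ℕ) (F : Type*) [Field F] : Subgroup (symplecticGroup (Fin m) F) where
  carrier := {g | ∃ π : Equiv.Perm (Fin m ⊕ Fin m), IsMon g.1 π}
  one_mem' := ⟨1, isMon_one⟩
  mul_mem' := by
    rintro g h ⟨π, hg⟩ ⟨ρ, hh⟩
    exact ⟨π * ρ, hg.mul hh⟩
  inv_mem' := by
    rintro g ⟨π, hg⟩
    exact ⟨π⁻¹, IsMon.inv hg.comm_ng hg⟩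

theorem mem_mon_iff (g : symplecticGroup (Fin m) F) :
    g ∈ mon m F ↔ ∃ π : Equiv.Perm (Fin m ⊕ Fin m), IsMon g.1 π := Iff.rfl

theorem IsMon.inv' {g : symplecticGroup (Fin m) F} {π : Equiv.Perm (Fin m ⊕ Fin m)}
    (hg : IsMon g.1 π) : IsMon (g⁻¹ : symplecticGroup (Fin m) F).1 π⁻¹ :=
  IsMon.inv hg.comm_ng hg

/-- a monomial matrix with trivial permutation is upper triangular -/
theorem mem_bor_of_isMon_one {g : symplecticGroup (Fin m) F} (hg : IsMon g.1 1) : g ∈ bor m F := by
  intro a b hab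
  apply hg
  intro e
  rw [Equiv.Perm.one_apply] at e
  rw [e] at hab
  exact lt_irrefl _ hab

/-- a permutation that does not increase the keys is trivial -/
theorem perm_eq_one_of_key_le (π : Equiv.Perm (Fin m ⊕ Fin m))
    (h : ∀ b, key (π b) ≤ key b) : π = 1 := by
  have hsum : ∑ b, key (π b) = ∑ b, key b := Equiv.sum_comp π key
  have h2 := (Finset.sum_eq_sum_iff_of_le (fun b _ => h b)).1 hsum
  ext b
  rw [Equiv.Perm.one_apply]
  exact key_injective (h2 b (Finset.mem_univ b))

/-- an upper triangular monomial matrix has trivial permutation -/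
theorem perm_eq_one_of_mem_bor {g : symplecticGroup (Fin m) F} {π : Equiv.Perm (Fin m ⊕ Fin m)}
    (hg : IsMon g.1 π) (hB : g ∈ bor m F) : π = 1 := by
  apply perm_eq_one_of_key_le
  intro b
  by_contra hlt
  exact hg.apply_ne_zero b (hB _ _ (not_le.1 hlt))

/-- conjugating by a monomial matrix: the entries -/
theorem conj_apply {n : symplecticGroup (Fin m) F} {π : Equiv.Perm (Fin m ⊕ Fin m)}
    (hn : IsMon n.1 π) (g : symplecticGroup (Fin m) F) (a b : Fin m ⊕ Fin m) :
    (n * g * n⁻¹).1 a b =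
      n.1 a (π⁻¹ a) * g.1 (π⁻¹ a) (π⁻¹ b) * (n⁻¹ : symplecticGroup (Fin m) F).1 (π⁻¹ b) b := by
  rw [val_mul, val_mul, hn.inv'.apply_mul, hn.mul_apply]

/-- conjugating by the inverse of a monomial matrix: the entries -/
theorem conj_inv_apply {n : symplecticGroup (Fin m) F} {π : Equiv.Perm (Fin m ⊕ Fin m)}
    (hn : IsMon n.1 π) (g : symplecticGroup (Fin m) F) (a b : Fin m ⊕ Fin m) :
    (n⁻¹ * g * n).1 a b =
      (n⁻¹ : symplecticGroup (Fin m) F).1 a (π a) * g.1 (π a) (π b) * n.1 (π b) b := by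
  have h := conj_apply hn.inv' g a b
  rw [inv_inv, inv_inv] at h
  exact h

/-- `B ⊓ N` is normalised by `N` -/
theorem conj_mem_bor_of_mon {n t : symplecticGroup (Fin m) F} (hn : n ∈ mon m F)
    (ht : t ∈ bor m F ⊓ mon m F) : n * t * n⁻¹ ∈ bor m F := by
  obtain ⟨π, hπ⟩ := hn
  obtain ⟨htB, ρ, hρ⟩ := ht
  have h1 : ρ = 1 := perm_eq_one_of_mem_bor hρ htB
  subst h1
  apply mem_bor_of_isMon_one
  have := (hπ.mul hρ).mul hπ.inv'
  rw [mul_one, mul_inv_cancel] at this
  exact this

/-- the diagonal subgroup -/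
def tor (m : ℕ) (F : Type*) [Field F] : Subgroup (symplecticGroup (Fin m) F) where
  carrier := {g | IsMon g.1 1}
  one_mem' := isMon_one
  mul_mem' := by
    intro g h hg hh
    have := IsMon.mul hg hh
    rwa [mul_one] at this
  inv_mem' := by
    intro g hg
    have := IsMon.inv' hg
    rwa [inv_one] at this

theorem mem_tor_iff (g : symplecticGroup (Fin m) F) : g ∈ tor m F ↔ IsMon g.1 1 := Iff.rfl

theorem mem_tor_iff' (g : symplecticGroup (Fin m) F) :
    g ∈ tor m F ↔ ∀ a b, a ≠ b → g.1 a b = 0 := Iff.rfl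

theorem tor_le_bor : tor m F ≤ bor m F := fun _ hg => mem_bor_of_isMon_one hg

theorem tor_le_mon : tor m F ≤ mon m F := fun _ hg => ⟨1, hg⟩

theorem tor_eq_inf : tor m F = bor m F ⊓ mon m F := by
  apply le_antisymm
  · exact le_inf tor_le_bor tor_le_mon
  · rintro g ⟨hB, π, hπ⟩
    have h1 : π = 1 := perm_eq_one_of_mem_bor hπ hB
    subst h1
    exact hπ

end Cfsg.Agent.Helper13.SpBN
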