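import Mathlib
import Cfsg.Agent.Lib.Helper13.SpBN0
import Cfsg.Agent.Lib.Helper19.SpM1

/-!
# The (B, N)-pair of the symplectic group, part 1 (helper13)

Root elements: their action on the basis vectors, the monomial elements `w(c) = x(c) y(-c⁻¹) x(c)`,
conjugation of root elements by monomial elements.
-/

set_option autoImplicit false
set_option linter.unusedSectionVars false
set_option linter.unusedVariables false

namespace Cfsg.Agent.Helper13.SpBN

open Matrix Cfsg.Agent.Helper6.SpN Cfsg.Agent.Helper25.SpRoot Cfsg.Agent.Helper25.SpM2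
  Cfsg.Agent.Helper19.SpM1

variable {m : ℕ} {F : Type*} [Field F]

theorem isMon_of_mulVec {M : Matrix (Fin m ⊕ Fin m) (Fin m ⊕ Fin m) F}
    {π : Equiv.Perm (Fin m ⊕ Fin m)}
    (h : ∀ q, ∃ c : F, M *ᵥ (ev q : Fin m ⊕ Fin m → F) = c • ev (π q)) : IsMon M π := by
  intro a b hab
  obtain ⟨c, hc⟩ := h b
  rw [← mulVec_ev M b a, hc, Pi.smul_apply, ev_apply, if_neg hab, smul_zero]

theorem ev_ne {a q : Fin m ⊕ Fin m} (h : q ≠ a) : (ev q : Fin m ⊕ Fin m → F) a = 0 := by
  rw [ev_apply, if_neg (fun e => h e.symm)]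

theorem ev_self (a : Fin m ⊕ Fin m) : (ev a : Fin m ⊕ Fin m → F) a = 1 := by
  rw [ev_apply, if_pos rfl]

/-! ### short root elements on basis vectors -/

section short

variable {a b : Fin m ⊕ Fin m} (hab : a ≠ b) (hab' : a ≠ ng b)

include hab hab' in
theorem Tm_ev_of_ne (t : F) {q : Fin m ⊕ Fin m} (h1 : q ≠ b) (h2 : q ≠ ng a) :
    (Tm a b t : symplecticGroup (Fin m) F).1 *ᵥ ev q = ev q := by
  have h := Tm_mulVec hab hab' t (ev q : Fin m ⊕ Fin m → F)
  rw [ev_ne h1, ev_ne h2] at h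
  simpa using h

include hab hab' in
theorem Tm_ev_b (t : F) :
    (Tm a b t : symplecticGroup (Fin m) F).1 *ᵥ ev b = ev b + t • ev a := by
  have h := Tm_mulVec hab hab' t (ev b : Fin m ⊕ Fin m → F)
  have h2 : b ≠ ng a := fun e => hab' (by rw [e, ng_ng])
  rw [ev_self, ev_ne h2] at h
  simpa using h

include hab hab' in
theorem Tm_ev_nga (t : F) :
    (Tm a b t : symplecticGroup (Fin m) F).1 *ᵥ ev (ng a) =
      ev (ng a) - (sg F a * sg F b * t) • ev (ng b) := by
  have h := Tm_mulVec hab hab' t (ev (ng a) : Fin m ⊕ Fin m → F)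
  have h2 : ng a ≠ b := fun e => hab' (by rw [← e, ng_ng])
  rw [ev_self, ev_ne h2] at h
  simpa using h

/-- the element `w(c) = x(c) y(-c⁻¹) x(c)` of a short root -/
noncomputable def wS (a b : Fin m ⊕ Fin m) (c : F) : symplecticGroup (Fin m) F :=
  Tm a b c * Tm b a (-c⁻¹) * Tm a b c

/-- the permutation of `wS a b c` -/
def piS (a b : Fin m ⊕ Fin m) : Equiv.Perm (Fin m ⊕ Fin m) :=
  Equiv.swap a b * Equiv.swap (ng a) (ng b)

include hab hab' in
theorem piS_a : piS a b a = b := by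
  unfold piS
  rw [Equiv.Perm.mul_apply, Equiv.swap_apply_of_ne_of_ne (ne_ng a) hab', Equiv.swap_apply_left]

include hab hab' in
theorem piS_b : piS a b b = a := by
  unfold piS
  have h2 : b ≠ ng a := fun e => hab' (by rw [e, ng_ng])
  rw [Equiv.Perm.mul_apply, Equiv.swap_apply_of_ne_of_ne h2 (ne_ng b), Equiv.swap_apply_right]

include hab hab' in
theorem piS_nga : piS a b (ng a) = ng b := by
  unfold piS
  have h2 : ng b ≠ a := fun e => hab' e.symm
  rw [Equiv.Perm.mul_apply, Equiv.swap_apply_left,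
    Equiv.swap_apply_of_ne_of_ne h2 (ng_ne b)]

include hab hab' in
theorem piS_ngb : piS a b (ng b) = ng a := by
  unfold piS
  have h2 : ng a ≠ b := fun e => hab' (by rw [← e, ng_ng])
  rw [Equiv.Perm.mul_apply, Equiv.swap_apply_right,
    Equiv.swap_apply_of_ne_of_ne (ng_ne a) h2]

theorem piS_of_ne {q : Fin m ⊕ Fin m} (h1 : q ≠ a) (h2 : q ≠ b) (h3 : q ≠ ng a) (h4 : q ≠ ng b) :
    piS a b q = q := by
  unfold piS
  rw [Equiv.Perm.mul_apply, Equiv.swap_apply_of_ne_of_ne h3 h4, Equiv.swap_apply_of_ne_of_ne h1 h2]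

include hab hab' in
theorem piS_mul_self : piS a b * piS a b = 1 := by
  unfold piS
  have hd : (Equiv.swap a b).Disjoint (Equiv.swap (ng a) (ng b)) := by
    intro x
    by_cases h1 : x = a
    · right
      subst h1
      exact Equiv.swap_apply_of_ne_of_ne (ne_ng x) hab'
    by_cases h2 : x = b
    · right
      subst h2
      exact Equiv.swap_apply_of_ne_of_ne (fun e => hab' (by rw [e, ng_ng])) (ne_ng x)
    · left
      exact Equiv.swap_apply_of_ne_of_ne h1 h2
  rw [hd.commute.symm.mul_mul_mul_comm, Equiv.swap_mul_self, Equiv.swap_mul_self, mul_one]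

include hab hab' in
theorem piS_inv : (piS a b)⁻¹ = piS a b := by
  rw [inv_eq_iff_mul_eq_one]
  exact piS_mul_self hab hab'

include hab hab' in
theorem wS_isMon {c : F} (hc : c ≠ 0) : IsMon (wS a b c).1 (piS a b) := by
  have hba : b ≠ a := hab.symm
  have hba' : b ≠ ng a := fun e => hab' (by rw [e, ng_ng])
  have e1 : (ng a : Fin m ⊕ Fin m) ≠ a := ng_ne a
  have e2 : (ng a : Fin m ⊕ Fin m) ≠ ng b := fun e => hab (ng_inj.1 e)
  have e3 : (ng b : Fin m ⊕ Fin m) ≠ b := ng_ne b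
  have e4 : (ng b : Fin m ⊕ Fin m) ≠ ng a := fun e => hab (ng_inj.1 e).symm
  have Xa : (Tm a b c : symplecticGroup (Fin m) F).1 *ᵥ ev a = ev a :=
    Tm_ev_of_ne hab hab' c hab (ne_ng a)
  have Xb := Tm_ev_b (F := F) hab hab' c
  have Xna := Tm_ev_nga (F := F) hab hab' c
  have Xnb : (Tm a b c : symplecticGroup (Fin m) F).1 *ᵥ ev (ng b) = ev (ng b) :=
    Tm_ev_of_ne hab hab' c e3 e4
  have Yb : (Tm b a (-c⁻¹) : symplecticGroup (Fin m) F).1 *ᵥ ev b = ev b :=
    Tm_ev_of_ne hba hba' _ hba (ne_ng b)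
  have Ya := Tm_ev_b (F := F) hba hba' (-c⁻¹)
  have Ynb := Tm_ev_nga (F := F) hba hba' (-c⁻¹)
  have Yna : (Tm b a (-c⁻¹) : symplecticGroup (Fin m) F).1 *ᵥ ev (ng a) = ev (ng a) :=
    Tm_ev_of_ne hba hba' _ e1 e2
  apply isMon_of_mulVec
  intro q
  unfold wS
  rw [val_mul, val_mul, ← mulVec_mulVec, ← mulVec_mulVec]
  by_cases h1 : q = a
  · rw [h1, piS_a hab hab']
    refine ⟨-c⁻¹, ?_⟩
    simp only [mulVec_add, mulVec_sub, mulVec_smul, Xa, Xb, Ya, Yb]
    ext p
    simp only [Pi.add_apply, Pi.smul_apply, smul_eq_mul]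
    field_simp
    ring
  by_cases h2 : q = b
  · rw [h2, piS_b hab hab']
    refine ⟨c, ?_⟩
    simp only [mulVec_add, mulVec_sub, mulVec_smul, Xa, Xb, Ya, Yb]
    ext p
    simp only [Pi.add_apply, Pi.smul_apply, smul_eq_mul]
    field_simp
    ring
  by_cases h3 : q = ng a
  · rw [h3, piS_nga hab hab']
    refine ⟨-(sg F a * sg F b * c), ?_⟩
    simp only [mulVec_add, mulVec_sub, mulVec_smul, Xna, Xnb, Yna, Ynb]
    ext p
    simp only [Pi.add_apply, Pi.sub_apply, Pi.smul_apply, smul_eq_mul]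
    rcases sg_cases (K := F) a with h | h <;> rcases sg_cases (K := F) b with h' | h' <;>
      simp only [h, h'] <;> field_simp <;> ring
  by_cases h4 : q = ng b
  · rw [h4, piS_ngb hab hab']
    refine ⟨sg F a * sg F b * c⁻¹, ?_⟩
    simp only [mulVec_add, mulVec_sub, mulVec_smul, Xna, Xnb, Yna, Ynb]
    ext p
    simp only [Pi.add_apply, Pi.sub_apply, Pi.smul_apply, smul_eq_mul]
    rcases sg_cases (K := F) a with h | h <;> rcases sg_cases (K := F) b with h' | h' <;>
      simp only [h, h'] <;> field_simp <;> ring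
  · refine ⟨1, ?_⟩
    rw [piS_of_ne h1 h2 h3 h4, Tm_ev_of_ne hab hab' c h2 h3, Tm_ev_of_ne hba hba' _ h1 h4,
      Tm_ev_of_ne hab hab' c h2 h3, one_smul]

/-- the entries of a short root element -/
theorem TmM_apply_of_ne (t : F) {u v : Fin m ⊕ Fin m} (h1 : u ≠ v) (h2 : ¬ (u = a ∧ v = b))
    (h3 : ¬ (u = ng b ∧ v = ng a)) : TmM a b t u v = 0 := by
  unfold TmM
  rw [Matrix.sub_apply, Matrix.add_apply, Matrix.one_apply_ne h1, Matrix.single_apply,
    Matrix.single_apply, if_neg (fun h => h2 ⟨h.1.symm, h.2.symm⟩),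
    if_neg (fun h => h3 ⟨h.1.symm, h.2.symm⟩)]
  ring

include hab hab' in
/-- conjugating a short root element by a monomial element -/
theorem conj_Tm_mem_bor {n : symplecticGroup (Fin m) F} {π : Equiv.Perm (Fin m ⊕ Fin m)}
    (hn : IsMon n.1 π) (h : key (π⁻¹ a) < key (π⁻¹ b)) (t : F) :
    n⁻¹ * Tm a b t * n ∈ bor m F := by
  intro p q hpq
  rw [conj_inv_apply hn, Tm_coe hab hab']
  have hne : π p ≠ π q := by
    intro e
    have := π.injective e
    rw [this] at hpq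
    exact lt_irrefl _ hpq
  rw [TmM_apply_of_ne t hne, mul_zero, zero_mul]
  · rintro ⟨e1, e2⟩
    have h1 : π⁻¹ a = p := by rw [← e1]; simp
    have h2 : π⁻¹ b = q := by rw [← e2]; simp
    rw [h1, h2] at h
    omega
  · rintro ⟨e1, e2⟩
    have hc := hn.inv'.comm_ng
    have h1 : ng (π⁻¹ b) = p := by rw [← hc, ← e1]; simp
    have h2 : ng (π⁻¹ a) = q := by rw [← hc, ← e2]; simp
    rw [← h1, ← h2, key_ng_lt_iff] at hpq
    omega

end short

/-! ### long root elements on basis vectors -/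

section long

variable (a : Fin m ⊕ Fin m)

theorem Lm_ev_of_ne (t : F) {q : Fin m ⊕ Fin m} (h : q ≠ ng a) :
    (Lm a t : symplecticGroup (Fin m) F).1 *ᵥ ev q = ev q := by
  have h' := Lm_mulVec a t (ev q : Fin m ⊕ Fin m → F)
  rw [ev_ne h] at h'
  simpa using h'

theorem Lm_ev_nga (t : F) :
    (Lm a t : symplecticGroup (Fin m) F).1 *ᵥ ev (ng a) = ev (ng a) + t • ev a := by
  have h' := Lm_mulVec a t (ev (ng a) : Fin m ⊕ Fin m → F)
  rw [ev_self] at h'
  simpa using h'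

/-- the element `w(c) = x(c) y(-c⁻¹) x(c)` of a long root -/
noncomputable def wL (a : Fin m ⊕ Fin m) (c : F) : symplecticGroup (Fin m) F :=
  Lm a c * Lm (ng a) (-c⁻¹) * Lm a c

/-- the permutation of `wL a c` -/
def piL (a : Fin m ⊕ Fin m) : Equiv.Perm (Fin m ⊕ Fin m) := Equiv.swap a (ng a)

theorem piL_mul_self : piL a * piL a = 1 := Equiv.swap_mul_self _ _

theorem piL_inv : (piL a)⁻¹ = piL a := by
  rw [inv_eq_iff_mul_eq_one]
  exact piL_mul_self a

theorem wL_isMon {c : F} (hc : c ≠ 0) : IsMon (wL a c).1 (piL a) := by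
  have e1 : ng (ng a) = a := ng_ng a
  have Xa : (Lm a c : symplecticGroup (Fin m) F).1 *ᵥ ev a = ev a := Lm_ev_of_ne a c (ne_ng a)
  have Xna := Lm_ev_nga (F := F) a c
  have Ya : (Lm (ng a) (-c⁻¹) : symplecticGroup (Fin m) F).1 *ᵥ ev a = ev a + (-c⁻¹) • ev (ng a) := by
    have h := Lm_ev_nga (F := F) (ng a) (-c⁻¹)
    rwa [e1] at h
  have Yna : (Lm (ng a) (-c⁻¹) : symplecticGroup (Fin m) F).1 *ᵥ ev (ng a) = ev (ng a) := by
    apply Lm_ev_of_ne
    rw [e1]
    exact ng_ne a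
  apply isMon_of_mulVec
  intro q
  unfold wL piL
  rw [val_mul, val_mul, ← mulVec_mulVec, ← mulVec_mulVec]
  by_cases h1 : q = a
  · rw [h1, Equiv.swap_apply_left]
    refine ⟨-c⁻¹, ?_⟩
    simp only [mulVec_add, mulVec_sub, mulVec_smul, Xa, Xna, Ya, Yna]
    ext p
    simp only [Pi.add_apply, Pi.smul_apply, smul_eq_mul]
    field_simp
    ring
  by_cases h2 : q = ng a
  · rw [h2, Equiv.swap_apply_right]
    refine ⟨c, ?_⟩
    simp only [mulVec_add, mulVec_sub, mulVec_smul, Xa, Xna, Ya, Yna]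
    ext p
    simp only [Pi.add_apply, Pi.smul_apply, smul_eq_mul]
    field_simp
    ring
  · refine ⟨1, ?_⟩
    have h3 : q ≠ ng (ng a) := by rw [e1]; exact h1
    rw [Equiv.swap_apply_of_ne_of_ne h1 h2, Lm_ev_of_ne a c h2, Lm_ev_of_ne (ng a) _ h3,
      Lm_ev_of_ne a c h2, one_smul]

/-- the entries of a long root element -/
theorem LmM_apply_of_ne (t : F) {u v : Fin m ⊕ Fin m} (h1 : u ≠ v) (h2 : ¬ (u = a ∧ v = ng a)) :
    LmM a t u v = 0 := by
  unfold LmM
  rw [Matrix.add_apply, Matrix.one_apply_ne h1, Matrix.single_apply,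
    if_neg (fun h => h2 ⟨h.1.symm, h.2.symm⟩)]
  ring

/-- conjugating a long root element by a monomial element -/
theorem conj_Lm_mem_bor {n : symplecticGroup (Fin m) F} {π : Equiv.Perm (Fin m ⊕ Fin m)}
    (hn : IsMon n.1 π) (h : key (π⁻¹ a) < key (π⁻¹ (ng a))) (t : F) :
    n⁻¹ * Lm a t * n ∈ bor m F := by
  intro p q hpq
  rw [conj_inv_apply hn, Lm_coe]
  have hne : π p ≠ π q := by
    intro e
    have := π.injective e
    rw [this] at hpq
    exact lt_irrefl _ hpq
  rw [LmM_apply_of_ne a t hne, mul_zero, zero_mul]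
  rintro ⟨e1, e2⟩
  have h1 : π⁻¹ a = p := by rw [← e1]; simp
  have h2 : π⁻¹ (ng a) = q := by rw [← e2]; simp
  rw [h1, h2] at h
  omega

end long

end Cfsg.Agent.Helper13.SpBN
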