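import Mathlib
import Cfsg.Agent.Lib.Helper13.SpBN1

/-!
# The (B, N)-pair of the symplectic group, part 2 (helper13)

Upper triangular symplectic matrices: diagonal and adjacent entries; conjugation by the simple
reflections.
-/

set_option autoImplicit false
set_option linter.unusedSectionVars false
set_option linter.unusedVariables false

namespace Cfsg.Agent.Helper13.SpBN

open Matrix Cfsg.Agent.Helper6.SpN Cfsg.Agent.Helper25.SpRoot Cfsg.Agent.Helper25.SpM2
  Cfsg.Agent.Helper19.SpM1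

variable {m : ℕ} {F : Type*} [Field F]

theorem mul_apply_diag {g h : symplecticGroup (Fin m) F} (hg : g ∈ bor m F) (hh : h ∈ bor m F)
    (a : Fin m ⊕ Fin m) : (g * h).1 a a = g.1 a a * h.1 a a := by
  rw [val_mul, Matrix.mul_apply, Finset.sum_eq_single a]
  · intro r _ hr
    rcases lt_or_gt_of_ne (fun e => hr (key_injective e)) with h1 | h1
    · rw [hg a r h1, zero_mul]
    · rw [hh r a h1, mul_zero]
  · intro h; exact absurd (Finset.mem_univ _) h

theorem diag_ne_zero {g : symplecticGroup (Fin m) F} (hg : g ∈ bor m F) (a : Fin m ⊕ Fin m) :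
    g.1 a a ≠ 0 := by
  intro h0
  have h1 := mul_apply_diag hg ((bor m F).inv_mem hg) a
  rw [mul_inv_cancel, val_one, Matrix.one_apply_eq, h0, zero_mul] at h1
  exact one_ne_zero h1

theorem mul_apply_adj {g h : symplecticGroup (Fin m) F} (hg : g ∈ bor m F) (hh : h ∈ bor m F)
    {u v : Fin m ⊕ Fin m} (huv : key v = key u + 1) :
    (g * h).1 u v = g.1 u u * h.1 u v + g.1 u v * h.1 v v := by
  have hne : u ≠ v := fun e => by rw [e] at huv; omega
  rw [val_mul, Matrix.mul_apply, Finset.sum_eq_add u v hne]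
  · intro r _ hr
    by_cases h1 : key r < key u
    · rw [hg u r h1, zero_mul]
    · have h2 : key r ≠ key u := fun e => hr.1 (key_injective e)
      have h3 : key r ≠ key v := fun e => hr.2 (key_injective e)
      rw [hh r v (by omega), mul_zero]
  · intro h; exact absurd (Finset.mem_univ _) h
  · intro h; exact absurd (Finset.mem_univ _) h

/-- the symmetric zero of an upper triangular symplectic matrix -/
theorem extra_zero {g : symplecticGroup (Fin m) F} (hg : g ∈ bor m F) {a b : Fin m ⊕ Fin m}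
    (hkey : key b = key a + 1) (h0 : g.1 a b = 0) : g.1 (ng b) (ng a) = 0 := by
  have hk : key (ng a) = key (ng b) + 1 := by
    rw [key_ng, key_ng]
    have := key_lt b
    omega
  have hne : ng b ≠ ng a := fun e => by rw [e] at hk; omega
  have h1 := mul_apply_adj hg ((bor m F).inv_mem hg) hk
  rw [mul_inv_cancel, val_one, Matrix.one_apply_ne hne, inv_apply (g := g) (ng b) (ng a), ng_ng,
    ng_ng, h0, mul_zero, mul_zero, zero_add] at h1
  rcases mul_eq_zero.1 h1.symm with h2 | h2
  · exact h2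
  · exact absurd h2 (diag_ne_zero ((bor m F).inv_mem hg) _)

theorem mul_apply_col (g h : symplecticGroup (Fin m) F) (a b : Fin m ⊕ Fin m) :
    (g * h).1 a b = (g.1 *ᵥ (h.1 *ᵥ (ev b : Fin m ⊕ Fin m → F))) a := by
  rw [mulVec_mulVec, mulVec_ev, val_mul]

/-- conjugating an upper triangular matrix by a monomial one -/
theorem conj_mem_bor {n g : symplecticGroup (Fin m) F} {π : Equiv.Perm (Fin m ⊕ Fin m)}
    (hn : IsMon n.1 π) (hg : g ∈ bor m F)
    (h : ∀ p q, key q < key p → key (π⁻¹ p) < key (π⁻¹ q) → g.1 (π⁻¹ p) (π⁻¹ q) = 0) :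
    n * g * n⁻¹ ∈ bor m F := by
  intro p q hpq
  rw [conj_apply hn]
  have h0 : g.1 (π⁻¹ p) (π⁻¹ q) = 0 := by
    by_cases h1 : key (π⁻¹ q) < key (π⁻¹ p)
    · exact hg _ _ h1
    · have hne : key (π⁻¹ p) ≠ key (π⁻¹ q) := by
        intro e
        have := π⁻¹.injective (key_injective e)
        rw [this] at hpq
        exact lt_irrefl _ hpq
      exact h p q hpq (by omega)
  rw [h0, mul_zero, zero_mul]

theorem Tm_mem_bor {a b : Fin m ⊕ Fin m} (hab : a ≠ b) (hab' : a ≠ ng b) (h : key a < key b)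
    (t : F) : Tm a b t ∈ bor m F := by
  intro p q hpq
  rw [Tm_coe hab hab']
  apply TmM_apply_of_ne
  · intro e; rw [e] at hpq; exact lt_irrefl _ hpq
  · rintro ⟨rfl, rfl⟩; omega
  · rintro ⟨rfl, rfl⟩
    rw [key_ng_lt_iff] at hpq
    omega

theorem Lm_mem_bor {a : Fin m ⊕ Fin m} (h : key a < key (ng a)) (t : F) : Lm a t ∈ bor m F := by
  intro p q hpq
  rw [Lm_coe]
  apply LmM_apply_of_ne
  · intro e; rw [e] at hpq; exact lt_irrefl _ hpq
  · rintro ⟨rfl, rfl⟩; omega

/-! ### the short simple roots -/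

section short

variable {i i' : Fin m} (hi : i.val + 1 = i'.val)

include hi in
theorem inl_ne_inl : (Sum.inl i : Fin m ⊕ Fin m) ≠ Sum.inl i' := by
  intro e
  have := Sum.inl.inj e
  rw [this] at hi
  omega

theorem inl_ne_ng_inl : (Sum.inl i : Fin m ⊕ Fin m) ≠ ng (Sum.inl i') := by
  intro e
  cases e

include hi in
theorem key_piS (x : Fin m ⊕ Fin m) :
    key (piS (Sum.inl i) (Sum.inl i') x) =
      if key x = i.val then i.val + 1 else if key x = i.val + 1 then i.val
      else if key x = 2 * m - 2 - i.val then 2 * m - 1 - i.val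
      else if key x = 2 * m - 1 - i.val then 2 * m - 2 - i.val else key x := by
  have hab := inl_ne_inl hi
  have hab' : (Sum.inl i : Fin m ⊕ Fin m) ≠ ng (Sum.inl i') := inl_ne_ng_inl
  have hi'2 := i'.2
  have k1 : key (Sum.inl i : Fin m ⊕ Fin m) = i.val := rfl
  have k2 : key (Sum.inl i' : Fin m ⊕ Fin m) = i.val + 1 := by rw [key_inl, hi]
  have k3 : key (ng (Sum.inl i) : Fin m ⊕ Fin m) = 2 * m - 1 - i.val := by rw [key_ng, k1]
  have k4 : key (ng (Sum.inl i') : Fin m ⊕ Fin m) = 2 * m - 2 - i.val := by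
    rw [key_ng, k2]; omega
  by_cases h1 : x = Sum.inl i
  · rw [h1, piS_a hab hab', k1, k2, if_pos rfl]
  by_cases h2 : x = Sum.inl i'
  · rw [h2, piS_b hab hab', k1, k2, if_neg (by omega), if_pos rfl]
  by_cases h3 : x = ng (Sum.inl i)
  · rw [h3, piS_nga hab hab', k3, k4, if_neg (by omega), if_neg (by omega), if_neg (by omega),
      if_pos rfl]
  by_cases h4 : x = ng (Sum.inl i')
  · rw [h4, piS_ngb hab hab', k3, k4, if_neg (by omega), if_neg (by omega), if_pos rfl]
  · rw [piS_of_ne h1 h2 h3 h4]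
    have e1 : key x ≠ i.val := fun e => h1 (key_injective (by rw [e, k1]))
    have e2 : key x ≠ i.val + 1 := fun e => h2 (key_injective (by rw [e, k2]))
    have e3 : key x ≠ 2 * m - 1 - i.val := fun e => h3 (key_injective (by rw [e, k3]))
    have e4 : key x ≠ 2 * m - 2 - i.val := fun e => h4 (key_injective (by rw [e, k4]))
    rw [if_neg e1, if_neg e2, if_neg e4, if_neg e3]

include hi in
/-- the inversions of a short simple reflection -/
theorem inversion_short (p q : Fin m ⊕ Fin m) (h1 : key q < key p)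
    (h2 : key (piS (Sum.inl i) (Sum.inl i') p) < key (piS (Sum.inl i) (Sum.inl i') q)) :
    (piS (Sum.inl i) (Sum.inl i') p = Sum.inl i ∧ piS (Sum.inl i) (Sum.inl i') q = Sum.inl i') ∨
    (piS (Sum.inl i) (Sum.inl i') p = ng (Sum.inl i') ∧
      piS (Sum.inl i) (Sum.inl i') q = ng (Sum.inl i)) := by
  have hab := inl_ne_inl hi
  have hab' : (Sum.inl i : Fin m ⊕ Fin m) ≠ ng (Sum.inl i') := inl_ne_ng_inl
  have hi'2 := i'.2
  have k1 : key (Sum.inl i : Fin m ⊕ Fin m) = i.val := rfl
  have k2 : key (Sum.inl i' : Fin m ⊕ Fin m) = i.val + 1 := by rw [key_inl, hi]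
  have k3 : key (ng (Sum.inl i) : Fin m ⊕ Fin m) = 2 * m - 1 - i.val := by rw [key_ng, k1]
  have k4 : key (ng (Sum.inl i') : Fin m ⊕ Fin m) = 2 * m - 2 - i.val := by
    rw [key_ng, k2]; omega
  set π := piS (Sum.inl i : Fin m ⊕ Fin m) (Sum.inl i') with hπ
  have hinv : ∀ x, π (π x) = x := by
    intro x
    have := congrArg (fun f : Equiv.Perm (Fin m ⊕ Fin m) => f x) (piS_mul_self hab hab')
    simpa using this
  have hp := key_piS hi (π p)
  have hq := key_piS hi (π q)
  rw [← hπ, hinv] at hp hq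
  have hp' := key_lt (π p)
  have hq' := key_lt (π q)
  have key : (key (π p) = i.val ∧ key (π q) = i.val + 1) ∨
      (key (π p) = 2 * m - 2 - i.val ∧ key (π q) = 2 * m - 1 - i.val) := by
    split_ifs at hp hq <;> omega
  rcases key with ⟨e1, e2⟩ | ⟨e1, e2⟩
  · left
    exact ⟨key_injective (by rw [e1, k1]), key_injective (by rw [e2, k2])⟩
  · right
    exact ⟨key_injective (by rw [e1, k4]), key_injective (by rw [e2, k3])⟩

include hi in
/-- `B = (B ∩ s⁻¹ B s) X` for a short simple root -/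
theorem split_short {g : symplecticGroup (Fin m) F} (hg : g ∈ bor m F) :
    ∃ t : F, wS (Sum.inl i) (Sum.inl i') (1 : F) *
      (g * (Tm (Sum.inl i) (Sum.inl i') t)⁻¹) * (wS (Sum.inl i) (Sum.inl i') (1 : F))⁻¹ ∈ bor m F := by
  have hab := inl_ne_inl hi
  have hab' : (Sum.inl i : Fin m ⊕ Fin m) ≠ ng (Sum.inl i') := inl_ne_ng_inl
  have k1 : key (Sum.inl i : Fin m ⊕ Fin m) = i.val := rfl
  have k2 : key (Sum.inl i' : Fin m ⊕ Fin m) = i.val + 1 := by rw [key_inl, hi]
  set a : Fin m ⊕ Fin m := Sum.inl i with ha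
  set b : Fin m ⊕ Fin m := Sum.inl i' with hb
  refine ⟨g.1 a b / g.1 a a, ?_⟩
  set t := g.1 a b / g.1 a a with ht
  have hx : Tm a b (-t) ∈ bor m F := Tm_mem_bor hab hab' (by rw [k1, k2]; omega) _
  have hg' : g * (Tm a b t)⁻¹ ∈ bor m F := by
    rw [Tm_inv hab hab']
    exact (bor m F).mul_mem hg hx
  have h0 : (g * (Tm a b t)⁻¹).1 a b = 0 := by
    rw [Tm_inv hab hab', mul_apply_col, Tm_ev_b hab hab', mulVec_add, mulVec_smul, Pi.add_apply,
      Pi.smul_apply, mulVec_ev, mulVec_ev, ht, smul_eq_mul]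
    have := diag_ne_zero hg a
    field_simp
    ring
  apply conj_mem_bor (wS_isMon hab hab' one_ne_zero) hg'
  intro p q h1 h2
  rw [piS_inv hab hab'] at h2 ⊢
  rcases inversion_short hi p q h1 h2 with ⟨e1, e2⟩ | ⟨e1, e2⟩
  · rw [e1, e2]
    exact h0
  · rw [e1, e2]
    exact extra_zero hg' (by rw [k1, k2]) h0

end short

/-! ### the long simple root -/

section long

variable {l : Fin m} (hl : l.val + 1 = m)

include hl in
theorem key_piL (x : Fin m ⊕ Fin m) :
    key (piL (Sum.inl l) x) =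
      if key x = m - 1 then m else if key x = m then m - 1 else key x := by
  have k1 : key (Sum.inl l : Fin m ⊕ Fin m) = m - 1 := by rw [key_inl]; omega
  have k3 : key (ng (Sum.inl l) : Fin m ⊕ Fin m) = m := by rw [key_ng, k1]; omega
  unfold piL
  by_cases h1 : x = Sum.inl l
  · rw [h1, Equiv.swap_apply_left, k1, k3, if_pos rfl]
  by_cases h2 : x = ng (Sum.inl l)
  · rw [h2, Equiv.swap_apply_right, k1, k3, if_neg (by omega), if_pos rfl]
  · rw [Equiv.swap_apply_of_ne_of_ne h1 h2]
    have e1 : key x ≠ m - 1 := fun e => h1 (key_injective (by rw [e, k1]))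
    have e2 : key x ≠ m := fun e => h2 (key_injective (by rw [e, k3]))
    rw [if_neg e1, if_neg e2]

include hl in
/-- the inversion of the long simple reflection -/
theorem inversion_long (p q : Fin m ⊕ Fin m) (h1 : key q < key p)
    (h2 : key (piL (Sum.inl l) p) < key (piL (Sum.inl l) q)) :
    piL (Sum.inl l) p = Sum.inl l ∧ piL (Sum.inl l) q = ng (Sum.inl l) := by
  have k1 : key (Sum.inl l : Fin m ⊕ Fin m) = m - 1 := by rw [key_inl]; omega
  have k3 : key (ng (Sum.inl l) : Fin m ⊕ Fin m) = m := by rw [key_ng, k1]; omega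
  set π := piL (Sum.inl l : Fin m ⊕ Fin m) with hπ
  have hinv : ∀ x, π (π x) = x := by
    intro x
    have := congrArg (fun f : Equiv.Perm (Fin m ⊕ Fin m) => f x) (piL_mul_self (Sum.inl l))
    simpa using this
  have hp := key_piL hl (π p)
  have hq := key_piL hl (π q)
  rw [← hπ, hinv] at hp hq
  have key : key (π p) = m - 1 ∧ key (π q) = m := by
    split_ifs at hp hq <;> omega
  exact ⟨key_injective (by rw [key.1, k1]), key_injective (by rw [key.2, k3])⟩

include hl in
/-- `B = (B ∩ s⁻¹ B s) X` for the long simple root -/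
theorem split_long {g : symplecticGroup (Fin m) F} (hg : g ∈ bor m F) :
    ∃ t : F, wL (Sum.inl l) (1 : F) *
      (g * (Lm (Sum.inl l) t)⁻¹) * (wL (Sum.inl l) (1 : F))⁻¹ ∈ bor m F := by
  have k1 : key (Sum.inl l : Fin m ⊕ Fin m) = m - 1 := by rw [key_inl]; omega
  have k3 : key (ng (Sum.inl l) : Fin m ⊕ Fin m) = m := by rw [key_ng, k1]; omega
  set a : Fin m ⊕ Fin m := Sum.inl l with ha
  refine ⟨g.1 a (ng a) / g.1 a a, ?_⟩
  set t := g.1 a (ng a) / g.1 a a with ht
  have hx : Lm a (-t) ∈ bor m F := Lm_mem_bor (by rw [k1, k3]; omega) _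
  have hg' : g * (Lm a t)⁻¹ ∈ bor m F := by
    rw [Lm_inv]
    exact (bor m F).mul_mem hg hx
  have h0 : (g * (Lm a t)⁻¹).1 a (ng a) = 0 := by
    rw [Lm_inv, mul_apply_col, Lm_ev_nga, mulVec_add, mulVec_smul, Pi.add_apply,
      Pi.smul_apply, mulVec_ev, mulVec_ev, ht, smul_eq_mul]
    have := diag_ne_zero hg a
    field_simp
    ring
  apply conj_mem_bor (wL_isMon a one_ne_zero) hg'
  intro p q h1 h2
  rw [piL_inv] at h2 ⊢
  obtain ⟨e1, e2⟩ := inversion_long hl p q h1 h2
  rw [e1, e2]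
  exact h0

end long

end Cfsg.Agent.Helper13.SpBN
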