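import Mathlib
import Cfsg.Agent.Lib.Helper13.SpBN2

/-!
# The (B, N)-pair of the symplectic group, part 3 (helper13)

The simple roots `i : Fin m` (short for `i + 1 < m`, long for `i + 1 = m`): root elements `xr i t`,
opposite root elements `yr i t`, monomial elements `wr i c`, the simple reflections `sr i = wr i 1` and
their permutations `pr i`.
-/

set_option autoImplicit false
set_option linter.unusedSectionVars false
set_option linter.unusedVariables false

namespace Cfsg.Agent.Helper13.SpBN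

open Matrix Cfsg.Agent.Helper6.SpN Cfsg.Agent.Helper25.SpRoot Cfsg.Agent.Helper25.SpM2
  Cfsg.Agent.Helper19.SpM1

variable {m : ℕ} {F : Type*} [Field F]

/-- the first index of the simple root `i` -/
def ra (i : Fin m) : Fin m ⊕ Fin m := Sum.inl i

/-- the second index of the simple root `i` -/
def rb (i : Fin m) : Fin m ⊕ Fin m :=
  if h : i.val + 1 < m then Sum.inl ⟨i.val + 1, h⟩ else Sum.inr i

/-- the simple root elements -/
noncomputable def xr (i : Fin m) (t : F) : symplecticGroup (Fin m) F :=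
  if h : i.val + 1 < m then Tm (Sum.inl i) (Sum.inl ⟨i.val + 1, h⟩) t else Lm (Sum.inl i) t

/-- the opposite simple root elements -/
noncomputable def yr (i : Fin m) (t : F) : symplecticGroup (Fin m) F :=
  if h : i.val + 1 < m then Tm (Sum.inl ⟨i.val + 1, h⟩) (Sum.inl i) t else Lm (ng (Sum.inl i)) t

/-- the monomial elements of the simple root `i` -/
noncomputable def wr (i : Fin m) (c : F) : symplecticGroup (Fin m) F :=
  xr i c * yr i (-c⁻¹) * xr i c

/-- the simple reflections -/
noncomputable def sr (i : Fin m) : symplecticGroup (Fin m) F := wr i (1 : F)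

/-- the permutation of the simple reflection `i` -/
def pr (i : Fin m) : Equiv.Perm (Fin m ⊕ Fin m) :=
  if h : i.val + 1 < m then piS (Sum.inl i) (Sum.inl ⟨i.val + 1, h⟩) else piL (Sum.inl i)

theorem wr_short {i : Fin m} (h : i.val + 1 < m) (c : F) :
    wr i c = wS (Sum.inl i) (Sum.inl ⟨i.val + 1, h⟩) c := by
  unfold wr xr yr wS
  rw [dif_pos h, dif_pos h]

theorem wr_long {i : Fin m} (h : ¬ i.val + 1 < m) (c : F) : wr i c = wL (Sum.inl i) c := by
  unfold wr xr yr wL
  rw [dif_neg h, dif_neg h]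

theorem pr_short {i : Fin m} (h : i.val + 1 < m) :
    pr i = piS (Sum.inl i) (Sum.inl ⟨i.val + 1, h⟩) := by
  unfold pr
  rw [dif_pos h]

theorem pr_long {i : Fin m} (h : ¬ i.val + 1 < m) : pr i = piL (Sum.inl i) := by
  unfold pr
  rw [dif_neg h]

theorem short_ne {i : Fin m} (h : i.val + 1 < m) :
    (Sum.inl i : Fin m ⊕ Fin m) ≠ Sum.inl ⟨i.val + 1, h⟩ :=
  inl_ne_inl (i := i) (i' := ⟨i.val + 1, h⟩) rfl

theorem wr_isMon (i : Fin m) {c : F} (hc : c ≠ 0) : IsMon (wr i c).1 (pr i) := by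
  by_cases h : i.val + 1 < m
  · rw [wr_short h, pr_short h]
    exact wS_isMon (short_ne h) inl_ne_ng_inl hc
  · rw [wr_long h, pr_long h]
    exact wL_isMon _ hc

theorem sr_isMon (i : Fin m) : IsMon (sr (F := F) i).1 (pr i) := wr_isMon i one_ne_zero

theorem sr_mem_mon (i : Fin m) : sr (F := F) i ∈ mon m F := ⟨pr i, sr_isMon i⟩

theorem pr_mul_self (i : Fin m) : pr i * pr i = 1 := by
  by_cases h : i.val + 1 < m
  · rw [pr_short h]
    exact piS_mul_self (short_ne h) inl_ne_ng_inl
  · rw [pr_long h]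
    exact piL_mul_self _

theorem pr_inv (i : Fin m) : (pr i)⁻¹ = pr i := by
  rw [inv_eq_iff_mul_eq_one]
  exact pr_mul_self i

theorem pr_comm_ng (i : Fin m) (a : Fin m ⊕ Fin m) : pr i (ng a) = ng (pr i a) :=
  (sr_isMon (F := ℚ) i).comm_ng a

theorem pr_ra (i : Fin m) : pr i (ra i) = rb i := by
  unfold ra rb
  by_cases h : i.val + 1 < m
  · rw [pr_short h, dif_pos h]
    exact piS_a (short_ne h) inl_ne_ng_inl
  · rw [pr_long h, dif_neg h]
    exact Equiv.swap_apply_left _ _

theorem pr_rb (i : Fin m) : pr i (rb i) = ra i := by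
  have h := congrArg (fun f : Equiv.Perm (Fin m ⊕ Fin m) => f (ra i)) (pr_mul_self i)
  simp only [Equiv.Perm.mul_apply, Equiv.Perm.one_apply] at h
  rw [pr_ra] at h
  exact h

theorem key_ra (i : Fin m) : key (ra i) = i.val := rfl

theorem key_rb (i : Fin m) : key (rb i) = i.val + 1 := by
  unfold rb
  by_cases h : i.val + 1 < m
  · rw [dif_pos h]; rfl
  · rw [dif_neg h, key_inr]
    have := i.2
    omega

theorem xr_add (i : Fin m) (t u : F) : xr i t * xr i u = xr i (t + u) := by
  unfold xr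
  by_cases h : i.val + 1 < m
  · simp only [dif_pos h]
    exact Tm_add (short_ne h) inl_ne_ng_inl t u
  · simp only [dif_neg h]
    exact Lm_add _ t u

theorem xr_zero (i : Fin m) : xr i (0 : F) = 1 := by
  have := xr_add i (0 : F) 0
  rw [add_zero] at this
  exact mul_eq_left.1 this

theorem xr_inv (i : Fin m) (t : F) : (xr i t)⁻¹ = xr i (-t) := by
  rw [inv_eq_iff_mul_eq_one, xr_add, add_neg_cancel, xr_zero]

theorem xr_mem_bor (i : Fin m) (t : F) : xr i t ∈ bor m F := by
  unfold xr
  by_cases h : i.val + 1 < m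
  · simp only [dif_pos h]
    exact Tm_mem_bor (short_ne h) inl_ne_ng_inl (by rw [key_inl, key_inl]; simp) t
  · simp only [dif_neg h]
    apply Lm_mem_bor
    rw [key_ng, key_inl]
    have := i.2
    omega

/-- the action of the simple root element on the basis vector `rb i` -/
theorem xr_ev_rb (i : Fin m) (t : F) :
    (xr i t).1 *ᵥ (ev (rb i) : Fin m ⊕ Fin m → F) = ev (rb i) + t • ev (ra i) := by
  unfold xr rb ra
  by_cases h : i.val + 1 < m
  · simp only [dif_pos h]
    exact Tm_ev_b (short_ne h) inl_ne_ng_inl t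
  · simp only [dif_neg h]
    exact Lm_ev_nga (Sum.inl i) t

theorem xr_apply_ra_rb (i : Fin m) (t : F) : (xr i t).1 (ra i) (rb i) = t := by
  rw [← mulVec_ev (xr i t).1 (rb i) (ra i), xr_ev_rb, Pi.add_apply, Pi.smul_apply, ev_self, ev_ne,
    zero_add, smul_eq_mul, mul_one]
  intro e
  have h1 := key_ra i
  have h2 := key_rb i
  rw [e] at h2
  omega

theorem xr_one_ne_one (i : Fin m) : xr i (1 : F) ≠ 1 := by
  intro e
  have h := xr_apply_ra_rb (F := F) i 1
  rw [e, val_one, Matrix.one_apply_ne] at h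
  · exact zero_ne_one h
  · intro e'
    have h1 := key_ra i
    have h2 := key_rb i
    rw [e'] at h1
    omega

/-- `B = (B ∩ s⁻¹ B s) X` for the simple root `i` -/
theorem split_r (i : Fin m) {g : symplecticGroup (Fin m) F} (hg : g ∈ bor m F) :
    ∃ t : F, sr i * (g * (xr i t)⁻¹) * (sr i)⁻¹ ∈ bor m F := by
  unfold sr
  by_cases h : i.val + 1 < m
  · rw [wr_short h]
    obtain ⟨t, ht⟩ := split_short (i := i) (i' := ⟨i.val + 1, h⟩) rfl hg
    refine ⟨t, ?_⟩
    unfold xr
    simp only [dif_pos h]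
    exact ht
  · rw [wr_long h]
    have hl : i.val + 1 = m := by have := i.2; omega
    obtain ⟨t, ht⟩ := split_long hl hg
    refine ⟨t, ?_⟩
    unfold xr
    simp only [dif_neg h]
    exact ht

/-- a monomial element conjugates the simple root group or its opposite into `B` -/
theorem dich_r (i : Fin m) {n : symplecticGroup (Fin m) F} (hn : n ∈ mon m F) :
    (∀ t : F, n⁻¹ * xr i t * n ∈ bor m F) ∨ (∀ t : F, n⁻¹ * yr i t * n ∈ bor m F) := by
  obtain ⟨π, hπ⟩ := hn
  unfold xr yr
  by_cases h : i.val + 1 < m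
  · simp only [dif_pos h]
    have hab := short_ne h
    have hab' : (Sum.inl i : Fin m ⊕ Fin m) ≠ ng (Sum.inl ⟨i.val + 1, h⟩) := inl_ne_ng_inl
    have hba' : (Sum.inl ⟨i.val + 1, h⟩ : Fin m ⊕ Fin m) ≠ ng (Sum.inl i) := inl_ne_ng_inl
    rcases lt_trichotomy (key (π⁻¹ (Sum.inl i))) (key (π⁻¹ (Sum.inl ⟨i.val + 1, h⟩)))
      with h1 | h1 | h1
    · left
      intro t
      exact conj_Tm_mem_bor hab hab' hπ h1 t
    · exact absurd (π⁻¹.injective (key_injective h1)) hab
    · right
      intro t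
      exact conj_Tm_mem_bor hab.symm hba' hπ h1 t
  · simp only [dif_neg h]
    rcases lt_trichotomy (key (π⁻¹ (Sum.inl i))) (key (π⁻¹ (ng (Sum.inl i)))) with h1 | h1 | h1
    · left
      intro t
      exact conj_Lm_mem_bor _ hπ h1 t
    · exact absurd (π⁻¹.injective (key_injective h1)) (ne_ng _)
    · right
      intro t
      apply conj_Lm_mem_bor _ hπ _ t
      rw [ng_ng]
      exact h1

/-- the rank one identity `s x(t) ∈ B y(t⁻¹)` -/
theorem rank1_r (i : Fin m) {t : F} (ht : t ≠ 0) :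
    ∃ b ∈ bor m F, ∃ u : F, sr i * xr i t = b * yr i u := by
  have hw : wr i (-t) = xr i (-t) * yr i t⁻¹ * xr i (-t) := by
    unfold wr
    rw [inv_neg, neg_neg]
  refine ⟨sr i * (wr i (-t))⁻¹ * xr i (-t), ?_, t⁻¹, ?_⟩
  · apply (bor m F).mul_mem _ (xr_mem_bor i _)
    apply mem_bor_of_isMon_one
    have := (sr_isMon (F := F) i).mul (wr_isMon i (neg_ne_zero.2 ht)).inv'
    rw [mul_inv_cancel] at this
    exact this
  · have h1 : xr i (-t) * yr i t⁻¹ = wr i (-t) * xr i t := by
      rw [hw, mul_assoc, xr_add, neg_add_cancel, xr_zero, mul_one]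
    rw [mul_assoc, mul_assoc, h1, ← mul_assoc (wr i (-t))⁻¹, inv_mul_cancel, one_mul]

/-- `J` conjugates the opposite simple root elements into `B` -/
theorem conj_yr_mem_bor {n : symplecticGroup (Fin m) F} {π : Equiv.Perm (Fin m ⊕ Fin m)}
    (hn : IsMon n.1 π) (hπ : ∀ a, π⁻¹ a = ng a) (i : Fin m) (t : F) :
    n⁻¹ * yr i t * n ∈ bor m F := by
  unfold yr
  by_cases h : i.val + 1 < m
  · simp only [dif_pos h]
    have hab := short_ne h
    have hba' : (Sum.inl ⟨i.val + 1, h⟩ : Fin m ⊕ Fin m) ≠ ng (Sum.inl i) := inl_ne_ng_inl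
    apply conj_Tm_mem_bor hab.symm hba' hn _ t
    rw [hπ, hπ, key_ng_lt_iff, key_inl, key_inl]
    simp
  · simp only [dif_neg h]
    apply conj_Lm_mem_bor _ hn _ t
    rw [hπ, hπ, ng_ng, key_ng, key_inl]
    have := i.2
    omega

end Cfsg.Agent.Helper13.SpBN
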