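import Mathlib
import Cfsg.Agent.Lib.Helper13.SpBN3
import Cfsg.Agent.Lib.Helper13.BNAbs
import Cfsg.Agent.Lib.Helper2.SpBNInj
import Cfsg.Agent.Lib.Helper16.SpBNWGen
import Cfsg.Agent.Lib.Helper23.SpBNGen
import Cfsg.Agent.Lib.Helper7.SpBNCard

/-!
# The (B, N)-pair of the symplectic group, part 4 (helper13)

The structure `spBN m F : Cfsg.BNPair (Matrix.symplecticGroup (Fin m) F)`, the longest element, the
Steinberg character.
-/

set_option autoImplicit false
set_option linter.unusedSectionVars false
set_option linter.unusedVariables false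

namespace Cfsg.Agent.Helper13.SpBN

open Matrix Cfsg.Agent.Helper6.SpN Cfsg.Agent.Helper25.SpRoot Cfsg.Agent.Helper25.SpM2
  Cfsg.Agent.Helper19.SpM1 Cfsg.Agent.Helper13.BNAbs Cfsg.Agent.Helper23.SpBNGen
  Cfsg.Agent.Helper2.SpBNInj Cfsg.Agent.Helper16.SpBNWGen

variable {m : ℕ} {F : Type*} [Field F]

/-- the rank one datum of the simple root `i` -/
theorem rankOne_r (i : Fin m) :
    RankOne (bor m F) (mon m F) (sr i) (Set.range (xr (F := F) i)) (Set.range (yr (F := F) i)) where
  X_sub := by
    rintro _ ⟨t, rfl⟩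
    exact xr_mem_bor i t
  split := by
    intro b hb
    obtain ⟨t, ht⟩ := split_r i hb
    exact ⟨xr i t, ⟨t, rfl⟩, ht⟩
  dich := by
    intro n hn
    rcases dich_r i hn with h | h
    · left
      rintro _ ⟨t, rfl⟩
      exact h t
    · right
      rintro _ ⟨t, rfl⟩
      exact h t
  rank1 := by
    rintro _ ⟨t, rfl⟩
    by_cases ht : t = 0
    · left
      rw [ht, xr_zero]
    · right
      obtain ⟨b, hb, u, hu⟩ := rank1_r i ht
      exact ⟨b, hb, yr i u, ⟨u, rfl⟩, hu⟩

/-- words in the simple reflections -/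
theorem isMon_word (l : List (Fin m)) :
    IsMon ((l.map (sr (F := F))).prod).1 (l.map pr).prod := by
  induction l with
  | nil => exact isMon_one
  | cons i l ih =>
    rw [List.map_cons, List.prod_cons, List.map_cons, List.prod_cons]
    exact (sr_isMon i).mul ih

theorem word_mem_closure (l : List (Fin m)) :
    (l.map (sr (F := F))).prod ∈ Subgroup.closure (Set.range (sr (m := m) (F := F))) := by
  apply Subgroup.list_prod_mem
  intro x hx
  rw [List.mem_map] at hx
  obtain ⟨i, _, rfl⟩ := hx
  exact Subgroup.subset_closure ⟨i, rfl⟩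

theorem closure_sup_eq :
    Subgroup.closure (Set.range (sr (m := m) (F := F))) ⊔ (bor m F ⊓ mon m F) = mon m F := by
  apply le_antisymm
  · apply sup_le
    · rw [Subgroup.closure_le]
      rintro _ ⟨i, rfl⟩
      exact sr_mem_mon i
    · exact inf_le_right
  · rintro n ⟨π, hπ⟩
    obtain ⟨l, hl⟩ := exists_word π hπ.comm_ng
    set n' := (l.map (sr (F := F))).prod with hn'
    have h1 : IsMon n'.1 π := by rw [hl]; exact isMon_word l
    have h2 : n'⁻¹ * n ∈ tor m F := by
      have := h1.inv'.mul hπ
      rw [inv_mul_cancel] at this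
      exact this
    have h3 : n = n' * (n'⁻¹ * n) := by group
    rw [h3]
    apply Subgroup.mul_mem
    · exact Subgroup.mem_sup_left (word_mem_closure l)
    · apply Subgroup.mem_sup_right
      rw [← tor_eq_inf]
      exact h2

/-- the (B, N)-pair of the symplectic group -/
noncomputable def spBN (m : ℕ) (F : Type*) [Field F] : Cfsg.BNPair (symplecticGroup (Fin m) F) where
  B := bor m F
  N := mon m F
  S := Set.range (sr (m := m) (F := F))
  sup_eq_top := bor_sup_mon
  conj_mem := fun n hn t ht => conj_mem_bor_of_mon hn ht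
  subset := by
    rintro _ ⟨i, rfl⟩
    exact sr_mem_mon i
  sq_mem := by
    rintro _ ⟨i, rfl⟩
    apply mem_bor_of_isMon_one
    have := (sr_isMon (F := F) i).mul (sr_isMon (F := F) i)
    rw [pr_mul_self] at this
    exact this
  inj := by
    rintro _ ⟨i, rfl⟩ _ ⟨j, rfl⟩ h
    have h1 := (sr_isMon (F := F) i).inv'.mul (sr_isMon (F := F) j)
    have h2 := perm_eq_one_of_mem_bor h1 h
    rw [inv_mul_eq_one] at h2
    rw [pr_injective h2]
  closure_sup := closure_sup_eq
  mul_mem_union := by
    rintro _ ⟨i, rfl⟩ n hn b hb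
    exact (rankOne_r i).mul_mem_union n hn b hb
  conj_ne := by
    rintro _ ⟨i, rfl⟩ h
    have hx : xr i (1 : F) ∈ (bor m F : Set (symplecticGroup (Fin m) F)) := xr_mem_bor i 1
    have h1 : sr i * xr i (1 : F) * sr i ∈
        (fun b : symplecticGroup (Fin m) F => sr i * b * sr i) ''
          (bor m F : Set (symplecticGroup (Fin m) F)) := ⟨_, hx, rfl⟩
    rw [h] at h1
    have hsq : sr (F := F) i * sr i ∈ bor m F := by
      apply mem_bor_of_isMon_one
      have := (sr_isMon (F := F) i).mul (sr_isMon (F := F) i)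
      rw [pr_mul_self] at this
      exact this
    have h2 : sr i * xr i (1 : F) * (sr i)⁻¹ ∈ bor m F := by
      have e : sr i * xr i (1 : F) * (sr i)⁻¹ = (sr i * xr i (1 : F) * sr i) * (sr i * sr i)⁻¹ := by
        group
      rw [e]
      exact (bor m F).mul_mem h1 ((bor m F).inv_mem hsq)
    have h3 := h2 (rb i) (ra i) (by rw [key_ra, key_rb]; omega)
    rw [conj_apply (sr_isMon i), pr_inv, pr_rb, pr_ra, xr_apply_ra_rb, mul_one] at h3
    rcases mul_eq_zero.1 h3 with h4 | h4
    · have := (sr_isMon (F := F) i).apply_ne_zero (ra i)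
      rw [pr_ra] at this
      exact this h4
    · have := (sr_isMon (F := F) i).inv'.apply_ne_zero (ra i)
      rw [pr_inv, pr_ra] at this
      exact this h4

noncomputable instance : Fintype ↥(spBN m F).S :=
  (Set.finite_range (sr (m := m) (F := F))).fintype

/-- the representative of the longest element -/
noncomputable def n0 (m : ℕ) (F : Type*) [Field F] : ↥(spBN m F).N :=
  ⟨SymplecticGroup.symJ (Fin m) F, symJ_mem_mon⟩

/-- the index of a simple reflection -/
noncomputable def idx (s : ↥(spBN m F).S) : Fin m := Classical.choose s.2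

theorem sr_idx (s : ↥(spBN m F).S) : sr (idx s) = (s : symplecticGroup (Fin m) F) :=
  Classical.choose_spec s.2

open Cfsg.Agent.Helper2.WordLen Cfsg.Agent.Helper2.BN Cfsg.Agent.Helper17.BNCox in
theorem n0_allDesc [Finite F] (t : ↥(spBN m F).S) :
    ℓ (spBN m F) (π (spBN m F) (n0 m F) * σ (spBN m F) t) < ℓ (spBN m F) (π (spBN m F) (n0 m F)) := by
  have : Finite (symplecticGroup (Fin m) F) := by
    apply Finite.of_injective (fun g : symplecticGroup (Fin m) F => g.1) Subtype.val_injective
  apply allDesc_of_rankOne (spBN m F) (n0 m F) (fun s => Set.range (xr (F := F) (idx s)))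
    (fun s => Set.range (yr (F := F) (idx s)))
  · intro s
    have := rankOne_r (F := F) (idx s)
    rw [sr_idx] at this
    exact this
  · intro s
    exact ⟨xr (idx s) 1, ⟨1, rfl⟩, xr_one_ne_one _⟩
  · rintro s _ ⟨u, rfl⟩
    exact conj_yr_mem_bor symJ_isMon ngPerm_inv_apply (idx s) u

/-- `B ∩ n₀ B n₀⁻¹` is the diagonal subgroup -/
theorem mem_tor_iff_conj (x : symplecticGroup (Fin m) F) (hx : x ∈ bor m F) :
    x ∈ tor m F ↔ (SymplecticGroup.symJ (Fin m) F)⁻¹ * x * SymplecticGroup.symJ (Fin m) F ∈ bor m F := by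
  constructor
  · intro h
    have h1 := conj_mem_bor_of_mon ((mon m F).inv_mem symJ_mem_mon) (t := x)
      (by rw [← tor_eq_inf]; exact h)
    rwa [inv_inv] at h1
  · intro h
    rw [mem_tor_iff']
    intro a b hab
    rcases lt_or_gt_of_ne (fun e => hab (key_injective e)) with h1 | h1
    · have h2 := h (ng a) (ng b) ((key_ng_lt_iff _ _).2 h1)
      rw [conj_inv_apply symJ_isMon, ngPerm_apply, ngPerm_apply, ng_ng, ng_ng] at h2
      rcases mul_eq_zero.1 h2 with h3 | h3
      · rcases mul_eq_zero.1 h3 with h4 | h4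
        · have := (symJ_isMon (m := m) (F := F)).inv'.apply_ne_zero a
          rw [ngPerm_inv_apply] at this
          exact absurd h4 this
        · exact h4
      · have := (symJ_isMon (m := m) (F := F)).apply_ne_zero (ng b)
        rw [ngPerm_apply, ng_ng] at this
        exact absurd h3 this
    · exact hx a b h1

end Cfsg.Agent.Helper13.SpBN
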