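import Mathlib
import Cfsg.Agent.Lib.Helper13.SpBN4
import Cfsg.Agent.Lib.Helper2.SpCenter
import Cfsg.Agent.Lib.Helper23.SpStFinal

/-!
# The Steinberg character of the symplectic group (helper13)
-/

set_option autoImplicit false
set_option linter.unusedSectionVars false
set_option linter.unusedVariables false

namespace Cfsg.Agent.Helper13.SpBN

open Matrix Cfsg.Agent.Helper6.SpN Cfsg.Agent.Helper13.BNAbs Cfsg.Agent.Helper23.SpBNGen
  Cfsg.Agent.Helper2.WordLen Cfsg.Agent.Helper2.BN Cfsg.Agent.Helper17.BNCox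

variable {m : ℕ} {F : Type*} [Field F]

theorem fixedPointCharacter_one_eq {G : Type*} [Group G] (H : Subgroup G) :
    Cfsg.fixedPointCharacter H 1 = (H.index : ℂ) := by
  unfold Cfsg.fixedPointCharacter
  rw [Subgroup.index_eq_card]
  congr 1
  apply Nat.card_congr
  exact Equiv.subtypeUnivEquiv (fun c => by rw [MulAction.mem_fixedBy, one_smul])

theorem fixedPointCharacter_central_eq {G : Type*} [Group G] (H : Subgroup G) (z : G)
    (hz : z ∈ Subgroup.center G) (hzH : z ∈ H) :
    Cfsg.fixedPointCharacter H z = Cfsg.fixedPointCharacter H 1 := by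
  unfold Cfsg.fixedPointCharacter
  have hset : MulAction.fixedBy (G ⧸ H) z = MulAction.fixedBy (G ⧸ H) (1 : G) := by
    ext x
    simp only [MulAction.mem_fixedBy, one_smul, iff_true]
    induction x using QuotientGroup.induction_on with
    | H g =>
      show ((z * g : G) : G ⧸ H) = (g : G ⧸ H)
      rw [QuotientGroup.eq]
      have hc : z * g = g * z := (Subgroup.mem_center_iff.1 hz g).symm
      have : (z * g)⁻¹ * g = z⁻¹ := by
        rw [hc]; group
      rw [this]
      exact H.inv_mem hzH
  rw [hset]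

theorem finite_sp [Finite F] : Finite (symplecticGroup (Fin m) F) :=
  Finite.of_injective (fun g : symplecticGroup (Fin m) F => g.1) Subtype.val_injective

/-- the degree of the Steinberg character -/
theorem St_one [Fintype F] :
    St (spBN m F) 1 = ((Fintype.card F ^ (m ^ 2) : ℕ) : ℂ) := by
  have : Finite (symplecticGroup (Fin m) F) := finite_sp
  have h := St_apply_B (spBN m F) (n0 m F) n0_allDesc (tor m F) mem_tor_iff_conj
    (1 : ↥(spBN m F).B)
  rw [OneMemClass.coe_one, fixedPointCharacter_one_eq] at h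
  rw [h]
  congr 1
  have h1 := Subgroup.card_mul_index ((tor m F).subgroupOf (bor m F))
  have h2 : Nat.card ↥((tor m F).subgroupOf (bor m F)) = Nat.card ↥(tor m F) :=
    Nat.card_congr (Subgroup.subgroupOfEquivOfLe tor_le_bor).toEquiv
  rw [h2, Cfsg.Agent.Helper7.SpBNCard.card_tor, Cfsg.Agent.Helper7.SpBNCard.card_bor] at h1
  have hq : 0 < (Fintype.card F - 1) ^ m := by
    apply pow_pos
    have := Fintype.one_lt_card (α := F)
    omega
  show ((tor m F).subgroupOf (bor m F)).index = Fintype.card F ^ (m ^ 2)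
  apply Nat.eq_of_mul_eq_mul_left hq
  rw [h1, mul_comm]

/-- the centre acts trivially -/
theorem St_center (hm : 1 ≤ m) (z : symplecticGroup (Fin m) F)
    (hz : z ∈ Subgroup.center (symplecticGroup (Fin m) F)) :
    St (spBN m F) z = St (spBN m F) 1 := by
  haveI : Nonempty (Fin m) := ⟨⟨0, by omega⟩⟩
  have hzB : z ∈ bor m F := by
    rcases (Cfsg.Agent.Helper2.Sp.mem_center_iff z).1 hz with h | h
    · rw [h]; exact (bor m F).one_mem
    · rw [h]
      intro a b hab
      have hne : a ≠ b := fun e => by rw [e] at hab; exact lt_irrefl _ hab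
      show (Cfsg.Agent.Helper2.Sp.negOne (Fin m) F).1 a b = 0
      rw [show (Cfsg.Agent.Helper2.Sp.negOne (Fin m) F).1 = -1 from Cfsg.Agent.Helper2.Sp.negOne_coe,
        Matrix.neg_apply, Matrix.one_apply_ne hne, neg_zero]
  unfold St
  apply Finset.sum_congr rfl
  intro A _
  congr 1
  exact fixedPointCharacter_central_eq _ z hz (B_le_par (spBN m F) _ hzB)

/-- the Steinberg character of `PSp_{2m}(q)` -/
theorem steinberg_PSp {F : Type*} [Field F] [Fintype F] (p : ℕ) [Fact p.Prime] [CharP F p] (m : ℕ)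
    (hm : 1 ≤ m) : ∃ χ : Cfsg.PSp m F → ℂ, Cfsg.IsIrrCharacter (Cfsg.PSp m F) χ ∧
      ∀ P : Sylow p (Cfsg.PSp m F), χ 1 = Nat.card P ∧
        ∀ x : Cfsg.PSp m F, x ∈ P → x ≠ 1 → χ x = 0 := by
  have : Finite (symplecticGroup (Fin m) F) := finite_sp
  letI : Fintype (symplecticGroup (Fin m) F) := Fintype.ofFinite _
  exact Cfsg.Agent.Helper23.SpStFinal.s2545_of_char p m hm (St (spBN m F)) (St_irr (spBN m F))
    St_one (St_center hm)

end Cfsg.Agent.Helper13.SpBN
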