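import Mathlib
import Cfsg.Agent.Lib.Helper13.BNAbs
import Cfsg.Agent.Lib.Helper13.SpBN5

/-!
# Local (B, N) data: a (B, N)-pair of the subgroup generated by `B` and `N` (helper13)
-/

set_option autoImplicit false
set_option linter.unusedSectionVars false
set_option linter.unusedVariables false

namespace Cfsg.Agent.Helper13.SdP

open Cfsg Cfsg.Agent.Helper13.BNAbs
  Cfsg.Agent.Helper2.WordLen Cfsg.Agent.Helper2.BN Cfsg.Agent.Helper17.BNCox

variable {G : Type*} [Group G]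

/-- local (B, N) data inside a group: all the axioms of a (B, N)-pair but the generation of the group -/
structure BNLoc (B N : Subgroup G) (S : Set G) : Prop where
  conj_mem : ∀ n ∈ N, ∀ t ∈ B ⊓ N, n * t * n⁻¹ ∈ B
  subset : S ⊆ (N : Set G)
  sq_mem : ∀ s ∈ S, s * s ∈ B
  inj : ∀ s ∈ S, ∀ s' ∈ S, s⁻¹ * s' ∈ B → s = s'
  closure_sup : Subgroup.closure S ⊔ (B ⊓ N) = N
  mul_mem_union : ∀ s ∈ S, ∀ n ∈ N, ∀ b ∈ B,
    s * b * n ∈ DoubleCoset.doubleCoset (s * n) (B : Set G) B ∪ DoubleCoset.doubleCoset n (B : Set G) B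
  conj_ne : ∀ s ∈ S, (fun b : G => s * b * s) '' (B : Set G) ≠ (B : Set G)

variable {B N : Subgroup G} {S : Set G}

theorem mem_doubleCoset_sub {H : Subgroup G} (hB : B ≤ H) (x y : H)
    (h : (x : G) ∈ DoubleCoset.doubleCoset (y : G) (B : Set G) B) :
    x ∈ DoubleCoset.doubleCoset y ((B.subgroupOf H : Subgroup H) : Set H) (B.subgroupOf H) := by
  rw [DoubleCoset.mem_doubleCoset] at h ⊢
  obtain ⟨b, hb, b', hb', e⟩ := h
  refine ⟨⟨b, hB hb⟩, ?_, ⟨b', hB hb'⟩, ?_, ?_⟩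
  · exact hb
  · exact hb'
  · apply Subtype.ext
    exact e

/-- the (B, N)-pair of the subgroup generated by `B` and `N` -/
def BNLoc.pair (h : BNLoc B N S) : Cfsg.BNPair ↥(B ⊔ N) where
  B := B.subgroupOf (B ⊔ N)
  N := N.subgroupOf (B ⊔ N)
  S := {s | (s : G) ∈ S}
  sup_eq_top := by
    rw [← Subgroup.subgroupOf_sup le_sup_left le_sup_right, Subgroup.subgroupOf_self]
  conj_mem := by
    intro n hn t ht
    rw [Subgroup.mem_subgroupOf] at hn ⊢
    exact h.conj_mem n hn t ⟨ht.1, ht.2⟩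
  subset := by
    intro s hs
    exact h.subset hs
  sq_mem := by
    intro s hs
    exact h.sq_mem s hs
  inj := by
    intro s hs s' hs' hss
    apply Subtype.ext
    exact h.inj s hs s' hs' hss
  closure_sup := by
    apply Subgroup.map_injective (Subgroup.subtype_injective (B ⊔ N))
    rw [Subgroup.map_sup, MonoidHom.map_closure, Subgroup.map_inf _ _ _ (Subgroup.subtype_injective _),
      Subgroup.subgroupOf_map_subtype, Subgroup.subgroupOf_map_subtype,
      inf_eq_left.2 (le_sup_left : B ≤ B ⊔ N), inf_eq_left.2 (le_sup_right : N ≤ B ⊔ N)]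
    have hS : (⇑(B ⊔ N).subtype) '' {s : ↥(B ⊔ N) | (s : G) ∈ S} = S := by
      ext x
      constructor
      · rintro ⟨s, hs, rfl⟩
        exact hs
      · intro hx
        exact ⟨⟨x, (le_sup_right : N ≤ B ⊔ N) (h.subset hx)⟩, hx, rfl⟩
    rw [hS]
    exact h.closure_sup
  mul_mem_union := by
    intro s hs n hn b hb
    rcases h.mul_mem_union s hs n hn b hb with h1 | h1
    · left
      exact mem_doubleCoset_sub le_sup_left (s * b * n) (s * n) h1
    · right
      exact mem_doubleCoset_sub le_sup_left (s * b * n) n h1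
  conj_ne := by
    intro s hs e
    apply h.conj_ne s hs
    ext x
    constructor
    · rintro ⟨b, hb, rfl⟩
      have h1 : s * ⟨b, (le_sup_left : B ≤ B ⊔ N) hb⟩ * s ∈
          (fun b : ↥(B ⊔ N) => s * b * s) '' ((B.subgroupOf (B ⊔ N) : Subgroup ↥(B ⊔ N)) : Set ↥(B ⊔ N)) :=
        ⟨_, hb, rfl⟩
      rw [e] at h1
      exact h1
    · intro hx
      have h1 : (⟨x, (le_sup_left : B ≤ B ⊔ N) hx⟩ : ↥(B ⊔ N)) ∈
          ((B.subgroupOf (B ⊔ N) : Subgroup ↥(B ⊔ N)) : Set ↥(B ⊔ N)) := hx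
      rw [← e] at h1
      obtain ⟨b, hb, hbx⟩ := h1
      exact ⟨b, hb, congrArg Subtype.val hbx⟩

theorem BNLoc.pair_B (h : BNLoc B N S) : h.pair.B = B.subgroupOf (B ⊔ N) := rfl

theorem BNLoc.pair_N (h : BNLoc B N S) : h.pair.N = N.subgroupOf (B ⊔ N) := rfl

theorem BNLoc.pair_S (h : BNLoc B N S) : h.pair.S = {s : ↥(B ⊔ N) | (s : G) ∈ S} := rfl

/-- restricting rank one data to a subgroup -/
theorem rankOne_inf {s : G} {X Y : Set G} (h : RankOne B N s X Y) (K : Subgroup G) (hs : s ∈ K)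
    (hX : ∀ x ∈ X, x ∈ K) (hY : ∀ y ∈ Y, y ∈ K) {N' : Subgroup G} (hN : N' ≤ N) (hNK : N' ≤ K) :
    RankOne (B ⊓ K) N' s X Y where
  X_sub := fun x hx => ⟨h.X_sub x hx, hX x hx⟩
  split := by
    rintro b ⟨hb, hbK⟩
    obtain ⟨x, hx, hx'⟩ := h.split b hb
    exact ⟨x, hx, hx', K.mul_mem (K.mul_mem hs (K.mul_mem hbK (K.inv_mem (hX x hx)))) (K.inv_mem hs)⟩
  dich := by
    intro n hn
    have hnK := hNK hn
    rcases h.dich n (hN hn) with h1 | h1
    · left
      intro x hx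
      exact ⟨h1 x hx, K.mul_mem (K.mul_mem (K.inv_mem hnK) (hX x hx)) hnK⟩
    · right
      intro y hy
      exact ⟨h1 y hy, K.mul_mem (K.mul_mem (K.inv_mem hnK) (hY y hy)) hnK⟩
  rank1 := by
    intro x hx
    rcases h.rank1 x hx with h1 | ⟨b, hb, y, hy, e⟩
    · left; exact h1
    · right
      refine ⟨b, ⟨hb, ?_⟩, y, hy, e⟩
      have : b = s * x * y⁻¹ := by rw [e]; group
      rw [this]
      exact K.mul_mem (K.mul_mem hs (hX x hx)) (K.inv_mem (hY y hy))

/-- rank one data inside a subgroup -/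
theorem rankOne_sub {s : G} {X Y : Set G} (h : RankOne B N s X Y) {H : Subgroup G} (hB : B ≤ H)
    (hs : s ∈ H) (hY : ∀ y ∈ Y, y ∈ H) :
    RankOne (B.subgroupOf H) (N.subgroupOf H) (⟨s, hs⟩ : H) (Subtype.val ⁻¹' X) (Subtype.val ⁻¹' Y) where
  X_sub := fun x hx => h.X_sub x hx
  split := by
    intro b hb
    obtain ⟨x, hx, hx'⟩ := h.split b hb
    exact ⟨⟨x, hB (h.X_sub x hx)⟩, hx, hx'⟩
  dich := by
    intro n hn
    rcases h.dich n hn with h1 | h1
    · left
      intro x hx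
      exact h1 x hx
    · right
      intro y hy
      exact h1 y hy
  rank1 := by
    intro x hx
    rcases h.rank1 x hx with h1 | ⟨b, hb, y, hy, e⟩
    · left
      apply Subtype.ext
      exact h1
    · right
      refine ⟨⟨b, hB hb⟩, hb, ⟨y, hY y hy⟩, hy, ?_⟩
      apply Subtype.ext
      exact e

/-- the degree of the Steinberg character of local (B, N) data -/
theorem St_one_loc (h : BNLoc B N S) [Finite ↥(B ⊔ N)] [Fintype ↥h.pair.S] (X Y : G → Set G)
    (hR : ∀ s ∈ S, RankOne B N s (X s) (Y s)) (hYH : ∀ s ∈ S, ∀ y ∈ Y s, y ∈ B ⊔ N)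
    (hne : ∀ s ∈ S, ∃ x ∈ X s, x ≠ 1) (n₀ : G) (hn₀ : n₀ ∈ N)
    (hY : ∀ s ∈ S, ∀ y ∈ Y s, n₀⁻¹ * y * n₀ ∈ B) (T : Subgroup G) (hTB : T ≤ B)
    (hT : ∀ x ∈ B, x ∈ T ↔ n₀⁻¹ * x * n₀ ∈ B) :
    St h.pair 1 = ((T.subgroupOf B).index : ℂ) := by
  have hNH : N ≤ B ⊔ N := le_sup_right
  have hBH : B ≤ B ⊔ N := le_sup_left
  let n₀' : h.pair.N := ⟨⟨n₀, hNH hn₀⟩, hn₀⟩
  have hall : ∀ t : h.pair.S, ℓ h.pair (π h.pair n₀' * σ h.pair t) < ℓ h.pair (π h.pair n₀') := by
    apply allDesc_of_rankOne h.pair n₀' (fun s => Subtype.val ⁻¹' X ((s : ↥(B ⊔ N)) : G))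
      (fun s => Subtype.val ⁻¹' Y ((s : ↥(B ⊔ N)) : G))
    · intro s
      exact rankOne_sub (hR _ s.2) hBH (s : ↥(B ⊔ N)).2 (hYH _ s.2)
    · intro s
      obtain ⟨x, hx, hx1⟩ := hne _ s.2
      refine ⟨⟨x, hBH ((hR _ s.2).X_sub x hx)⟩, hx, ?_⟩
      intro e
      exact hx1 (congrArg Subtype.val e)
    · intro s y hy
      exact hY _ s.2 _ hy
  have h1 := St_apply_B h.pair n₀' hall (T.subgroupOf (B ⊔ N))
    (by
      intro x hx
      exact hT _ hx)
    (1 : h.pair.B)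
  rw [OneMemClass.coe_one, Cfsg.Agent.Helper13.SpBN.fixedPointCharacter_one_eq] at h1
  rw [h1]
  congr 1
  show ((T.subgroupOf (B ⊔ N)).subgroupOf (B.subgroupOf (B ⊔ N))).index = (T.subgroupOf B).index
  exact Subgroup.relIndex_subgroupOf hBH

/-- elements all of whose conjugates lie in `B` act trivially -/
theorem St_eq_of_conj_mem [Finite G] (P : Cfsg.BNPair G) [Fintype ↥P.S] (z : G) (hz : ∀ g : G, g⁻¹ * z * g ∈ P.B) :
    St P z = St P 1 := by
  unfold St
  apply Finset.sum_congr rfl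
  intro A _
  congr 1
  unfold Cfsg.fixedPointCharacter
  have hset : MulAction.fixedBy (G ⧸ par P (↑A : Set P.S)) z =
      MulAction.fixedBy (G ⧸ par P (↑A : Set P.S)) (1 : G) := by
    ext x
    simp only [MulAction.mem_fixedBy, one_smul, iff_true]
    induction x using QuotientGroup.induction_on with
    | H g =>
      show ((z * g : G) : G ⧸ par P (↑A : Set P.S)) = (g : G ⧸ par P (↑A : Set P.S))
      rw [QuotientGroup.eq]
      have : (z * g)⁻¹ * g = (g⁻¹ * z * g)⁻¹ := by group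
      rw [this]
      exact (par P _).inv_mem (B_le_par P _ (hz g))
  rw [hset]

end Cfsg.Agent.Helper13.SdP
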