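import Mathlib
import Cfsg.Agent.Lib.Helper13.SuBN2

/-!
# The (B, N)-pair of the special unitary group, part 3 (helper13)

The inversions of the simple reflections and the decompositions `B = (B ∩ s⁻¹ B s) X` for the short and
the long simple roots.
-/

set_option autoImplicit false
set_option linter.unusedSectionVars false
set_option linter.unusedVariables false

namespace Cfsg.Agent.Helper13.SuBN

open Matrix

variable {n : ℕ} {F : Type*} [Field F] {φ : F →+* F}

/-! ### the short simple roots -/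

section short

variable {a b : Fin n} (hab1 : b.val = a.val + 1) (hb : 2 * b.val + 1 < n)

include hab1 hb in
theorem short_ne : a ≠ b ∧ a ≠ Fin.rev b ∧ a ≠ Fin.rev a ∧ b ≠ Fin.rev b := by
  refine ⟨?_, ?_, ?_, ?_⟩
  · intro e
    have h := congrArg Fin.val e
    omega
  · intro e
    have h := congrArg Fin.val e
    rw [Fin.val_rev] at h
    omega
  · intro e
    have h := congrArg Fin.val e
    rw [Fin.val_rev] at h
    omega
  · intro e
    have h := congrArg Fin.val e
    rw [Fin.val_rev] at h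
    omega

include hab1 hb in
theorem val_piS (x : Fin n) :
    (piS a b x).val =
      if x.val = a.val then a.val + 1 else if x.val = a.val + 1 then a.val
      else if x.val = n - 2 - a.val then n - 1 - a.val
      else if x.val = n - 1 - a.val then n - 2 - a.val else x.val := by
  obtain ⟨hab, hab', ha, hbb⟩ := short_ne hab1 hb
  have k1 : (Fin.rev a).val = n - 1 - a.val := by rw [Fin.val_rev]; omega
  have k2 : (Fin.rev b).val = n - 2 - a.val := by rw [Fin.val_rev]; omega
  by_cases h1 : x = a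
  · rw [h1, piS_a hab hab' ha hbb, hab1, if_pos rfl]
  by_cases h2 : x = b
  · rw [h2, piS_b hab hab' ha hbb, hab1, if_neg (by omega), if_pos rfl]
  by_cases h3 : x = Fin.rev a
  · rw [h3, piS_ra hab hab' ha hbb, k1, k2, if_neg (by omega), if_neg (by omega),
      if_neg (by omega), if_pos rfl]
  by_cases h4 : x = Fin.rev b
  · rw [h4, piS_rb hab hab' ha hbb, k1, k2, if_neg (by omega), if_neg (by omega), if_pos rfl]
  · rw [piS_of_ne h1 h2 h3 h4]
    have e1 : x.val ≠ a.val := fun e => h1 (Fin.ext e)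
    have e2 : x.val ≠ a.val + 1 := fun e => h2 (Fin.ext (by rw [e, hab1]))
    have e3 : x.val ≠ n - 1 - a.val := fun e => h3 (Fin.ext (by rw [e, k1]))
    have e4 : x.val ≠ n - 2 - a.val := fun e => h4 (Fin.ext (by rw [e, k2]))
    rw [if_neg e1, if_neg e2, if_neg e4, if_neg e3]

include hab1 hb in
/-- the inversions of a short simple reflection -/
theorem inversion_short (p q : Fin n) (h1 : q < p) (h2 : piS a b p < piS a b q) :
    (piS a b p = a ∧ piS a b q = b) ∨ (piS a b p = Fin.rev b ∧ piS a b q = Fin.rev a) := by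
  obtain ⟨hab, hab', ha, hbb⟩ := short_ne hab1 hb
  have k1 : (Fin.rev a).val = n - 1 - a.val := by rw [Fin.val_rev]; omega
  have k2 : (Fin.rev b).val = n - 2 - a.val := by rw [Fin.val_rev]; omega
  set π := piS a b with hπ
  have hinv : ∀ x, π (π x) = x := by
    intro x
    have := congrArg (fun f : Equiv.Perm (Fin n) => f x) (piS_mul_self hab hab' ha hbb)
    simpa using this
  have hp := val_piS hab1 hb (π p)
  have hq := val_piS hab1 hb (π q)
  rw [← hπ, hinv] at hp hq
  have hp' := (π p).2
  have hq' := (π q).2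
  rw [Fin.lt_def] at h1 h2
  have key : ((π p).val = a.val ∧ (π q).val = a.val + 1) ∨
      ((π p).val = n - 2 - a.val ∧ (π q).val = n - 1 - a.val) := by
    split_ifs at hp hq <;> omega
  rcases key with ⟨e1, e2⟩ | ⟨e1, e2⟩
  · left
    exact ⟨Fin.ext e1, Fin.ext (by rw [e2, hab1])⟩
  · right
    exact ⟨Fin.ext (by rw [e1, k2]), Fin.ext (by rw [e2, k1])⟩

include hab1 hb in
/-- `B = (B ∩ s⁻¹ B s) X` for a short simple root -/
theorem split_short (hφφ : ∀ x, φ (φ x) = x) {g : WSU n φ} (hg : g ∈ bor n φ) :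
    ∃ t : F, wS φ a b (1 : F) * (g * (Tm φ a b t)⁻¹) * (wS φ a b (1 : F))⁻¹ ∈ bor n φ := by
  obtain ⟨hab, hab', ha, hbb⟩ := short_ne hab1 hb
  refine ⟨mt g a b / mt g a a, ?_⟩
  set t := mt g a b / mt g a a with ht
  have hlt : a < b := by rw [Fin.lt_def]; omega
  have hx : Tm φ a b (-t) ∈ bor n φ := Tm_mem_bor hφφ hab ha hbb hlt _
  have hg' : g * (Tm φ a b t)⁻¹ ∈ bor n φ := by
    rw [Tm_inv hφφ hab ha hbb]
    exact (bor n φ).mul_mem hg hx
  have h0 : mt (g * (Tm φ a b t)⁻¹) a b = 0 := by
    rw [Tm_inv hφφ hab ha hbb, mul_apply_col, Tm_ev_b hφφ hab hab' ha hbb, mulVec_add,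
      mulVec_smul, Pi.add_apply, Pi.smul_apply, mulVec_ev, mulVec_ev, ht, smul_eq_mul]
    have := diag_ne_zero hg a
    field_simp
    ring
  apply conj_mem_bor (wS_isMon hφφ hab hab' ha hbb one_ne_zero) hg'
  intro p q h1 h2
  rw [piS_inv hab hab' ha hbb] at h2 ⊢
  rcases inversion_short hab1 hb p q h1 h2 with ⟨e1, e2⟩ | ⟨e1, e2⟩
  · rw [e1, e2]
    exact h0
  · rw [e1, e2]
    exact extra_zero hg' hab1 h0

end short

/-! ### the long simple root -/

section long

variable {a : Fin n} (ha1 : (Fin.rev a).val = a.val + 1)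

include ha1 in
theorem long_ne : a ≠ Fin.rev a := by
  intro e
  rw [← e] at ha1
  omega

theorem val_piL (a x : Fin n) :
    (piL a x).val =
      if x.val = a.val then (Fin.rev a).val else if x.val = (Fin.rev a).val then a.val
      else x.val := by
  unfold piL
  by_cases h1 : x = a
  · rw [h1, Equiv.swap_apply_left, if_pos rfl]
  by_cases h2 : x = Fin.rev a
  · rw [h2, Equiv.swap_apply_right]
    by_cases h3 : (Fin.rev a).val = a.val
    · rw [if_pos h3, h3]
    · rw [if_neg h3, if_pos rfl]
  · rw [Equiv.swap_apply_of_ne_of_ne h1 h2, if_neg (fun e => h1 (Fin.ext e)),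
      if_neg (fun e => h2 (Fin.ext e))]

include ha1 in
/-- the inversion of the long simple reflection -/
theorem inversion_long (p q : Fin n) (h1 : q < p) (h2 : piL a p < piL a q) :
    piL a p = a ∧ piL a q = Fin.rev a := by
  set π := piL a with hπ
  have hinv : ∀ x, π (π x) = x := by
    intro x
    have := congrArg (fun f : Equiv.Perm (Fin n) => f x) (piL_mul_self a)
    simpa using this
  have hp := val_piL a (π p)
  have hq := val_piL a (π q)
  rw [← hπ, hinv] at hp hq
  rw [Fin.lt_def] at h1 h2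
  have key : (π p).val = a.val ∧ (π q).val = (Fin.rev a).val := by
    split_ifs at hp hq <;> omega
  exact ⟨Fin.ext key.1, Fin.ext key.2⟩

include ha1 in
/-- the trace condition for the entry `(a, rev a)` of an upper triangular unitary matrix -/
theorem trace_entry {g : WSU n φ} (hg : g ∈ bor n φ) :
    mt g a (Fin.rev a) * φ (mt g a a) + mt g a a * φ (mt g a (Fin.rev a)) = 0 := by
  have ha := long_ne ha1
  have h := row_isotropic g ha
  rw [Finset.sum_eq_add a (Fin.rev a) ha] at h
  · rw [Fin.rev_rev] at h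
    exact h
  · intro q _ hq
    by_cases h1 : q < a
    · rw [hg a q h1, map_zero, mul_zero]
    · have h2 : Fin.rev q < a := by
        rw [Fin.lt_def] at h1 ⊢
        have e1 : q.val ≠ a.val := fun e => hq.1 (Fin.ext e)
        have e2 : q.val ≠ (Fin.rev a).val := fun e => hq.2 (Fin.ext e)
        rw [Fin.val_rev] at ha1 e2 ⊢
        omega
      rw [hg a _ h2, zero_mul]
  · intro h; exact absurd (Finset.mem_univ _) h
  · intro h; exact absurd (Finset.mem_univ _) h

include ha1 in
/-- `B = (B ∩ s⁻¹ B s) X` for the long simple root -/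
theorem split_long {l : F} (hl0 : l ≠ 0) (hl : l + φ l = 0) {g : WSU n φ} (hg : g ∈ bor n φ) :
    ∃ t : F, t + φ t = 0 ∧ wL φ a l * (g * (Lm φ a t)⁻¹) * (wL φ a l)⁻¹ ∈ bor n φ := by
  have ha := long_ne ha1
  have hd := diag_ne_zero hg a
  have hφd : φ (mt g a a) ≠ 0 := by
    intro h0
    exact hd ((map_eq_zero φ).1 h0)
  have ht : mt g a (Fin.rev a) / mt g a a + φ (mt g a (Fin.rev a) / mt g a a) = 0 := by
    rw [map_div₀]
    have := trace_entry ha1 hg
    field_simp
    linear_combination this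
  refine ⟨mt g a (Fin.rev a) / mt g a a, ht, ?_⟩
  set t := mt g a (Fin.rev a) / mt g a a with htdef
  have hlt : a < Fin.rev a := by rw [Fin.lt_def]; omega
  have hx : Lm φ a (-t) ∈ bor n φ := Lm_mem_bor ha hlt (trace_zero_neg ht)
  have hg' : g * (Lm φ a t)⁻¹ ∈ bor n φ := by
    rw [Lm_inv ha ht]
    exact (bor n φ).mul_mem hg hx
  have h0 : mt (g * (Lm φ a t)⁻¹) a (Fin.rev a) = 0 := by
    rw [Lm_inv ha ht, mul_apply_col, Lm_ev_ra ha (trace_zero_neg ht), mulVec_add, mulVec_smul,
      Pi.add_apply, Pi.smul_apply, mulVec_ev, mulVec_ev, htdef, smul_eq_mul]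
    field_simp
    ring
  apply conj_mem_bor (wL_isMon ha hl0 hl) hg'
  intro p q h1 h2
  rw [piL_inv] at h2 ⊢
  obtain ⟨e1, e2⟩ := inversion_long ha1 p q h1 h2
  rw [e1, e2]
  exact h0

end long

end Cfsg.Agent.Helper13.SuBN
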