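import Mathlib
import Cfsg.Agent.Lib.Helper13.SuBN3
import Cfsg.Agent.Lib.Helper13.BNAbs
import Cfsg.Agent.Lib.Helper18.SuDeg

/-!
# The (B, N)-pair of type `D_m` of the split orthogonal group, part 0 (helper13)

Inside `WSU n (RingHom.id F)` (`n = 2m` even; the special isometry group of the split symmetric bilinear form
with antidiagonal Gram matrix) we consider the subgroup `soq n F` of the elements preserving the quadratic
form `qf v = ∑ i < m, v i * v (rev i)` (all of `WSU` when `2 ≠ 0`), its upper triangular subgroup `borQ`, the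
even monomial subgroup `monE`, and the simple reflections of type `D_m`.
-/

set_option autoImplicit false
set_option linter.unusedSectionVars false
set_option linter.unusedVariables false

namespace Cfsg.Agent.Helper13.SdBN

open Matrix Cfsg.Agent.Helper13.SuBN

variable {n : ℕ} {F : Type*} [Field F]

/-- the split quadratic form on `F^n` -/
def qf (v : Fin n → F) : F := ∑ i : Fin (n / 2), v (ix n i) * v (Fin.rev (ix n i))

/-- the symmetric bilinear form with antidiagonal Gram matrix -/
def bl (x y : Fin n → F) : F := ∑ a : Fin n, x a * y (Fin.rev a)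

/-- the special orthogonal group of `qf` -/
def soq (n : ℕ) (F : Type*) [Field F] : Subgroup (WSU n (RingHom.id F)) where
  carrier := {g | ∀ v : Fin n → F, qf (mt g *ᵥ v) = qf v}
  one_mem' := by
    intro v
    rw [mt_one, one_mulVec]
  mul_mem' := by
    intro g h hg hh v
    rw [mt_mul, ← mulVec_mulVec, hg, hh]
  inv_mem' := by
    intro g hg v
    have := hg (mt g⁻¹ *ᵥ v)
    rw [mulVec_mulVec, mt_mul_inv, one_mulVec] at this
    exact this.symm

theorem mem_soq_iff (g : WSU n (RingHom.id F)) :
    g ∈ soq n F ↔ ∀ v : Fin n → F, qf (mt g *ᵥ v) = qf v := Iff.rfl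

/-- the upper triangular subgroup -/
def borQ (n : ℕ) (F : Type*) [Field F] : Subgroup (WSU n (RingHom.id F)) :=
  bor n (RingHom.id F) ⊓ soq n F

/-- the upper unitriangular subgroup -/
def unipQ (n : ℕ) (F : Type*) [Field F] : Subgroup (WSU n (RingHom.id F)) :=
  unip n (RingHom.id F) ⊓ soq n F

/-- the even monomial subgroup -/
def monE (n : ℕ) (F : Type*) [Field F] : Subgroup (WSU n (RingHom.id F)) where
  carrier := {g | g ∈ soq n F ∧ ∃ π : Equiv.Perm (Fin n), IsMon (mt g) π ∧ Equiv.Perm.sign π = 1}
  one_mem' := ⟨(soq n F).one_mem, 1, isMon_one, map_one _⟩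
  mul_mem' := by
    rintro g h ⟨hg, π, hπ, hs⟩ ⟨hh, ρ, hρ, hs'⟩
    exact ⟨(soq n F).mul_mem hg hh, π * ρ, hπ.mul hρ, by rw [map_mul, hs, hs', mul_one]⟩
  inv_mem' := by
    rintro g ⟨hg, π, hπ, hs⟩
    exact ⟨(soq n F).inv_mem hg, π⁻¹, hπ.inv', by rw [map_inv, hs, inv_one]⟩

theorem monE_le_mon : monE n F ≤ mon n (RingHom.id F) := by
  rintro g ⟨_, π, hπ, _⟩
  exact ⟨π, hπ⟩

theorem monE_le_soq : monE n F ≤ soq n F := fun g hg => hg.1

theorem borQ_le_bor : borQ n F ≤ bor n (RingHom.id F) := inf_le_left

theorem borQ_le_soq : borQ n F ≤ soq n F := inf_le_right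

/-! ### the simple roots of type `D` -/

/-- the first index of the simple root `i` -/
def aD (n : ℕ) (i : Fin (n / 2)) : Fin n :=
  if h : i.val + 1 < n / 2 then ix n i else ⟨i.val - 1, by have := i.2; omega⟩

/-- the second index of the simple root `i` -/
def bD (n : ℕ) (i : Fin (n / 2)) : Fin n :=
  if h : i.val + 1 < n / 2 then ix' n i h else Fin.rev (ix n i)

theorem aD_val (i : Fin (n / 2)) :
    (aD n i).val = if i.val + 1 < n / 2 then i.val else i.val - 1 := by
  unfold aD
  split_ifs <;> rfl

theorem bD_val (i : Fin (n / 2)) :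
    (bD n i).val = if i.val + 1 < n / 2 then i.val + 1 else n - 1 - i.val := by
  unfold bD
  split_ifs
  · rfl
  · rw [Fin.val_rev]
    show n - (i.val + 1) = n - 1 - i.val
    omega

/-- the indices of a simple root are in general position -/
theorem abD (hn : n % 2 = 0) (h4 : 4 ≤ n) (i : Fin (n / 2)) :
    aD n i ≠ bD n i ∧ aD n i ≠ Fin.rev (bD n i) ∧ aD n i ≠ Fin.rev (aD n i) ∧
      bD n i ≠ Fin.rev (bD n i) ∧ aD n i < bD n i := by
  have hi := i.2
  have ha := aD_val i
  have hb := bD_val i
  refine ⟨?_, ?_, ?_, ?_, ?_⟩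
  · intro e
    have := congrArg Fin.val e
    split_ifs at ha hb <;> omega
  · intro e
    have := congrArg Fin.val e
    rw [Fin.val_rev] at this
    split_ifs at ha hb <;> omega
  · intro e
    have := congrArg Fin.val e
    rw [Fin.val_rev] at this
    split_ifs at ha hb <;> omega
  · intro e
    have := congrArg Fin.val e
    rw [Fin.val_rev] at this
    split_ifs at ha hb <;> omega
  · rw [Fin.lt_def]
    split_ifs at ha hb <;> omega

/-- the permutation of the simple reflection `i` -/
def prD (n : ℕ) (i : Fin (n / 2)) : Equiv.Perm (Fin n) := piS (aD n i) (bD n i)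

/-- the simple reflections -/
noncomputable def srD (n : ℕ) (F : Type*) [Field F] (i : Fin (n / 2)) : WSU n (RingHom.id F) :=
  wS (RingHom.id F) (aD n i) (bD n i) 1

/-- the simple root elements -/
def XD (n : ℕ) (F : Type*) [Field F] (i : Fin (n / 2)) : Set (WSU n (RingHom.id F)) :=
  Set.range (Tm (RingHom.id F) (aD n i) (bD n i))

/-- the opposite simple root elements -/
def YD (n : ℕ) (F : Type*) [Field F] (i : Fin (n / 2)) : Set (WSU n (RingHom.id F)) :=
  Set.range (Tm (RingHom.id F) (bD n i) (aD n i))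

/-- the permutation of the longest element of the Weyl group of type `D_{n/2}` -/
def pi0 (n : ℕ) : Equiv.Perm (Fin n) :=
  if h : (n / 2) % 2 = 1 then
    Fin.revPerm * Equiv.swap (⟨n / 2 - 1, by omega⟩ : Fin n) ⟨n / 2, by omega⟩
  else Fin.revPerm

/-- the index equivalence between the hyperbolic coordinates and the Witt coordinates:
`e_i ↦ i`, `f_i ↦ 2m - 1 - i` -/
def eD (m : ℕ) : Fin m ⊕ Fin m ≃ Fin (2 * m) where
  toFun
    | Sum.inl i => ⟨i.val, by have := i.2; omega⟩
    | Sum.inr i => ⟨2 * m - 1 - i.val, by have := i.2; omega⟩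
  invFun a := if h : a.val < m then Sum.inl ⟨a.val, h⟩
    else Sum.inr ⟨2 * m - 1 - a.val, by have := a.2; omega⟩
  left_inv := by
    rintro (i | i)
    · have hi := i.2
      simp only [hi, dif_pos]
    · have hi := i.2
      have h2 : ¬ (2 * m - 1 - i.val < m) := by omega
      simp only [h2, dif_neg, not_false_eq_true]
      congr 1
      apply Fin.ext
      show 2 * m - 1 - (2 * m - 1 - i.val) = i.val
      omega
  right_inv := by
    intro a
    have ha := a.2
    by_cases h : a.val < m
    · simp only [h, dif_pos]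
    · simp only [h, dif_neg, not_false_eq_true]
      apply Fin.ext
      show 2 * m - 1 - (2 * m - 1 - a.val) = a.val
      omega

theorem eD_inl (m : ℕ) (i : Fin m) : ((eD m (Sum.inl i)) : Fin (2 * m)).val = i.val := rfl

theorem eD_inr (m : ℕ) (i : Fin m) : ((eD m (Sum.inr i)) : Fin (2 * m)).val = 2 * m - 1 - i.val := rfl

theorem rev_eD_inl (m : ℕ) (i : Fin m) : Fin.rev (eD m (Sum.inl i)) = eD m (Sum.inr i) := by
  apply Fin.ext
  rw [Fin.val_rev, eD_inl, eD_inr]
  omega

end Cfsg.Agent.Helper13.SdBN
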