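import Mathlib
import Cfsg.Agent.Lib.Helper13.SdBN0

/-!
# The (B, N)-pair of type `D_m`, part 1: the quadratic form (helper13)
-/

set_option autoImplicit false
set_option linter.unusedSectionVars false
set_option linter.unusedVariables false

namespace Cfsg.Agent.Helper13.SdBN

open Matrix Cfsg.Agent.Helper13.SuBN

variable {n : ℕ} {F : Type*} [Field F]

/-- the two halves of `Fin n` -/
def halves (hn : n % 2 = 0) : Fin (n / 2) ⊕ Fin (n / 2) ≃ Fin n where
  toFun
    | Sum.inl i => ix n i
    | Sum.inr i => Fin.rev (ix n i)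
  invFun a := if h : a.val < n / 2 then Sum.inl ⟨a.val, h⟩
    else Sum.inr ⟨n - 1 - a.val, by have := a.2; omega⟩
  left_inv := by
    rintro (i | i)
    · have hi := i.2
      have h1 : (ix n i).val = i.val := rfl
      simp only [h1, hi, dif_pos]
    · have hi := i.2
      have h1 : (Fin.rev (ix n i)).val = n - (i.val + 1) := by rw [Fin.val_rev]; rfl
      have h2 : ¬ (Fin.rev (ix n i)).val < n / 2 := by rw [h1]; omega
      simp only [h2, dif_neg, not_false_eq_true]
      congr 1
      apply Fin.ext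
      show n - 1 - (Fin.rev (ix n i)).val = i.val
      rw [h1]
      omega
  right_inv := by
    intro a
    have ha := a.2
    by_cases h : a.val < n / 2
    · simp only [h, dif_pos]
      rfl
    · simp only [h, dif_neg, not_false_eq_true]
      apply Fin.ext
      rw [Fin.val_rev]
      show n - (n - 1 - a.val + 1) = a.val
      omega

theorem sum_halves {M : Type*} [AddCommMonoid M] (hn : n % 2 = 0) (f : Fin n → M) :
    ∑ a, f a = ∑ i : Fin (n / 2), (f (ix n i) + f (Fin.rev (ix n i))) := by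
  rw [← Equiv.sum_comp (halves hn), Fintype.sum_sum_type, ← Finset.sum_add_distrib]
  rfl

theorem bl_comm (x y : Fin n → F) : bl x y = bl y x := by
  unfold bl
  rw [← Equiv.sum_comp Fin.revPerm]
  apply Finset.sum_congr rfl
  intro a _
  rw [Fin.revPerm_apply, Fin.rev_rev, mul_comm]

theorem bl_add_left (x x' y : Fin n → F) : bl (x + x') y = bl x y + bl x' y := by
  unfold bl
  rw [← Finset.sum_add_distrib]
  apply Finset.sum_congr rfl
  intro a _
  rw [Pi.add_apply, add_mul]

theorem bl_add_right (x y y' : Fin n → F) : bl x (y + y') = bl x y + bl x y' := by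
  rw [bl_comm, bl_add_left, bl_comm y, bl_comm y']

theorem bl_smul_left (c : F) (x y : Fin n → F) : bl (c • x) y = c * bl x y := by
  unfold bl
  rw [Finset.mul_sum]
  apply Finset.sum_congr rfl
  intro a _
  rw [Pi.smul_apply, smul_eq_mul, mul_assoc]

theorem bl_smul_right (c : F) (x y : Fin n → F) : bl x (c • y) = c * bl x y := by
  rw [bl_comm, bl_smul_left, bl_comm]

theorem bl_ev_left (p : Fin n) (y : Fin n → F) : bl (ev p) y = y (Fin.rev p) := by
  unfold bl
  rw [Finset.sum_eq_single p]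
  · rw [ev_self, one_mul]
  · intro a _ ha
    rw [ev_ne ha.symm, zero_mul]
  · intro h; exact absurd (Finset.mem_univ _) h

theorem bl_ev_right (x : Fin n → F) (p : Fin n) : bl x (ev p) = x (Fin.rev p) := by
  rw [bl_comm, bl_ev_left]

theorem bl_eq_gaForm (x y : Fin n → F) :
    bl x y = x ⬝ᵥ (Kmat n F *ᵥ y) := by
  unfold bl dotProduct
  apply Finset.sum_congr rfl
  intro a _
  congr 1
  rw [Matrix.mulVec, dotProduct, Finset.sum_eq_single (Fin.rev a)]
  · rw [Kmat_apply, if_pos rfl, one_mul]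
  · intro c _ hc
    rw [Kmat_apply, if_neg hc, zero_mul]
  · intro h; exact absurd (Finset.mem_univ _) h

/-- the elements of `WSU n id` preserve the bilinear form -/
theorem bl_mulVec (g : WSU n (RingHom.id F)) (x y : Fin n → F) :
    bl (mt g *ᵥ x) (mt g *ᵥ y) = bl x y := by
  have h1 : (mt g)ᵀ * Kmat n F * (mt g).map (RingHom.id F) = Kmat n F := g.2.1
  have h2 : (mt g).map (RingHom.id F) = mt g := by ext a b; rfl
  rw [h2] at h1
  rw [bl_eq_gaForm, bl_eq_gaForm]
  calc (mt g *ᵥ x) ⬝ᵥ (Kmat n F *ᵥ (mt g *ᵥ y))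
      = (x ᵥ* (mt g)ᵀ) ⬝ᵥ (Kmat n F *ᵥ (mt g *ᵥ y)) := by rw [Matrix.vecMul_transpose]
    _ = x ⬝ᵥ ((mt g)ᵀ *ᵥ (Kmat n F *ᵥ (mt g *ᵥ y))) := (Matrix.dotProduct_mulVec _ _ _).symm
    _ = x ⬝ᵥ (Kmat n F *ᵥ y) := by rw [Matrix.mulVec_mulVec, Matrix.mulVec_mulVec, h1]

/-- the polar identity -/
theorem qf_add (hn : n % 2 = 0) (x y : Fin n → F) : qf (x + y) = qf x + qf y + bl x y := by
  unfold qf bl
  rw [sum_halves hn, ← Finset.sum_add_distrib, ← Finset.sum_add_distrib]
  apply Finset.sum_congr rfl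
  intro i _
  rw [Fin.rev_rev]
  simp only [Pi.add_apply]
  ring

theorem qf_smul (c : F) (x : Fin n → F) : qf (c • x) = c * c * qf x := by
  unfold qf
  rw [Finset.mul_sum]
  apply Finset.sum_congr rfl
  intro i _
  simp only [Pi.smul_apply, smul_eq_mul]
  ring

theorem qf_ev (p : Fin n) : qf (ev p : Fin n → F) = 0 := by
  unfold qf
  apply Finset.sum_eq_zero
  intro i _
  by_cases h : p = ix n i
  · have hne : ix n i ≠ Fin.rev (ix n i) := by
      intro e
      have h1 := congrArg Fin.val e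
      rw [Fin.val_rev] at h1
      have := i.2
      have : (ix n i).val = i.val := rfl
      omega
    rw [h, ev_ne hne, mul_zero]
  · rw [ev_ne h, zero_mul]

theorem qf_zero : qf (0 : Fin n → F) = 0 := by
  unfold qf
  simp

/-- a quadratic form identity: two quadratic forms with the same polar form that agree on the basis vectors
are equal -/
theorem qf_eq_of_cols (hn : n % 2 = 0) (g : WSU n (RingHom.id F))
    (h : ∀ j, qf (mt g *ᵥ (ev j : Fin n → F)) = 0) (v : Fin n → F) :
    qf (mt g *ᵥ v) = qf v := by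
  classical
  have key : ∀ s : Finset (Fin n),
      qf (mt g *ᵥ (∑ j ∈ s, v j • (ev j : Fin n → F))) = qf (∑ j ∈ s, v j • (ev j : Fin n → F)) := by
    intro s
    induction s using Finset.induction_on with
    | empty => simp [qf_zero]
    | insert j s hj ih =>
      rw [Finset.sum_insert hj, mulVec_add, qf_add hn, qf_add hn, ih, bl_mulVec, mulVec_smul, qf_smul,
        qf_smul, h, qf_ev]
  have hv : v = ∑ j, v j • (ev j : Fin n → F) := by
    funext a
    rw [Finset.sum_apply, Finset.sum_eq_single a]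
    · rw [Pi.smul_apply, ev_self, smul_eq_mul, mul_one]
    · intro b _ hb
      rw [Pi.smul_apply, ev_ne hb, smul_eq_mul, mul_zero]
    · intro h; exact absurd (Finset.mem_univ _) h
  have := key Finset.univ
  rw [← hv] at this
  exact this

theorem mem_soq_of_cols (hn : n % 2 = 0) (g : WSU n (RingHom.id F))
    (h : ∀ j, qf (mt g *ᵥ (ev j : Fin n → F)) = 0) : g ∈ soq n F :=
  fun v => qf_eq_of_cols hn g h v

theorem qf_col {g : WSU n (RingHom.id F)} (hg : g ∈ soq n F) (j : Fin n) :
    ∑ i : Fin (n / 2), mt g (ix n i) j * mt g (Fin.rev (ix n i)) j = 0 := by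
  have := hg (ev j)
  rw [qf_ev] at this
  unfold qf at this
  simp only [mulVec_ev] at this
  exact this

/-- `qf` of a combination of two basis vectors -/
theorem qf_two (hn : n % 2 = 0) (p q : Fin n) (c d : F) :
    qf (c • (ev p : Fin n → F) + d • ev q) = c * d * (if q = Fin.rev p then 1 else 0) := by
  rw [qf_add hn, qf_smul, qf_smul, qf_ev, qf_ev, bl_smul_left, bl_smul_right, bl_ev_left, ev_apply]
  by_cases h : q = Fin.rev p
  · rw [if_pos h, if_pos (by rw [h])]
    ring
  · rw [if_neg h, if_neg (fun e => h (by rw [← e]))]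
    ring

/-! ### root elements, reflections and the torus preserve the quadratic form -/

section roots

variable {a b : Fin n} (hab : a ≠ b) (hab' : a ≠ Fin.rev b) (ha : a ≠ Fin.rev a) (hb : b ≠ Fin.rev b)

include hab hab' ha hb in
theorem Tm_mem_soq (hn : n % 2 = 0) (t : F) : Tm (RingHom.id F) a b t ∈ soq n F := by
  have hφφ : ∀ x : F, (RingHom.id F) ((RingHom.id F) x) = x := fun x => rfl
  apply mem_soq_of_cols hn
  intro j
  by_cases h1 : j = b
  · rw [h1, Tm_ev_b hφφ hab hab' ha hb]
    have := qf_two hn b a (1 : F) t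
    rw [one_smul, if_neg hab'] at this
    rw [this, mul_zero]
  by_cases h2 : j = Fin.rev a
  · rw [h2, Tm_ev_ra hφφ hab hab' ha hb, sub_eq_add_neg, ← neg_smul]
    have := qf_two hn (Fin.rev a) (Fin.rev b) (1 : F) (-(RingHom.id F) t)
    rw [one_smul, if_neg, mul_zero] at this
    · exact this
    · rw [Fin.rev_rev]
      intro e
      exact hab' e.symm
  · rw [Tm_ev_of_ne hφφ hab ha hb t h1 h2, qf_ev]

include hab hab' ha hb in
theorem wS_mem_soq (hn : n % 2 = 0) (c : F) : wS (RingHom.id F) a b c ∈ soq n F := by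
  unfold wS
  have hba' : b ≠ Fin.rev a := ne_rev_symm hab'
  exact (soq n F).mul_mem ((soq n F).mul_mem (Tm_mem_soq hab hab' ha hb hn c)
    (Tm_mem_soq hab.symm hba' hb ha hn _)) (Tm_mem_soq hab hab' ha hb hn c)

end roots

theorem tor_le_soq : tor n (RingHom.id F) ≤ soq n F := by
  intro g hg v
  have hd : ∀ a, (mt g *ᵥ v) a = mt g a a * v a := by
    intro a
    rw [Matrix.mulVec, dotProduct, Finset.sum_eq_single a]
    · intro c _ hc
      rw [(mem_tor_iff' g).1 hg a c hc.symm, zero_mul]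
    · intro h; exact absurd (Finset.mem_univ _) h
  unfold qf
  apply Finset.sum_congr rfl
  intro i _
  rw [hd, hd]
  have h1 := Cfsg.Agent.Helper13.SuP.diag_mul_map_rev (tor_le_bor hg) (ix n i)
  have h2 : mt g (ix n i) (ix n i) * mt g (Fin.rev (ix n i)) (Fin.rev (ix n i)) = 1 := h1
  calc mt g (ix n i) (ix n i) * v (ix n i) *
        (mt g (Fin.rev (ix n i)) (Fin.rev (ix n i)) * v (Fin.rev (ix n i)))
      = (mt g (ix n i) (ix n i) * mt g (Fin.rev (ix n i)) (Fin.rev (ix n i))) *
        (v (ix n i) * v (Fin.rev (ix n i))) := by ring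
    _ = v (ix n i) * v (Fin.rev (ix n i)) := by rw [h2, one_mul]

/-- the middle entry of an upper triangular orthogonal matrix vanishes -/
theorem mid_zero {g : WSU n (RingHom.id F)} (hg : g ∈ borQ n F) {c : Fin n}
    (hc : (Fin.rev c).val = c.val + 1) : mt g c (Fin.rev c) = 0 := by
  have hcv : c.val + 1 = n / 2 := by
    rw [Fin.val_rev] at hc
    omega
  have h1 := qf_col hg.2 (Fin.rev c)
  have hci : c.val < n / 2 := by omega
  rw [Finset.sum_eq_single (⟨c.val, hci⟩ : Fin (n / 2))] at h1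
  · have e : ix n (⟨c.val, hci⟩ : Fin (n / 2)) = c := Fin.ext rfl
    rw [e] at h1
    rcases mul_eq_zero.1 h1 with h | h
    · exact h
    · exact absurd h (diag_ne_zero hg.1 _)
  · intro i _ hi
    have hiv : i.val ≠ c.val := fun e => hi (Fin.ext e)
    have : Fin.rev c < Fin.rev (ix n i) := by
      rw [Fin.lt_def, hc, Fin.val_rev]
      show c.val + 1 < n - (i.val + 1)
      have := i.2
      omega
    rw [hg.1 _ _ this, mul_zero]
  · intro h; exact absurd (Finset.mem_univ _) h

/-! ### building elements of `soq` -/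

/-- a matrix preserving `qf` preserves the bilinear form -/
theorem gram_of_qf (hn : n % 2 = 0) (M : Matrix (Fin n) (Fin n) F)
    (hM : ∀ v, qf (M *ᵥ v) = qf v) : Mᵀ * Kmat n F * M = Kmat n F := by
  have hB : ∀ x y, bl (M *ᵥ x) (M *ᵥ y) = bl x y := by
    intro x y
    have h1 := hM (x + y)
    rw [mulVec_add, qf_add hn, qf_add hn, hM, hM] at h1
    exact add_left_cancel h1
  ext p q
  have h2 := hB (ev p) (ev q)
  rw [bl_ev_left, ev_apply] at h2
  rw [Kmat_apply, Matrix.mul_assoc, Matrix.mul_apply]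
  have h3 : bl (M *ᵥ (ev p : Fin n → F)) (M *ᵥ ev q) = ∑ j, Mᵀ p j * (Kmat n F * M) j q := by
    unfold bl
    apply Finset.sum_congr rfl
    intro a _
    rw [mulVec_ev, mulVec_ev, Matrix.transpose_apply, Kmat_mul_apply]
  rw [← h3, h2]
  by_cases h : q = Fin.rev p
  · rw [if_pos h, if_pos h.symm]
  · rw [if_neg h, if_neg (fun e => h e.symm)]

/-- an element of `soq` from a matrix of determinant one preserving `qf` -/
def mkSoq (hn : n % 2 = 0) (M : Matrix (Fin n) (Fin n) F) (hdet : M.det = 1)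
    (hM : ∀ v, qf (M *ᵥ v) = qf v) : WSU n (RingHom.id F) :=
  mkW M hdet (by
    rw [dag_eq]
    have h2 : M.map (RingHom.id F) = M := by ext a b; rfl
    rw [h2]
    have h1 := gram_of_qf hn M hM
    rw [Matrix.mul_assoc, Matrix.mul_assoc, ← Matrix.mul_assoc Mᵀ, h1, Kmat_mul_self])

theorem mt_mkSoq (hn : n % 2 = 0) (M : Matrix (Fin n) (Fin n) F) (hdet : M.det = 1)
    (hM : ∀ v, qf (M *ᵥ v) = qf v) : mt (mkSoq hn M hdet hM) = M := rfl

theorem mkSoq_mem (hn : n % 2 = 0) (M : Matrix (Fin n) (Fin n) F) (hdet : M.det = 1)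
    (hM : ∀ v, qf (M *ᵥ v) = qf v) : mkSoq hn M hdet hM ∈ soq n F := hM

end Cfsg.Agent.Helper13.SdBN
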