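import Mathlib
import Cfsg.Agent.Lib.Helper13.SuBN3
import Cfsg.Agent.Lib.Helper13.BNAbs
import Cfsg.Agent.Lib.Helper18.SuBC2
import Cfsg.Agent.Lib.Helper2.SuBCRank1
import Cfsg.Agent.Lib.Helper18.SuBC
import Cfsg.Agent.Lib.Helper18.SuInj
import Cfsg.Agent.Lib.Helper2.SuWGen

/-!
# The (B, N)-pair of the special unitary group, part 4 (helper13)

The simple roots `i : Fin (n / 2)`: reflections `sr`, root sets `Xr`, `Yr`, the rank one data, the
structure `suBN : Cfsg.BNPair (WSU n φ)`.
-/

set_option autoImplicit false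
set_option linter.unusedSectionVars false
set_option linter.unusedVariables false

namespace Cfsg.Agent.Helper13.SuBN

open Matrix Cfsg.Agent.Helper13.BNAbs Cfsg.Agent.Helper13.SuP

variable {n : ℕ} {F : Type*} [Field F] {φ : F →+* F}

/-- the middle index when `n` is odd -/
def mid (n : ℕ) (h : n % 2 = 1) : Fin n := ⟨n / 2, by omega⟩

theorem mid_rev (h : n % 2 = 1) : mid n h = Fin.rev (mid n h) := by
  apply Fin.ext
  rw [Fin.val_rev]
  show n / 2 = n - (n / 2 + 1)
  omega

/-- the simple reflections -/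
noncomputable def sr (φ : F →+* F) (l : F) (i : Fin (n / 2)) : WSU n φ :=
  if h : i.val + 1 < n / 2 then wS φ (ix n i) (ix' n i h) 1 else wL φ (ix n i) l

/-- the simple root elements -/
def Xr (φ : F →+* F) (i : Fin (n / 2)) : Set (WSU n φ) :=
  if h : i.val + 1 < n / 2 then Set.range (Tm φ (ix n i) (ix' n i h))
  else if h2 : n % 2 = 1 then
    {x | ∃ u v : F, v + φ v + u * φ u = 0 ∧ x = Mm φ (ix n i) (mid n h2) u v}
  else {x | ∃ t : F, t + φ t = 0 ∧ x = Lm φ (ix n i) t}

/-- the opposite simple root elements -/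
def Yr (φ : F →+* F) (i : Fin (n / 2)) : Set (WSU n φ) :=
  if h : i.val + 1 < n / 2 then Set.range (Tm φ (ix' n i h) (ix n i))
  else if h2 : n % 2 = 1 then
    {x | ∃ u v : F, v + φ v + u * φ u = 0 ∧ x = Mm φ (Fin.rev (ix n i)) (mid n h2) u v}
  else {x | ∃ t : F, t + φ t = 0 ∧ x = Lm φ (Fin.rev (ix n i)) t}

theorem rank1_aux {G : Type*} [Group G] {B : Subgroup G} {s w x x' y : G} (hw : w = x' * y * x')
    (hxx' : x' * x = 1) (hsw : s * w⁻¹ ∈ B) (hx' : x' ∈ B) : ∃ b ∈ B, s * x = b * y := by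
  refine ⟨s * w⁻¹ * x', B.mul_mem hsw hx', ?_⟩
  have e : x' * y = w * x := by rw [hw, mul_assoc, hxx', mul_one]
  rw [mul_assoc, mul_assoc, e, ← mul_assoc w⁻¹, inv_mul_cancel, one_mul]

theorem ix_ne_rev (i : Fin (n / 2)) : ix n i ≠ Fin.rev (ix n i) := by
  intro e
  have h := congrArg Fin.val e
  rw [Fin.val_rev] at h
  have := i.2
  have : (ix n i).val = i.val := rfl
  omega

theorem ix_lt_rev (i : Fin (n / 2)) : ix n i < Fin.rev (ix n i) := by
  rw [Fin.lt_def, Fin.val_rev]
  have := i.2
  have : (ix n i).val = i.val := rfl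
  omega

section family

variable (hφφ : ∀ x, φ (φ x) = x) {l : F} (hl0 : l ≠ 0) (hl : l + φ l = 0)

include hφφ hl0 hl in
theorem sr_isMon (i : Fin (n / 2)) : IsMon (mt (sr φ l i)) (pr n i) := by
  unfold sr
  by_cases h : i.val + 1 < n / 2
  · rw [dif_pos h, pr_short h]
    have hab1 : (ix' n i h).val = (ix n i).val + 1 := rfl
    have hb : 2 * (ix' n i h).val + 1 < n := by
      show 2 * (i.val + 1) + 1 < n
      omega
    obtain ⟨hab, hab', ha, hbb⟩ := short_ne hab1 hb
    exact wS_isMon hφφ hab hab' ha hbb one_ne_zero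
  · rw [dif_neg h, pr_long h]
    exact wL_isMon (ix_ne_rev i) hl0 hl

include hφφ hl0 hl in
theorem sr_mem_mon (i : Fin (n / 2)) : sr φ l i ∈ mon n φ := ⟨pr n i, sr_isMon hφφ hl0 hl i⟩

theorem pr_mul_self (i : Fin (n / 2)) : pr n i * pr n i = 1 := by
  by_cases h : i.val + 1 < n / 2
  · rw [pr_short h]
    have hab1 : (ix' n i h).val = (ix n i).val + 1 := rfl
    have hb : 2 * (ix' n i h).val + 1 < n := by
      show 2 * (i.val + 1) + 1 < n
      omega
    obtain ⟨hab, hab', ha, hbb⟩ := short_ne hab1 hb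
    exact piS_mul_self hab hab' ha hbb
  · rw [pr_long h]
    exact piL_mul_self _

theorem pr_inv (i : Fin (n / 2)) : (pr n i)⁻¹ = pr n i := by
  rw [inv_eq_iff_mul_eq_one]
  exact pr_mul_self i

/-- the second index of the simple root `i` -/
def rb (n : ℕ) (i : Fin (n / 2)) : Fin n :=
  if h : i.val + 1 < n / 2 then ix' n i h else Fin.rev (ix n i)

theorem pr_ix (i : Fin (n / 2)) : pr n i (ix n i) = rb n i := by
  unfold rb
  by_cases h : i.val + 1 < n / 2
  · rw [pr_short h, dif_pos h]
    have hab1 : (ix' n i h).val = (ix n i).val + 1 := rfl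
    have hb : 2 * (ix' n i h).val + 1 < n := by
      show 2 * (i.val + 1) + 1 < n
      omega
    obtain ⟨hab, hab', ha, hbb⟩ := short_ne hab1 hb
    exact piS_a hab hab' ha hbb
  · rw [pr_long h, dif_neg h]
    exact Equiv.swap_apply_left _ _

theorem pr_rb (i : Fin (n / 2)) : pr n i (rb n i) = ix n i := by
  have h := congrArg (fun f : Equiv.Perm (Fin n) => f (ix n i)) (pr_mul_self i)
  simp only [Equiv.Perm.mul_apply, Equiv.Perm.one_apply] at h
  rw [pr_ix] at h
  exact h

theorem ix_lt_rb (i : Fin (n / 2)) : ix n i < rb n i := by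
  unfold rb
  by_cases h : i.val + 1 < n / 2
  · rw [dif_pos h, Fin.lt_def]
    show i.val < i.val + 1
    omega
  · rw [dif_neg h]
    exact ix_lt_rev i

include hφφ hl0 hl in
/-- a simple root element with a non-zero entry at `(ix i, rb i)` -/
theorem exists_Xr_apply_ne_zero (i : Fin (n / 2)) :
    ∃ x ∈ Xr φ i, x ∈ bor n φ ∧ mt x (ix n i) (rb n i) ≠ 0 := by
  unfold Xr rb
  by_cases h : i.val + 1 < n / 2
  · rw [dif_pos h, dif_pos h]
    have hab1 : (ix' n i h).val = (ix n i).val + 1 := rfl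
    have hb : 2 * (ix' n i h).val + 1 < n := by
      show 2 * (i.val + 1) + 1 < n
      omega
    obtain ⟨hab, hab', ha, hbb⟩ := short_ne hab1 hb
    refine ⟨Tm φ (ix n i) (ix' n i h) 1, ⟨1, rfl⟩, ?_, ?_⟩
    · apply Tm_mem_bor hφφ hab ha hbb
      rw [Fin.lt_def]
      omega
    · rw [← mulVec_ev (mt (Tm φ (ix n i) (ix' n i h) 1)) (ix' n i h) (ix n i),
        Tm_ev_b hφφ hab hab' ha hbb, Pi.add_apply, Pi.smul_apply, ev_self, ev_ne hab.symm, zero_add,
        smul_eq_mul, mul_one]
      exact one_ne_zero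
  · rw [dif_neg h, dif_neg h]
    have ha := ix_ne_rev i
    by_cases h2 : n % 2 = 1
    · rw [dif_pos h2]
      have hc := mid_rev h2
      have hac : ix n i ≠ mid n h2 := by
        intro e
        have := congrArg Fin.val e
        have h3 : (ix n i).val = i.val := rfl
        have h4 : (mid n h2).val = n / 2 := rfl
        have := i.2
        omega
      have huv : l + φ l + (0 : F) * φ 0 = 0 := by rw [zero_mul, add_zero, hl]
      have hlt : ix n i < mid n h2 := by
        rw [Fin.lt_def]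
        show i.val < n / 2
        exact i.2
      refine ⟨Mm φ (ix n i) (mid n h2) 0 l, ⟨0, l, huv, rfl⟩, Mm_mem_bor hφφ hac ha hc hlt huv, ?_⟩
      rw [Mm_coe hφφ hac ha hc huv]
      unfold MmM
      have hc' : mid n h2 ≠ Fin.rev (ix n i) := by
        intro e
        apply hac
        rw [hc] at e
        exact (Fin.rev_inj.1 e).symm
      rw [Matrix.add_apply, Matrix.sub_apply, Matrix.add_apply, Matrix.one_apply_ne ha,
        Matrix.single_apply, Matrix.single_apply, Matrix.single_apply, if_neg, if_neg, if_pos]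
      · simpa using hl0
      · exact ⟨rfl, rfl⟩
      · rintro ⟨e1, _⟩
        exact hac e1.symm
      · rintro ⟨_, e2⟩
        exact hc' e2
    · rw [dif_neg h2]
      refine ⟨Lm φ (ix n i) l, ⟨l, hl, rfl⟩, Lm_mem_bor ha (ix_lt_rev i) hl, ?_⟩
      rw [← mulVec_ev (mt (Lm φ (ix n i) l)) (Fin.rev (ix n i)) (ix n i), Lm_ev_ra ha hl,
        Pi.add_apply, Pi.smul_apply, ev_self, ev_ne ha.symm, zero_add, smul_eq_mul, mul_one]
      exact hl0

include hφφ hl0 hl in
/-- the rank one datum of the simple root `i` -/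
theorem rankOne_r (i : Fin (n / 2)) :
    RankOne (bor n φ) (mon n φ) (sr φ l i) (Xr φ i) (Yr φ i) := by
  by_cases h : i.val + 1 < n / 2
  · -- the short roots
    have hab1 : (ix' n i h).val = (ix n i).val + 1 := rfl
    have hb : 2 * (ix' n i h).val + 1 < n := by
      show 2 * (i.val + 1) + 1 < n
      omega
    obtain ⟨hab, hab', ha, hbb⟩ := short_ne hab1 hb
    have hba' : ix' n i h ≠ Fin.rev (ix n i) := ne_rev_symm hab'
    have hlt : ix n i < ix' n i h := by rw [Fin.lt_def]; omega
    have hs : sr φ l i = wS φ (ix n i) (ix' n i h) 1 := by unfold sr; rw [dif_pos h]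
    have hX : Xr φ i = Set.range (Tm φ (ix n i) (ix' n i h)) := by unfold Xr; rw [dif_pos h]
    have hY : Yr φ i = Set.range (Tm φ (ix' n i h) (ix n i)) := by unfold Yr; rw [dif_pos h]
    rw [hs, hX, hY]
    set a := ix n i with hadef
    set b := ix' n i h with hbdef
    refine ⟨?_, ?_, ?_, ?_⟩
    · rintro _ ⟨t, rfl⟩
      exact Tm_mem_bor hφφ hab ha hbb hlt t
    · intro g hg
      obtain ⟨t, ht⟩ := split_short hab1 hb hφφ hg
      exact ⟨Tm φ a b t, ⟨t, rfl⟩, ht⟩
    · rintro N ⟨π, hπ⟩
      rcases lt_trichotomy (π⁻¹ a) (π⁻¹ b) with h1 | h1 | h1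
      · left
        rintro _ ⟨t, rfl⟩
        exact conj_Tm_mem_bor hφφ hab ha hbb hπ h1 t
      · exact absurd (π⁻¹.injective h1) hab
      · right
        rintro _ ⟨t, rfl⟩
        exact conj_Tm_mem_bor hφφ hab.symm hbb ha hπ h1 t
    · rintro _ ⟨t, rfl⟩
      by_cases ht : t = 0
      · left
        rw [ht, Tm_zero hφφ hab ha hbb]
      · right
        have hw : wS φ a b (-t) = Tm φ a b (-t) * Tm φ b a t⁻¹ * Tm φ a b (-t) := by
          unfold wS
          rw [inv_neg, neg_neg]
        obtain ⟨b', hb', e⟩ := rank1_aux (B := bor n φ) (s := wS φ a b (1 : F)) (x := Tm φ a b t) hw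
          (by rw [Tm_add hφφ hab ha hbb, neg_add_cancel, Tm_zero hφφ hab ha hbb])
          (by
            apply mem_bor_of_isMon_one
            have := (wS_isMon hφφ hab hab' ha hbb (one_ne_zero (α := F))).mul
              (wS_isMon hφφ hab hab' ha hbb (neg_ne_zero.2 ht)).inv'
            rw [mul_inv_cancel] at this
            exact this)
          (Tm_mem_bor hφφ hab ha hbb hlt _)
        exact ⟨b', hb', Tm φ b a t⁻¹, ⟨t⁻¹, rfl⟩, e⟩
  · have ha := ix_ne_rev i
    have hlt := ix_lt_rev i
    have hra : Fin.rev (ix n i) ≠ Fin.rev (Fin.rev (ix n i)) := by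
      rw [Fin.rev_rev]; exact ha.symm
    have hs : sr φ l i = wL φ (ix n i) l := by unfold sr; rw [dif_neg h]
    have hil : i.val + 1 = n / 2 := by have := i.2; omega
    by_cases h2 : n % 2 = 1
    · -- the non-reduced root
      have hc := mid_rev h2
      have hac : ix n i ≠ mid n h2 := by
        intro e
        have := congrArg Fin.val e
        have h3 : (ix n i).val = i.val := rfl
        have h4 : (mid n h2).val = n / 2 := rfl
        have := i.2
        omega
      have hrac : Fin.rev (ix n i) ≠ mid n h2 := by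
        intro e
        apply hac
        rw [hc] at e
        exact Fin.rev_inj.1 e
      have hac1 : (mid n h2).val = (ix n i).val + 1 := by
        show n / 2 = i.val + 1
        omega
      have hltc : ix n i < mid n h2 := by
        rw [Fin.lt_def]
        show i.val < n / 2
        exact i.2
      have hX : Xr φ i =
          {x | ∃ u v : F, v + φ v + u * φ u = 0 ∧ x = Mm φ (ix n i) (mid n h2) u v} := by
        unfold Xr; rw [dif_neg h, dif_pos h2]
      have hY : Yr φ i =
          {x | ∃ u v : F, v + φ v + u * φ u = 0 ∧ x = Mm φ (Fin.rev (ix n i)) (mid n h2) u v} := by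
        unfold Yr; rw [dif_neg h, dif_pos h2]
      rw [hs, hX, hY]
      set a := ix n i with hadef
      set c := mid n h2 with hcdef
      refine ⟨?_, ?_, ?_, ?_⟩
      · rintro _ ⟨u, v, huv, rfl⟩
        exact Mm_mem_bor hφφ hac ha hc hltc huv
      · intro g hg
        obtain ⟨u, v, huv, hg'⟩ := split_bc hφφ hac ha hc hac1 hl0 hl hg
        exact ⟨Mm φ a c u v, ⟨u, v, huv, rfl⟩, hg'⟩
      · rintro N ⟨π, hπ⟩
        rcases lt_trichotomy (π⁻¹ a) (π⁻¹ (Fin.rev a)) with h1 | h1 | h1
        · left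
          rintro _ ⟨u, v, huv, rfl⟩
          exact conj_Mm_mem_bor hφφ hac ha hc hπ h1 huv
        · exact absurd (π⁻¹.injective h1) ha
        · right
          rintro _ ⟨u, v, huv, rfl⟩
          apply conj_Mm_mem_bor hφφ hrac hra hc hπ _ huv
          rw [Fin.rev_rev]
          exact h1
      · rintro _ ⟨u, v, huv, rfl⟩
        by_cases hne : Mm φ a c u v = 1
        · left
          exact hne
        · right
          obtain ⟨b', hb', u', v', huv', e⟩ := rank1_bc hφφ hac ha hc hac1 hl0 hl huv hne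
          exact ⟨b', hb', _, ⟨u', v', huv', rfl⟩, e⟩
    · -- the long root
      have ha1 : (Fin.rev (ix n i)).val = (ix n i).val + 1 := by
        rw [Fin.val_rev]
        show n - (i.val + 1) = i.val + 1
        omega
      have hX : Xr φ i = {x | ∃ t : F, t + φ t = 0 ∧ x = Lm φ (ix n i) t} := by
        unfold Xr; rw [dif_neg h, dif_neg h2]
      have hY : Yr φ i = {x | ∃ t : F, t + φ t = 0 ∧ x = Lm φ (Fin.rev (ix n i)) t} := by
        unfold Yr; rw [dif_neg h, dif_neg h2]
      rw [hs, hX, hY]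
      set a := ix n i with hadef
      refine ⟨?_, ?_, ?_, ?_⟩
      · rintro _ ⟨t, ht, rfl⟩
        exact Lm_mem_bor ha hlt ht
      · intro g hg
        obtain ⟨t, ht, hg'⟩ := split_long ha1 hl0 hl hg
        exact ⟨Lm φ a t, ⟨t, ht, rfl⟩, hg'⟩
      · rintro N ⟨π, hπ⟩
        rcases lt_trichotomy (π⁻¹ a) (π⁻¹ (Fin.rev a)) with h1 | h1 | h1
        · left
          rintro _ ⟨t, ht, rfl⟩
          exact conj_Lm_mem_bor ha hπ h1 ht
        · exact absurd (π⁻¹.injective h1) ha
        · right
          rintro _ ⟨t, ht, rfl⟩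
          apply conj_Lm_mem_bor hra hπ _ ht
          rw [Fin.rev_rev]
          exact h1
      · rintro _ ⟨t, ht, rfl⟩
        by_cases ht0 : t = 0
        · left
          rw [ht0, Lm_zero ha]
        · right
          have htn : -t + φ (-t) = 0 := trace_zero_neg ht
          have hw : wL φ a (-t) = Lm φ a (-t) * Lm φ (Fin.rev a) t⁻¹ * Lm φ a (-t) := by
            unfold wL
            rw [inv_neg, neg_neg]
          obtain ⟨b', hb', e⟩ := rank1_aux (B := bor n φ) (s := wL φ a l) (x := Lm φ a t) hw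
            (by rw [Lm_add ha htn ht, neg_add_cancel, Lm_zero ha])
            (by
              apply mem_bor_of_isMon_one
              have := (wL_isMon ha hl0 hl).mul (wL_isMon ha (neg_ne_zero.2 ht0) htn).inv'
              rw [mul_inv_cancel] at this
              exact this)
            (Lm_mem_bor ha hlt htn)
          exact ⟨b', hb', Lm φ (Fin.rev a) t⁻¹, ⟨t⁻¹, trace_zero_inv ht, rfl⟩, e⟩

include hφφ hl0 hl in
/-- words in the simple reflections -/
theorem isMon_word (l' : List (Fin (n / 2))) :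
    IsMon (mt ((l'.map (sr φ l)).prod)) (l'.map (pr n)).prod := by
  induction l' with
  | nil => exact isMon_one
  | cons i l' ih =>
    rw [List.map_cons, List.prod_cons, List.map_cons, List.prod_cons, mt_mul]
    exact (sr_isMon hφφ hl0 hl i).mul ih

theorem word_mem_closure (l' : List (Fin (n / 2))) :
    (l'.map (sr φ l)).prod ∈ Subgroup.closure (Set.range (sr (n := n) φ l)) := by
  apply Subgroup.list_prod_mem
  intro x hx
  rw [List.mem_map] at hx
  obtain ⟨i, _, rfl⟩ := hx
  exact Subgroup.subset_closure ⟨i, rfl⟩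

include hφφ hl0 hl in
theorem closure_sup_eq :
    Subgroup.closure (Set.range (sr (n := n) φ l)) ⊔ (bor n φ ⊓ mon n φ) = mon n φ := by
  apply le_antisymm
  · apply sup_le
    · rw [Subgroup.closure_le]
      rintro _ ⟨i, rfl⟩
      exact sr_mem_mon hφφ hl0 hl i
    · exact inf_le_right
  · rintro N ⟨π, hπ⟩
    obtain ⟨l', hl'⟩ := exists_word π hπ.comm_rev
    set N' := (l'.map (sr φ l)).prod with hN'
    have h1 : IsMon (mt N') π := by rw [hl']; exact isMon_word hφφ hl0 hl l'
    have h2 : N'⁻¹ * N ∈ tor n φ := by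
      have := h1.inv'.mul hπ
      rw [inv_mul_cancel, ← mt_mul] at this
      exact this
    have h3 : N = N' * (N'⁻¹ * N) := by group
    rw [h3]
    apply Subgroup.mul_mem
    · exact Subgroup.mem_sup_left (word_mem_closure l')
    · apply Subgroup.mem_sup_right
      rw [← tor_eq_inf]
      exact h2

include hφφ hl0 hl in
theorem sr_sq_mem (i : Fin (n / 2)) : sr φ l i * sr φ l i ∈ bor n φ := by
  apply mem_bor_of_isMon_one
  have := (sr_isMon hφφ hl0 hl i).mul (sr_isMon hφφ hl0 hl i)
  rw [pr_mul_self, ← mt_mul] at this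
  exact this

/-- the (B, N)-pair of the special unitary group -/
noncomputable def suBN (hgen : bor n φ ⊔ mon n φ = ⊤) : Cfsg.BNPair (WSU n φ) where
  B := bor n φ
  N := mon n φ
  S := Set.range (sr (n := n) φ l)
  sup_eq_top := hgen
  conj_mem := fun N hN t ht => conj_mem_bor_of_mon hN ht
  subset := by
    rintro _ ⟨i, rfl⟩
    exact sr_mem_mon hφφ hl0 hl i
  sq_mem := by
    rintro _ ⟨i, rfl⟩
    exact sr_sq_mem hφφ hl0 hl i
  inj := by
    rintro _ ⟨i, rfl⟩ _ ⟨j, rfl⟩ h
    have h1 := (sr_isMon hφφ hl0 hl i).inv'.mul (sr_isMon hφφ hl0 hl j)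
    rw [← mt_mul] at h1
    have h2 := perm_eq_one_of_mem_bor h1 h
    rw [inv_mul_eq_one] at h2
    rw [pr_injective h2]
  closure_sup := closure_sup_eq hφφ hl0 hl
  mul_mem_union := by
    rintro _ ⟨i, rfl⟩ N hN b hb
    exact (rankOne_r hφφ hl0 hl i).mul_mem_union N hN b hb
  conj_ne := by
    rintro _ ⟨i, rfl⟩ h
    obtain ⟨x, _, hxB, hx⟩ := exists_Xr_apply_ne_zero hφφ hl0 hl i
    have h1 : sr φ l i * x * sr φ l i ∈
        (fun b : WSU n φ => sr φ l i * b * sr φ l i) '' (bor n φ : Set (WSU n φ)) := ⟨_, hxB, rfl⟩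
    rw [h] at h1
    have hsq := sr_sq_mem hφφ hl0 hl i
    have h2 : sr φ l i * x * (sr φ l i)⁻¹ ∈ bor n φ := by
      have e : sr φ l i * x * (sr φ l i)⁻¹ = (sr φ l i * x * sr φ l i) * (sr φ l i * sr φ l i)⁻¹ := by
        group
      rw [e]
      exact (bor n φ).mul_mem h1 ((bor n φ).inv_mem hsq)
    have h3 := h2 (rb n i) (ix n i) (ix_lt_rb i)
    rw [conj_apply (sr_isMon hφφ hl0 hl i), pr_inv, pr_rb, pr_ix] at h3
    rcases mul_eq_zero.1 h3 with h4 | h4
    · rcases mul_eq_zero.1 h4 with h5 | h5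
      · have := (sr_isMon hφφ hl0 hl i).apply_ne_zero (ix n i)
        rw [pr_ix] at this
        exact this h5
      · exact hx h5
    · have := (sr_isMon hφφ hl0 hl i).inv'.apply_ne_zero (ix n i)
      rw [pr_inv, pr_ix] at this
      exact this h4

end family

end Cfsg.Agent.Helper13.SuBN
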