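import Mathlib
import Cfsg.Agent.Lib.Helper13.SuBN4
import Cfsg.Agent.Lib.Helper13.SpBN5
import Cfsg.Agent.Lib.Helper11.UnitaryGeom
import Cfsg.Agent.Lib.Helper11.HermLines
import Cfsg.Agent.Lib.Helper11.Unitary3
import Cfsg.Agent.Lib.Helper25.SuSylow
import Cfsg.Agent.Lib.Helper18.SuDeg
import Cfsg.Agent.Lib.Helper18.SuN0
import Cfsg.Agent.Lib.Helper18.SuHRoot
import Cfsg.Agent.Lib.Helper2.SuGenA
import Cfsg.Agent.Lib.Helper2.SuGenB
import Cfsg.Agent.Lib.Helper27.SuGenC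
import Cfsg.Agent.Lib.Helper27.SuTransport
import Cfsg.Agent.Lib.Helper23.SuStFinal

/-!
# The Steinberg character of the special unitary group (helper13)
-/

set_option autoImplicit false
set_option linter.unusedSectionVars false
set_option linter.unusedVariables false

namespace Cfsg.Agent.Helper13.SuBN

open Matrix Cfsg.Agent.Helper13.BNAbs Cfsg.Agent.Helper13.SuP
  Cfsg.Agent.Helper2.WordLen Cfsg.Agent.Helper2.BN Cfsg.Agent.Helper17.BNCox

variable {n : ℕ} {F : Type*} [Field F] {φ : F →+* F}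

theorem finite_WSU [Finite F] : Finite (WSU n φ) :=
  Finite.of_injective (fun g : WSU n φ => mt g) mt_injective

/-- elements of `WSU` preserve the Witt form -/
theorem form_mulVec (g : WSU n φ) (p q : Fin n) :
    ∑ a, (mt g *ᵥ (ev p : Fin n → F)) a * φ ((mt g *ᵥ (ev q : Fin n → F)) (Fin.rev a)) =
      if q = Fin.rev p then 1 else 0 := by
  have h1 : (mt g)ᵀ * Kmat n F * (mt g).map φ = Kmat n F := g.2.1
  have h2 := congrFun (congrFun h1 p) q
  rw [Kmat_apply, Matrix.mul_assoc, Matrix.mul_apply] at h2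
  rw [← h2]
  apply Finset.sum_congr rfl
  intro a _
  rw [mulVec_ev, mulVec_ev, Matrix.transpose_apply, Kmat_mul_apply, Matrix.map_apply]

section gen

variable [Fintype F] {q : ℕ}

theorem frob_frob (hF : Fintype.card F = q ^ 2) (hφ : ∀ x, φ x = x ^ q) (x : F) : φ (φ x) = x := by
  rw [hφ, hφ, ← pow_mul, ← sq, ← hF, FiniteField.pow_card]

/-- `B` and `N` generate the special unitary group -/
theorem bor_sup_mon (hF : Fintype.card F = q ^ 2) (hφ : ∀ x, φ x = x ^ q) (hn : 2 ≤ n) :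
    bor n φ ⊔ mon n φ = ⊤ := by
  have hφφ : ∀ x, φ (φ x) = x := frob_frob hF hφ
  have hφ1 := Cfsg.Agent.Helper11.Herm.frob_ne_id hF φ hφ
  have hN1 := Cfsg.Agent.Helper11.Herm.frob_norm_surj hF φ hφ
  have hl := Cfsg.Agent.Helper11.Witt.exists_trace_zero φ hφ1 hφφ
  have htr : ∀ r : F, φ r = r → ∃ s : F, s + φ s = r :=
    fun r hr => Cfsg.Agent.Helper11.Witt.exists_trace_eq φ hφ1 hφφ r hr
  have htrans := exists_mulVec_eq_smul_ev (n := n) hφφ hn hl htr
  by_cases hn3 : n ≤ 3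
  · rw [eq_top_iff]
    intro g _
    set e0 : Fin n := ⟨0, by omega⟩ with he0
    have hne : e0 ≠ Fin.rev e0 := by
      intro e
      have := congrArg Fin.val e
      rw [Fin.val_rev] at this
      have : e0.val = 0 := rfl
      omega
    have hiso : ∑ a, (mt g *ᵥ (ev e0 : Fin n → F)) a *
        φ ((mt g *ᵥ (ev e0 : Fin n → F)) (Fin.rev a)) = 0 := by
      rw [form_mulVec, if_neg hne]
    have hv : mt g *ᵥ (ev e0 : Fin n → F) ≠ 0 := by
      intro h0
      have h1 : mt g⁻¹ *ᵥ (mt g *ᵥ (ev e0 : Fin n → F)) = ev e0 := by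
        rw [mulVec_mulVec, mt_inv_mul, one_mulVec]
      rw [h0, mulVec_zero] at h1
      have h2 := congrFun h1 e0
      rw [ev_self, Pi.zero_apply] at h2
      exact zero_ne_one h2
    obtain ⟨h, hh, c, hc⟩ := htrans _ hv hiso
    have h3 : h * g ∈ bor n φ := by
      apply mem_bor_of_mulVec_ev hn hn3 (h * g) c
      rw [mt_mul, ← mulVec_mulVec]
      exact hc
    have h4 : g = h⁻¹ * (h * g) := by group
    rw [h4]
    exact mul_mem (inv_mem hh) (Subgroup.mem_sup_left h3)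
  · obtain ⟨P, e, hP, hPK, _⟩ := exists_equiv_SU hF φ hφ n
    exact sup_eq_top_of_witt_basis hφφ hφ1 hN1 (by omega) P hP hPK htrans

end gen

section steinberg

variable (hφφ : ∀ x, φ (φ x) = x) {l : F} (hl0 : l ≠ 0) (hl : l + φ l = 0)
  (hgen : bor n φ ⊔ mon n φ = ⊤)

noncomputable instance : Fintype ↥(suBN hφφ hl0 hl hgen).S :=
  (Set.finite_range (sr (n := n) φ l)).fintype

/-- the index of a simple reflection -/
noncomputable def idx (s : ↥(suBN hφφ hl0 hl hgen).S) : Fin (n / 2) := Classical.choose s.2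

theorem sr_idx (s : ↥(suBN hφφ hl0 hl hgen).S) :
    sr φ l (idx hφφ hl0 hl hgen s) = (s : WSU n φ) :=
  Classical.choose_spec s.2

theorem rev_inv_apply (a : Fin n) : (Fin.revPerm : Equiv.Perm (Fin n))⁻¹ a = Fin.rev a := by
  rw [Equiv.Perm.inv_eq_iff_eq, Fin.revPerm_apply, Fin.rev_rev]

include hφφ in
/-- an element of `N` with permutation `rev` conjugates the opposite root elements into `B` -/
theorem conj_Yr_mem_bor {N0 : WSU n φ} (hN0 : IsMon (mt N0) Fin.revPerm) (i : Fin (n / 2))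
    (y : WSU n φ) (hy : y ∈ Yr φ i) : N0⁻¹ * y * N0 ∈ bor n φ := by
  have ha := ix_ne_rev i
  have hra : Fin.rev (ix n i) ≠ Fin.rev (Fin.rev (ix n i)) := by
    rw [Fin.rev_rev]; exact ha.symm
  unfold Yr at hy
  by_cases h : i.val + 1 < n / 2
  · rw [dif_pos h] at hy
    obtain ⟨t, rfl⟩ := hy
    have hab1 : (ix' n i h).val = (ix n i).val + 1 := rfl
    have hb : 2 * (ix' n i h).val + 1 < n := by
      show 2 * (i.val + 1) + 1 < n
      omega
    obtain ⟨hab, hab', ha, hbb⟩ := short_ne hab1 hb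
    apply conj_Tm_mem_bor hφφ hab.symm hbb ha hN0 _ t
    rw [rev_inv_apply, rev_inv_apply, Fin.rev_lt_rev, Fin.lt_def]
    omega
  · rw [dif_neg h] at hy
    by_cases h2 : n % 2 = 1
    · rw [dif_pos h2] at hy
      obtain ⟨u, v, huv, rfl⟩ := hy
      have hc := mid_rev h2
      have hrac : Fin.rev (ix n i) ≠ mid n h2 := by
        intro e
        have h3 := congrArg Fin.val e
        rw [Fin.val_rev] at h3
        have h4 : (ix n i).val = i.val := rfl
        have h5 : (mid n h2).val = n / 2 := rfl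
        have := i.2
        omega
      apply conj_Mm_mem_bor hφφ hrac hra hc hN0 _ huv
      rw [rev_inv_apply, rev_inv_apply, Fin.rev_lt_rev, Fin.rev_rev]
      exact ix_lt_rev i
    · rw [dif_neg h2] at hy
      obtain ⟨t, ht, rfl⟩ := hy
      apply conj_Lm_mem_bor hra hN0 _ ht
      rw [rev_inv_apply, rev_inv_apply, Fin.rev_lt_rev, Fin.rev_rev]
      exact ix_lt_rev i

theorem n0_allDesc [Finite F] {N0 : WSU n φ} (hN0 : IsMon (mt N0) Fin.revPerm)
    (t : ↥(suBN hφφ hl0 hl hgen).S) :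
    ℓ (suBN hφφ hl0 hl hgen) (π (suBN hφφ hl0 hl hgen) ⟨N0, ⟨Fin.revPerm, hN0⟩⟩ *
      σ (suBN hφφ hl0 hl hgen) t) <
    ℓ (suBN hφφ hl0 hl hgen) (π (suBN hφφ hl0 hl hgen) ⟨N0, ⟨Fin.revPerm, hN0⟩⟩) := by
  have : Finite (WSU n φ) := finite_WSU
  apply allDesc_of_rankOne (suBN hφφ hl0 hl hgen) ⟨N0, ⟨Fin.revPerm, hN0⟩⟩
    (fun s => Xr φ (idx hφφ hl0 hl hgen s)) (fun s => Yr φ (idx hφφ hl0 hl hgen s))
  · intro s
    have := rankOne_r hφφ hl0 hl (idx hφφ hl0 hl hgen s)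
    rw [sr_idx] at this
    exact this
  · intro s
    obtain ⟨x, hx, _, hx0⟩ := exists_Xr_apply_ne_zero hφφ hl0 hl (idx hφφ hl0 hl hgen s)
    refine ⟨x, hx, ?_⟩
    intro e
    rw [e, mt_one, Matrix.one_apply_ne (ne_of_lt (ix_lt_rb _))] at hx0
    exact hx0 rfl
  · intro s y hy
    exact conj_Yr_mem_bor hφφ hN0 _ y hy

/-- `B ∩ n₀ B n₀⁻¹` is the diagonal subgroup -/
theorem mem_tor_iff_conj {N0 : WSU n φ} (hN0 : IsMon (mt N0) Fin.revPerm) (x : WSU n φ)
    (hx : x ∈ bor n φ) : x ∈ tor n φ ↔ N0⁻¹ * x * N0 ∈ bor n φ := by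
  have hN0m : N0 ∈ mon n φ := ⟨_, hN0⟩
  constructor
  · intro h
    have h1 := conj_mem_bor_of_mon ((mon n φ).inv_mem hN0m) (t := x)
      (by rw [← tor_eq_inf]; exact h)
    rwa [inv_inv] at h1
  · intro h
    rw [mem_tor_iff']
    intro a b hab
    rcases lt_or_gt_of_ne hab with h1 | h1
    · have h2 := h (Fin.rev a) (Fin.rev b) (Fin.rev_lt_rev.2 h1)
      rw [conj_inv_apply hN0, Fin.revPerm_apply, Fin.revPerm_apply, Fin.rev_rev, Fin.rev_rev] at h2
      rcases mul_eq_zero.1 h2 with h3 | h3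
      · rcases mul_eq_zero.1 h3 with h4 | h4
        · have := hN0.inv'.apply_ne_zero a
          rw [rev_inv_apply] at this
          exact absurd h4 this
        · exact h4
      · have := hN0.apply_ne_zero (Fin.rev b)
        rw [Fin.revPerm_apply, Fin.rev_rev] at this
        exact absurd h3 this
    · exact hx a b h1

/-- the degree of the Steinberg character -/
theorem St_one [Finite F] {N0 : WSU n φ} (hN0 : IsMon (mt N0) Fin.revPerm) :
    St (suBN hφφ hl0 hl hgen) 1 = (Nat.card (unip n φ) : ℂ) := by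
  have : Finite (WSU n φ) := finite_WSU
  have h := St_apply_B (suBN hφφ hl0 hl hgen) ⟨N0, ⟨Fin.revPerm, hN0⟩⟩
    (n0_allDesc hφφ hl0 hl hgen hN0) (tor n φ) (mem_tor_iff_conj hN0)
    (1 : ↥(suBN hφφ hl0 hl hgen).B)
  rw [OneMemClass.coe_one, Cfsg.Agent.Helper13.SpBN.fixedPointCharacter_one_eq] at h
  rw [h]
  congr 1
  exact index_tor

/-- the centre acts trivially -/
theorem St_center (hroot : ∀ a b : Fin n, a.val + 1 = b.val → ∃ u ∈ unip n φ, mt u a b ≠ 0)
    (z : WSU n φ) (hz : z ∈ Subgroup.center (WSU n φ)) :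
    St (suBN hφφ hl0 hl hgen) z = St (suBN hφφ hl0 hl hgen) 1 := by
  have hzB : z ∈ bor n φ := by
    apply mem_bor_of_normalizes hroot
    intro u hu
    have hc : u * z = z * u := (Subgroup.mem_center_iff.1 hz u)
    have e : z⁻¹ * u * z = u := by
      rw [mul_assoc, hc, ← mul_assoc, inv_mul_cancel, one_mul]
    rw [e]
    exact hu
  unfold St
  apply Finset.sum_congr rfl
  intro A _
  congr 1
  exact Cfsg.Agent.Helper13.SpBN.fixedPointCharacter_central_eq _ z hz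
    (B_le_par (suBN hφφ hl0 hl hgen) _ hzB)

end steinberg

/-- the Steinberg character of `PSU_n(q)` -/
theorem steinberg_PSU {F : Type*} [Field F] [Fintype F] (p : ℕ) [Fact p.Prime] [CharP F p]
    (n q : ℕ) (hn : 2 ≤ n) (hF : Fintype.card F = q ^ 2) :
    ∃ χ : Cfsg.PSU n F q → ℂ, Cfsg.IsIrrCharacter (Cfsg.PSU n F q) χ ∧
      ∀ P : Sylow p (Cfsg.PSU n F q), χ 1 = Nat.card P ∧
        ∀ x : Cfsg.PSU n F q, x ∈ P → x ≠ 1 → χ x = 0 := by
  obtain ⟨φ, hφ⟩ := Cfsg.Agent.Helper11.Herm.exists_frob hF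
  have hφφ : ∀ x, φ (φ x) = x := frob_frob hF hφ
  have hφ1 := Cfsg.Agent.Helper11.Herm.frob_ne_id hF φ hφ
  obtain ⟨l, hl0, hl⟩ := Cfsg.Agent.Helper11.Witt.exists_trace_zero φ hφ1 hφφ
  have htr : ∀ r : F, φ r = r → ∃ s : F, s + φ s = r :=
    fun r hr => Cfsg.Agent.Helper11.Witt.exists_trace_eq φ hφ1 hφφ r hr
  have hgen : bor n φ ⊔ mon n φ = ⊤ := bor_sup_mon hF hφ hn
  obtain ⟨N0, hN0⟩ := exists_n0 (n := n) hl0 hl
  have hroot : ∀ a b : Fin n, a.val + 1 = b.val → ∃ u ∈ unip n φ, mt u a b ≠ 0 :=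
    exists_unip_apply_ne_zero hφφ ⟨l, hl0, hl⟩ htr
  have : Finite (WSU n φ) := finite_WSU
  letI : Fintype (WSU n φ) := Fintype.ofFinite _
  obtain ⟨P, e, _, _, _⟩ := exists_equiv_SU hF φ hφ n
  let U : Sylow p (WSU n φ) :=
    { toSubgroup := unip n φ
      isPGroup' := unip_isPGroup p
      is_maximal' := fun {Q} hQ hle => unip_isMax p hroot hQ hle }
  exact Cfsg.Agent.Helper13.SuP.steinberg_transfer e p U (St (suBN hφφ hl0 hl hgen))
    (St_irr (suBN hφφ hl0 hl hgen)) (St_one hφφ hl0 hl hgen hN0)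
    (St_center hφφ hl0 hl hgen hroot)

end Cfsg.Agent.Helper13.SuBN
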