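import Mathlib
import Cfsg.Agent.Lib.Helper13.SdBN1
import Cfsg.Agent.Lib.Helper13.SuBN5
import Cfsg.Agent.Lib.Helper25.SuSylow

/-!
# S2548, piece CARDB: `B = T ⋉ U` and `T` is a `p'`-group (helper13)
-/

set_option autoImplicit false
set_option linter.unusedSectionVars false
set_option linter.unusedVariables false

namespace Cfsg.Agent.Helper13.SdP

open Matrix Cfsg.Agent.Helper13.SuBN Cfsg.Agent.Helper13.SdBN Cfsg.Agent.Helper13.SuP

variable {n : ℕ} {F : Type*} [Field F]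

theorem card_borQ [Finite F] :
    Nat.card (borQ n F) = Nat.card (tor n (RingHom.id F)) * Nat.card (unipQ n F) := by
  rw [← Nat.card_prod]
  symm
  apply Nat.card_congr
  refine Equiv.ofBijective
    (fun x : (tor n (RingHom.id F)) × (unipQ n F) => (⟨x.1.1 * x.2.1,
      (borQ n F).mul_mem ⟨tor_le_bor x.1.2, tor_le_soq x.1.2⟩
        ⟨unip_le_bor x.2.2.1, x.2.2.2⟩⟩ : borQ n F)) ⟨?_, ?_⟩
  · rintro ⟨⟨t, ht⟩, ⟨u, hu⟩⟩ ⟨⟨t', ht'⟩, ⟨u', hu'⟩⟩ e
    have e1 : t * u = t' * u' := congrArg Subtype.val e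
    have e2 : t'⁻¹ * t = u' * u⁻¹ := by
      rw [inv_mul_eq_iff_eq_mul, ← mul_assoc, ← e1, mul_inv_cancel_right]
    have h1 : t'⁻¹ * t ∈ tor n (RingHom.id F) ⊓ unip n (RingHom.id F) :=
      ⟨(tor n (RingHom.id F)).mul_mem ((tor n (RingHom.id F)).inv_mem ht') ht, by
        rw [e2]
        exact (unip n (RingHom.id F)).mul_mem hu'.1 ((unip n (RingHom.id F)).inv_mem hu.1)⟩
    rw [tor_inf_unip, Subgroup.mem_bot] at h1
    have h2 : t = t' := by
      rw [inv_mul_eq_one] at h1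
      exact h1.symm
    subst h2
    have h3 : u = u' := mul_left_cancel e1
    subst h3
    rfl
  · rintro ⟨b, hb⟩
    have hd : dpart b hb.1 ∈ tor n (RingHom.id F) := dpart_mem_tor b hb.1
    refine ⟨(⟨dpart b hb.1, hd⟩, ⟨(dpart b hb.1)⁻¹ * b, inv_dpart_mul_mem_unip b hb.1,
      (soq n F).mul_mem ((soq n F).inv_mem (tor_le_soq hd)) hb.2⟩), ?_⟩
    apply Subtype.ext
    show dpart b hb.1 * ((dpart b hb.1)⁻¹ * b) = b
    rw [mul_inv_cancel_left]

theorem tor_pow_card_sub_one [Fintype F] (t : WSU n (RingHom.id F)) (ht : t ∈ tor n (RingHom.id F)) :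
    t ^ (Fintype.card F - 1) = 1 := by
  apply mt_injective
  ext a b
  have hk : t ^ (Fintype.card F - 1) ∈ tor n (RingHom.id F) := (tor n (RingHom.id F)).pow_mem ht _
  by_cases hab : a = b
  · subst hab
    rw [pow_apply_diag (tor_le_bor ht), mt_one, Matrix.one_apply_eq]
    exact FiniteField.pow_card_sub_one_eq_one _ (diag_ne_zero (tor_le_bor ht) a)
  · rw [(mem_tor_iff' _).1 hk a b hab, mt_one, Matrix.one_apply_ne hab]

theorem not_dvd_card_tor [Fintype F] (p : ℕ) [Fact p.Prime] [CharP F p] :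
    ¬ p ∣ Nat.card (tor n (RingHom.id F)) := by
  intro hdvd
  have hp : p.Prime := Fact.out
  have : Finite (WSU n (RingHom.id F)) := finite_WSU
  obtain ⟨t, ht⟩ := exists_prime_orderOf_dvd_card' p hdvd
  have h1 : (t : WSU n (RingHom.id F)) ^ (Fintype.card F - 1) = 1 :=
    tor_pow_card_sub_one t.1 t.2
  have h2 : t ^ (Fintype.card F - 1) = 1 := by
    apply Subtype.ext
    rw [SubgroupClass.coe_pow, h1]
    rfl
  have h3 : p ∣ Fintype.card F - 1 := by
    rw [← ht]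
    exact orderOf_dvd_of_pow_eq_one h2
  have h4 : p ∣ Fintype.card F := by
    obtain ⟨k, _, hk⟩ := FiniteField.card F p
    rw [hk]
    exact dvd_pow_self p k.ne_zero
  have h5 : 1 ≤ Fintype.card F := Fintype.card_pos
  have h6 : p ∣ 1 := by
    have := Nat.dvd_sub h4 h3
    rwa [Nat.sub_sub_self h5] at this
  exact hp.one_lt.ne' (Nat.dvd_one.1 h6)

end Cfsg.Agent.Helper13.SdP
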