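import Mathlib
import Cfsg.Agent.Lib.Helper13.SdBN1

/-!
# S2548, piece TORD: the longest element of the Weyl group of type `D_m` (helper13)
-/

set_option autoImplicit false
set_option linter.unusedSectionVars false
set_option linter.unusedVariables false

namespace Cfsg.Agent.Helper13.SdP

open Matrix Cfsg.Agent.Helper13.SuBN Cfsg.Agent.Helper13.SdBN

variable {n : ℕ} {F : Type*} [Field F]

theorem st_hid : ∀ x : F, (RingHom.id F) ((RingHom.id F) x) = x := fun _ => rfl

/-- the values of `pi0` -/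
theorem pi0_val (hn : n % 2 = 0) (x : Fin n) :
    (pi0 n x).val =
      if (n / 2) % 2 = 1 ∧ (x.val = n / 2 - 1 ∨ x.val = n / 2) then x.val else n - 1 - x.val := by
  have hx := x.2
  unfold pi0
  by_cases h : (n / 2) % 2 = 1
  · rw [dif_pos h, Equiv.Perm.mul_apply, Fin.revPerm_apply, Fin.val_rev]
    have hc : ((⟨n / 2 - 1, by omega⟩ : Fin n)).val = n / 2 - 1 := rfl
    have hd : ((⟨n / 2, by omega⟩ : Fin n)).val = n / 2 := rfl
    by_cases h1 : x = ⟨n / 2 - 1, by omega⟩
    · rw [h1, Equiv.swap_apply_left, if_pos ⟨h, Or.inl rfl⟩]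
      show n - (n / 2 + 1) = n / 2 - 1
      omega
    by_cases h2 : x = ⟨n / 2, by omega⟩
    · rw [h2, Equiv.swap_apply_right, if_pos ⟨h, Or.inr rfl⟩]
      show n - (n / 2 - 1 + 1) = n / 2
      omega
    · rw [Equiv.swap_apply_of_ne_of_ne h1 h2, if_neg]
      · omega
      · rintro ⟨_, h3 | h3⟩
        · exact h1 (Fin.ext h3)
        · exact h2 (Fin.ext h3)
  · rw [dif_neg h, Fin.revPerm_apply, Fin.val_rev, if_neg (fun h' => h h'.1)]
    omega

theorem pi0_pi0 (hn : n % 2 = 0) (x : Fin n) : pi0 n (pi0 n x) = x := by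
  apply Fin.ext
  have h1 := pi0_val hn (pi0 n x)
  have h2 := pi0_val hn x
  have hx := x.2
  rw [h1]
  split_ifs at h2 ⊢ <;> omega

theorem pi0_inv (hn : n % 2 = 0) : (pi0 n)⁻¹ = pi0 n := by
  rw [inv_eq_iff_mul_eq_one]
  ext x
  rw [Equiv.Perm.mul_apply, pi0_pi0 hn, Equiv.Perm.one_apply]

theorem conj_YD_mem_bor (hn : n % 2 = 0) (h4 : 4 ≤ n) {N0 : WSU n (RingHom.id F)}
    (hN0 : IsMon (mt N0) (pi0 n)) (i : Fin (n / 2)) (y : WSU n (RingHom.id F)) (hy : y ∈ YD n F i) :
    N0⁻¹ * y * N0 ∈ bor n (RingHom.id F) := by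
  obtain ⟨hab, hab', ha, hbb, hlt⟩ := abD hn h4 i
  obtain ⟨t, rfl⟩ := hy
  apply conj_Tm_mem_bor st_hid hab.symm hbb ha hN0 _ t
  rw [pi0_inv hn, Fin.lt_def, pi0_val hn, pi0_val hn, aD_val, bD_val]
  have hi := i.2
  split_ifs <;> omega

theorem mem_tor_iff_conjD (hn : n % 2 = 0) (h4 : 4 ≤ n) {N0 : WSU n (RingHom.id F)}
    (hN0 : IsMon (mt N0) (pi0 n)) (hN0q : N0 ∈ soq n F) (x : WSU n (RingHom.id F))
    (hx : x ∈ borQ n F) : x ∈ tor n (RingHom.id F) ↔ N0⁻¹ * x * N0 ∈ borQ n F := by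
  have hN0m : N0 ∈ mon n (RingHom.id F) := ⟨_, hN0⟩
  constructor
  · intro h
    have h1 := conj_mem_bor_of_mon ((mon n (RingHom.id F)).inv_mem hN0m) (t := x)
      (by rw [← tor_eq_inf]; exact h)
    rw [inv_inv] at h1
    exact ⟨h1, (soq n F).mul_mem ((soq n F).mul_mem ((soq n F).inv_mem hN0q) hx.2) hN0q⟩
  · intro h
    rw [mem_tor_iff']
    intro a b hab
    rcases lt_or_gt_of_ne hab with h1 | h1
    · by_cases hord : pi0 n b < pi0 n a
      · have h2 := h.1 (pi0 n a) (pi0 n b) hord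
        rw [conj_inv_apply hN0, pi0_pi0 hn, pi0_pi0 hn] at h2
        rcases mul_eq_zero.1 h2 with h3 | h3
        · rcases mul_eq_zero.1 h3 with h4' | h4'
          · have := hN0.inv'.apply_ne_zero a
            rw [pi0_inv hn] at this
            exact absurd h4' this
          · exact h4'
        · have := hN0.apply_ne_zero (pi0 n b)
          rw [pi0_pi0 hn] at this
          exact absurd h3 this
      · -- the middle pair
        have hva := pi0_val hn a
        have hvb := pi0_val hn b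
        rw [Fin.lt_def] at hord h1
        have ha2 := a.2
        have hb2 := b.2
        have hab2 : (Fin.rev a).val = a.val + 1 ∧ b.val = a.val + 1 := by
          rw [Fin.val_rev]
          split_ifs at hva hvb <;> omega
        have e : b = Fin.rev a := Fin.ext (by rw [hab2.1, hab2.2])
        rw [e]
        exact mid_zero hx hab2.1
    · exact hx.1 a b h1

end Cfsg.Agent.Helper13.SdP
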