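import Mathlib
import Cfsg.Agent.Lib.Helper13.SdTor

/-!
# S2548, piece N0D: a representative of the longest element of the Weyl group of type `D_m` (helper13)
-/

set_option autoImplicit false
set_option linter.unusedSectionVars false
set_option linter.unusedVariables false

namespace Cfsg.Agent.Helper13.SdP

open Matrix Cfsg.Agent.Helper13.SuBN Cfsg.Agent.Helper13.SdBN

variable {n : ℕ} {F : Type*} [Field F]

/-- the sign of the order reversing permutation -/
theorem sign_revPerm (hn : n % 2 = 0) (h2 : 2 ≤ n) :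
    Equiv.Perm.sign (Fin.revPerm : Equiv.Perm (Fin n)) = (-1) ^ (n / 2) := by
  set σ : Equiv.Perm (Fin n) := Fin.revPerm with hσ
  have hsq : σ ^ 2 = 1 := by
    ext x
    rw [pow_two, Equiv.Perm.mul_apply, Equiv.Perm.one_apply, hσ, Fin.revPerm_apply,
      Fin.revPerm_apply, Fin.rev_rev]
  have hfix : ∀ x, σ x ≠ x := by
    intro x e
    have h := congrArg Fin.val e
    rw [hσ, Fin.revPerm_apply, Fin.val_rev] at h
    have := x.2
    omega
  have hne : σ ≠ 1 := by
    intro e
    have := hfix ⟨0, by omega⟩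
    rw [e, Equiv.Perm.one_apply] at this
    exact this rfl
  have hord : orderOf σ = 2 := orderOf_eq_prime hsq hne
  have hprime : (orderOf σ).Prime := by rw [hord]; exact Nat.prime_two
  obtain ⟨k, hk⟩ := Equiv.Perm.cycleType_prime_order hprime
  rw [hord] at hk
  have hsupp : σ.support = Finset.univ := by
    ext x
    simp only [Equiv.Perm.mem_support, Finset.mem_univ, iff_true]
    exact hfix x
  have hsum := Equiv.Perm.sum_cycleType σ
  rw [hk, Multiset.sum_replicate, hsupp, Finset.card_univ, Fintype.card_fin, smul_eq_mul] at hsum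
  have hk2 : k + 1 = n / 2 := by omega
  rw [Equiv.Perm.sign_of_cycleType, hk, Multiset.sum_replicate, Multiset.card_replicate, smul_eq_mul,
    hk2, pow_add, pow_mul', neg_one_sq, one_pow, one_mul]

theorem sign_pi0 (hn : n % 2 = 0) (h4 : 4 ≤ n) : Equiv.Perm.sign (pi0 n) = 1 := by
  unfold pi0
  by_cases h : (n / 2) % 2 = 1
  · rw [dif_pos h, map_mul, sign_revPerm hn (by omega), Equiv.Perm.sign_swap]
    · have : Odd (n / 2) := Nat.odd_iff.2 h
      rw [this.neg_one_pow]
      rfl
    · intro e
      have := congrArg Fin.val e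
      simp only at this
      omega
  · rw [dif_neg h, sign_revPerm hn (by omega)]
    have : Even (n / 2) := Nat.even_iff.2 (by omega)
    rw [this.neg_one_pow]

/-- the permutation matrix of `pi0` -/
def n0M (n : ℕ) (F : Type*) [Field F] : Matrix (Fin n) (Fin n) F :=
  Matrix.of fun a b => if pi0 n a = b then 1 else 0

theorem n0M_eq : n0M n F = (pi0 n).permMatrix F := by
  ext a b
  unfold n0M
  rw [Matrix.of_apply, Equiv.Perm.permMatrix, PEquiv.toMatrix_apply]
  simp [Equiv.toPEquiv_apply]

theorem pi0_rev (hn : n % 2 = 0) (x : Fin n) : pi0 n (Fin.rev x) = Fin.rev (pi0 n x) := by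
  apply Fin.ext
  rw [Fin.val_rev, pi0_val hn, pi0_val hn, Fin.val_rev]
  have := x.2
  split_ifs <;> omega

theorem exists_n0D (hn : n % 2 = 0) (h4 : 4 ≤ n) :
    ∃ N0 : WSU n (RingHom.id F), N0 ∈ monE n F ∧ IsMon (mt N0) (pi0 n) := by
  have hdet : (n0M n F).det = 1 := by
    rw [n0M_eq, Matrix.det_permutation, sign_pi0 hn h4]
    simp
  have hdag : dag (RingHom.id F) (n0M n F) * n0M n F = 1 := by
    ext p r
    rw [Matrix.mul_apply, Finset.sum_eq_single (pi0 n p)]
    · rw [dag_apply]
      unfold n0M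
      rw [Matrix.of_apply, Matrix.of_apply, pi0_pi0 hn, pi0_rev hn, pi0_pi0 hn, if_pos rfl]
      show (1 : F) * _ = _
      rw [one_mul, Matrix.one_apply]
    · intro q _ hq
      rw [dag_apply]
      unfold n0M
      rw [Matrix.of_apply, pi0_rev hn, if_neg]
      · show (RingHom.id F) 0 * _ = 0
        rw [map_zero, zero_mul]
      · intro e
        apply hq
        have := Fin.rev_inj.1 e
        rw [← this, pi0_pi0 hn]
    · intro h; exact absurd (Finset.mem_univ _) h
  have hmon : IsMon (mt (mkW (n0M n F) hdet hdag)) (pi0 n) := by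
    intro a b hab
    rw [mt_mkW]
    unfold n0M
    rw [Matrix.of_apply, if_neg]
    intro e
    apply hab
    rw [← e, pi0_pi0 hn]
  refine ⟨mkW (n0M n F) hdet hdag, ⟨?_, pi0 n, hmon, sign_pi0 hn h4⟩, hmon⟩
  apply mem_soq_of_cols hn
  intro j
  have hcol : mt (mkW (n0M n F) hdet hdag) *ᵥ (ev j : Fin n → F) = ev (pi0 n j) := by
    funext a
    rw [mulVec_ev, mt_mkW, ev_apply]
    unfold n0M
    rw [Matrix.of_apply]
    by_cases h : pi0 n a = j
    · rw [if_pos h, if_pos (by rw [← h, pi0_pi0 hn])]
    · rw [if_neg h, if_neg (fun e => h (by rw [e, pi0_pi0 hn]))]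
  rw [hcol, qf_ev]

end Cfsg.Agent.Helper13.SdP
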