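import Mathlib
import Cfsg.Agent.Lib.Helper13.SdBN1

/-!
# S2548, piece SPLITD: `B = (B ∩ s⁻¹ B s) X` for the last simple root of type `D_m` (helper13)
-/

set_option autoImplicit false
set_option linter.unusedSectionVars false
set_option linter.unusedVariables false

namespace Cfsg.Agent.Helper13.SdP

open Matrix Cfsg.Agent.Helper13.SuBN Cfsg.Agent.Helper13.SdBN

variable {n : ℕ} {F : Type*} [Field F]

theorem sd_hid : ∀ x : F, (RingHom.id F) ((RingHom.id F) x) = x := fun _ => rfl

/-- the values of `piS a b` -/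
theorem sd_val_piS {a b : Fin n} (hab : a ≠ b) (hab' : a ≠ Fin.rev b) (ha : a ≠ Fin.rev a)
    (hb : b ≠ Fin.rev b) (x : Fin n) :
    (piS a b x).val =
      if x.val = a.val then b.val else if x.val = b.val then a.val
      else if x.val = (Fin.rev a).val then (Fin.rev b).val
      else if x.val = (Fin.rev b).val then (Fin.rev a).val else x.val := by
  have n1 : a.val ≠ b.val := fun e => hab (Fin.ext e)
  have n2 : a.val ≠ (Fin.rev b).val := fun e => hab' (Fin.ext e)
  have n3 : a.val ≠ (Fin.rev a).val := fun e => ha (Fin.ext e)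
  have n4 : b.val ≠ (Fin.rev b).val := fun e => hb (Fin.ext e)
  have n5 : b.val ≠ (Fin.rev a).val := fun e => (ne_rev_symm hab') (Fin.ext e)
  have n6 : (Fin.rev a).val ≠ (Fin.rev b).val := fun e => (rev_ne_of_ne hab) (Fin.ext e)
  by_cases h1 : x = a
  · rw [h1, piS_a hab hab' ha hb, if_pos rfl]
  by_cases h2 : x = b
  · rw [h2, piS_b hab hab' ha hb, if_neg n1.symm, if_pos rfl]
  by_cases h3 : x = Fin.rev a
  · rw [h3, piS_ra hab hab' ha hb, if_neg n3.symm, if_neg n5.symm, if_pos rfl]
  by_cases h4 : x = Fin.rev b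
  · rw [h4, piS_rb hab hab' ha hb, if_neg n2.symm, if_neg n4.symm, if_neg n6.symm, if_pos rfl]
  · rw [piS_of_ne h1 h2 h3 h4, if_neg (fun e => h1 (Fin.ext e)), if_neg (fun e => h2 (Fin.ext e)),
      if_neg (fun e => h3 (Fin.ext e)), if_neg (fun e => h4 (Fin.ext e))]

theorem split_D (hn : n % 2 = 0) (h4 : 4 ≤ n) (i : Fin (n / 2)) (hi : ¬ i.val + 1 < n / 2)
    {g : WSU n (RingHom.id F)} (hg : g ∈ borQ n F) :
    ∃ t : F, srD n F i * (g * (Tm (RingHom.id F) (aD n i) (bD n i) t)⁻¹) * (srD n F i)⁻¹ ∈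
      bor n (RingHom.id F) := by
  obtain ⟨hab, hab', ha, hbb, hlt⟩ := abD hn h4 i
  have hi2 := i.2
  have hiv : i.val + 1 = n / 2 := by omega
  have hav : (aD n i).val = i.val - 1 := by rw [aD_val, if_neg hi]
  have hbv : (bD n i).val = n - 1 - i.val := by rw [bD_val, if_neg hi]
  have hrav : (Fin.rev (aD n i)).val = n - i.val := by rw [Fin.val_rev, hav]; omega
  have hrbv : (Fin.rev (bD n i)).val = i.val := by rw [Fin.val_rev, hbv]; omega
  set a := aD n i with hadef
  set b := bD n i with hbdef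
  refine ⟨mt g a b / mt g a a, ?_⟩
  set t := mt g a b / mt g a a with ht
  have hx : Tm (RingHom.id F) a b (-t) ∈ borQ n F :=
    ⟨Tm_mem_bor sd_hid hab ha hbb hlt _, Tm_mem_soq hab hab' ha hbb hn _⟩
  have hg' : g * (Tm (RingHom.id F) a b t)⁻¹ ∈ borQ n F := by
    rw [Tm_inv sd_hid hab ha hbb]
    exact (borQ n F).mul_mem hg hx
  set g' := g * (Tm (RingHom.id F) a b t)⁻¹ with hg'def
  -- the four entries
  have E1 : mt g' a b = 0 := by
    rw [hg'def, Tm_inv sd_hid hab ha hbb, mul_apply_col, Tm_ev_b sd_hid hab hab' ha hbb, mulVec_add,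
      mulVec_smul, Pi.add_apply, Pi.smul_apply, mulVec_ev, mulVec_ev, ht, smul_eq_mul]
    have := diag_ne_zero hg.1 a
    field_simp
    ring
  have E2 : mt g' (Fin.rev b) b = 0 := by
    have := mid_zero hg' (c := Fin.rev b) (by rw [Fin.rev_rev, hrbv, hbv]; omega)
    rw [Fin.rev_rev] at this
    exact this
  have E3 : mt g' (Fin.rev b) (Fin.rev a) = 0 := by
    have hne : Fin.rev b ≠ Fin.rev a := (rev_ne_of_ne hab).symm
    have h1 : mt (g'⁻¹ * g') (Fin.rev b) (Fin.rev a) = 0 := by
      rw [inv_mul_cancel, mt_one, Matrix.one_apply_ne hne]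
    rw [mt_mul, Matrix.mul_apply, Finset.sum_eq_single (Fin.rev b)] at h1
    · rw [inv_apply, Fin.rev_rev] at h1
      rcases mul_eq_zero.1 h1 with h | h
      · exact absurd h (diag_ne_zero hg'.1 b)
      · exact h
    · intro k _ hk
      rw [inv_apply, Fin.rev_rev]
      have hkv : k.val ≠ i.val := fun e => hk (Fin.ext (by rw [e, hrbv]))
      by_cases hk1 : k.val < i.val
      · have : b < Fin.rev k := by
          rw [Fin.lt_def, hbv, Fin.val_rev]
          omega
        rw [hg'.1 _ _ this]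
        show (RingHom.id F) 0 * _ = 0
        rw [map_zero, zero_mul]
      by_cases hk2 : k.val = n - 1 - i.val
      · have e : k = b := Fin.ext (by rw [hk2, hbv])
        rw [e, E2]
        show (RingHom.id F) 0 * _ = 0
        rw [map_zero, zero_mul]
      by_cases hk3 : k.val = n - i.val
      · have e : k = Fin.rev a := Fin.ext (by rw [hk3, hrav])
        rw [e, Fin.rev_rev, E1]
        show (RingHom.id F) 0 * _ = 0
        rw [map_zero, zero_mul]
      · have : Fin.rev a < k := by
          rw [Fin.lt_def, hrav]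
          omega
        rw [hg'.1 _ _ this, mul_zero]
    · intro h; exact absurd (Finset.mem_univ _) h
  have E4 : mt g' a (Fin.rev a) = 0 := by
    have h1 := qf_col hg'.2 (Fin.rev a)
    have hi1 : i.val - 1 < n / 2 := by omega
    rw [Finset.sum_eq_single (⟨i.val - 1, hi1⟩ : Fin (n / 2))] at h1
    · have e : ix n (⟨i.val - 1, hi1⟩ : Fin (n / 2)) = a := Fin.ext (by rw [hav]; rfl)
      rw [e] at h1
      rcases mul_eq_zero.1 h1 with h | h
      · exact h
      · exact absurd h (diag_ne_zero hg'.1 _)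
    · intro k _ hk
      have hkv : k.val ≠ i.val - 1 := fun e => hk (Fin.ext e)
      have hk2 := k.2
      by_cases hk1 : k.val = i.val
      · have e : ix n k = Fin.rev b := Fin.ext (by rw [hrbv]; exact hk1)
        rw [e, E3, zero_mul]
      · have : Fin.rev a < Fin.rev (ix n k) := by
          rw [Fin.lt_def, hrav, Fin.val_rev]
          show n - i.val < n - (k.val + 1)
          omega
        rw [hg'.1 _ _ this, mul_zero]
    · intro h; exact absurd (Finset.mem_univ _) h
  -- conjugating
  have hmon : IsMon (mt (srD n F i)) (piS a b) := wS_isMon sd_hid hab hab' ha hbb one_ne_zero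
  apply conj_mem_bor hmon hg'.1
  intro p q h1 h2
  rw [piS_inv hab hab' ha hbb] at h2 ⊢
  set π := piS a b with hπ
  have hinv : ∀ x, π (π x) = x := by
    intro x
    have := congrArg (fun f : Equiv.Perm (Fin n) => f x) (piS_mul_self hab hab' ha hbb)
    simpa using this
  have hp := sd_val_piS hab hab' ha hbb (π p)
  have hq := sd_val_piS hab hab' ha hbb (π q)
  rw [← hπ, hinv] at hp hq
  rw [hav, hbv, hrav, hrbv] at hp hq
  rw [Fin.lt_def] at h1 h2
  have hp' := (π p).2
  have hq' := (π q).2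
  have key : ((π p).val = i.val - 1 ∧ (π q).val = n - 1 - i.val) ∨
      ((π p).val = i.val - 1 ∧ (π q).val = n - i.val) ∨
      ((π p).val = i.val ∧ (π q).val = n - 1 - i.val) ∨
      ((π p).val = i.val ∧ (π q).val = n - i.val) := by
    split_ifs at hp hq <;> omega
  rcases key with ⟨e1, e2⟩ | ⟨e1, e2⟩ | ⟨e1, e2⟩ | ⟨e1, e2⟩
  · have k1 : π p = a := Fin.ext (by rw [e1, hav])
    have k2 : π q = b := Fin.ext (by rw [e2, hbv])
    rw [k1, k2]
    exact E1
  · have k1 : π p = a := Fin.ext (by rw [e1, hav])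
    have k2 : π q = Fin.rev a := Fin.ext (by rw [e2, hrav])
    rw [k1, k2]
    exact E4
  · have k1 : π p = Fin.rev b := Fin.ext (by rw [e1, hrbv])
    have k2 : π q = b := Fin.ext (by rw [e2, hbv])
    rw [k1, k2]
    exact E2
  · have k1 : π p = Fin.rev b := Fin.ext (by rw [e1, hrbv])
    have k2 : π q = Fin.rev a := Fin.ext (by rw [e2, hrav])
    rw [k1, k2]
    exact E3

end Cfsg.Agent.Helper13.SdP
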