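import Mathlib
import Cfsg.Agent.Lib.Helper13.SdSplit
import Cfsg.Agent.Lib.Helper2.SuWGen

/-!
# S2548, piece DWORD: the even signed permutations are words in the reflections of type `D_m` (helper13)
-/

set_option autoImplicit false
set_option linter.unusedSectionVars false
set_option linter.unusedVariables false

namespace Cfsg.Agent.Helper13.SdP

open Cfsg.Agent.Helper13.SuBN Cfsg.Agent.Helper13.SdBN Cfsg.Agent.Helper13.SuP

variable {n : ℕ}

/-- conjugating `piS a b` by a permutation commuting with `Fin.rev` -/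
theorem conj_piS (σ : Equiv.Perm (Fin n)) (hσ : ∀ a, σ (Fin.rev a) = Fin.rev (σ a)) (a b : Fin n) :
    σ * piS a b * σ⁻¹ = piS (σ a) (σ b) := by
  unfold piS
  rw [Equiv.swap_apply_apply, ← hσ, ← hσ, Equiv.swap_apply_apply]
  group

/-- the last index -/
def lastI (h4 : 4 ≤ n) : Fin (n / 2) := ⟨n / 2 - 1, by omega⟩

theorem piL_comm_rev (c x : Fin n) : piL c (Fin.rev x) = Fin.rev (piL c x) := by
  unfold piL
  by_cases h1 : x = c
  · rw [h1, Equiv.swap_apply_right, Equiv.swap_apply_left, Fin.rev_rev]
  by_cases h2 : x = Fin.rev c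
  · rw [h2, Fin.rev_rev, Equiv.swap_apply_left, Equiv.swap_apply_right]
  · rw [Equiv.swap_apply_of_ne_of_ne h1 h2, Equiv.swap_apply_of_ne_of_ne]
    · intro e
      exact h2 (by rw [← e, Fin.rev_rev])
    · intro e
      exact h1 (Fin.rev_inj.1 e)

section family

variable (hn : n % 2 = 0) (h4 : 4 ≤ n)

theorem prD_eq_pr (i : Fin (n / 2)) (h : i.val + 1 < n / 2) : prD n i = pr n i := by
  rw [pr_short h]
  unfold prD aD bD
  rw [dif_pos h, dif_pos h]

theorem pr_last : pr n (lastI h4) = piL (ix n (lastI h4)) := by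
  apply pr_long
  show ¬ (n / 2 - 1 + 1 < n / 2)
  omega

theorem sign_prD (i : Fin (n / 2)) (hn : n % 2 = 0) (h4 : 4 ≤ n) : Equiv.Perm.sign (prD n i) = 1 := by
  obtain ⟨hab, _⟩ := abD hn h4 i
  unfold prD piS
  rw [map_mul, Equiv.Perm.sign_swap hab, Equiv.Perm.sign_swap (rev_ne_of_ne hab)]
  rfl

include hn h4 in
/-- the last `B`-reflection normalises the `D`-reflections -/
theorem conj_prD_mem (i : Fin (n / 2)) :
    pr n (lastI h4) * prD n i * (pr n (lastI h4))⁻¹ ∈ Subgroup.closure (Set.range (prD n)) := by
  rw [pr_last h4]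
  have hi := i.2
  have hcv : (ix n (lastI h4)).val = n / 2 - 1 := rfl
  have hrcv : (Fin.rev (ix n (lastI h4))).val = n / 2 := by rw [Fin.val_rev, hcv]; omega
  unfold prD
  rw [conj_piS _ (piL_comm_rev _)]
  have hval : ∀ x : Fin n, (piL (ix n (lastI h4)) x).val =
      if x.val = n / 2 - 1 then n / 2 else if x.val = n / 2 then n / 2 - 1 else x.val := by
    intro x
    rw [val_piL, hcv, hrcv]
  by_cases h1 : i.val + 2 < n / 2
  · -- fixed
    have e1 : piL (ix n (lastI h4)) (aD n i) = aD n i := by
      apply Fin.ext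
      rw [hval, aD_val]
      split_ifs <;> omega
    have e2 : piL (ix n (lastI h4)) (bD n i) = bD n i := by
      apply Fin.ext
      rw [hval, bD_val]
      split_ifs <;> omega
    rw [e1, e2]
    exact Subgroup.subset_closure ⟨i, rfl⟩
  by_cases h2 : i.val + 2 = n / 2
  · -- `i = m - 2` goes to the last one
    have e1 : piL (ix n (lastI h4)) (aD n i) = aD n (lastI h4) := by
      apply Fin.ext
      rw [hval, aD_val, aD_val]
      have : (lastI h4).val = n / 2 - 1 := rfl
      split_ifs <;> omega
    have e2 : piL (ix n (lastI h4)) (bD n i) = bD n (lastI h4) := by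
      apply Fin.ext
      rw [hval, bD_val, bD_val]
      have : (lastI h4).val = n / 2 - 1 := rfl
      split_ifs <;> omega
    rw [e1, e2]
    exact Subgroup.subset_closure ⟨lastI h4, rfl⟩
  · -- the last one goes to `m - 2`
    have h3 : i.val + 1 = n / 2 := by omega
    have hj : n / 2 - 2 < n / 2 := by omega
    obtain ⟨j', hj'⟩ : ∃ j' : Fin (n / 2), j'.val = n / 2 - 2 := ⟨⟨n / 2 - 2, hj⟩, rfl⟩
    have e1 : piL (ix n (lastI h4)) (aD n i) = aD n j' := by
      apply Fin.ext
      rw [hval, aD_val, aD_val]
      split_ifs <;> omega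
    have e2 : piL (ix n (lastI h4)) (bD n i) = bD n j' := by
      apply Fin.ext
      rw [hval, bD_val, bD_val]
      split_ifs <;> omega
    rw [e1, e2]
    exact Subgroup.subset_closure ⟨j', rfl⟩

include hn h4 in
theorem conj_mem_closure (d : Equiv.Perm (Fin n))
    (hd : d ∈ Subgroup.closure (Set.range (prD n))) :
    pr n (lastI h4) * d * (pr n (lastI h4))⁻¹ ∈ Subgroup.closure (Set.range (prD n)) := by
  induction hd using Subgroup.closure_induction with
  | mem x hx =>
    obtain ⟨i, rfl⟩ := hx
    exact conj_prD_mem hn h4 i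
  | one =>
    rw [mul_one, mul_inv_cancel]
    exact Subgroup.one_mem _
  | mul x y _ _ hx hy =>
    have e : pr n (lastI h4) * (x * y) * (pr n (lastI h4))⁻¹ =
        (pr n (lastI h4) * x * (pr n (lastI h4))⁻¹) * (pr n (lastI h4) * y * (pr n (lastI h4))⁻¹) := by
      group
    rw [e]
    exact Subgroup.mul_mem _ hx hy
  | inv x _ hx =>
    have e : pr n (lastI h4) * x⁻¹ * (pr n (lastI h4))⁻¹ =
        (pr n (lastI h4) * x * (pr n (lastI h4))⁻¹)⁻¹ := by
      group
    rw [e]
    exact Subgroup.inv_mem _ hx

theorem pr_last_inv : (pr n (lastI h4))⁻¹ = pr n (lastI h4) := by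
  rw [pr_last h4]
  exact piL_inv _

include hn h4 in
/-- every word in the `B`-reflections is a `D`-word or a `D`-word times the last `B`-reflection -/
theorem word_mem_or (l : List (Fin (n / 2))) :
    (l.map (pr n)).prod ∈ Subgroup.closure (Set.range (prD n)) ∨
      (l.map (pr n)).prod * pr n (lastI h4) ∈ Subgroup.closure (Set.range (prD n)) := by
  induction l with
  | nil =>
    left
    rw [List.map_nil, List.prod_nil]
    exact Subgroup.one_mem _
  | cons i l ih =>
    rw [List.map_cons, List.prod_cons]
    by_cases h : i.val + 1 < n / 2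
    · have hi : pr n i ∈ Subgroup.closure (Set.range (prD n)) := by
        rw [← prD_eq_pr i h]
        exact Subgroup.subset_closure ⟨i, rfl⟩
      rcases ih with h1 | h1
      · left
        exact Subgroup.mul_mem _ hi h1
      · right
        rw [mul_assoc]
        exact Subgroup.mul_mem _ hi h1
    · have hi : i = lastI h4 := by
        apply Fin.ext
        show i.val = n / 2 - 1
        have := i.2
        omega
      rw [hi]
      rcases ih with h1 | h1
      · right
        have := conj_mem_closure hn h4 _ h1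
        rw [pr_last_inv h4] at this
        exact this
      · left
        have := conj_mem_closure hn h4 _ h1
        rw [pr_last_inv h4] at this
        have e : pr n (lastI h4) * ((l.map (pr n)).prod * pr n (lastI h4)) * pr n (lastI h4) =
            pr n (lastI h4) * (l.map (pr n)).prod := by
          have h2 : pr n (lastI h4) * pr n (lastI h4) = 1 := by
            have := pr_last_inv (n := n) h4
            rw [inv_eq_iff_mul_eq_one] at this
            exact this
          rw [mul_assoc, mul_assoc, h2, mul_one]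
        rw [e] at this
        exact this

include hn h4 in
theorem sign_closure (d : Equiv.Perm (Fin n))
    (hd : d ∈ Subgroup.closure (Set.range (prD n))) : Equiv.Perm.sign d = 1 := by
  have hle : Subgroup.closure (Set.range (prD n)) ≤ (Equiv.Perm.sign (α := Fin n)).ker := by
    rw [Subgroup.closure_le]
    rintro _ ⟨i, rfl⟩
    exact sign_prD i hn h4
  exact hle hd

include hn h4 in
theorem prD_inv' (i : Fin (n / 2)) : (prD n i)⁻¹ = prD n i := by
  obtain ⟨hab, hab', ha, hbb, hlt⟩ := abD hn h4 i
  exact piS_inv hab hab' ha hbb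

include hn h4 in
theorem exists_list_of_mem (d : Equiv.Perm (Fin n))
    (hd : d ∈ Subgroup.closure (Set.range (prD n))) :
    ∃ l : List (Fin (n / 2)), d = (l.map (prD n)).prod := by
  induction hd using Subgroup.closure_induction with
  | mem x hx =>
    obtain ⟨i, rfl⟩ := hx
    exact ⟨[i], by simp⟩
  | one => exact ⟨[], by simp⟩
  | mul x y _ _ hx hy =>
    obtain ⟨l1, rfl⟩ := hx
    obtain ⟨l2, rfl⟩ := hy
    exact ⟨l1 ++ l2, by rw [List.map_append, List.prod_append]⟩
  | inv x _ hx =>
    obtain ⟨l, rfl⟩ := hx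
    refine ⟨l.reverse, ?_⟩
    rw [List.prod_inv_reverse, List.map_reverse, List.map_map]
    congr 2
    apply List.map_congr_left
    intro i _
    exact prD_inv' hn h4 i

include hn h4 in
theorem exists_wordD (π : Equiv.Perm (Fin n))
    (hπ : ∀ a, π (Fin.rev a) = Fin.rev (π a)) (hs : Equiv.Perm.sign π = 1) :
    ∃ l : List (Fin (n / 2)), π = (l.map (prD n)).prod := by
  obtain ⟨l, hl⟩ := exists_word π hπ
  rcases word_mem_or hn h4 l with h1 | h1
  · rw [← hl] at h1
    exact exists_list_of_mem hn h4 π h1
  · exfalso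
    rw [← hl] at h1
    have h2 := sign_closure hn h4 _ h1
    rw [map_mul, hs, one_mul, pr_last h4] at h2
    unfold piL at h2
    rw [Equiv.Perm.sign_swap] at h2
    · exact absurd h2 (by decide)
    · intro e
      have := congrArg Fin.val e
      rw [Fin.val_rev] at this
      have hcv : (ix n (lastI h4)).val = n / 2 - 1 := rfl
      omega

include hn h4 in
theorem prD_injective : Function.Injective (prD n) := by
  intro i j hij
  obtain ⟨hab, hab', ha, hbb, hlt⟩ := abD hn h4 i
  obtain ⟨hab2, hab2', ha2, hbb2, hlt2⟩ := abD hn h4 j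
  have h1 : prD n i (aD n i) = bD n i := piS_a hab hab' ha hbb
  rw [hij] at h1
  have h2 := congrArg Fin.val h1
  unfold prD at h2
  rw [sd_val_piS hab2 hab2' ha2 hbb2, Fin.val_rev, Fin.val_rev] at h2
  have h3 : prD n i (bD n i) = aD n i := piS_b hab hab' ha hbb
  rw [hij] at h3
  have h4' := congrArg Fin.val h3
  unfold prD at h4'
  rw [sd_val_piS hab2 hab2' ha2 hbb2, Fin.val_rev, Fin.val_rev] at h4'
  have hi := i.2
  have hj := j.2
  apply Fin.ext
  have hai := aD_val i
  have hbi := bD_val i
  have haj := aD_val j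
  have hbj := bD_val j
  split_ifs at h2 h4' hai hbi haj hbj <;> omega

end family

end Cfsg.Agent.Helper13.SdP
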