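import Mathlib
import Cfsg.Agent.Lib.Helper13.SdBN1
import Cfsg.Agent.Lib.Helper13.SdAbs
import Cfsg.Agent.Lib.Helper13.SuBN4
import Cfsg.Agent.Lib.Helper25.SdOmegaLe
import Cfsg.Agent.Lib.Helper26.SdTransport
import Cfsg.Agent.Lib.Helper13.SdSplit
import Cfsg.Agent.Lib.Helper13.SdTor
import Cfsg.Agent.Lib.Helper13.SdN0
import Cfsg.Agent.Lib.Helper13.SdCard
import Cfsg.Agent.Lib.Helper13.SdWord
import Cfsg.Agent.Lib.Helper21.SdFinal
import Cfsg.Agent.Lib.Helper23.SdDeg22
import Cfsg.Agent.Lib.Helper23.SdNotMem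
import Cfsg.Agent.Lib.Helper20.SdSYLBN
import Cfsg.Agent.Lib.Helper20.SdIndex
import Cfsg.Agent.Lib.Helper23.SdD1

/-!
# The (B, N)-pair of type `D_m`, part 2: the local (B, N) data (helper13)
-/

set_option autoImplicit false
set_option linter.unusedSectionVars false
set_option linter.unusedVariables false

namespace Cfsg.Agent.Helper13.SdBN

open Matrix Cfsg.Agent.Helper13.SuBN Cfsg.Agent.Helper13.BNAbs Cfsg.Agent.Helper13.SdP

variable {n : ℕ} {F : Type*} [Field F]

theorem hid : ∀ x : F, (RingHom.id F) ((RingHom.id F) x) = x := fun _ => rfl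

section family

variable (hn : n % 2 = 0) (h4 : 4 ≤ n)

include hn h4 in
theorem srD_isMon (i : Fin (n / 2)) : IsMon (mt (srD n F i)) (prD n i) := by
  obtain ⟨hab, hab', ha, hbb, hlt⟩ := abD hn h4 i
  exact wS_isMon hid hab hab' ha hbb one_ne_zero

theorem sign_piS {a b : Fin n} (hab : a ≠ b) : Equiv.Perm.sign (piS a b) = 1 := by
  unfold piS
  rw [map_mul, Equiv.Perm.sign_swap hab, Equiv.Perm.sign_swap (rev_ne_of_ne hab)]
  rfl

include hn h4 in
theorem srD_mem_soq (i : Fin (n / 2)) : srD n F i ∈ soq n F := by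
  obtain ⟨hab, hab', ha, hbb, hlt⟩ := abD hn h4 i
  exact wS_mem_soq hab hab' ha hbb hn 1

include hn h4 in
theorem srD_mem_monE (i : Fin (n / 2)) : srD n F i ∈ monE n F := by
  obtain ⟨hab, hab', ha, hbb, hlt⟩ := abD hn h4 i
  exact ⟨srD_mem_soq hn h4 i, prD n i, srD_isMon hn h4 i, sign_piS hab⟩

include hn h4 in
theorem prD_mul_self (i : Fin (n / 2)) : prD n i * prD n i = 1 := by
  obtain ⟨hab, hab', ha, hbb, hlt⟩ := abD hn h4 i
  exact piS_mul_self hab hab' ha hbb

include hn h4 in
theorem prD_inv (i : Fin (n / 2)) : (prD n i)⁻¹ = prD n i := by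
  rw [inv_eq_iff_mul_eq_one]
  exact prD_mul_self hn h4 i

include hn h4 in
theorem XD_mem (i : Fin (n / 2)) (t : F) :
    Tm (RingHom.id F) (aD n i) (bD n i) t ∈ unipQ n F := by
  obtain ⟨hab, hab', ha, hbb, hlt⟩ := abD hn h4 i
  refine ⟨⟨Tm_mem_bor hid hab ha hbb hlt t, fun p => ?_⟩, Tm_mem_soq hab hab' ha hbb hn t⟩
  rw [Tm_coe hid hab ha hbb]
  unfold TmM
  rw [Matrix.sub_apply, Matrix.add_apply, Matrix.one_apply_eq, Matrix.single_apply,
    Matrix.single_apply, if_neg, if_neg]
  · ring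
  · rintro ⟨e1, e2⟩
    exact hab (Fin.rev_inj.1 (e2.trans e1.symm))
  · rintro ⟨e1, e2⟩
    exact hab (e1.trans e2.symm)

theorem unipQ_le_borQ : unipQ n F ≤ borQ n F := fun g hg => ⟨unip_le_bor hg.1, hg.2⟩

include hn h4 in
/-- the rank one datum of the simple root `i` -/
theorem rankOne_D (i : Fin (n / 2)) :
    RankOne (borQ n F) (monE n F) (srD n F i) (XD n F i) (YD n F i) := by
  obtain ⟨hab, hab', ha, hbb, hlt⟩ := abD hn h4 i
  have hba' : bD n i ≠ Fin.rev (aD n i) := ne_rev_symm hab'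
  have hsq := srD_mem_soq (F := F) hn h4 i
  refine ⟨?_, ?_, ?_, ?_⟩
  · rintro _ ⟨t, rfl⟩
    exact unipQ_le_borQ (XD_mem hn h4 i t)
  · intro g hg
    have hex : ∃ t : F, srD n F i * (g * (Tm (RingHom.id F) (aD n i) (bD n i) t)⁻¹) * (srD n F i)⁻¹ ∈
        bor n (RingHom.id F) := by
      by_cases h : i.val + 1 < n / 2
      · have e1 : aD n i = ix n i := by unfold aD; rw [dif_pos h]
        have e2 : bD n i = ix' n i h := by unfold bD; rw [dif_pos h]
        have hab1 : (ix' n i h).val = (ix n i).val + 1 := rfl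
        have hb : 2 * (ix' n i h).val + 1 < n := by
          show 2 * (i.val + 1) + 1 < n
          omega
        unfold srD
        rw [e1, e2]
        exact split_short hab1 hb hid hg.1
      · exact split_D hn h4 i h hg
    obtain ⟨t, ht⟩ := hex
    refine ⟨_, ⟨t, rfl⟩, ht, ?_⟩
    exact (soq n F).mul_mem ((soq n F).mul_mem hsq ((soq n F).mul_mem hg.2
      ((soq n F).inv_mem (XD_mem hn h4 i t).2))) ((soq n F).inv_mem hsq)
  · rintro N ⟨hNq, π, hπ, _⟩
    rcases lt_trichotomy (π⁻¹ (aD n i)) (π⁻¹ (bD n i)) with h1 | h1 | h1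
    · left
      rintro _ ⟨t, rfl⟩
      exact ⟨conj_Tm_mem_bor hid hab ha hbb hπ h1 t,
        (soq n F).mul_mem ((soq n F).mul_mem ((soq n F).inv_mem hNq) (XD_mem hn h4 i t).2) hNq⟩
    · exact absurd (π⁻¹.injective h1) hab
    · right
      rintro _ ⟨t, rfl⟩
      exact ⟨conj_Tm_mem_bor hid hab.symm hbb ha hπ h1 t,
        (soq n F).mul_mem ((soq n F).mul_mem ((soq n F).inv_mem hNq)
          (Tm_mem_soq hab.symm hba' hbb ha hn t)) hNq⟩
  · rintro _ ⟨t, rfl⟩
    by_cases ht : t = 0
    · left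
      rw [ht, Tm_zero hid hab ha hbb]
    · right
      set a := aD n i with hadef
      set b := bD n i with hbdef
      have hw : wS (RingHom.id F) a b (-t) =
          Tm (RingHom.id F) a b (-t) * Tm (RingHom.id F) b a t⁻¹ * Tm (RingHom.id F) a b (-t) := by
        unfold wS
        rw [inv_neg, neg_neg]
      obtain ⟨b', hb', e⟩ := rank1_aux (B := bor n (RingHom.id F)) (s := wS (RingHom.id F) a b (1 : F))
        (x := Tm (RingHom.id F) a b t) hw
        (by rw [Tm_add hid hab ha hbb, neg_add_cancel, Tm_zero hid hab ha hbb])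
        (by
          apply mem_bor_of_isMon_one
          have := (wS_isMon hid hab hab' ha hbb (one_ne_zero (α := F))).mul
            (wS_isMon hid hab hab' ha hbb (neg_ne_zero.2 ht)).inv'
          rw [mul_inv_cancel] at this
          exact this)
        (Tm_mem_bor hid hab ha hbb hlt _)
      refine ⟨b', ⟨hb', ?_⟩, Tm (RingHom.id F) b a t⁻¹, ⟨t⁻¹, rfl⟩, e⟩
      have e2 : b' = wS (RingHom.id F) a b (1 : F) * Tm (RingHom.id F) a b t *
          (Tm (RingHom.id F) b a t⁻¹)⁻¹ := by
        rw [e]; group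
      rw [e2]
      exact (soq n F).mul_mem ((soq n F).mul_mem hsq (XD_mem hn h4 i t).2)
        ((soq n F).inv_mem (Tm_mem_soq hab.symm hba' hbb ha hn _))

include hn h4 in
/-- words in the simple reflections -/
theorem isMon_wordD (l' : List (Fin (n / 2))) :
    IsMon (mt ((l'.map (srD n F)).prod)) (l'.map (prD n)).prod := by
  induction l' with
  | nil => exact isMon_one
  | cons i l' ih =>
    rw [List.map_cons, List.prod_cons, List.map_cons, List.prod_cons, mt_mul]
    exact (srD_isMon hn h4 i).mul ih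

theorem word_mem_closureD (l' : List (Fin (n / 2))) :
    (l'.map (srD n F)).prod ∈ Subgroup.closure (Set.range (srD n F)) := by
  apply Subgroup.list_prod_mem
  intro x hx
  rw [List.mem_map] at hx
  obtain ⟨i, _, rfl⟩ := hx
  exact Subgroup.subset_closure ⟨i, rfl⟩

include hn h4 in
theorem closure_sup_eqD :
    Subgroup.closure (Set.range (srD n F)) ⊔ (borQ n F ⊓ monE n F) = monE n F := by
  apply le_antisymm
  · apply sup_le
    · rw [Subgroup.closure_le]
      rintro _ ⟨i, rfl⟩
      exact srD_mem_monE hn h4 i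
    · exact inf_le_right
  · rintro N ⟨hNq, π, hπ, hs⟩
    obtain ⟨l', hl'⟩ := exists_wordD hn h4 π hπ.comm_rev hs
    set N' := (l'.map (srD n F)).prod with hN'
    have h1 : IsMon (mt N') π := by rw [hl']; exact isMon_wordD hn h4 l'
    have hN'c : N' ∈ Subgroup.closure (Set.range (srD n F)) := word_mem_closureD l'
    have hN'E : N' ∈ monE n F := by
      have hle : Subgroup.closure (Set.range (srD n F)) ≤ monE n F := by
        rw [Subgroup.closure_le]
        rintro _ ⟨i, rfl⟩
        exact srD_mem_monE hn h4 i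
      exact hle hN'c
    have h2 : IsMon (mt (N'⁻¹ * N)) 1 := by
      have := h1.inv'.mul hπ
      rw [inv_mul_cancel, ← mt_mul] at this
      exact this
    have h3 : N = N' * (N'⁻¹ * N) := by group
    rw [h3]
    apply Subgroup.mul_mem
    · exact Subgroup.mem_sup_left hN'c
    · apply Subgroup.mem_sup_right
      have hq : N'⁻¹ * N ∈ soq n F := (soq n F).mul_mem ((soq n F).inv_mem hN'E.1) hNq
      exact ⟨⟨mem_bor_of_isMon_one h2, hq⟩, hq, 1, h2, map_one _⟩

include hn h4 in
theorem srD_sq_mem (i : Fin (n / 2)) : srD n F i * srD n F i ∈ borQ n F := by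
  refine ⟨?_, (soq n F).mul_mem (srD_mem_soq hn h4 i) (srD_mem_soq hn h4 i)⟩
  apply mem_bor_of_isMon_one
  have := (srD_isMon (F := F) hn h4 i).mul (srD_isMon hn h4 i)
  rw [prD_mul_self hn h4, ← mt_mul] at this
  exact this

include hn h4 in
/-- a root element whose conjugate by the reflection is not upper triangular -/
theorem conj_XD_not_mem (i : Fin (n / 2)) :
    srD n F i * Tm (RingHom.id F) (aD n i) (bD n i) 1 * (srD n F i)⁻¹ ∉ bor n (RingHom.id F) := by
  obtain ⟨hab, hab', ha, hbb, hlt⟩ := abD hn h4 i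
  intro h2
  have h3 := h2 (bD n i) (aD n i) hlt
  have hπa : prD n i (aD n i) = bD n i := piS_a hab hab' ha hbb
  have hπb : prD n i (bD n i) = aD n i := piS_b hab hab' ha hbb
  rw [conj_apply (srD_isMon hn h4 i), prD_inv hn h4, hπa, hπb] at h3
  have hx : mt (Tm (RingHom.id F) (aD n i) (bD n i) (1 : F)) (aD n i) (bD n i) ≠ 0 := by
    rw [← mulVec_ev (mt (Tm (RingHom.id F) (aD n i) (bD n i) (1 : F))) (bD n i) (aD n i),
      Tm_ev_b hid hab hab' ha hbb, Pi.add_apply, Pi.smul_apply, ev_self, ev_ne hab.symm, zero_add,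
      smul_eq_mul, mul_one]
    exact one_ne_zero
  rcases mul_eq_zero.1 h3 with h4' | h4'
  · rcases mul_eq_zero.1 h4' with h5 | h5
    · have := (srD_isMon (F := F) hn h4 i).apply_ne_zero (aD n i)
      rw [hπa] at this
      exact this h5
    · exact hx h5
  · have := (srD_isMon (F := F) hn h4 i).inv'.apply_ne_zero (aD n i)
    rw [prD_inv hn h4, hπa] at this
    exact this h4'

include hn h4 in
/-- the local (B, N) data of type `D_m` -/
theorem bnLocD : BNLoc (borQ n F) (monE n F) (Set.range (srD n F)) where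
  conj_mem := by
    intro N hN t ht
    refine ⟨conj_mem_bor_of_mon (monE_le_mon hN) ⟨ht.1.1, monE_le_mon ht.2⟩, ?_⟩
    exact (soq n F).mul_mem ((soq n F).mul_mem hN.1 ht.1.2) ((soq n F).inv_mem hN.1)
  subset := by
    rintro _ ⟨i, rfl⟩
    exact srD_mem_monE hn h4 i
  sq_mem := by
    rintro _ ⟨i, rfl⟩
    exact srD_sq_mem hn h4 i
  inj := by
    rintro _ ⟨i, rfl⟩ _ ⟨j, rfl⟩ h
    have h1 := (srD_isMon (F := F) hn h4 i).inv'.mul (srD_isMon hn h4 j)
    rw [← mt_mul] at h1
    have h2 := perm_eq_one_of_mem_bor h1 h.1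
    rw [inv_mul_eq_one] at h2
    rw [prD_injective hn h4 h2]
  closure_sup := closure_sup_eqD hn h4
  mul_mem_union := by
    rintro _ ⟨i, rfl⟩ N hN b hb
    exact (rankOne_D hn h4 i).mul_mem_union N hN b hb
  conj_ne := by
    rintro _ ⟨i, rfl⟩ h
    have hx := XD_mem (F := F) hn h4 i 1
    have h1 : srD n F i * Tm (RingHom.id F) (aD n i) (bD n i) 1 * srD n F i ∈
        (fun b : WSU n (RingHom.id F) => srD n F i * b * srD n F i) ''
          (borQ n F : Set (WSU n (RingHom.id F))) :=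
      ⟨_, unipQ_le_borQ hx, rfl⟩
    rw [h] at h1
    have hsq := srD_sq_mem (F := F) hn h4 i
    apply conj_XD_not_mem (F := F) hn h4 i
    have e : srD n F i * Tm (RingHom.id F) (aD n i) (bD n i) 1 * (srD n F i)⁻¹ =
        (srD n F i * Tm (RingHom.id F) (aD n i) (bD n i) 1 * srD n F i) *
          (srD n F i * srD n F i)⁻¹ := by
      group
    rw [e]
    exact (bor n (RingHom.id F)).mul_mem h1.1 ((bor n (RingHom.id F)).inv_mem hsq.1)

end family

end Cfsg.Agent.Helper13.SdBN
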