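import Mathlib
import Cfsg.Agent.Lib.Helper13.SdBN2
import Cfsg.Agent.Lib.Helper13.SuBN5
import Cfsg.Agent.Lib.Helper25.SuSylow

/-!
# The Steinberg character of `PΩ⁺_{2m}(q)` (helper13)
-/

set_option autoImplicit false
set_option linter.unusedSectionVars false
set_option linter.unusedVariables false

namespace Cfsg.Agent.Helper13.SdBN

open Matrix Cfsg.Agent.Helper13.SuBN Cfsg.Agent.Helper13.BNAbs Cfsg.Agent.Helper13.SdP
  Cfsg.Agent.Helper13.SuP
  Cfsg.Agent.Helper2.WordLen Cfsg.Agent.Helper2.BN Cfsg.Agent.Helper17.BNCox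

variable {n : ℕ} {F : Type*} [Field F]

/-- the rank one data as functions of the reflection -/
noncomputable def XS (n : ℕ) (F : Type*) [Field F] (s : WSU n (RingHom.id F)) :
    Set (WSU n (RingHom.id F)) :=
  open Classical in if h : s ∈ Set.range (srD n F) then XD n F (Classical.choose h) else ∅

noncomputable def YS (n : ℕ) (F : Type*) [Field F] (s : WSU n (RingHom.id F)) :
    Set (WSU n (RingHom.id F)) :=
  open Classical in if h : s ∈ Set.range (srD n F) then YD n F (Classical.choose h) else ∅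

theorem tor_le_borQ : tor n (RingHom.id F) ≤ borQ n F := fun g hg => ⟨tor_le_bor hg, tor_le_soq hg⟩

/-- `U` is normal in `B` -/
theorem conj_mem_unipQ {b u : WSU n (RingHom.id F)} (hb : b ∈ borQ n F) (hu : u ∈ unipQ n F) :
    b * u * b⁻¹ ∈ unipQ n F := by
  have hbi : b⁻¹ ∈ bor n (RingHom.id F) := (bor n (RingHom.id F)).inv_mem hb.1
  have hbu : b * u ∈ bor n (RingHom.id F) := (bor n (RingHom.id F)).mul_mem hb.1 hu.1.1
  refine ⟨⟨(bor n (RingHom.id F)).mul_mem hbu hbi, fun a => ?_⟩,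
    (soq n F).mul_mem ((soq n F).mul_mem hb.2 hu.2) ((soq n F).inv_mem hb.2)⟩
  rw [mul_apply_diag hbu hbi, mul_apply_diag hb.1 hu.1.1, hu.1.2 a, mul_one,
    ← mul_apply_diag hb.1 hbi, mul_inv_cancel, mt_one, Matrix.one_apply_eq]

section family

variable (hn : n % 2 = 0) (h4 : 4 ≤ n)

include hn h4 in
theorem wS_mem_monE {a b : Fin n} (hab : a ≠ b) (hab' : a ≠ Fin.rev b) (ha : a ≠ Fin.rev a)
    (hb : b ≠ Fin.rev b) {c : F} (hc : c ≠ 0) : wS (RingHom.id F) a b c ∈ monE n F :=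
  ⟨wS_mem_soq hab hab' ha hb hn c, piS a b, wS_isMon hid hab hab' ha hb hc, sign_piS hab⟩

include hn h4 in
/-- the opposite root elements lie in the subgroup generated by `B` and `N` -/
theorem YD_mem_sup (i : Fin (n / 2)) (y : WSU n (RingHom.id F)) (hy : y ∈ YD n F i) :
    y ∈ borQ n F ⊔ monE n F := by
  obtain ⟨hab, hab', ha, hbb, hlt⟩ := abD hn h4 i
  obtain ⟨t, rfl⟩ := hy
  by_cases ht : t = 0
  · rw [ht, Tm_zero hid hab.symm hbb ha]
    exact Subgroup.one_mem _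
  · have hc : -t⁻¹ ≠ 0 := neg_ne_zero.2 (inv_ne_zero ht)
    have hw : wS (RingHom.id F) (aD n i) (bD n i) (-t⁻¹) =
        Tm (RingHom.id F) (aD n i) (bD n i) (-t⁻¹) * Tm (RingHom.id F) (bD n i) (aD n i) t *
          Tm (RingHom.id F) (aD n i) (bD n i) (-t⁻¹) := by
      unfold wS
      rw [inv_neg, neg_neg, inv_inv]
    have e : Tm (RingHom.id F) (bD n i) (aD n i) t =
        (Tm (RingHom.id F) (aD n i) (bD n i) (-t⁻¹))⁻¹ * wS (RingHom.id F) (aD n i) (bD n i) (-t⁻¹) *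
          (Tm (RingHom.id F) (aD n i) (bD n i) (-t⁻¹))⁻¹ := by
      rw [hw]; group
    rw [e]
    have hx : Tm (RingHom.id F) (aD n i) (bD n i) (-t⁻¹) ∈ borQ n F ⊔ monE n F :=
      Subgroup.mem_sup_left (unipQ_le_borQ (XD_mem hn h4 i _))
    exact Subgroup.mul_mem _ (Subgroup.mul_mem _ (Subgroup.inv_mem _ hx)
      (Subgroup.mem_sup_right (wS_mem_monE hn h4 hab hab' ha hbb hc))) (Subgroup.inv_mem _ hx)

include hn h4 in
theorem XS_YS (s : WSU n (RingHom.id F)) (hs : s ∈ Set.range (srD n F)) :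
    ∃ i, srD n F i = s ∧ XS n F s = XD n F i ∧ YS n F s = YD n F i := by
  refine ⟨Classical.choose hs, Classical.choose_spec hs, ?_, ?_⟩
  · unfold XS
    rw [dif_pos hs]
  · unfold YS
    rw [dif_pos hs]

end family

/-- the Steinberg character of `PΩ⁺_{2m}(q)` -/
theorem steinberg_POmegaPlus {F : Type*} [Field F] [Fintype F] (p : ℕ) [Fact p.Prime] [CharP F p]
    (m : ℕ) (hm : 1 ≤ m) :
    ∃ χ : Cfsg.POmega F (Cfsg.quadFormPlus m F) → ℂ,
      Cfsg.IsIrrCharacter (Cfsg.POmega F (Cfsg.quadFormPlus m F)) χ ∧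
      ∀ P : Sylow p (Cfsg.POmega F (Cfsg.quadFormPlus m F)), χ 1 = Nat.card P ∧
        ∀ x : Cfsg.POmega F (Cfsg.quadFormPlus m F), x ∈ P → x ≠ 1 → χ x = 0 := by
  classical
  have hp : p.Prime := Fact.out
  by_cases hm1 : m = 1
  · subst hm1
    exact plus_one p
  by_cases h22 : m = 2 ∧ Fintype.card F = 2
  · obtain ⟨rfl, hF⟩ := h22
    exact plus_two_two hF p
  have hm2 : 2 ≤ m := by omega
  have hex : Fintype.card F ≠ 2 ∨ m ≠ 2 := by
    by_cases h : m = 2
    · left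
      intro hF
      exact h22 ⟨h, hF⟩
    · right
      exact h
  have hn : (2 * m) % 2 = 0 := by omega
  have h4 : 4 ≤ 2 * m := by omega
  have hloc := bnLocD (F := F) hn h4
  obtain ⟨N0, hN0E, hN0⟩ := exists_n0D (F := F) hn h4
  have hfin : Finite (WSU (2 * m) (RingHom.id F)) := finite_WSU
  have hHle : borQ (2 * m) F ⊔ monE (2 * m) F ≤ soq (2 * m) F := sup_le borQ_le_soq monE_le_soq
  letI : Fintype ↥(borQ (2 * m) F ⊔ monE (2 * m) F) := Fintype.ofFinite _
  letI : Fintype ↥hloc.pair.S := Fintype.ofFinite _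
  -- the degree
  have hidxT : ((tor (2 * m) (RingHom.id F)).subgroupOf (borQ (2 * m) F)).index =
      Nat.card (unipQ (2 * m) F) := by
    have h1 := Subgroup.index_mul_card ((tor (2 * m) (RingHom.id F)).subgroupOf (borQ (2 * m) F))
    have h2 : Nat.card ((tor (2 * m) (RingHom.id F)).subgroupOf (borQ (2 * m) F)) =
        Nat.card (tor (2 * m) (RingHom.id F)) :=
      Nat.card_congr (Subgroup.subgroupOfEquivOfLe tor_le_borQ).toEquiv
    rw [h2, card_borQ] at h1
    have h3 : 0 < Nat.card (tor (2 * m) (RingHom.id F)) := Nat.card_pos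
    rw [mul_comm (Nat.card (tor (2 * m) (RingHom.id F)))] at h1
    exact Nat.eq_of_mul_eq_mul_right h3 h1
  have hone : St hloc.pair 1 = (Nat.card (unipQ (2 * m) F) : ℂ) := by
    rw [St_one_loc hloc (XS (2 * m) F) (YS (2 * m) F) ?_ ?_ ?_ N0 hN0E ?_
      (tor (2 * m) (RingHom.id F)) tor_le_borQ (mem_tor_iff_conjD hn h4 hN0 hN0E.1), hidxT]
    · intro s hs
      obtain ⟨i, rfl, hX, hY⟩ := XS_YS hn h4 s hs
      rw [hX, hY]
      exact rankOne_D hn h4 i
    · intro s hs y hy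
      obtain ⟨i, rfl, hX, hY⟩ := XS_YS hn h4 s hs
      rw [hY] at hy
      exact YD_mem_sup hn h4 i y hy
    · intro s hs
      obtain ⟨i, rfl, hX, hY⟩ := XS_YS hn h4 s hs
      rw [hX]
      refine ⟨_, ⟨1, rfl⟩, ?_⟩
      intro e
      have h1 := conj_XD_not_mem (F := F) hn h4 i
      rw [e, mul_one, mul_inv_cancel] at h1
      exact h1 (Subgroup.one_mem _)
    · intro s hs y hy
      obtain ⟨i, rfl, hX, hY⟩ := XS_YS hn h4 s hs
      rw [hY] at hy
      refine ⟨conj_YD_mem_bor hn h4 hN0 i y hy, ?_⟩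
      obtain ⟨hab, hab', ha, hbb, hlt⟩ := abD hn h4 i
      obtain ⟨t, rfl⟩ := hy
      exact (soq (2 * m) F).mul_mem ((soq (2 * m) F).mul_mem ((soq (2 * m) F).inv_mem hN0E.1)
        (Tm_mem_soq hab.symm (ne_rev_symm hab') hbb ha hn t)) hN0E.1
  -- the Sylow subgroup
  have hUB : (unipQ (2 * m) F).subgroupOf (borQ (2 * m) F ⊔ monE (2 * m) F) ≤ hloc.pair.B := by
    intro u hu
    exact unipQ_le_borQ hu
  have hUn : ∀ b ∈ hloc.pair.B,
      ∀ u ∈ (unipQ (2 * m) F).subgroupOf (borQ (2 * m) F ⊔ monE (2 * m) F),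
      b * u * b⁻¹ ∈ (unipQ (2 * m) F).subgroupOf (borQ (2 * m) F ⊔ monE (2 * m) F) := by
    intro b hb u hu
    exact conj_mem_unipQ hb hu
  have hsU : ∀ s ∈ hloc.pair.S,
      ∃ u ∈ (unipQ (2 * m) F).subgroupOf (borQ (2 * m) F ⊔ monE (2 * m) F),
      s * u * s⁻¹ ∉ hloc.pair.B := by
    intro s hs
    obtain ⟨i, hi⟩ := hs
    have hx := XD_mem (F := F) hn h4 i 1
    refine ⟨⟨_, Subgroup.mem_sup_left (unipQ_le_borQ hx)⟩, hx, ?_⟩
    intro hcon
    apply conj_XD_not_mem (F := F) hn h4 i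
    have h1 : ((s * ⟨_, Subgroup.mem_sup_left (unipQ_le_borQ hx)⟩ * s⁻¹ :
        ↥(borQ (2 * m) F ⊔ monE (2 * m) F)) : WSU (2 * m) (RingHom.id F)) ∈ borQ (2 * m) F := hcon
    rw [Subgroup.coe_mul, Subgroup.coe_mul, Subgroup.coe_inv, ← hi] at h1
    exact h1.1
  have hUp : IsPGroup p ((unipQ (2 * m) F).subgroupOf (borQ (2 * m) F ⊔ monE (2 * m) F)) := by
    have h1 : IsPGroup p (unipQ (2 * m) F) :=
      (unip_isPGroup (n := 2 * m) (F := F) (φ := RingHom.id F) p).to_le inf_le_left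
    exact h1.comap_subtype
  have hcardB : Nat.card hloc.pair.B = Nat.card (tor (2 * m) (RingHom.id F)) *
      Nat.card ((unipQ (2 * m) F).subgroupOf (borQ (2 * m) F ⊔ monE (2 * m) F)) := by
    have h1 : Nat.card hloc.pair.B = Nat.card (borQ (2 * m) F) :=
      Nat.card_congr (Subgroup.subgroupOfEquivOfLe le_sup_left).toEquiv
    have h2 : Nat.card ((unipQ (2 * m) F).subgroupOf (borQ (2 * m) F ⊔ monE (2 * m) F)) =
        Nat.card (unipQ (2 * m) F) :=
      Nat.card_congr (Subgroup.subgroupOfEquivOfLe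
        (le_trans unipQ_le_borQ le_sup_left)).toEquiv
    rw [h1, h2, card_borQ]
  let U : Sylow p ↥(borQ (2 * m) F ⊔ monE (2 * m) F) :=
    { toSubgroup := (unipQ (2 * m) F).subgroupOf (borQ (2 * m) F ⊔ monE (2 * m) F)
      isPGroup' := hUp
      is_maximal' := fun {Q} hQ hle =>
        isMax_of_bn hloc.pair p _ hUB hUn hsU hUp _ hcardB (not_dvd_card_tor p) hQ hle }
  have hcardU : Nat.card U = Nat.card (unipQ (2 * m) F) :=
    Nat.card_congr (Subgroup.subgroupOfEquivOfLe (le_trans unipQ_le_borQ le_sup_left)).toEquiv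
  -- the transport
  obtain ⟨j, hjinj, hjent, hjdet⟩ := exists_hom_plus (F := F) m
  have hΩ := Omega_le_map m hm2 hex j hjent hjdet
  have hidx := not_dvd_index p m hm2 hex hloc j hjinj hjent hΩ
  let jH : ↥(borQ (2 * m) F ⊔ monE (2 * m) F) →* Cfsg.isometryGroup F (Cfsg.quadFormPlus m F) :=
    j.comp (Subgroup.inclusion hHle)
  have hjHinj : Function.Injective jH := hjinj.comp (Subgroup.inclusion_injective hHle)
  have hrange : jH.range =
      ((borQ (2 * m) F ⊔ monE (2 * m) F).subgroupOf (soq (2 * m) F)).map j := by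
    rw [MonoidHom.range_comp, Subgroup.inclusion_range]
  have hΩ' : commutator (Cfsg.isometryGroup F (Cfsg.quadFormPlus m F)) ≤ jH.range := by
    rw [hrange]; exact hΩ
  have hidx' : ¬ p ∣ ((commutator (Cfsg.isometryGroup F (Cfsg.quadFormPlus m F))).comap jH).index := by
    rw [Subgroup.index_comap, hrange]
    exact hidx
  apply steinberg_of_normal jH hjHinj hΩ' p hidx' U (St hloc.pair) (St_irr hloc.pair)
    (by rw [hone, hcardU])
  intro hU z hz hcomm
  apply St_eq_of_conj_mem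
  intro g
  apply normalizer_le_B hloc.pair _ hUB hUn hsU
  intro u hu
  have hnormal : ((commutator (Cfsg.isometryGroup F (Cfsg.quadFormPlus m F))).comap jH).Normal :=
    inferInstance
  have huC : u ∈ (commutator (Cfsg.isometryGroup F (Cfsg.quadFormPlus m F))).comap jH := hU hu
  have hconj : g * u * g⁻¹ ∈ (commutator (Cfsg.isometryGroup F (Cfsg.quadFormPlus m F))).comap jH :=
    hnormal.conj_mem u huC g
  have h3 := hcomm _ hconj
  have e : (g⁻¹ * z * g)⁻¹ * u * (g⁻¹ * z * g) = g⁻¹ * (z⁻¹ * (g * u * g⁻¹) * z) * g := by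
    group
  rw [e]
  have e2 : z⁻¹ * (g * u * g⁻¹) * z = g * u * g⁻¹ := by
    rw [mul_assoc, ← h3, ← mul_assoc, inv_mul_cancel, one_mul]
  rw [e2]
  have e3 : g⁻¹ * (g * u * g⁻¹) * g = u := by group
  rw [e3]
  exact hu

end Cfsg.Agent.Helper13.SdBN
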