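import Mathlib
import Cfsg.Agent.Lib.Helper13.SdBN1

/-!
# The (B, N)-pair of the twisted orthogonal group `²D_{m+1}`, part 0 (helper13)

Inside `WSU n (RingHom.id K)` (`n = 2m + 2`) the fixed points `twG n φ` of the twist
`σ g = τ (φ g) τ`, `τ` the transposition of the two middle coordinates and `φ` an involution of `K`.
-/

set_option autoImplicit false
set_option linter.unusedSectionVars false
set_option linter.unusedVariables false

namespace Cfsg.Agent.Helper13.StBN

open Matrix Cfsg.Agent.Helper13.SuBN Cfsg.Agent.Helper13.SdBN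

variable {n : ℕ} {K : Type*} [Field K]

/-- the transposition of the two middle indices -/
def tauP (n : ℕ) : Equiv.Perm (Fin n) :=
  if h : 2 ≤ n then Equiv.swap (⟨n / 2 - 1, by omega⟩ : Fin n) ⟨n / 2, by omega⟩ else 1

theorem tauP_val (x : Fin n) :
    (tauP n x).val = if x.val + 1 = n / 2 then n / 2 else if x.val = n / 2 ∧ 2 ≤ n then n / 2 - 1
      else x.val := by
  have hx := x.2
  unfold tauP
  by_cases h : 2 ≤ n
  · rw [dif_pos h]
    by_cases h1 : x = ⟨n / 2 - 1, by omega⟩
    · have h1v : x.val = n / 2 - 1 := congrArg Fin.val h1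
      rw [h1, Equiv.swap_apply_left, if_pos]
      show n / 2 - 1 + 1 = n / 2
      omega
    by_cases h2 : x = ⟨n / 2, by omega⟩
    · have h2v : x.val = n / 2 := congrArg Fin.val h2
      rw [h2, Equiv.swap_apply_right, if_neg, if_pos ⟨rfl, h⟩]
      show ¬ (n / 2 + 1 = n / 2)
      omega
    · rw [Equiv.swap_apply_of_ne_of_ne h1 h2, if_neg, if_neg]
      · rintro ⟨e, _⟩
        exact h2 (Fin.ext e)
      · intro e
        apply h1
        apply Fin.ext
        show x.val = n / 2 - 1
        omega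
  · rw [dif_neg h, Equiv.Perm.one_apply, if_neg, if_neg]
    · rintro ⟨_, h'⟩
      exact h h'
    · omega

theorem tauP_tauP (x : Fin n) : tauP n (tauP n x) = x := by
  apply Fin.ext
  have h1 := tauP_val (tauP n x)
  have h2 := tauP_val x
  have hx := x.2
  rw [h1]
  split_ifs at h2 ⊢ <;> omega

theorem tauP_rev (hn : n % 2 = 0) (x : Fin n) : tauP n (Fin.rev x) = Fin.rev (tauP n x) := by
  apply Fin.ext
  rw [Fin.val_rev, tauP_val, tauP_val, Fin.val_rev]
  have hx := x.2
  split_ifs <;> omega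

theorem tauP_inv : (tauP n)⁻¹ = tauP n := by
  rw [inv_eq_iff_mul_eq_one]
  ext x
  rw [Equiv.Perm.mul_apply, tauP_tauP, Equiv.Perm.one_apply]

/-- the twist of a matrix -/
def sig (φ : K →+* K) (M : Matrix (Fin n) (Fin n) K) : Matrix (Fin n) (Fin n) K :=
  Matrix.of fun a b => φ (M (tauP n a) (tauP n b))

theorem sig_apply (φ : K →+* K) (M : Matrix (Fin n) (Fin n) K) (a b : Fin n) :
    sig φ M a b = φ (M (tauP n a) (tauP n b)) := rfl

theorem sig_mul (φ : K →+* K) (A B : Matrix (Fin n) (Fin n) K) :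
    sig φ (A * B) = sig φ A * sig φ B := by
  ext a b
  rw [sig_apply, Matrix.mul_apply, Matrix.mul_apply, map_sum, ← Equiv.sum_comp (tauP n)]
  apply Finset.sum_congr rfl
  intro k _
  rw [map_mul, sig_apply, sig_apply]

theorem sig_one (φ : K →+* K) : sig φ (1 : Matrix (Fin n) (Fin n) K) = 1 := by
  ext a b
  rw [sig_apply, Matrix.one_apply, Matrix.one_apply]
  by_cases h : a = b
  · rw [if_pos h, if_pos (by rw [h]), map_one]
  · rw [if_neg h, if_neg (fun e => h ((tauP n).injective e)), map_zero]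

theorem sig_sig {φ : K →+* K} (hφφ : ∀ x, φ (φ x) = x) (M : Matrix (Fin n) (Fin n) K) :
    sig φ (sig φ M) = M := by
  ext a b
  rw [sig_apply, sig_apply, tauP_tauP, tauP_tauP, hφφ]

theorem sig_add (φ : K →+* K) (A B : Matrix (Fin n) (Fin n) K) :
    sig φ (A + B) = sig φ A + sig φ B := by
  ext a b
  rw [sig_apply, Matrix.add_apply, Matrix.add_apply, map_add, sig_apply, sig_apply]

theorem sig_sub (φ : K →+* K) (A B : Matrix (Fin n) (Fin n) K) :
    sig φ (A - B) = sig φ A - sig φ B := by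
  ext a b
  rw [sig_apply, Matrix.sub_apply, Matrix.sub_apply, map_sub, sig_apply, sig_apply]

theorem sig_single (φ : K →+* K) (p q : Fin n) (t : K) :
    sig φ (Matrix.single p q t) = Matrix.single (tauP n p) (tauP n q) (φ t) := by
  ext a b
  rw [sig_apply, Matrix.single_apply, Matrix.single_apply]
  by_cases h : p = tauP n a ∧ q = tauP n b
  · rw [if_pos h, if_pos ⟨by rw [h.1, tauP_tauP], by rw [h.2, tauP_tauP]⟩]
  · rw [if_neg h, if_neg, map_zero]
    rintro ⟨e1, e2⟩
    exact h ⟨by rw [← e1, tauP_tauP], by rw [← e2, tauP_tauP]⟩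

/-- the twisted group: the fixed points of the twist -/
def twG (n : ℕ) (φ : K →+* K) : Subgroup (WSU n (RingHom.id K)) where
  carrier := {g | sig φ (mt g) = mt g ∧ sig φ (mt g⁻¹) = mt g⁻¹}
  one_mem' := by
    constructor
    · rw [mt_one, sig_one]
    · rw [inv_one, mt_one, sig_one]
  mul_mem' := by
    rintro g h ⟨hg, hg'⟩ ⟨hh, hh'⟩
    constructor
    · rw [mt_mul, sig_mul, hg, hh]
    · rw [_root_.mul_inv_rev, mt_mul, sig_mul, hg', hh']
  inv_mem' := by
    rintro g ⟨hg, hg'⟩
    exact ⟨hg', by rw [inv_inv]; exact hg⟩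

theorem mem_twG_iff (hn : n % 2 = 0) (φ : K →+* K) (g : WSU n (RingHom.id K)) :
    g ∈ twG n φ ↔ sig φ (mt g) = mt g := by
  constructor
  · intro h
    exact h.1
  · intro h
    refine ⟨h, ?_⟩
    ext a b
    rw [sig_apply, inv_apply, inv_apply]
    have h1 := congrFun (congrFun h (Fin.rev b)) (Fin.rev a)
    rw [sig_apply, tauP_rev hn, tauP_rev hn] at h1
    exact h1

theorem twG_apply {φ : K →+* K} {g : WSU n (RingHom.id K)} (hg : g ∈ twG n φ) (a b : Fin n) :
    φ (mt g (tauP n a) (tauP n b)) = mt g a b := by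
  have := congrFun (congrFun hg.1 a) b
  rw [sig_apply] at this
  exact this

/-- the upper triangular, monomial, unitriangular and diagonal subgroups of the twisted group -/
def borT (n : ℕ) (φ : K →+* K) : Subgroup (WSU n (RingHom.id K)) := borQ n K ⊓ twG n φ

def monT (n : ℕ) (φ : K →+* K) : Subgroup (WSU n (RingHom.id K)) := monE n K ⊓ twG n φ

def unipT (n : ℕ) (φ : K →+* K) : Subgroup (WSU n (RingHom.id K)) := unipQ n K ⊓ twG n φ

def torT (n : ℕ) (φ : K →+* K) : Subgroup (WSU n (RingHom.id K)) := tor n (RingHom.id K) ⊓ twG n φ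

/-- the twisted orthogonal group -/
def gT (n : ℕ) (φ : K →+* K) : Subgroup (WSU n (RingHom.id K)) := soq n K ⊓ twG n φ

theorem borT_le_gT (n : ℕ) (φ : K →+* K) : borT n φ ≤ gT n φ := fun g hg => ⟨hg.1.2, hg.2⟩

theorem monT_le_gT (n : ℕ) (φ : K →+* K) : monT n φ ≤ gT n φ := fun g hg => ⟨hg.1.1, hg.2⟩

/-! ### the simple roots of the twisted group: `i : Fin (n / 2 - 1)` -/

/-- the index of the `D`-root attached to the twisted simple root `i` -/
def iD (i : Fin (n / 2 - 1)) : Fin (n / 2) := ⟨i.val, by have := i.2; omega⟩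

/-- the second `D`-root of the last twisted simple root -/
def iD' (i : Fin (n / 2 - 1)) : Fin (n / 2) := ⟨i.val + 1, by have := i.2; omega⟩

/-- the simple reflections -/
noncomputable def srT (n : ℕ) (K : Type*) [Field K] (i : Fin (n / 2 - 1)) : WSU n (RingHom.id K) :=
  if i.val + 2 < n / 2 then srD n K (iD i) else srD n K (iD i) * srD n K (iD' i)

/-- their permutations -/
def prT (n : ℕ) (i : Fin (n / 2 - 1)) : Equiv.Perm (Fin n) :=
  if i.val + 2 < n / 2 then prD n (iD i) else prD n (iD i) * prD n (iD' i)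

/-- the twisted root elements of the last simple root -/
noncomputable def xT (φ : K →+* K) (i : Fin (n / 2 - 1)) (u : K) : WSU n (RingHom.id K) :=
  Tm (RingHom.id K) (aD n (iD i)) (bD n (iD i)) u * Tm (RingHom.id K) (aD n (iD' i)) (bD n (iD' i)) (φ u)

noncomputable def yT (φ : K →+* K) (i : Fin (n / 2 - 1)) (u : K) : WSU n (RingHom.id K) :=
  Tm (RingHom.id K) (bD n (iD i)) (aD n (iD i)) u * Tm (RingHom.id K) (bD n (iD' i)) (aD n (iD' i)) (φ u)

/-- the simple root elements -/
def XT (n : ℕ) (φ : K →+* K) (i : Fin (n / 2 - 1)) : Set (WSU n (RingHom.id K)) :=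
  if i.val + 2 < n / 2 then
    {x | ∃ t : K, φ t = t ∧ x = Tm (RingHom.id K) (aD n (iD i)) (bD n (iD i)) t}
  else Set.range (xT φ i)

/-- the opposite simple root elements -/
def YT (n : ℕ) (φ : K →+* K) (i : Fin (n / 2 - 1)) : Set (WSU n (RingHom.id K)) :=
  if i.val + 2 < n / 2 then
    {x | ∃ t : K, φ t = t ∧ x = Tm (RingHom.id K) (bD n (iD i)) (aD n (iD i)) t}
  else Set.range (yT φ i)

end Cfsg.Agent.Helper13.StBN
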