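import Mathlib
import Cfsg.Agent.Lib.Helper13.StBN0
import Cfsg.Agent.Lib.Helper13.SdBN2

/-!
# The (B, N)-pair of the twisted orthogonal group `²D_{m+1}`, part 1: root elements and the twist (helper13)
-/

set_option autoImplicit false
set_option linter.unusedSectionVars false
set_option linter.unusedVariables false

namespace Cfsg.Agent.Helper13.StBN

open Matrix Cfsg.Agent.Helper13.SuBN Cfsg.Agent.Helper13.SdBN

variable {n : ℕ} {K : Type*} [Field K]

theorem sig_TmM (hn : n % 2 = 0) (φ : K →+* K) (a b : Fin n) (t : K) :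
    sig φ (TmM (RingHom.id K) a b t) = TmM (RingHom.id K) (tauP n a) (tauP n b) (φ t) := by
  unfold TmM
  rw [sig_sub, sig_add, sig_one, sig_single, sig_single, tauP_rev hn, tauP_rev hn]
  rfl

theorem tauP_ne_rev (hn : n % 2 = 0) {a : Fin n} (ha : a ≠ Fin.rev a) :
    tauP n a ≠ Fin.rev (tauP n a) := by
  rw [← tauP_rev hn]
  exact fun e => ha ((tauP n).injective e)

theorem sig_Tm (hn : n % 2 = 0) (φ : K →+* K) {a b : Fin n} (hab : a ≠ b) (ha : a ≠ Fin.rev a)
    (hb : b ≠ Fin.rev b) (t : K) :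
    sig φ (mt (Tm (RingHom.id K) a b t)) = mt (Tm (RingHom.id K) (tauP n a) (tauP n b) (φ t)) := by
  rw [Tm_coe hid hab ha hb, Tm_coe hid (fun e => hab ((tauP n).injective e)) (tauP_ne_rev hn ha)
    (tauP_ne_rev hn hb), sig_TmM hn]

/-- a root element off the middle with a parameter in the fixed field lies in the twisted group -/
theorem Tm_mem_twG (hn : n % 2 = 0) (φ : K →+* K) {a b : Fin n} (hab : a ≠ b) (ha : a ≠ Fin.rev a)
    (hb : b ≠ Fin.rev b) (hτa : tauP n a = a) (hτb : tauP n b = b) {t : K} (ht : φ t = t) :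
    Tm (RingHom.id K) a b t ∈ twG n φ := by
  rw [mem_twG_iff hn, sig_Tm hn φ hab ha hb, hτa, hτb, ht]

/-! ### commuting root elements -/

theorem comm_aux {Y Z Y' Z' : Matrix (Fin n) (Fin n) K}
    (h : Y * Y' - Y * Z' - Z * Y' + Z * Z' = Y' * Y - Y' * Z - Z' * Y + Z' * Z) :
    (1 + Y - Z) * (1 + Y' - Z') = (1 + Y' - Z') * (1 + Y - Z) := by
  have e1 : (1 + Y - Z) * (1 + Y' - Z') =
      1 + Y + Y' - Z - Z' + (Y * Y' - Y * Z' - Z * Y' + Z * Z') := by noncomm_ring
  have e2 : (1 + Y' - Z') * (1 + Y - Z) =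
      1 + Y + Y' - Z - Z' + (Y' * Y - Y' * Z - Z' * Y + Z' * Z) := by noncomm_ring
  rw [e1, e2, h]

section comm

variable {a c : Fin n} (hac : a ≠ c) (hac' : a ≠ Fin.rev c) (ha : a ≠ Fin.rev a) (hc : c ≠ Fin.rev c)

include hac hac' ha hc in
theorem Tm_comm1 (s t : K) :
    Tm (RingHom.id K) a c s * Tm (RingHom.id K) a (Fin.rev c) t =
      Tm (RingHom.id K) a (Fin.rev c) t * Tm (RingHom.id K) a c s := by
  have hc' : Fin.rev c ≠ Fin.rev (Fin.rev c) := by rw [Fin.rev_rev]; exact hc.symm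
  apply mt_injective
  rw [mt_mul, mt_mul, Tm_coe hid hac ha hc, Tm_coe hid hac' ha hc']
  unfold TmM
  rw [Fin.rev_rev]
  apply comm_aux
  simp only [RingHom.id_apply]
  have h1 : single a c s * single a (Fin.rev c) t = 0 := single_mul_single_ne' hac.symm _ _
  have h2 : single a c s * single c (Fin.rev a) t = single a (Fin.rev a) (s * t) :=
    Matrix.single_mul_single_same _ _ _ _ _
  have h3 : single (Fin.rev c) (Fin.rev a) s * single a (Fin.rev c) t = 0 :=
    single_mul_single_ne' ha.symm _ _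
  have h4 : single (Fin.rev c) (Fin.rev a) s * single c (Fin.rev a) t = 0 :=
    single_mul_single_ne' (fun e => hac' (by rw [← e, Fin.rev_rev])) _ _
  have h5 : single a (Fin.rev c) t * single a c s = 0 := single_mul_single_ne' hac'.symm _ _
  have h6 : single a (Fin.rev c) t * single (Fin.rev c) (Fin.rev a) s = single a (Fin.rev a) (t * s) :=
    Matrix.single_mul_single_same _ _ _ _ _
  have h7 : single c (Fin.rev a) t * single a c s = 0 := single_mul_single_ne' ha.symm _ _
  have h8 : single c (Fin.rev a) t * single (Fin.rev c) (Fin.rev a) s = 0 :=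
    single_mul_single_ne' (fun e => hac (Fin.rev_inj.1 e)) _ _
  rw [h1, h2, h3, h4, h5, h6, h7, h8, mul_comm s t]

include hac hac' ha hc in
theorem Tm_comm2 (s t : K) :
    Tm (RingHom.id K) c a s * Tm (RingHom.id K) (Fin.rev c) a t =
      Tm (RingHom.id K) (Fin.rev c) a t * Tm (RingHom.id K) c a s := by
  have hc' : Fin.rev c ≠ Fin.rev (Fin.rev c) := by rw [Fin.rev_rev]; exact hc.symm
  apply mt_injective
  rw [mt_mul, mt_mul, Tm_coe hid hac.symm hc ha, Tm_coe hid hac'.symm hc' ha]
  unfold TmM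
  rw [Fin.rev_rev]
  apply comm_aux
  simp only [RingHom.id_apply]
  have h1 : single c a s * single (Fin.rev c) a t = 0 := single_mul_single_ne' hac' _ _
  have h2 : single c a s * single (Fin.rev a) c t = 0 := single_mul_single_ne' ha _ _
  have h3 : single (Fin.rev a) (Fin.rev c) s * single (Fin.rev c) a t = single (Fin.rev a) a (s * t) :=
    Matrix.single_mul_single_same _ _ _ _ _
  have h4 : single (Fin.rev a) (Fin.rev c) s * single (Fin.rev a) c t = 0 :=
    single_mul_single_ne' (fun e => hac (Fin.rev_inj.1 e).symm) _ _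
  have h5 : single (Fin.rev c) a t * single c a s = 0 := single_mul_single_ne' hac _ _
  have h6 : single (Fin.rev c) a t * single (Fin.rev a) (Fin.rev c) s = 0 :=
    single_mul_single_ne' ha _ _
  have h7 : single (Fin.rev a) c t * single c a s = single (Fin.rev a) a (t * s) :=
    Matrix.single_mul_single_same _ _ _ _ _
  have h8 : single (Fin.rev a) c t * single (Fin.rev a) (Fin.rev c) s = 0 :=
    single_mul_single_ne' (fun e => hac' (by rw [e, Fin.rev_rev])) _ _
  rw [h1, h2, h3, h4, h5, h6, h7, h8, mul_comm s t]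

include hac hac' ha hc in
theorem Tm_comm3 (s t : K) :
    Tm (RingHom.id K) a c s * Tm (RingHom.id K) (Fin.rev c) a t =
      Tm (RingHom.id K) (Fin.rev c) a t * Tm (RingHom.id K) a c s := by
  have hc' : Fin.rev c ≠ Fin.rev (Fin.rev c) := by rw [Fin.rev_rev]; exact hc.symm
  apply mt_injective
  rw [mt_mul, mt_mul, Tm_coe hid hac ha hc, Tm_coe hid hac'.symm hc' ha]
  unfold TmM
  rw [Fin.rev_rev]
  apply comm_aux
  simp only [RingHom.id_apply]
  have h1 : single a c s * single (Fin.rev c) a t = 0 := single_mul_single_ne' hc _ _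
  have h2 : single a c s * single (Fin.rev a) c t = 0 :=
    single_mul_single_ne' (fun e => hac' (by rw [e, Fin.rev_rev])) _ _
  have h3 : single (Fin.rev c) (Fin.rev a) s * single (Fin.rev c) a t = 0 :=
    single_mul_single_ne' (fun e => hac (Fin.rev_inj.1 e)) _ _
  have h4 : single (Fin.rev c) (Fin.rev a) s * single (Fin.rev a) c t = single (Fin.rev c) c (s * t) :=
    Matrix.single_mul_single_same _ _ _ _ _
  have h5 : single (Fin.rev c) a t * single a c s = single (Fin.rev c) c (t * s) :=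
    Matrix.single_mul_single_same _ _ _ _ _
  have h6 : single (Fin.rev c) a t * single (Fin.rev c) (Fin.rev a) s = 0 :=
    single_mul_single_ne' hac' _ _
  have h7 : single (Fin.rev a) c t * single a c s = 0 := single_mul_single_ne' hac.symm _ _
  have h8 : single (Fin.rev a) c t * single (Fin.rev c) (Fin.rev a) s = 0 :=
    single_mul_single_ne' hc _ _
  rw [h1, h2, h3, h4, h5, h6, h7, h8, mul_comm s t]
  abel

include hac hac' ha hc in
theorem Tm_comm4 (s t : K) :
    Tm (RingHom.id K) c a s * Tm (RingHom.id K) a (Fin.rev c) t =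
      Tm (RingHom.id K) a (Fin.rev c) t * Tm (RingHom.id K) c a s := by
  have hc' : Fin.rev c ≠ Fin.rev (Fin.rev c) := by rw [Fin.rev_rev]; exact hc.symm
  apply mt_injective
  rw [mt_mul, mt_mul, Tm_coe hid hac.symm hc ha, Tm_coe hid hac' ha hc']
  unfold TmM
  rw [Fin.rev_rev]
  apply comm_aux
  simp only [RingHom.id_apply]
  have h1 : single c a s * single a (Fin.rev c) t = single c (Fin.rev c) (s * t) :=
    Matrix.single_mul_single_same _ _ _ _ _
  have h2 : single c a s * single c (Fin.rev a) t = 0 := single_mul_single_ne' hac _ _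
  have h3 : single (Fin.rev a) (Fin.rev c) s * single a (Fin.rev c) t = 0 :=
    single_mul_single_ne' hac'.symm _ _
  have h4 : single (Fin.rev a) (Fin.rev c) s * single c (Fin.rev a) t = 0 :=
    single_mul_single_ne' hc.symm _ _
  have h5 : single a (Fin.rev c) t * single c a s = 0 := single_mul_single_ne' hc.symm _ _
  have h6 : single a (Fin.rev c) t * single (Fin.rev a) (Fin.rev c) s = 0 :=
    single_mul_single_ne' (fun e => hac (Fin.rev_inj.1 e).symm) _ _
  have h7 : single c (Fin.rev a) t * single c a s = 0 :=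
    single_mul_single_ne' (fun e => hac' (by rw [← e, Fin.rev_rev])) _ _
  have h8 : single c (Fin.rev a) t * single (Fin.rev a) (Fin.rev c) s = single c (Fin.rev c) (t * s) :=
    Matrix.single_mul_single_same _ _ _ _ _
  rw [h1, h2, h3, h4, h5, h6, h7, h8, mul_comm s t]
  abel

end comm

/-! ### the twisted root elements attached to a pair `(a, c)` with `τ a = a`, `τ c = rev c` -/

/-- the twisted root element `x_α(u) x_β(φ u)` -/
noncomputable def xG (φ : K →+* K) (a c : Fin n) (u : K) : WSU n (RingHom.id K) :=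
  Tm (RingHom.id K) a c u * Tm (RingHom.id K) a (Fin.rev c) (φ u)

/-- the opposite twisted root element -/
noncomputable def yG (φ : K →+* K) (a c : Fin n) (u : K) : WSU n (RingHom.id K) :=
  Tm (RingHom.id K) c a u * Tm (RingHom.id K) (Fin.rev c) a (φ u)

/-- the twisted reflection -/
noncomputable def wG (φ : K →+* K) (a c : Fin n) (u : K) : WSU n (RingHom.id K) :=
  wS (RingHom.id K) a c u * wS (RingHom.id K) a (Fin.rev c) (φ u)

theorem prod_comm_aux {G : Type*} [Group G] {X Y X' Y' : G} (h1 : X * X' = X' * X)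
    (h2 : X * Y' = Y' * X) (h3 : Y * X' = X' * Y) :
    (X * Y * X) * (X' * Y' * X') = (X * X') * (Y * Y') * (X * X') := by
  symm
  calc (X * X') * (Y * Y') * (X * X') = X * (X' * Y) * Y' * X * X' := by group
    _ = X * (Y * X') * Y' * X * X' := by rw [h3]
    _ = X * Y * X' * (Y' * X) * X' := by group
    _ = X * Y * X' * (X * Y') * X' := by rw [h2]
    _ = X * Y * (X' * X) * Y' * X' := by group
    _ = X * Y * (X * X') * Y' * X' := by rw [h1]
    _ = (X * Y * X) * (X' * Y' * X') := by group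

section pair

variable {a c : Fin n} (hac : a ≠ c) (hac' : a ≠ Fin.rev c) (ha : a ≠ Fin.rev a) (hc : c ≠ Fin.rev c)

include hac hac' ha hc in
theorem xG_add (φ : K →+* K) (u v : K) : xG φ a c u * xG φ a c v = xG φ a c (u + v) := by
  have hc' : Fin.rev c ≠ Fin.rev (Fin.rev c) := by rw [Fin.rev_rev]; exact hc.symm
  unfold xG
  have e : Tm (RingHom.id K) a c u * Tm (RingHom.id K) a (Fin.rev c) (φ u) *
      (Tm (RingHom.id K) a c v * Tm (RingHom.id K) a (Fin.rev c) (φ v)) =
      Tm (RingHom.id K) a c u * (Tm (RingHom.id K) a (Fin.rev c) (φ u) * Tm (RingHom.id K) a c v) *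
        Tm (RingHom.id K) a (Fin.rev c) (φ v) := by group
  rw [e, ← Tm_comm1 hac hac' ha hc v (φ u), map_add, ← Tm_add hid hac ha hc,
    ← Tm_add hid hac' ha hc']
  group

include hac hac' ha hc in
theorem xG_zero (φ : K →+* K) : xG φ a c 0 = 1 := by
  have := xG_add hac hac' ha hc φ 0 0
  rw [add_zero] at this
  exact mul_eq_left.1 this

include hac hac' ha hc in
theorem xG_inv (φ : K →+* K) (u : K) : (xG φ a c u)⁻¹ = xG φ a c (-u) := by
  rw [inv_eq_iff_mul_eq_one, xG_add hac hac' ha hc, add_neg_cancel, xG_zero hac hac' ha hc]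

include hac hac' ha hc in
theorem wG_eq (φ : K →+* K) (u : K) :
    wG φ a c u = xG φ a c u * yG φ a c (-u⁻¹) * xG φ a c u := by
  unfold wG xG yG wS
  rw [map_neg, map_inv₀]
  exact prod_comm_aux (Tm_comm1 hac hac' ha hc _ _) (Tm_comm3 hac hac' ha hc _ _)
    (Tm_comm4 hac hac' ha hc _ _)

include hac hac' ha hc in
theorem xG_mem_soq (hn : n % 2 = 0) (φ : K →+* K) (u : K) : xG φ a c u ∈ soq n K := by
  have hc' : Fin.rev c ≠ Fin.rev (Fin.rev c) := by rw [Fin.rev_rev]; exact hc.symm
  exact (soq n K).mul_mem (Tm_mem_soq hac hac' ha hc hn u)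
    (Tm_mem_soq hac' (by rw [Fin.rev_rev]; exact hac) ha hc' hn _)

include hac hac' ha hc in
theorem yG_mem_soq (hn : n % 2 = 0) (φ : K →+* K) (u : K) : yG φ a c u ∈ soq n K := by
  have hc' : Fin.rev c ≠ Fin.rev (Fin.rev c) := by rw [Fin.rev_rev]; exact hc.symm
  exact (soq n K).mul_mem (Tm_mem_soq hac.symm (ne_rev_symm hac') hc ha hn u)
    (Tm_mem_soq hac'.symm (ne_rev_symm (by rw [Fin.rev_rev]; exact hac)) hc' ha hn _)

include hac hac' ha hc in
theorem wG_mem_soq (hn : n % 2 = 0) (φ : K →+* K) (u : K) : wG φ a c u ∈ soq n K := by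
  rw [wG_eq hac hac' ha hc]
  exact (soq n K).mul_mem ((soq n K).mul_mem (xG_mem_soq hac hac' ha hc hn φ u)
    (yG_mem_soq hac hac' ha hc hn φ _)) (xG_mem_soq hac hac' ha hc hn φ u)

include hac hac' ha hc in
theorem wG_isMon (φ : K →+* K) {u : K} (hu : u ≠ 0) :
    IsMon (mt (wG φ a c u)) (piS a c * piS a (Fin.rev c)) := by
  have hc' : Fin.rev c ≠ Fin.rev (Fin.rev c) := by rw [Fin.rev_rev]; exact hc.symm
  unfold wG
  rw [mt_mul]
  exact (wS_isMon hid hac hac' ha hc hu).mul
    (wS_isMon hid hac' (by rw [Fin.rev_rev]; exact hac) ha hc'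
      (by rw [Ne, map_eq_zero]; exact hu))

section twist

variable (hn : n % 2 = 0) {φ : K →+* K} (hφφ : ∀ x, φ (φ x) = x) (hτa : tauP n a = a)
  (hτc : tauP n c = Fin.rev c)

include hac hac' ha hc hn hφφ hτa hτc in
theorem xG_mem_twG (u : K) : xG φ a c u ∈ twG n φ := by
  have hc' : Fin.rev c ≠ Fin.rev (Fin.rev c) := by rw [Fin.rev_rev]; exact hc.symm
  have hτc' : tauP n (Fin.rev c) = c := by rw [tauP_rev hn, hτc, Fin.rev_rev]
  rw [mem_twG_iff hn]
  unfold xG
  rw [mt_mul, sig_mul, sig_Tm hn φ hac ha hc, sig_Tm hn φ hac' ha hc', hτa, hτc, hτc', hφφ,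
    ← mt_mul, ← mt_mul, Tm_comm1 hac hac' ha hc]

include hac hac' ha hc hn hφφ hτa hτc in
theorem yG_mem_twG (u : K) : yG φ a c u ∈ twG n φ := by
  have hc' : Fin.rev c ≠ Fin.rev (Fin.rev c) := by rw [Fin.rev_rev]; exact hc.symm
  have hτc' : tauP n (Fin.rev c) = c := by rw [tauP_rev hn, hτc, Fin.rev_rev]
  rw [mem_twG_iff hn]
  unfold yG
  rw [mt_mul, sig_mul, sig_Tm hn φ hac.symm hc ha, sig_Tm hn φ hac'.symm hc' ha, hτa, hτc, hτc',
    hφφ, ← mt_mul, ← mt_mul, Tm_comm2 hac hac' ha hc]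

include hac hac' ha hc hn hφφ hτa hτc in
theorem wG_mem_twG (u : K) : wG φ a c u ∈ twG n φ := by
  rw [wG_eq hac hac' ha hc]
  exact (twG n φ).mul_mem ((twG n φ).mul_mem (xG_mem_twG hac hac' ha hc hn hφφ hτa hτc u)
    (yG_mem_twG hac hac' ha hc hn hφφ hτa hτc _)) (xG_mem_twG hac hac' ha hc hn hφφ hτa hτc u)

end twist

end pair

end Cfsg.Agent.Helper13.StBN
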