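import Mathlib
import Cfsg.Prelude
import Cfsg.Agent.Lib.Helper13.StBN0

/-!
# The twisted orthogonal group `²D_{m+1}`: the coordinates of the transport to `quadFormMinus` (helper13)

`F ⊆ K` a quadratic extension (`ι : F →+* K`), `φ` the involution of `K` over `F`, `ω` and `ω' = φ ω` the two roots of
`t² + a t + b`, so that `z₁² + a z₁ z₂ + b z₂² = (z₁ - ω z₂)(z₁ - ω' z₂)`.
The `F`-vector `v` of `quadFormMinus m F a b` goes to the `K`-vector `Lm m ι ω ω' v` of `qf` in dimension `2m + 2`: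
`e_i ↦ i`, `f_i ↦ 2m + 1 - i`, and the two middle coordinates (`m`, `m + 1`) are `z₁ - ω z₂`, `z₁ - ω' z₂`.
-/

set_option autoImplicit false
set_option linter.unusedSectionVars false
set_option linter.unusedVariables false

namespace Cfsg.Agent.Helper13.StBN

open Matrix Cfsg.Agent.Helper13.SuBN Cfsg.Agent.Helper13.SdBN

variable {F K : Type*} [Field F] [Field K]

/-- the index of `e_i` -/
def eI (m : ℕ) (i : Fin m) : Fin (2 * m + 2) := ⟨i.val, by have := i.2; omega⟩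

/-- the index of `f_i` -/
def fI (m : ℕ) (i : Fin m) : Fin (2 * m + 2) := ⟨2 * m + 1 - i.val, by have := i.2; omega⟩

/-- the first middle index -/
def cI (m : ℕ) : Fin (2 * m + 2) := ⟨m, by omega⟩

/-- the second middle index -/
def dI (m : ℕ) : Fin (2 * m + 2) := ⟨m + 1, by omega⟩

/-- the coordinates over `K` of a vector over `F` -/
def Lm (m : ℕ) (ι : F →+* K) (ω ω' : K) (v : (Fin m ⊕ Fin m) ⊕ Fin 2 → F) : Fin (2 * m + 2) → K :=
  fun x =>
    if h : x.val < m then ι (v (Sum.inl (Sum.inl ⟨x.val, h⟩)))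
    else if h2 : x.val = m then ι (v (Sum.inr 0)) - ω * ι (v (Sum.inr 1))
    else if h3 : x.val = m + 1 then ι (v (Sum.inr 0)) - ω' * ι (v (Sum.inr 1))
    else ι (v (Sum.inl (Sum.inr ⟨2 * m + 1 - x.val, by have := x.2; omega⟩)))

theorem Lm_eI (m : ℕ) (ι : F →+* K) (ω ω' : K) (v : (Fin m ⊕ Fin m) ⊕ Fin 2 → F) (i : Fin m) :
    Lm m ι ω ω' v (eI m i) = ι (v (Sum.inl (Sum.inl i))) := by
  unfold Lm eI
  rw [dif_pos i.2]

theorem Lm_fI (m : ℕ) (ι : F →+* K) (ω ω' : K) (v : (Fin m ⊕ Fin m) ⊕ Fin 2 → F) (i : Fin m) :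
    Lm m ι ω ω' v (fI m i) = ι (v (Sum.inl (Sum.inr i))) := by
  have hi := i.2
  unfold Lm fI
  rw [dif_neg (by simp only; omega), dif_neg (by simp only; omega), dif_neg (by simp only; omega)]
  congr 4
  apply Fin.ext
  simp only
  omega

theorem Lm_cI (m : ℕ) (ι : F →+* K) (ω ω' : K) (v : (Fin m ⊕ Fin m) ⊕ Fin 2 → F) :
    Lm m ι ω ω' v (cI m) = ι (v (Sum.inr 0)) - ω * ι (v (Sum.inr 1)) := by
  unfold Lm cI
  rw [dif_neg (by simp), dif_pos rfl]

theorem Lm_dI (m : ℕ) (ι : F →+* K) (ω ω' : K) (v : (Fin m ⊕ Fin m) ⊕ Fin 2 → F) :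
    Lm m ι ω ω' v (dI m) = ι (v (Sum.inr 0)) - ω' * ι (v (Sum.inr 1)) := by
  unfold Lm dI
  rw [dif_neg (by simp), dif_neg (by simp), dif_pos rfl]

theorem rev_eI (m : ℕ) (i : Fin m) : Fin.rev (eI m i) = fI m i := by
  apply Fin.ext
  rw [Fin.val_rev]
  have := i.2
  show 2 * m + 2 - (i.val + 1) = 2 * m + 1 - i.val
  omega

theorem rev_cI (m : ℕ) : Fin.rev (cI m) = dI m := by
  apply Fin.ext
  rw [Fin.val_rev]
  show 2 * m + 2 - (m + 1) = m + 1
  omega

theorem tauP_cI (m : ℕ) : tauP (2 * m + 2) (cI m) = dI m := by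
  apply Fin.ext
  rw [tauP_val]
  show (if m + 1 = (2 * m + 2) / 2 then (2 * m + 2) / 2 else _) = m + 1
  rw [if_pos (by omega)]
  omega

theorem tauP_eI (m : ℕ) (i : Fin m) : tauP (2 * m + 2) (eI m i) = eI m i := by
  apply Fin.ext
  rw [tauP_val]
  have := i.2
  show (if i.val + 1 = (2 * m + 2) / 2 then (2 * m + 2) / 2
    else if i.val = (2 * m + 2) / 2 ∧ 2 ≤ 2 * m + 2 then (2 * m + 2) / 2 - 1 else i.val) = i.val
  rw [if_neg (by omega), if_neg (by omega)]

/-- every index is one of `e_i`, `f_i`, `c`, `d` -/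
theorem index_cases (m : ℕ) (x : Fin (2 * m + 2)) :
    (∃ i, x = eI m i) ∨ (∃ i, x = fI m i) ∨ x = cI m ∨ x = dI m := by
  have hx := x.2
  by_cases h1 : x.val < m
  · left
    exact ⟨⟨x.val, h1⟩, Fin.ext rfl⟩
  by_cases h2 : x.val = m
  · right; right; left
    exact Fin.ext h2
  by_cases h3 : x.val = m + 1
  · right; right; right
    exact Fin.ext h3
  · right; left
    refine ⟨⟨2 * m + 1 - x.val, by omega⟩, Fin.ext ?_⟩
    show x.val = 2 * m + 1 - (2 * m + 1 - x.val)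
    omega

end Cfsg.Agent.Helper13.StBN
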