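import Mathlib
import Cfsg.Agent.Lib.Helper13.StBN1
import Cfsg.Prelude
import Cfsg.Agent.Lib.Helper13.StTr0
import Cfsg.Agent.Lib.Helper13.SdAbs
import Cfsg.Agent.Lib.Helper26.StTransport
import Cfsg.Agent.Lib.Helper11.StFIELDEXT
import Cfsg.Agent.Lib.Helper11.StDET2
import Cfsg.Agent.Lib.Helper11.StM0
import Cfsg.Agent.Lib.Helper25.StOmegaLe
import Cfsg.Agent.Lib.Helper7.StTWORD
import Cfsg.Agent.Lib.Helper18.StTSPLIT
import Cfsg.Agent.Lib.Helper19.StIndex
import Cfsg.Agent.Lib.Helper21.StM1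

/-!
# The (B, N)-pair of the twisted orthogonal group `²D_{m+1}`, part 2: the local (B, N) data (helper13)
-/

set_option autoImplicit false
set_option linter.unusedSectionVars false
set_option linter.unusedVariables false

namespace Cfsg.Agent.Helper13.StBN

open Matrix Cfsg.Agent.Helper13.SuBN Cfsg.Agent.Helper13.BNAbs Cfsg.Agent.Helper13.SdP
  Cfsg.Agent.Helper13.SdBN Cfsg.Agent.Helper13.StP

variable {n : ℕ} {K : Type*} [Field K]

/-! ### the indices of the simple roots -/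

section idx

variable (hn : n % 2 = 0) (h4 : 4 ≤ n)

include hn h4 in
theorem short_idx (i : Fin (n / 2 - 1)) (h : i.val + 2 < n / 2) :
    tauP n (aD n (iD i)) = aD n (iD i) ∧ tauP n (bD n (iD i)) = bD n (iD i) := by
  have hi := i.2
  have ha := aD_val (iD i)
  have hb := bD_val (iD i)
  have hiv : (iD i).val = i.val := rfl
  rw [hiv] at ha hb
  rw [if_pos (by omega)] at ha hb
  constructor
  · apply Fin.ext
    rw [tauP_val, ha, if_neg (by omega), if_neg (by omega)]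
  · apply Fin.ext
    rw [tauP_val, hb, if_neg (by omega), if_neg (by omega)]

include hn h4 in
theorem last_idx (i : Fin (n / 2 - 1)) (h : ¬ i.val + 2 < n / 2) :
    (aD n (iD i)).val + 2 = n / 2 ∧ (bD n (iD i)).val + 1 = n / 2 ∧
      aD n (iD' i) = aD n (iD i) ∧ bD n (iD' i) = Fin.rev (bD n (iD i)) ∧
      tauP n (aD n (iD i)) = aD n (iD i) ∧ tauP n (bD n (iD i)) = Fin.rev (bD n (iD i)) := by
  have hi := i.2
  have ha := aD_val (iD i)
  have hb := bD_val (iD i)
  have ha' := aD_val (iD' i)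
  have hb' := bD_val (iD' i)
  have hiv : (iD i).val = i.val := rfl
  have hiv' : (iD' i).val = i.val + 1 := rfl
  rw [hiv] at ha hb
  rw [hiv'] at ha' hb'
  rw [if_pos (by omega)] at ha hb
  rw [if_neg (by omega)] at ha' hb'
  refine ⟨by omega, by omega, Fin.ext (by omega), Fin.ext (by rw [Fin.val_rev]; omega), ?_, ?_⟩
  · apply Fin.ext
    rw [tauP_val, ha, if_neg (by omega), if_neg (by omega)]
  · apply Fin.ext
    rw [tauP_val, hb, if_pos (by omega), Fin.val_rev]
    omega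

include hn h4 in
/-- the last simple reflection is a twisted reflection -/
theorem srT_last (φ : K →+* K) (i : Fin (n / 2 - 1)) (h : ¬ i.val + 2 < n / 2) :
    srT n K i = wG φ (aD n (iD i)) (bD n (iD i)) 1 := by
  obtain ⟨_, _, e1, e2, _, _⟩ := last_idx hn h4 i h
  unfold srT wG srD
  rw [if_neg h, e1, e2, map_one]

theorem srT_short (i : Fin (n / 2 - 1)) (h : i.val + 2 < n / 2) : srT n K i = srD n K (iD i) := by
  unfold srT
  rw [if_pos h]

include hn h4 in
theorem prT_last (i : Fin (n / 2 - 1)) (h : ¬ i.val + 2 < n / 2) :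
    prT n i = piS (aD n (iD i)) (bD n (iD i)) * piS (aD n (iD i)) (Fin.rev (bD n (iD i))) := by
  obtain ⟨_, _, e1, e2, _, _⟩ := last_idx hn h4 i h
  unfold prT prD
  rw [if_neg h, e1, e2]

theorem prT_short (i : Fin (n / 2 - 1)) (h : i.val + 2 < n / 2) : prT n i = prD n (iD i) := by
  unfold prT
  rw [if_pos h]

end idx

/-! ### the short simple roots -/

/-- `split_short` with its explicit parameter -/
theorem split_short' {a b : Fin n} (hab1 : b.val = a.val + 1) (hb : 2 * b.val + 1 < n)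
    {g : WSU n (RingHom.id K)} (hg : g ∈ bor n (RingHom.id K)) :
    wS (RingHom.id K) a b (1 : K) * (g * (Tm (RingHom.id K) a b (mt g a b / mt g a a))⁻¹) *
      (wS (RingHom.id K) a b (1 : K))⁻¹ ∈ bor n (RingHom.id K) := by
  obtain ⟨hab, hab', ha, hbb⟩ := short_ne hab1 hb
  set t := mt g a b / mt g a a with ht
  have hlt : a < b := by rw [Fin.lt_def]; omega
  have hx : Tm (RingHom.id K) a b (-t) ∈ bor n (RingHom.id K) := Tm_mem_bor hid hab ha hbb hlt _
  have hg' : g * (Tm (RingHom.id K) a b t)⁻¹ ∈ bor n (RingHom.id K) := by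
    rw [Tm_inv hid hab ha hbb]
    exact (bor n (RingHom.id K)).mul_mem hg hx
  have h0 : mt (g * (Tm (RingHom.id K) a b t)⁻¹) a b = 0 := by
    rw [Tm_inv hid hab ha hbb, mul_apply_col, Tm_ev_b hid hab hab' ha hbb, mulVec_add,
      mulVec_smul, Pi.add_apply, Pi.smul_apply, mulVec_ev, mulVec_ev, ht, smul_eq_mul]
    have := diag_ne_zero hg a
    field_simp
    ring
  apply conj_mem_bor (wS_isMon hid hab hab' ha hbb one_ne_zero) hg'
  intro p q h1 h2
  rw [piS_inv hab hab' ha hbb] at h2 ⊢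
  rcases inversion_short hab1 hb p q h1 h2 with ⟨e1, e2⟩ | ⟨e1, e2⟩
  · rw [e1, e2]
    exact h0
  · rw [e1, e2]
    exact extra_zero hg' hab1 h0

theorem unipT_le_borT (φ : K →+* K) : unipT n φ ≤ borT n φ :=
  fun g hg => ⟨unipQ_le_borQ hg.1, hg.2⟩

section family

variable (hn : n % 2 = 0) (h4 : 4 ≤ n) {φ : K →+* K} (hφφ : ∀ x, φ (φ x) = x)

include hn h4 in
theorem XT_short_mem (i : Fin (n / 2 - 1)) (h : i.val + 2 < n / 2) {t : K} (ht : φ t = t) :
    Tm (RingHom.id K) (aD n (iD i)) (bD n (iD i)) t ∈ unipT n φ := by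
  obtain ⟨hab, hab', ha, hbb, hlt⟩ := abD hn h4 (iD i)
  obtain ⟨e1, e2⟩ := short_idx hn h4 i h
  exact ⟨XD_mem hn h4 (iD i) t, Tm_mem_twG hn φ hab ha hbb e1 e2 ht⟩

include hn h4 in
theorem YT_short_mem (i : Fin (n / 2 - 1)) (h : i.val + 2 < n / 2) {t : K} (ht : φ t = t) :
    Tm (RingHom.id K) (bD n (iD i)) (aD n (iD i)) t ∈ gT n φ := by
  obtain ⟨hab, hab', ha, hbb, hlt⟩ := abD hn h4 (iD i)
  obtain ⟨e1, e2⟩ := short_idx hn h4 i h
  exact ⟨Tm_mem_soq hab.symm (ne_rev_symm hab') hbb ha hn t,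
    Tm_mem_twG hn φ hab.symm hbb ha e2 e1 ht⟩

include hn h4 in
theorem srT_short_mem (i : Fin (n / 2 - 1)) (h : i.val + 2 < n / 2) : srT n K i ∈ monT n φ := by
  obtain ⟨hab, hab', ha, hbb, hlt⟩ := abD hn h4 (iD i)
  obtain ⟨e1, e2⟩ := short_idx hn h4 i h
  rw [srT_short i h]
  refine ⟨srD_mem_monE hn h4 (iD i), ?_⟩
  unfold srD wS
  have h1 : φ (1 : K) = 1 := map_one φ
  have h2 : φ (-(1 : K)⁻¹) = -(1 : K)⁻¹ := by rw [inv_one, map_neg, map_one]
  exact (twG n φ).mul_mem ((twG n φ).mul_mem (Tm_mem_twG hn φ hab ha hbb e1 e2 h1)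
    (Tm_mem_twG hn φ hab.symm hbb ha e2 e1 h2)) (Tm_mem_twG hn φ hab ha hbb e1 e2 h1)

include hn h4 hφφ in
/-- the rank one datum of a short simple root -/
theorem rankOne_short (i : Fin (n / 2 - 1)) (h : i.val + 2 < n / 2) :
    RankOne (borT n φ) (monT n φ) (srT n K i) (XT n φ i) (YT n φ i) := by
  obtain ⟨hab, hab', ha, hbb, hlt⟩ := abD hn h4 (iD i)
  obtain ⟨e1, e2⟩ := short_idx hn h4 i h
  have hsT := srT_short_mem (φ := φ) hn h4 i h
  have hR := rankOne_D (F := K) hn h4 (iD i)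
  have hXT : XT n φ i = {x | ∃ t : K, φ t = t ∧ x = Tm (RingHom.id K) (aD n (iD i)) (bD n (iD i)) t} := by
    unfold XT; rw [if_pos h]
  have hYT : YT n φ i = {x | ∃ t : K, φ t = t ∧ x = Tm (RingHom.id K) (bD n (iD i)) (aD n (iD i)) t} := by
    unfold YT; rw [if_pos h]
  rw [hXT, hYT]
  have hiv : (iD i).val = i.val := rfl
  have hav : (aD n (iD i)).val = i.val := by rw [aD_val, hiv, if_pos (by omega)]
  have hbv : (bD n (iD i)).val = i.val + 1 := by rw [bD_val, hiv, if_pos (by omega)]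
  refine ⟨?_, ?_, ?_, ?_⟩
  · rintro _ ⟨t, ht, rfl⟩
    exact unipT_le_borT φ (XT_short_mem hn h4 i h ht)
  · intro g hg
    set t := mt g (aD n (iD i)) (bD n (iD i)) / mt g (aD n (iD i)) (aD n (iD i)) with htdef
    have ht : φ t = t := by
      rw [htdef, map_div₀]
      have k1 := twG_apply hg.2 (aD n (iD i)) (bD n (iD i))
      have k2 := twG_apply hg.2 (aD n (iD i)) (aD n (iD i))
      rw [e1, e2] at k1
      rw [e1] at k2
      rw [k1, k2]
    have hx := XT_short_mem (φ := φ) hn h4 i h ht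
    refine ⟨_, ⟨t, ht, rfl⟩, ⟨⟨?_, ?_⟩, ?_⟩⟩
    · rw [srT_short i h]
      exact split_short' (by rw [hav, hbv]) (by rw [hbv]; omega) hg.1.1
    · exact (soq n K).mul_mem ((soq n K).mul_mem hsT.1.1 ((soq n K).mul_mem hg.1.2
        ((soq n K).inv_mem hx.1.2))) ((soq n K).inv_mem hsT.1.1)
    · exact (twG n φ).mul_mem ((twG n φ).mul_mem hsT.2 ((twG n φ).mul_mem hg.2
        ((twG n φ).inv_mem hx.2))) ((twG n φ).inv_mem hsT.2)
  · intro N hN
    rcases hR.dich N hN.1 with h1 | h1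
    · left
      rintro _ ⟨t, ht, rfl⟩
      exact ⟨h1 _ ⟨t, rfl⟩, (twG n φ).mul_mem ((twG n φ).mul_mem ((twG n φ).inv_mem hN.2)
        (XT_short_mem hn h4 i h ht).2) hN.2⟩
    · right
      rintro _ ⟨t, ht, rfl⟩
      exact ⟨h1 _ ⟨t, rfl⟩, (twG n φ).mul_mem ((twG n φ).mul_mem ((twG n φ).inv_mem hN.2)
        (YT_short_mem hn h4 i h ht).2) hN.2⟩
  · rintro _ ⟨t, ht, rfl⟩
    by_cases ht0 : t = 0
    · left
      rw [ht0, Tm_zero hid hab ha hbb]
    · right
      have hsD : srT n K i = wS (RingHom.id K) (aD n (iD i)) (bD n (iD i)) (1 : K) := srT_short i h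
      set a := aD n (iD i) with hadef
      set b := bD n (iD i) with hbdef
      have hti : φ t⁻¹ = t⁻¹ := by rw [map_inv₀, ht]
      have hw : wS (RingHom.id K) a b (-t) =
          Tm (RingHom.id K) a b (-t) * Tm (RingHom.id K) b a t⁻¹ * Tm (RingHom.id K) a b (-t) := by
        unfold wS
        rw [inv_neg, neg_neg]
      obtain ⟨b', hb', e⟩ := rank1_aux (B := bor n (RingHom.id K)) (s := wS (RingHom.id K) a b (1 : K))
        (x := Tm (RingHom.id K) a b t) hw
        (by rw [Tm_add hid hab ha hbb, neg_add_cancel, Tm_zero hid hab ha hbb])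
        (by
          apply mem_bor_of_isMon_one
          have := (wS_isMon hid hab hab' ha hbb (one_ne_zero (α := K))).mul
            (wS_isMon hid hab hab' ha hbb (neg_ne_zero.2 ht0)).inv'
          rw [mul_inv_cancel] at this
          exact this)
        (Tm_mem_bor hid hab ha hbb hlt _)
      have e2 : b' = wS (RingHom.id K) a b (1 : K) * Tm (RingHom.id K) a b t *
          (Tm (RingHom.id K) b a t⁻¹)⁻¹ := by
        rw [e]; group
      have hy := YT_short_mem (φ := φ) hn h4 i h hti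
      have hx := XT_short_mem (φ := φ) hn h4 i h ht
      rw [hsD] at hsT
      refine ⟨b', ⟨⟨hb', ?_⟩, ?_⟩, Tm (RingHom.id K) b a t⁻¹, ⟨t⁻¹, hti, rfl⟩, by rw [hsD]; exact e⟩
      · rw [e2]
        exact (soq n K).mul_mem ((soq n K).mul_mem hsT.1.1 hx.1.2) ((soq n K).inv_mem hy.1)
      · rw [e2]
        exact (twG n φ).mul_mem ((twG n φ).mul_mem hsT.2 hx.2) ((twG n φ).inv_mem hy.2)

end family

/-! ### the twisted simple root -/

/-- the permutation of a monomial element of the twisted group commutes with `τ` -/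
theorem isMon_comm_tauP {φ : K →+* K} {N : WSU n (RingHom.id K)} (hN : N ∈ twG n φ)
    {π : Equiv.Perm (Fin n)} (hπ : IsMon (mt N) π) (b : Fin n) : π (tauP n b) = tauP n (π b) := by
  have h1 : mt N (π (tauP n b)) (tauP n b) ≠ 0 := hπ.apply_ne_zero (tauP n b)
  have h2 := twG_apply hN (tauP n (π (tauP n b))) b
  rw [tauP_tauP] at h2
  have h3 : mt N (tauP n (π (tauP n b))) b ≠ 0 := by
    rw [← h2]
    exact fun e => h1 ((map_eq_zero φ).1 e)
  have h4 : tauP n (π (tauP n b)) = π b := by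
    by_contra hne
    exact h3 (hπ _ _ hne)
  rw [← h4, tauP_tauP]

/-- the points moved by `τ` -/
theorem tauP_ne_iff (h2 : 2 ≤ n) (x : Fin n) : tauP n x ≠ x ↔ (x.val + 1 = n / 2 ∨ x.val = n / 2) := by
  have hx := x.2
  have hv := tauP_val x
  constructor
  · intro h
    by_contra hcon
    push Not at hcon
    apply h
    apply Fin.ext
    rw [hv, if_neg hcon.1, if_neg (fun e => hcon.2 e.1)]
  · rintro (h | h) e
    · have := congrArg Fin.val e
      rw [hv, if_pos h] at this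
      omega
    · have := congrArg Fin.val e
      rw [hv, if_neg (by omega), if_pos ⟨h, h2⟩] at this
      omega

section last

variable (hn : n % 2 = 0) (h4 : 4 ≤ n) {φ : K →+* K} (hφφ : ∀ x, φ (φ x) = x)
  {a c : Fin n} (hav : a.val + 2 = n / 2) (hcv : c.val + 1 = n / 2)

include hn h4 hav hcv in
theorem last_ne : a ≠ c ∧ a ≠ Fin.rev c ∧ a ≠ Fin.rev a ∧ c ≠ Fin.rev c ∧ a < c ∧ a < Fin.rev c ∧
    tauP n a = a ∧ tauP n c = Fin.rev c := by
  have hc := c.2
  refine ⟨?_, ?_, ?_, ?_, ?_, ?_, ?_, ?_⟩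
  · intro e
    have h := congrArg Fin.val e
    omega
  · intro e
    have h := congrArg Fin.val e
    rw [Fin.val_rev] at h
    omega
  · intro e
    have h := congrArg Fin.val e
    rw [Fin.val_rev] at h
    omega
  · intro e
    have h := congrArg Fin.val e
    rw [Fin.val_rev] at h
    omega
  · rw [Fin.lt_def]; omega
  · rw [Fin.lt_def, Fin.val_rev]; omega
  · apply Fin.ext
    rw [tauP_val, if_neg (by omega), if_neg (by omega)]
  · apply Fin.ext
    rw [tauP_val, if_pos hcv, Fin.val_rev]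
    omega

include hn h4 hφφ hav hcv in
theorem xG_mem_unipT (u : K) : xG φ a c u ∈ unipT n φ := by
  obtain ⟨hac, hac', ha, hc, hlt, hlt', hτa, hτc⟩ := last_ne hn h4 hav hcv
  have hc' : Fin.rev c ≠ Fin.rev (Fin.rev c) := by rw [Fin.rev_rev]; exact hc.symm
  have h1 : Tm (RingHom.id K) a c u ∈ unip n (RingHom.id K) := by
    refine ⟨Tm_mem_bor hid hac ha hc hlt u, fun p => ?_⟩
    rw [Tm_coe hid hac ha hc]
    unfold TmM
    rw [Matrix.sub_apply, Matrix.add_apply, Matrix.one_apply_eq, Matrix.single_apply,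
      Matrix.single_apply, if_neg, if_neg]
    · ring
    · rintro ⟨e1, e2⟩
      exact hac (Fin.rev_inj.1 (e2.trans e1.symm))
    · rintro ⟨e1, e2⟩
      exact hac (e1.trans e2.symm)
  have h2 : Tm (RingHom.id K) a (Fin.rev c) (φ u) ∈ unip n (RingHom.id K) := by
    refine ⟨Tm_mem_bor hid hac' ha hc' hlt' _, fun p => ?_⟩
    rw [Tm_coe hid hac' ha hc']
    unfold TmM
    rw [Matrix.sub_apply, Matrix.add_apply, Matrix.one_apply_eq, Matrix.single_apply,
      Matrix.single_apply, if_neg, if_neg]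
    · ring
    · rintro ⟨e1, e2⟩
      exact hac' (Fin.rev_inj.1 (e2.trans e1.symm))
    · rintro ⟨e1, e2⟩
      exact hac' (e1.trans e2.symm)
  exact ⟨⟨(unip n (RingHom.id K)).mul_mem h1 h2, xG_mem_soq hac hac' ha hc hn φ u⟩,
    xG_mem_twG hac hac' ha hc hn hφφ hτa hτc u⟩

include hn h4 hφφ hav hcv in
theorem yG_mem_gT (u : K) : yG φ a c u ∈ gT n φ := by
  obtain ⟨hac, hac', ha, hc, hlt, hlt', hτa, hτc⟩ := last_ne hn h4 hav hcv
  exact ⟨yG_mem_soq hac hac' ha hc hn φ u, yG_mem_twG hac hac' ha hc hn hφφ hτa hτc u⟩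

include hn h4 hav hcv in
theorem sign_last : Equiv.Perm.sign (piS a c * piS a (Fin.rev c)) = 1 := by
  obtain ⟨hac, hac', ha, hc, hlt, hlt', hτa, hτc⟩ := last_ne hn h4 hav hcv
  rw [map_mul, sign_piS hac, sign_piS hac', one_mul]

include hn h4 hφφ hav hcv in
theorem wG_mem_monT {u : K} (hu : u ≠ 0) : wG φ a c u ∈ monT n φ := by
  obtain ⟨hac, hac', ha, hc, hlt, hlt', hτa, hτc⟩ := last_ne hn h4 hav hcv
  exact ⟨⟨wG_mem_soq hac hac' ha hc hn φ u, _, wG_isMon hac hac' ha hc φ hu,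
    sign_last hn h4 hav hcv⟩, wG_mem_twG hac hac' ha hc hn hφφ hτa hτc u⟩

include hn h4 hav hcv in
theorem last_perm_mul_self :
    (piS a c * piS a (Fin.rev c)) * (piS a c * piS a (Fin.rev c)) = 1 := by
  obtain ⟨hac, hac', ha, hc, hlt, hlt', hτa, hτc⟩ := last_ne hn h4 hav hcv
  have hc' : Fin.rev c ≠ Fin.rev (Fin.rev c) := by rw [Fin.rev_rev]; exact hc.symm
  have hac'' : a ≠ Fin.rev (Fin.rev c) := by rw [Fin.rev_rev]; exact hac
  -- the two factors commute
  have hcomm : piS a c * piS a (Fin.rev c) = piS a (Fin.rev c) * piS a c := by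
    have h1 := (wS_isMon (φ := RingHom.id ℚ) hid hac hac' ha hc (one_ne_zero (α := ℚ))).mul
      (wS_isMon (φ := RingHom.id ℚ) hid hac' hac'' ha hc' (one_ne_zero (α := ℚ)))
    have h2 := (wS_isMon (φ := RingHom.id ℚ) hid hac' hac'' ha hc' (one_ne_zero (α := ℚ))).mul
      (wS_isMon (φ := RingHom.id ℚ) hid hac hac' ha hc (one_ne_zero (α := ℚ)))
    rw [← mt_mul] at h1 h2
    have e : wS (RingHom.id ℚ) a c (1 : ℚ) * wS (RingHom.id ℚ) a (Fin.rev c) (1 : ℚ) =
        wS (RingHom.id ℚ) a (Fin.rev c) (1 : ℚ) * wS (RingHom.id ℚ) a c (1 : ℚ) := by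
      unfold wS
      have c1 := Tm_comm1 (K := ℚ) hac hac' ha hc
      have c3 := Tm_comm3 (K := ℚ) hac hac' ha hc
      have c4 := Tm_comm4 (K := ℚ) hac hac' ha hc
      have c2 := Tm_comm2 (K := ℚ) hac hac' ha hc
      have k1 : Commute (Tm (RingHom.id ℚ) a c (1 : ℚ)) (Tm (RingHom.id ℚ) a (Fin.rev c) (1 : ℚ)) := c1 _ _
      have k2 : Commute (Tm (RingHom.id ℚ) a c (1 : ℚ)) (Tm (RingHom.id ℚ) (Fin.rev c) a (-(1 : ℚ)⁻¹)) := c3 _ _
      have k3 : Commute (Tm (RingHom.id ℚ) c a (-(1 : ℚ)⁻¹)) (Tm (RingHom.id ℚ) a (Fin.rev c) (1 : ℚ)) := c4 _ _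
      have k4 : Commute (Tm (RingHom.id ℚ) c a (-(1 : ℚ)⁻¹)) (Tm (RingHom.id ℚ) (Fin.rev c) a (-(1 : ℚ)⁻¹)) := c2 _ _
      have k5 : Commute (Tm (RingHom.id ℚ) a c (1 : ℚ))
          (Tm (RingHom.id ℚ) a (Fin.rev c) (1 : ℚ) * Tm (RingHom.id ℚ) (Fin.rev c) a (-(1 : ℚ)⁻¹) *
            Tm (RingHom.id ℚ) a (Fin.rev c) (1 : ℚ)) := (k1.mul_right k2).mul_right k1
      have k6 : Commute (Tm (RingHom.id ℚ) c a (-(1 : ℚ)⁻¹))
          (Tm (RingHom.id ℚ) a (Fin.rev c) (1 : ℚ) * Tm (RingHom.id ℚ) (Fin.rev c) a (-(1 : ℚ)⁻¹) *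
            Tm (RingHom.id ℚ) a (Fin.rev c) (1 : ℚ)) := (k3.mul_right k4).mul_right k3
      exact ((k5.mul_left k6).mul_left k5).eq
    rw [e] at h1
    exact h1.unique h2
  rw [mul_assoc, ← mul_assoc (piS a (Fin.rev c)), ← hcomm, mul_assoc (piS a c),
    piS_mul_self hac' hac'' ha hc', mul_one, piS_mul_self hac hac' ha hc]

include hn h4 hφφ hav hcv in
/-- the rank one datum of the twisted simple root -/
theorem rankOne_last :
    RankOne (borT n φ) (monT n φ) (wG φ a c 1) (Set.range (xG φ a c)) (Set.range (yG φ a c)) := by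
  obtain ⟨hac, hac', ha, hc, hlt, hlt', hτa, hτc⟩ := last_ne hn h4 hav hcv
  have hc' : Fin.rev c ≠ Fin.rev (Fin.rev c) := by rw [Fin.rev_rev]; exact hc.symm
  have hac'' : a ≠ Fin.rev (Fin.rev c) := by rw [Fin.rev_rev]; exact hac
  have hsT := wG_mem_monT (φ := φ) hn h4 hφφ hav hcv (one_ne_zero (α := K))
  refine ⟨?_, ?_, ?_, ?_⟩
  · rintro _ ⟨u, rfl⟩
    exact unipT_le_borT φ (xG_mem_unipT hn h4 hφφ hav hcv u)
  · intro g hg
    obtain ⟨u, hu⟩ := split_T hn h4 hφφ hav hcv hg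
    have hx := xG_mem_unipT (φ := φ) hn h4 hφφ hav hcv u
    refine ⟨_, ⟨u, rfl⟩, ⟨⟨hu, ?_⟩, ?_⟩⟩
    · exact (soq n K).mul_mem ((soq n K).mul_mem hsT.1.1 ((soq n K).mul_mem hg.1.2
        ((soq n K).inv_mem hx.1.2))) ((soq n K).inv_mem hsT.1.1)
    · exact (twG n φ).mul_mem ((twG n φ).mul_mem hsT.2 ((twG n φ).mul_mem hg.2
        ((twG n φ).inv_mem hx.2))) ((twG n φ).inv_mem hsT.2)
  · rintro N ⟨⟨hNq, π, hπ, _⟩, hNt⟩
    have hcomm : ∀ b, π (tauP n b) = tauP n (π b) := isMon_comm_tauP hNt hπ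
    have hcomm' : ∀ b, π⁻¹ (tauP n b) = tauP n (π⁻¹ b) := by
      intro b
      apply π.injective
      rw [hcomm]
      show π (π.symm (tauP n b)) = tauP n (π (π.symm b))
      rw [Equiv.apply_symm_apply, Equiv.apply_symm_apply]
    have h2 : 2 ≤ n := by omega
    -- `π⁻¹ a` is fixed by `τ`, `π⁻¹ c` is not
    have hxa : tauP n (π⁻¹ a) = π⁻¹ a := by rw [← hcomm', hτa]
    have hyc : tauP n (π⁻¹ c) ≠ π⁻¹ c := by
      rw [← hcomm', hτc]
      intro e
      exact hc (π⁻¹.injective e).symm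
    have hyc' : π⁻¹ (Fin.rev c) = tauP n (π⁻¹ c) := by rw [← hcomm', hτc]
    have hxa' : ¬ ((π⁻¹ a).val + 1 = n / 2 ∨ (π⁻¹ a).val = n / 2) := by
      rw [← tauP_ne_iff h2]
      exact fun h => h hxa
    have hyc2 := (tauP_ne_iff h2 _).1 hyc
    have hyv := tauP_val (π⁻¹ c)
    push Not at hxa'
    have hmem : ∀ x : WSU n (RingHom.id K), x ∈ gT n φ → N⁻¹ * x * N ∈ gT n φ := by
      intro x hx
      exact ⟨(soq n K).mul_mem ((soq n K).mul_mem ((soq n K).inv_mem hNq) hx.1) hNq,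
        (twG n φ).mul_mem ((twG n φ).mul_mem ((twG n φ).inv_mem hNt) hx.2) hNt⟩
    by_cases hlow : (π⁻¹ a).val + 1 < n / 2
    · left
      rintro _ ⟨u, rfl⟩
      have hx := xG_mem_unipT (φ := φ) hn h4 hφφ hav hcv u
      have k1 : π⁻¹ a < π⁻¹ c := by
        rw [Fin.lt_def]
        rcases hyc2 with h | h <;> omega
      have k2 : π⁻¹ a < π⁻¹ (Fin.rev c) := by
        rw [hyc', Fin.lt_def, hyv]
        split_ifs <;> omega
      have e : N⁻¹ * xG φ a c u * N = (N⁻¹ * Tm (RingHom.id K) a c u * N) *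
          (N⁻¹ * Tm (RingHom.id K) a (Fin.rev c) (φ u) * N) := by
        unfold xG; group
      have hm := hmem _ ⟨hx.1.2, hx.2⟩
      refine ⟨⟨?_, hm.1⟩, hm.2⟩
      rw [e]
      exact (bor n (RingHom.id K)).mul_mem (conj_Tm_mem_bor hid hac ha hc hπ k1 u)
        (conj_Tm_mem_bor hid hac' ha hc' hπ k2 _)
    · right
      rintro _ ⟨u, rfl⟩
      have hy := yG_mem_gT (φ := φ) hn h4 hφφ hav hcv u
      have k1 : π⁻¹ c < π⁻¹ a := by
        rw [Fin.lt_def]
        rcases hyc2 with h | h <;> omega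
      have k2 : π⁻¹ (Fin.rev c) < π⁻¹ a := by
        rw [hyc', Fin.lt_def, hyv]
        split_ifs <;> omega
      have e : N⁻¹ * yG φ a c u * N = (N⁻¹ * Tm (RingHom.id K) c a u * N) *
          (N⁻¹ * Tm (RingHom.id K) (Fin.rev c) a (φ u) * N) := by
        unfold yG; group
      have hm := hmem _ hy
      refine ⟨⟨?_, hm.1⟩, hm.2⟩
      rw [e]
      exact (bor n (RingHom.id K)).mul_mem (conj_Tm_mem_bor hid hac.symm hc ha hπ k1 u)
        (conj_Tm_mem_bor hid hac'.symm hc' ha hπ k2 _)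
  · rintro _ ⟨u, rfl⟩
    by_cases hu : u = 0
    · left
      rw [hu, xG_zero hac hac' ha hc]
    · right
      have hw : wG φ a c (-u) = xG φ a c (-u) * yG φ a c u⁻¹ * xG φ a c (-u) := by
        rw [wG_eq hac hac' ha hc, inv_neg, neg_neg]
      obtain ⟨b', hb', e⟩ := rank1_aux (B := bor n (RingHom.id K)) (s := wG φ a c 1)
        (x := xG φ a c u) hw
        (by rw [xG_add hac hac' ha hc, neg_add_cancel, xG_zero hac hac' ha hc])
        (by
          apply mem_bor_of_isMon_one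
          have := (wG_isMon hac hac' ha hc φ (one_ne_zero (α := K))).mul
            (wG_isMon hac hac' ha hc φ (neg_ne_zero.2 hu)).inv'
          rw [mul_inv_cancel, ← mt_mul] at this
          exact this)
        (unipT_le_borT φ (xG_mem_unipT hn h4 hφφ hav hcv _)).1.1
      have e2 : b' = wG φ a c 1 * xG φ a c u * (yG φ a c u⁻¹)⁻¹ := by
        rw [e]; group
      have hy := yG_mem_gT (φ := φ) hn h4 hφφ hav hcv u⁻¹
      have hx := xG_mem_unipT (φ := φ) hn h4 hφφ hav hcv u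
      refine ⟨b', ⟨⟨hb', ?_⟩, ?_⟩, yG φ a c u⁻¹, ⟨u⁻¹, rfl⟩, e⟩
      · rw [e2]
        exact (soq n K).mul_mem ((soq n K).mul_mem hsT.1.1 hx.1.2) ((soq n K).inv_mem hy.1)
      · rw [e2]
        exact (twG n φ).mul_mem ((twG n φ).mul_mem hsT.2 hx.2) ((twG n φ).inv_mem hy.2)

end last

/-! ### the local (B, N) data -/

section bn

variable (hn : n % 2 = 0) (h4 : 4 ≤ n) {φ : K →+* K} (hφφ : ∀ x, φ (φ x) = x)

include hn h4 in
theorem XT_last (i : Fin (n / 2 - 1)) (h : ¬ i.val + 2 < n / 2) :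
    XT n φ i = Set.range (xG φ (aD n (iD i)) (bD n (iD i))) ∧
      YT n φ i = Set.range (yG φ (aD n (iD i)) (bD n (iD i))) := by
  obtain ⟨_, _, e1, e2, _, _⟩ := last_idx hn h4 i h
  unfold XT YT
  rw [if_neg h, if_neg h]
  constructor
  · congr 1
    funext u
    unfold xT xG
    rw [e1, e2]
  · congr 1
    funext u
    unfold yT yG
    rw [e1, e2]

include hn h4 hφφ in
/-- the rank one datum of the simple root `i` -/
theorem rankOne_T (i : Fin (n / 2 - 1)) :
    RankOne (borT n φ) (monT n φ) (srT n K i) (XT n φ i) (YT n φ i) := by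
  by_cases h : i.val + 2 < n / 2
  · exact rankOne_short hn h4 hφφ i h
  · obtain ⟨hav, hcv, _, _, _, _⟩ := last_idx hn h4 i h
    obtain ⟨hX, hY⟩ := XT_last (φ := φ) hn h4 i h
    rw [hX, hY, srT_last hn h4 φ i h]
    exact rankOne_last hn h4 hφφ hav hcv

include hn h4 hφφ in
theorem srT_mem_monT (i : Fin (n / 2 - 1)) : srT n K i ∈ monT n φ := by
  by_cases h : i.val + 2 < n / 2
  · exact srT_short_mem hn h4 i h
  · obtain ⟨hav, hcv, _, _, _, _⟩ := last_idx hn h4 i h
    rw [srT_last hn h4 φ i h]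
    exact wG_mem_monT hn h4 hφφ hav hcv one_ne_zero

include hn h4 in
theorem srT_isMon (i : Fin (n / 2 - 1)) : IsMon (mt (srT n K i)) (prT n i) := by
  by_cases h : i.val + 2 < n / 2
  · rw [srT_short i h, prT_short i h]
    exact srD_isMon hn h4 (iD i)
  · obtain ⟨hav, hcv, _, _, _, _⟩ := last_idx hn h4 i h
    obtain ⟨hac, hac', ha, hc, hlt, hlt', hτa, hτc⟩ := last_ne hn h4 hav hcv
    rw [srT_last hn h4 (RingHom.id K) i h, prT_last hn h4 i h]
    exact wG_isMon hac hac' ha hc _ one_ne_zero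

include hn h4 in
theorem prT_mul_self (i : Fin (n / 2 - 1)) : prT n i * prT n i = 1 := by
  by_cases h : i.val + 2 < n / 2
  · rw [prT_short i h]
    exact prD_mul_self hn h4 (iD i)
  · obtain ⟨hav, hcv, _, _, _, _⟩ := last_idx hn h4 i h
    rw [prT_last hn h4 i h]
    exact last_perm_mul_self hn h4 hav hcv

include hn h4 in
theorem prT_inv (i : Fin (n / 2 - 1)) : (prT n i)⁻¹ = prT n i := by
  rw [inv_eq_iff_mul_eq_one]
  exact prT_mul_self hn h4 i

include hn h4 hφφ in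
theorem srT_sq_mem (i : Fin (n / 2 - 1)) : srT n K i * srT n K i ∈ borT n φ := by
  have hs := srT_mem_monT (φ := φ) hn h4 hφφ i
  refine ⟨⟨?_, (soq n K).mul_mem hs.1.1 hs.1.1⟩, (twG n φ).mul_mem hs.2 hs.2⟩
  apply mem_bor_of_isMon_one
  have := (srT_isMon (K := K) hn h4 i).mul (srT_isMon hn h4 i)
  rw [prT_mul_self hn h4, ← mt_mul] at this
  exact this

/-- a positive root element of the simple root `i` -/
noncomputable def x1T (n : ℕ) (K : Type*) [Field K] (i : Fin (n / 2 - 1)) : WSU n (RingHom.id K) :=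
  if i.val + 2 < n / 2 then Tm (RingHom.id K) (aD n (iD i)) (bD n (iD i)) 1
  else xG (RingHom.id K) (aD n (iD i)) (bD n (iD i)) 1

include hn h4 in
theorem x1T_mem (i : Fin (n / 2 - 1)) : x1T n K i ∈ XT n φ i := by
  unfold x1T
  by_cases h : i.val + 2 < n / 2
  · rw [if_pos h]
    unfold XT
    rw [if_pos h]
    exact ⟨1, map_one φ, rfl⟩
  · rw [if_neg h, (XT_last (φ := φ) hn h4 i h).1]
    refine ⟨1, ?_⟩
    unfold xG
    rw [map_one, RingHom.id_apply]

include hn h4 in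
/-- a root element whose conjugate by the reflection is not upper triangular -/
theorem conj_x1T_not_mem (i : Fin (n / 2 - 1)) :
    srT n K i * x1T n K i * (srT n K i)⁻¹ ∉ bor n (RingHom.id K) := by
  by_cases h : i.val + 2 < n / 2
  · unfold x1T
    rw [if_pos h, srT_short i h]
    exact conj_XD_not_mem hn h4 (iD i)
  · obtain ⟨hav, hcv, _, _, _, _⟩ := last_idx hn h4 i h
    obtain ⟨hac, hac', ha, hc, hlt, hlt', hτa, hτc⟩ := last_ne hn h4 hav hcv
    set a := aD n (iD i) with hadef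
    set c := bD n (iD i) with hcdef
    have hc' : Fin.rev c ≠ Fin.rev (Fin.rev c) := by rw [Fin.rev_rev]; exact hc.symm
    have hac'' : a ≠ Fin.rev (Fin.rev c) := by rw [Fin.rev_rev]; exact hac
    unfold x1T
    rw [if_neg h, srT_last hn h4 (RingHom.id K) i h, ← hadef, ← hcdef]
    have hmon := wG_isMon hac hac' ha hc (RingHom.id K) (one_ne_zero (α := K))
    set π := piS a c * piS a (Fin.rev c) with hπ
    have hπinv : π⁻¹ = π := by
      rw [inv_eq_iff_mul_eq_one]
      exact last_perm_mul_self hn h4 hav hcv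
    have hπ1 : π (Fin.rev a) = a := by
      rw [hπ, Equiv.Perm.mul_apply, piS_ra hac' hac'' ha hc', Fin.rev_rev, piS_b hac hac' ha hc]
    have hπ2 : π (Fin.rev c) = c := by
      rw [hπ, Equiv.Perm.mul_apply, piS_b hac' hac'' ha hc', piS_a hac hac' ha hc]
    intro h2
    have h3 := h2 (Fin.rev a) (Fin.rev c) (by rw [Fin.rev_lt_rev]; exact hlt)
    rw [conj_apply hmon, hπinv, hπ1, hπ2] at h3
    have hx : mt (xG (RingHom.id K) a c (1 : K)) a c ≠ 0 := by
      rw [← mulVec_ev (mt (xG (RingHom.id K) a c (1 : K))) c a]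
      unfold xG
      rw [mt_mul, ← mulVec_mulVec, Tm_ev_of_ne hid hac' ha hc' _ hc (ne_rev_symm hac'),
        Tm_ev_b hid hac hac' ha hc, Pi.add_apply, Pi.smul_apply, ev_self, ev_ne hac.symm, zero_add,
        smul_eq_mul, mul_one]
      exact one_ne_zero
    rcases mul_eq_zero.1 h3 with h4' | h4'
    · rcases mul_eq_zero.1 h4' with h5 | h5
      · have := hmon.apply_ne_zero a
        have hπa : π a = Fin.rev a := by
          rw [hπ, Equiv.Perm.mul_apply, piS_a hac' hac'' ha hc', piS_rb hac hac' ha hc]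
        rw [hπa] at this
        exact this h5
      · exact hx h5
    · have := hmon.inv'.apply_ne_zero (Fin.rev c)
      rw [hπinv, hπ2] at this
      exact this h4'

include hn h4 in
/-- words in the simple reflections -/
theorem isMon_wordT (l' : List (Fin (n / 2 - 1))) :
    IsMon (mt ((l'.map (srT n K)).prod)) (l'.map (prT n)).prod := by
  induction l' with
  | nil => exact isMon_one
  | cons i l' ih =>
    rw [List.map_cons, List.prod_cons, List.map_cons, List.prod_cons, mt_mul]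
    exact (srT_isMon hn h4 i).mul ih

theorem word_mem_closureT (l' : List (Fin (n / 2 - 1))) :
    (l'.map (srT n K)).prod ∈ Subgroup.closure (Set.range (srT n K)) := by
  apply Subgroup.list_prod_mem
  intro x hx
  rw [List.mem_map] at hx
  obtain ⟨i, _, rfl⟩ := hx
  exact Subgroup.subset_closure ⟨i, rfl⟩

include hn h4 hφφ in
theorem closure_sup_eqT :
    Subgroup.closure (Set.range (srT n K)) ⊔ (borT n φ ⊓ monT n φ) = monT n φ := by
  have hle : Subgroup.closure (Set.range (srT n K)) ≤ monT n φ := by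
    rw [Subgroup.closure_le]
    rintro _ ⟨i, rfl⟩
    exact srT_mem_monT hn h4 hφφ i
  apply le_antisymm
  · exact sup_le hle inf_le_right
  · rintro N ⟨⟨hNq, π, hπ, hs⟩, hNt⟩
    obtain ⟨l', hl'⟩ := exists_wordT hn h4 π hπ.comm_rev (isMon_comm_tauP hNt hπ) hs
    set N' := (l'.map (srT n K)).prod with hN'
    have h1 : IsMon (mt N') π := by rw [hl']; exact isMon_wordT hn h4 l'
    have hN'c : N' ∈ Subgroup.closure (Set.range (srT n K)) := word_mem_closureT l'
    have hN'E : N' ∈ monT n φ := hle hN'c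
    have h2 : IsMon (mt (N'⁻¹ * N)) 1 := by
      have := h1.inv'.mul hπ
      rw [inv_mul_cancel, ← mt_mul] at this
      exact this
    have h3 : N = N' * (N'⁻¹ * N) := by group
    rw [h3]
    apply Subgroup.mul_mem
    · exact Subgroup.mem_sup_left hN'c
    · apply Subgroup.mem_sup_right
      have hq : N'⁻¹ * N ∈ soq n K := (soq n K).mul_mem ((soq n K).inv_mem hN'E.1.1) hNq
      have ht : N'⁻¹ * N ∈ twG n φ := (twG n φ).mul_mem ((twG n φ).inv_mem hN'E.2) hNt
      exact ⟨⟨⟨mem_bor_of_isMon_one h2, hq⟩, ht⟩, ⟨hq, 1, h2, map_one _⟩, ht⟩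

include hn h4 hφφ in
/-- the local (B, N) data of the twisted group -/
theorem bnLocT : BNLoc (borT n φ) (monT n φ) (Set.range (srT n K)) where
  conj_mem := by
    intro N hN t ht
    refine ⟨⟨conj_mem_bor_of_mon (monE_le_mon hN.1) ⟨ht.1.1.1, monE_le_mon ht.2.1⟩, ?_⟩, ?_⟩
    · exact (soq n K).mul_mem ((soq n K).mul_mem hN.1.1 ht.1.1.2) ((soq n K).inv_mem hN.1.1)
    · exact (twG n φ).mul_mem ((twG n φ).mul_mem hN.2 ht.1.2) ((twG n φ).inv_mem hN.2)
  subset := by
    rintro _ ⟨i, rfl⟩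
    exact srT_mem_monT hn h4 hφφ i
  sq_mem := by
    rintro _ ⟨i, rfl⟩
    exact srT_sq_mem hn h4 hφφ i
  inj := by
    rintro _ ⟨i, rfl⟩ _ ⟨j, rfl⟩ h
    have h1 := (srT_isMon (K := K) hn h4 i).inv'.mul (srT_isMon hn h4 j)
    rw [← mt_mul] at h1
    have h2 := perm_eq_one_of_mem_bor h1 h.1.1
    rw [inv_mul_eq_one] at h2
    rw [prT_injective hn h4 h2]
  closure_sup := closure_sup_eqT hn h4 hφφ
  mul_mem_union := by
    rintro _ ⟨i, rfl⟩ N hN b hb
    exact (rankOne_T hn h4 hφφ i).mul_mem_union N hN b hb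
  conj_ne := by
    rintro _ ⟨i, rfl⟩ h
    have hx := (rankOne_T (φ := φ) hn h4 hφφ i).X_sub _ (x1T_mem hn h4 i)
    have h1 : srT n K i * x1T n K i * srT n K i ∈
        (fun b : WSU n (RingHom.id K) => srT n K i * b * srT n K i) ''
          (borT n φ : Set (WSU n (RingHom.id K))) :=
      ⟨_, hx, rfl⟩
    rw [h] at h1
    have hsq := srT_sq_mem (φ := φ) hn h4 hφφ i
    apply conj_x1T_not_mem (K := K) hn h4 i
    have e : srT n K i * x1T n K i * (srT n K i)⁻¹ =
        (srT n K i * x1T n K i * srT n K i) * (srT n K i * srT n K i)⁻¹ := by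
      group
    rw [e]
    exact (bor n (RingHom.id K)).mul_mem h1.1.1 ((bor n (RingHom.id K)).inv_mem hsq.1.1)

end bn

end Cfsg.Agent.Helper13.StBN
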