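import Mathlib
import Cfsg.Agent.Lib.Helper13.StBN1
import Cfsg.Agent.Lib.Helper13.SdCard
import Cfsg.Agent.Lib.Helper13.SdN0

/-!
# The twisted orthogonal group: `B = T ⋉ U`, the longest element (helper13)
-/

set_option autoImplicit false
set_option linter.unusedSectionVars false
set_option linter.unusedVariables false

namespace Cfsg.Agent.Helper13.StBN

open Matrix Cfsg.Agent.Helper13.SuBN Cfsg.Agent.Helper13.SdBN Cfsg.Agent.Helper13.SuP
  Cfsg.Agent.Helper13.SdP

variable {n : ℕ} {K : Type*} [Field K]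

theorem torT_le_borT (φ : K →+* K) : torT n φ ≤ borT n φ :=
  fun g hg => ⟨⟨tor_le_bor hg.1, tor_le_soq hg.1⟩, hg.2⟩

/-- the diagonal part of an element of the twisted group is in the twisted group -/
theorem dpart_mem_twG (hn : n % 2 = 0) {φ : K →+* K} {b : WSU n (RingHom.id K)}
    (hb : b ∈ bor n (RingHom.id K)) (hbt : b ∈ twG n φ) : dpart b hb ∈ twG n φ := by
  rw [mem_twG_iff hn]
  ext x y
  rw [sig_apply, mt_dpart]
  by_cases h : x = y
  · subst h
    rw [Matrix.diagonal_apply_eq, Matrix.diagonal_apply_eq]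
    exact twG_apply hbt x x
  · rw [Matrix.diagonal_apply_ne _ h, Matrix.diagonal_apply_ne _ (fun e => h ((tauP n).injective e)),
      map_zero]

theorem card_borT [Finite K] (hn : n % 2 = 0) (φ : K →+* K) :
    Nat.card (borT n φ) = Nat.card (torT n φ) * Nat.card (unipT n φ) := by
  rw [← Nat.card_prod]
  symm
  apply Nat.card_congr
  refine Equiv.ofBijective
    (fun x : (torT n φ) × (unipT n φ) => (⟨x.1.1 * x.2.1,
      (borT n φ).mul_mem (torT_le_borT φ x.1.2)
        ⟨⟨unip_le_bor x.2.2.1.1, x.2.2.1.2⟩, x.2.2.2⟩⟩ : borT n φ)) ⟨?_, ?_⟩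
  · rintro ⟨⟨t, ht⟩, ⟨u, hu⟩⟩ ⟨⟨t', ht'⟩, ⟨u', hu'⟩⟩ e
    have e1 : t * u = t' * u' := congrArg Subtype.val e
    have e2 : t'⁻¹ * t = u' * u⁻¹ := by
      rw [inv_mul_eq_iff_eq_mul, ← mul_assoc, ← e1, mul_inv_cancel_right]
    have h1 : t'⁻¹ * t ∈ tor n (RingHom.id K) ⊓ unip n (RingHom.id K) :=
      ⟨(tor n (RingHom.id K)).mul_mem ((tor n (RingHom.id K)).inv_mem ht'.1) ht.1, by
        rw [e2]
        exact (unip n (RingHom.id K)).mul_mem hu'.1.1 ((unip n (RingHom.id K)).inv_mem hu.1.1)⟩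
    rw [tor_inf_unip, Subgroup.mem_bot] at h1
    have h2 : t = t' := by
      rw [inv_mul_eq_one] at h1
      exact h1.symm
    subst h2
    have h3 : u = u' := mul_left_cancel e1
    subst h3
    rfl
  · rintro ⟨b, hb⟩
    have hd : dpart b hb.1.1 ∈ tor n (RingHom.id K) := dpart_mem_tor b hb.1.1
    have hdt : dpart b hb.1.1 ∈ twG n φ := dpart_mem_twG hn hb.1.1 hb.2
    refine ⟨(⟨dpart b hb.1.1, hd, hdt⟩, ⟨(dpart b hb.1.1)⁻¹ * b,
      ⟨inv_dpart_mul_mem_unip b hb.1.1,
        (soq n K).mul_mem ((soq n K).inv_mem (tor_le_soq hd)) hb.1.2⟩,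
      (twG n φ).mul_mem ((twG n φ).inv_mem hdt) hb.2⟩), ?_⟩
    apply Subtype.ext
    show dpart b hb.1.1 * ((dpart b hb.1.1)⁻¹ * b) = b
    rw [mul_inv_cancel_left]

theorem not_dvd_card_torT [Fintype K] (p : ℕ) [Fact p.Prime] [CharP K p] (φ : K →+* K) :
    ¬ p ∣ Nat.card (torT n φ) := by
  intro h
  apply not_dvd_card_tor (n := n) (F := K) p
  have : Finite (WSU n (RingHom.id K)) := finite_WSU
  exact h.trans (Subgroup.card_dvd_of_le (inf_le_left : torT n φ ≤ tor n (RingHom.id K)))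

/-- `pi0` commutes with `τ` -/
theorem pi0_tauP (hn : n % 2 = 0) (x : Fin n) : pi0 n (tauP n x) = tauP n (pi0 n x) := by
  apply Fin.ext
  rw [pi0_val hn, tauP_val, tauP_val, pi0_val hn]
  have := x.2
  split_ifs <;> omega

/-- a representative of the longest element in the twisted group -/
theorem exists_n0T (hn : n % 2 = 0) (h4 : 4 ≤ n) (φ : K →+* K) :
    ∃ N0 : WSU n (RingHom.id K), N0 ∈ monT n φ ∧ IsMon (mt N0) (pi0 n) := by
  have hdet : (n0M n K).det = 1 := by
    rw [n0M_eq, Matrix.det_permutation, sign_pi0 hn h4]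
    simp
  have hdag : dag (RingHom.id K) (n0M n K) * n0M n K = 1 := by
    ext p r
    rw [Matrix.mul_apply, Finset.sum_eq_single (pi0 n p)]
    · rw [dag_apply]
      unfold n0M
      rw [Matrix.of_apply, Matrix.of_apply, pi0_pi0 hn, pi0_rev hn, pi0_pi0 hn, if_pos rfl]
      show (1 : K) * _ = _
      rw [one_mul, Matrix.one_apply]
    · intro q _ hq
      rw [dag_apply]
      unfold n0M
      rw [Matrix.of_apply, pi0_rev hn, if_neg]
      · show (RingHom.id K) 0 * _ = 0
        rw [map_zero, zero_mul]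
      · intro e
        apply hq
        have := Fin.rev_inj.1 e
        rw [← this, pi0_pi0 hn]
    · intro h; exact absurd (Finset.mem_univ _) h
  have hmon : IsMon (mt (mkW (n0M n K) hdet hdag)) (pi0 n) := by
    intro a b hab
    rw [mt_mkW]
    unfold n0M
    rw [Matrix.of_apply, if_neg]
    intro e
    apply hab
    rw [← e, pi0_pi0 hn]
  have hsoq : mkW (n0M n K) hdet hdag ∈ soq n K := by
    apply mem_soq_of_cols hn
    intro j
    have hcol : mt (mkW (n0M n K) hdet hdag) *ᵥ (ev j : Fin n → K) = ev (pi0 n j) := by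
      funext a
      rw [mulVec_ev, mt_mkW, ev_apply]
      unfold n0M
      rw [Matrix.of_apply]
      by_cases h : pi0 n a = j
      · rw [if_pos h, if_pos (by rw [← h, pi0_pi0 hn])]
      · rw [if_neg h, if_neg (fun e => h (by rw [e, pi0_pi0 hn]))]
    rw [hcol, qf_ev]
  have htw : mkW (n0M n K) hdet hdag ∈ twG n φ := by
    rw [mem_twG_iff hn, mt_mkW]
    ext x y
    rw [sig_apply]
    unfold n0M
    rw [Matrix.of_apply, Matrix.of_apply, pi0_tauP hn]
    by_cases h : pi0 n x = y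
    · rw [if_pos h, if_pos (by rw [h]), map_one]
    · rw [if_neg h, if_neg (fun e => h ((tauP n).injective e)), map_zero]
  exact ⟨mkW (n0M n K) hdet hdag, ⟨⟨hsoq, pi0 n, hmon, sign_pi0 hn h4⟩, htw⟩, hmon⟩

end Cfsg.Agent.Helper13.StBN
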