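import Mathlib
import Cfsg.Agent.Lib.Helper13.StBN2
import Cfsg.Agent.Lib.Helper13.StCard
import Cfsg.Agent.Lib.Helper13.SdBN3

/-!
# The Steinberg character of `PΩ⁻_{2m+2}(q)` (helper13)
-/

set_option autoImplicit false
set_option linter.unusedSectionVars false
set_option linter.unusedVariables false

namespace Cfsg.Agent.Helper13.StBN

open Matrix Cfsg.Agent.Helper13.SuBN Cfsg.Agent.Helper13.BNAbs Cfsg.Agent.Helper13.SdP
  Cfsg.Agent.Helper13.SuP Cfsg.Agent.Helper13.SdBN Cfsg.Agent.Helper13.StP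
  Cfsg.Agent.Helper2.WordLen Cfsg.Agent.Helper2.BN Cfsg.Agent.Helper17.BNCox

variable {n : ℕ} {K : Type*} [Field K]

/-- the rank one data as functions of the reflection -/
noncomputable def XSt (n : ℕ) {K : Type*} [Field K] (φ : K →+* K) (s : WSU n (RingHom.id K)) :
    Set (WSU n (RingHom.id K)) :=
  open Classical in if h : s ∈ Set.range (srT n K) then XT n φ (Classical.choose h) else ∅

noncomputable def YSt (n : ℕ) {K : Type*} [Field K] (φ : K →+* K) (s : WSU n (RingHom.id K)) :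
    Set (WSU n (RingHom.id K)) :=
  open Classical in if h : s ∈ Set.range (srT n K) then YT n φ (Classical.choose h) else ∅

theorem XSt_YSt (φ : K →+* K) (s : WSU n (RingHom.id K)) (hs : s ∈ Set.range (srT n K)) :
    ∃ i, srT n K i = s ∧ XSt n φ s = XT n φ i ∧ YSt n φ s = YT n φ i := by
  refine ⟨Classical.choose hs, Classical.choose_spec hs, ?_, ?_⟩
  · unfold XSt
    rw [dif_pos hs]
  · unfold YSt
    rw [dif_pos hs]

/-- `U` is normal in `B` -/
theorem conj_mem_unipT {φ : K →+* K} {b u : WSU n (RingHom.id K)} (hb : b ∈ borT n φ)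
    (hu : u ∈ unipT n φ) : b * u * b⁻¹ ∈ unipT n φ :=
  ⟨conj_mem_unipQ hb.1 hu.1, (twG n φ).mul_mem ((twG n φ).mul_mem hb.2 hu.2) ((twG n φ).inv_mem hb.2)⟩

section family

variable (hn : n % 2 = 0) (h4 : 4 ≤ n) {φ : K →+* K} (hφφ : ∀ x, φ (φ x) = x)

include hn h4 hφφ in
/-- the opposite root elements lie in the subgroup generated by `B` and `N` -/
theorem YT_mem_sup (i : Fin (n / 2 - 1)) (y : WSU n (RingHom.id K)) (hy : y ∈ YT n φ i) :
    y ∈ borT n φ ⊔ monT n φ := by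
  by_cases h : i.val + 2 < n / 2
  · obtain ⟨hab, hab', ha, hbb, hlt⟩ := abD hn h4 (iD i)
    obtain ⟨e1, e2⟩ := short_idx hn h4 i h
    unfold YT at hy
    rw [if_pos h] at hy
    obtain ⟨t, ht, rfl⟩ := hy
    by_cases ht0 : t = 0
    · rw [ht0, Tm_zero hid hab.symm hbb ha]
      exact Subgroup.one_mem _
    · have hc : -t⁻¹ ≠ 0 := neg_ne_zero.2 (inv_ne_zero ht0)
      have hφc : φ (-t⁻¹) = -t⁻¹ := by rw [map_neg, map_inv₀, ht]
      have hw : wS (RingHom.id K) (aD n (iD i)) (bD n (iD i)) (-t⁻¹) =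
          Tm (RingHom.id K) (aD n (iD i)) (bD n (iD i)) (-t⁻¹) *
            Tm (RingHom.id K) (bD n (iD i)) (aD n (iD i)) t *
            Tm (RingHom.id K) (aD n (iD i)) (bD n (iD i)) (-t⁻¹) := by
        unfold wS
        rw [inv_neg, neg_neg, inv_inv]
      have e : Tm (RingHom.id K) (bD n (iD i)) (aD n (iD i)) t =
          (Tm (RingHom.id K) (aD n (iD i)) (bD n (iD i)) (-t⁻¹))⁻¹ *
            wS (RingHom.id K) (aD n (iD i)) (bD n (iD i)) (-t⁻¹) *
            (Tm (RingHom.id K) (aD n (iD i)) (bD n (iD i)) (-t⁻¹))⁻¹ := by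
        rw [hw]; group
      have hxT := XT_short_mem (φ := φ) hn h4 i h hφc
      have hx : Tm (RingHom.id K) (aD n (iD i)) (bD n (iD i)) (-t⁻¹) ∈ borT n φ ⊔ monT n φ :=
        Subgroup.mem_sup_left (unipT_le_borT φ hxT)
      have hyT := YT_short_mem (φ := φ) hn h4 i h ht
      have hwT : wS (RingHom.id K) (aD n (iD i)) (bD n (iD i)) (-t⁻¹) ∈ monT n φ := by
        refine ⟨wS_mem_monE hn h4 hab hab' ha hbb hc, ?_⟩
        rw [hw]
        exact (twG n φ).mul_mem ((twG n φ).mul_mem hxT.2 hyT.2) hxT.2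
      rw [e]
      exact Subgroup.mul_mem _ (Subgroup.mul_mem _ (Subgroup.inv_mem _ hx)
        (Subgroup.mem_sup_right hwT)) (Subgroup.inv_mem _ hx)
  · obtain ⟨hav, hcv, _, _, _, _⟩ := last_idx hn h4 i h
    obtain ⟨hac, hac', ha, hc, hlt, hlt', hτa, hτc⟩ := last_ne hn h4 hav hcv
    rw [(XT_last (φ := φ) hn h4 i h).2] at hy
    obtain ⟨t, rfl⟩ := hy
    by_cases ht0 : t = 0
    · have : yG φ (aD n (iD i)) (bD n (iD i)) 0 = 1 := by
        have hc' : Fin.rev (bD n (iD i)) ≠ Fin.rev (Fin.rev (bD n (iD i))) := by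
          rw [Fin.rev_rev]; exact hc.symm
        unfold yG
        rw [map_zero, Tm_zero hid hac.symm hc ha, Tm_zero hid hac'.symm hc' ha, mul_one]
      rw [ht0, this]
      exact Subgroup.one_mem _
    · have hu : -t⁻¹ ≠ 0 := neg_ne_zero.2 (inv_ne_zero ht0)
      have hw := wG_eq hac hac' ha hc φ (-t⁻¹)
      rw [inv_neg, neg_neg, inv_inv] at hw
      have e : yG φ (aD n (iD i)) (bD n (iD i)) t =
          (xG φ (aD n (iD i)) (bD n (iD i)) (-t⁻¹))⁻¹ * wG φ (aD n (iD i)) (bD n (iD i)) (-t⁻¹) *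
            (xG φ (aD n (iD i)) (bD n (iD i)) (-t⁻¹))⁻¹ := by
        rw [hw]; group
      have hx : xG φ (aD n (iD i)) (bD n (iD i)) (-t⁻¹) ∈ borT n φ ⊔ monT n φ :=
        Subgroup.mem_sup_left (unipT_le_borT φ (xG_mem_unipT hn h4 hφφ hav hcv _))
      rw [e]
      exact Subgroup.mul_mem _ (Subgroup.mul_mem _ (Subgroup.inv_mem _ hx)
        (Subgroup.mem_sup_right (wG_mem_monT hn h4 hφφ hav hcv hu))) (Subgroup.inv_mem _ hx)

include hn h4 hφφ in
/-- the opposite root elements are conjugated into `B` by the longest element -/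
theorem conj_YT_mem {N0 : WSU n (RingHom.id K)} (hN0E : N0 ∈ monT n φ)
    (hN0 : IsMon (mt N0) (pi0 n)) (i : Fin (n / 2 - 1)) (y : WSU n (RingHom.id K))
    (hy : y ∈ YT n φ i) : N0⁻¹ * y * N0 ∈ borT n φ := by
  have hmem : ∀ x : WSU n (RingHom.id K), x ∈ gT n φ → N0⁻¹ * x * N0 ∈ gT n φ := by
    intro x hx
    exact ⟨(soq n K).mul_mem ((soq n K).mul_mem ((soq n K).inv_mem hN0E.1.1) hx.1) hN0E.1.1,
      (twG n φ).mul_mem ((twG n φ).mul_mem ((twG n φ).inv_mem hN0E.2) hx.2) hN0E.2⟩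
  by_cases h : i.val + 2 < n / 2
  · unfold YT at hy
    rw [if_pos h] at hy
    obtain ⟨t, ht, rfl⟩ := hy
    have hm := hmem _ (YT_short_mem (φ := φ) hn h4 i h ht)
    exact ⟨⟨conj_YD_mem_bor hn h4 hN0 (iD i) _ ⟨t, rfl⟩, hm.1⟩, hm.2⟩
  · obtain ⟨hav, hcv, e1, e2, _, _⟩ := last_idx hn h4 i h
    rw [(XT_last (φ := φ) hn h4 i h).2] at hy
    obtain ⟨t, rfl⟩ := hy
    have hm := hmem _ (yG_mem_gT (φ := φ) hn h4 hφφ hav hcv t)
    refine ⟨⟨?_, hm.1⟩, hm.2⟩
    have e : N0⁻¹ * yG φ (aD n (iD i)) (bD n (iD i)) t * N0 =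
        (N0⁻¹ * Tm (RingHom.id K) (bD n (iD i)) (aD n (iD i)) t * N0) *
          (N0⁻¹ * Tm (RingHom.id K) (Fin.rev (bD n (iD i))) (aD n (iD i)) (φ t) * N0) := by
      unfold yG; group
    rw [e]
    apply (bor n (RingHom.id K)).mul_mem
    · exact conj_YD_mem_bor hn h4 hN0 (iD i) _ ⟨t, rfl⟩
    · have := conj_YD_mem_bor hn h4 hN0 (iD' i)
        (Tm (RingHom.id K) (bD n (iD' i)) (aD n (iD' i)) (φ t)) ⟨φ t, rfl⟩
      rw [e1, e2] at this
      exact this

end family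

/-- the Steinberg character of `PΩ⁻_{2m+2}(q)`, `m ≥ 1`, given the quadratic extension -/
theorem steinberg_of_data {F K : Type*} [Field F] [Fintype F] [Field K] [Fintype K] (p : ℕ)
    [Fact p.Prime] [CharP F p] (m : ℕ) (hm : 1 ≤ m) (a b : F)
    (hab : ∀ z₁ z₂ : F, z₁ ^ 2 + a * z₁ * z₂ + b * z₂ ^ 2 = 0 → z₁ = 0 ∧ z₂ = 0)
    (ι : F →+* K) (φ : K →+* K) (ω : K) (hφφ : ∀ x, φ (φ x) = x)
    (hfix : ∀ x, φ x = x ↔ x ∈ ι.range) (hω1 : ω + φ ω = - ι a) (hω2 : ω * φ ω = ι b)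
    (hω3 : φ ω ≠ ω) :
    ∃ χ : Cfsg.POmega F (Cfsg.quadFormMinus m F a b) → ℂ,
      Cfsg.IsIrrCharacter (Cfsg.POmega F (Cfsg.quadFormMinus m F a b)) χ ∧
      ∀ P : Sylow p (Cfsg.POmega F (Cfsg.quadFormMinus m F a b)), χ 1 = Nat.card P ∧
        ∀ x : Cfsg.POmega F (Cfsg.quadFormMinus m F a b), x ∈ P → x ≠ 1 → χ x = 0 := by
  classical
  have hp : p.Prime := Fact.out
  haveI : CharP K p := charP_of_injective_ringHom ι.injective p
  have hn : (2 * m + 2) % 2 = 0 := by omega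
  have h4 : 4 ≤ 2 * m + 2 := by omega
  have hloc := bnLocT (K := K) hn h4 hφφ
  obtain ⟨N0, hN0E, hN0⟩ := exists_n0T (K := K) hn h4 φ
  have hfin : Finite (WSU (2 * m + 2) (RingHom.id K)) := finite_WSU
  have hHle : borT (2 * m + 2) φ ⊔ monT (2 * m + 2) φ ≤ gT (2 * m + 2) φ :=
    sup_le (borT_le_gT _ φ) (monT_le_gT _ φ)
  letI : Fintype ↥(borT (2 * m + 2) φ ⊔ monT (2 * m + 2) φ) := Fintype.ofFinite _
  letI : Fintype ↥hloc.pair.S := Fintype.ofFinite _
  -- the degree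
  have hidxT : ((torT (2 * m + 2) φ).subgroupOf (borT (2 * m + 2) φ)).index =
      Nat.card (unipT (2 * m + 2) φ) := by
    have h1 := Subgroup.index_mul_card ((torT (2 * m + 2) φ).subgroupOf (borT (2 * m + 2) φ))
    have h2 : Nat.card ((torT (2 * m + 2) φ).subgroupOf (borT (2 * m + 2) φ)) =
        Nat.card (torT (2 * m + 2) φ) :=
      Nat.card_congr (Subgroup.subgroupOfEquivOfLe (torT_le_borT φ)).toEquiv
    rw [h2, card_borT hn φ] at h1
    have h3 : 0 < Nat.card (torT (2 * m + 2) φ) := Nat.card_pos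
    rw [mul_comm (Nat.card (torT (2 * m + 2) φ))] at h1
    exact Nat.eq_of_mul_eq_mul_right h3 h1
  have hT : ∀ x ∈ borT (2 * m + 2) φ, x ∈ torT (2 * m + 2) φ ↔ N0⁻¹ * x * N0 ∈ borT (2 * m + 2) φ := by
    intro x hx
    have h1 := mem_tor_iff_conjD hn h4 hN0 hN0E.1.1 x hx.1
    have h2 : N0⁻¹ * x * N0 ∈ twG (2 * m + 2) φ :=
      (twG _ φ).mul_mem ((twG _ φ).mul_mem ((twG _ φ).inv_mem hN0E.2) hx.2) hN0E.2
    constructor
    · intro h
      exact ⟨h1.1 h.1, h2⟩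
    · intro h
      exact ⟨h1.2 h.1, hx.2⟩
  have hone : St hloc.pair 1 = (Nat.card (unipT (2 * m + 2) φ) : ℂ) := by
    rw [St_one_loc hloc (XSt (2 * m + 2) φ) (YSt (2 * m + 2) φ) ?_ ?_ ?_ N0 hN0E ?_
      (torT (2 * m + 2) φ) (torT_le_borT φ) hT, hidxT]
    · intro s hs
      obtain ⟨i, rfl, hX, hY⟩ := XSt_YSt φ s hs
      rw [hX, hY]
      exact rankOne_T hn h4 hφφ i
    · intro s hs y hy
      obtain ⟨i, rfl, hX, hY⟩ := XSt_YSt φ s hs
      rw [hY] at hy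
      exact YT_mem_sup hn h4 hφφ i y hy
    · intro s hs
      obtain ⟨i, rfl, hX, hY⟩ := XSt_YSt φ s hs
      rw [hX]
      refine ⟨_, x1T_mem hn h4 i, ?_⟩
      intro e
      have h1 := conj_x1T_not_mem (K := K) hn h4 i
      rw [e, mul_one, mul_inv_cancel] at h1
      exact h1 (Subgroup.one_mem _)
    · intro s hs y hy
      obtain ⟨i, rfl, hX, hY⟩ := XSt_YSt φ s hs
      rw [hY] at hy
      exact conj_YT_mem hn h4 hφφ hN0E hN0 i y hy
  -- the Sylow subgroup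
  have hUB : (unipT (2 * m + 2) φ).subgroupOf (borT (2 * m + 2) φ ⊔ monT (2 * m + 2) φ) ≤
      hloc.pair.B := by
    intro u hu
    exact unipT_le_borT φ hu
  have hUn : ∀ b ∈ hloc.pair.B,
      ∀ u ∈ (unipT (2 * m + 2) φ).subgroupOf (borT (2 * m + 2) φ ⊔ monT (2 * m + 2) φ),
      b * u * b⁻¹ ∈ (unipT (2 * m + 2) φ).subgroupOf (borT (2 * m + 2) φ ⊔ monT (2 * m + 2) φ) := by
    intro b hb u hu
    exact conj_mem_unipT hb hu
  have hsU : ∀ s ∈ hloc.pair.S,
      ∃ u ∈ (unipT (2 * m + 2) φ).subgroupOf (borT (2 * m + 2) φ ⊔ monT (2 * m + 2) φ),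
      s * u * s⁻¹ ∉ hloc.pair.B := by
    intro s hs
    obtain ⟨i, hi⟩ := hs
    have hxB := (rankOne_T (φ := φ) hn h4 hφφ i).X_sub _ (x1T_mem hn h4 i)
    have hxU : x1T (2 * m + 2) K i ∈ unipT (2 * m + 2) φ := by
      unfold x1T
      by_cases h : i.val + 2 < (2 * m + 2) / 2
      · rw [if_pos h]
        exact XT_short_mem hn h4 i h (map_one φ)
      · obtain ⟨hav, hcv, _, _, _, _⟩ := last_idx hn h4 i h
        rw [if_neg h]
        have := xG_mem_unipT (φ := φ) hn h4 hφφ hav hcv 1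
        unfold xG at this ⊢
        rw [map_one] at this
        exact this
    refine ⟨⟨_, Subgroup.mem_sup_left hxB⟩, hxU, ?_⟩
    intro hcon
    apply conj_x1T_not_mem (K := K) hn h4 i
    have h1 : ((s * ⟨_, Subgroup.mem_sup_left hxB⟩ * s⁻¹ :
        ↥(borT (2 * m + 2) φ ⊔ monT (2 * m + 2) φ)) : WSU (2 * m + 2) (RingHom.id K)) ∈
        borT (2 * m + 2) φ := hcon
    rw [Subgroup.coe_mul, Subgroup.coe_mul, Subgroup.coe_inv, ← hi] at h1
    exact h1.1.1
  have hUp : IsPGroup p ((unipT (2 * m + 2) φ).subgroupOf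
      (borT (2 * m + 2) φ ⊔ monT (2 * m + 2) φ)) := by
    have h1 : IsPGroup p (unipT (2 * m + 2) φ) :=
      (unip_isPGroup (n := 2 * m + 2) (F := K) (φ := RingHom.id K) p).to_le
        (fun g hg => hg.1.1)
    exact h1.comap_subtype
  have hcardB : Nat.card hloc.pair.B = Nat.card (torT (2 * m + 2) φ) *
      Nat.card ((unipT (2 * m + 2) φ).subgroupOf (borT (2 * m + 2) φ ⊔ monT (2 * m + 2) φ)) := by
    have h1 : Nat.card hloc.pair.B = Nat.card (borT (2 * m + 2) φ) :=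
      Nat.card_congr (Subgroup.subgroupOfEquivOfLe le_sup_left).toEquiv
    have h2 : Nat.card ((unipT (2 * m + 2) φ).subgroupOf
        (borT (2 * m + 2) φ ⊔ monT (2 * m + 2) φ)) = Nat.card (unipT (2 * m + 2) φ) :=
      Nat.card_congr (Subgroup.subgroupOfEquivOfLe
        (le_trans (unipT_le_borT φ) le_sup_left)).toEquiv
    rw [h1, h2, card_borT hn φ]
  let U : Sylow p ↥(borT (2 * m + 2) φ ⊔ monT (2 * m + 2) φ) :=
    { toSubgroup := (unipT (2 * m + 2) φ).subgroupOf (borT (2 * m + 2) φ ⊔ monT (2 * m + 2) φ)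
      isPGroup' := hUp
      is_maximal' := fun {Q} hQ hle =>
        isMax_of_bn hloc.pair p _ hUB hUn hsU hUp _ hcardB (not_dvd_card_torT p φ) hQ hle }
  have hcardU : Nat.card U = Nat.card (unipT (2 * m + 2) φ) :=
    Nat.card_congr (Subgroup.subgroupOfEquivOfLe
      (le_trans (unipT_le_borT φ) le_sup_left)).toEquiv
  -- the transport
  obtain ⟨j, hjinj, hjent, hjdet⟩ := exists_hom_minus m a b ι φ ω hφφ hfix hω1 hω2 hω3
  have hΩ : commutator (Cfsg.isometryGroup F (Cfsg.quadFormMinus m F a b)) ≤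
      ((borT (2 * m + 2) φ ⊔ monT (2 * m + 2) φ).subgroupOf (gT (2 * m + 2) φ)).map j := by
    by_cases hm1 : m = 1
    · subst hm1
      exact Omega_le_map_minus_one a b hab ι φ ω hφφ hfix hω1 hω2 hω3 j hjinj hjent hjdet
        (fun h2 g => hjdet g (det_eq_one_of_two h2 1 a b hab g))
    · exact Omega_le_map_minus m (by omega) a b hab ι φ ω hφφ hfix hω1 hω2 hω3 j hjent hjdet
  have hidx := not_dvd_index_minus p m hm a b hab ι φ hφφ hloc j hjinj hΩ
  let jH : ↥(borT (2 * m + 2) φ ⊔ monT (2 * m + 2) φ) →*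
      Cfsg.isometryGroup F (Cfsg.quadFormMinus m F a b) :=
    j.comp (Subgroup.inclusion hHle)
  have hjHinj : Function.Injective jH := hjinj.comp (Subgroup.inclusion_injective hHle)
  have hrange : jH.range =
      ((borT (2 * m + 2) φ ⊔ monT (2 * m + 2) φ).subgroupOf (gT (2 * m + 2) φ)).map j := by
    rw [MonoidHom.range_comp, Subgroup.inclusion_range]
  have hΩ' : commutator (Cfsg.isometryGroup F (Cfsg.quadFormMinus m F a b)) ≤ jH.range := by
    rw [hrange]; exact hΩ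
  have hidx' : ¬ p ∣ ((commutator (Cfsg.isometryGroup F (Cfsg.quadFormMinus m F a b))).comap
      jH).index := by
    rw [Subgroup.index_comap, hrange]
    exact hidx
  apply steinberg_of_normal jH hjHinj hΩ' p hidx' U (St hloc.pair) (St_irr hloc.pair)
    (by rw [hone, hcardU])
  intro hU z hz hcomm
  apply St_eq_of_conj_mem
  intro g
  apply normalizer_le_B hloc.pair _ hUB hUn hsU
  intro u hu
  have hnormal : ((commutator (Cfsg.isometryGroup F (Cfsg.quadFormMinus m F a b))).comap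
      jH).Normal := inferInstance
  have huC : u ∈ (commutator (Cfsg.isometryGroup F (Cfsg.quadFormMinus m F a b))).comap jH :=
    hU hu
  have hconj : g * u * g⁻¹ ∈
      (commutator (Cfsg.isometryGroup F (Cfsg.quadFormMinus m F a b))).comap jH :=
    hnormal.conj_mem u huC g
  have h3 := hcomm _ hconj
  have e : (g⁻¹ * z * g)⁻¹ * u * (g⁻¹ * z * g) = g⁻¹ * (z⁻¹ * (g * u * g⁻¹) * z) * g := by
    group
  rw [e]
  have e2 : z⁻¹ * (g * u * g⁻¹) * z = g * u * g⁻¹ := by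
    rw [mul_assoc, ← h3, ← mul_assoc, inv_mul_cancel, one_mul]
  rw [e2]
  have e3 : g⁻¹ * (g * u * g⁻¹) * g = u := by group
  rw [e3]
  exact hu

/-- the Steinberg character of `PΩ⁻_{2m+2}(q)` -/
theorem steinberg_POmegaMinus {F : Type*} [Field F] [Fintype F] (p : ℕ) [Fact p.Prime] [CharP F p]
    (m : ℕ) (a b : F)
    (hab : ∀ z₁ z₂ : F, z₁ ^ 2 + a * z₁ * z₂ + b * z₂ ^ 2 = 0 → z₁ = 0 ∧ z₂ = 0) :
    ∃ χ : Cfsg.POmega F (Cfsg.quadFormMinus m F a b) → ℂ,
      Cfsg.IsIrrCharacter (Cfsg.POmega F (Cfsg.quadFormMinus m F a b)) χ ∧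
      ∀ P : Sylow p (Cfsg.POmega F (Cfsg.quadFormMinus m F a b)), χ 1 = Nat.card P ∧
        ∀ x : Cfsg.POmega F (Cfsg.quadFormMinus m F a b), x ∈ P → x ≠ 1 → χ x = 0 := by
  by_cases hm : m = 0
  · subst hm
    exact minus_zero p a b hab
  obtain ⟨K, _, _, ι, φ, ω, hφφ, hfix, hω1, hω2, hω3⟩ := exists_quadExt a b hab
  exact steinberg_of_data p m (by omega) a b hab ι φ ω hφφ hfix hω1 hω2 hω3

end Cfsg.Agent.Helper13.StBN
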