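import Mathlib
import Cfsg.Prelude
import Cfsg.Agent.Lib.Helper13.SylODefs
import Cfsg.Agent.Lib.Helper5.SylOPREV
import Cfsg.Agent.Lib.Helper11.SylOTWOW
import Cfsg.Agent.Lib.Helper11.SylOSYL
import Cfsg.Agent.Lib.Helper24.SylOCARDCore
import Cfsg.Agent.Lib.Helper24.SylOCOMMONCore
import Cfsg.Agent.Lib.Helper12.SylOBIG
import Cfsg.Agent.Lib.Helper12.SylOASMCore
import Cfsg.Agent.Lib.Helper6.SYLOORBCore

/-!
# S4613, the uniform (B, N)-pair route (helper13): assembly of `Data P p → SylOpp p H`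

All names here are prefixed by `fin_` (no clash with the exact-name wrappers of the piece owners).
Main result: `fin_sylOpp_of_data`.
-/

set_option autoImplicit false

namespace Cfsg.Agent.Helper13.SylO

open Cfsg Cfsg.Agent.Helper2.WordLen Cfsg.Agent.Helper2.BN Cfsg.Agent.Helper17.BNCox

section data
variable {H : Type*} [Group H] {P : Cfsg.BNPair H} {p : ℕ} [Fact p.Prime] (D : Data P p)

/-- a `p`-power torsion element of the torus is trivial -/
theorem fin_torus_eq_one [Finite H] (t : H) (ht : t ∈ D.T) (k : ℕ) (hk : t ^ p ^ k = 1) : t = 1 := by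
  have hp : p.Prime := Fact.out
  have h1 : orderOf t ∣ p ^ k := orderOf_dvd_of_pow_eq_one hk
  have h2 : orderOf t ∣ Nat.card D.T := by
    have := orderOf_dvd_natCard (⟨t, ht⟩ : D.T)
    rwa [Subgroup.orderOf_mk] at this
  have hcop : Nat.Coprime (p ^ k) (Nat.card D.T) :=
    Nat.Coprime.pow_left k ((Nat.Prime.coprime_iff_not_dvd hp).2 D.hTp)
  exact orderOf_eq_one_iff.1 (Nat.eq_one_of_dvd_coprimes hcop h1 h2)

/-- `U ∩ T = 1` -/
theorem fin_eq_one_of_mem [Finite H] (x : H) (hU : x ∈ D.U) (hT : x ∈ D.T) : x = 1 := by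
  obtain ⟨k, hk⟩ := D.hUp ⟨x, hU⟩
  have hk' : x ^ p ^ k = 1 := by
    have := congrArg Subtype.val hk
    simpa using this
  exact fin_torus_eq_one D x hT k hk'

/-- `B = U T` -/
theorem fin_exists_mul [Finite H] (b : H) (hb : b ∈ P.B) :
    ∃ u ∈ D.U, ∃ t ∈ D.T, b = u * t := by
  let f : D.U × D.T → P.B := fun x => ⟨(x.1 : H) * (x.2 : H), P.B.mul_mem (D.hUB x.1.2) (D.hTB x.2.2)⟩
  have hinj : Function.Injective f := by
    rintro ⟨u, t⟩ ⟨u', t'⟩ h
    have h1 : (u : H) * (t : H) = (u' : H) * (t' : H) := congrArg Subtype.val h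
    have h2 : (u' : H)⁻¹ * (u : H) = (t' : H) * (t : H)⁻¹ := by
      have : (u' : H)⁻¹ * ((u : H) * (t : H)) * (t : H)⁻¹ = (u' : H)⁻¹ * ((u' : H) * (t' : H)) * (t : H)⁻¹ := by
        rw [h1]
      calc (u' : H)⁻¹ * (u : H) = (u' : H)⁻¹ * ((u : H) * (t : H)) * (t : H)⁻¹ := by group
        _ = (u' : H)⁻¹ * ((u' : H) * (t' : H)) * (t : H)⁻¹ := this
        _ = (t' : H) * (t : H)⁻¹ := by group
    have h3 : (u' : H)⁻¹ * (u : H) ∈ D.U := D.U.mul_mem (D.U.inv_mem u'.2) u.2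
    have h4 : (u' : H)⁻¹ * (u : H) ∈ D.T := by
      rw [h2]; exact D.T.mul_mem t'.2 (D.T.inv_mem t.2)
    have h5 := fin_eq_one_of_mem D _ h3 h4
    have h6 : (u : H) = u' := by
      have := inv_mul_eq_one.1 h5
      exact this.symm
    have h7 : (t : H) = t' := by
      rw [h6] at h1
      exact mul_left_cancel h1
    exact Prod.ext (Subtype.ext h6) (Subtype.ext h7)
  have hcard : Nat.card (D.U × D.T) = Nat.card P.B := by
    rw [Nat.card_prod, D.hcard, mul_comm]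
  have hbij : Function.Bijective f :=
    (Nat.bijective_iff_injective_and_card f).2 ⟨hinj, hcard⟩
  obtain ⟨⟨u, t⟩, hut⟩ := hbij.2 ⟨b, hb⟩
  exact ⟨u, u.2, t, t.2, (congrArg Subtype.val hut).symm⟩

/-- powers of `u t` -/
theorem fin_pow_mul [Finite H] (u t : H) (hu : u ∈ D.U) (ht : t ∈ D.T) (n : ℕ) :
    ∃ v ∈ D.U, (u * t) ^ n = v * t ^ n := by
  induction n with
  | zero => exact ⟨1, D.U.one_mem, by simp⟩
  | succ n ih =>
    obtain ⟨v, hv, hvn⟩ := ih
    have htn : t ^ n ∈ P.B := P.B.pow_mem (D.hTB ht) n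
    have h1 : t ^ n * u * (t ^ n)⁻¹ ∈ D.U := D.hUn _ htn u hu
    refine ⟨v * (t ^ n * u * (t ^ n)⁻¹), D.U.mul_mem hv h1, ?_⟩
    rw [pow_succ, hvn, pow_succ]
    group

/-- the `p`-elements of `B` lie in `U` -/
theorem fin_mem_U_of_pow [Finite H] (x : H) (hx : x ∈ P.B) (k : ℕ) (hk : x ^ p ^ k = 1) :
    x ∈ D.U := by
  obtain ⟨u, hu, t, ht, rfl⟩ := fin_exists_mul D x hx
  obtain ⟨v, hv, hvn⟩ := fin_pow_mul D u t hu ht (p ^ k)
  rw [hk] at hvn
  have h1 : t ^ p ^ k = v⁻¹ := by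
    have : v⁻¹ * 1 = v⁻¹ * (v * t ^ p ^ k) := by rw [hvn]
    rw [mul_one, inv_mul_cancel_left] at this
    exact this.symm
  have h2 : t ^ p ^ k ∈ D.U := by rw [h1]; exact D.U.inv_mem hv
  have h3 : t ^ p ^ k ∈ D.T := D.T.pow_mem ht _
  have h4 := fin_eq_one_of_mem D _ h2 h3
  have h5 := fin_torus_eq_one D t ht k h4
  rw [h5, mul_one]
  exact hu

theorem fin_big_cell [Finite H] (g : H) (hg : g ∈ C P (π P D.n₀)) :
    ∃ u ∈ D.U, ∃ b ∈ P.B, g = u * (D.n₀ : H) * b :=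
  sylo_big_big_cell_core D (fin_exists_mul D) g hg

theorem fin_opp_of_mem [Finite H] (g : H) (hg : g ∈ C P (π P D.n₀)) : D.Opp g :=
  sylo_big_opp_of_mem_core D (fin_exists_mul D) (fin_eq_one_of_mem D) g hg

theorem fin_card_cell_lt [Finite H] (w₀ : W P) (hw₀ : ∀ t : P.S, ℓ P (w₀ * σ P t) < ℓ P w₀)
    (w : W P) (hw : w ≠ w₀) :
    Nat.card {c : H ⧸ P.B // cellQ P c = w} < Nat.card {c : H ⧸ P.B // cellQ P c = w₀} :=
  card_cell_lt_core P (two_mul_card_cell_le P) w₀ hw₀ w hw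

theorem fin_common_opp [Finite H] (w₀ : W P) (hw₀ : ∀ t : P.S, ℓ P (w₀ * σ P t) < ℓ P w₀) (g : H) :
    ∃ h : H, h ∈ C P w₀ ∧ g⁻¹ * h ∈ C P w₀ :=
  common_opp_core P (prev_unique P) w₀ hw₀ g

theorem fin_mem_of_opp [Finite H] (g : H) (hg : D.Opp g) : g ∈ C P (π P D.n₀) :=
  sylo_orb_mem_of_opp_core D (fin_big_cell D) (fin_mem_U_of_pow D) (fin_card_cell_lt (P := P)) g hg

/-- **the main theorem of the abstract part**: a split (B, N)-pair of characteristic `p` has the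
opposition structure on its Sylow `p`-subgroups -/
theorem fin_sylOpp_of_data [Finite H] (D : Data P p) : SylOpp p H :=
  sylo_asm_core D (Data.sylow D) rfl (Data.exists_conj D) (Data.inf_eq_bot_iff D) (fin_big_cell D)
    (fin_opp_of_mem D) (fin_mem_of_opp D) (fin_common_opp (P := P) (π P D.n₀) D.hn₀)

end data

end Cfsg.Agent.Helper13.SylO
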