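import Mathlib
import Cfsg.Prelude
import Cfsg.Agent.Lib.Helper4.SylOLoc
import Cfsg.Agent.Lib.Helper13.StBN3
import Cfsg.Agent.Lib.Helper13.SylOFinal
import Cfsg.Agent.Lib.Helper6.SYLOSUB
import Cfsg.Agent.Lib.Helper22.SylOQUOT
import Cfsg.Agent.Lib.Helper10.SylOT
import Cfsg.Agent.S0297

/-!
# S4613 piece PA-POMINUS (helper13): `NoPAut p (PΩ⁻_{2m}(q))`, `m ≥ 4`, via the uniform (B, N)-pair
route.  The (B, N) data are those of `Helper13.StBN.steinberg_of_data`.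
-/

set_option autoImplicit false
set_option linter.unusedSectionVars false
set_option linter.unusedVariables false

namespace Cfsg.Agent.Helper28.PA

open Matrix Cfsg Cfsg.Agent.Helper13.SuBN Cfsg.Agent.Helper13.BNAbs Cfsg.Agent.Helper13.SdP
  Cfsg.Agent.Helper13.SuP Cfsg.Agent.Helper13.SdBN Cfsg.Agent.Helper13.StP
  Cfsg.Agent.Helper13.StBN Cfsg.Agent.Helper13.SylO
  Cfsg.Agent.Helper2.WordLen Cfsg.Agent.Helper2.BN Cfsg.Agent.Helper17.BNCox

/-- the split (B, N) data of type `²D_{m+1}` -/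
theorem pominus_data {K : Type*} [Field K] [Fintype K] (p : ℕ) [Fact p.Prime] [CharP K p]
    (m : ℕ) (hm : 1 ≤ m) (φ : K →+* K) (hφφ : ∀ x, φ (φ x) = x) :
    ∃ hloc : BNLoc (borT (2 * m + 2) φ) (monT (2 * m + 2) φ) (Set.range (srT (2 * m + 2) K)),
      Nonempty (Data hloc.pair p) := by
  classical
  have hp : p.Prime := Fact.out
  have hn : (2 * m + 2) % 2 = 0 := by omega
  have h4 : 4 ≤ 2 * m + 2 := by omega
  have hloc := bnLocT (K := K) hn h4 hφφ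
  obtain ⟨N0, hN0E, hN0⟩ := exists_n0T (K := K) hn h4 φ
  have hfin : Finite (WSU (2 * m + 2) (RingHom.id K)) := finite_WSU
  have hT : ∀ x ∈ borT (2 * m + 2) φ, x ∈ torT (2 * m + 2) φ ↔ N0⁻¹ * x * N0 ∈ borT (2 * m + 2) φ := by
    intro x hx
    have h1 := mem_tor_iff_conjD hn h4 hN0 hN0E.1.1 x hx.1
    have h2 : N0⁻¹ * x * N0 ∈ twG (2 * m + 2) φ :=
      (twG _ φ).mul_mem ((twG _ φ).mul_mem ((twG _ φ).inv_mem hN0E.2) hx.2) hN0E.2
    constructor
    · intro h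
      exact ⟨h1.1 h.1, h2⟩
    · intro h
      exact ⟨h1.2 h.1, hx.2⟩
  refine ⟨hloc, ⟨sylo_dataLoc hloc p (XSt (2 * m + 2) φ) (YSt (2 * m + 2) φ) ?_ ?_ ?_ N0 hN0E ?_
    (torT (2 * m + 2) φ) (torT_le_borT φ) hT
    (unipT (2 * m + 2) φ) (unipT_le_borT φ) ?_ ?_ (card_borT hn φ) (not_dvd_card_torT p φ) ?_ ?_⟩⟩
  · intro s hs
    obtain ⟨i, rfl, hX, hY⟩ := XSt_YSt φ s hs
    rw [hX, hY]
    exact rankOne_T hn h4 hφφ i
  · intro s hs y hy
    obtain ⟨i, rfl, hX, hY⟩ := XSt_YSt φ s hs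
    rw [hY] at hy
    exact YT_mem_sup hn h4 hφφ i y hy
  · intro s hs
    obtain ⟨i, rfl, hX, hY⟩ := XSt_YSt φ s hs
    rw [hX]
    refine ⟨_, x1T_mem hn h4 i, ?_⟩
    intro e
    have h1 := conj_x1T_not_mem (K := K) hn h4 i
    rw [e, mul_one, mul_inv_cancel] at h1
    exact h1 (Subgroup.one_mem _)
  · intro s hs y hy
    obtain ⟨i, rfl, hX, hY⟩ := XSt_YSt φ s hs
    rw [hY] at hy
    exact conj_YT_mem hn h4 hφφ hN0E hN0 i y hy
  · intro b hb u hu
    exact conj_mem_unipT hb hu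
  · exact (unip_isPGroup (n := 2 * m + 2) (F := K) (φ := RingHom.id K) p).to_le
      (fun g hg => hg.1.1)
  · exact ⟨_, ⟨⟨0, by omega⟩, rfl⟩⟩
  · rintro _ ⟨i, rfl⟩
    have hxB := (rankOne_T (φ := φ) hn h4 hφφ i).X_sub _ (x1T_mem hn h4 i)
    have hxU : x1T (2 * m + 2) K i ∈ unipT (2 * m + 2) φ := by
      unfold x1T
      by_cases h : i.val + 2 < (2 * m + 2) / 2
      · rw [if_pos h]
        exact XT_short_mem hn h4 i h (map_one φ)
      · obtain ⟨hav, hcv, _, _, _, _⟩ := last_idx hn h4 i h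
        rw [if_neg h]
        have := xG_mem_unipT (φ := φ) hn h4 hφφ hav hcv 1
        unfold xG at this ⊢
        rw [map_one] at this
        exact this
    refine ⟨_, hxU, ?_⟩
    intro hcon
    exact conj_x1T_not_mem (K := K) hn h4 i hcon.1.1

/-- `NoPAut` for `PΩ⁻_{2m+2}(q)`, `m ≥ 3`, given the quadratic extension -/
theorem pominus_of_data {F K : Type*} [Field F] [Fintype F] [Field K] [Fintype K] (p : ℕ)
    [Fact p.Prime] [CharP F p] (m : ℕ) (hm : 3 ≤ m) (a b : F)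
    (hab : ∀ z₁ z₂ : F, z₁ ^ 2 + a * z₁ * z₂ + b * z₂ ^ 2 = 0 → z₁ = 0 ∧ z₂ = 0)
    (hs : IsSimpleGroup (Cfsg.POmega F (Cfsg.quadFormMinus m F a b)))
    (ι : F →+* K) (φ : K →+* K) (ω : K) (hφφ : ∀ x, φ (φ x) = x)
    (hfix : ∀ x, φ x = x ↔ x ∈ ι.range) (hω1 : ω + φ ω = - ι a) (hω2 : ω * φ ω = ι b)
    (hω3 : φ ω ≠ ω) :
    NoPAut p (Cfsg.POmega F (Cfsg.quadFormMinus m F a b)) := by
  classical
  have hp : p.Prime := Fact.out
  haveI : CharP K p := charP_of_injective_ringHom ι.injective p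
  have hm1 : 1 ≤ m := by omega
  obtain ⟨hloc, ⟨D⟩⟩ := pominus_data (K := K) p m hm1 φ hφφ
  have hfin : Finite (WSU (2 * m + 2) (RingHom.id K)) := finite_WSU
  have hHle : borT (2 * m + 2) φ ⊔ monT (2 * m + 2) φ ≤ gT (2 * m + 2) φ :=
    sup_le (borT_le_gT _ φ) (monT_le_gT _ φ)
  obtain ⟨j, hjinj, hjent, hjdet⟩ := exists_hom_minus m a b ι φ ω hφφ hfix hω1 hω2 hω3
  have hΩ : commutator (Cfsg.isometryGroup F (Cfsg.quadFormMinus m F a b)) ≤
      ((borT (2 * m + 2) φ ⊔ monT (2 * m + 2) φ).subgroupOf (gT (2 * m + 2) φ)).map j :=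
    Omega_le_map_minus m (by omega) a b hab ι φ ω hφφ hfix hω1 hω2 hω3 j hjent hjdet
  have hidx := not_dvd_index_minus p m hm1 a b hab ι φ hφφ hloc j hjinj hΩ
  let jH : ↥(borT (2 * m + 2) φ ⊔ monT (2 * m + 2) φ) →*
      Cfsg.isometryGroup F (Cfsg.quadFormMinus m F a b) :=
    j.comp (Subgroup.inclusion hHle)
  have hjHinj : Function.Injective jH := hjinj.comp (Subgroup.inclusion_injective hHle)
  have hrange : jH.range =
      ((borT (2 * m + 2) φ ⊔ monT (2 * m + 2) φ).subgroupOf (gT (2 * m + 2) φ)).map j := by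
    rw [MonoidHom.range_comp, Subgroup.inclusion_range]
  have hΩ' : Cfsg.Omega F (Cfsg.quadFormMinus m F a b) ≤ jH.range := by
    rw [hrange]; exact hΩ
  have hidx' : ¬ p ∣ ((Cfsg.Omega F (Cfsg.quadFormMinus m F a b)).comap jH).index := by
    rw [Subgroup.index_comap, hrange]
    exact hidx
  have hnormal : ((Cfsg.Omega F (Cfsg.quadFormMinus m F a b)).comap jH).Normal := inferInstance
  have hfinΩ : Finite ↥(Cfsg.Omega F (Cfsg.quadFormMinus m F a b)) :=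
    sylo_finite_of_le_range jH _ hΩ'
  exact sylo_chain p jH hjHinj (Cfsg.Omega F (Cfsg.quadFormMinus m F a b)) hΩ'
    (fin_sylOpp_of_data D)
    (fun h => @SylOpp.of_normal _ _ _ p _ _ hnormal hidx' h)
    (fun f hf hk h => SylOpp.of_surjective p f hf hk h)
    (fun f hf hk h => SylOpp.of_surjective p f hf hk h)
    (fun h => noPAut_of_sylOpp p h)

section families
variable {F : Type*} [Field F] [Fintype F] (p : ℕ) [Fact p.Prime] [CharP F p]

/-- FAMILY PA-POMINUS -/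
theorem noPAut_POmegaMinus (m : ℕ) (a b : F) (hm : 4 ≤ m)
    (hab : ∀ z₁ z₂ : F, z₁ ^ 2 + a * z₁ * z₂ + b * z₂ ^ 2 = 0 → z₁ = 0 ∧ z₂ = 0) :
    NoPAut p (POmega F (quadFormMinus (m - 1) F a b)) := by
  have hs : IsSimpleGroup (Cfsg.POmega F (Cfsg.quadFormMinus (m - 1) F a b)) :=
    Cfsg.Agent.S0297.result m hm a b hab
  obtain ⟨K, _, _, ι, φ, ω, hφφ, hfix, hω1, hω2, hω3⟩ := exists_quadExt a b hab
  exact pominus_of_data p (m - 1) (by omega) a b hab hs ι φ ω hφφ hfix hω1 hω2 hω3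

end families

end Cfsg.Agent.Helper28.PA
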