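import Mathlib
import Cfsg.Prelude
import Cfsg.Agent.Lib.Helper13.SylODefs
import Cfsg.Agent.Lib.Helper13.SpBN5

/-!
# S4613, piece SYLO-SP (helper13): the split (B, N)-pair data of `Sp_{2m}(q)`
-/

set_option autoImplicit false
set_option linter.unusedSectionVars false
set_option linter.unusedVariables false

namespace Cfsg.Agent.Helper13.SylO

open Matrix Cfsg.Agent.Helper6.SpN Cfsg.Agent.Helper25.SpRoot Cfsg.Agent.Helper25.SpM2
  Cfsg.Agent.Helper19.SpM1 Cfsg.Agent.Helper13.SpBN Cfsg.Agent.Helper28.SpBorel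
  Cfsg.Agent.Helper7.SpBNCard
  Cfsg.Agent.Helper2.WordLen Cfsg.Agent.Helper2.BN Cfsg.Agent.Helper17.BNCox

section sp
variable {m : ℕ} {F : Type*} [Field F]

theorem sp_inv_diag {g : symplecticGroup (Fin m) F} (hg : g ∈ bor m F) (a : Fin m ⊕ Fin m)
    (h1 : g.1 a a = 1) : (g⁻¹ : symplecticGroup (Fin m) F).1 a a = 1 := by
  have h := mul_apply_diag hg ((bor m F).inv_mem hg) a
  rw [mul_inv_cancel, val_one, Matrix.one_apply_eq, h1, one_mul] at h
  exact h.symm

/-- the unipotent radical of the upper triangular subgroup of `Sp_{2m}` -/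
def unipSp (m : ℕ) (F : Type*) [Field F] : Subgroup (symplecticGroup (Fin m) F) where
  carrier := {g | g ∈ bor m F ∧ ∀ i : Fin m, g.1 (Sum.inl i) (Sum.inl i) = 1}
  one_mem' := ⟨(bor m F).one_mem, fun i => by rw [val_one, Matrix.one_apply_eq]⟩
  mul_mem' := by
    rintro g h ⟨hg, hg1⟩ ⟨hh, hh1⟩
    refine ⟨(bor m F).mul_mem hg hh, fun i => ?_⟩
    rw [mul_apply_diag hg hh, hg1, hh1, mul_one]
  inv_mem' := by
    rintro g ⟨hg, hg1⟩
    exact ⟨(bor m F).inv_mem hg, fun i => sp_inv_diag hg _ (hg1 i)⟩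

theorem mem_unipSp_iff (g : symplecticGroup (Fin m) F) :
    g ∈ unipSp m F ↔ g ∈ bor m F ∧ ∀ i : Fin m, g.1 (Sum.inl i) (Sum.inl i) = 1 := Iff.rfl

theorem unipSp_le_bor : unipSp m F ≤ bor m F := fun _ h => h.1

theorem sp_conj_mem_unipSp {b u : symplecticGroup (Fin m) F} (hb : b ∈ bor m F)
    (hu : u ∈ unipSp m F) : b * u * b⁻¹ ∈ unipSp m F := by
  have hbi := (bor m F).inv_mem hb
  refine ⟨(bor m F).mul_mem ((bor m F).mul_mem hb hu.1) hbi, fun i => ?_⟩
  rw [mul_apply_diag ((bor m F).mul_mem hb hu.1) hbi, mul_apply_diag hb hu.1, hu.2, mul_one,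
    ← mul_apply_diag hb hbi, mul_inv_cancel, val_one, Matrix.one_apply_eq]

theorem sp_xr_mem_unipSp (i : Fin m) (t : F) : xr i t ∈ unipSp m F := by
  refine ⟨xr_mem_bor i t, fun j => ?_⟩
  rw [← mulVec_ev (xr i t).1 (Sum.inl j) (Sum.inl j)]
  unfold xr
  by_cases h : i.val + 1 < m
  · simp only [dif_pos h]
    by_cases hj : (Sum.inl j : Fin m ⊕ Fin m) = Sum.inl ⟨i.val + 1, h⟩
    · rw [hj, Tm_ev_b (short_ne h) inl_ne_ng_inl, Pi.add_apply, Pi.smul_apply, ev_self,
        ev_ne (short_ne h), smul_zero, add_zero]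
    · rw [Tm_ev_of_ne (short_ne h) inl_ne_ng_inl t hj (by intro e; cases e), ev_self]
  · simp only [dif_neg h]
    rw [Lm_ev_of_ne (Sum.inl i) t (by intro e; cases e), ev_self]

theorem sp_conj_xr_not_mem (i : Fin m) : sr i * xr i (1 : F) * (sr i)⁻¹ ∉ bor m F := by
  intro h2
  have h3 := h2 (rb i) (ra i) (by rw [key_ra, key_rb]; omega)
  rw [conj_apply (sr_isMon i), pr_inv, pr_rb, pr_ra, xr_apply_ra_rb, mul_one] at h3
  rcases mul_eq_zero.1 h3 with h4 | h4
  · have := (sr_isMon (F := F) i).apply_ne_zero (ra i)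
    rw [pr_ra] at this
    exact this h4
  · have := (sr_isMon (F := F) i).inv'.apply_ne_zero (ra i)
    rw [pr_inv, pr_ra] at this
    exact this h4

theorem sp_borelEquiv_fst [Finite F] (x : ↥(borel m F)) :
    (borelEquiv x).1 = 1 ↔ ∀ i : Fin m, (x : symplecticGroup (Fin m) F).1 (Sum.inl i) (Sum.inl i) = 1 := by
  constructor
  · intro h i
    have := congrFun h i
    have h2 := congrArg Units.val this
    exact h2
  · intro h
    funext i
    apply Units.ext
    exact h i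

noncomputable def sp_unipEquiv [Finite F] : ↥(unipSp m F) ≃ Matrix (Fin m) (Fin m) F where
  toFun u := (borelEquiv ⟨u.1, by rw [← bor_eq_borel]; exact u.2.1⟩).2
  invFun M := ⟨(borelEquiv.symm ((1 : Fin m → Fˣ), M)).1, by
    set x := borelEquiv.symm ((1 : Fin m → Fˣ), M) with hx
    refine ⟨by rw [bor_eq_borel]; exact x.2, ?_⟩
    apply (sp_borelEquiv_fst x).1
    rw [hx, Equiv.apply_symm_apply]⟩
  left_inv u := by
    apply Subtype.ext
    have h1 : (borelEquiv ⟨u.1, by rw [← bor_eq_borel]; exact u.2.1⟩).1 = 1 :=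
      (sp_borelEquiv_fst _).2 u.2.2
    have h2 : ((1 : Fin m → Fˣ), (borelEquiv ⟨u.1, by rw [← bor_eq_borel]; exact u.2.1⟩).2) =
        borelEquiv ⟨u.1, by rw [← bor_eq_borel]; exact u.2.1⟩ := by
      rw [← h1]
    show ((borelEquiv.symm ((1 : Fin m → Fˣ),
      (borelEquiv ⟨u.1, by rw [← bor_eq_borel]; exact u.2.1⟩).2)) : symplecticGroup (Fin m) F) = u.1
    rw [h2, Equiv.symm_apply_apply]
  right_inv M := by
    show (borelEquiv ⟨(borelEquiv.symm ((1 : Fin m → Fˣ), M)).1, _⟩).2 = M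
    have : (⟨(borelEquiv.symm ((1 : Fin m → Fˣ), M)).1, (borelEquiv.symm ((1 : Fin m → Fˣ), M)).2⟩ :
        ↥(borel m F)) = borelEquiv.symm ((1 : Fin m → Fˣ), M) := rfl
    rw [this, Equiv.apply_symm_apply]

theorem card_unipSp [Fintype F] : Nat.card ↥(unipSp m F) = Fintype.card F ^ (m ^ 2) := by
  rw [Nat.card_congr sp_unipEquiv, Matrix, Nat.card_fun, Nat.card_fun,
    Nat.card_eq_fintype_card (α := Fin m), Fintype.card_fin,
    Nat.card_eq_fintype_card (α := F), ← pow_mul, sq]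

end sp

/-- PIECE SYLO-SP. -/
theorem exists_spData (m : ℕ) (hm : 1 ≤ m) (F : Type*) [Field F] [Fintype F] (p : ℕ) [Fact p.Prime]
    [CharP F p] : Nonempty (Data (spBN m F) p) := by
  have hp : p.Prime := Fact.out
  obtain ⟨k, hk, hq⟩ := FiniteField.card F p
  have hq2 : 2 ≤ Fintype.card F := Fintype.one_lt_card
  refine ⟨{
    U := unipSp m F
    T := tor m F
    n₀ := n0 m F
    hUB := unipSp_le_bor
    hTB := tor_le_bor
    hUn := fun b hb u hu => sp_conj_mem_unipSp hb hu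
    hUp := ?_
    hcard := ?_
    hTp := ?_
    hS := ⟨sr ⟨0, by omega⟩, ⟨⟨0, by omega⟩, rfl⟩⟩
    hs := ?_
    hT := fun x hx => mem_tor_iff_conj x hx
    hn₀ := n0_allDesc }⟩
  · apply IsPGroup.of_card (n := (k : ℕ) * m ^ 2)
    rw [card_unipSp, hq, pow_mul]
  · show Nat.card ↥(bor m F) = _
    rw [card_bor, card_tor, card_unipSp, mul_comm]
  · rw [card_tor]
    intro h
    have h1 := hp.dvd_of_dvd_pow h
    have h2 : p ∣ Fintype.card F := by
      rw [hq]; exact dvd_pow_self p k.ne_zero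
    have h3 : p ∣ Fintype.card F - (Fintype.card F - 1) := Nat.dvd_sub h2 h1
    have h4 : Fintype.card F - (Fintype.card F - 1) = 1 := by omega
    rw [h4] at h3
    exact hp.one_lt.ne' (Nat.dvd_one.1 h3)
  · rintro _ ⟨i, rfl⟩
    exact ⟨xr i 1, sp_xr_mem_unipSp i 1, sp_conj_xr_not_mem i⟩

end Cfsg.Agent.Helper13.SylO
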