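import Mathlib
import Cfsg.Prelude.Def_LieTypeChar
import Cfsg.Agent.Lib.Helper28.PAQuot
import Cfsg.Agent.Lib.Helper13.SylOFinal
import Cfsg.Agent.Lib.Helper13.SylOSP
import Cfsg.Agent.Lib.Helper10.SylOT
import Cfsg.Agent.Lib.Helper22.SylOQUOT
import Cfsg.Agent.S0270

/-!
# S4613, family piece PA-PSP (helper13): `NoPAut p (PSp m F)` via the uniform (B, N)-pair route
-/

set_option autoImplicit false

namespace Cfsg.Agent.Helper28.PA

open Cfsg Cfsg.Lie

section families
variable {F : Type*} [Field F] [Fintype F] (p : ℕ) [Fact p.Prime] [CharP F p]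

/-- FAMILY PA-PSP -/
theorem noPAut_PSp (m : ℕ) (hm : 2 ≤ m) (h2 : m = 2 → 3 ≤ Fintype.card F) :
    NoPAut p (PSp m F) := by
  have hs : IsSimpleGroup (Cfsg.PSp m F) := Cfsg.Agent.S0270.result m hm h2
  have hfin : Finite (Matrix.symplecticGroup (Fin m) F) := Cfsg.Agent.Helper13.SpBN.finite_sp
  obtain ⟨D⟩ := Cfsg.Agent.Helper13.SylO.exists_spData m (by omega) F p
  have h1 : Cfsg.Agent.Helper13.SylO.SylOpp p (Matrix.symplecticGroup (Fin m) F) :=
    Cfsg.Agent.Helper13.SylO.fin_sylOpp_of_data D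
  have h3 : Cfsg.Agent.Helper13.SylO.SylOpp p (Cfsg.PSp m F) :=
    Cfsg.Agent.Helper13.SylO.SylOpp.of_surjective p
      (QuotientGroup.mk' (Subgroup.center (Matrix.symplecticGroup (Fin m) F)))
      (QuotientGroup.mk'_surjective _) (by rw [QuotientGroup.ker_mk']) h1
  exact Cfsg.Agent.Helper13.SylO.noPAut_of_sylOpp p h3

end families

end Cfsg.Agent.Helper28.PA
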