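import Mathlib

/-!
S2480 farm-out, PIECE PSLK-GRPFIX (pure finite group theory): the classes of `H ≅ ker δ`
(`δ : G →* Z`, `Z` abelian) satisfying a predicate are counted by an injective class invariant of `G`
together with cosets of subgroups of `Z`.  (Adapted from helper4's `SLkGRP.lean`.)
-/

set_option autoImplicit false

namespace Cfsg.Agent.Helper15.PSLk

/-- equality in a sigma type of quotients of `Z`: the second components differ by an element of `Γ` -/
theorem pslk_grpfix_heq_aux {Z T : Type*} [CommGroup Z] (Γ : T → Subgroup Z) (s : Finset T)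
    {u u' : {t // t ∈ s}} (h : u = u') (a b : Z)
    (hh : HEq (QuotientGroup.mk a : Z ⧸ Γ u.1) (QuotientGroup.mk b : Z ⧸ Γ u'.1)) :
    a⁻¹ * b ∈ Γ u.1 := by
  subst h
  exact QuotientGroup.eq.1 (eq_of_heq hh)

/-- every element is conjugate to the chosen representative of its class -/
theorem pslk_grpfix_exists_conj {G : Type*} [Group G] (x : G) :
    ∃ y : G, y * Quotient.out (ConjClasses.mk x) * y⁻¹ = x := by
  have h1 : ConjClasses.mk (Quotient.out (ConjClasses.mk x)) = ConjClasses.mk x :=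
    Quotient.out_eq _
  rw [ConjClasses.mk_eq_mk_iff_isConj, isConj_iff] at h1
  exact h1

/-- PIECE PSLK-GRPFIX: classes of `H ≅ ker δ` with a property `P` are counted by the class invariant
`tt` of `G` and cosets of `Γ`. -/
theorem card_fixed_classes_le {H G Z T : Type*} [Group H] [Finite H] [Group G] [Finite G]
    [CommGroup Z] [Finite Z] (j : H →* G) (hj : Function.Injective j) (δ : G →* Z)
    (hker : ∀ g : G, δ g = 1 → g ∈ j.range) (hδj : ∀ h : H, δ (j h) = 1)
    (tt : ConjClasses G → T) (htt : Function.Injective tt) (Γ : T → Subgroup Z)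
    (hΓ : ∀ c : ConjClasses G, ∀ d ∈ Γ (tt c),
      ∃ z : G, z * Quotient.out c = Quotient.out c * z ∧ δ z = d)
    (P : ConjClasses H → Prop) (s : Finset T)
    (hs : ∀ r : H, P (ConjClasses.mk r) → tt (ConjClasses.mk (j r)) ∈ s) :
    Nat.card {κ : ConjClasses H // P κ} ≤ ∑ t ∈ s, (Γ t).index := by
  classical
  choose yy hyy using (pslk_grpfix_exists_conj (G := G))
  have hPout : ∀ κ : {κ : ConjClasses H // P κ}, P (ConjClasses.mk (Quotient.out κ.1)) := by
    intro κ
    have : ConjClasses.mk (Quotient.out κ.1) = κ.1 := Quotient.out_eq κ.1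
    rw [this]
    exact κ.2
  let Φ : {κ : ConjClasses H // P κ} → Σ t : {t // t ∈ s}, Z ⧸ Γ t.1 := fun κ =>
    ⟨⟨tt (ConjClasses.mk (j (Quotient.out κ.1))), hs _ (hPout κ)⟩,
      QuotientGroup.mk (δ (yy (j (Quotient.out κ.1))))⟩
  have hinj : Function.Injective Φ := by
    intro κ κ' h
    have h1 : (Φ κ).1 = (Φ κ').1 := congrArg Sigma.fst h
    have h2 : HEq (Φ κ).2 (Φ κ').2 := (Sigma.ext_iff.1 h).2
    have hc : ConjClasses.mk (j (Quotient.out κ.1)) =
        ConjClasses.mk (j (Quotient.out κ'.1)) := htt (Subtype.ext_iff.1 h1)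
    have hmem := pslk_grpfix_heq_aux Γ s h1 _ _ h2
    obtain ⟨z, hz1, hz2⟩ := hΓ _ _ hmem
    have e1 := hyy (j (Quotient.out κ.1))
    have e2 := hyy (j (Quotient.out κ'.1))
    rw [← hc] at e2
    generalize hr : Quotient.out (ConjClasses.mk (j (Quotient.out κ.1))) = r at e1 e2 hz1
    generalize hy : yy (j (Quotient.out κ.1)) = y at e1 hz2
    generalize hy' : yy (j (Quotient.out κ'.1)) = y' at e2 hz2
    -- the conjugating element of the kernel
    have hw : δ (y' * z⁻¹ * y⁻¹) = 1 := by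
      rw [map_mul, map_mul, map_inv, map_inv, hz2]
      rw [mul_inv_rev, inv_inv]
      rw [mul_assoc, mul_assoc, mul_inv_cancel, mul_one, mul_inv_cancel]
    have hzr : z⁻¹ * r * z = r := by
      rw [mul_assoc, ← hz1, ← mul_assoc, inv_mul_cancel, one_mul]
    have hconj : (y' * z⁻¹ * y⁻¹) * j (Quotient.out κ.1) * (y' * z⁻¹ * y⁻¹)⁻¹ =
        j (Quotient.out κ'.1) := by
      rw [← e1, ← e2]
      have : (y' * z⁻¹ * y⁻¹) * (y * r * y⁻¹) * (y' * z⁻¹ * y⁻¹)⁻¹ =
          y' * (z⁻¹ * r * z) * y'⁻¹ := by group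
      rw [this, hzr]
    obtain ⟨w₀, hw₀⟩ := hker _ hw
    have hk : IsConj (Quotient.out κ.1) (Quotient.out κ'.1) := by
      rw [isConj_iff]
      refine ⟨w₀, ?_⟩
      apply hj
      rw [map_mul, map_mul, map_inv, hw₀]
      exact hconj
    have hk' := ConjClasses.mk_eq_mk_iff_isConj.2 hk
    have o1 : ConjClasses.mk (Quotient.out κ.1) = κ.1 := Quotient.out_eq κ.1
    have o2 : ConjClasses.mk (Quotient.out κ'.1) = κ'.1 := Quotient.out_eq κ'.1
    rw [o1, o2] at hk'
    exact Subtype.ext hk'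
  calc Nat.card {κ : ConjClasses H // P κ}
      ≤ Nat.card (Σ t : {t // t ∈ s}, Z ⧸ Γ t.1) := Nat.card_le_card_of_injective Φ hinj
    _ = ∑ t ∈ s, (Γ t).index := by
        rw [Nat.card_sigma]
        exact Finset.sum_coe_sort s (fun t => (Γ t).index)

end Cfsg.Agent.Helper15.PSLk
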