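import Mathlib
import Cfsg.Agent.Lib.Helper15.PSLkDefs

/-!
# S2480, piece PSLK-USR: `uconst` of scaled roots
-/

open Polynomial

namespace Cfsg.Agent.Helper15.PSLk

open Cfsg.Agent.Helper17.GLk Cfsg.Agent.Helper17.SLk

universe u

section pieces
variable {F : Type u} [Field F]

theorem uconst_scaleRoots (g : F[X]) (s : F) :
    uconst (scaleRoots g s) = s ^ g.natDegree * uconst g := by
  unfold uconst
  rw [natDegree_scaleRoots, coeff_scaleRoots, Nat.sub_zero]
  ring

theorem uconst_theta_entry (e : ℕ) (he : 1 ≤ e) (f g : F[X]) (hdeg : f.natDegree = e * g.natDegree)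
    (h0 : g.coeff 0 = f.coeff 0) :
    uconst (scaleRoots g ((-1) ^ (e - 1))) = uconst f := by
  rw [uconst_scaleRoots]
  unfold uconst
  rw [hdeg, h0, ← pow_mul, ← mul_assoc, ← pow_add]
  congr 2
  obtain ⟨k, rfl⟩ : ∃ k, e = k + 1 := ⟨e - 1, by omega⟩
  rw [Nat.add_sub_cancel]
  ring

end pieces

end Cfsg.Agent.Helper15.PSLk
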