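import Mathlib
import Cfsg.Agent.Lib.Helper13.SemisimpleCharpolyGL

set_option autoImplicit false
set_option linter.style.haveILetI false

namespace Cfsg.Agent.Helper13.ProjP

open Polynomial Cfsg.Agent.Helper13.SS

open scoped Classical

section roots
variable {K : Type*} [Field K] {r : ℕ} [NeZero r]

/-- the `r`-th roots of unity as powers of `ζ` -/
noncomputable def u (ζ : Kˣ) (j : ZMod r) : Kˣ := ζ ^ j.val

theorem u_add (ζ : Kˣ) (hζ : orderOf ζ = r) (j k : ZMod r) : u ζ (j + k) = u ζ j * u ζ k := by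
  unfold u
  rw [← pow_add, pow_eq_pow_iff_modEq, hζ, ZMod.val_add]
  exact Nat.mod_modEq _ _

theorem u_injective (ζ : Kˣ) (hζ : orderOf ζ = r) : Function.Injective (u (r := r) ζ) := by
  intro j k h
  unfold u at h
  rw [pow_eq_pow_iff_modEq, hζ] at h
  apply ZMod.val_injective
  exact Nat.ModEq.eq_of_lt_of_lt h (ZMod.val_lt j) (ZMod.val_lt k)

theorem u_pow (ζ : Kˣ) (hζ : orderOf ζ = r) (j : ZMod r) : u ζ j ^ r = 1 := by
  unfold u
  have h1 : ζ ^ r = 1 := by rw [← hζ]; exact pow_orderOf_eq_one ζ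
  rw [← pow_mul, mul_comm, pow_mul, h1, one_pow]

theorem exists_u (ζ : Kˣ) (hζ : orderOf ζ = r) (c : Kˣ) (hc : c ^ r = 1) :
    ∃ k : ZMod r, u ζ k = c := by
  have h1 : IsPrimitiveRoot ζ r := hζ ▸ IsPrimitiveRoot.orderOf ζ
  have h2 : IsPrimitiveRoot (ζ : K) r := IsPrimitiveRoot.coe_units_iff.2 h1
  have h3 : (c : K) ^ r = 1 := by rw [← Units.val_pow_eq_pow_val, hc, Units.val_one]
  obtain ⟨i, hi, hic⟩ := h2.eq_pow_of_pow_eq_one h3
  refine ⟨(i : ZMod r), ?_⟩
  apply Units.ext
  unfold u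
  rw [ZMod.val_natCast, Nat.mod_eq_of_lt hi, Units.val_pow_eq_pow_val, hic]

/-- the polynomial with prescribed root multiplicities -/
noncomputable def P (ζ : Kˣ) (a : ZMod r → ℕ) : K[X] :=
  ∏ j : ZMod r, (X - C ((u ζ j : Kˣ) : K)) ^ a j

theorem P_monic (ζ : Kˣ) (a : ZMod r → ℕ) : (P ζ a).Monic :=
  monic_prod_of_monic _ _ (fun j _ => (monic_X_sub_C _).pow _)

theorem P_natDegree (ζ : Kˣ) (a : ZMod r → ℕ) : (P ζ a).natDegree = ∑ j, a j := by
  unfold P
  rw [natDegree_prod_of_monic _ _ (fun j _ => (monic_X_sub_C _).pow _)]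
  apply Finset.sum_congr rfl
  intro j _
  rw [(monic_X_sub_C _).natDegree_pow, natDegree_X_sub_C, mul_one]

theorem P_count (ζ : Kˣ) (hζ : orderOf ζ = r) (a : ZMod r → ℕ) (k : ZMod r) :
    (P ζ a).roots.count ((u ζ k : Kˣ) : K) = a k := by
  unfold P
  rw [roots_prod _ _ (by
    rw [Finset.prod_ne_zero_iff]
    intro j _
    exact pow_ne_zero _ (X_sub_C_ne_zero _)), Multiset.count_bind]
  have h1 : ∀ j : ZMod r, Multiset.count ((u ζ k : Kˣ) : K)
      ((X - C ((u ζ j : Kˣ) : K)) ^ a j).roots = if j = k then a j else 0 := by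
    intro j
    rw [roots_pow, roots_X_sub_C, Multiset.count_nsmul, Multiset.count_singleton]
    by_cases hjk : j = k
    · subst hjk
      simp
    · rw [if_neg hjk, if_neg, mul_zero]
      intro h
      exact hjk (u_injective ζ hζ (Units.ext h)).symm
  simp only [h1]
  show (Finset.univ.sum fun j => if j = k then a j else 0) = a k
  rw [Finset.sum_ite_eq' Finset.univ k a, if_pos (Finset.mem_univ k)]

theorem P_injective (ζ : Kˣ) (hζ : orderOf ζ = r) (a b : ZMod r → ℕ) (h : P ζ a = P ζ b) :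
    a = b := by
  funext k
  rw [← P_count ζ hζ a k, ← P_count ζ hζ b k, h]

/-- the characteristic polynomial of a diagonal matrix with entries `r`-th roots of unity -/
theorem charpoly_diag {n : ℕ} (ζ : Kˣ) (d : Fin n → ZMod r) :
    (Matrix.diagonal (fun i => ((u ζ (d i) : Kˣ) : K))).charpoly =
      P ζ (fun j => (Finset.univ.filter (fun i => d i = j)).card) := by
  rw [Matrix.charpoly_diagonal]
  unfold P
  rw [← Finset.prod_fiberwise Finset.univ d (fun i => X - C ((u ζ (d i) : Kˣ) : K))]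
  apply Finset.prod_congr rfl
  intro j _
  rw [Finset.prod_congr rfl (fun i hi => by rw [(Finset.mem_filter.1 hi).2]), Finset.prod_const]

end roots

end Cfsg.Agent.Helper13.ProjP
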