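import Mathlib
import Cfsg.Agent.Lib.Helper13.SemisimpleCharpolyGL
import Cfsg.Agent.Lib.Helper13.ProjRoots

set_option autoImplicit false
set_option linter.style.haveILetI false

namespace Cfsg.Agent.Helper13.ProjP

open Polynomial Cfsg.Agent.Helper13.SS Module

open scoped Classical

section fiber

/-- a function with prescribed fibre cardinalities -/
theorem exists_fiber {ι : Type*} [Fintype ι] [DecidableEq ι] :
    ∀ (n : ℕ) (a : ι → ℕ), ∑ j, a j = n →
      ∃ d : Fin n → ι, ∀ j, (Finset.univ.filter (fun i => d i = j)).card = a j := by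
  intro n
  induction n with
  | zero =>
    intro a ha
    refine ⟨Fin.elim0, fun j => ?_⟩
    have h1 : a j = 0 := (Finset.sum_eq_zero_iff.1 ha) j (Finset.mem_univ j)
    rw [h1]
    simp
  | succ n ih =>
    intro a ha
    obtain ⟨j₀, hj₀⟩ : ∃ j₀, 0 < a j₀ := by
      by_contra hcon
      push Not at hcon
      have : ∑ j, a j = 0 := Finset.sum_eq_zero (fun j _ => Nat.le_zero.1 (hcon j))
      omega
    set a' : ι → ℕ := fun j => if j = j₀ then a j - 1 else a j with ha'
    have hsum : ∑ j, a' j = n := by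
      have h1 : ∑ j, a j = a j₀ + ∑ j ∈ Finset.univ.erase j₀, a j :=
        (Finset.add_sum_erase _ _ (Finset.mem_univ j₀)).symm
      have h2 : ∑ j, a' j = a' j₀ + ∑ j ∈ Finset.univ.erase j₀, a' j :=
        (Finset.add_sum_erase _ _ (Finset.mem_univ j₀)).symm
      have h3 : ∑ j ∈ Finset.univ.erase j₀, a' j = ∑ j ∈ Finset.univ.erase j₀, a j := by
        apply Finset.sum_congr rfl
        intro j hj
        simp only [ha', if_neg (Finset.ne_of_mem_erase hj)]
      have h4 : a' j₀ = a j₀ - 1 := by simp only [ha', if_true]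
      omega
    obtain ⟨d', hd'⟩ := ih a' hsum
    refine ⟨Fin.cons j₀ d', fun j => ?_⟩
    rw [Finset.card_filter, Fin.sum_univ_succ]
    simp only [Fin.cons_zero, Fin.cons_succ]
    rw [← Finset.card_filter, hd' j]
    by_cases hj : j = j₀
    · subst hj
      simp only [ha', if_true]
      omega
    · rw [if_neg (Ne.symm hj)]
      simp only [ha', if_neg hj]
      omega

end fiber

section scalar
variable {K : Type*} [Field K] {n r : ℕ}

/-- scalar elements of `GL_n(K)` -/
noncomputable abbrev sc (c : Kˣ) : GL (Fin n) K := Matrix.GeneralLinearGroup.scalar (Fin n) c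

theorem sc_val (c : Kˣ) :
    ((sc c : GL (Fin n) K) : Matrix (Fin n) (Fin n) K) = Matrix.diagonal (fun _ => (c : K)) := by
  rw [Matrix.GeneralLinearGroup.coe_scalar]
  rfl

theorem sc_injective (hn : 1 ≤ n) : Function.Injective (sc (K := K) (n := n)) := by
  intro c c' h
  have h1 := congrArg (fun g : GL (Fin n) K => (g : Matrix (Fin n) (Fin n) K) ⟨0, hn⟩ ⟨0, hn⟩) h
  simp only [sc_val, Matrix.diagonal_apply_eq] at h1
  exact Units.ext h1

theorem L_sc (c : Kˣ) : L (sc c : GL (Fin n) K) = (c : K) • (1 : Module.End K (Fin n → K)) := by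
  unfold L
  rw [sc_val, ← Matrix.smul_one_eq_diagonal, map_smul, Matrix.toLin'_one]
  rfl

theorem aeval_L_sub (g : GL (Fin n) K) (c : Kˣ) :
    aeval (L g) (X ^ r - C (c : K)) = L (g ^ r) - L (sc c) := by
  rw [map_sub, map_pow, aeval_X, aeval_C, L_pow, L_sc, Algebra.algebraMap_eq_smul_one]

theorem aeval_L_eq_zero_iff (g : GL (Fin n) K) (c : Kˣ) :
    aeval (L g) (X ^ r - C (c : K)) = 0 ↔ g ^ r = sc c := by
  rw [aeval_L_sub, sub_eq_zero]
  exact ⟨fun h => L_injective h, fun h => by rw [h]⟩

theorem kdim_of_killed (g : GL (Fin n) K) (f : K[X]) (h : aeval (L g) f = 0) :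
    kdim (L g) f = n := by
  unfold kdim
  rw [h, LinearMap.ker_zero, finrank_top, Module.finrank_fin_fun]

/-- elements killed by an irreducible polynomial `f`: the characteristic polynomial -/
theorem charpoly_of_killed_irr (g : GL (Fin n) K) (f : K[X]) (hf : Irreducible f) (hm : f.Monic)
    (h : aeval (L g) f = 0) :
    f.natDegree ∣ n ∧
      (g : Matrix (Fin n) (Fin n) K).charpoly = f ^ (n / f.natDegree) := by
  have h1 := dvd_kdim (L g) f hf
  rw [kdim_of_killed g f h] at h1
  refine ⟨h1, ?_⟩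
  have h2 := charpoly_eq_prod {f} (fun x hx => by rw [Finset.mem_singleton.1 hx]; exact hf)
    (fun x hx => by rw [Finset.mem_singleton.1 hx]; exact hm) (L g)
    (by rw [Finset.prod_singleton]; exact h)
  rw [Finset.prod_singleton, kdim_of_killed g f h, charpoly_L] at h2
  exact h2

end scalar

section unity
variable {K : Type*} [Field K] {n r : ℕ} [NeZero r]

theorem prod_X_sub_u (ζ : Kˣ) (hζ : orderOf ζ = r) :
    ∏ j : ZMod r, (X - C ((u ζ j : Kˣ) : K)) = X ^ r - 1 := by
  have hr : 0 < r := Nat.pos_of_ne_zero (NeZero.ne r)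
  have h1 : IsPrimitiveRoot ζ r := hζ ▸ IsPrimitiveRoot.orderOf ζ
  have h2 : IsPrimitiveRoot (ζ : K) r := IsPrimitiveRoot.coe_units_iff.2 h1
  rw [X_pow_sub_one_eq_prod hr h2]
  have himg : Finset.univ.image (fun j : ZMod r => ((u ζ j : Kˣ) : K)) =
      nthRootsFinset r (1 : K) := by
    apply Finset.eq_of_subset_of_card_le
    · intro x hx
      obtain ⟨j, -, rfl⟩ := Finset.mem_image.1 hx
      rw [mem_nthRootsFinset hr, ← Units.val_pow_eq_pow_val, u_pow ζ hζ j, Units.val_one]
    · rw [h2.card_nthRootsFinset, Finset.card_image_of_injective _ (fun j k h =>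
        u_injective ζ hζ (Units.ext h)), Finset.card_univ, ZMod.card]
  rw [← himg, Finset.prod_image (fun j _ k _ h => u_injective ζ hζ (Units.ext h))]

/-- elements of order dividing `r`: the characteristic polynomial -/
theorem charpoly_of_pow_eq_one (ζ : Kˣ) (hζ : orderOf ζ = r) (g : GL (Fin n) K) (hg : g ^ r = 1) :
    (g : Matrix (Fin n) (Fin n) K).charpoly =
      P ζ (fun j : ZMod r => kdim (L g) (X - C ((u ζ j : Kˣ) : K))) := by
  set S : Finset K[X] := Finset.univ.image (fun j : ZMod r => X - C ((u ζ j : Kˣ) : K)) with hS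
  have hinj : Function.Injective (fun j : ZMod r => (X - C ((u ζ j : Kˣ) : K) : K[X])) := by
    intro j k h
    have h1 : C ((u ζ j : Kˣ) : K) = C ((u ζ k : Kˣ) : K) := by
      have := sub_right_injective h
      exact this
    exact u_injective ζ hζ (Units.ext (C_injective h1))
  have hirr : ∀ f ∈ S, Irreducible f := by
    intro f hf
    obtain ⟨j, -, rfl⟩ := Finset.mem_image.1 hf
    exact irreducible_X_sub_C _
  have hmon : ∀ f ∈ S, f.Monic := by
    intro f hf
    obtain ⟨j, -, rfl⟩ := Finset.mem_image.1 hf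
    exact monic_X_sub_C _
  have hprod : ∏ f ∈ S, f = X ^ r - 1 := by
    rw [hS, Finset.prod_image (fun j _ k _ h => hinj h)]
    exact prod_X_sub_u ζ hζ
  have hkill : aeval (L g) (∏ f ∈ S, f) = 0 := by
    rw [hprod]
    exact (pow_eq_one_iff g r).1 hg
  have h2 := charpoly_eq_prod S hirr hmon (L g) hkill
  rw [charpoly_L, hS, Finset.prod_image (fun j _ k _ h => hinj h)] at h2
  rw [h2]
  unfold P
  apply Finset.prod_congr rfl
  intro j _
  rw [natDegree_X_sub_C, Nat.div_one]

end unity

end Cfsg.Agent.Helper13.ProjP
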