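import Mathlib

set_option autoImplicit false
set_option linter.style.haveILetI false

/-!
# Conjugacy classes of prime order in the quotient of a group by its centre
-/

namespace Cfsg.Agent.Helper13.ProjC

variable {G : Type*} [Group G]

theorem orderOf_mk_eq_prime_iff {r : ℕ} (hr : r.Prime) (g : G) :
    orderOf ((g : G ⧸ Subgroup.center G)) = r ↔
      g ∉ Subgroup.center G ∧ g ^ r ∈ Subgroup.center G := by
  haveI : Fact r.Prime := ⟨hr⟩
  constructor
  · intro h
    constructor
    · intro hg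
      have h1 : ((g : G ⧸ Subgroup.center G)) = 1 := (QuotientGroup.eq_one_iff g).2 hg
      rw [h1, orderOf_one] at h
      exact hr.one_lt.ne h
    · have h1 : ((g : G ⧸ Subgroup.center G)) ^ r = 1 := by
        rw [← h]
        exact pow_orderOf_eq_one _
      rw [← QuotientGroup.mk_pow] at h1
      exact (QuotientGroup.eq_one_iff _).1 h1
  · rintro ⟨h1, h2⟩
    apply orderOf_eq_prime
    · rw [← QuotientGroup.mk_pow]
      exact (QuotientGroup.eq_one_iff _).2 h2
    · intro h
      exact h1 ((QuotientGroup.eq_one_iff g).1 h)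

theorem mk_eq_mk_iff (g h : G) :
    ConjClasses.mk ((g : G ⧸ Subgroup.center G)) = ConjClasses.mk ((h : G ⧸ Subgroup.center G)) ↔
      ∃ x : G, ∃ z ∈ Subgroup.center G, h = z * (x * g * x⁻¹) := by
  rw [ConjClasses.mk_eq_mk_iff_isConj, isConj_iff]
  constructor
  · rintro ⟨c, hc⟩
    obtain ⟨x, rfl⟩ := QuotientGroup.mk_surjective c
    have h1 : ((x * g * x⁻¹ : G) : G ⧸ Subgroup.center G) = (h : G ⧸ Subgroup.center G) := by
      rw [QuotientGroup.mk_mul, QuotientGroup.mk_mul, QuotientGroup.mk_inv]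
      exact hc
    rw [QuotientGroup.eq] at h1
    refine ⟨x, (x * g * x⁻¹)⁻¹ * h, h1, ?_⟩
    rw [← (Subgroup.mem_center_iff.1 h1) (x * g * x⁻¹), mul_inv_cancel_left]
  · rintro ⟨x, z, hz, rfl⟩
    refine ⟨(x : G ⧸ Subgroup.center G), ?_⟩
    rw [QuotientGroup.mk_mul, (QuotientGroup.eq_one_iff z).2 hz, one_mul, QuotientGroup.mk_mul,
      QuotientGroup.mk_mul, QuotientGroup.mk_inv]

end Cfsg.Agent.Helper13.ProjC
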