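import Mathlib

set_option autoImplicit false
set_option linter.style.haveILetI false
set_option linter.unusedVariables false

/-!
# Rotation orbits on multiplicity tuples
-/

namespace Cfsg.Agent.Helper13.Rot

open scoped Classical

variable (r n : ℕ) [NeZero r]

/-- tuples of multiplicities summing to `n` with every entry `< n` -/
abbrev Tup : Type := {a : ZMod r → ℕ // ∑ j, a j = n ∧ ∀ j, a j < n}

/-- all tuples of multiplicities summing to `n` -/
abbrev All : Type := {a : ZMod r → ℕ // ∑ j, a j = n}

variable {r n}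

theorem Tup.ext {a b : Tup r n} (h : ∀ j, a.1 j = b.1 j) : a = b :=
  Subtype.ext (funext h)

theorem sum_shift (a : ZMod r → ℕ) (k : ZMod r) : ∑ j, a (j - k) = ∑ j, a j :=
  Fintype.sum_equiv (Equiv.subRight k) _ _ (fun _ => rfl)

/-- the rotation -/
def shift (k : ZMod r) (a : Tup r n) : Tup r n :=
  ⟨fun j => a.1 (j - k), by rw [sum_shift]; exact a.2.1, fun j => a.2.2 _⟩

@[simp] theorem shift_apply (k : ZMod r) (a : Tup r n) (j : ZMod r) :
    (shift k a).1 j = a.1 (j - k) := rfl

instance : MulAction (Multiplicative (ZMod r)) (Tup r n) where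
  smul k a := shift k.toAdd a
  one_smul a := by
    apply Tup.ext
    intro j
    show a.1 (j - 0) = a.1 j
    rw [sub_zero]
  mul_smul k l a := by
    apply Tup.ext
    intro j
    show a.1 (j - (k.toAdd + l.toAdd)) = a.1 (j - k.toAdd - l.toAdd)
    rw [sub_sub, add_comm]

theorem smul_def (k : Multiplicative (ZMod r)) (a : Tup r n) : k • a = shift k.toAdd a := rfl

instance : Finite (All r n) := by
  have : Function.Injective (fun a : All r n => fun j => (⟨a.1 j, by
      have h1 : a.1 j ≤ ∑ i, a.1 i :=
        Finset.single_le_sum (f := a.1) (fun _ _ => Nat.zero_le _) (Finset.mem_univ j)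
      have := a.2
      omega⟩ : Fin (n + 1))) := by
    intro a b hab
    apply Subtype.ext
    funext j
    have := congrFun hab j
    simpa using congrArg Fin.val this
  exact Finite.of_injective _ this

instance : Finite (Tup r n) := by
  have : Function.Injective (fun a : Tup r n => (⟨a.1, a.2.1⟩ : All r n)) := by
    intro a b hab
    apply Subtype.ext
    exact congrArg (fun x : All r n => x.1) hab
  exact Finite.of_injective _ this

theorem card_all : Nat.card (All r n) = Nat.choose (n + r - 1) (r - 1) := by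
  have hr : 1 ≤ r := Nat.one_le_iff_ne_zero.2 (NeZero.ne r)
  rw [← Nat.card_congr (Sym.equivNatSumOfFintype (ZMod r) n), Nat.card_eq_fintype_card,
    Sym.card_sym_eq_choose, ZMod.card]
  have h1 : r + n - 1 = n + r - 1 := by omega
  rw [h1]
  have h2 : n + r - 1 = n + (r - 1) := by omega
  rw [h2, Nat.choose_symm_add]

/-- concentrated tuples -/
def conc (hn : 1 ≤ n) (j : ZMod r) : {a : All r n // ¬ ∀ i, a.1 i < n} :=
  ⟨⟨Pi.single j n, by rw [Finset.sum_pi_single']; simp⟩, by
    intro h
    have := h j
    simp only [Pi.single_eq_same] at this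
    omega⟩

theorem conc_bijective (hn : 1 ≤ n) : Function.Bijective (conc (r := r) (n := n) hn) := by
  constructor
  · intro j j' h
    have h1 : (Pi.single j n : ZMod r → ℕ) = Pi.single j' n := congrArg (fun a => a.1.1) h
    by_contra hne
    have h2 := congrFun h1 j
    rw [Pi.single_eq_same, Pi.single_eq_of_ne hne] at h2
    omega
  · rintro ⟨a, ha⟩
    obtain ⟨j, hj⟩ := not_forall.1 ha
    refine ⟨j, ?_⟩
    apply Subtype.ext
    apply Subtype.ext
    funext i
    show (Pi.single j n : ZMod r → ℕ) i = a.1 i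
    have hsum := a.2
    have h1 : a.1 j + ∑ i ∈ Finset.univ.erase j, a.1 i = n := by
      rw [Finset.add_sum_erase _ _ (Finset.mem_univ j)]
      exact hsum
    have h2 : a.1 j = n := by omega
    have h3 : ∑ i ∈ Finset.univ.erase j, a.1 i = 0 := by omega
    by_cases hij : i = j
    · subst hij
      rw [Pi.single_eq_same, h2]
    · rw [Pi.single_eq_of_ne hij]
      have := (Finset.sum_eq_zero_iff.1 h3) i (Finset.mem_erase.2 ⟨hij, Finset.mem_univ i⟩)
      exact this.symm

theorem card_tup_add (hn : 1 ≤ n) : Nat.card (Tup r n) + r = Nat.choose (n + r - 1) (r - 1) := by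
  rw [← card_all (r := r) (n := n)]
  have e1 : {a : All r n // ∀ i, a.1 i < n} ≃ Tup r n :=
    Equiv.subtypeSubtypeEquivSubtypeInter (fun a : ZMod r → ℕ => ∑ j, a j = n)
      (fun a : ZMod r → ℕ => ∀ j, a j < n)
  have e2 : ZMod r ≃ {a : All r n // ¬ ∀ i, a.1 i < n} := Equiv.ofBijective _ (conc_bijective hn)
  have e := (Equiv.sumCompl (fun a : All r n => ∀ i, a.1 i < n)).symm.trans
    (Equiv.sumCongr e1 e2.symm)
  rw [Nat.card_congr e, Nat.card_sum, Nat.card_eq_fintype_card (α := ZMod r), ZMod.card]


theorem const_of_fixed (hr : r.Prime) (k : ZMod r) (hk : k ≠ 0) (a : Tup r n)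
    (ha : shift k a = a) (i j : ZMod r) : a.1 i = a.1 j := by
  haveI : Fact r.Prime := ⟨hr⟩
  have h1 : ∀ j, a.1 (j - k) = a.1 j := fun j => congrArg (fun b : Tup r n => b.1 j) ha
  have h2 : ∀ (m : ℕ) (j : ZMod r), a.1 (j - m • k) = a.1 j := by
    intro m
    induction m with
    | zero => intro j; rw [zero_smul, sub_zero]
    | succ m ih =>
      intro j
      rw [succ_nsmul, ← sub_sub, h1, ih]
  have h3 : (((j - i) * k⁻¹).val) • k = j - i := by
    rw [nsmul_eq_mul, ZMod.natCast_zmod_val, mul_assoc, inv_mul_cancel₀ hk, mul_one]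
  have h4 := h2 (((j - i) * k⁻¹).val) j
  rw [h3, sub_sub_cancel] at h4
  exact h4

theorem card_fixedBy (hr : r.Prime) (hn : 1 ≤ n) (k : Multiplicative (ZMod r)) (hk : k ≠ 1) :
    Nat.card (MulAction.fixedBy (Tup r n) k) = if r ∣ n then 1 else 0 := by
  have hk0 : k.toAdd ≠ 0 := fun h => hk (by
    have : k = Multiplicative.ofAdd (0 : ZMod r) := by rw [← h]; rfl
    rw [this]; rfl)
  have hr2 := hr.two_le
  split_ifs with hdvd
  · obtain ⟨c, hc⟩ := hdvd
    have hc1 : 1 ≤ c := by
      rcases Nat.eq_zero_or_pos c with h | h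
      · subst h; omega
      · exact h
    have hcn : c < n := by
      rw [hc]
      calc c = 1 * c := (one_mul c).symm
        _ < r * c := Nat.mul_lt_mul_of_pos_right (by omega) hc1
    set a₀ : Tup r n := ⟨fun _ => c, by
      rw [Finset.sum_const, Finset.card_univ, ZMod.card, smul_eq_mul, hc], fun _ => hcn⟩ with ha₀
    have hmem : a₀ ∈ MulAction.fixedBy (Tup r n) k := by
      rw [MulAction.mem_fixedBy]
      apply Tup.ext
      intro j
      rfl
    have huniq : ∀ a ∈ MulAction.fixedBy (Tup r n) k, a = a₀ := by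
      intro a ha
      rw [MulAction.mem_fixedBy, smul_def] at ha
      have hconst := const_of_fixed hr _ hk0 a ha
      apply Tup.ext
      intro j
      show a.1 j = c
      have hsum := a.2.1
      have h1 : ∑ i : ZMod r, a.1 i = ∑ _i : ZMod r, a.1 j :=
        Finset.sum_congr rfl (fun i _ => hconst i j)
      rw [h1, Finset.sum_const, Finset.card_univ, ZMod.card, smul_eq_mul] at hsum
      have hsum' : r * a.1 j = r * c := hsum.trans hc
      exact Nat.eq_of_mul_eq_mul_left (by omega) hsum'
    have : MulAction.fixedBy (Tup r n) k = {a₀} := by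
      ext a
      rw [Set.mem_singleton_iff]
      exact ⟨huniq a, fun h => h ▸ hmem⟩
    rw [this]
    simp
  · have : MulAction.fixedBy (Tup r n) k = ∅ := by
      ext a
      simp only [Set.mem_empty_iff_false, iff_false]
      intro ha
      rw [MulAction.mem_fixedBy, smul_def] at ha
      have hconst := const_of_fixed hr _ hk0 a ha
      have hsum := a.2.1
      have h1 : ∑ i : ZMod r, a.1 i = ∑ _i : ZMod r, a.1 0 :=
        Finset.sum_congr rfl (fun i _ => hconst i 0)
      rw [h1, Finset.sum_const, Finset.card_univ, ZMod.card, smul_eq_mul] at hsum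
      exact hdvd ⟨_, hsum.symm⟩
    rw [this]
    simp

theorem card_fixedBy_one : Nat.card (MulAction.fixedBy (Tup r n) (1 : Multiplicative (ZMod r))) =
    Nat.card (Tup r n) := by
  have : MulAction.fixedBy (Tup r n) (1 : Multiplicative (ZMod r)) = Set.univ := by
    ext a
    simp
  rw [this]
  exact Nat.card_congr (Equiv.Set.univ _)

/-- Burnside count of the rotation orbits -/
theorem card_orbits (hr : r.Prime) (hn : 1 ≤ n) :
    Nat.card (MulAction.orbitRel.Quotient (Multiplicative (ZMod r)) (Tup r n)) =
      (Nat.choose (n + r - 1) (r - 1) - r - (if r ∣ n then 1 else 0)) / r +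
        (if r ∣ n then 1 else 0) := by
  have hr2 := hr.two_le
  letI : Fintype (Tup r n) := Fintype.ofFinite _
  letI : ∀ k : Multiplicative (ZMod r), Fintype (MulAction.fixedBy (Tup r n) k) :=
    fun k => Fintype.ofFinite _
  letI : Fintype (MulAction.orbitRel.Quotient (Multiplicative (ZMod r)) (Tup r n)) :=
    Fintype.ofFinite _
  have hB := MulAction.sum_card_fixedBy_eq_card_orbits_mul_card_group
    (Multiplicative (ZMod r)) (Tup r n)
  have hcardG : Fintype.card (Multiplicative (ZMod r)) = r := by
    rw [Fintype.card_multiplicative, ZMod.card]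
  rw [hcardG] at hB
  simp only [← Nat.card_eq_fintype_card] at hB
  rw [← Finset.add_sum_erase _ _ (Finset.mem_univ (1 : Multiplicative (ZMod r))),
    card_fixedBy_one] at hB
  have h2 : ∑ k ∈ Finset.univ.erase (1 : Multiplicative (ZMod r)),
      Nat.card (MulAction.fixedBy (Tup r n) k) = (r - 1) * (if r ∣ n then 1 else 0) := by
    rw [Finset.sum_congr rfl (fun k hk => card_fixedBy hr hn k (Finset.ne_of_mem_erase hk)),
      Finset.sum_const, Finset.card_erase_of_mem (Finset.mem_univ _), Finset.card_univ, hcardG,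
      smul_eq_mul]
  rw [h2] at hB
  have hT := card_tup_add (r := r) (n := n) hn
  set Ω := Nat.card (MulAction.orbitRel.Quotient (Multiplicative (ZMod r)) (Tup r n)) with hΩ
  set T := Nat.card (Tup r n) with hTdef
  rw [← hT]
  have h3 : T + r - r = T := by omega
  rw [h3]
  split_ifs with hdvd
  · rw [if_pos hdvd, mul_one] at hB
    -- `T + (r - 1) = Ω * r`
    have hΩ1 : 1 ≤ Ω := by
      rcases Nat.eq_zero_or_pos Ω with h | h
      · rw [h, zero_mul] at hB
        omega
      · exact h
    have h4 : T - 1 = r * (Ω - 1) := by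
      have : r * (Ω - 1) = Ω * r - r := by
        rw [Nat.mul_sub, mul_one, mul_comm]
      rw [this, ← hB]
      omega
    rw [h4, Nat.mul_div_cancel_left _ (by omega : 0 < r)]
    omega
  · rw [if_neg hdvd, mul_zero, add_zero] at hB
    rw [Nat.sub_zero, hB, Nat.mul_div_cancel _ (by omega : 0 < r), add_zero]

end Cfsg.Agent.Helper13.Rot
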