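import Mathlib
import Cfsg.Agent.Lib.Helper13.ProjAux
import Cfsg.Agent.Lib.Helper13.ProjClasses
import Cfsg.Agent.Lib.Helper13.RotOrbits

set_option autoImplicit false
set_option linter.style.haveILetI false
set_option linter.unusedSectionVars false

namespace Cfsg.Agent.Helper13.ProjP

open Polynomial Cfsg.Agent.Helper13.SS Module Cfsg.Agent.Helper13.Rot Cfsg.Agent.Helper13.ProjC

open scoped Classical

variable {K : Type*} [Field K] [Fintype K] {n r : ℕ} {G : Type*} [Group G]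

/-- the hypotheses on a matrix group `G ≤ GL_n(K)` with scalars `A` -/
structure Setup (ι : G →* GL (Fin n) K) (A : Subgroup Kˣ) (r : ℕ) : Prop where
  inj : Function.Injective ι
  center : ∀ g : G, g ∈ Subgroup.center G ↔ ∃ c ∈ A, ι g = sc c
  diag : ∀ d : Fin n → Kˣ, (∀ i, d i ∈ A) → ∃ g : G,
    ((ι g : GL (Fin n) K) : Matrix (Fin n) (Fin n) K) = Matrix.diagonal (fun i => (d i : K))
  conj : ∀ (g h : G) (M : ℕ), 1 ≤ M → (M : K) ≠ 0 → g ^ M = 1 → h ^ M = 1 →
    ((ι g : GL (Fin n) K) : Matrix (Fin n) (Fin n) K).charpoly =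
      ((ι h : GL (Fin n) K) : Matrix (Fin n) (Fin n) K).charpoly → IsConj g h
  irr : ∀ c ∈ A, (∀ b ∈ A, b ^ r ≠ c) → ∀ b : K, b ^ r ≠ (c : K)
  exB : r ∣ n → ∀ c ∈ A, (∀ b ∈ A, b ^ r ≠ c) → ∃ g : G, ι g ^ r = sc c

variable {ι : G →* GL (Fin n) K} {A : Subgroup Kˣ}

namespace Setup

theorem exists_central (S : Setup ι A r) (c : Kˣ) (hc : c ∈ A) :
    ∃ z : G, z ∈ Subgroup.center G ∧ ι z = sc c := by
  obtain ⟨z, hz⟩ := S.diag (fun _ => c) (fun _ => hc)
  have h1 : ι z = sc c := by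
    apply Units.ext
    rw [hz, sc_val]
  exact ⟨z, (S.center z).2 ⟨c, hc, h1⟩, h1⟩

theorem pow_eq_one_of (S : Setup ι A r) (g : G) (m : ℕ) (h : ι g ^ m = 1) : g ^ m = 1 := by
  apply S.inj
  rw [map_pow, map_one, h]

/-- elements whose `r`-th power is central have order prime to the characteristic -/
theorem pow_card (S : Setup ι A r) (g : G) (c : Kˣ) (h : ι g ^ r = sc c) :
    g ^ (r * (Fintype.card K - 1)) = 1 := by
  apply S.pow_eq_one_of
  rw [pow_mul, h, ← map_pow]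
  have : c ^ (Fintype.card K - 1) = 1 := by
    rw [← Fintype.card_units]
    exact pow_card_eq_one
  rw [this, map_one]

theorem cast_ne_zero (hrK : (r : K) ≠ 0) : ((r * (Fintype.card K - 1) : ℕ) : K) ≠ 0 := by
  have h1 : 1 ≤ Fintype.card K := Fintype.card_pos
  rw [Nat.cast_mul, Nat.cast_sub h1, FiniteField.cast_card_eq_zero, zero_sub, Nat.cast_one]
  exact mul_ne_zero hrK (neg_ne_zero.2 one_ne_zero)

theorem one_le_M (hr : r.Prime) : 1 ≤ r * (Fintype.card K - 1) := by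
  have h1 : 2 ≤ Fintype.card K := Fintype.one_lt_card
  have h2 := hr.two_le
  have : 1 * 1 ≤ r * (Fintype.card K - 1) := Nat.mul_le_mul (by omega) (by omega)
  omega

/-- two elements with the same central `r`-th power and the same characteristic polynomial
are conjugate -/
theorem isConj_of (S : Setup ι A r) (hr : r.Prime) (hrK : (r : K) ≠ 0) (g h : G) (c c' : Kˣ)
    (hg : ι g ^ r = sc c) (hh : ι h ^ r = sc c')
    (hc : ((ι g : GL (Fin n) K) : Matrix (Fin n) (Fin n) K).charpoly =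
      ((ι h : GL (Fin n) K) : Matrix (Fin n) (Fin n) K).charpoly) : IsConj g h :=
  S.conj g h _ (one_le_M hr) (cast_ne_zero hrK) (S.pow_card g c hg) (S.pow_card h c' hh) hc

theorem mk_central_mul (z g : G) (hz : z ∈ Subgroup.center G) :
    ((z * g : G) : G ⧸ Subgroup.center G) = (g : G ⧸ Subgroup.center G) := by
  rw [QuotientGroup.mk_mul, (QuotientGroup.eq_one_iff z).2 hz, one_mul]

theorem mk_eq_of_isConj {g h : G} (hgh : IsConj g h) :
    ConjClasses.mk ((g : G ⧸ Subgroup.center G)) = ConjClasses.mk ((h : G ⧸ Subgroup.center G)) := by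
  rw [ConjClasses.mk_eq_mk_iff_isConj]
  exact (QuotientGroup.mk' (Subgroup.center G)).map_isConj hgh

theorem charpoly_conj (x y : GL (Fin n) K) :
    ((x * y * x⁻¹ : GL (Fin n) K) : Matrix (Fin n) (Fin n) K).charpoly =
      (y : Matrix (Fin n) (Fin n) K).charpoly := by
  rw [Units.val_mul, Units.val_mul, Matrix.coe_units_inv]
  exact Matrix.charpoly_units_conj x _

theorem charpoly_sc (c : Kˣ) :
    ((sc c : GL (Fin n) K) : Matrix (Fin n) (Fin n) K).charpoly = (X - C (c : K)) ^ n := by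
  rw [sc_val, Matrix.charpoly_diagonal, Finset.prod_const, Finset.card_univ, Fintype.card_fin]

section typeA
variable [NeZero r]

theorem u_mem (ζ : Kˣ) (hζA : ζ ∈ A) (j : ZMod r) : u ζ j ∈ A := Subgroup.pow_mem A hζA _

/-- diagonal representatives -/
theorem exists_repA (S : Setup ι A r) (ζ : Kˣ) (hζA : ζ ∈ A) (a : ZMod r → ℕ)
    (ha : ∑ j, a j = n) :
    ∃ g : G, ∃ d : Fin n → ZMod r,
      (∀ j, (Finset.univ.filter (fun i => d i = j)).card = a j) ∧
      ((ι g : GL (Fin n) K) : Matrix (Fin n) (Fin n) K) =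
        Matrix.diagonal (fun i => ((u ζ (d i) : Kˣ) : K)) := by
  obtain ⟨d, hd⟩ := exists_fiber n a ha
  obtain ⟨g, hg⟩ := S.diag (fun i => u ζ (d i)) (fun i => u_mem ζ hζA _)
  exact ⟨g, d, hd, hg⟩

theorem diag_pow (S : Setup ι A r) (ζ : Kˣ) (hζ : orderOf ζ = r) (g : G) (d : Fin n → ZMod r)
    (hg : ((ι g : GL (Fin n) K) : Matrix (Fin n) (Fin n) K) =
        Matrix.diagonal (fun i => ((u ζ (d i) : Kˣ) : K))) : g ^ r = 1 := by
  apply S.pow_eq_one_of
  apply Units.ext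
  rw [Units.val_pow_eq_pow_val, hg, Matrix.diagonal_pow, Units.val_one, ← Matrix.diagonal_one]
  congr 1
  funext i
  show ((u ζ (d i) : Kˣ) : K) ^ r = 1
  rw [← Units.val_pow_eq_pow_val, u_pow ζ hζ, Units.val_one]

theorem central_pow (S : Setup ι A r) (ζ : Kˣ) (hζ : orderOf ζ = r) (z : G) (k : ZMod r)
    (hz : ι z = sc (u ζ k)) : z ^ r = 1 := by
  apply S.pow_eq_one_of
  rw [hz, ← map_pow, u_pow ζ hζ, map_one]

theorem charpoly_central_mul_diag (ζ : Kˣ) (hζ : orderOf ζ = r) (g z : G)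
    (d : Fin n → ZMod r) (k : ZMod r)
    (hg : ((ι g : GL (Fin n) K) : Matrix (Fin n) (Fin n) K) =
        Matrix.diagonal (fun i => ((u ζ (d i) : Kˣ) : K))) (hz : ι z = sc (u ζ k)) :
    ((ι (z * g) : GL (Fin n) K) : Matrix (Fin n) (Fin n) K).charpoly =
      P ζ (fun j => (Finset.univ.filter (fun i => d i = j - k)).card) := by
  have h1 : ((ι (z * g) : GL (Fin n) K) : Matrix (Fin n) (Fin n) K) =
      Matrix.diagonal (fun i => ((u ζ (k + d i) : Kˣ) : K)) := by
    rw [map_mul, Units.val_mul, hg, hz, sc_val, Matrix.diagonal_mul_diagonal]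
    congr 1
    funext i
    rw [u_add ζ hζ, Units.val_mul]
  rw [h1, charpoly_diag]
  congr 1
  funext j
  congr 1
  ext i
  simp only [Finset.mem_filter, Finset.mem_univ, true_and]
  exact ⟨fun h => by rw [← h]; ring, fun h => by rw [h]; ring⟩

/-- the chosen representative -/
noncomputable def repA (S : Setup ι A r) (ζ : Kˣ) (hζA : ζ ∈ A) (a : Tup r n) : G :=
  Classical.choose (S.exists_repA ζ hζA a.1 a.2.1)

theorem repA_spec (S : Setup ι A r) (ζ : Kˣ) (hζA : ζ ∈ A) (a : Tup r n) :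
    ∃ d : Fin n → ZMod r,
      (∀ j, (Finset.univ.filter (fun i => d i = j)).card = a.1 j) ∧
      ((ι (S.repA ζ hζA a) : GL (Fin n) K) : Matrix (Fin n) (Fin n) K) =
        Matrix.diagonal (fun i => ((u ζ (d i) : Kˣ) : K)) :=
  Classical.choose_spec (S.exists_repA ζ hζA a.1 a.2.1)

theorem repA_pow (S : Setup ι A r) (ζ : Kˣ) (hζ : orderOf ζ = r) (hζA : ζ ∈ A) (a : Tup r n) :
    S.repA ζ hζA a ^ r = 1 := by
  obtain ⟨d, -, hg⟩ := S.repA_spec ζ hζA a
  exact S.diag_pow ζ hζ _ d hg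

theorem repA_charpoly (S : Setup ι A r) (ζ : Kˣ) (hζA : ζ ∈ A) (a : Tup r n) :
    ((ι (S.repA ζ hζA a) : GL (Fin n) K) : Matrix (Fin n) (Fin n) K).charpoly = P ζ a.1 := by
  obtain ⟨d, hd, hg⟩ := S.repA_spec ζ hζA a
  rw [hg, charpoly_diag]
  congr 1
  funext j
  exact hd j

theorem repA_not_central (S : Setup ι A r) (ζ : Kˣ) (hζ : orderOf ζ = r) (hζA : ζ ∈ A)
    (hn : 1 ≤ n) (a : Tup r n) : S.repA ζ hζA a ∉ Subgroup.center G := by
  intro hmem
  obtain ⟨d, hd, hg⟩ := S.repA_spec ζ hζA a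
  obtain ⟨c, -, hc⟩ := (S.center _).1 hmem
  rw [hc, sc_val] at hg
  have h1 := Matrix.diagonal_injective hg
  set i₀ : Fin n := ⟨0, hn⟩
  have h2 : ∀ i, d i = d i₀ := by
    intro i
    have e1 := congrFun h1 i
    have e2 := congrFun h1 i₀
    exact u_injective ζ hζ (Units.ext (e1.symm.trans e2))
  have h3 := hd (d i₀)
  have h4 : Finset.univ.filter (fun i => d i = d i₀) = Finset.univ := by
    ext i
    simp [h2 i]
  rw [h4, Finset.card_univ, Fintype.card_fin] at h3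
  have := a.2.2 (d i₀)
  omega

theorem classA_eq_iff (S : Setup ι A r) (hr : r.Prime) (hrK : (r : K) ≠ 0) (ζ : Kˣ)
    (hζ : orderOf ζ = r) (hζA : ζ ∈ A) (hn : 1 ≤ n) (a b : Tup r n) :
    ConjClasses.mk ((S.repA ζ hζA a : G) : G ⧸ Subgroup.center G) =
      ConjClasses.mk ((S.repA ζ hζA b : G) : G ⧸ Subgroup.center G) ↔
      ∃ k : ZMod r, shift k b = a := by
  have hr1 : 1 ≤ r := hr.one_lt.le
  constructor
  · intro h
    obtain ⟨x, z, hz, hxz⟩ := (mk_eq_mk_iff _ _).1 h.symm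
    obtain ⟨c, hcA, hc⟩ := (S.center z).1 hz
    -- `z ^ r = 1`
    have hzr : z ^ r = 1 := by
      have h1 : S.repA ζ hζA a ^ r = z ^ r * (x * S.repA ζ hζA b * x⁻¹) ^ r := by
        rw [hxz]
        exact (show Commute z _ from (Subgroup.mem_center_iff.1 hz _).symm).mul_pow r
      rw [S.repA_pow ζ hζ hζA a, conj_pow, S.repA_pow ζ hζ hζA b, mul_one, mul_inv_cancel,
        mul_one] at h1
      exact h1.symm
    have hcr : c ^ r = 1 := by
      have h1 : ι z ^ r = 1 := by rw [← map_pow, hzr, map_one]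
      rw [hc, ← map_pow] at h1
      exact sc_injective hn (h1.trans (map_one _).symm)
    obtain ⟨k, hk⟩ := exists_u ζ hζ c hcr
    refine ⟨k, ?_⟩
    obtain ⟨d, hd, hg⟩ := S.repA_spec ζ hζA b
    have h2 : S.repA ζ hζA a = x * (z * S.repA ζ hζA b) * x⁻¹ := by
      have hcomm : x * z = z * x := Subgroup.mem_center_iff.1 hz x
      rw [hxz]
      simp only [mul_assoc]
      rw [← mul_assoc z x, ← hcomm, mul_assoc]
    have h3 := S.repA_charpoly ζ hζA a
    rw [h2, map_mul, map_mul, map_inv, charpoly_conj,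
      charpoly_central_mul_diag ζ hζ _ z d k hg (by rw [hc, hk])] at h3
    have h4 := P_injective ζ hζ _ _ h3
    apply Tup.ext
    intro j
    rw [shift_apply, ← congrFun h4 j, hd]
  · rintro ⟨k, rfl⟩
    obtain ⟨z, hz, hzc⟩ := S.exists_central (u ζ k) (u_mem ζ hζA k)
    obtain ⟨d, hd, hg⟩ := S.repA_spec ζ hζA b
    have h1 : ((ι (z * S.repA ζ hζA b) : GL (Fin n) K) : Matrix (Fin n) (Fin n) K).charpoly =
        ((ι (S.repA ζ hζA (shift k b)) : GL (Fin n) K) : Matrix (Fin n) (Fin n) K).charpoly := by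
      rw [charpoly_central_mul_diag ζ hζ _ z d k hg hzc, S.repA_charpoly]
      congr 1
      funext j
      rw [hd, shift_apply]
    have h2 : (z * S.repA ζ hζA b) ^ r = 1 := by
      rw [(show Commute z _ from (Subgroup.mem_center_iff.1 hz _).symm).mul_pow,
        S.central_pow ζ hζ z k hzc, S.repA_pow ζ hζ hζA b, one_mul]
    have h3 := S.conj _ _ r hr1 hrK h2 (S.repA_pow ζ hζ hζA (shift k b)) h1
    rw [← mk_eq_of_isConj h3, mk_central_mul z _ hz]

theorem classA_surj (S : Setup ι A r) (hr : r.Prime) (hrK : (r : K) ≠ 0) (ζ : Kˣ)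
    (hζ : orderOf ζ = r) (hζA : ζ ∈ A) (g : G) (hgZ : g ∉ Subgroup.center G)
    (hg : g ^ r = 1) :
    ∃ a : Tup r n, ConjClasses.mk ((g : G) : G ⧸ Subgroup.center G) =
      ConjClasses.mk ((S.repA ζ hζA a : G) : G ⧸ Subgroup.center G) := by
  have hr1 : 1 ≤ r := hr.one_lt.le
  have hg' : ι g ^ r = 1 := by rw [← map_pow, hg, map_one]
  set a : ZMod r → ℕ := fun j => kdim (L (ι g)) (X - C ((u ζ j : Kˣ) : K)) with ha
  have hc : ((ι g : GL (Fin n) K) : Matrix (Fin n) (Fin n) K).charpoly = P ζ a :=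
    charpoly_of_pow_eq_one ζ hζ (ι g) hg'
  have hsum : ∑ j, a j = n := by
    rw [← P_natDegree ζ a, ← hc, Matrix.charpoly_natDegree_eq_dim, Fintype.card_fin]
  have hlt : ∀ j, a j < n := by
    intro j₀
    by_contra hge
    push Not at hge
    have h1 : a j₀ + ∑ j ∈ Finset.univ.erase j₀, a j = n := by
      rw [Finset.add_sum_erase _ _ (Finset.mem_univ j₀)]
      exact hsum
    have h2 : a j₀ = n := by omega
    have h3 : ∑ j ∈ Finset.univ.erase j₀, a j = 0 := by omega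
    have hP : P ζ a = (X - C ((u ζ j₀ : Kˣ) : K)) ^ n := by
      unfold P
      rw [Finset.prod_eq_single j₀, h2]
      · intro j _ hj
        have := (Finset.sum_eq_zero_iff.1 h3) j (Finset.mem_erase.2 ⟨hj, Finset.mem_univ j⟩)
        rw [this, pow_zero]
      · intro h
        exact absurd (Finset.mem_univ j₀) h
    obtain ⟨z, hz, hzc⟩ := S.exists_central (u ζ j₀) (u_mem ζ hζA j₀)
    have hconj : IsConj g z := S.conj g z r hr1 hrK hg (S.central_pow ζ hζ z j₀ hzc)
      (by rw [hc, hP, hzc, charpoly_sc])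
    obtain ⟨x, hx⟩ := isConj_iff.1 hconj
    have h4 : g = x⁻¹ * z * x := by rw [← hx]; group
    rw [Subgroup.mem_center_iff.1 hz x⁻¹, inv_mul_cancel_right] at h4
    exact hgZ (h4 ▸ hz)
  refine ⟨⟨a, hsum, hlt⟩, mk_eq_of_isConj (S.conj g _ r hr1 hrK hg (S.repA_pow ζ hζ hζA _) ?_)⟩
  rw [hc, S.repA_charpoly]

end typeA

section typeB

/-- elements of `A` which are not `r`-th powers in `A` -/
def NonPow (A : Subgroup Kˣ) (r : ℕ) (c : Kˣ) : Prop := c ∈ A ∧ ∀ b ∈ A, b ^ r ≠ c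

theorem sc_mem_center (c : Kˣ) : (sc c : GL (Fin n) K) ∈ Subgroup.center (GL (Fin n) K) := by
  rw [Matrix.GeneralLinearGroup.center_eq_range_scalar]
  exact ⟨c, rfl⟩

/-- the `r`-th powers of two elements in the same projective class -/
theorem pow_rel (S : Setup ι A r) (hn : 1 ≤ n) (g g' : G) (c c' : Kˣ) (hg : ι g ^ r = sc c)
    (hg' : ι g' ^ r = sc c')
    (h : ConjClasses.mk ((g : G) : G ⧸ Subgroup.center G) =
      ConjClasses.mk ((g' : G) : G ⧸ Subgroup.center G)) :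
    ∃ b ∈ A, c' = b ^ r * c := by
  obtain ⟨x, z, hz, hxz⟩ := (mk_eq_mk_iff _ _).1 h
  obtain ⟨b, hbA, hb⟩ := (S.center z).1 hz
  refine ⟨b, hbA, ?_⟩
  have h1 : g' ^ r = z ^ r * (x * g ^ r * x⁻¹) := by
    rw [hxz, (show Commute z _ from (Subgroup.mem_center_iff.1 hz _).symm).mul_pow, conj_pow]
  have h2 := congrArg ι h1
  rw [map_pow, hg', map_mul, map_pow, hb, map_mul, map_mul, map_pow, hg, map_inv,
    Subgroup.mem_center_iff.1 (sc_mem_center c) (ι x), mul_inv_cancel_right, ← map_pow,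
    ← map_mul] at h2
  exact sc_injective hn h2

theorem irr_of_nonPow (S : Setup ι A r) (hr : r.Prime) (c : Kˣ) (hc : NonPow A r c) :
    Irreducible (X ^ r - C (c : K)) :=
  X_pow_sub_C_irreducible_of_prime hr (S.irr c hc.1 hc.2)

theorem charpoly_B (S : Setup ι A r) (hr : r.Prime) (g : G) (c : Kˣ) (hc : NonPow A r c)
    (hg : ι g ^ r = sc c) :
    r ∣ n ∧ ((ι g : GL (Fin n) K) : Matrix (Fin n) (Fin n) K).charpoly =
      (X ^ r - C (c : K)) ^ (n / r) := by
  have h1 := charpoly_of_killed_irr (ι g) _ (S.irr_of_nonPow hr c hc)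
    (monic_X_pow_sub_C _ hr.ne_zero) ((aeval_L_eq_zero_iff _ _).2 hg)
  rwa [natDegree_X_pow_sub_C] at h1

theorem isConj_B (S : Setup ι A r) (hr : r.Prime) (hrK : (r : K) ≠ 0) (g g' : G) (c : Kˣ)
    (hc : NonPow A r c) (hg : ι g ^ r = sc c) (hg' : ι g' ^ r = sc c) : IsConj g g' :=
  S.isConj_of hr hrK g g' c c hg hg'
    (by rw [(S.charpoly_B hr g c hc hg).2, (S.charpoly_B hr g' c hc hg').2])

end typeB

end Setup

end Cfsg.Agent.Helper13.ProjP
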