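import Mathlib
import Cfsg.Agent.Lib.Helper13.ProjSetup

set_option autoImplicit false
set_option linter.style.haveILetI false
set_option linter.unusedSectionVars false
set_option linter.unusedVariables false

namespace Cfsg.Agent.Helper13.ProjP

open Polynomial Cfsg.Agent.Helper13.SS Module Cfsg.Agent.Helper13.Rot Cfsg.Agent.Helper13.ProjC

open scoped Classical

variable {K : Type*} [Field K] [Fintype K] {n r : ℕ} {G : Type*} [Group G]
variable {ι : G →* GL (Fin n) K} {A : Subgroup Kˣ}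

namespace Setup

/-- classes with a representative of order `r` -/
def IsA (ι : G →* GL (Fin n) K) (A : Subgroup Kˣ) (r : ℕ)
    (C : ConjClasses (G ⧸ Subgroup.center G)) : Prop :=
  ∃ g : G, ConjClasses.mk ((g : G) : G ⧸ Subgroup.center G) = C ∧ g ∉ Subgroup.center G ∧ g ^ r = 1

/-- classes with a representative whose `r`-th power is a non-power scalar -/
def IsB (ι : G →* GL (Fin n) K) (A : Subgroup Kˣ) (r : ℕ)
    (C : ConjClasses (G ⧸ Subgroup.center G)) : Prop :=
  ∃ g : G, ConjClasses.mk ((g : G) : G ⧸ Subgroup.center G) = C ∧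
    ∃ c, NonPow A r c ∧ ι g ^ r = sc c

theorem isA_or_isB_iff (S : Setup ι A r) (hr : r.Prime) (hn : 1 ≤ n)
    (C : ConjClasses (G ⧸ Subgroup.center G)) :
    (∃ g : G ⧸ Subgroup.center G, ConjClasses.mk g = C ∧ orderOf g = r) ↔
      IsA ι A r C ∨ IsB ι A r C := by
  constructor
  · rintro ⟨g', rfl, hg'⟩
    obtain ⟨g, rfl⟩ := QuotientGroup.mk_surjective g'
    obtain ⟨hgZ, hgr⟩ := (orderOf_mk_eq_prime_iff hr g).1 hg'
    obtain ⟨c, hcA, hc⟩ := (S.center _).1 hgr
    rw [map_pow] at hc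
    by_cases hpow : ∃ b ∈ A, b ^ r = c
    · left
      obtain ⟨b, hbA, hb⟩ := hpow
      obtain ⟨z, hz, hzc⟩ := S.exists_central b⁻¹ (Subgroup.inv_mem A hbA)
      refine ⟨z * g, by rw [mk_central_mul z g hz], ?_, ?_⟩
      · intro h
        have : g = z⁻¹ * (z * g) := by group
        rw [this] at hgZ
        exact hgZ (Subgroup.mul_mem _ (Subgroup.inv_mem _ hz) h)
      · apply S.pow_eq_one_of
        rw [map_mul, (show Commute (ι z) (ι g) from by
          rw [hzc]; exact (Subgroup.mem_center_iff.1 (sc_mem_center b⁻¹) (ι g)).symm).mul_pow,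
          hzc, hc, ← map_pow, ← map_mul, ← hb, inv_pow, inv_mul_cancel, map_one]
    · right
      push Not at hpow
      exact ⟨g, rfl, c, ⟨hcA, hpow⟩, hc⟩
  · rintro (⟨g, rfl, hgZ, hgr⟩ | ⟨g, rfl, c, hc, hgc⟩)
    · refine ⟨_, rfl, (orderOf_mk_eq_prime_iff hr g).2 ⟨hgZ, ?_⟩⟩
      rw [hgr]
      exact Subgroup.one_mem _
    · refine ⟨_, rfl, (orderOf_mk_eq_prime_iff hr g).2 ⟨?_, ?_⟩⟩
      · intro h
        obtain ⟨b, hbA, hb⟩ := (S.center g).1 h
        rw [hb, ← map_pow] at hgc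
        exact hc.2 b hbA (sc_injective hn hgc)
      · rw [S.center]
        exact ⟨c, hc.1, by rw [map_pow, hgc]⟩

theorem not_isA_and_isB (S : Setup ι A r) (hn : 1 ≤ n)
    (C : ConjClasses (G ⧸ Subgroup.center G)) (hA : IsA ι A r C) (hB : IsB ι A r C) : False := by
  obtain ⟨g, rfl, -, hgr⟩ := hA
  obtain ⟨g', hgg', c, hc, hgc⟩ := hB
  have h1 : ι g ^ r = sc 1 := by
    rw [← map_pow, hgr, map_one]
    exact (map_one _).symm
  obtain ⟨b, hbA, hb⟩ := S.pow_rel hn g g' 1 c h1 hgc hgg'.symm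
  rw [mul_one] at hb
  exact hc.2 b hbA hb.symm

section countA
variable [NeZero r]

theorem card_isA (S : Setup ι A r) (hr : r.Prime) (hrK : (r : K) ≠ 0) (ζ : Kˣ)
    (hζ : orderOf ζ = r) (hζA : ζ ∈ A) (hn : 1 ≤ n) :
    Nat.card {C : ConjClasses (G ⧸ Subgroup.center G) // IsA ι A r C} =
      Nat.card (MulAction.orbitRel.Quotient (Multiplicative (ZMod r)) (Tup r n)) := by
  set Ψ : Tup r n → {C : ConjClasses (G ⧸ Subgroup.center G) // IsA ι A r C} :=
    fun a => ⟨ConjClasses.mk ((S.repA ζ hζA a : G) : G ⧸ Subgroup.center G),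
      S.repA ζ hζA a, rfl, S.repA_not_central ζ hζ hζA hn a, S.repA_pow ζ hζ hζA a⟩ with hΨ
  have hsurj : Function.Surjective Ψ := by
    rintro ⟨C, g, rfl, hgZ, hgr⟩
    obtain ⟨a, ha⟩ := S.classA_surj hr hrK ζ hζ hζA g hgZ hgr
    exact ⟨a, Subtype.ext ha.symm⟩
  have hker : Setoid.ker Ψ = MulAction.orbitRel (Multiplicative (ZMod r)) (Tup r n) := by
    ext a b
    rw [Setoid.ker_def, MulAction.orbitRel_apply, MulAction.mem_orbit_iff]
    have h1 : Ψ a = Ψ b ↔ ConjClasses.mk ((S.repA ζ hζA a : G) : G ⧸ Subgroup.center G) =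
        ConjClasses.mk ((S.repA ζ hζA b : G) : G ⧸ Subgroup.center G) := by
      rw [hΨ]
      exact Subtype.ext_iff
    rw [h1, S.classA_eq_iff hr hrK ζ hζ hζA hn a b]
    constructor
    · rintro ⟨k, hk⟩
      exact ⟨Multiplicative.ofAdd k, hk⟩
    · rintro ⟨k, hk⟩
      exact ⟨k.toAdd, hk⟩
  unfold MulAction.orbitRel.Quotient
  rw [← hker]
  exact (Nat.card_congr (Setoid.quotientKerEquivOfSurjective Ψ hsurj)).symm

end countA

section countB

/-- the chosen representative of type B -/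
noncomputable def repB (S : Setup ι A r) (hrn : r ∣ n) (c : Kˣ) (hc : NonPow A r c) : G :=
  Classical.choose (S.exB hrn c hc.1 hc.2)

theorem repB_spec (S : Setup ι A r) (hrn : r ∣ n) (c : Kˣ) (hc : NonPow A r c) :
    ι (S.repB hrn c hc) ^ r = sc c :=
  Classical.choose_spec (S.exB hrn c hc.1 hc.2)

theorem nonPow_out (κ : ↥A ⧸ (powMonoidHom r : ↥A →* ↥A).range) (hκ : κ ≠ 1) :
    NonPow A r ((Quotient.out κ : ↥A) : Kˣ) := by
  refine ⟨(Quotient.out κ : ↥A).2, fun b hb hbr => hκ ?_⟩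
  rw [← QuotientGroup.out_eq' κ, QuotientGroup.eq_one_iff]
  refine ⟨⟨b, hb⟩, ?_⟩
  apply Subtype.ext
  rw [powMonoidHom_apply, SubmonoidClass.coe_pow]
  exact hbr

theorem card_isB (S : Setup ι A r) (hr : r.Prime) (hrA : r ∣ Nat.card A) (hrK : (r : K) ≠ 0)
    (hn : 1 ≤ n) :
    Nat.card {C : ConjClasses (G ⧸ Subgroup.center G) // IsB ι A r C} =
      (r - 1) * (if r ∣ n then 1 else 0) := by
  split_ifs with hrn
  · rw [mul_one]
    set Q := ↥A ⧸ (powMonoidHom r : ↥A →* ↥A).range with hQ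
    haveI : Finite ↥A := Finite.of_injective (fun a : ↥A => (a : Kˣ)) Subtype.val_injective
    have hQcard : Nat.card Q = r := by
      have h1 := IsCyclic.index_powMonoidHom_range (G := ↥A) r
      rw [Nat.gcd_eq_right hrA] at h1
      exact h1
    have hQ1 : Nat.card {κ : Q // κ ≠ 1} = r - 1 := by
      haveI : Finite Q := Nat.finite_of_card_ne_zero (by rw [hQcard]; exact hr.ne_zero)
      letI : Fintype Q := Fintype.ofFinite Q
      rw [Nat.card_eq_fintype_card, Fintype.card_subtype, Finset.filter_ne' Finset.univ (1 : Q),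
        Finset.card_erase_of_mem (Finset.mem_univ _), Finset.card_univ, ← Nat.card_eq_fintype_card,
        hQcard]
    rw [← hQ1]
    symm
    set Ψ : {κ : Q // κ ≠ 1} → {C : ConjClasses (G ⧸ Subgroup.center G) // IsB ι A r C} :=
      fun κ => ⟨ConjClasses.mk ((S.repB hrn _ (nonPow_out κ.1 κ.2) : G) : G ⧸ Subgroup.center G),
        _, rfl, _, nonPow_out κ.1 κ.2, S.repB_spec hrn _ _⟩ with hΨ
    apply Nat.card_eq_of_bijective Ψ
    constructor
    · intro κ κ' h
      have h1 := congrArg Subtype.val h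
      simp only [hΨ] at h1
      obtain ⟨b, hbA, hb⟩ := S.pow_rel hn _ _ _ _ (S.repB_spec hrn _ (nonPow_out κ.1 κ.2))
        (S.repB_spec hrn _ (nonPow_out κ'.1 κ'.2)) h1
      apply Subtype.ext
      rw [← QuotientGroup.out_eq' κ.1, ← QuotientGroup.out_eq' κ'.1, QuotientGroup.eq]
      refine ⟨⟨b, hbA⟩, ?_⟩
      apply Subtype.ext
      rw [powMonoidHom_apply, SubmonoidClass.coe_pow, Subgroup.coe_mul, Subgroup.coe_inv, hb]
      show b ^ r = _
      rw [mul_comm (b ^ r), inv_mul_cancel_left]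
    · rintro ⟨C, g, rfl, c, hc, hgc⟩
      have hκ : (QuotientGroup.mk (⟨c, hc.1⟩ : ↥A) : Q) ≠ 1 := by
        intro h
        rw [QuotientGroup.eq_one_iff] at h
        obtain ⟨b, hb⟩ := h
        have := congrArg Subtype.val hb
        rw [powMonoidHom_apply, SubmonoidClass.coe_pow] at this
        exact hc.2 b.1 b.2 this
      refine ⟨⟨_, hκ⟩, ?_⟩
      apply Subtype.ext
      simp only [hΨ]
      set c' : ↥A := Quotient.out (QuotientGroup.mk (⟨c, hc.1⟩ : ↥A) : Q) with hc'
      have h1 : (QuotientGroup.mk c' : Q) = QuotientGroup.mk (⟨c, hc.1⟩ : ↥A) :=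
        QuotientGroup.out_eq' _
      rw [QuotientGroup.eq] at h1
      obtain ⟨b, hb⟩ := h1
      have hb' : (c' : Kˣ) = (b : Kˣ)⁻¹ ^ r * c := by
        have := congrArg Subtype.val hb
        rw [powMonoidHom_apply, SubmonoidClass.coe_pow, Subgroup.coe_mul, Subgroup.coe_inv] at this
        show (c' : Kˣ) = _
        rw [inv_pow, this]
        simp
      obtain ⟨z, hz, hzc⟩ := S.exists_central (b : Kˣ)⁻¹ (Subgroup.inv_mem A b.2)
      have h2 : ι (z * g) ^ r = sc (c' : Kˣ) := by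
        rw [map_mul, (show Commute (ι z) (ι g) from by
          rw [hzc]; exact (Subgroup.mem_center_iff.1 (sc_mem_center _) (ι g)).symm).mul_pow,
          hzc, hgc, ← map_pow, ← map_mul, hb']
      have h3 := S.isConj_B hr hrK _ _ _ (nonPow_out _ hκ) (S.repB_spec hrn _ (nonPow_out _ hκ)) h2
      rw [mk_eq_of_isConj h3, mk_central_mul z g hz]
  · rw [mul_zero]
    haveI : IsEmpty {C : ConjClasses (G ⧸ Subgroup.center G) // IsB ι A r C} := by
      constructor
      rintro ⟨C, g, rfl, c, hc, hgc⟩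
      exact hrn (S.charpoly_B hr g c hc hgc).1
    exact Nat.card_of_isEmpty

end countB

/-- the number of classes of elements of prime order `r` in `G / Z(G)` -/
theorem card_classes (S : Setup ι A r) (hr : r.Prime) (hrA : r ∣ Nat.card A) (hrK : (r : K) ≠ 0)
    (hn : 1 ≤ n) :
    Nat.card {C : ConjClasses (G ⧸ Subgroup.center G) //
      ∃ g : G ⧸ Subgroup.center G, ConjClasses.mk g = C ∧ orderOf g = r} =
      (Nat.choose (n + r - 1) (r - 1) - r - (if r ∣ n then 1 else 0)) / r +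
        r * (if r ∣ n then 1 else 0) := by
  haveI : NeZero r := ⟨hr.ne_zero⟩
  haveI : Fact r.Prime := ⟨hr⟩
  haveI : Finite ↥A := Finite.of_injective (fun a : ↥A => (a : Kˣ)) Subtype.val_injective
  haveI : Finite G := Finite.of_injective ι S.inj
  obtain ⟨ζ', hζ'⟩ := exists_prime_orderOf_dvd_card' (G := ↥A) r hrA
  have hζ : orderOf (ζ' : Kˣ) = r := by rw [Subgroup.orderOf_coe, hζ']
  rw [Nat.card_congr (Equiv.subtypeEquivRight (S.isA_or_isB_iff hr hn)),
    Nat.card_congr (subtypeOrEquiv (IsA ι A r) (IsB ι A r) (by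
      rw [Pi.disjoint_iff]
      intro C
      rw [Prop.disjoint_iff]
      rintro ⟨hA, hB⟩
      exact S.not_isA_and_isB hn C hA hB)),
    Nat.card_sum, S.card_isA hr hrK ζ' hζ ζ'.2 hn, card_orbits hr hn, S.card_isB hr hrA hrK hn]
  have hr1 := hr.one_lt
  split_ifs with hrn
  · rw [mul_one, mul_one]
    generalize ((n + r - 1).choose (r - 1) - r - 1) / r = Y
    omega
  · rw [mul_zero, mul_zero, add_zero]

end Setup

end Cfsg.Agent.Helper13.ProjP
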