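import Mathlib
import Cfsg.Agent.Lib.Helper13.ProjCount
import Cfsg.Agent.Lib.Helper13.UnitaryPalin

set_option autoImplicit false
set_option linter.style.haveILetI false

namespace Cfsg.Agent.Helper13.ProjP

open Polynomial Cfsg.Agent.Helper13.Uni

section minpoly
variable {K : Type*} [Field K] {n : ℕ}

/-- a matrix of order prime to the characteristic whose characteristic polynomial is a power of an
irreducible polynomial `f` is killed by `f` -/
theorem aeval_eq_zero_of_charpoly_pow (g : Matrix (Fin n) (Fin n) K) (M : ℕ) (hMK : (M : K) ≠ 0)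
    (hgM : g ^ M = 1) (f : K[X]) (hf : Irreducible f) (k : ℕ) (hc : g.charpoly = f ^ k) :
    aeval g f = 0 := by
  have h1 : minpoly K g ∣ X ^ M - 1 := by
    apply minpoly.dvd
    rw [map_sub, map_pow, aeval_X, map_one, hgM, sub_self]
  have hsq : Squarefree (minpoly K g) :=
    ((X_pow_sub_one_separable_iff.2 hMK).squarefree).squarefree_of_dvd h1
  have h2 : minpoly K g ∣ f ^ k := by
    rw [← hc]
    exact Matrix.minpoly_dvd_charpoly g
  obtain ⟨i, -, hi⟩ := (dvd_prime_pow hf.prime k).1 h2
  have hi1 : i ≤ 1 := by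
    by_contra hcon
    push Not at hcon
    have h3 : f * f ∣ minpoly K g := by
      refine dvd_trans ?_ hi.symm.dvd
      rw [← sq]
      exact pow_dvd_pow f hcon
    exact hf.not_isUnit (hsq f h3)
  have h4 : minpoly K g ∣ f := by
    refine dvd_trans hi.dvd ?_
    calc f ^ i ∣ f ^ 1 := pow_dvd_pow f hi1
      _ = f := pow_one f
  obtain ⟨w, hw⟩ := h4
  rw [hw, map_mul, minpoly.aeval, zero_mul]

end minpoly

section cpal
variable {K : Type*} [Field K] {σ : K →+* K}

theorem cpal_mul {P Q : K[X]} (hP : CPal σ P) (hQ : CPal σ Q) : CPal σ (P * Q) := by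
  unfold CPal at *
  rw [Polynomial.map_mul, reverse_mul_of_domain, hP, hQ, mul_coeff_zero, map_mul, C_mul]
  ring

theorem cpal_one : CPal σ (1 : K[X]) := by
  unfold CPal
  rw [Polynomial.map_one, coeff_one_zero, map_one, C_1, mul_one]
  exact reverse_C 1 |>.trans (by simp)

theorem cpal_pow {P : K[X]} (hP : CPal σ P) (k : ℕ) : CPal σ (P ^ k) := by
  induction k with
  | zero => rw [pow_zero]; exact cpal_one
  | succ k ih => rw [pow_succ]; exact cpal_mul ih hP

/-- `X ^ r - c` is conjugate-palindromic when `c * σ c = 1` -/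
theorem cpal_X_pow_sub_C {r : ℕ} (hr : r ≠ 0) (c : K) (hc : c * σ c = 1) :
    CPal σ (X ^ r - C c : K[X]) := by
  unfold CPal
  have hc0 : c ≠ 0 := by
    rintro rfl
    rw [zero_mul] at hc
    exact zero_ne_one hc
  have h1 : (X ^ r - C c : K[X]).map σ = X ^ r + C (-(σ c)) := by
    rw [Polynomial.map_sub, Polynomial.map_pow, map_X, map_C, C_neg, sub_eq_add_neg]
  have h2 : (X ^ r - C c : K[X]).coeff 0 = -c := by
    rw [coeff_sub, coeff_X_pow, coeff_C_zero, if_neg (Ne.symm hr), zero_sub]
  rw [h1, h2, reverse_add_C, natDegree_X_pow]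
  have h3 : (X ^ r : K[X]).reverse = 1 := by
    have := reverse_mul_X_pow (1 : K[X]) r
    rw [one_mul] at this
    rw [this]
    exact reverse_C 1 |>.trans (by simp)
  have h4 : σ (-c) = -σ c := map_neg σ c
  rw [h3, h4, C_neg, neg_mul, neg_mul, mul_sub, ← C_mul, mul_comm (σ c) c, hc, C_1]
  ring

end cpal

end Cfsg.Agent.Helper13.ProjP
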