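import Mathlib

/-!
# Quaternion subgroups of `GL₂(F)`: matrix structure (helper13)
-/

set_option autoImplicit false
set_option linter.style.haveILetI false
set_option linter.unusedSectionVars false
set_option linter.unusedVariables false

namespace Cfsg.Agent.Helper13.Q8N

open Matrix QuaternionGroup

section q8

theorem q8_cases (q : QuaternionGroup 2) :
    q = 1 ∨ q = a 1 ∨ q = a 2 ∨ q = a 2 * a 1 ∨ q = xa 0 ∨ q = a 2 * xa 0 ∨
      q = a 1 * xa 0 ∨ q = a 2 * (a 1 * xa 0) := by
  revert q; decide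

theorem q8_rel : (a 1 : QuaternionGroup 2) * a 1 = a 2 ∧ (xa 0 : QuaternionGroup 2) * xa 0 = a 2 ∧
    (a 2 : QuaternionGroup 2) * a 2 = 1 ∧ (a 2 : QuaternionGroup 2) ≠ 1 ∧
    (xa 0 : QuaternionGroup 2) * a 1 = a 2 * (a 1 * xa 0) := by decide

theorem q8_count : Fintype.card {q : QuaternionGroup 2 // q * q = a 2} = 6 := by decide

end q8

section mat

variable {F : Type*} [Field F]

/-- Cayley–Hamilton for `2 × 2` matrices. -/
theorem ch2 (M : Matrix (Fin 2) (Fin 2) F) :
    M * M = M.trace • M - M.det • (1 : Matrix (Fin 2) (Fin 2) F) := by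
  ext i j
  fin_cases i <;> fin_cases j <;>
    simp [Matrix.mul_apply, Fin.sum_univ_two, Matrix.trace_fin_two, Matrix.det_fin_two] <;> ring

/-- traceless `2 × 2` matrices anticommute up to a scalar. -/
theorem anticomm_traceless (X Y : Matrix (Fin 2) (Fin 2) F) (hX : X.trace = 0) (hY : Y.trace = 0) :
    X * Y + Y * X = (X * Y).trace • (1 : Matrix (Fin 2) (Fin 2) F) := by
  rw [Matrix.trace_fin_two] at hX hY
  have hX' : X 1 1 = - X 0 0 := by linear_combination hX
  have hY' : Y 1 1 = - Y 0 0 := by linear_combination hY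
  ext i j
  fin_cases i <;> fin_cases j <;>
    simp [Matrix.mul_apply, Fin.sum_univ_two, Matrix.trace_fin_two, hX', hY'] <;> ring

theorem smul_one_eq_one_iff (c : F) : c • (1 : Matrix (Fin 2) (Fin 2) F) = 1 ↔ c = 1 := by
  constructor
  · intro h
    have := congrFun (congrFun h 0) 0
    simpa using this
  · rintro rfl; simp

/-- a matrix of trace zero whose square is a non-trivial involution `Z`. -/
theorem sq_of_trace_zero (M Z : Matrix (Fin 2) (Fin 2) F) (hMM : M * M = Z) (hZZ : Z * Z = 1)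
    (hZ1 : Z ≠ 1) (ht : M.trace = 0) : Z = -1 ∧ M.det = 1 := by
  have h1 : Z = (-M.det) • (1 : Matrix (Fin 2) (Fin 2) F) := by
    rw [← hMM, ch2, ht, zero_smul, zero_sub, neg_smul]
  have h2 : (M.det * M.det) • (1 : Matrix (Fin 2) (Fin 2) F) = 1 := by
    have h0 : Z * Z = (M.det * M.det) • (1 : Matrix (Fin 2) (Fin 2) F) := by
      rw [h1, smul_mul_smul_comm, mul_one, neg_mul_neg]
    rw [← h0, hZZ]
  have h3 : M.det * M.det = 1 := (smul_one_eq_one_iff _).1 h2
  have h4 : (M.det - 1) * (M.det + 1) = 0 := by linear_combination h3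
  rcases mul_eq_zero.1 h4 with h5 | h5
  · have h6 : M.det = 1 := sub_eq_zero.1 h5
    refine ⟨?_, h6⟩
    rw [h1, h6, neg_smul, one_smul]
  · exfalso
    apply hZ1
    have h6 : M.det = -1 := eq_neg_of_add_eq_zero_left h5
    rw [h1, h6, neg_neg, one_smul]

/-- a matrix of non-zero trace is a polynomial in its square. -/
theorem poly_of_trace_ne_zero (M Z : Matrix (Fin 2) (Fin 2) F) (hMM : M * M = Z)
    (ht : M.trace ≠ 0) : ∃ α β : F, M = α • Z + β • (1 : Matrix (Fin 2) (Fin 2) F) := by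
  refine ⟨M.trace⁻¹, M.trace⁻¹ * M.det, ?_⟩
  rw [← hMM, ch2, smul_sub, smul_smul, smul_smul, inv_mul_cancel₀ ht, one_smul]
  abel

theorem commute_poly (Z : Matrix (Fin 2) (Fin 2) F) (α β α' β' : F) :
    (α • Z + β • (1 : Matrix (Fin 2) (Fin 2) F)) * (α' • Z + β' • 1) =
      (α' • Z + β' • 1) * (α • Z + β • 1) := by
  have hZ : ∀ a b : F, Commute (a • Z) (b • Z) := fun a b =>
    ((Commute.refl Z).smul_left a).smul_right b
  have h1 : ∀ a b : F, Commute (a • Z) (b • (1 : Matrix (Fin 2) (Fin 2) F)) := fun a b =>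
    ((Commute.one_right Z).smul_left a).smul_right b
  have h11 : ∀ a b : F, Commute (a • (1 : Matrix (Fin 2) (Fin 2) F))
      (b • (1 : Matrix (Fin 2) (Fin 2) F)) := fun a b =>
    ((Commute.one_right (1 : Matrix (Fin 2) (Fin 2) F)).smul_left a).smul_right b
  exact (((hZ α α').add_right (h1 α β')).add_left
    (((h1 α' β).symm).add_right (h11 β β'))).eq

/-- the structure of a quaternion group of `2 × 2` matrices. -/
theorem quat_structure (A B Z : Matrix (Fin 2) (Fin 2) F) (hAA : A * A = Z)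
    (hBB : B * B = Z) (hZZ : Z * Z = 1) (hZ1 : Z ≠ 1) (hBA : B * A = Z * (A * B))
    (hA : IsUnit A.det) (hB : IsUnit B.det) :
    Z = -1 ∧ A.trace = 0 ∧ A.det = 1 ∧ B.trace = 0 ∧ B.det = 1 := by
  have hcomm : A * B ≠ B * A := by
    intro h
    apply hZ1
    have h1 : (Z - 1) * (B * A) = 0 := by
      rw [sub_mul, one_mul, ← h, ← hBA, h, sub_self]
    have hBAu : IsUnit (B * A).det := by
      rw [Matrix.det_mul]; exact hB.mul hA
    have h2 := Matrix.mul_nonsing_inv_cancel_right (B := Z - 1) (A := B * A) hBAu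
    rw [h1, zero_mul] at h2
    exact sub_eq_zero.1 h2.symm
  have hZ : Z = -1 := by
    by_cases htA : A.trace = 0
    · exact (sq_of_trace_zero A Z hAA hZZ hZ1 htA).1
    by_cases htB : B.trace = 0
    · exact (sq_of_trace_zero B Z hBB hZZ hZ1 htB).1
    exfalso
    obtain ⟨α, β, hα⟩ := poly_of_trace_ne_zero A Z hAA htA
    obtain ⟨α', β', hα'⟩ := poly_of_trace_ne_zero B Z hBB htB
    apply hcomm
    rw [hα, hα']
    exact commute_poly Z α β α' β'
  have hscal : ∀ M : Matrix (Fin 2) (Fin 2) F, M * M = Z → M.trace ≠ 0 →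
      ∃ c : F, M = c • (1 : Matrix (Fin 2) (Fin 2) F) := by
    intro M hMM ht
    obtain ⟨α, β, hα⟩ := poly_of_trace_ne_zero M Z hMM ht
    refine ⟨β - α, ?_⟩
    rw [hα, hZ, sub_smul, smul_neg]
    abel
  have htA : A.trace = 0 := by
    by_contra ht
    obtain ⟨c, hc⟩ := hscal A hAA ht
    apply hcomm
    rw [hc, smul_mul_assoc, mul_smul_comm, one_mul, mul_one]
  have htB : B.trace = 0 := by
    by_contra ht
    obtain ⟨c, hc⟩ := hscal B hBB ht
    apply hcomm
    rw [hc, smul_mul_assoc, mul_smul_comm, one_mul, mul_one]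
  exact ⟨hZ, htA, (sq_of_trace_zero A Z hAA hZZ hZ1 htA).2, htB,
    (sq_of_trace_zero B Z hBB hZZ hZ1 htB).2⟩

/-- a matrix commuting with a quaternion pair is a scalar. -/
theorem scalar_of_commute (h2 : (2 : F) ≠ 0) (A B M : Matrix (Fin 2) (Fin 2) F)
    (hAA : A * A = -1) (htA : A.trace = 0) (hBA : B * A = -(A * B)) (hB : IsUnit B.det)
    (hMA : M * A = A * M) (hMB : M * B = B * M) :
    ∃ c : F, M = c • (1 : Matrix (Fin 2) (Fin 2) F) := by
  set M' := M - (M.trace / 2) • (1 : Matrix (Fin 2) (Fin 2) F) with hM'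
  have htM' : M'.trace = 0 := by
    rw [hM', Matrix.trace_sub, Matrix.trace_smul, Matrix.trace_one, Fintype.card_fin]
    simp only [smul_eq_mul, Nat.cast_ofNat]
    field_simp
    ring
  have hM'A : M' * A = A * M' := by
    rw [hM', sub_mul, mul_sub, hMA, smul_mul_assoc, mul_smul_comm, one_mul, mul_one]
  have hM'B : M' * B = B * M' := by
    rw [hM', sub_mul, mul_sub, hMB, smul_mul_assoc, mul_smul_comm, one_mul, mul_one]
  have h1 := anticomm_traceless M' A htM' htA
  rw [← hM'A, ← two_smul F (M' * A)] at h1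
  obtain ⟨τ, hτ⟩ : ∃ τ, τ = (M' * A).trace := ⟨_, rfl⟩
  rw [← hτ] at h1
  -- M' = c • A
  have h3 : M' = (-(2⁻¹ * τ)) • A := by
    have h4 : M' * A * A = (2⁻¹ * τ) • A := by
      have : M' * A = (2⁻¹ * τ) • (1 : Matrix (Fin 2) (Fin 2) F) := by
        have h5 := congrArg (fun X => (2 : F)⁻¹ • X) h1
        simp only [smul_smul, inv_mul_cancel₀ h2, one_smul] at h5
        exact h5
      rw [this, smul_mul_assoc, one_mul]
    rw [mul_assoc, hAA, mul_neg, mul_one] at h4
    rw [neg_smul, ← h4, neg_neg]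
  set c := -(2⁻¹ * τ) with hc
  have hc0 : c = 0 := by
    by_contra hne
    have h5 : (c • A) * B = B * (c • A) := by rw [← h3]; exact hM'B
    rw [smul_mul_assoc, mul_smul_comm, hBA, smul_neg] at h5
    have h6 : (2 * c) • (A * B) = 0 := by
      rw [mul_smul, two_smul]
      have : c • (A * B) + c • (A * B) = c • (A * B) - -(c • (A * B)) := by abel
      rw [this, ← h5, sub_self]
    have h7 : A * B = 0 := by
      have := congrArg (fun X => (2 * c)⁻¹ • X) h6
      simp only [smul_smul, inv_mul_cancel₀ (mul_ne_zero h2 hne), one_smul, smul_zero] at this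
      exact this
    have hAu : IsUnit A.det := by
      have := congrArg Matrix.det hAA
      rw [Matrix.det_mul, Matrix.det_neg, Matrix.det_one, Fintype.card_fin] at this
      have h8 : A.det * A.det = 1 := by rw [this]; norm_num
      exact IsUnit.of_mul_eq_one _ h8
    have hABu : IsUnit (A * B).det := by rw [Matrix.det_mul]; exact hAu.mul hB
    rw [h7, Matrix.det_zero] at hABu
    exact not_isUnit_zero hABu
  refine ⟨M.trace / 2, ?_⟩
  have : M' = 0 := by rw [h3, hc0, zero_smul]
  rw [hM'] at this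
  exact sub_eq_zero.1 this

end mat

end Cfsg.Agent.Helper13.Q8N
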