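import Mathlib
import Cfsg.Prelude.Def_GeometricClasses
import Cfsg.Agent.Lib.Helper13.Q8Norm1
import Cfsg.Agent.Lib.Helper13.PSL2A4
import Cfsg.Agent.Lib.Helper12.SL2Half

/-!
# Quaternion subgroups of `GL₂(F)` and their normalizers (helper13)
-/

set_option autoImplicit false
set_option linter.style.haveILetI false
set_option linter.unusedSectionVars false
set_option linter.unusedVariables false

namespace Cfsg.Agent.Helper13.Q8N

open Matrix QuaternionGroup

variable {F : Type*} [Field F]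

section bridge

theorem mem_specialLinear_iff (g : GL (Fin 2) F) :
    g ∈ Cfsg.Geo.specialLinear (Fin 2) F ↔ (g : Matrix (Fin 2) (Fin 2) F).det = 1 := by
  unfold Cfsg.Geo.specialLinear
  rw [MonoidHom.mem_ker, Units.ext_iff, Matrix.GeneralLinearGroup.val_det_apply, Units.val_one]

/-- the element of `SL₂` of an element of `GL₂` of determinant one -/
def toSL (g : GL (Fin 2) F) (h : (g : Matrix (Fin 2) (Fin 2) F).det = 1) :
    SpecialLinearGroup (Fin 2) F := ⟨g, h⟩

theorem toGL_toSL (g : GL (Fin 2) F) (h : (g : Matrix (Fin 2) (Fin 2) F).det = 1) :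
    SpecialLinearGroup.toGL (toSL g h) = g := Units.ext rfl

theorem coe_toSL (g : GL (Fin 2) F) (h : (g : Matrix (Fin 2) (Fin 2) F).det = 1) :
    ((toSL g h : SpecialLinearGroup (Fin 2) F) : Matrix (Fin 2) (Fin 2) F) = g := rfl

theorem toGL_mem (s : SpecialLinearGroup (Fin 2) F) :
    SpecialLinearGroup.toGL s ∈ Cfsg.Geo.specialLinear (Fin 2) F := by
  rw [mem_specialLinear_iff]
  exact s.2

theorem coe_toGL (s : SpecialLinearGroup (Fin 2) F) :
    ((SpecialLinearGroup.toGL s : GL (Fin 2) F) : Matrix (Fin 2) (Fin 2) F) = s := rfl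

end bridge

section data

/-- a quaternion pair generating the subgroup `R`. -/
structure QData (R : Subgroup (GL (Fin 2) F)) (a b : SpecialLinearGroup (Fin 2) F) : Prop where
  ha : SpecialLinearGroup.toGL a ∈ R
  hb : SpecialLinearGroup.toGL b ∈ R
  hneg : SpecialLinearGroup.toGL (-1 : SpecialLinearGroup (Fin 2) F) ∈ R
  tra : (a : Matrix (Fin 2) (Fin 2) F).trace = 0
  trb : (b : Matrix (Fin 2) (Fin 2) F).trace = 0
  anti : b * a = -(a * b)
  cases : ∀ h ∈ R, h = 1 ∨ h = SpecialLinearGroup.toGL a ∨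
    h = SpecialLinearGroup.toGL (-1 : SpecialLinearGroup (Fin 2) F) ∨
    h = SpecialLinearGroup.toGL (-a) ∨ h = SpecialLinearGroup.toGL b ∨
    h = SpecialLinearGroup.toGL (-b) ∨ h = SpecialLinearGroup.toGL (a * b) ∨
    h = SpecialLinearGroup.toGL (-(a * b))

theorem exists_qdata (R : Subgroup (GL (Fin 2) F)) (hR : Nonempty (↥R ≃* QuaternionGroup 2)) :
    ∃ a b : SpecialLinearGroup (Fin 2) F, QData R a b := by
  obtain ⟨e⟩ := hR
  obtain ⟨r1, r2, r3, r4, r5⟩ := q8_rel
  set gA : GL (Fin 2) F := ((e.symm (a 1) : ↥R) : GL (Fin 2) F) with hgA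
  set gB : GL (Fin 2) F := ((e.symm (xa 0) : ↥R) : GL (Fin 2) F) with hgB
  set gZ : GL (Fin 2) F := ((e.symm (a 2) : ↥R) : GL (Fin 2) F) with hgZ
  have hAmem : gA ∈ R := (e.symm (a 1)).2
  have hBmem : gB ∈ R := (e.symm (xa 0)).2
  have hZmem : gZ ∈ R := (e.symm (a 2)).2
  have hAA : gA * gA = gZ := by
    rw [hgA, hgZ, ← Subgroup.coe_mul, ← map_mul, r1]
  have hBB : gB * gB = gZ := by
    rw [hgB, hgZ, ← Subgroup.coe_mul, ← map_mul, r2]
  have hZZ : gZ * gZ = 1 := by
    rw [hgZ, ← Subgroup.coe_mul, ← map_mul, r3, map_one, Subgroup.coe_one]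
  have hZ1 : gZ ≠ 1 := by
    intro h
    apply r4
    have : e.symm (a 2) = 1 := Subtype.ext h
    have h2 := congrArg e this
    rwa [e.apply_symm_apply, map_one] at h2
  have hBA : gB * gA = gZ * (gA * gB) := by
    rw [hgA, hgB, hgZ, ← Subgroup.coe_mul, ← Subgroup.coe_mul, ← Subgroup.coe_mul, ← map_mul,
      ← map_mul, ← map_mul, r5]
  -- matrices
  set Am : Matrix (Fin 2) (Fin 2) F := (gA : Matrix (Fin 2) (Fin 2) F) with hAm
  set Bm : Matrix (Fin 2) (Fin 2) F := (gB : Matrix (Fin 2) (Fin 2) F) with hBm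
  set Zm : Matrix (Fin 2) (Fin 2) F := (gZ : Matrix (Fin 2) (Fin 2) F) with hZm
  have hunit : ∀ g : GL (Fin 2) F, IsUnit (g : Matrix (Fin 2) (Fin 2) F).det := fun g =>
    (Matrix.isUnit_iff_isUnit_det _).1 g.isUnit
  have mAA : Am * Am = Zm := by rw [hAm, hZm, ← Units.val_mul, hAA]
  have mBB : Bm * Bm = Zm := by rw [hBm, hZm, ← Units.val_mul, hBB]
  have mZZ : Zm * Zm = 1 := by rw [hZm, ← Units.val_mul, hZZ, Units.val_one]
  have mZ1 : Zm ≠ 1 := by
    intro h
    apply hZ1
    exact Units.ext h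
  have mBA : Bm * Am = Zm * (Am * Bm) := by
    rw [hAm, hBm, hZm, ← Units.val_mul, ← Units.val_mul, ← Units.val_mul, hBA]
  obtain ⟨hZ, htA, hdA, htB, hdB⟩ :=
    quat_structure Am Bm Zm mAA mBB mZZ mZ1 mBA (hunit gA) (hunit gB)
  refine ⟨toSL gA hdA, toSL gB hdB, ?_⟩
  have e1 : SpecialLinearGroup.toGL (toSL gA hdA) = gA := toGL_toSL gA hdA
  have e2 : SpecialLinearGroup.toGL (toSL gB hdB) = gB := toGL_toSL gB hdB
  have e3 : SpecialLinearGroup.toGL (-1 : SpecialLinearGroup (Fin 2) F) = gZ := by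
    apply Units.ext
    rw [coe_toGL, SpecialLinearGroup.coe_neg, ← hZm, hZ]
    simp
  have eneg : ∀ s : SpecialLinearGroup (Fin 2) F,
      SpecialLinearGroup.toGL (-s) = gZ * SpecialLinearGroup.toGL s := by
    intro s
    rw [← e3, ← map_mul, neg_one_mul]
  refine ⟨by rw [e1]; exact hAmem, by rw [e2]; exact hBmem, by rw [e3]; exact hZmem, htA, htB,
    ?_, ?_⟩
  · apply Subtype.ext
    show Bm * Am = -(Am * Bm)
    rw [mBA, hZ, neg_one_mul]
  · intro h hh
    have hcase := q8_cases (e ⟨h, hh⟩)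
    have hback : ∀ q : QuaternionGroup 2, e ⟨h, hh⟩ = q → h = ((e.symm q : ↥R) : GL (Fin 2) F) := by
      intro q hq
      rw [← hq, e.symm_apply_apply]
    rw [eneg (toSL gA hdA), eneg (toSL gB hdB), eneg (toSL gA hdA * toSL gB hdB), map_mul, e1, e2,
      e3]
    rcases hcase with hc | hc | hc | hc | hc | hc | hc | hc
    · left
      rw [hback _ hc, map_one, Subgroup.coe_one]
    · right; left
      exact hback _ hc
    · right; right; left
      exact hback _ hc
    · right; right; right; left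
      rw [hback _ hc, map_mul, Subgroup.coe_mul]
    · right; right; right; right; left
      exact hback _ hc
    · right; right; right; right; right; left
      rw [hback _ hc, map_mul, Subgroup.coe_mul]
    · right; right; right; right; right; right; left
      rw [hback _ hc, map_mul, Subgroup.coe_mul]
    · right; right; right; right; right; right; right
      rw [hback _ hc, map_mul, map_mul, Subgroup.coe_mul, Subgroup.coe_mul]

end data

section normalizer

theorem mem_normalizer_of_conj (R : Subgroup (GL (Fin 2) F)) [Finite ↥R] (T : GL (Fin 2) F)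
    (h : ∀ x ∈ R, T * x * T⁻¹ ∈ R) : T ∈ Cfsg.Geo.subgroupNormalizer R := by
  unfold Cfsg.Geo.subgroupNormalizer
  rw [Subgroup.mem_set_normalizer_iff]
  intro x
  constructor
  · intro hx
    exact h x hx
  · intro hx
    let φ : ↥R → ↥R := fun y => ⟨T * y * T⁻¹, h y y.2⟩
    have hinj : Function.Injective φ := by
      intro y y' hyy
      have := congrArg Subtype.val hyy
      simp only [φ] at this
      apply Subtype.ext
      have h1 := mul_right_cancel this
      exact mul_left_cancel h1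
    obtain ⟨y, hy⟩ := (Finite.injective_iff_surjective.1 hinj) ⟨T * x * T⁻¹, hx⟩
    have := congrArg Subtype.val hy
    simp only [φ] at this
    have h1 := mul_left_cancel (mul_right_cancel this)
    rw [← h1]
    exact y.2

theorem le_normalizer (R : Subgroup (GL (Fin 2) F)) : R ≤ Cfsg.Geo.subgroupNormalizer R := by
  unfold Cfsg.Geo.subgroupNormalizer
  exact Subgroup.le_normalizer

variable {R : Subgroup (GL (Fin 2) F)} {a b : SpecialLinearGroup (Fin 2) F}

theorem toGL_neg_one_comm (g : GL (Fin 2) F) :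
    g * SpecialLinearGroup.toGL (-1 : SpecialLinearGroup (Fin 2) F) * g⁻¹ =
      SpecialLinearGroup.toGL (-1 : SpecialLinearGroup (Fin 2) F) := by
  have hc : g * SpecialLinearGroup.toGL (-1 : SpecialLinearGroup (Fin 2) F) =
      SpecialLinearGroup.toGL (-1 : SpecialLinearGroup (Fin 2) F) * g := by
    apply Units.ext
    rw [Units.val_mul, Units.val_mul, coe_toGL, SpecialLinearGroup.coe_neg]
    simp
  rw [hc, mul_assoc, mul_inv_cancel, mul_one]

theorem QData.conj_mem (hq : QData R a b) (T : GL (Fin 2) F)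
    (hTa : T * SpecialLinearGroup.toGL a * T⁻¹ ∈ R) (hTb : T * SpecialLinearGroup.toGL b * T⁻¹ ∈ R) :
    ∀ x ∈ R, T * x * T⁻¹ ∈ R := by
  have hconj : ∀ x y : GL (Fin 2) F, T * (x * y) * T⁻¹ = (T * x * T⁻¹) * (T * y * T⁻¹) := by
    intro x y; group
  have hneg : T * SpecialLinearGroup.toGL (-1 : SpecialLinearGroup (Fin 2) F) * T⁻¹ ∈ R := by
    rw [toGL_neg_one_comm]; exact hq.hneg
  have eneg : ∀ s : SpecialLinearGroup (Fin 2) F,
      SpecialLinearGroup.toGL (-s) =
        SpecialLinearGroup.toGL (-1 : SpecialLinearGroup (Fin 2) F) * SpecialLinearGroup.toGL s := by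
    intro s
    rw [← map_mul, neg_one_mul]
  intro x hx
  rcases hq.cases x hx with rfl | rfl | rfl | rfl | rfl | rfl | rfl | rfl
  · simp
  · exact hTa
  · exact hneg
  · rw [eneg, hconj]; exact R.mul_mem hneg hTa
  · exact hTb
  · rw [eneg, hconj]; exact R.mul_mem hneg hTb
  · rw [map_mul, hconj]; exact R.mul_mem hTa hTb
  · rw [eneg, map_mul, hconj, hconj]; exact R.mul_mem hneg (R.mul_mem hTa hTb)

end normalizer

end Cfsg.Agent.Helper13.Q8N
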