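import Mathlib
import Cfsg.Agent.Lib.Helper13.Q8Norm2

/-!
# Elements of prime order normalizing a quaternion subgroup of `GL₂(F)` (helper13)
-/

set_option autoImplicit false
set_option linter.style.haveILetI false
set_option linter.unusedSectionVars false
set_option linter.unusedVariables false

namespace Cfsg.Agent.Helper13.Q8N

open Matrix QuaternionGroup

section generic

variable {G : Type*} [Group G]

/-- an element of prime order `r ≥ 5` normalizing a group of order `8` and centralizing a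
non-trivial element of it centralizes the whole group. -/
theorem centralizes_of_prime_order (R : Subgroup G) (hcard : Nat.card ↥R = 8) (y : G)
    (hy : y ∈ Subgroup.normalizer (R : Set G)) (r : ℕ) [hr : Fact r.Prime] (hr5 : 5 ≤ r)
    (hyr : y ^ r = 1) (z : G) (hzR : z ∈ R) (hz1 : z ≠ 1) (hzy : y * z * y⁻¹ = z) :
    ∀ h ∈ R, y * h * y⁻¹ = h := by
  classical
  haveI : Finite ↥R := Nat.finite_of_card_ne_zero (by rw [hcard]; norm_num)
  haveI : Fintype ↥R := Fintype.ofFinite _
  have hnorm : ∀ k : ℕ, ∀ h ∈ R, y ^ k * h * (y ^ k)⁻¹ ∈ R := by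
    intro k h hh
    have : y ^ k ∈ Subgroup.normalizer (R : Set G) := Subgroup.pow_mem _ hy k
    exact (Subgroup.mem_set_normalizer_iff.1 this h).1 hh
  let f : Function.End ↥R := fun h => ⟨y * h * y⁻¹, by simpa using hnorm 1 h h.2⟩
  have hfk : ∀ k : ℕ, ∀ h : ↥R, (((f ^ k) h : ↥R) : G) = y ^ k * h * (y ^ k)⁻¹ := by
    intro k
    induction k with
    | zero =>
      intro h
      rw [pow_zero, pow_zero, one_mul, inv_one, mul_one]
      rfl
    | succ k ih =>
      intro h
      rw [pow_succ']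
      show y * ((f ^ k) h : ↥R) * y⁻¹ = _
      rw [ih h, pow_succ']
      group
  have hf : f ^ r ^ 1 = 1 := by
    rw [pow_one]
    funext h
    apply Subtype.ext
    rw [hfk, hyr, one_mul, inv_one, mul_one]
    rfl
  have hmod := Equiv.Perm.card_fixedPoints_modEq (f := f) (p := r) (n := 1) hf
  -- the subgroup of fixed points
  let C : Subgroup ↥R :=
    { carrier := Function.fixedPoints f
      one_mem' := by
        show f 1 = 1
        apply Subtype.ext
        show y * ((1 : ↥R) : G) * y⁻¹ = ((1 : ↥R) : G)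
        simp
      mul_mem' := by
        intro u v hu hv
        show f (u * v) = u * v
        have hu' : y * (u : G) * y⁻¹ = u := congrArg Subtype.val (show f u = u from hu)
        have hv' : y * (v : G) * y⁻¹ = v := congrArg Subtype.val (show f v = v from hv)
        apply Subtype.ext
        show y * ((u * v : ↥R) : G) * y⁻¹ = ((u * v : ↥R) : G)
        rw [Subgroup.coe_mul]
        calc y * ((u : G) * v) * y⁻¹ = (y * u * y⁻¹) * (y * v * y⁻¹) := by group
          _ = u * v := by rw [hu', hv']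
      inv_mem' := by
        intro u hu
        show f u⁻¹ = u⁻¹
        have hu' : y * (u : G) * y⁻¹ = u := congrArg Subtype.val (show f u = u from hu)
        apply Subtype.ext
        show y * ((u⁻¹ : ↥R) : G) * y⁻¹ = ((u⁻¹ : ↥R) : G)
        rw [Subgroup.coe_inv]
        calc y * (u : G)⁻¹ * y⁻¹ = (y * u * y⁻¹)⁻¹ := by group
          _ = (u : G)⁻¹ := by rw [hu'] }
  have hCcard : Fintype.card (Function.fixedPoints f) = Nat.card ↥C := by
    rw [← Nat.card_eq_fintype_card]
    rfl
  have hRcard : Fintype.card ↥R = 8 := by rw [← Nat.card_eq_fintype_card, hcard]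
  rw [hCcard, hRcard] at hmod
  have hdvd : Nat.card ↥C ∣ 8 := by
    rw [← hcard]; exact Subgroup.card_subgroup_dvd_card C
  have hne1 : Nat.card ↥C ≠ 1 := by
    intro h1
    have hbot : C = ⊥ := Subgroup.card_eq_one.1 h1
    have hzC : (⟨z, hzR⟩ : ↥R) ∈ C := by
      show f ⟨z, hzR⟩ = ⟨z, hzR⟩
      apply Subtype.ext
      exact hzy
    rw [hbot, Subgroup.mem_bot] at hzC
    exact hz1 (congrArg Subtype.val hzC)
  have hle : Nat.card ↥C ≤ 8 := Nat.le_of_dvd (by norm_num) hdvd
  have hdvd2 : r ∣ 8 - Nat.card ↥C := (Nat.modEq_iff_dvd' hle).1 hmod.symm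
  have hC8 : Nat.card ↥C = 8 := by
    by_contra hne
    have hpos : 0 < 8 - Nat.card ↥C := by omega
    have hle2 := Nat.le_of_dvd hpos hdvd2
    have hc0 : Nat.card ↥C ≠ 0 := fun h0 => by rw [h0] at hdvd; omega
    -- card ∈ {2, 4}
    have : Nat.card ↥C = 2 ∨ Nat.card ↥C = 4 := by
      have hmem : Nat.card ↥C ∈ Nat.divisors 8 := Nat.mem_divisors.2 ⟨hdvd, by norm_num⟩
      have hdiv : Nat.divisors 8 = {1, 2, 4, 8} := by decide
      rw [hdiv] at hmem
      simp only [Finset.mem_insert, Finset.mem_singleton] at hmem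
      rcases hmem with h | h | h | h
      · exact absurd h hne1
      · exact Or.inl h
      · exact Or.inr h
      · exact absurd h hne
    rcases this with h2 | h4
    · rw [h2] at hdvd2
      have : r ≤ 6 := Nat.le_of_dvd (by norm_num) hdvd2
      interval_cases r
      · omega
      · exact absurd hr.out (by norm_num)
    · rw [h4] at hdvd2
      have : r ≤ 4 := Nat.le_of_dvd (by norm_num) hdvd2
      omega
  have hCtop : C = ⊤ := Subgroup.eq_top_of_card_eq C (by rw [hC8, hcard])
  intro h hh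
  have : (⟨h, hh⟩ : ↥R) ∈ C := by rw [hCtop]; exact Subgroup.mem_top _
  exact congrArg Subtype.val (show f ⟨h, hh⟩ = ⟨h, hh⟩ from this)

end generic

section mat

variable {F : Type*} [Field F]

/-- the cube of a `2 × 2` matrix of determinant one. -/
theorem cube_eq (X : Matrix (Fin 2) (Fin 2) F) (hdet : X.det = 1) :
    X * X * X = (X.trace ^ 2 - 1) • X - X.trace • (1 : Matrix (Fin 2) (Fin 2) F) := by
  have h := ch2 X
  rw [hdet, one_smul] at h
  rw [h, sub_mul, one_mul, smul_mul_assoc, h, smul_sub, smul_smul, sub_smul, one_smul, sq]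
  abel

theorem trace_sq_of_cube (X : Matrix (Fin 2) (Fin 2) F) (hdet : X.det = 1) (z : F)
    (h3 : X * X * X = z • (1 : Matrix (Fin 2) (Fin 2) F))
    (hns : ∀ c : F, X ≠ c • (1 : Matrix (Fin 2) (Fin 2) F)) : X.trace ^ 2 = 1 := by
  by_contra hne
  have hne' : X.trace ^ 2 - 1 ≠ 0 := sub_ne_zero.2 hne
  have h := cube_eq X hdet
  rw [h3] at h
  have h2 : (X.trace ^ 2 - 1) • X = (z + X.trace) • (1 : Matrix (Fin 2) (Fin 2) F) := by
    rw [add_smul, h]; abel
  apply hns ((X.trace ^ 2 - 1)⁻¹ * (z + X.trace))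
  rw [mul_smul, ← h2, smul_smul, inv_mul_cancel₀ hne', one_smul]

theorem trace_of_sq (X : Matrix (Fin 2) (Fin 2) F) (hdet : X.det = 1) (z : F)
    (h2 : X * X = z • (1 : Matrix (Fin 2) (Fin 2) F))
    (hns : ∀ c : F, X ≠ c • (1 : Matrix (Fin 2) (Fin 2) F)) : X.trace = 0 := by
  by_contra hne
  have h := ch2 X
  rw [hdet, one_smul, h2] at h
  have h' : X.trace • X = (z + 1) • (1 : Matrix (Fin 2) (Fin 2) F) := by
    rw [add_smul, h, one_smul]; abel
  apply hns (X.trace⁻¹ * (z + 1))
  rw [mul_smul, ← h', smul_smul, inv_mul_cancel₀ hne, one_smul]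

theorem conj_into (N : Subgroup (GL (Fin 2) F)) (x : GL (Fin 2) F)
    (hx : (x : Matrix (Fin 2) (Fin 2) F).det = 1) (s : SpecialLinearGroup (Fin 2) F)
    (hs : SpecialLinearGroup.toGL s ∈ N) (hc : IsConj s (toSL x hx)) :
    ∃ g ∈ Cfsg.Geo.specialLinear (Fin 2) F, g⁻¹ * x * g ∈ N := by
  obtain ⟨c, hc⟩ := isConj_iff.1 hc
  refine ⟨SpecialLinearGroup.toGL c, toGL_mem c, ?_⟩
  have : (SpecialLinearGroup.toGL c)⁻¹ * x * SpecialLinearGroup.toGL c =
      SpecialLinearGroup.toGL s := by
    rw [← toGL_toSL x hx, ← hc, map_mul, map_mul, map_inv]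
    group
  rw [this]; exact hs

end mat

section main

variable {F : Type*} [Field F] [Fintype F]
variable {R : Subgroup (GL (Fin 2) F)} {a b : SpecialLinearGroup (Fin 2) F}

/-- involutions of `PSL₂` are conjugate into the normalizer of `R`. -/
theorem conj_of_sq (hF : ringChar F ≠ 2) (hq : QData R a b) (x : GL (Fin 2) F)
    (hx : x ∈ Cfsg.Geo.specialLinear (Fin 2) F) (z : F)
    (hz : ((x ^ 2 : GL (Fin 2) F) : Matrix (Fin 2) (Fin 2) F) =
      z • (1 : Matrix (Fin 2) (Fin 2) F))
    (hns : ∀ z : F, (x : Matrix (Fin 2) (Fin 2) F) ≠ z • (1 : Matrix (Fin 2) (Fin 2) F)) :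
    ∃ g ∈ Cfsg.Geo.specialLinear (Fin 2) F, g⁻¹ * x * g ∈ Cfsg.Geo.subgroupNormalizer R := by
  have hdet := (mem_specialLinear_iff x).1 hx
  rw [Units.val_pow_eq_pow_val, sq] at hz
  have htr := trace_of_sq _ hdet z hz hns
  have hc : IsConj a (toSL x hdet) :=
    SL2TZ.isConj_of_trace_zero hF a (toSL x hdet) hq.tra (by rw [coe_toSL]; exact htr)
  exact conj_into _ x hdet a (le_normalizer R hq.ha) hc

/-- elements of order three of `PSL₂` are conjugate into the normalizer of `R`. -/
theorem conj_of_cube [Finite ↥R] (hF : ringChar F ≠ 2) (h3 : (3 : F) ≠ 0) (hq : QData R a b)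
    (x : GL (Fin 2) F) (hx : x ∈ Cfsg.Geo.specialLinear (Fin 2) F) (z : F)
    (hz : ((x ^ 3 : GL (Fin 2) F) : Matrix (Fin 2) (Fin 2) F) =
      z • (1 : Matrix (Fin 2) (Fin 2) F))
    (hns : ∀ z : F, (x : Matrix (Fin 2) (Fin 2) F) ≠ z • (1 : Matrix (Fin 2) (Fin 2) F)) :
    ∃ g ∈ Cfsg.Geo.specialLinear (Fin 2) F, g⁻¹ * x * g ∈ Cfsg.Geo.subgroupNormalizer R := by
  classical
  have hdet := (mem_specialLinear_iff x).1 hx
  rw [Units.val_pow_eq_pow_val, pow_succ, sq] at hz
  have htr := trace_sq_of_cube _ hdet z hz hns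
  -- the element of order three
  have qp : PSL2Klein.QP a b := ⟨hq.tra, hq.anti⟩
  obtain ⟨t, hta, htb, ht3⟩ := PSL2A4.exists_three hF qp
  set T : GL (Fin 2) F := SpecialLinearGroup.toGL t with hT
  have hTa : T * SpecialLinearGroup.toGL a * T⁻¹ ∈ R := by
    have : T * SpecialLinearGroup.toGL a * T⁻¹ = SpecialLinearGroup.toGL b := by
      rw [hT, ← map_mul, hta, map_mul]; group
    rw [this]; exact hq.hb
  have hTb : T * SpecialLinearGroup.toGL b * T⁻¹ ∈ R := by
    have : T * SpecialLinearGroup.toGL b * T⁻¹ =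
        SpecialLinearGroup.toGL a * SpecialLinearGroup.toGL b := by
      rw [hT, ← map_mul, htb, map_mul, map_mul]; group
    rw [this]; exact R.mul_mem hq.ha hq.hb
  have hTN : T ∈ Cfsg.Geo.subgroupNormalizer R :=
    mem_normalizer_of_conj R T (hq.conj_mem T hTa hTb)
  have hnegN : SpecialLinearGroup.toGL (-t) ∈ Cfsg.Geo.subgroupNormalizer R := by
    have : SpecialLinearGroup.toGL (-t) =
        SpecialLinearGroup.toGL (-1 : SpecialLinearGroup (Fin 2) F) * T := by
      rw [hT, ← map_mul, neg_one_mul]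
    rw [this]
    exact Subgroup.mul_mem _ (le_normalizer R hq.hneg) hTN
  -- the trace of `t`
  set Tm : Matrix (Fin 2) (Fin 2) F := (t : Matrix (Fin 2) (Fin 2) F) with hTm
  have hTdet : Tm.det = 1 := t.2
  have hT3 : Tm * Tm * Tm = (-1 : F) • (1 : Matrix (Fin 2) (Fin 2) F) := by
    have := congrArg (fun s : SpecialLinearGroup (Fin 2) F => (s : Matrix (Fin 2) (Fin 2) F)) ht3
    simp only [Matrix.SpecialLinearGroup.coe_pow, Matrix.SpecialLinearGroup.coe_neg,
      Matrix.SpecialLinearGroup.coe_one] at this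
    rw [pow_succ, sq] at this
    rw [hTm, this, neg_smul, one_smul]
  have hTns : ∀ c : F, Tm ≠ c • (1 : Matrix (Fin 2) (Fin 2) F) := by
    intro c hc
    have hcomm : t * a = a * t := by
      apply Subtype.ext
      show Tm * (a : Matrix (Fin 2) (Fin 2) F) = (a : Matrix (Fin 2) (Fin 2) F) * Tm
      rw [hc, smul_mul_assoc, one_mul, mul_smul_comm, mul_one]
    have hab : a = b := mul_right_cancel (hcomm.symm.trans hta)
    have hanti := hq.anti
    rw [← hab, SL2TZ.mul_self_eq_neg_one_of_trace a hq.tra, neg_neg] at hanti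
    exact SL2TZ.neg_one_ne_one hF hanti
  have hTtr2 := trace_sq_of_cube Tm hTdet (-1) hT3 hTns
  have hTtr : Tm.trace = 1 := by
    have h := cube_eq Tm hTdet
    rw [hT3, hTtr2, sub_self, zero_smul, zero_sub] at h
    have h00 := congrFun (congrFun h 0) 0
    simp only [Matrix.smul_apply, Matrix.one_apply_eq, smul_eq_mul, mul_one,
      Matrix.neg_apply] at h00
    exact (neg_injective h00).symm
  have h14 : (1 : F) ^ 2 ≠ 4 := by
    intro h
    apply h3
    linear_combination (-1 : F) * h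
  -- the trace of `x`
  have hcases : (x : Matrix (Fin 2) (Fin 2) F).trace = 1 ∨
      (x : Matrix (Fin 2) (Fin 2) F).trace = -1 := by
    have : ((x : Matrix (Fin 2) (Fin 2) F).trace - 1) *
        ((x : Matrix (Fin 2) (Fin 2) F).trace + 1) = 0 := by
      linear_combination htr
    rcases mul_eq_zero.1 this with h | h
    · left; exact sub_eq_zero.1 h
    · right; exact eq_neg_of_add_eq_zero_left h
  rcases hcases with h1 | h1
  · have hc : IsConj t (toSL x hdet) :=
      Cfsg.Agent.Helper12.SL2_isConj_of_trace_sq_ne hF t (toSL x hdet)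
        (by rw [← hTm, hTtr]; exact h14) (by rw [← hTm, hTtr, coe_toSL, h1])
    exact conj_into _ x hdet t hTN hc
  · have hc : IsConj t (-(toSL x hdet)) :=
      Cfsg.Agent.Helper12.SL2_isConj_of_trace_sq_ne hF t (-(toSL x hdet))
        (by rw [← hTm, hTtr]; exact h14)
        (by rw [← hTm, hTtr, SpecialLinearGroup.coe_neg, Matrix.trace_neg, coe_toSL, h1, neg_neg])
    have hc' : IsConj (-t) (toSL x hdet) := by
      obtain ⟨c, hc⟩ := isConj_iff.1 hc
      rw [isConj_iff]
      refine ⟨c, ?_⟩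
      rw [mul_neg, neg_mul, hc, neg_neg]
    exact conj_into _ x hdet (-t) hnegN hc'

/-- an element of prime order at least five that is conjugate into the normalizer of `R` is a
scalar. -/
theorem scalar_of_conj_mem (h2 : (2 : F) ≠ 0) (hcard : Nat.card ↥R = 8) (hq : QData R a b)
    (r : ℕ) [Fact r.Prime] (hr5 : 5 ≤ r) (x : GL (Fin 2) F) (hxr : x ^ r = 1)
    (g : GL (Fin 2) F) (hy : g⁻¹ * x * g ∈ Cfsg.Geo.subgroupNormalizer R) :
    ∃ c : F, (x : Matrix (Fin 2) (Fin 2) F) = c • (1 : Matrix (Fin 2) (Fin 2) F) := by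
  set y : GL (Fin 2) F := g⁻¹ * x * g with hydef
  have hyr : y ^ r = 1 := by
    have : y = g⁻¹ * x * (g⁻¹)⁻¹ := by rw [inv_inv]
    rw [this, conj_pow, hxr, mul_one, mul_inv_cancel]
  have hz1 : SpecialLinearGroup.toGL (-1 : SpecialLinearGroup (Fin 2) F) ≠ 1 := by
    intro h
    have h00 := congrArg (fun u : GL (Fin 2) F => (u : Matrix (Fin 2) (Fin 2) F) 0 0) h
    simp only [coe_toGL, Matrix.SpecialLinearGroup.coe_neg, Matrix.SpecialLinearGroup.coe_one,
      Matrix.neg_apply, Matrix.one_apply_eq, Units.val_one] at h00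
    apply h2
    linear_combination (-1 : F) * h00
  have hcent := centralizes_of_prime_order R hcard y hy r hr5 hyr _ hq.hneg hz1
    (toGL_neg_one_comm y)
  have hya := hcent _ hq.ha
  have hyb := hcent _ hq.hb
  have hya' : y * SpecialLinearGroup.toGL a = SpecialLinearGroup.toGL a * y := by
    have := congrArg (· * y) hya
    simpa [mul_assoc] using this
  have hyb' : y * SpecialLinearGroup.toGL b = SpecialLinearGroup.toGL b * y := by
    have := congrArg (· * y) hyb
    simpa [mul_assoc] using this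
  have mA : (y : Matrix (Fin 2) (Fin 2) F) * (a : Matrix (Fin 2) (Fin 2) F) =
      (a : Matrix (Fin 2) (Fin 2) F) * (y : Matrix (Fin 2) (Fin 2) F) := by
    have := congrArg (fun u : GL (Fin 2) F => (u : Matrix (Fin 2) (Fin 2) F)) hya'
    simpa only [Units.val_mul, coe_toGL] using this
  have mB : (y : Matrix (Fin 2) (Fin 2) F) * (b : Matrix (Fin 2) (Fin 2) F) =
      (b : Matrix (Fin 2) (Fin 2) F) * (y : Matrix (Fin 2) (Fin 2) F) := by
    have := congrArg (fun u : GL (Fin 2) F => (u : Matrix (Fin 2) (Fin 2) F)) hyb'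
    simpa only [Units.val_mul, coe_toGL] using this
  have hAA : (a : Matrix (Fin 2) (Fin 2) F) * (a : Matrix (Fin 2) (Fin 2) F) = -1 := by
    have := congrArg (fun s : SpecialLinearGroup (Fin 2) F => (s : Matrix (Fin 2) (Fin 2) F))
      (SL2TZ.mul_self_eq_neg_one_of_trace a hq.tra)
    simpa only [Matrix.SpecialLinearGroup.coe_mul, Matrix.SpecialLinearGroup.coe_neg,
      Matrix.SpecialLinearGroup.coe_one] using this
  have hBA : (b : Matrix (Fin 2) (Fin 2) F) * (a : Matrix (Fin 2) (Fin 2) F) =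
      -((a : Matrix (Fin 2) (Fin 2) F) * (b : Matrix (Fin 2) (Fin 2) F)) := by
    have := congrArg (fun s : SpecialLinearGroup (Fin 2) F => (s : Matrix (Fin 2) (Fin 2) F))
      hq.anti
    simpa only [Matrix.SpecialLinearGroup.coe_mul, Matrix.SpecialLinearGroup.coe_neg] using this
  have hBu : IsUnit (b : Matrix (Fin 2) (Fin 2) F).det := by
    rw [b.2]; exact isUnit_one
  obtain ⟨c, hc⟩ := scalar_of_commute h2 _ _ _ hAA hq.tra hBA hBu mA mB
  refine ⟨c, ?_⟩
  have hx : x = g * y * g⁻¹ := by rw [hydef]; group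
  rw [hx, Units.val_mul, Units.val_mul, hc, mul_smul_comm, mul_one, smul_mul_assoc,
    ← Units.val_mul, mul_inv_cancel, Units.val_one]

end main

end Cfsg.Agent.Helper13.Q8N
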