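import Mathlib
import Cfsg.Agent.Lib.Helper15.S74Defs
import Cfsg.Agent.Lib.Helper20.S62CARDFIB
import Cfsg.Agent.Lib.Helper25.S62PARITY

/-!
# S2474, piece S74-NXCOM2: `nxC_orth_count`
-/

set_option autoImplicit false

open Cfsg.Agent.Helper15.S62

namespace Cfsg.Agent.Helper15.S74

universe u

variable {F : Type u} [Field F]

theorem s74_nxcom2_pow_neg {V : Type u} [AddCommGroup V] [Module F V] (z : Module.End F V)
    (w : V) (hzw : z w = -w) : ∀ j : ℕ, (z ^ j) w = (-1 : F) ^ j • w := by
  intro j
  induction j with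
  | zero => simp
  | succ k ih =>
    rw [pow_succ', Module.End.mul_apply, ih, map_smul, hzw, pow_succ]
    simp

theorem s74_nxcom2_pow_fix {V : Type u} [AddCommGroup V] [Module F V] (z : Module.End F V)
    (x : V) (hzx : z x = x) : ∀ j : ℕ, (z ^ j) x = x := by
  intro j
  induction j with
  | zero => simp
  | succ k ih => rw [pow_succ', Module.End.mul_apply, ih, hzx]

/-- S74-NXCOM2 -/
theorem nxC_orth_count [Fintype F] {V : Type u} [AddCommGroup V] [Module F V]
    [FiniteDimensional F V] (h2 : (2 : F) ≠ 0) (hq : Odd (Fintype.card F))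
    (B : LinearMap.BilinForm F V)
    (hsymm : ∀ a b, B a b = B b a) (C W : Submodule F V) (hCW : IsCompl C W)
    (horth : ∀ w ∈ W, ∀ x ∈ C, B w x = 0) (z : Module.End F V) (hzC : ∀ x ∈ C, z x = x)
    (hzW : ∀ w ∈ W, z w = -w) (E n : ℕ) (hn : 1 ≤ n)
    (hcnt : ∀ c : F, c ≠ 0 → Nat.card {w : W // B (w : V) (w : V) = c} =
      E * Fintype.card F ^ (n - 1))
    (hcnt0 : ∃ n₀ : ℕ, Nat.card {w : W // w ≠ 0 ∧ B (w : V) (w : V) = 0} = E * n₀)
    (c : F) (hc : c ≠ 0) :
    (∀ v : V, z v = v ∨ ∀ j : ℕ, (z ^ j) v = v → 2 ∣ j) ∧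
      ∃ d : ℕ, Odd d ∧ Nat.card {v : V // B v v = c ∧ z v ≠ v} = E * d := by
  classical
  have hneg0 : ∀ w : V, -w = w → w = 0 := by
    intro w hw
    have h : (2 : F) • w = 0 := by
      rw [two_smul]
      nth_rewrite 1 [← hw]
      exact neg_add_cancel w
    rcases smul_eq_zero.mp h with h | h
    · exact absurd h h2
    · exact h
  have hdec : ∀ v : V, ∃ x ∈ C, ∃ w ∈ W, x + w = v := by
    intro v
    have : v ∈ C ⊔ W := by rw [hCW.sup_eq_top]; trivial
    exact Submodule.mem_sup.mp this
  have hWinv : ∀ w ∈ W, z w ∈ W := fun w hw => by rw [hzW w hw]; exact W.neg_mem hw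
  have hfree : ∀ w ∈ W, z w = w → w = 0 := fun w hw h => hneg0 w (by rw [← hzW w hw, h])
  refine ⟨?_, ?_⟩
  · intro v
    obtain ⟨x, hx, w, hw, rfl⟩ := hdec v
    by_cases hw0 : w = 0
    · left
      rw [hw0, add_zero]
      exact hzC x hx
    · right
      intro j hj
      rw [map_add, s74_nxcom2_pow_fix z x (hzC x hx), s74_nxcom2_pow_neg z w (hzW w hw)] at hj
      have hj' : (-1 : F) ^ j • w = w := add_left_cancel hj
      rcases Nat.even_or_odd j with he | ho
      · exact he.two_dvd
      · exfalso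
        rw [ho.neg_one_pow, neg_one_smul] at hj'
        exact hw0 (hneg0 w hj')
  · haveI : Finite V := Module.finite_of_finite F
    letI : Fintype C := Fintype.ofFinite C
    obtain ⟨n₀, hn₀⟩ := hcnt0
    set q := Fintype.card F with hqdef
    set nf : F → ℕ := fun a => if a = 0 then n₀ else q ^ (n - 1) with hnf
    have hcountW : ∀ a : F, Nat.card {w : W // w ≠ 0 ∧ B (w : V) (w : V) = a} = E * nf a := by
      intro a
      by_cases ha : a = 0
      · rw [hnf]
        simp only [ha, if_true]
        exact hn₀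
      · rw [hnf]
        simp only [ha, if_false]
        rw [← hcnt a ha]
        apply Nat.card_congr
        refine Equiv.subtypeEquivRight ?_
        intro x
        constructor
        · intro h; exact h.2
        · intro h
          refine ⟨?_, h⟩
          intro hx
          rw [hx] at h
          simp at h
          exact ha h.symm
    have hcard := card_moved B hsymm C W hCW horth z hzC hWinv hfree c
    rw [hcard, finsum_eq_sum_of_fintype]
    simp_rw [hcountW]
    rw [← Finset.mul_sum]
    refine ⟨∑ x : C, nf (c - B (x : V) (x : V)), ?_, rfl⟩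
    apply odd_sum_of_neg_invariant h2 (fun x : C => B (x : V) (x : V)) (by simp)
      (by intro x; simp) nf c
    rw [hnf]
    simp only [hc, if_false]
    exact hq.pow

end Cfsg.Agent.Helper15.S74
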