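import Mathlib
import Cfsg.Prelude.Def_Classical
import Cfsg.Agent.Lib.Helper15.S74Defs
import Cfsg.Agent.Lib.Helper21.S74ODefs
import Cfsg.Agent.Lib.Helper13.OrthEmbed
import Cfsg.Agent.Lib.Helper17.OmegaAll
import Cfsg.Agent.Lib.Helper2.OrthPOmega

/-!
# S2474 T3, piece S74O-MINUSFORM: `exists_minus_form`
-/

set_option autoImplicit false

namespace Cfsg.Agent.Helper15.S74

open QuadraticMap

universe u v w

section pieces

variable {F : Type u} [Field F]

/-- PIECE S74O-MINUSFORM. -/
theorem exists_minus_form {K : Type v} [Field K] [Algebra F K] [FiniteDimensional F K]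
    (h2 : (2 : F) ≠ 0) (σ : K →ₐ[F] K) (hσ : ∀ x, σ (σ x) = x) (l : K) (hl : l * σ l = 1) :
    ∃ (Q : QuadraticForm F K) (A : Module.End F K),
      (polarBilin Q).Nondegenerate ∧ (∀ x, Q (A x) = Q x) ∧ orderOf A = orderOf l := by
  have hz : (1 : K) + σ 1 ≠ 0 := by
    rw [map_one, one_add_one_eq_two]
    intro h
    apply h2
    have h' : algebraMap F K 2 = algebraMap F K 0 := by
      rw [map_ofNat, map_zero]; exact h
    exact (algebraMap F K).injective h'
  obtain ⟨τ', hτ'⟩ := Module.Projective.exists_dual_ne_zero F hz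
  set τ : K →ₗ[F] F := τ' + τ' ∘ₗ σ.toLinearMap with hτ
  have hτa : ∀ x, τ x = τ' x + τ' (σ x) := fun x => rfl
  have hτ0 : τ ≠ 0 := by
    intro h
    apply hτ'
    have := LinearMap.congr_fun h (1 : K)
    rw [hτa, ← map_add] at this
    exact this
  set B : LinearMap.BilinForm F K :=
    LinearMap.mk₂ F (fun u v => τ' (u * σ v))
      (by intro a b c; rw [add_mul, map_add])
      (by intro c a b; rw [smul_mul_assoc, map_smul])
      (by intro a b c; rw [map_add, mul_add, map_add])
      (by intro c a b; rw [map_smul, mul_smul_comm, map_smul]) with hB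
  have hBa : ∀ u v : K, B u v = τ' (u * σ v) := fun u v => rfl
  set Q : QuadraticForm F K := LinearMap.BilinMap.toQuadraticMap B with hQ
  have hQa : ∀ u : K, Q u = τ' (u * σ u) := by
    intro u
    rw [hQ, LinearMap.BilinMap.toQuadraticMap_apply, hBa]
  have hpol : ∀ u v : K, polar Q u v = τ (u * σ v) := by
    intro u v
    have e : σ (u * σ v) = v * σ u := by rw [map_mul σ, hσ, mul_comm]
    rw [hQ, LinearMap.BilinMap.polar_toQuadraticMap, hBa, hBa, hτa, e]
  refine ⟨Q, Algebra.lmul F K l, ?_, ?_, ?_⟩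
  · apply Cfsg.Agent.Helper13.nondeg_of_polar
    intro x hx
    by_contra hx0
    apply hτ0
    apply LinearMap.ext
    intro w
    have := hx (σ (x⁻¹ * w))
    rw [hpol, hσ, ← mul_assoc, mul_inv_cancel₀ hx0, one_mul] at this
    rw [this]
    rfl
  · intro u
    rw [hQa, hQa]
    show τ' (l * u * σ (l * u)) = _
    have e0 : σ (l * u) = σ l * σ u := map_mul σ l u
    rw [e0]
    congr 1
    calc l * u * (σ l * σ u) = (l * σ l) * (u * σ u) := by ring
      _ = u * σ u := by rw [hl, one_mul]
  · exact orderOf_injective ((Algebra.lmul F K : K →ₐ[F] Module.End F K) : K →* Module.End F K)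
      Algebra.lmul_injective l

end pieces

end Cfsg.Agent.Helper15.S74
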