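import Mathlib
import Cfsg.Agent.S0721
import Cfsg.Agent.S3680

/-!
# S3493 (extremely primitive ⇒ affine or almost simple): shared definitions

All pieces `S93-*` import this file.  Everything lives in `Cfsg.Agent.Helper13.S93`.
-/

set_option autoImplicit false

namespace Cfsg.Agent.Helper13.S93

open MulAction Cfsg.Agent.S0721

universe u v

/-! ## Part Z: a group `K` acting on a simple group `T` by (anti-)automorphisms -/

section Z

variable {T : Type u} {K : Type v} [Group T] [Group K]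

/-- the stabilizer in `K` of the point `x : T` under `β`. -/
def stabB (β : K →* Equiv.Perm T) (x : T) : Subgroup K where
  carrier := {k | β k x = x}
  mul_mem' := by
    intro a b ha hb
    simp only [Set.mem_setOf_eq] at ha hb ⊢
    rw [map_mul, Equiv.Perm.mul_apply, hb, ha]
  one_mem' := by simp
  inv_mem' := by
    intro a ha
    simp only [Set.mem_setOf_eq] at ha ⊢
    rw [map_inv, Equiv.Perm.inv_eq_iff_eq, ha]

theorem mem_stabB (β : K →* Equiv.Perm T) (x : T) (k : K) : k ∈ stabB β x ↔ β k x = x := Iff.rfl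

/-- the setwise stabilizer in `K` of the subgroup `S ≤ T` under `β`. -/
def sstabB (β : K →* Equiv.Perm T) (S : Subgroup T) : Subgroup K where
  carrier := {k | ∀ y, β k y ∈ S ↔ y ∈ S}
  mul_mem' := by
    intro a b ha hb
    simp only [Set.mem_setOf_eq] at ha hb ⊢
    intro y
    rw [map_mul, Equiv.Perm.mul_apply, ha, hb]
  one_mem' := by simp
  inv_mem' := by
    intro a ha
    simp only [Set.mem_setOf_eq] at ha ⊢
    intro y
    rw [← ha ((β a⁻¹) y), map_inv]
    simp

theorem mem_sstabB (β : K →* Equiv.Perm T) (S : Subgroup T) (k : K) :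
    k ∈ sstabB β S ↔ ∀ y, β k y ∈ S ↔ y ∈ S := Iff.rfl

/-- The hypotheses of the abstract Lemma Z*. -/
structure ZHyp (β : K →* Equiv.Perm T) : Prop where
  simple : IsSimpleGroup T
  noncomm : ∃ a b : T, a * b ≠ b * a
  autlike : ∀ k : K, (∀ x y : T, β k (x * y) = β k x * β k y) ∨
    (∀ x y : T, β k (x * y) = β k y * β k x)
  inner : ∀ g : T, ∃ k : K, ∀ y : T, β k y = g * y * g⁻¹
  maxi : ∀ x : T, x ≠ 1 → ∀ L : Subgroup K, stabB β x ≤ L → L = stabB β x ∨ L = ⊤

/-- `F_x`: the set of points fixed by the stabilizer of `x`. -/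
def Fset (β : K →* Equiv.Perm T) (x : T) : Set T := {y | stabB β x ≤ stabB β y}

theorem mem_Fset (β : K →* Equiv.Perm T) (x y : T) : y ∈ Fset β x ↔ stabB β x ≤ stabB β y :=
  Iff.rfl

theorem self_mem_Fset (β : K →* Equiv.Perm T) (x : T) : x ∈ Fset β x :=
  (mem_Fset β x x).mpr (le_refl _)

theorem one_mem_Fset_of (β : K →* Equiv.Perm T) (x : T) (h1 : ∀ k, β k 1 = 1) :
    (1 : T) ∈ Fset β x := fun k _ => h1 k

end Z

/-! ## Part R: the permutation group -/

section R

variable {G : Type u} [Group G] {Ω : Type v} [MulAction G Ω]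

/-- no subgroup strictly between `G_α ∩ G_ω` and `G_α`. -/
def NoBetween (G : Type u) [Group G] {Ω : Type v} [MulAction G Ω] (α : Ω) : Prop :=
  ∀ (ω : Ω) (L : Subgroup G), stabilizer G α ⊓ stabilizer G ω ≤ L → L ≤ stabilizer G α →
    L = stabilizer G α ⊓ stabilizer G ω ∨ L = stabilizer G α

/-- The context of the non-affine case: `N` a non-commutative minimal normal subgroup of the
primitive group `G`, `T` a minimal normal subgroup of `N`, `α` a point with `NoBetween`. -/
structure BCtx (α : Ω) (N T : Subgroup G) : Prop where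
  prim : IsPreprimitive G Ω
  nb : NoBetween G α
  normal : N.Normal
  min : ∀ M : Subgroup G, M.Normal → M ≤ N → M = ⊥ ∨ M = N
  noncomm : ∃ a ∈ N, ∃ b ∈ N, a * b ≠ b * a
  minIn : IsMinIn N T

/-- `t` lies in the projection to `T` of `G_α ∩ N` (for `t ∈ T`; `E = N ∩ C(T)`). -/
def Proj (α : Ω) (N T : Subgroup G) (t : G) : Prop :=
  ∃ e ∈ N ⊓ Subgroup.centralizer (T : Set G), t * e ∈ stabilizer G α

/-- `T'` is a partner of `T`: another conjugate such that `G_α ∩ (T T') ≠ 1`. -/
def IsPartner (α : Ω) (T T' : Subgroup G) : Prop :=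
  T' ≠ T ∧ (∃ g : G, T' = cj g T) ∧ stabilizer G α ⊓ (T ⊔ T') ≠ ⊥

theorem stab_smul_iff (α : Ω) (n k : G) (hk : k ∈ stabilizer G α) :
    k ∈ stabilizer G (n • α) ↔ k⁻¹ * n⁻¹ * k * n ∈ stabilizer G α := by
  rw [mem_stabilizer_iff] at hk
  rw [mem_stabilizer_iff, mem_stabilizer_iff]
  constructor
  · intro h
    rw [mul_smul, mul_smul, mul_smul, h, inv_smul_smul]
    rw [inv_smul_eq_iff, hk]
  · intro h
    rw [mul_smul, mul_smul, mul_smul, inv_smul_eq_iff, hk, inv_smul_eq_iff] at h
    exact h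

theorem cj_eq_self_iff (k : G) (T : Subgroup G) :
    cj k T = T ↔ k ∈ Subgroup.normalizer (T : Set G) := by
  rw [Subgroup.mem_normalizer_iff]
  constructor
  · intro h x
    constructor
    · intro hx
      rw [← h, mem_cj]
      have : k⁻¹ * (k * x * k⁻¹) * k = x := by group
      rw [this]; exact hx
    · intro hx
      rw [← h, mem_cj] at hx
      have : k⁻¹ * (k * x * k⁻¹) * k = x := by group
      rw [this] at hx; exact hx
  · intro h
    ext x
    rw [mem_cj, h (k⁻¹ * x * k)]
    have : k * (k⁻¹ * x * k) * k⁻¹ = x := by group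
    rw [this]

theorem conj_mem_cj (k : G) (T : Subgroup G) (t : G) (ht : t ∈ T) : k * t * k⁻¹ ∈ cj k T := by
  rw [mem_cj]
  have : k⁻¹ * (k * t * k⁻¹) * k = t := by group
  rw [this]; exact ht

theorem BCtx.simpleT {α : Ω} {N T : Subgroup G} (h : BCtx α N T) : IsSimpleGroup T :=
  haveI := h.normal
  isSimpleGroup_of_isMinIn N h.min h.minIn

theorem BCtx.ne_bot {α : Ω} {N T : Subgroup G} (h : BCtx α N T) : N ≠ ⊥ := by
  intro hN
  obtain ⟨a, ha, b, hb, hab⟩ := h.noncomm
  rw [hN, Subgroup.mem_bot] at ha hb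
  rw [ha, hb] at hab
  exact hab rfl

end R

end Cfsg.Agent.Helper13.S93
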