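import Mathlib
import Cfsg.Agent.Lib.Helper13.S93Defs
import Cfsg.Agent.S0035
import Cfsg.Agent.S0658
import Cfsg.Agent.S0659
import Cfsg.Agent.Lib.S93.S93ZBASIC
import Cfsg.Agent.Lib.S93.S93ZCENTER
import Cfsg.Agent.Lib.S93.S93ZPOW
import Cfsg.Agent.Lib.S93.S93ZF
import Cfsg.Agent.Lib.S93.S93ZNORMSTAB
import Cfsg.Agent.Lib.S93.S93ZTI
import Cfsg.Agent.Lib.S93.S93ZFROB
import Cfsg.Agent.Lib.S93.S93ZNT
import Cfsg.Agent.Lib.S93.S93ZPAIR
import Cfsg.Agent.Lib.S93.S93ZPRIME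
import Cfsg.Agent.Lib.S93.S93ZCPG
import Cfsg.Agent.Lib.S93.S93ZNOTP
import Cfsg.Agent.Lib.S93.S93ZSYLCENT
import Cfsg.Agent.Lib.S93.S93ZSSTAB
import Cfsg.Agent.Lib.S93.S93ZCHAR
import Cfsg.Agent.Lib.S93.S93ZNPC
import Cfsg.Agent.Lib.S93.S93RNB
import Cfsg.Agent.Lib.S93.S93RMINN
import Cfsg.Agent.Lib.S93.S93RCOATOM
import Cfsg.Agent.Lib.S93.S93RDICH
import Cfsg.Agent.Lib.S93.S93RNONCOMMT
import Cfsg.Agent.Lib.S93.S93RCENTERN
import Cfsg.Agent.Lib.S93.S93RFACTOR
import Cfsg.Agent.Lib.S93.S93RDECOMP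
import Cfsg.Agent.Lib.S93.S93B1STAB
import Cfsg.Agent.Lib.S93.S93B1PROJ
import Cfsg.Agent.Lib.S93.S93B1TRIV
import Cfsg.Agent.Lib.S93.S93B1R
import Cfsg.Agent.Lib.S93.S93B1FINAL
import Cfsg.Agent.Lib.S93.S93B2INF
import Cfsg.Agent.Lib.S93.S93B2PPROJ
import Cfsg.Agent.Lib.S93.S93B2PUNIQ
import Cfsg.Agent.Lib.S93.S93B2STAB
import Cfsg.Agent.Lib.S93.S93B2NOPART
import Cfsg.Agent.Lib.S93.S93B2FAR
import Cfsg.Agent.Lib.S93.S93B2PSYMM
import Cfsg.Agent.Lib.S93.S93B2REG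
import Cfsg.Agent.Lib.S93.S93B2BETAL
import Cfsg.Agent.Lib.S93.S93B2SWAP
import Cfsg.Agent.Lib.S93.S93RBETA
import Cfsg.Agent.Lib.S93.S93RMAXI
import Cfsg.Agent.Lib.S93.S93AREG

set_option autoImplicit false

namespace Cfsg.Agent.Helper13.S93

open MulAction Cfsg.Agent.S0721

universe u v

section Z

variable {T : Type u} {K : Type v} [Group T] [Group K] {β : K →* Equiv.Perm T}

/-- Lemma Z*. -/
theorem zstar [Finite T] (h : ZHyp β) : False := by
  obtain ⟨p, hp, hp2, hpd⟩ := exists_odd_prime h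
  haveI : Fact p.Prime := ⟨hp⟩
  obtain ⟨P⟩ : Nonempty (Sylow p T) := inferInstance
  obtain ⟨z, hzP, hz1, hzc⟩ := sylow_centralizer h p hpd P
  have hcent : Subgroup.centralizer {z} = (P : Subgroup T) := by
    ext g
    rw [Subgroup.mem_centralizer_iff, ← hzc g]
    constructor
    · intro hg; exact (hg z rfl).symm
    · intro hg y hy
      rw [Set.mem_singleton_iff] at hy
      rw [hy]; exact hg.symm
  have hPbot : (P : Subgroup T) ≠ ⊥ := by
    intro hb
    rw [hb, Subgroup.mem_bot] at hzP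
    exact hz1 hzP
  have hPtop : (P : Subgroup T) ≠ ⊤ := by
    intro ht
    apply not_pgroup h p
    have := P.isPGroup'
    rw [ht] at this
    intro g
    obtain ⟨k, hk⟩ := this ⟨g, Subgroup.mem_top g⟩
    exact ⟨k, by simpa [Subtype.ext_iff] using hk⟩
  have h1 : stabB β z ≤ sstabB β (P : Subgroup T) := by
    have := stab_le_sstab_centralizer h z
    rwa [hcent] at this
  have h2 : sstabB β (P : Subgroup T) = stabB β z := sstab_eq h z hz1 _ hPbot hPtop h1
  set W := Cfsg.centerThompsonAOf (P : Subgroup T) with hW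
  have hWP : W ≤ (P : Subgroup T) := Cfsg.Agent.S0658.centerThompsonAOf_le_self _
  have hWbot : W ≠ ⊥ := Cfsg.Agent.S0658.centerThompsonAOf_ne_bot (p := p) _ P.isPGroup' hPbot
  have hWtop : W ≠ ⊤ := by
    intro ht
    apply hPtop
    rw [eq_top_iff, ← ht]; exact hWP
  have h3 : stabB β z ≤ sstabB β W := by
    rw [← h2]; exact char_invariance h _
  have h4 : sstabB β W = stabB β z := sstab_eq h z hz1 _ hWbot hWtop h3
  have h5 : Subgroup.normalizer (W : Set T) ≤ (P : Subgroup T) := by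
    intro g hg
    rw [← hzc g]
    exact normalizer_le h z W h4 g hg
  have h6 : IsPGroup p ↥(Subgroup.normalizer (W : Set T)) := P.isPGroup'.to_le h5
  have h7 := npc_of_pgroup (p := p) ↥(Subgroup.normalizer (W : Set T)) h6
  have h8 := Cfsg.Agent.S0659.result hp2 P h7
  exact no_npc h p hpd h8

end Z

section R

variable {G : Type u} [Group G] {Ω : Type v} [MulAction G Ω] {α : Ω} {N T : Subgroup G}

theorem b1_contra [Finite G] [FaithfulSMul G Ω] (h : BCtx α N T) (hTN : T ≠ N) (t₀ : G)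
    (ht₀ : t₀ ∈ T) (hnp : ¬ Proj α N T t₀) : False := by
  have hproj := b1_proj_trivial h hTN t₀ ht₀ hnp
  have hR := b1_R_trivial h hproj
  exact b1_final h hTN hR (b1_L_centralizes h hTN hproj hR)

theorem swap_zhyp [Finite G] [FaithfulSMul G Ω] (h : BCtx α N T)
    (hproj : ∀ t ∈ T, Proj α N T t) (T₂ : Subgroup G) (hp : IsPartner α T T₂)
    (hN : T ⊔ T₂ = N) (β : ↥(stabilizer G α) →* Equiv.Perm ↥T)
    (hβ : ∀ (k : ↥(stabilizer G α)) (t : ↥T), ((β k t : ↥T) : G) • α = (k : G) • ((t : G) • α)) :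
    ZHyp β := by
  have hreg := b2_swap_regular h hproj T₂ hp hN
  have hinf := b2_inf h hproj
  refine ⟨h.simpleT, ?_, ?_, ?_, ?_⟩
  · obtain ⟨a, ha, b, hb, hab⟩ := noncommT h
    refine ⟨⟨a, ha⟩, ⟨b, hb⟩, ?_⟩
    intro heq
    apply hab
    exact congrArg Subtype.val heq
  · intro k
    by_cases hk : cj (k : G) T = T
    · left
      intro x y
      apply Subtype.ext
      rw [Subgroup.coe_mul, b2_beta_L α T hinf β hβ k hk, b2_beta_L α T hinf β hβ k hk,
        b2_beta_L α T hinf β hβ k hk, Subgroup.coe_mul]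
      group
    · right
      exact b2_beta_swap h hproj T₂ hp hN β hβ k hk
  · exact b2_inner h hproj β hβ
  · intro x _ L hL
    exact maxi_of_beta α h.nb T hreg β hβ x L hL

theorem caseA_zhyp [Finite G] [FaithfulSMul G Ω] (h : BCtx α N N)
    (hC : Subgroup.centralizer (N : Set G) ≠ ⊥)
    (hreg : ∀ ω : Ω, ∃! t : ↥N, (t : G) • α = ω)
    (β : ↥(stabilizer G α) →* Equiv.Perm ↥N)
    (hβ : ∀ (k : ↥(stabilizer G α)) (t : ↥N), ((β k t : ↥N) : G) • α = (k : G) • ((t : G) • α)) :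
    ZHyp β := by
  have hinf : stabilizer G α ⊓ N = ⊥ := by
    rw [eq_bot_iff]
    intro x hx
    rw [Subgroup.mem_bot]
    obtain ⟨t, _, htu⟩ := hreg α
    have e1 := htu ⟨x, hx.2⟩ (by simpa using hx.1)
    have e2 := htu 1 (by simp)
    have := e1.trans e2.symm
    exact congrArg Subtype.val this
  haveI := h.normal
  refine ⟨h.simpleT, ?_, ?_, ?_, ?_⟩
  · obtain ⟨a, ha, b, hb, hab⟩ := h.noncomm
    refine ⟨⟨a, ha⟩, ⟨b, hb⟩, ?_⟩
    intro heq
    apply hab
    exact congrArg Subtype.val heq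
  · intro k
    left
    intro x y
    have hk : cj (k : G) N = N := cj_normal _ N
    apply Subtype.ext
    rw [Subgroup.coe_mul, b2_beta_L α N hinf β hβ k hk, b2_beta_L α N hinf β hβ k hk,
      b2_beta_L α N hinf β hβ k hk, Subgroup.coe_mul]
    group
  · exact caseA_inner h.prim N h.normal hC α hreg β hβ
  · intro x _ L hL
    exact maxi_of_beta α h.nb N hreg β hβ x L hL

end R

end Cfsg.Agent.Helper13.S93

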