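import Mathlib
import Cfsg.Agent.Lib.Helper17.SLkDefs

/-!
# S2479, piece SLK-DETX: the determinant of multiplication by `X` on `F[X]/(g)`
-/

open Polynomial

namespace Cfsg.Agent.Helper17.SLk

open Cfsg.Agent.Helper17.GLk

universe u

variable {F : Type u} [Field F]

/-- PIECE SLK-DETX: `det (X • ·)` on `F[X]/(g)` (`g ≠ 0`) is `(-1)^deg * (constant term)` of the monic
associate. -/
theorem det_mulQ_X (g : F[X]) (hg : g ≠ 0) :
    LinearMap.det (mulQ g X) = uconst (nrm g) := by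
  have h1 := Algebra.PowerBasis.norm_gen_eq_coeff_zero_minpoly (AdjoinRoot.powerBasis hg)
  rw [AdjoinRoot.minpoly_powerBasis_gen hg, AdjoinRoot.powerBasis_dim hg,
    AdjoinRoot.powerBasis_gen hg, Algebra.norm_apply] at h1
  have hlc : (g.leadingCoeff)⁻¹ ≠ 0 := inv_ne_zero (leadingCoeff_ne_zero.mpr hg)
  unfold uconst
  rw [nrm_eq, natDegree_mul_C hlc, ← h1]
  rfl

end Cfsg.Agent.Helper17.SLk
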