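import Mathlib
import Cfsg.Agent.Lib.Helper17.SLkDefs
import Cfsg.Agent.Lib.Helper1.SLkSC1

/-!
# S2479, piece SLK-SC2: the scaling action of `(Fˣ)^n` on tuples
-/

open Polynomial

namespace Cfsg.Agent.Helper17.SLk

open Cfsg.Agent.Helper17.GLk

universe u

section pieces2
variable {F : Type u} [Field F]

theorem slksc2_apply {n : ℕ} (l : Fin n → Fˣ) (f : Fin n → F[X]) (j : Fin n) :
    scT l f j = sc (l j : F) (f j) := rfl

theorem slksc2_natDegree_ne_zero {g : F[X]} (hg : g.Monic) (h1 : g ≠ 1) : g.natDegree ≠ 0 :=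
  fun h => h1 (eq_one_of_monic_natDegree_zero hg h)

theorem scT_mem {n : ℕ} (l : Fin n → Fˣ) (f : Fin n → F[X]) (hf : f ∈ Tup F n 1 n) :
    scT l f ∈ Tup F n 1 n := by
  obtain ⟨h1, h2⟩ := hf
  refine ⟨fun i => ⟨sc_monic _ _ (h1 i).1, ?_⟩, ?_⟩
  · rw [slksc2_apply]
    by_cases h : (f i).natDegree = 0
    · rw [sc_of_natDegree_eq_zero _ _ h]; exact (h1 i).2
    · rw [sc_coeff_zero _ _ h]
      exact mul_ne_zero (l i).ne_zero (h1 i).2
  · refine Eq.trans ?_ h2
    apply Finset.sum_congr rfl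
    intro i _
    rw [slksc2_apply, sc_natDegree]

theorem scT_scT {n : ℕ} (l l' : Fin n → Fˣ) (f : Fin n → F[X]) :
    scT l (scT l' f) = scT (l * l') f := by
  funext j
  rw [slksc2_apply, slksc2_apply, slksc2_apply, sc_sc, Pi.mul_apply, Units.val_mul]

theorem scT_one {n : ℕ} (f : Fin n → F[X]) : scT (1 : Fin n → Fˣ) f = f := by
  funext j
  rw [slksc2_apply, Pi.one_apply, Units.val_one, sc_one]

theorem scT_ne_one_iff {n : ℕ} (l : Fin n → Fˣ) (f : Fin n → F[X]) (hf : f ∈ Tup F n 1 n)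
    (j : Fin n) : scT l f j ≠ 1 ↔ f j ≠ 1 := by
  rw [slksc2_apply]
  exact not_congr (sc_eq_one_iff _ _ (hf.1 j).1)

theorem gam_scT {n : ℕ} (l : Fin n → Fˣ) (f : Fin n → F[X]) (hf : f ∈ Tup F n 1 n) :
    gam (scT l f) = gam f := by
  classical
  unfold gam
  congr 1
  ext j
  simp only [Finset.mem_filter, Finset.mem_univ, true_and]
  exact scT_ne_one_iff l f hf j

theorem chiT_scT {n : ℕ} (l : Fin n → Fˣ) (f : Fin n → F[X]) (hf : f ∈ Tup F n 1 n) :
    chiT (scT l f) = chiT f := by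
  classical
  funext l'
  unfold chiT
  apply Finset.prod_congr _ (fun _ _ => rfl)
  ext j
  simp only [Finset.mem_filter, Finset.mem_univ, true_and]
  exact scT_ne_one_iff l f hf j

theorem detT_scT {n : ℕ} (l : Fin n → Fˣ) (f : Fin n → F[X]) (hf : f ∈ Tup F n 1 n) :
    detT (scT l f) = ((chiT f l : Fˣ) : F) * detT f := by
  classical
  have hchi : ((chiT f l : Fˣ) : F) =
      ∏ j ∈ Finset.univ.filter (fun j : Fin n => f j ≠ 1), (l j : F) ^ ((j : ℕ) + 1) := by
    unfold chiT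
    rw [Units.coe_prod]
    apply Finset.prod_congr _ (fun _ _ => by rw [Units.val_pow_eq_pow_val])
    ext j
    simp only [Finset.mem_filter, Finset.mem_univ, true_and]
  rw [hchi, Finset.prod_filter]
  unfold detT
  rw [← Finset.prod_mul_distrib]
  apply Finset.prod_congr rfl
  intro j _
  rw [slksc2_apply]
  by_cases h1 : f j = 1
  · rw [if_neg (not_not.mpr h1), one_mul, sc_of_natDegree_eq_zero]
    rw [h1, natDegree_one]
  · rw [if_pos h1, uconst_sc _ _ (slksc2_natDegree_ne_zero (hf.1 j).1 h1), mul_pow]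

end pieces2

end Cfsg.Agent.Helper17.SLk
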