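import Mathlib
import Cfsg.Prelude.Def_ClassificationK
import Cfsg.Agent.Lib.Helper27.SyDefs
import Cfsg.Agent.S3762
import Cfsg.Agent.Lib.Helper9.Extraspecial
import Cfsg.Agent.Lib.Helper21.PGroupFrattini

/-!
# S1774, piece SY-STRUCT: structure of a non-abelian 2-group of symplectic type and exponent 4
-/

set_option autoImplicit false

namespace Cfsg.Agent.Helper27.Sy

/-- central involutions in a finite group whose centre is cyclic. -/
theorem systruct_central_inv {T : Type*} [Group T] [Finite T]
    (hcyc : IsCyclic (Subgroup.center T))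
    {z0 : T} (hz1 : z0 ≠ 1) (hzz : z0 * z0 = 1) (hzc : ∀ x : T, x * z0 = z0 * x)
    {c : T} (hcc : ∀ x : T, c * x = x * c) (hc2 : c * c = 1) : c = 1 ∨ c = z0 := by
  classical
  by_contra hne
  push_neg at hne
  haveI : Fintype (Subgroup.center T) := Fintype.ofFinite _
  have hle := IsCyclic.card_pow_eq_one_le (α := Subgroup.center T) (n := 2) (by norm_num)
  have hzmem : z0 ∈ Subgroup.center T := Subgroup.mem_center_iff.mpr (fun g => hzc g)
  have hcmem : c ∈ Subgroup.center T := Subgroup.mem_center_iff.mpr (fun g => (hcc g).symm)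
  have hsub : ({1, ⟨z0, hzmem⟩, ⟨c, hcmem⟩} : Finset (Subgroup.center T)) ⊆
      Finset.univ.filter (fun a => a ^ 2 = 1) := by
    intro a ha
    simp only [Finset.mem_insert, Finset.mem_singleton] at ha
    simp only [Finset.mem_filter, Finset.mem_univ, true_and]
    rcases ha with rfl | rfl | rfl
    · simp
    · ext; simp [pow_two, hzz]
    · ext; simp [pow_two, hc2]
  have hcard : ({1, ⟨z0, hzmem⟩, ⟨c, hcmem⟩} : Finset (Subgroup.center T)).card = 3 := by
    rw [Finset.card_insert_of_notMem, Finset.card_insert_of_notMem, Finset.card_singleton]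
    · simp only [Finset.mem_singleton]
      intro h
      exact hne.2 (congrArg Subtype.val h).symm
    · simp only [Finset.mem_insert, Finset.mem_singleton, not_or]
      refine ⟨fun h => hz1 (congrArg Subtype.val h).symm, fun h => hne.1 (congrArg Subtype.val h).symm⟩
  have := Finset.card_le_card hsub
  omega

/-- Piece SY-STRUCT. -/
theorem struct_of_symplectic {T : Type*} [Group T] [Finite T] (hT : Cfsg.IsOfSymplecticType T)
    (h4 : ∀ q : T, q ^ 4 = 1) (hna : ∃ x y : T, x * y ≠ y * x)
    (hdih : ∀ R : Subgroup T, 16 ≤ Nat.card ↥R →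
      ¬ ((∃ m : ℕ, Nonempty (↥R ≃* DihedralGroup m)) ∨
        (∃ m : ℕ, Nonempty (↥R ≃* QuaternionGroup m)) ∨ Cfsg.IsQuasiDihedral ↥R)) :
    Struct T := by
  haveI : Fact (Nat.Prime 2) := ⟨Nat.prime_two⟩
  obtain ⟨E, R, hER, hsup, hE, hR⟩ := Cfsg.Agent.S3762.result (p := 2) hT.1 hT.2
  -- `R` is cyclic
  have hRc : IsCyclic R := by
    rcases hR with h | ⟨-, h16, h⟩
    · exact h
    · exact absurd h (hdih R h16)
  -- `R` is central
  have hRR : ∀ r ∈ R, ∀ r' ∈ R, r * r' = r' * r := by
    intro r hr r' hr'
    haveI := hRc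
    obtain ⟨g, hg⟩ := IsCyclic.exists_zpow_surjective (G := R)
    obtain ⟨m, hm⟩ := hg ⟨r, hr⟩
    obtain ⟨n, hn⟩ := hg ⟨r', hr'⟩
    have hmm : r = (g : T) ^ m := by
      have := congrArg Subtype.val hm; simpa using this.symm
    have hnn : r' = (g : T) ^ n := by
      have := congrArg Subtype.val hn; simpa using this.symm
    rw [hmm, hnn, ← zpow_add, ← zpow_add, add_comm]
  have hRcen : ∀ r ∈ R, ∀ x : T, x * r = r * x := by
    intro r hr x
    have hE' : E ≤ Subgroup.centralizer ({r} : Set T) := by
      intro e he
      rw [Subgroup.mem_centralizer_singleton_iff]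
      exact hER e he r hr
    have hR' : R ≤ Subgroup.centralizer ({r} : Set T) := by
      intro r' hr'
      rw [Subgroup.mem_centralizer_singleton_iff]
      exact hRR r' hr' r hr
    have hx : x ∈ Subgroup.centralizer ({r} : Set T) := by
      have : (⊤ : Subgroup T) ≤ Subgroup.centralizer ({r} : Set T) := hsup ▸ sup_le hE' hR'
      exact this (Subgroup.mem_top x)
    rw [Subgroup.mem_centralizer_singleton_iff] at hx
    exact hx
  -- the centre of `T` is cyclic
  have hZc : IsCyclic (Subgroup.center T) := hT.2 _ inferInstance inferInstance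
  -- every element is `e * r`
  have hdec : ∀ x : T, ∃ e ∈ E, ∃ r ∈ R, x = e * r := by
    have : R.Normal := by
      refine ⟨fun r hr g => ?_⟩
      have : g * r * g⁻¹ = r := by rw [hRcen r hr g, mul_assoc, mul_inv_cancel, mul_one]
      rw [this]; exact hr
    intro x
    have hx : x ∈ ((E ⊔ R : Subgroup T) : Set T) := by rw [hsup]; exact Subgroup.mem_top x
    rw [Subgroup.mul_normal] at hx
    obtain ⟨e, he, r, hr, rfl⟩ := Set.mem_mul.mp hx
    exact ⟨e, he, r, hr, rfl⟩
  rcases hE with hE | hE
  · -- `E = ⊥`: then `T = R` is abelian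
    exfalso
    obtain ⟨x, y, hxy⟩ := hna
    obtain ⟨e, he, r, hr, rfl⟩ := hdec x
    rw [hE, Subgroup.mem_bot] at he
    subst he
    rw [one_mul] at hxy
    exact hxy (hRcen r hr y).symm
  · -- `E` extraspecial
    obtain ⟨zE, hzc, hzz, hz1, hcomm, hcen⟩ := Cfsg.Agent.Helper9.extraspecial_two_data hE
    have hz0E : (zE : T) ∈ E := zE.2
    have hz01 : (zE : T) ≠ 1 := fun h => hz1 (Subtype.ext h)
    have hz0z0 : (zE : T) * (zE : T) = 1 := congrArg Subtype.val hzz
    have hz0c : ∀ x : T, x * (zE : T) = (zE : T) * x := by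
      intro x
      obtain ⟨e, he, r, hr, rfl⟩ := hdec x
      have h1 : e * (zE : T) = (zE : T) * e := congrArg Subtype.val (hzc ⟨e, he⟩)
      have h2 : (zE : T) * r = r * (zE : T) := hER _ hz0E r hr
      calc e * r * (zE : T) = e * (r * (zE : T)) := mul_assoc _ _ _
        _ = e * ((zE : T) * r) := by rw [h2]
        _ = (e * (zE : T)) * r := (mul_assoc _ _ _).symm
        _ = ((zE : T) * e) * r := by rw [h1]
        _ = (zE : T) * (e * r) := mul_assoc _ _ _
    have hinv : ∀ c : T, (∀ x : T, c * x = x * c) → c * c = 1 → c = 1 ∨ c = (zE : T) :=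
      fun c hcc hc2 => systruct_central_inv hZc hz01 hz0z0 hz0c hcc hc2
    -- squares in `E`
    have hsqE : ∀ e ∈ E, e * e = 1 ∨ e * e = (zE : T) := by
      intro e he
      have hfr : (⟨e, he⟩ : E) ^ 2 ∈ frattini E :=
        Cfsg.Agent.Helper21.pow_mem_frattini_of_isPGroup hE.1.1 _
      rw [hE.1.2.1, Subgroup.mem_center_iff] at hfr
      rcases hcen _ hfr with h | h
      · left
        have := congrArg Subtype.val h
        simpa [pow_two] using this
      · right
        have := congrArg Subtype.val h
        simpa [pow_two] using this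
    -- squares in `R`
    have hsqR : ∀ r ∈ R, r * r = 1 ∨ r * r = (zE : T) := by
      intro r hr
      apply hinv
      · intro x
        have := hRcen r hr x
        calc r * r * x = r * (r * x) := mul_assoc _ _ _
          _ = r * (x * r) := by rw [this]
          _ = (r * x) * r := (mul_assoc _ _ _).symm
          _ = (x * r) * r := by rw [this]
          _ = x * (r * r) := mul_assoc _ _ _
      · have := h4 r
        calc r * r * (r * r) = r ^ 4 := by
              rw [show (4 : ℕ) = 2 + 2 from rfl, pow_add, pow_two]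
          _ = 1 := this
    refine ⟨(zE : T), hz01, hz0z0, hz0c, ?_, ?_, hinv⟩
    · intro x
      obtain ⟨e, he, r, hr, rfl⟩ := hdec x
      have hre := hRcen r hr e
      have hxx : e * r * (e * r) = (e * e) * (r * r) := by
        calc e * r * (e * r) = e * (r * e) * r := by group
          _ = e * (e * r) * r := by rw [← hre]
          _ = (e * e) * (r * r) := by group
      rw [hxx]
      rcases hsqE e he with h1 | h1 <;> rcases hsqR r hr with h2 | h2 <;> rw [h1, h2]
      · left; exact one_mul 1
      · right; exact one_mul _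
      · right; exact mul_one _
      · left; exact hz0z0
    · intro x y
      obtain ⟨e, he, r, hr, rfl⟩ := hdec x
      obtain ⟨e', he', r', hr', rfl⟩ := hdec y
      have h1 : e * r * (e' * r') = (e * e') * (r * r') := by
        have := hRcen r hr e'
        calc e * r * (e' * r') = e * (r * e') * r' := by group
          _ = e * (e' * r) * r' := by rw [← this]
          _ = (e * e') * (r * r') := by group
      have h2 : e' * r' * (e * r) = (e' * e) * (r * r') := by
        have := hRcen r' hr' e
        calc e' * r' * (e * r) = e' * (r' * e) * r := by group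
          _ = e' * (e * r') * r := by rw [← this]
          _ = (e' * e) * (r' * r) := by group
          _ = (e' * e) * (r * r') := by rw [hRR r' hr' r hr]
      rw [h1, h2]
      rcases hcomm ⟨e, he⟩ ⟨e', he'⟩ with h | h
      · left
        have : e * e' = e' * e := congrArg Subtype.val h
        rw [this]
      · right
        have : e * e' = (zE : T) * e' * e := congrArg Subtype.val h
        rw [this]
        group
end Cfsg.Agent.Helper27.Sy
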