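import Mathlib
import Cfsg.Agent.Lib.Helper20.SchDefs

/-!
# S4395, piece SCH-ADJ (core): a nonzero `μ`-invariant biadditive form has an adjoint field
automorphism.  The statement of SCH-GEN is a hypothesis.
-/

set_option autoImplicit false

namespace Cfsg.Agent.Helper20.Sch

section field

variable {F : Type*} [Field F] {C : Type*} [AddCommGroup C] (B : F →+ F →+ C)

/-- `(c, c')` is an adjoint pair for `B` -/
def sch_adj_Rel (c c' : F) : Prop := ∀ x x', B (c * x) x' = B x (c' * x')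

theorem sch_adj_rel_zero : sch_adj_Rel B 0 0 := by
  intro x x'
  simp

theorem sch_adj_rel_one : sch_adj_Rel B 1 1 := by
  intro x x'
  simp

theorem sch_adj_rel_add {c c' d d' : F} (h1 : sch_adj_Rel B c c') (h2 : sch_adj_Rel B d d') :
    sch_adj_Rel B (c + d) (c' + d') := by
  intro x x'
  rw [add_mul, add_mul, map_add, AddMonoidHom.add_apply, map_add, h1, h2]

theorem sch_adj_rel_neg {c c' : F} (h1 : sch_adj_Rel B c c') : sch_adj_Rel B (-c) (-c') := by
  intro x x'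
  rw [neg_mul, neg_mul, map_neg, AddMonoidHom.neg_apply, map_neg, h1]

theorem sch_adj_rel_mul {c c' d d' : F} (h1 : sch_adj_Rel B c c') (h2 : sch_adj_Rel B d d') :
    sch_adj_Rel B (c * d) (c' * d') := by
  intro x x'
  rw [mul_assoc, h1, h2, ← mul_assoc, mul_comm d' c']

theorem sch_adj_rel_mu {μ : F} (hμ0 : μ ≠ 0) (hinv : ∀ x x', B (μ * x) (μ * x') = B x x') :
    sch_adj_Rel B μ μ⁻¹ := by
  intro x x'
  rw [← hinv x (μ⁻¹ * x'), ← mul_assoc, mul_inv_cancel₀ hμ0, one_mul]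

theorem sch_adj_rel_unique (hB : B ≠ 0) {c c' c'' : F} (h1 : sch_adj_Rel B c c')
    (h2 : sch_adj_Rel B c c'') : c' = c'' := by
  by_contra hne
  apply hB
  have hd : c' - c'' ≠ 0 := sub_ne_zero.2 hne
  have h0 : ∀ x x', B x ((c' - c'') * x') = 0 := by
    intro x x'
    rw [sub_mul, map_sub, ← h1, ← h2, sub_self]
  ext x y
  have := h0 x ((c' - c'')⁻¹ * y)
  rw [← mul_assoc, mul_inv_cancel₀ hd, one_mul] at this
  rw [this]
  rfl

/-- the first projection of the adjoint pairs -/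
def sch_adj_S : AddSubgroup F where
  carrier := {c | ∃ c', sch_adj_Rel B c c'}
  zero_mem' := ⟨0, sch_adj_rel_zero B⟩
  add_mem' := by
    rintro c d ⟨c', hc⟩ ⟨d', hd⟩
    exact ⟨c' + d', sch_adj_rel_add B hc hd⟩
  neg_mem' := by
    rintro c ⟨c', hc⟩
    exact ⟨-c', sch_adj_rel_neg B hc⟩

/-- core of SCH-ADJ -/
theorem sch_adj_core [Finite F] (μ : F) (hμ0 : μ ≠ 0)
    (hgen : ∀ S : AddSubgroup F, (∀ x ∈ S, μ * x ∈ S) → ∀ c : F, ∀ x ∈ S, c * x ∈ S)
    (hinv : ∀ x x', B (μ * x) (μ * x') = B x x') (hB : B ≠ 0) :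
    ∃ τ : F ≃+* F, τ μ = μ⁻¹ ∧ ∀ c x x', B (c * x) x' = B x (τ c * x') := by
  have hμS : ∀ x ∈ sch_adj_S B, μ * x ∈ sch_adj_S B := by
    rintro c ⟨c', hc⟩
    exact ⟨μ⁻¹ * c', sch_adj_rel_mul B (sch_adj_rel_mu B hμ0 hinv) hc⟩
  have htot : ∀ c : F, ∃ c', sch_adj_Rel B c c' := by
    intro c
    have := hgen (sch_adj_S B) hμS c 1 ⟨1, sch_adj_rel_one B⟩
    rw [mul_one] at this
    exact this
  choose f hf using htot
  let τ : F →+* F :=
    { toFun := f
      map_one' := sch_adj_rel_unique B hB (hf 1) (sch_adj_rel_one B)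
      map_mul' := fun c d => sch_adj_rel_unique B hB (hf (c * d)) (sch_adj_rel_mul B (hf c) (hf d))
      map_zero' := sch_adj_rel_unique B hB (hf 0) (sch_adj_rel_zero B)
      map_add' := fun c d =>
        sch_adj_rel_unique B hB (hf (c + d)) (sch_adj_rel_add B (hf c) (hf d)) }
  have hinj : Function.Injective τ := τ.injective
  have hbij : Function.Bijective τ := ⟨hinj, Finite.injective_iff_surjective.1 hinj⟩
  refine ⟨RingEquiv.ofBijective τ hbij, ?_, ?_⟩
  · show f μ = μ⁻¹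
    exact sch_adj_rel_unique B hB (hf μ) (sch_adj_rel_mu B hμ0 hinv)
  · intro c x x'
    exact hf c x x'

end field

end Cfsg.Agent.Helper20.Sch
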