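import Mathlib
import Cfsg.Agent.Lib.Helper13.SchADJCore
import Cfsg.Agent.Lib.Helper5.SchGEN

/-!
# S4395, piece SCH-ADJ: exact-name wrapper
-/

set_option autoImplicit false

namespace Cfsg.Agent.Helper20.Sch

universe u

variable {p q : ℕ} [Fact p.Prime] [Fact q.Prime]

section field

variable {a : ℕ} (F : Type*) [Field F] [Finite F]

variable {F}

/-- SCH-ADJ : a nonzero `μ`-invariant biadditive form has an adjoint field automorphism. -/
theorem exists_adjoint (hpq : p ≠ q) (ha : a = orderOf (p : ZMod q))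
    (hF : Nat.card F = p ^ a) (μ : F) (hμ : orderOf μ = q)
    {C : Type*} [AddCommGroup C] (B : F →+ F →+ C)
    (hinv : ∀ x x', B (μ * x) (μ * x') = B x x') (hB : B ≠ 0) :
    ∃ τ : F ≃+* F, τ μ = μ⁻¹ ∧ ∀ c x x', B (c * x) x' = B x (τ c * x') := by
  have hq : q.Prime := Fact.out
  have hμ0 : μ ≠ 0 := by
    rintro rfl
    have h1 := pow_orderOf_eq_one (0 : F)
    rw [hμ, zero_pow hq.ne_zero] at h1
    exact zero_ne_one h1
  exact sch_adj_core B μ hμ0 (fun S hS c => smul_mem_of_invariant hpq ha hF μ hμ S hS c) hinv hB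

end field

end Cfsg.Agent.Helper20.Sch
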