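import Mathlib

set_option autoImplicit false

namespace Cfsg.Agent.Helper13

open Polynomial

section cyclic
variable {F : Type*} [Field F]

/-- top coefficient of the remainder modulo (the monic normalisation of) `g` -/
noncomputable def topCoeff (g : F[X]) : F[X] →ₗ[F] F :=
  (lcoeff F (g.natDegree - 1)).comp (modByMonicHom (g * C g.leadingCoeff⁻¹))

theorem topCoeff_apply (g p : F[X]) :
    topCoeff g p = (p %ₘ (g * C g.leadingCoeff⁻¹)).coeff (g.natDegree - 1) := rfl

theorem span_normalize_eq (g : F[X]) (hg : g ≠ 0) :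
    Submodule.span F[X] {g * C g.leadingCoeff⁻¹} = Submodule.span F[X] {g} := by
  have hu : IsUnit (C g.leadingCoeff⁻¹ : F[X]) :=
    isUnit_C.mpr (IsUnit.mk0 _ (inv_ne_zero (leadingCoeff_ne_zero.mpr hg)))
  exact Ideal.span_singleton_mul_right_unit hu g

theorem topCoeff_eq_zero_of_mem (g : F[X]) (hg : g ≠ 0) (p : F[X])
    (hp : p ∈ Submodule.span F[X] {g}) : topCoeff g p = 0 := by
  rw [← span_normalize_eq g hg] at hp
  have hdvd : g * C g.leadingCoeff⁻¹ ∣ p := Ideal.mem_span_singleton.mp hp
  rw [topCoeff_apply, (modByMonic_eq_zero_iff_dvd (monic_mul_leadingCoeff_inv hg)).mpr hdvd, coeff_zero]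

/-- the induced functional on the quotient -/
noncomputable def topCoeffQ (g : F[X]) (hg : g ≠ 0) : (F[X] ⧸ Submodule.span F[X] {g}) →ₗ[F] F :=
  (((Submodule.span F[X] {g}).restrictScalars F).liftQ (topCoeff g) (by
    intro p hp
    exact topCoeff_eq_zero_of_mem g hg p hp)).comp
    (Submodule.Quotient.restrictScalarsEquiv F (Submodule.span F[X] {g})).symm.toLinearMap

theorem topCoeffQ_mk (g : F[X]) (hg : g ≠ 0) (p : F[X]) :
    topCoeffQ g hg (Submodule.Quotient.mk p) = topCoeff g p := rfl

/-- the Frobenius form on a cyclic module `F[X]/(g)` -/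
theorem cyclic_form (g : F[X]) (hg : g ≠ 0) :
    ∃ B : (F[X] ⧸ Submodule.span F[X] {g}) →ₗ[F] (F[X] ⧸ Submodule.span F[X] {g}) →ₗ[F] F,
      (∀ a b, B a b = B b a) ∧ (∀ a, (∀ b, B a b = 0) → a = 0) ∧
      (∀ a b, B ((X : F[X]) • a) b = B a ((X : F[X]) • b)) := by
  refine ⟨(LinearMap.mul F (F[X] ⧸ Submodule.span F[X] {g})).compr₂ (topCoeffQ g hg), ?_, ?_, ?_⟩
  · intro a b
    simp only [LinearMap.compr₂_apply, LinearMap.mul_apply', mul_comm]
  · intro a ha
    obtain ⟨p₀, rfl⟩ := Submodule.Quotient.mk_surjective _ a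
    set g' := g * C g.leadingCoeff⁻¹ with hg'
    have hmonic : g'.Monic := monic_mul_leadingCoeff_inv hg
    have hdeg : g'.natDegree = g.natDegree := natDegree_mul_leadingCoeff_inv g hg
    set p := p₀ %ₘ g' with hp
    have hmk : (Submodule.Quotient.mk p₀ : F[X] ⧸ Submodule.span F[X] {g}) = Submodule.Quotient.mk p := by
      rw [Submodule.Quotient.eq, ← span_normalize_eq g hg]
      apply Ideal.mem_span_singleton.mpr
      refine ⟨p₀ /ₘ g', ?_⟩
      have := modByMonic_add_div p₀ g'
      rw [← hp] at this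
      linear_combination (-1 : F[X]) * this
    by_cases hp0 : p = 0
    · rw [hmk, hp0, Submodule.Quotient.mk_zero]
    exfalso
    have hlt : p.degree < g'.degree := degree_modByMonic_lt p₀ hmonic
    have hklt : p.natDegree < g.natDegree := by
      rw [← hdeg]
      exact natDegree_lt_natDegree hp0 hlt
    obtain ⟨j, hj⟩ : ∃ j, g.natDegree - 1 = p.natDegree + j := ⟨g.natDegree - 1 - p.natDegree, by omega⟩
    have h1 := ha (Submodule.Quotient.mk (X ^ j))
    rw [hmk] at h1
    simp only [LinearMap.compr₂_apply, LinearMap.mul_apply'] at h1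
    have hmul : (Submodule.Quotient.mk p : F[X] ⧸ Submodule.span F[X] {g}) *
        Submodule.Quotient.mk (X ^ j) = Submodule.Quotient.mk (p * X ^ j) := rfl
    rw [hmul, topCoeffQ_mk, topCoeff_apply] at h1
    have hself : (p * X ^ j) %ₘ g' = p * X ^ j := by
      rw [modByMonic_eq_self_iff hmonic]
      rw [degree_eq_natDegree hmonic.ne_zero, degree_mul, degree_X_pow, degree_eq_natDegree hp0, hdeg]
      norm_cast
      omega
    rw [← hg', hself, hj, coeff_mul_X_pow] at h1
    exact hp0 (leadingCoeff_eq_zero.mp h1)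
  · intro a b
    obtain ⟨a, rfl⟩ := Submodule.Quotient.mk_surjective _ a
    obtain ⟨b, rfl⟩ := Submodule.Quotient.mk_surjective _ b
    simp only [LinearMap.compr₂_apply, LinearMap.mul_apply']
    have e1 : ((X : F[X]) • (Submodule.Quotient.mk a : F[X] ⧸ Submodule.span F[X] {g})) *
        Submodule.Quotient.mk b = Submodule.Quotient.mk (X * a * b) := rfl
    have e2 : (Submodule.Quotient.mk a : F[X] ⧸ Submodule.span F[X] {g}) *
        ((X : F[X]) • Submodule.Quotient.mk b) = Submodule.Quotient.mk (a * (X * b)) := rfl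
    rw [e1, e2]
    congr 2
    ring

end cyclic

section general
universe u v
variable {F : Type u} [Field F] {V : Type v} [AddCommGroup V] [Module F V] [FiniteDimensional F V]

/-- every endomorphism of a finite-dimensional space is self-adjoint for some nondegenerate
symmetric bilinear form -/
theorem exists_selfadjoint_form (T : Module.End F V) :
    ∃ B : V →ₗ[F] V →ₗ[F] F, (∀ u v, B u v = B v u) ∧ (∀ u, (∀ v, B u v = 0) → u = 0) ∧
      (∀ u v, B (T u) v = B u (T v)) := by
  classical
  have htors : Module.IsTorsion F[X] (Module.AEval' T) :=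
    Module.AEval.isTorsion_of_finiteDimensional F V T
  obtain ⟨ι, _, p, hp, e, ⟨Φ⟩⟩ := Module.equiv_directSum_of_isTorsion htors
  have hne : ∀ i, p i ^ e i ≠ 0 := fun i => pow_ne_zero _ (hp i).ne_zero
  choose Bi hBsymm hBnd hBX using fun i => cyclic_form (p i ^ e i) (hne i)
  let Ψ : V ≃ₗ[F] (∀ i, F[X] ⧸ Submodule.span F[X] {p i ^ e i}) :=
    (Module.AEval'.of T).trans ((Φ.trans (DirectSum.linearEquivFunOnFintype F[X] ι _)).restrictScalars F)
  have hΨT : ∀ u i, Ψ (T u) i = (X : F[X]) • Ψ u i := by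
    intro u i
    show (DirectSum.linearEquivFunOnFintype F[X] ι _ (Φ (Module.AEval'.of T (T u)))) i = _
    rw [← Module.AEval'.X_smul_of, map_smul, map_smul]
    rfl
  let B : V →ₗ[F] V →ₗ[F] F :=
    ∑ i, (Bi i).compl₁₂ ((LinearMap.proj i).comp Ψ.toLinearMap) ((LinearMap.proj i).comp Ψ.toLinearMap)
  have hB : ∀ u v, B u v = ∑ i, Bi i (Ψ u i) (Ψ v i) := by
    intro u v
    simp [B, LinearMap.sum_apply]
  refine ⟨B, ?_, ?_, ?_⟩
  · intro u v
    rw [hB, hB]
    exact Finset.sum_congr rfl fun i _ => hBsymm i _ _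
  · intro u hu
    have : Ψ u = 0 := by
      funext i
      apply hBnd i
      intro b
      have h1 := hu (Ψ.symm (Pi.single i b))
      rw [hB] at h1
      rw [Finset.sum_eq_single i] at h1
      · simpa using h1
      · intro j _ hji
        rw [LinearEquiv.apply_symm_apply, Pi.single_eq_of_ne hji, map_zero]
      · intro h; exact absurd (Finset.mem_univ i) h
    exact Ψ.map_eq_zero_iff.mp this
  · intro u v
    rw [hB, hB]
    refine Finset.sum_congr rfl fun i _ => ?_
    rw [hΨT, hΨT, hBX]

end general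

end Cfsg.Agent.Helper13
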