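import Mathlib
import Cfsg.Agent.Lib.Helper13.CyclicVec

set_option autoImplicit false

/-!
# The determinant is onto on the commutant of a semisimple endomorphism (finite fields)
-/

namespace Cfsg.Agent.Helper13

open Module LinearMap Polynomial

section restrict
variable {K V : Type*} [Field K] [AddCommGroup V] [Module K V]

/-- polynomials in a restricted endomorphism -/
theorem aeval_restrict_apply (f : Module.End K V) (W : Submodule K V) (hW : ∀ x ∈ W, f x ∈ W)
    (p : K[X]) (y : W) : ((aeval (f.restrict hW) p) y : V) = (aeval f p) (y : V) := by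
  induction p using Polynomial.induction_on' with
  | add p q hp hq =>
    rw [map_add, map_add, LinearMap.add_apply, LinearMap.add_apply, Submodule.coe_add, hp, hq]
  | monomial n a =>
    rw [aeval_monomial, aeval_monomial, Module.End.pow_restrict n hW]
    simp only [Module.algebraMap_end_apply, Module.End.mul_apply, LinearMap.restrict_apply,
      Submodule.coe_smul]

end restrict

section main
variable {F V : Type*} [Field F] [Finite F] [AddCommGroup V] [Module F V] [FiniteDimensional F V]

omit [Finite F] in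
/-- an irreducible polynomial killing a non-zero vector -/
theorem exists_irreducible_ann [Nontrivial V] (f : Module.End F V) :
    ∃ (μ : F[X]) (w : V), Irreducible μ ∧ w ≠ 0 ∧ (aeval f μ) w = 0 := by
  have hint : IsIntegral F f := Algebra.IsIntegral.isIntegral f
  have hm0 : minpoly F f ≠ 0 := minpoly.ne_zero hint
  have hmu : ¬ IsUnit (minpoly F f) := minpoly.not_isUnit F f
  obtain ⟨μ, hμ, r, hr⟩ := WfDvdMonoid.exists_irreducible_factor hmu hm0
  have hr0 : r ≠ 0 := by
    rintro rfl
    rw [mul_zero] at hr
    exact hm0 hr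
  have hrf : aeval f r ≠ 0 := by
    intro h
    have hdvd : minpoly F f ∣ r := minpoly.dvd F f h
    rw [hr] at hdvd
    have : μ * r ∣ 1 * r := by rwa [one_mul]
    have hμ1 : μ ∣ 1 := (mul_dvd_mul_iff_right hr0).1 this
    exact hμ.not_isUnit (isUnit_of_dvd_one hμ1)
  obtain ⟨v, hv⟩ : ∃ v, (aeval f r) v ≠ 0 := by
    by_contra hcon
    push Not at hcon
    exact hrf (LinearMap.ext hcon)
  refine ⟨μ, (aeval f r) v, hμ, hv, ?_⟩
  rw [← Module.End.mul_apply, ← map_mul, ← hr, minpoly.aeval, LinearMap.zero_apply]

omit [FiniteDimensional F V] in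
/-- On a cyclic subspace killed by an irreducible polynomial, the commutant realises every
determinant. -/
theorem exists_commuting_det_cyclic (f : Module.End F V) (μ : F[X]) (w : V) (hμ : Irreducible μ)
    (hw : w ≠ 0) (hμw : (aeval f μ) w = 0) (d : F) :
    ∃ cW : Module.End F (cyclicSpan f w),
      cW * f.restrict (cyclicSpan_invariant f w) = f.restrict (cyclicSpan_invariant f w) * cW ∧
        LinearMap.det cW = d := by
  classical
  set W := cyclicSpan f w with hWdef
  have hW : ∀ x ∈ W, f x ∈ W := cyclicSpan_invariant f w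
  set g : Module.End F W := f.restrict hW with hg
  have : Fact (Irreducible μ) := ⟨hμ⟩
  -- μ(g) = 0
  have hμg : aeval g μ = 0 := by
    apply LinearMap.ext
    intro y
    apply Subtype.ext
    rw [aeval_restrict_apply, LinearMap.zero_apply, Submodule.coe_zero]
    obtain ⟨p, hp⟩ := exists_aeval_of_mem_cyclicSpan f w (y : V) y.2
    rw [← hp, ← Module.End.mul_apply, ← map_mul, mul_comm, map_mul, Module.End.mul_apply, hμw, map_zero]
  -- the field and its action
  let K' := AdjoinRoot μ
  have hfin : Module.Finite F K' := (AdjoinRoot.powerBasis hμ.ne_zero).finite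
  have : Finite K' := Module.finite_of_finite F
  let φ : K' →ₐ[F] Module.End F W :=
    Ideal.Quotient.liftₐ (Ideal.span {μ}) (aeval g) (by
      intro a ha
      obtain ⟨b, rfl⟩ := Ideal.mem_span_singleton.1 ha
      rw [map_mul, hμg, zero_mul])
  have hφmk : ∀ p : F[X], φ (AdjoinRoot.mk μ p) = aeval g p := by
    intro p
    rfl
  let w' : W := ⟨w, self_mem_cyclicSpan f w⟩
  have hw' : w' ≠ 0 := fun h => hw (congrArg Subtype.val h)
  let ε : K' →ₗ[F] W := (LinearMap.applyₗ w').comp φ.toLinearMap
  have hε : ∀ l : K', ε l = φ l w' := fun _ => rfl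
  have hinj : Function.Injective ε := by
    rw [← LinearMap.ker_eq_bot, LinearMap.ker_eq_bot']
    intro l hl
    by_contra hl0
    apply hw'
    have h1 : φ (l⁻¹ * l) w' = w' := by
      rw [inv_mul_cancel₀ hl0, map_one]; rfl
    rw [map_mul, Module.End.mul_apply, ← hε, hl, map_zero] at h1
    exact h1.symm
  have hsurj : Function.Surjective ε := by
    intro y
    obtain ⟨p, hp⟩ := exists_aeval_of_mem_cyclicSpan f w (y : V) y.2
    refine ⟨AdjoinRoot.mk μ p, ?_⟩
    rw [hε, hφmk]
    apply Subtype.ext
    rw [aeval_restrict_apply]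
    exact hp
  let e : K' ≃ₗ[F] W := LinearEquiv.ofBijective ε ⟨hinj, hsurj⟩
  have he : ∀ l : K', e l = φ l w' := fun _ => rfl
  -- determinant of the action
  have hdet : ∀ l : K', LinearMap.det (φ l) = Algebra.norm F l := by
    intro l
    rw [Algebra.norm_apply, ← LinearMap.det_conj (Algebra.lmul F K' l) e]
    congr 1
    apply LinearMap.ext
    intro y
    obtain ⟨m, rfl⟩ := e.surjective y
    simp only [LinearMap.comp_apply, LinearEquiv.coe_coe, LinearEquiv.symm_apply_apply,
      Algebra.coe_lmul_eq_mul, LinearMap.mul_apply']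
    rw [he, he, map_mul, Module.End.mul_apply]
  obtain ⟨l, hl⟩ := FiniteField.norm_surjective F K' d
  refine ⟨φ l, ?_, by rw [hdet, hl]⟩
  have hroot : φ (AdjoinRoot.root μ) = g := by
    have : AdjoinRoot.root μ = AdjoinRoot.mk μ X := rfl
    rw [this, hφmk, aeval_X]
  rw [← hroot, ← map_mul, ← map_mul, mul_comm]

/-- **The determinant is surjective on the commutant of a semisimple endomorphism.** -/
theorem exists_commuting_det [Nontrivial V] (f : Module.End F V) (hf : f.IsSemisimple) (d : F) :
    ∃ c : Module.End F V, (∀ v, c (f v) = f (c v)) ∧ LinearMap.det c = d := by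
  obtain ⟨μ, w, hμ, hw, hμw⟩ := exists_irreducible_ann f
  obtain ⟨cW, hcomm, hdet⟩ := exists_commuting_det_cyclic f μ w hμ hw hμw d
  have hW : ∀ x ∈ cyclicSpan f w, f x ∈ cyclicSpan f w := cyclicSpan_invariant f w
  have hWinv : cyclicSpan f w ∈ Module.End.invtSubmodule f := by
    rw [Module.End.mem_invtSubmodule]
    intro x hx
    exact hW x hx
  obtain ⟨W', hW'inv, hcompl⟩ := (Module.End.isSemisimple_iff.1 hf) (cyclicSpan f w) hWinv
  have hW' : ∀ x ∈ W', f x ∈ W' := by
    rw [Module.End.mem_invtSubmodule] at hW'inv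
    intro x hx
    exact hW'inv hx
  let E := Submodule.prodEquivOfIsCompl (cyclicSpan f w) W' hcompl
  let c : Module.End F V := (E : (cyclicSpan f w × W') →ₗ[F] V) ∘ₗ (cW.prodMap LinearMap.id) ∘ₗ
    (E.symm : V →ₗ[F] (cyclicSpan f w × W'))
  have hc : ∀ (a : cyclicSpan f w) (b : W'), c ((a : V) + (b : V)) = (cW a : V) + (b : V) := by
    intro a b
    have h1 : E.symm ((a : V) + (b : V)) = (a, b) := by
      rw [LinearEquiv.symm_apply_eq]; rfl
    show E ((cW.prodMap LinearMap.id) (E.symm ((a : V) + (b : V)))) = _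
    rw [h1]
    rfl
  refine ⟨c, ?_, ?_⟩
  · intro v
    obtain ⟨⟨a, b⟩, rfl⟩ := E.surjective v
    have hE1 : E (a, b) = (a : V) + (b : V) := rfl
    rw [hE1, map_add, hc]
    have ha : f (a : V) = ((f.restrict hW a : cyclicSpan f w) : V) := rfl
    have hb : f (b : V) = ((f.restrict hW' b : W') : V) := rfl
    rw [ha, hb, hc, map_add]
    congr 1
    have := congrArg (fun T : Module.End F (cyclicSpan f w) => (T a : V)) hcomm
    simp only [Module.End.mul_apply] at this
    rw [this]
    rfl
  · show LinearMap.det ((E : (cyclicSpan f w × W') →ₗ[F] V) ∘ₗ (cW.prodMap LinearMap.id) ∘ₗ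
      (E.symm : V →ₗ[F] (cyclicSpan f w × W'))) = d
    rw [LinearMap.det_conj, LinearMap.det_prodMap, LinearMap.det_id, mul_one, hdet]

end main

end Cfsg.Agent.Helper13
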