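import Mathlib

set_option autoImplicit false
set_option linter.style.haveILetI false
set_option linter.unusedSectionVars false

/-!
# Lifting norms through a nilpotent ideal; the involution of `AdjoinRoot m`
-/

namespace Cfsg.Agent.Helper13.Wall

open Polynomial

section lifting
variable {Q : Type*} [CommRing Q]

theorem pow_le_self_of_one_le (I : Ideal Q) {j : ℕ} (hj : 1 ≤ j) : I ^ j ≤ I := by
  calc I ^ j ≤ I ^ 1 := Ideal.pow_le_pow_right hj
    _ = I := pow_one I

theorem isNilpotent_of_mem (I : Ideal Q) (k : ℕ) (hk : I ^ k = ⊥) {x : Q} (hx : x ∈ I) :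
    IsNilpotent x := by
  refine ⟨k, ?_⟩
  have : x ^ k ∈ I ^ k := Ideal.pow_mem_pow hx k
  rw [hk] at this
  exact this

/-- lifting norms through a nilpotent ideal stable under the involution -/
theorem exists_norm_of_nilpotent (τ : Q →+* Q) (hτ2 : ∀ x, τ (τ x) = x) (μ : Q)
    (hμ : μ + τ μ = 1) (I : Ideal Q) (k : ℕ) (hk : I ^ k = ⊥) :
    ∀ a : Q, τ a = a → a - 1 ∈ I → ∃ b : Q, IsUnit b ∧ τ b * b = a := by
  have key : ∀ d j : ℕ, 1 ≤ j → k ≤ j + d → ∀ a : Q, τ a = a → a - 1 ∈ I ^ j →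
      ∃ b : Q, IsUnit b ∧ τ b * b = a := by
    intro d
    induction d with
    | zero =>
      intro j _ hkj a _ ha
      have h1 : I ^ j ≤ I ^ k := Ideal.pow_le_pow_right (by omega)
      have h2 : a - 1 ∈ (⊥ : Ideal Q) := hk ▸ h1 ha
      have h3 : a = 1 := sub_eq_zero.1 h2
      exact ⟨1, isUnit_one, by rw [map_one, one_mul, h3]⟩
    | succ d ih =>
      intro j hj hkj a hτa ha
      set x := a - 1 with hx
      have hτx : τ x = x := by rw [hx, map_sub, map_one, hτa]
      have hxI : x ∈ I := pow_le_self_of_one_le I hj ha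
      set b₁ := 1 + μ * x with hb₁
      have hb₁u : IsUnit b₁ :=
        ((Commute.all μ x).isNilpotent_mul_left (isNilpotent_of_mem I k hk hxI)).isUnit_one_add
      have hτb₁ : τ b₁ = 1 + τ μ * x := by rw [hb₁, map_add, map_one, map_mul, hτx]
      set c := τ b₁ * b₁ with hc
      have hcu : IsUnit c := (hb₁u.map τ).mul hb₁u
      have hτc : τ c = c := by rw [hc, map_mul, hτ2, mul_comm]
      have hca : c = a + μ * τ μ * x ^ 2 := by
        have ha' : a = 1 + x := by rw [hx]; ring
        rw [hc, hτb₁, hb₁, ha']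
        have : (1 + τ μ * x) * (1 + μ * x) = 1 + (μ + τ μ) * x + μ * τ μ * x ^ 2 := by ring
        rw [this, hμ, one_mul]
      obtain ⟨cu, hcu'⟩ := hcu
      set ci : Q := ((cu⁻¹ : Qˣ) : Q) with hci
      have hcci : c * ci = 1 := by rw [← hcu', hci]; exact cu.mul_inv
      have hτci : τ ci = ci := by
        have h1 : c * τ ci = 1 := by rw [← hτc, ← map_mul, hcci, map_one]
        calc τ ci = (ci * c) * τ ci := by rw [mul_comm ci c, hcci, one_mul]
          _ = ci * (c * τ ci) := by ring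
          _ = ci := by rw [h1, mul_one]
      set a' := a * ci with ha'
      have hτa' : τ a' = a' := by rw [ha', map_mul, hτa, hτci]
      have ha'1 : a' - 1 ∈ I ^ (j + 1) := by
        have h1 : a' - 1 = -(μ * τ μ * ci) * x ^ 2 := by
          have : a' - 1 = (a - c) * ci := by rw [ha', sub_mul, hcci]
          rw [this, hca]
          ring
        rw [h1]
        apply Ideal.mul_mem_left
        have h2 : x ^ 2 ∈ I ^ (j * 2) := by
          rw [pow_mul]
          exact Ideal.pow_mem_pow ha 2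
        exact Ideal.pow_le_pow_right (by omega) h2
      obtain ⟨b', hb'u, hb'⟩ := ih (j + 1) (by omega) (by omega) a' hτa' ha'1
      refine ⟨b' * b₁, hb'u.mul hb₁u, ?_⟩
      calc τ (b' * b₁) * (b' * b₁) = (τ b' * b') * (τ b₁ * b₁) := by rw [map_mul]; ring
        _ = a' * c := by rw [hb', hc]
        _ = a := by rw [ha', mul_assoc, mul_comm ci c, hcci, mul_one]
  intro a hτa ha
  exact key k 1 le_rfl (by omega) a hτa (by rwa [pow_one])

end lifting

section tau
variable {K : Type*} [Field K] (σ : K →+* K) (M : ℕ)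

/-- the polynomial operation dual to the adjoint: conjugate the coefficients and substitute
`X ^ (M - 1)` -/
noncomputable def dag (P : K[X]) : K[X] := (P.map σ).comp (X ^ (M - 1))

theorem dag_add (P R : K[X]) : dag σ M (P + R) = dag σ M P + dag σ M R := by
  unfold dag
  rw [Polynomial.map_add, add_comp]

theorem dag_mul (P R : K[X]) : dag σ M (P * R) = dag σ M P * dag σ M R := by
  unfold dag
  rw [Polynomial.map_mul, mul_comp]

theorem dag_pow (P : K[X]) (k : ℕ) : dag σ M (P ^ k) = dag σ M P ^ k := by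
  unfold dag
  rw [Polynomial.map_pow, pow_comp]

theorem dag_one : dag σ M (1 : K[X]) = 1 := by
  unfold dag
  rw [Polynomial.map_one, one_comp]

theorem dag_C (c : K) : dag σ M (C c) = C (σ c) := by
  unfold dag
  rw [Polynomial.map_C, C_comp]

theorem dag_X : dag σ M (X : K[X]) = X ^ (M - 1) := by
  unfold dag
  rw [Polynomial.map_X, X_comp]

theorem dag_dvd {P R : K[X]} (h : P ∣ R) : dag σ M P ∣ dag σ M R := by
  obtain ⟨c, rfl⟩ := h
  rw [dag_mul]
  exact dvd_mul_right _ _

variable (m : K[X])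

theorem eval₂_dag (P : K[X]) :
    P.eval₂ ((AdjoinRoot.of m).comp σ) (AdjoinRoot.root m ^ (M - 1)) =
      AdjoinRoot.mk m (dag σ M P) := by
  unfold dag
  rw [← Polynomial.eval₂_map, ← AdjoinRoot.aeval_eq, aeval_comp, map_pow, aeval_X, aeval_def,
    AdjoinRoot.algebraMap_eq]

/-- the involution of `AdjoinRoot m` -/
noncomputable def tauQ (hm : m ∣ dag σ M m) : AdjoinRoot m →+* AdjoinRoot m :=
  AdjoinRoot.lift ((AdjoinRoot.of m).comp σ) (AdjoinRoot.root m ^ (M - 1)) (by
    rw [eval₂_dag, AdjoinRoot.mk_eq_zero]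
    exact hm)

theorem tauQ_mk (hm : m ∣ dag σ M m) (P : K[X]) :
    tauQ σ M m hm (AdjoinRoot.mk m P) = AdjoinRoot.mk m (dag σ M P) := by
  unfold tauQ
  rw [AdjoinRoot.lift_mk, eval₂_dag]

theorem tauQ_of (hm : m ∣ dag σ M m) (c : K) :
    tauQ σ M m hm (AdjoinRoot.of m c) = AdjoinRoot.of m (σ c) := by
  have : AdjoinRoot.of m c = AdjoinRoot.mk m (C c) := rfl
  rw [this, tauQ_mk, dag_C]
  rfl

theorem tauQ_tauQ (hσ2 : ∀ x, σ (σ x) = x) (hM : 1 ≤ M) (hmM : m ∣ X ^ M - 1)
    (hm : m ∣ dag σ M m) (x : AdjoinRoot m) : tauQ σ M m hm (tauQ σ M m hm x) = x := by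
  obtain ⟨P, rfl⟩ := AdjoinRoot.mk_surjective x
  rw [tauQ_mk, tauQ_mk]
  -- `dag (dag P) = P.comp (X ^ ((M-1)^2))`
  have hroot : (AdjoinRoot.root m) ^ M = 1 := by
    have h1 : AdjoinRoot.mk m (X ^ M - 1) = 0 := AdjoinRoot.mk_eq_zero.2 hmM
    rw [map_sub, map_pow, AdjoinRoot.mk_X, map_one, sub_eq_zero] at h1
    exact h1
  have h2 : ((AdjoinRoot.root m) ^ (M - 1)) ^ (M - 1) = AdjoinRoot.root m := by
    set s := AdjoinRoot.root m with hs
    set t := s ^ (M - 1) with ht
    have h1 : s * t = 1 := by rw [ht, ← pow_succ', Nat.sub_add_cancel hM, hroot]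
    have h2 : t ^ (M - 1) * t = 1 := by
      rw [← pow_succ, Nat.sub_add_cancel hM, ht, ← pow_mul, mul_comm, pow_mul, hroot, one_pow]
    calc t ^ (M - 1) = t ^ (M - 1) * (t * s) := by rw [mul_comm t s, h1, mul_one]
      _ = (t ^ (M - 1) * t) * s := by rw [mul_assoc]
      _ = s := by rw [h2, one_mul]
  have h3 : dag σ M (dag σ M P) = P.comp ((X ^ (M - 1)) ^ (M - 1)) := by
    unfold dag
    rw [Polynomial.map_comp, Polynomial.map_map, Polynomial.map_pow, Polynomial.map_X, comp_assoc,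
      pow_comp, X_comp]
    have : (σ.comp σ) = RingHom.id K := RingHom.ext (fun x => hσ2 x)
    rw [this, Polynomial.map_id]
  rw [h3, ← AdjoinRoot.aeval_eq, aeval_comp, map_pow, map_pow, aeval_X, h2, AdjoinRoot.aeval_eq]

end tau

end Cfsg.Agent.Helper13.Wall
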