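import Mathlib
import Cfsg.Agent.Lib.Helper13.HermSemisimple
import Cfsg.Agent.Lib.Helper13.WallRing

set_option autoImplicit false
set_option linter.style.haveILetI false
set_option linter.unusedSectionVars false

/-!
# Invariant hermitian-like forms: adjoints, orthogonal complements, representation
-/

namespace Cfsg.Agent.Helper13.Wall

open Polynomial Module Cfsg.Agent.Helper13.HermSS Cfsg.Agent.Helper13.SympSS Cfsg.Agent.Helper13.Dual
  Cfsg.Agent.Helper13.SS

section basic
variable {F K : Type*} [Field F] [Field K] [Algebra F K]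
variable {V : Type*} [AddCommGroup V] [Module F V] [Module K V] [IsScalarTower F K V]
variable {σ : K →ₐ[F] K} {ε : F} {A : Module.End K V} {B : LinearMap.BilinForm F V} {M : ℕ}

theorem aeval_dag (A : Module.End K V) (P : K[X]) :
    aeval A (dag (σ : K →+* K) M P) = aeval (A ^ (M - 1)) (P.map (σ : K →+* K)) := by
  unfold dag
  rw [aeval_comp, map_pow, aeval_X]

theorem dag_dag_eq (hσ2 : ∀ x, σ (σ x) = x) (P : K[X]) :
    dag (σ : K →+* K) M (dag (σ : K →+* K) M P) = P.comp ((X ^ (M - 1)) ^ (M - 1)) := by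
  unfold dag
  rw [Polynomial.map_comp, Polynomial.map_map, Polynomial.map_pow, Polynomial.map_X, comp_assoc,
    pow_comp, X_comp]
  have : ((σ : K →+* K).comp (σ : K →+* K)) = RingHom.id K := RingHom.ext (fun x => hσ2 x)
  rw [this, Polynomial.map_id]

theorem aeval_dag_dag (hσ2 : ∀ x, σ (σ x) = x) (hM : 1 ≤ M) (hAM : A ^ M = 1) (P : K[X]) :
    aeval A (dag (σ : K →+* K) M (dag (σ : K →+* K) M P)) = aeval A P := by
  rw [dag_dag_eq hσ2, aeval_comp, map_pow, map_pow, aeval_X, pow_pred_pow_pred A hM hAM]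

theorem adj_dag (h : HInv σ ε A B) (hM : 1 ≤ M) (hAM : A ^ M = 1) (P : K[X]) (u v : V) :
    B (aeval A P u) v = B u (aeval A (dag (σ : K →+* K) M P) v) := by
  rw [aeval_dag]
  exact h.adj_aeval hM hAM P u v

theorem adj_dag_right (h : HInv σ ε A B) (hσ2 : ∀ x, σ (σ x) = x) (hM : 1 ≤ M)
    (hAM : A ^ M = 1) (P : K[X]) (u v : V) :
    B u (aeval A P v) = B (aeval A (dag (σ : K →+* K) M P) u) v := by
  rw [adj_dag h hM hAM, aeval_dag_dag hσ2 hM hAM]

/-- the orthogonal of a `K`-subspace -/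
def orthH (h : HInv σ ε A B) (hσ2 : ∀ x, σ (σ x) = x) (W : Submodule K V) : Submodule K V where
  carrier := {v | ∀ w ∈ W, B w v = 0}
  add_mem' := by
    intro a b ha hb w hw
    rw [map_add, ha w hw, hb w hw, add_zero]
  zero_mem' := fun w _ => by simp
  smul_mem' := by
    intro c v hv w hw
    show B w (c • v) = 0
    rw [h.adj' hσ2]
    exact hv _ (W.smul_mem _ hw)

theorem mem_orthH (h : HInv σ ε A B) (hσ2 : ∀ x, σ (σ x) = x) (W : Submodule K V) (v : V) :
    v ∈ orthH h hσ2 W ↔ ∀ w ∈ W, B w v = 0 := Iff.rfl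

theorem orthH_invariant (h : HInv σ ε A B) (hσ2 : ∀ x, σ (σ x) = x) (hM : 1 ≤ M)
    (hAM : A ^ M = 1) (W : Submodule K V) (hW : ∀ v ∈ W, A v ∈ W) :
    ∀ v ∈ orthH h hσ2 W, A v ∈ orthH h hσ2 W := by
  intro v hv w hw
  rw [h.adj_end_right hM hAM]
  exact hv _ (pow_mem_of_invariant A hW _ _ hw)

theorem isCompl_orthH [FiniteDimensional F K] [FiniteDimensional K V] (h : HInv σ ε A B)
    (hσ2 : ∀ x, σ (σ x) = x) (W : Submodule K V)
    (hnd : ∀ x ∈ W, (∀ y ∈ W, B x y = 0) → x = 0) : IsCompl W (orthH h hσ2 W) := by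
  have : Module.Finite F V := Module.Finite.trans K V
  have hrefl : B.IsRefl := by
    intro u v huv
    rw [h.symm, huv, mul_zero]
  set W' : Submodule F V := W.restrictScalars F with hW'
  have horth : ∀ v, v ∈ B.orthogonal W' ↔ v ∈ orthH h hσ2 W := by
    intro v
    rw [LinearMap.BilinForm.mem_orthogonal_iff, mem_orthH]
    exact Iff.rfl
  have hdisj : Disjoint W' (B.orthogonal W') := by
    rw [Submodule.disjoint_def]
    intro x hx hx'
    apply hnd x hx
    intro y hy
    rw [h.symm]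
    have := (horth x).1 hx' y hy
    rw [this, mul_zero]
  have hc := (LinearMap.BilinForm.isCompl_orthogonal_iff_disjoint hrefl).2 hdisj
  constructor
  · rw [Submodule.disjoint_def]
    intro x hx hx'
    exact Submodule.disjoint_def.1 hdisj x hx ((horth x).2 hx')
  · rw [Submodule.codisjoint_iff_exists_add_eq]
    intro z
    obtain ⟨y, z', hy, hz', hyz⟩ := Submodule.codisjoint_iff_exists_add_eq.1 hc.codisjoint z
    exact ⟨y, z', hy, (horth z').1 hz', hyz⟩

end basic

section repr
variable {F K : Type*} [Field F] [Field K] [Algebra F K] [FiniteDimensional F K]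
variable {V : Type*} [AddCommGroup V] [Module F V] [Module K V] [IsScalarTower F K V]
  [FiniteDimensional K V]
variable {σ : K →ₐ[F] K} {ε : F} {A : Module.End K V} {B B' : LinearMap.BilinForm F V} {M : ℕ}

/-- a second invariant form is represented by an invertible self-adjoint element of the
commutant -/
theorem exists_repr (hσ2 : ∀ x, σ (σ x) = x) (hε : ε * ε = 1) (hM : 1 ≤ M) (hAM : A ^ M = 1)
    (hB : HInv σ ε A B) (hB' : HInv σ ε A B') :
    ∃ a : V ≃ₗ[K] V, (∀ x, a (A x) = A (a x)) ∧ (∀ x y, B (a x) y = B' x y) ∧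
      ∀ x y, B (a x) y = B x (a y) := by
  haveI : Module.Finite F V := Module.Finite.trans K V
  have hinj : ∀ C : LinearMap.BilinForm F V, HInv σ ε A C → Function.Injective C := by
    intro C hC
    rw [← LinearMap.ker_eq_bot, LinearMap.ker_eq_bot']
    intro x hx
    apply hC.nondeg
    intro v
    rw [hx]
    rfl
  set T : V ≃ₗ[F] (V →ₗ[F] F) :=
    LinearMap.linearEquivOfInjective B (hinj B hB) (Subspace.dual_finrank_eq).symm with hT
  have hTa : ∀ x v, T x v = B x v := fun x v => rfl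
  set a₀ : V →ₗ[F] V := (T.symm : (V →ₗ[F] F) →ₗ[F] V) ∘ₗ B' with ha₀
  have ha₀B : ∀ x y, B (a₀ x) y = B' x y := by
    intro x y
    rw [← hTa, ha₀, LinearMap.comp_apply, LinearEquiv.coe_coe, LinearEquiv.apply_symm_apply]
  have hext : ∀ x x' : V, (∀ y, B x y = B x' y) → x = x' := by
    intro x x' hxx
    apply hinj B hB
    apply LinearMap.ext
    exact hxx
  have hsmul : ∀ (c : K) (x : V), a₀ (c • x) = c • a₀ x := by
    intro c x
    apply hext
    intro y
    rw [ha₀B, hB'.adj, hB.adj, ha₀B]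
  have hcomm : ∀ x, a₀ (A x) = A (a₀ x) := by
    intro x
    apply hext
    intro y
    rw [ha₀B, hB'.adj_end hM hAM, hB.adj_end hM hAM, ha₀B]
  have hself : ∀ x y, B (a₀ x) y = B x (a₀ y) := by
    intro x y
    rw [ha₀B, hB.symm (a₀ y) x, ha₀B, hB'.symm x y, ← mul_assoc, hε, one_mul]
  let aK : V →ₗ[K] V :=
    { toFun := a₀
      map_add' := a₀.map_add
      map_smul' := hsmul }
  have haK : ∀ x, aK x = a₀ x := fun x => rfl
  have hker : LinearMap.ker aK = ⊥ := by
    rw [LinearMap.ker_eq_bot']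
    intro x hx
    apply hB'.nondeg
    intro v
    rw [← ha₀B, ← haK, hx]
    simp
  refine ⟨LinearEquiv.ofInjectiveEndo aK (LinearMap.ker_eq_bot.1 hker), ?_, ?_, ?_⟩
  · intro x
    exact hcomm x
  · intro x y
    exact ha₀B x y
  · intro x y
    exact hself x y

end repr

section transport
variable {F K : Type*} [Field F] [Field K] [Algebra F K]
variable {V : Type*} [AddCommGroup V] [Module F V] [Module K V] [IsScalarTower F K V]
variable {σ : K →ₐ[F] K} {ε : F} {A : Module.End K V} {B : LinearMap.BilinForm F V}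

/-- pulling a form back along a `K`-linear equivalence -/
noncomputable def pullH (B : LinearMap.BilinForm F V) (Θ : V ≃ₗ[K] V) : LinearMap.BilinForm F V :=
  B.compl₁₂ ((Θ : V →ₗ[K] V).restrictScalars F) ((Θ : V →ₗ[K] V).restrictScalars F)

theorem pullH_apply (B : LinearMap.BilinForm F V) (Θ : V ≃ₗ[K] V) (u v : V) :
    pullH B Θ u v = B (Θ u) (Θ v) := rfl

theorem hinv_pullH (h : HInv σ ε A B) (Θ : V ≃ₗ[K] V) (hΘ : ∀ v, Θ (A v) = A (Θ v)) :
    HInv σ ε A (pullH B Θ) where
  adj c u v := by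
    rw [pullH_apply, pullH_apply, Θ.map_smul, Θ.map_smul]
    exact h.adj c _ _
  symm u v := h.symm _ _
  nondeg u hu := by
    apply Θ.injective
    rw [map_zero]
    apply h.nondeg
    intro w
    have := hu (Θ.symm w)
    rw [pullH_apply, Θ.apply_symm_apply] at this
    exact this
  inv u v := by
    rw [pullH_apply, pullH_apply, hΘ, hΘ]
    exact h.inv _ _

end transport

end Cfsg.Agent.Helper13.Wall
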