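import Mathlib
import Cfsg.Agent.Lib.Helper13.WallRing
import Cfsg.Agent.Lib.Helper13.FieldInvolution

set_option autoImplicit false
set_option linter.style.haveILetI false
set_option linter.unusedSectionVars false

/-!
# Norms in `K[X]/(f^e)` for a self-dual irreducible polynomial `f`
-/

namespace Cfsg.Agent.Helper13.Wall

open Polynomial

section
variable {K : Type*} [Field K] (σ : K →+* K) (M : ℕ)

theorem exists_trace_one (hσ2 : ∀ x, σ (σ x) = x) (hσ1 : ∃ c, σ c ≠ c) :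
    ∃ μ : K, μ + σ μ = 1 := by
  obtain ⟨c, hc⟩ := hσ1
  by_cases h : c + σ c = 0
  · have h2 : (2 : K) ≠ 0 := by
      intro h2
      apply hc
      have h3 : σ c = -c := by
        rw [add_comm] at h
        exact eq_neg_of_add_eq_zero_left h
      rw [h3]
      have h4 : c + c = 0 := by rw [← two_mul, h2, zero_mul]
      exact (eq_neg_of_add_eq_zero_left h4).symm
    refine ⟨1 / 2, ?_⟩
    rw [map_div₀, map_one, map_ofNat]
    field_simp
    norm_num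
  · refine ⟨c / (c + σ c), ?_⟩
    have h1 : σ (c + σ c) = c + σ c := by rw [map_add, hσ2, add_comm]
    rw [map_div₀, h1, ← add_div, div_self h]

theorem fixed_inv {Q : Type*} [CommRing Q] (τ : Q →+* Q) {c ci : Q} (hτc : τ c = c)
    (hcci : c * ci = 1) : τ ci = ci := by
  have h1 : c * τ ci = 1 := by rw [← hτc, ← map_mul, hcci, map_one]
  calc τ ci = (ci * c) * τ ci := by rw [mul_comm ci c, hcci, one_mul]
    _ = ci * (c * τ ci) := by ring
    _ = ci := by rw [h1, mul_one]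

/-- in `K[X]/(f^e)`, with `f` self-dual irreducible over a finite field with a nontrivial
involution, every invertible symmetric element is a norm -/
theorem exists_norm_poly [Finite K] (hσ2 : ∀ x, σ (σ x) = x) (hσ1 : ∃ c, σ c ≠ c) (hM : 1 ≤ M)
    (f : K[X]) (hf : Irreducible f) (e : ℕ) (he : 1 ≤ e) (hfe : f ^ e ∣ X ^ M - 1)
    (hfd : f ∣ dag σ M f) (g : K[X]) (hg : ¬ f ∣ g) (hgs : f ^ e ∣ g - dag σ M g) :
    ∃ h : K[X], f ^ e ∣ dag σ M h * h - g := by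
  haveI : Fact (Irreducible f) := ⟨hf⟩
  set m := f ^ e with hm_def
  have hfm : f ∣ m := dvd_pow_self f (by omega)
  have hfM : f ∣ X ^ M - 1 := hfm.trans hfe
  have hm : m ∣ dag σ M m := by
    rw [hm_def, dag_pow]
    exact pow_dvd_pow_of_dvd hfd e
  set τ := tauQ σ M m hm with hτ
  have hτ2 : ∀ x, τ (τ x) = x := tauQ_tauQ σ M m hσ2 hM hfe hm
  set τL := tauQ σ M f hfd with hτL
  have hτL2 : ∀ x, τL (τL x) = x := tauQ_tauQ σ M f hσ2 hM hfM hfd
  -- the projection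
  have hπ0 : m.eval₂ (AdjoinRoot.of f) (AdjoinRoot.root f) = 0 := by
    rw [← AdjoinRoot.algebraMap_eq, ← aeval_def, AdjoinRoot.aeval_eq, AdjoinRoot.mk_eq_zero]
    exact hfm
  set π : AdjoinRoot m →+* AdjoinRoot f :=
    AdjoinRoot.lift (AdjoinRoot.of f) (AdjoinRoot.root f) hπ0 with hπ
  have hπmk : ∀ P : K[X], π (AdjoinRoot.mk m P) = AdjoinRoot.mk f P := by
    intro P
    rw [hπ, AdjoinRoot.lift_mk, ← AdjoinRoot.algebraMap_eq, ← aeval_def, AdjoinRoot.aeval_eq]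
  have hπτ : ∀ x, π (τ x) = τL (π x) := by
    intro x
    obtain ⟨P, rfl⟩ := AdjoinRoot.mk_surjective x
    rw [hτ, tauQ_mk, hπmk, hπmk, hτL, tauQ_mk]
  haveI : Module.Finite K (AdjoinRoot f) := (AdjoinRoot.powerBasis hf.ne_zero).finite
  haveI : Finite (AdjoinRoot f) := Module.finite_of_finite K
  have hτL1 : ∃ x, τL x ≠ x := by
    obtain ⟨c, hc⟩ := hσ1
    refine ⟨AdjoinRoot.of f c, ?_⟩
    rw [hτL, tauQ_of]
    intro h
    exact hc ((AdjoinRoot.of f).injective h)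
  set x₀ := AdjoinRoot.mk m g with hx₀
  have hτx₀ : τ x₀ = x₀ := by
    rw [hx₀, hτ, tauQ_mk, AdjoinRoot.mk_eq_mk, ← neg_sub]
    exact (dvd_neg).2 hgs
  set y := AdjoinRoot.mk f g with hy
  have hy0 : y ≠ 0 := by
    rw [hy, Ne, AdjoinRoot.mk_eq_zero]
    exact hg
  have hτy : τL y = y := by
    have := congrArg π hτx₀
    rwa [hπτ, hx₀, hπmk] at this
  obtain ⟨c, hc⟩ := Herm.norm_surjective τL hτL2 hτL1 y hτy
  obtain ⟨h₀, rfl⟩ := AdjoinRoot.mk_surjective c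
  have hfh₀ : ¬ f ∣ h₀ := by
    intro hdiv
    apply hy0
    rw [← hc, AdjoinRoot.mk_eq_zero.2 hdiv, zero_mul]
  set b₀ := AdjoinRoot.mk m h₀ with hb₀
  have hb₀u : IsUnit b₀ := by
    have hcop : IsCoprime h₀ m := ((hf.coprime_iff_not_dvd.2 hfh₀).pow_left).symm
    obtain ⟨s, t, hst⟩ := hcop
    have h1 : AdjoinRoot.mk m (s * h₀) = 1 := by
      rw [← map_one (AdjoinRoot.mk m), AdjoinRoot.mk_eq_mk]
      exact ⟨-t, by linear_combination hst⟩
    rw [map_mul] at h1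
    exact IsUnit.of_mul_eq_one _ (by rw [mul_comm]; exact h1)
  set n₀ := τ b₀ * b₀ with hn₀
  have hn₀u : IsUnit n₀ := (hb₀u.map τ).mul hb₀u
  have hτn₀ : τ n₀ = n₀ := by rw [hn₀, map_mul, hτ2, mul_comm]
  have hπn₀ : π n₀ = y := by
    rw [hn₀, map_mul, hπτ, hb₀, hπmk, mul_comm]
    exact hc
  obtain ⟨nu, hnu⟩ := hn₀u
  set ni : AdjoinRoot m := ((nu⁻¹ : (AdjoinRoot m)ˣ) : AdjoinRoot m) with hni
  have hnni : n₀ * ni = 1 := by rw [← hnu, hni]; exact nu.mul_inv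
  have hτni : τ ni = ni := fixed_inv τ hτn₀ hnni
  set x₁ := x₀ * ni with hx₁
  have hτx₁ : τ x₁ = x₁ := by rw [hx₁, map_mul, hτx₀, hτni]
  have hπx₁ : π x₁ = 1 := by
    have h1 : π n₀ * π ni = 1 := by rw [← map_mul, hnni, map_one]
    rw [hx₁, map_mul, hx₀, hπmk, ← hy, ← hπn₀]
    exact h1
  set I : Ideal (AdjoinRoot m) := RingHom.ker π with hIdef
  have hx₁I : x₁ - 1 ∈ I := by
    rw [hIdef, RingHom.mem_ker, map_sub, hπx₁, map_one, sub_self]
  have hI : I ≤ Ideal.span {AdjoinRoot.mk m f} := by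
    intro x hx
    obtain ⟨P, rfl⟩ := AdjoinRoot.mk_surjective x
    rw [hIdef, RingHom.mem_ker, hπmk, AdjoinRoot.mk_eq_zero] at hx
    obtain ⟨P', rfl⟩ := hx
    rw [map_mul]
    exact Ideal.mul_mem_right _ _ (Ideal.subset_span rfl)
  have hIe : I ^ e = ⊥ := by
    rw [eq_bot_iff]
    calc I ^ e ≤ (Ideal.span {AdjoinRoot.mk m f}) ^ e := Ideal.pow_right_mono hI e
      _ = Ideal.span {AdjoinRoot.mk m f ^ e} := Ideal.span_singleton_pow _ _
      _ = ⊥ := by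
        rw [← map_pow, ← hm_def, AdjoinRoot.mk_self, Ideal.span_singleton_eq_bot]
  obtain ⟨μ₀, hμ₀⟩ := exists_trace_one σ hσ2 hσ1
  set μ := AdjoinRoot.of m μ₀ with hμdef
  have hμ : μ + τ μ = 1 := by
    rw [hμdef, hτ, tauQ_of, ← map_add, hμ₀, map_one]
  obtain ⟨b₁, _, hb₁⟩ := exists_norm_of_nilpotent τ hτ2 μ hμ I e hIe x₁ hτx₁ hx₁I
  obtain ⟨h, hh⟩ := AdjoinRoot.mk_surjective (b₁ * b₀)
  refine ⟨h, ?_⟩
  rw [← AdjoinRoot.mk_eq_mk, map_mul, ← tauQ_mk σ M m hm, hh, ← hτ, map_mul]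
  calc τ b₁ * τ b₀ * (b₁ * b₀) = (τ b₁ * b₁) * n₀ := by rw [hn₀]; ring
    _ = x₀ * (n₀ * ni) := by rw [hb₁, hx₁]; ring
    _ = x₀ := by rw [hnni, mul_one]

end

end Cfsg.Agent.Helper13.Wall
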