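import Mathlib
import Cfsg.Agent.Lib.Helper13.WallForm
import Cfsg.Agent.Lib.Helper13.WallNorm
import Cfsg.Agent.Lib.Helper13.UnitaryDet

set_option autoImplicit false
set_option linter.style.haveILetI false
set_option linter.unusedSectionVars false
set_option linter.unusedVariables false

/-!
# Cyclic primary modules with invariant hermitian-like forms
-/

namespace Cfsg.Agent.Helper13.Wall

open Polynomial Module Cfsg.Agent.Helper13.HermSS Cfsg.Agent.Helper13.SympSS
  Cfsg.Agent.Helper13.Dual Cfsg.Agent.Helper13.SS Cfsg.Agent.Helper13.Uni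

section poly
variable {K : Type*} [Field K] {V : Type*} [AddCommGroup V] [Module K V]

/-- if `f ^ e` kills `A` then for any polynomial `r` not divisible by `f ^ e` some multiple of
`r` acts as `f ^ (e - 1)` -/
theorem exists_mul_eq_pow (A : Module.End K V) {f : K[X]} (hf : Irreducible f) {e : ℕ}
    (he : 1 ≤ e) (hfe : aeval A (f ^ e) = 0) (r : K[X]) (hr : ¬ f ^ e ∣ r) :
    ∃ q : K[X], aeval A (q * r) = aeval A (f ^ (e - 1)) := by
  have hr0 : r ≠ 0 := by
    rintro rfl
    exact hr (dvd_zero _)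
  obtain ⟨i, r', hr', rfl⟩ := WfDvdMonoid.max_power_factor hr0 hf
  have hi : i < e := by
    by_contra hcon
    push Not at hcon
    exact hr (Dvd.dvd.mul_right (pow_dvd_pow f hcon) r')
  have hcop : IsCoprime (f ^ e) r' := (hf.coprime_iff_not_dvd.2 hr').pow_left
  obtain ⟨s, t, hst⟩ := hcop
  refine ⟨f ^ (e - 1 - i) * t, ?_⟩
  have h1 : f ^ (e - 1 - i) * t * (f ^ i * r') = f ^ (e - 1) - (s * f ^ (e - 1)) * f ^ e := by
    have h2 : f ^ (e - 1 - i) * f ^ i = f ^ (e - 1) := by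
      rw [← pow_add]
      congr 1
      omega
    calc f ^ (e - 1 - i) * t * (f ^ i * r') = (f ^ (e - 1 - i) * f ^ i) * (t * r') := by ring
      _ = f ^ (e - 1) * (1 - s * f ^ e) := by rw [h2, ← hst]; ring
      _ = _ := by ring
  rw [h1, map_sub, map_mul, hfe, mul_zero, sub_zero]

theorem pow_dvd_of_aeval_eq_zero (A : Module.End K V) {f : K[X]} (hf : Irreducible f) {e : ℕ}
    (he : 1 ≤ e) (hfe : aeval A (f ^ e) = 0) (u : V) (hu : aeval A (f ^ (e - 1)) u ≠ 0)
    (r : K[X]) (hr : aeval A r u = 0) : f ^ e ∣ r := by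
  by_contra hcon
  obtain ⟨q, hq⟩ := exists_mul_eq_pow A hf he hfe r hcon
  apply hu
  rw [← hq, map_mul, Module.End.mul_apply, hr, map_zero]

end poly

section cyclic
variable {F K : Type*} [Field F] [Field K] [Algebra F K]
variable {V : Type*} [AddCommGroup V] [Module F V] [Module K V] [IsScalarTower F K V]
variable {σ : K →ₐ[F] K} {ε : F} {A : Module.End K V} {B B' : LinearMap.BilinForm F V} {M : ℕ}

/-- a cyclic submodule whose generator pairs nontrivially with the socle is nondegenerate -/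
theorem cyc_nondeg (h : HInv σ ε A B) (hM : 1 ≤ M) (hAM : A ^ M = 1) {f : K[X]}
    (hf : Irreducible f) {e : ℕ} (he : 1 ≤ e) (hfe : aeval A (f ^ e) = 0) (u : V) (p : K[X])
    (hup : B (aeval A (f ^ (e - 1)) u) (aeval A p u) ≠ 0) :
    ∀ x ∈ cyc A u, (∀ y ∈ cyc A u, B x y = 0) → x = 0 := by
  intro x hx hxy
  by_contra hx0
  obtain ⟨r, rfl⟩ := (mem_cyc A u x).1 hx
  have hr : ¬ f ^ e ∣ r := by
    rintro ⟨c, rfl⟩
    apply hx0
    rw [map_mul, hfe, zero_mul, LinearMap.zero_apply]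
  obtain ⟨q, hq⟩ := exists_mul_eq_pow A hf he hfe r hr
  apply hup
  rw [← hq, map_mul, Module.End.mul_apply, adj_dag h hM hAM, ← Module.End.mul_apply, ← map_mul]
  exact hxy _ (aeval_mem_cyc A u _)

variable [FiniteDimensional F K] [Finite K] [FiniteDimensional K V]

/-- two invariant forms on a cyclic primary module are isometric -/
theorem cyclic_isometry (hσ2 : ∀ x, σ (σ x) = x) (hσ1 : ∃ c, σ c ≠ c) (hε : ε * ε = 1)
    (hM : 1 ≤ M) (hAM : A ^ M = 1) {f : K[X]} (hf : Irreducible f)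
    (hfd : f ∣ dag (σ : K →+* K) M f) {e : ℕ} (he : 1 ≤ e) (hfe : aeval A (f ^ e) = 0)
    (u : V) (hu : aeval A (f ^ (e - 1)) u ≠ 0) (hcyc : ∀ x : V, ∃ P : K[X], aeval A P u = x)
    (hB : HInv σ ε A B) (hB' : HInv σ ε A B') :
    ∃ Z : V ≃ₗ[K] V, (∀ v, Z (A v) = A (Z v)) ∧ ∀ x y, B (Z x) (Z y) = B' x y := by
  have hσ2' : ∀ x, (σ : K →+* K) ((σ : K →+* K) x) = x := hσ2
  have hσ1' : ∃ c, (σ : K →+* K) c ≠ c := hσ1
  obtain ⟨a, hac, haB, hself⟩ := exists_repr hσ2 hε hM hAM hB hB'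
  obtain ⟨g, hg⟩ := hcyc (a u)
  have hag : ∀ x, a x = aeval A g x := by
    intro x
    obtain ⟨r, rfl⟩ := hcyc x
    have h1 := aeval_intertwine (a : V →ₗ[K] V) A A hac r u
    rw [LinearEquiv.coe_coe] at h1
    rw [h1, ← hg, ← Module.End.mul_apply, ← Module.End.mul_apply, ← map_mul, ← map_mul, mul_comm]
  have hfeM : f ^ e ∣ X ^ M - 1 := by
    apply pow_dvd_of_aeval_eq_zero A hf he hfe u hu
    rw [map_sub, map_pow, aeval_X, map_one, hAM, sub_self, LinearMap.zero_apply]
  have hgs : f ^ e ∣ g - dag (σ : K →+* K) M g := by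
    apply pow_dvd_of_aeval_eq_zero A hf he hfe u hu
    apply hB.nondeg
    intro v
    rw [map_sub, LinearMap.sub_apply, map_sub, LinearMap.sub_apply, sub_eq_zero]
    rw [← hag, hself, hag, adj_dag_right hB hσ2 hM hAM]
  have hfg : ¬ f ∣ g := by
    rintro ⟨g', rfl⟩
    apply hu
    apply a.injective
    rw [map_zero, hag, ← Module.End.mul_apply, ← map_mul]
    have h1 : f * g' * f ^ (e - 1) = g' * f ^ e := by
      have h2 : f ^ e = f ^ (e - 1) * f := by rw [← pow_succ, Nat.sub_add_cancel he]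
      rw [h2]
      ring
    rw [h1, map_mul, hfe, mul_zero, LinearMap.zero_apply]
  obtain ⟨h, hh⟩ := exists_norm_poly (σ : K →+* K) M hσ2' hσ1' hM f hf e he hfeM hfd g hfg hgs
  have hfh : ¬ f ∣ h := by
    intro hdiv
    apply hfg
    have h1 : f ∣ dag (σ : K →+* K) M h * h := Dvd.dvd.mul_left hdiv _
    have h2 : f ∣ dag (σ : K →+* K) M h * h - g := (dvd_pow_self f (by omega)).trans hh
    have := dvd_sub h1 h2
    rwa [sub_sub_cancel] at this
  obtain ⟨s, t, hst⟩ : IsCoprime h (f ^ e) := ((hf.coprime_iff_not_dvd.2 hfh).pow_left).symm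
  have hsh : aeval A s * aeval A h = 1 := by
    have h1 : s * h = 1 - t * f ^ e := by rw [← hst]; ring
    rw [← map_mul, h1, map_sub, map_mul, hfe, mul_zero, sub_zero, map_one]
  have hhs : aeval A h * aeval A s = 1 := by
    rw [← map_mul, mul_comm, map_mul]
    exact hsh
  let Z : V ≃ₗ[K] V := LinearEquiv.ofLinear (aeval A h) (aeval A s) hhs hsh
  have hZ : ∀ x, Z x = aeval A h x := fun x => rfl
  refine ⟨Z, ?_, ?_⟩
  · intro v
    rw [hZ, hZ]
    exact (aeval_intertwine A A A (fun _ => rfl) h v).symm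
  · intro x y
    rw [hZ, hZ, adj_dag_right hB hσ2 hM hAM, ← Module.End.mul_apply, ← map_mul, ← haB, hag]
    obtain ⟨c, hc⟩ := hh
    have h1 : dag (σ : K →+* K) M h * h = g + f ^ e * c := by rw [← hc]; ring
    rw [h1, map_add, map_mul, hfe, zero_mul, add_zero]

end cyclic

end Cfsg.Agent.Helper13.Wall
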