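import Mathlib
import Cfsg.Agent.Lib.Helper13.WallCyc

set_option autoImplicit false
set_option linter.style.haveILetI false
set_option linter.unusedSectionVars false
set_option linter.unusedVariables false

/-!
# Invariant sesquilinear forms (not necessarily hermitian)
-/

namespace Cfsg.Agent.Helper13.Sesq

open Polynomial Module Cfsg.Agent.Helper13.HermSS Cfsg.Agent.Helper13.SympSS
  Cfsg.Agent.Helper13.Dual Cfsg.Agent.Helper13.SS Cfsg.Agent.Helper13.Uni
  Cfsg.Agent.Helper13.Wall

section basic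
variable {F K : Type*} [Field F] [Field K] [Algebra F K]
variable {V : Type*} [AddCommGroup V] [Module F V] [Module K V] [IsScalarTower F K V]

/-- invariant nondegenerate sesquilinear forms, not necessarily hermitian -/
structure SInv (σ : K →ₐ[F] K) (A : Module.End K V) (S : LinearMap.BilinForm F V) : Prop where
  adj : ∀ (c : K) (u v : V), S (c • u) v = S u (σ c • v)
  nondeg : ∀ u, (∀ v, S u v = 0) → u = 0
  inv : ∀ u v, S (A u) (A v) = S u v

variable {σ : K →ₐ[F] K} {ε : F} {A : Module.End K V} {S : LinearMap.BilinForm F V} {M : ℕ}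

theorem HInv.toSInv {B : LinearMap.BilinForm F V} (h : HInv σ ε A B) : SInv σ A B :=
  ⟨h.adj, h.nondeg, h.inv⟩

theorem SInv.adj' (h : SInv σ A S) (hσ2 : ∀ x, σ (σ x) = x) (c : K) (u v : V) :
    S u (c • v) = S (σ c • u) v := by
  rw [h.adj, hσ2]

theorem SInv.adj_end (h : SInv σ A S) (hM : 1 ≤ M) (hAM : A ^ M = 1) (u v : V) :
    S (A u) v = S u ((A ^ (M - 1)) v) := by
  have h1 : A ((A ^ (M - 1)) v) = v := by
    rw [← Module.End.mul_apply, ← pow_succ', Nat.sub_add_cancel hM, hAM, Module.End.one_apply]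
  conv_lhs => rw [← h1]
  exact h.inv u _

theorem SInv.adj_end_right (h : SInv σ A S) (hM : 1 ≤ M) (hAM : A ^ M = 1) (u v : V) :
    S u (A v) = S ((A ^ (M - 1)) u) v := by
  have h1 : A ((A ^ (M - 1)) u) = u := by
    rw [← Module.End.mul_apply, ← pow_succ', Nat.sub_add_cancel hM, hAM, Module.End.one_apply]
  rw [← h.inv ((A ^ (M - 1)) u) v, h1]

theorem SInv.adj_pow (h : SInv σ A S) (hM : 1 ≤ M) (hAM : A ^ M = 1) (n : ℕ) (u v : V) :
    S ((A ^ n) u) v = S u (((A ^ (M - 1)) ^ n) v) := by
  induction n generalizing u v with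
  | zero => simp
  | succ n ih =>
    rw [pow_succ', Module.End.mul_apply, h.adj_end hM hAM, ih, pow_succ, Module.End.mul_apply]

theorem SInv.adj_aeval (h : SInv σ A S) (hM : 1 ≤ M) (hAM : A ^ M = 1) (P : K[X]) (u v : V) :
    S (aeval A P u) v = S u (aeval (A ^ (M - 1)) (P.map (σ : K →+* K)) v) := by
  induction P using Polynomial.induction_on' with
  | add p q hp hq =>
    rw [Polynomial.map_add, map_add, map_add, LinearMap.add_apply, LinearMap.add_apply, map_add,
      map_add, LinearMap.add_apply, hp, hq]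
  | monomial n a =>
    rw [Polynomial.map_monomial, aeval_monomial, aeval_monomial, Module.End.mul_apply,
      Module.End.mul_apply, Module.algebraMap_end_apply, Module.algebraMap_end_apply, h.adj,
      h.adj_pow hM hAM, map_smul]
    rfl

theorem SInv.adj_dag (h : SInv σ A S) (hM : 1 ≤ M) (hAM : A ^ M = 1) (P : K[X]) (u v : V) :
    S (aeval A P u) v = S u (aeval A (dag (σ : K →+* K) M P) v) := by
  rw [aeval_dag]
  exact h.adj_aeval hM hAM P u v

theorem SInv.adj_dag_right (h : SInv σ A S) (hσ2 : ∀ x, σ (σ x) = x) (hM : 1 ≤ M)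
    (hAM : A ^ M = 1) (P : K[X]) (u v : V) :
    S u (aeval A P v) = S (aeval A (dag (σ : K →+* K) M P) u) v := by
  rw [h.adj_dag hM hAM, aeval_dag_dag hσ2 hM hAM]

/-- orthogonality of kernels -/
theorem SInv.orth_of_coprime (h : SInv σ A S) (hσ2 : ∀ x, σ (σ x) = x) (hM : 1 ≤ M)
    (hAM : A ^ M = 1) (P Q : K[X]) (hcop : IsCoprime P (dag (σ : K →+* K) M Q)) (u v : V)
    (hu : aeval A P u = 0) (hv : aeval A Q v = 0) : S u v = 0 := by
  obtain ⟨a, b, hab⟩ := hcop
  have h1 : u = aeval A (dag (σ : K →+* K) M Q) (aeval A b u) := by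
    have h3 := congrArg (fun R => aeval A R u) hab
    simp only [map_add, map_mul, map_one, LinearMap.add_apply, Module.End.mul_apply,
      Module.End.one_apply] at h3
    rw [hu, map_zero, zero_add] at h3
    rw [← Module.End.mul_apply, ← map_mul, mul_comm, map_mul, Module.End.mul_apply]
    exact h3.symm
  rw [h1, ← h.adj_dag_right hσ2 hM hAM, hv, map_zero]

end basic

section findim
variable {F K : Type*} [Field F] [Field K] [Algebra F K] [FiniteDimensional F K]
variable {V : Type*} [AddCommGroup V] [Module F V] [Module K V] [IsScalarTower F K V]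
  [FiniteDimensional K V]
variable {σ : K →ₐ[F] K} {A : Module.End K V} {S S' : LinearMap.BilinForm F V} {M : ℕ}

theorem SInv.nondeg_right (h : SInv σ A S) (v : V) (hv : ∀ u, S u v = 0) : v = 0 := by
  haveI : Module.Finite F V := Module.Finite.trans K V
  have hinj : Function.Injective S := by
    rw [← LinearMap.ker_eq_bot, LinearMap.ker_eq_bot']
    intro x hx
    apply h.nondeg
    intro w
    rw [hx]
    rfl
  have hsurj : Function.Surjective S :=
    (LinearMap.injective_iff_surjective_of_finrank_eq_finrank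
      (Subspace.dual_finrank_eq).symm).1 hinj
  apply (Module.forall_dual_apply_eq_zero_iff F v).1
  intro φ
  obtain ⟨u, rfl⟩ := hsurj φ
  exact hv u

theorem SInv.flip (h : SInv σ A S) (hσ2 : ∀ x, σ (σ x) = x) : SInv σ A S.flip where
  adj c u v := by
    show S v (c • u) = S (σ c • v) u
    rw [h.adj' hσ2]
  nondeg u hu := h.nondeg_right u hu
  inv u v := h.inv v u

/-- a second invariant form is represented by an invertible element of the commutant -/
theorem exists_repr_S (hM : 1 ≤ M) (hAM : A ^ M = 1) (hS : SInv σ A S) (hS' : SInv σ A S') :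
    ∃ a : V ≃ₗ[K] V, (∀ x, a (A x) = A (a x)) ∧ ∀ x y, S (a x) y = S' x y := by
  haveI : Module.Finite F V := Module.Finite.trans K V
  have hinj : ∀ C : LinearMap.BilinForm F V, SInv σ A C → Function.Injective C := by
    intro C hC
    rw [← LinearMap.ker_eq_bot, LinearMap.ker_eq_bot']
    intro x hx
    apply hC.nondeg
    intro v
    rw [hx]
    rfl
  set T : V ≃ₗ[F] (V →ₗ[F] F) :=
    LinearMap.linearEquivOfInjective S (hinj S hS) (Subspace.dual_finrank_eq).symm with hT
  have hTa : ∀ x v, T x v = S x v := fun x v => rfl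
  set a₀ : V →ₗ[F] V := (T.symm : (V →ₗ[F] F) →ₗ[F] V) ∘ₗ S' with ha₀
  have ha₀B : ∀ x y, S (a₀ x) y = S' x y := by
    intro x y
    rw [← hTa, ha₀, LinearMap.comp_apply, LinearEquiv.coe_coe, LinearEquiv.apply_symm_apply]
  have hext : ∀ x x' : V, (∀ y, S x y = S x' y) → x = x' := by
    intro x x' hxx
    apply hinj S hS
    apply LinearMap.ext
    exact hxx
  have hsmul : ∀ (c : K) (x : V), a₀ (c • x) = c • a₀ x := by
    intro c x
    apply hext
    intro y
    rw [ha₀B, hS'.adj, hS.adj, ha₀B]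
  have hcomm : ∀ x, a₀ (A x) = A (a₀ x) := by
    intro x
    apply hext
    intro y
    rw [ha₀B, hS'.adj_end hM hAM, hS.adj_end hM hAM, ha₀B]
  let aK : V →ₗ[K] V :=
    { toFun := a₀
      map_add' := a₀.map_add
      map_smul' := hsmul }
  have haK : ∀ x, aK x = a₀ x := fun x => rfl
  have hker : LinearMap.ker aK = ⊥ := by
    rw [LinearMap.ker_eq_bot']
    intro x hx
    apply hS'.nondeg
    intro v
    rw [← ha₀B, ← haK, hx]
    simp
  refine ⟨LinearEquiv.ofInjectiveEndo aK (LinearMap.ker_eq_bot.1 hker), ?_, ?_⟩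
  · intro x
    exact hcomm x
  · intro x y
    exact ha₀B x y

/-- restriction to an invariant subspace on which the form is nondegenerate -/
theorem SInv.restrict (h : SInv σ A S) {W : Submodule K V} (hW : ∀ v ∈ W, A v ∈ W)
    (hnd : ∀ w ∈ W, (∀ w' ∈ W, S w w' = 0) → w = 0) :
    SInv σ (A.restrict hW) (resH S W) where
  adj c u v := h.adj c u v
  nondeg w hw := by
    apply Subtype.ext
    apply hnd w w.2
    intro w' hw'
    exact hw ⟨w', hw'⟩
  inv u v := h.inv u v

/-- the right orthogonal of a `K`-subspace -/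
def rorth (h : SInv σ A S) (hσ2 : ∀ x, σ (σ x) = x) (W : Submodule K V) : Submodule K V where
  carrier := {v | ∀ w ∈ W, S w v = 0}
  add_mem' := by
    intro a b ha hb w hw
    rw [map_add, ha w hw, hb w hw, add_zero]
  zero_mem' := fun w _ => by simp
  smul_mem' := by
    intro c v hv w hw
    show S w (c • v) = 0
    rw [h.adj' hσ2]
    exact hv _ (W.smul_mem _ hw)

theorem mem_rorth (h : SInv σ A S) (hσ2 : ∀ x, σ (σ x) = x) (W : Submodule K V) (v : V) :
    v ∈ rorth h hσ2 W ↔ ∀ w ∈ W, S w v = 0 := Iff.rfl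

theorem rorth_invariant (h : SInv σ A S) (hσ2 : ∀ x, σ (σ x) = x) (hM : 1 ≤ M)
    (hAM : A ^ M = 1) (W : Submodule K V) (hW : ∀ v ∈ W, A v ∈ W) :
    ∀ v ∈ rorth h hσ2 W, A v ∈ rorth h hσ2 W := by
  intro v hv w hw
  rw [h.adj_end_right hM hAM]
  exact hv _ (pow_mem_of_invariant A hW _ _ hw)

theorem isCompl_rorth (h : SInv σ A S) (hσ2 : ∀ x, σ (σ x) = x) (W : Submodule K V)
    (hnd : ∀ x ∈ W, (∀ y ∈ W, S y x = 0) → x = 0) : IsCompl W (rorth h hσ2 W) := by
  haveI : Module.Finite F V := Module.Finite.trans K V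
  set W' : Submodule F V := W.restrictScalars F with hW'
  have horth : ∀ v, v ∈ S.orthogonal W' ↔ v ∈ rorth h hσ2 W := by
    intro v
    rw [LinearMap.BilinForm.mem_orthogonal_iff, mem_rorth]
    exact Iff.rfl
  have hdisj : Disjoint W' (S.orthogonal W') := by
    rw [Submodule.disjoint_def]
    intro x hx hx'
    apply hnd x hx
    intro y hy
    exact (horth x).1 hx' y hy
  have hker : LinearMap.ker S = ⊥ := by
    rw [LinearMap.ker_eq_bot']
    intro x hx
    apply h.nondeg
    intro v
    rw [hx]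
    rfl
  have hdim := LinearMap.BilinForm.finrank_add_finrank_orthogonal' (B := S) W'
  rw [hker, inf_bot_eq, finrank_bot, add_zero] at hdim
  have htop : W' ⊔ S.orthogonal W' = ⊤ := Submodule.eq_top_of_disjoint _ _ hdim.ge hdisj
  constructor
  · rw [Submodule.disjoint_def]
    intro x hx hx'
    exact Submodule.disjoint_def.1 hdisj x hx ((horth x).2 hx')
  · rw [Submodule.codisjoint_iff_exists_add_eq]
    intro z
    have hz : z ∈ W' ⊔ S.orthogonal W' := by
      rw [htop]
      exact Submodule.mem_top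
    obtain ⟨y, hy, z', hz', hyz⟩ := Submodule.mem_sup.1 hz
    exact ⟨y, z', hy, (horth z').1 hz', hyz⟩

end findim

section polar
variable {F K : Type*} [Field F] [Field K] [Algebra F K]
variable {V : Type*} [AddCommGroup V] [Module F V] [Module K V] [IsScalarTower F K V]
variable {σ : K →ₐ[F] K} {A : Module.End K V} {S : LinearMap.BilinForm F V} {M : ℕ}

/-- a nonzero `K`-linear map pairs some vector nontrivially with a multiple of itself -/
theorem polar1_S (hS : SInv σ A S) (hσ1 : ∃ c, σ c ≠ c) (N : Module.End K V) (hN : N ≠ 0) :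
    ∃ (u : V) (d : K), S (N u) (d • u) ≠ 0 := by
  by_contra hcon
  push Not at hcon
  have alt : ∀ (u v : V) (d : K), S (N u) (d • v) + S (N v) (d • u) = 0 := by
    intro u v d
    have h1 := hcon (u + v) d
    rw [map_add, smul_add, map_add, map_add, LinearMap.add_apply, LinearMap.add_apply,
      hcon u d, hcon v d, zero_add, add_zero] at h1
    rw [← h1]
    exact add_comm _ _
  apply hN
  apply LinearMap.ext
  intro u
  rw [LinearMap.zero_apply]
  apply hS.nondeg
  intro v
  obtain ⟨c₀, hc₀⟩ := hσ1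
  have hδ : σ c₀ - c₀ ≠ 0 := sub_ne_zero.2 hc₀
  set d := (σ c₀ - c₀)⁻¹ with hd
  have h1 : S (N (c₀ • u)) (d • v) = S (N u) ((σ c₀ * d) • v) := by
    rw [N.map_smul, hS.adj, smul_smul]
  have h2 : S (N (c₀ • u)) (d • v) = S (N u) ((d * c₀) • v) := by
    have e1 := alt (c₀ • u) v d
    have e2 := alt u v (d * c₀)
    rw [smul_smul] at e1
    have e3 : S (N (c₀ • u)) (d • v) = -S (N v) ((d * c₀) • u) := eq_neg_of_add_eq_zero_left e1
    have e4 : S (N u) ((d * c₀) • v) = -S (N v) ((d * c₀) • u) := eq_neg_of_add_eq_zero_left e2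
    rw [e3, e4]
  have h3 : (σ c₀ * d - d * c₀) = 1 := by
    rw [hd]
    field_simp
  have h4 : S (N u) ((σ c₀ * d - d * c₀) • v) = 0 := by
    rw [sub_smul, map_sub, ← h1, ← h2, sub_self]
  rwa [h3, one_smul] at h4

/-- a cyclic submodule whose generator pairs nontrivially with the socle is left-nondegenerate -/
theorem cyc_nondeg_S (h : SInv σ A S) (hM : 1 ≤ M) (hAM : A ^ M = 1) {f : K[X]}
    (hf : Irreducible f) {e : ℕ} (he : 1 ≤ e) (hfe : aeval A (f ^ e) = 0) (u : V) (p : K[X])
    (hup : S (aeval A (f ^ (e - 1)) u) (aeval A p u) ≠ 0) :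
    ∀ x ∈ cyc A u, (∀ y ∈ cyc A u, S x y = 0) → x = 0 := by
  intro x hx hxy
  by_contra hx0
  obtain ⟨r, rfl⟩ := (mem_cyc A u x).1 hx
  have hr : ¬ f ^ e ∣ r := by
    rintro ⟨c, rfl⟩
    apply hx0
    rw [map_mul, hfe, zero_mul, LinearMap.zero_apply]
  obtain ⟨q, hq⟩ := exists_mul_eq_pow A hf he hfe r hr
  apply hup
  rw [← hq, map_mul, Module.End.mul_apply, h.adj_dag hM hAM, ← Module.End.mul_apply, ← map_mul]
  exact hxy _ (aeval_mem_cyc A u _)

end polar

end Cfsg.Agent.Helper13.Sesq
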