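import Mathlib
import Cfsg.Agent.Lib.Helper13.SesqForm

set_option autoImplicit false
set_option linter.style.haveILetI false
set_option linter.unusedSectionVars false
set_option linter.unusedVariables false

/-!
# Hermitian forms on cyclic self-dual primary modules
-/

namespace Cfsg.Agent.Helper13.Sesq

open Polynomial Module Cfsg.Agent.Helper13.HermSS Cfsg.Agent.Helper13.SympSS
  Cfsg.Agent.Helper13.Dual Cfsg.Agent.Helper13.SS Cfsg.Agent.Helper13.Uni
  Cfsg.Agent.Helper13.Wall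

section ring
variable {K : Type*} [Field K] (σ : K →+* K) (M : ℕ)

/-- Hilbert 90 in `K[X]/(f^e)`: a unitary element `g` is of the form `h / dag h` -/
theorem hilbert90_poly [Finite K] (hσ2 : ∀ x, σ (σ x) = x) (hσ1 : ∃ c, σ c ≠ c) (hM : 1 ≤ M)
    (f : K[X]) (hf : Irreducible f) (e : ℕ) (he : 1 ≤ e) (hfe : f ^ e ∣ X ^ M - 1)
    (hfd : f ∣ dag σ M f) (g : K[X]) (hgg : f ^ e ∣ dag σ M g * g - 1) :
    ∃ h : K[X], ¬ f ∣ h ∧ f ^ e ∣ h - dag σ M h * g := by
  haveI : Fact (Irreducible f) := ⟨hf⟩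
  set m := f ^ e with hm_def
  have hfm : f ∣ m := dvd_pow_self f (by omega)
  have hfM : f ∣ X ^ M - 1 := hfm.trans hfe
  have hm : m ∣ dag σ M m := by
    rw [hm_def, dag_pow]
    exact pow_dvd_pow_of_dvd hfd e
  set τ := tauQ σ M m hm with hτ
  have hτ2 : ∀ x, τ (τ x) = x := tauQ_tauQ σ M m hσ2 hM hfe hm
  set τL := tauQ σ M f hfd with hτL
  have hτL2 : ∀ x, τL (τL x) = x := tauQ_tauQ σ M f hσ2 hM hfM hfd
  have hπ0 : m.eval₂ (AdjoinRoot.of f) (AdjoinRoot.root f) = 0 := by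
    rw [← AdjoinRoot.algebraMap_eq, ← aeval_def, AdjoinRoot.aeval_eq, AdjoinRoot.mk_eq_zero]
    exact hfm
  set π : AdjoinRoot m →+* AdjoinRoot f :=
    AdjoinRoot.lift (AdjoinRoot.of f) (AdjoinRoot.root f) hπ0 with hπ
  have hπmk : ∀ P : K[X], π (AdjoinRoot.mk m P) = AdjoinRoot.mk f P := by
    intro P
    rw [hπ, AdjoinRoot.lift_mk, ← AdjoinRoot.algebraMap_eq, ← aeval_def, AdjoinRoot.aeval_eq]
  have hπτ : ∀ x, π (τ x) = τL (π x) := by
    intro x
    obtain ⟨P, rfl⟩ := AdjoinRoot.mk_surjective x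
    rw [hτ, tauQ_mk, hπmk, hπmk, hτL, tauQ_mk]
  have hτL1 : ∃ x, τL x ≠ x := by
    obtain ⟨c, hc⟩ := hσ1
    refine ⟨AdjoinRoot.of f c, ?_⟩
    rw [hτL, tauQ_of]
    intro h
    exact hc ((AdjoinRoot.of f).injective h)
  set t := AdjoinRoot.mk m g with ht
  have hτt : τ t * t = 1 := by
    rw [ht, hτ, tauQ_mk, ← map_mul, ← map_one (AdjoinRoot.mk m), AdjoinRoot.mk_eq_mk]
    exact hgg
  set tb := π t with htb
  have htb1 : tb * τL tb = 1 := by
    rw [htb, ← hπτ, ← map_mul, mul_comm, hτt, map_one]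
  obtain ⟨b, hb0, hb⟩ := Herm.exists_of_norm_one τL hτL2 hτL1 tb htb1
  obtain ⟨h₀, rfl⟩ := AdjoinRoot.mk_surjective b
  obtain ⟨μ₀, hμ₀⟩ := exists_trace_one σ hσ2 hσ1
  set y := AdjoinRoot.mk m (C μ₀ * h₀) with hy
  set x := y + τ y * t with hx
  have hτx : τ x * t = x := by
    rw [hx, map_add, map_mul, hτ2, add_mul, mul_assoc, hτt, mul_one, add_comm]
  have hπy : π y = AdjoinRoot.of f μ₀ * AdjoinRoot.mk f h₀ := by
    rw [hy, hπmk, map_mul]
    rfl
  have hπx : π x = AdjoinRoot.mk f h₀ := by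
    rw [hx, map_add, map_mul, hπτ, hπy, map_mul, hτL, tauQ_of, ← hτL, ← htb, mul_assoc,
      mul_comm (τL _) tb, hb, ← add_mul, ← map_add, hμ₀, map_one, one_mul]
  obtain ⟨h, hh⟩ := AdjoinRoot.mk_surjective x
  refine ⟨h, ?_, ?_⟩
  · intro hdiv
    apply hb0
    rw [← hπx, ← hh, hπmk, AdjoinRoot.mk_eq_zero]
    exact hdiv
  · rw [← AdjoinRoot.mk_eq_mk, map_mul, ← tauQ_mk σ M m hm, hh, ← hτ, ← ht, hτx]

end ring

section cyclic
variable {F K : Type*} [Field F] [Field K] [Algebra F K] [FiniteDimensional F K] [Finite K]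
variable {V : Type*} [AddCommGroup V] [Module F V] [Module K V] [IsScalarTower F K V]
  [FiniteDimensional K V]
variable {σ : K →ₐ[F] K} {A : Module.End K V} {S : LinearMap.BilinForm F V} {M : ℕ}

/-- a cyclic self-dual primary module with an invariant sesquilinear form carries an invariant
hermitian form -/
theorem cyclic_hermitian (hσ2 : ∀ x, σ (σ x) = x) (hσ1 : ∃ c, σ c ≠ c)
    (hM : 1 ≤ M) (hAM : A ^ M = 1) {f : K[X]} (hf : Irreducible f)
    (hfd : f ∣ dag (σ : K →+* K) M f) {e : ℕ} (he : 1 ≤ e) (hfe : aeval A (f ^ e) = 0)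
    (u : V) (hu : aeval A (f ^ (e - 1)) u ≠ 0) (hcyc : ∀ x : V, ∃ P : K[X], aeval A P u = x)
    (hS : SInv σ A S) : ∃ B : LinearMap.BilinForm F V, HInv σ 1 A B := by
  have hσ2' : ∀ x, (σ : K →+* K) ((σ : K →+* K) x) = x := hσ2
  have hσ1' : ∃ c, (σ : K →+* K) c ≠ c := hσ1
  obtain ⟨t, htc, htS⟩ := exists_repr_S hM hAM hS (hS.flip hσ2)
  have htS' : ∀ x y, S (t x) y = S y x := htS
  obtain ⟨g, hg⟩ := hcyc (t u)
  have htg : ∀ x, t x = aeval A g x := by
    intro x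
    obtain ⟨r, rfl⟩ := hcyc x
    have h1 := aeval_intertwine (t : V →ₗ[K] V) A A htc r u
    rw [LinearEquiv.coe_coe] at h1
    rw [h1, ← hg, ← Module.End.mul_apply, ← Module.End.mul_apply, ← map_mul, ← map_mul, mul_comm]
  have hfeM : f ^ e ∣ X ^ M - 1 := by
    apply pow_dvd_of_aeval_eq_zero A hf he hfe u hu
    rw [map_sub, map_pow, aeval_X, map_one, hAM, sub_self, LinearMap.zero_apply]
  have hgg : f ^ e ∣ dag (σ : K →+* K) M g * g - 1 := by
    apply pow_dvd_of_aeval_eq_zero A hf he hfe u hu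
    apply hS.nondeg
    intro v
    rw [map_sub, LinearMap.sub_apply, map_sub, LinearMap.sub_apply, sub_eq_zero, map_mul,
      Module.End.mul_apply, ← hS.adj_dag_right hσ2 hM hAM, ← htg, ← htg, htS', htS', map_one,
      Module.End.one_apply]
  obtain ⟨h, hfh, hh⟩ := hilbert90_poly (σ : K →+* K) M hσ2' hσ1' hM f hf e he hfeM hfd g hgg
  obtain ⟨s, r, hsr⟩ : IsCoprime h (f ^ e) := ((hf.coprime_iff_not_dvd.2 hfh).pow_left).symm
  have hsh : aeval A s * aeval A h = 1 := by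
    have h1 : s * h = 1 - r * f ^ e := by rw [← hsr]; ring
    rw [← map_mul, h1, map_sub, map_mul, hfe, mul_zero, sub_zero, map_one]
  set L : V →ₗ[F] V := (aeval A h).restrictScalars F with hL
  have hLa : ∀ x, L x = aeval A h x := fun x => rfl
  refine ⟨S ∘ₗ L, ?_, ?_, ?_, ?_⟩
  · intro c a b
    show S (L (c • a)) b = S (L a) (σ c • b)
    rw [hLa, hLa, map_smul, hS.adj]
  · intro a b
    show S (L b) a = 1 * S (L a) b
    rw [one_mul, hLa, hLa, ← htS' a, htg, hS.adj_dag_right hσ2 hM hAM, ← Module.End.mul_apply,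
      ← map_mul]
    obtain ⟨c, hc⟩ := hh
    have h1 : dag (σ : K →+* K) M h * g = h - f ^ e * c := by rw [← hc]; ring
    rw [h1, map_sub, map_mul, hfe, zero_mul, sub_zero]
  · intro a ha
    have h1 : aeval A h a = 0 := hS.nondeg _ (fun v => ha v)
    have h2 := congrArg (aeval A s) h1
    rw [← Module.End.mul_apply, hsh, Module.End.one_apply, map_zero] at h2
    exact h2
  · intro a b
    show S (L (A a)) (A b) = S (L a) b
    rw [hLa, hLa, ← aeval_intertwine A A A (fun _ => rfl) h a]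
    exact hS.inv _ _

end cyclic

end Cfsg.Agent.Helper13.Sesq
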