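import Mathlib
import Cfsg.Agent.Lib.Helper13.WallCyc

set_option autoImplicit false
set_option linter.style.haveILetI false
set_option linter.unusedSectionVars false
set_option linter.unusedVariables false

/-!
# Splitting off a cyclic summand of maximal exponent
-/

namespace Cfsg.Agent.Helper13.Wall

open Polynomial Module Cfsg.Agent.Helper13.HermSS Cfsg.Agent.Helper13.SympSS
  Cfsg.Agent.Helper13.Dual Cfsg.Agent.Helper13.SS Cfsg.Agent.Helper13.Uni

universe u

section theta
variable {K : Type*} [Field K] {V : Type*} [AddCommGroup V] [Module K V]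

/-- the projection onto `X` along `Y` as an endomorphism -/
noncomputable def projE {X Y : Submodule K V} (h : IsCompl X Y) : Module.End K V :=
  X.subtype ∘ₗ X.linearProjOfIsCompl Y h

theorem projE_left {X Y : Submodule K V} (h : IsCompl X Y) (v : V) (hv : v ∈ X) :
    projE h v = v := by
  unfold projE
  have h1 : X.linearProjOfIsCompl Y h v = ⟨v, hv⟩ :=
    Submodule.linearProjOfIsCompl_apply_left h ⟨v, hv⟩
  simp [h1]

theorem projE_right {X Y : Submodule K V} (h : IsCompl X Y) (v : V) (hv : v ∈ Y) :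
    projE h v = 0 := by
  unfold projE
  have h2 : X.linearProjOfIsCompl Y h v = 0 :=
    Submodule.linearProjOfIsCompl_apply_right h ⟨v, hv⟩
  simp [h2]

theorem projE_mem {X Y : Submodule K V} (h : IsCompl X Y) (v : V) : projE h v ∈ X := by
  unfold projE
  simp

theorem projE_commute {X Y : Submodule K V} (h : IsCompl X Y) (A : Module.End K V)
    (hX : ∀ v ∈ X, A v ∈ X) (hY : ∀ v ∈ Y, A v ∈ Y) (v : V) :
    projE h (A v) = A (projE h v) := by
  obtain ⟨a, b, rfl⟩ := exists_decomp h v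
  rw [map_add, map_add, map_add, projE_left h _ a.2, projE_right h _ b.2,
    projE_left h _ (hX _ a.2), projE_right h _ (hY _ b.2), add_zero, add_zero]

theorem mem_of_projE_eq_zero {X Y : Submodule K V} (h : IsCompl X Y) (v : V)
    (hv : projE h v = 0) : v ∈ Y := by
  obtain ⟨a, b, rfl⟩ := exists_decomp h v
  rw [map_add, projE_left h _ a.2, projE_right h _ b.2, add_zero] at hv
  rw [hv, zero_add]
  exact b.2

variable [FiniteDimensional K V]

/-- changing a decomposition into another one by an equivariant automorphism -/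
theorem exists_theta (A : Module.End K V) {C D C' D' : Submodule K V} (hCD : IsCompl C D)
    (hC'D : IsCompl C' D) (hC'D' : IsCompl C' D')
    (hC : ∀ v ∈ C, A v ∈ C) (hD : ∀ v ∈ D, A v ∈ D) (hC' : ∀ v ∈ C', A v ∈ C')
    (hD' : ∀ v ∈ D', A v ∈ D') :
    ∃ Θ : V ≃ₗ[K] V, (∀ v, Θ (A v) = A (Θ v)) ∧ (∀ v ∈ C, Θ v ∈ C') ∧ ∀ v ∈ D, Θ v ∈ D' := by
  set Θ₀ : Module.End K V := glueEnd hCD (projE hC'D) (projE hC'D'.symm) with hΘ₀
  have hΘC : ∀ v ∈ C, Θ₀ v = projE hC'D v := fun v hv => glueEnd_left hCD _ _ v hv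
  have hΘD : ∀ v ∈ D, Θ₀ v = projE hC'D'.symm v := fun v hv => glueEnd_right hCD _ _ v hv
  have hinj : Function.Injective Θ₀ := by
    rw [← LinearMap.ker_eq_bot, LinearMap.ker_eq_bot']
    intro v hv
    obtain ⟨a, b, rfl⟩ := exists_decomp hCD v
    rw [map_add, hΘC _ a.2, hΘD _ b.2] at hv
    have h1 : projE hC'D (a : V) ∈ C' := projE_mem _ _
    have h2 : projE hC'D'.symm (b : V) ∈ D' := projE_mem _ _
    have h3 : projE hC'D (a : V) = -projE hC'D'.symm (b : V) := eq_neg_of_add_eq_zero_left hv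
    have h4 : projE hC'D (a : V) = 0 := by
      apply Submodule.disjoint_def.1 hC'D'.disjoint _ h1
      rw [h3]
      exact D'.neg_mem h2
    have h5 : projE hC'D'.symm (b : V) = 0 := by
      rw [h4] at h3
      exact neg_eq_zero.1 h3.symm
    have h6 : (a : V) = 0 :=
      Submodule.disjoint_def.1 hCD.disjoint _ a.2 (mem_of_projE_eq_zero hC'D _ h4)
    have h7 : (b : V) = 0 :=
      Submodule.disjoint_def.1 hC'D.disjoint _ (mem_of_projE_eq_zero hC'D'.symm _ h5) b.2
    rw [h6, h7, add_zero]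
  refine ⟨LinearEquiv.ofInjectiveEndo Θ₀ hinj, ?_, ?_, ?_⟩
  · intro v
    show Θ₀ (A v) = A (Θ₀ v)
    obtain ⟨a, b, rfl⟩ := exists_decomp hCD v
    rw [map_add, map_add, map_add, hΘC _ a.2, hΘD _ b.2, hΘC _ (hC _ a.2), hΘD _ (hD _ b.2),
      projE_commute hC'D A hC' hD, projE_commute hC'D'.symm A hD' hC', map_add]
  · intro v hv
    show Θ₀ v ∈ C'
    rw [hΘC v hv]
    exact projE_mem _ _
  · intro v hv
    show Θ₀ v ∈ D'
    rw [hΘD v hv]
    exact projE_mem _ _

end theta

section polar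
variable {F K : Type*} [Field F] [Field K] [Algebra F K]
variable {V : Type*} [AddCommGroup V] [Module F V] [Module K V] [IsScalarTower F K V]
variable {σ : K →ₐ[F] K} {ε : F} {A : Module.End K V} {B : LinearMap.BilinForm F V}

/-- a nonzero `K`-linear map pairs some vector nontrivially with a multiple of itself -/
theorem polar1 (hB : HInv σ ε A B) (hσ1 : ∃ c, σ c ≠ c) (N : Module.End K V) (hN : N ≠ 0) :
    ∃ (u : V) (d : K), B (N u) (d • u) ≠ 0 := by
  by_contra hcon
  push Not at hcon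
  have alt : ∀ (u v : V) (d : K), B (N u) (d • v) + B (N v) (d • u) = 0 := by
    intro u v d
    have h1 := hcon (u + v) d
    rw [map_add, smul_add, map_add, map_add, LinearMap.add_apply, LinearMap.add_apply,
      hcon u d, hcon v d, zero_add, add_zero] at h1
    rw [← h1]
    exact add_comm _ _
  apply hN
  apply LinearMap.ext
  intro u
  rw [LinearMap.zero_apply]
  apply hB.nondeg
  intro v
  obtain ⟨c₀, hc₀⟩ := hσ1
  have hδ : σ c₀ - c₀ ≠ 0 := sub_ne_zero.2 hc₀
  set d := (σ c₀ - c₀)⁻¹ with hd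
  have h1 : B (N (c₀ • u)) (d • v) = B (N u) ((σ c₀ * d) • v) := by
    rw [N.map_smul, hB.adj, smul_smul]
  have h2 : B (N (c₀ • u)) (d • v) = B (N u) ((d * c₀) • v) := by
    have e1 := alt (c₀ • u) v d
    have e2 := alt u v (d * c₀)
    rw [smul_smul] at e1
    have e3 : B (N (c₀ • u)) (d • v) = -B (N v) ((d * c₀) • u) := eq_neg_of_add_eq_zero_left e1
    have e4 : B (N u) ((d * c₀) • v) = -B (N v) ((d * c₀) • u) := eq_neg_of_add_eq_zero_left e2
    rw [e3, e4]
  have h3 : (σ c₀ * d - d * c₀) = 1 := by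
    rw [hd]
    field_simp
  have h4 : B (N u) ((σ c₀ * d - d * c₀) • v) = 0 := by
    rw [sub_smul, map_sub, ← h1, ← h2, sub_self]
  rwa [h3, one_smul] at h4

/-- the polarization argument for a complement -/
theorem polar2 (hB : HInv σ ε A B) (hσ2 : ∀ x, σ (σ x) = x) (hσ1 : ∃ c, σ c ≠ c)
    (N : Module.End K V) (D : Submodule K V) (u : V)
    (H : ∀ w ∈ D, ∀ d : K, B (N (u + w)) (d • (u + w)) = 0) :
    ∀ w ∈ D, B (N u) w = 0 := by
  intro w hw
  have hσ2' : ∀ x, (σ : K →+* K) ((σ : K →+* K) x) = x := hσ2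
  have H0 : ∀ d : K, B (N u) (d • u) = 0 := by
    intro d
    have := H 0 D.zero_mem d
    rwa [add_zero] at this
  -- the three functionals
  set sw : K →ₗ[F] V := (LinearMap.toSpanSingleton K V w).restrictScalars F with hsw
  set su : K →ₗ[F] V := (LinearMap.toSpanSingleton K V u).restrictScalars F with hsu
  have hswa : ∀ k, sw k = k • w := fun k => rfl
  have hsua : ∀ k, su k = k • u := fun k => rfl
  set x : K →ₗ[F] F := (B (N u)).comp sw with hx
  set y : K →ₗ[F] F := (B (N w)).comp su with hy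
  set z : K →ₗ[F] F := (B (N w)).comp sw with hz
  have hxa : ∀ k, x k = B (N u) (k • w) := fun k => rfl
  have hya : ∀ k, y k = B (N w) (k • u) := fun k => rfl
  have hza : ∀ k, z k = B (N w) (k • w) := fun k => rfl
  have key : ∀ c d : K, x (d * c) + y (σ c * d) + z (σ c * (d * c)) = 0 := by
    intro c d
    have h1 := H (c • w) (D.smul_mem c hw) d
    rw [map_add, smul_add, map_add, map_add, LinearMap.add_apply, LinearMap.add_apply,
      H0 d, zero_add, N.map_smul, smul_smul, hB.adj, hB.adj, smul_smul, smul_smul] at h1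
    rw [hxa, hya, hza, ← h1]
    ring
  obtain ⟨μ₀, hμ₀⟩ := exists_trace_one (σ : K →+* K) hσ2' hσ1
  have hμ₀' : σ μ₀ + μ₀ = 1 := by rw [add_comm]; exact hμ₀
  have hz0 : ∀ d, z d = 0 := by
    intro d
    have k1 := key (μ₀ + 1) d
    have k2 := key μ₀ d
    have k3 := key 1 d
    rw [map_one, one_mul, mul_one, one_mul] at k3
    have e1 : x (d * (μ₀ + 1)) = x (d * μ₀) + x d := by rw [mul_add, mul_one, map_add]
    have e2 : y (σ (μ₀ + 1) * d) = y (σ μ₀ * d) + y d := by
      rw [map_add, map_one, add_mul, one_mul, map_add]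
    have e3 : z (σ (μ₀ + 1) * (d * (μ₀ + 1))) = z (σ μ₀ * (d * μ₀)) + z d + z d := by
      rw [← map_add, ← map_add]
      congr 1
      rw [map_add, map_one]
      have : (σ μ₀ + 1) * (d * (μ₀ + 1)) = σ μ₀ * (d * μ₀) + (σ μ₀ + μ₀) * d + d := by ring
      rw [this, hμ₀', one_mul]
    rw [e1, e2, e3] at k1
    linear_combination k1 - k2 - k3
  have hxy : ∀ c d : K, x (d * c) + y (σ c * d) = 0 := by
    intro c d
    have := key c d
    rwa [hz0, add_zero] at this
  have hxy1 : ∀ d : K, x d = -y d := by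
    intro d
    have := hxy 1 d
    rw [map_one, one_mul, mul_one] at this
    exact eq_neg_of_add_eq_zero_left this
  obtain ⟨c₀, hc₀⟩ := hσ1
  have hδ : σ c₀ - c₀ ≠ 0 := sub_ne_zero.2 hc₀
  set d := (σ c₀ - c₀)⁻¹ with hd
  have h3 : (σ c₀ * d - d * c₀) = 1 := by
    rw [hd]
    field_simp
  have hy1 : y 1 = 0 := by
    have := hxy c₀ d
    rw [hxy1] at this
    rw [← h3, map_sub]
    linear_combination this
  have hx1 : x 1 = 0 := by rw [hxy1, hy1, neg_zero]
  rw [hxa, one_smul] at hx1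
  exact hx1

end polar

end Cfsg.Agent.Helper13.Wall
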