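import Mathlib
import Cfsg.Agent.Lib.Helper13.SesqCyclic
import Cfsg.Agent.Lib.Helper13.WallSplit

set_option autoImplicit false
set_option linter.style.haveILetI false
set_option linter.unusedSectionVars false
set_option linter.unusedVariables false

/-!
# Building invariant hermitian forms from pieces
-/

namespace Cfsg.Agent.Helper13.Sesq

open Polynomial Module Cfsg.Agent.Helper13.HermSS Cfsg.Agent.Helper13.SympSS
  Cfsg.Agent.Helper13.Dual Cfsg.Agent.Helper13.SS Cfsg.Agent.Helper13.Uni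
  Cfsg.Agent.Helper13.Wall

section glue
variable {F K : Type*} [Field F] [Field K] [Algebra F K] [FiniteDimensional F K]
variable {V : Type*} [AddCommGroup V] [Module F V] [Module K V] [IsScalarTower F K V]
  [FiniteDimensional K V]
variable {σ : K →ₐ[F] K} {A : Module.End K V} {S : LinearMap.BilinForm F V} {M : ℕ}

/-- two isotropic invariant subspaces in duality carry a hermitian form -/
theorem pair_hermitian (hσ2 : ∀ x, σ (σ x) = x) (hS : SInv σ A S) {W₁ W₂ : Submodule K V}
    (hc : IsCompl W₁ W₂) (hA1 : ∀ v ∈ W₁, A v ∈ W₁) (hA2 : ∀ v ∈ W₂, A v ∈ W₂)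
    (h1 : ∀ u ∈ W₁, ∀ v ∈ W₁, S u v = 0) (h2 : ∀ u ∈ W₂, ∀ v ∈ W₂, S u v = 0) :
    ∃ B : LinearMap.BilinForm F V, HInv σ 1 A B := by
  set P₁ : V →ₗ[F] V := (projE hc).restrictScalars F with hP₁
  set P₂ : V →ₗ[F] V := (projE hc.symm).restrictScalars F with hP₂
  have hP₁a : ∀ x, P₁ x = projE hc x := fun x => rfl
  have hP₂a : ∀ x, P₂ x = projE hc.symm x := fun x => rfl
  have hP₁s : ∀ (c : K) x, P₁ (c • x) = c • P₁ x := fun c x => (projE hc).map_smul c x
  have hP₂s : ∀ (c : K) x, P₂ (c • x) = c • P₂ x := fun c x => (projE hc.symm).map_smul c x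
  have hP₁A : ∀ x, P₁ (A x) = A (P₁ x) := fun x => projE_commute hc A hA1 hA2 x
  have hP₂A : ∀ x, P₂ (A x) = A (P₂ x) := fun x => projE_commute hc.symm A hA2 hA1 x
  set T : LinearMap.BilinForm F V := S.compl₁₂ P₁ P₂ with hT
  have hTa : ∀ x y, T x y = S (P₁ x) (P₂ y) := fun x y => rfl
  have hBa : ∀ x y, (T + T.flip) x y = S (P₁ x) (P₂ y) + S (P₁ y) (P₂ x) := fun x y => rfl
  refine ⟨T + T.flip, ?_, ?_, ?_, ?_⟩
  · intro c x y
    rw [hBa, hBa, hP₁s, hP₂s, hP₁s, hP₂s, hS.adj c (P₁ x), hS.adj' hσ2 c (P₁ y)]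
  · intro x y
    rw [hBa, hBa, one_mul, add_comm]
  · intro x hx
    obtain ⟨a, b, rfl⟩ := exists_decomp hc x
    have e1 : P₁ ((a : V) + (b : V)) = a := by
      rw [hP₁a, map_add, projE_left hc _ a.2, projE_right hc _ b.2, add_zero]
    have e2 : P₂ ((a : V) + (b : V)) = b := by
      rw [hP₂a, map_add, projE_right hc.symm _ a.2, projE_left hc.symm _ b.2, zero_add]
    have ha : (a : V) = 0 := by
      apply hS.nondeg
      intro v
      obtain ⟨a', b', rfl⟩ := exists_decomp hc v
      rw [map_add, h1 a a.2 a' a'.2, zero_add]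
      have := hx (b' : V)
      rw [hBa, e1, e2, hP₁a, hP₂a, projE_right hc _ b'.2, projE_left hc.symm _ b'.2, map_zero,
        LinearMap.zero_apply, add_zero] at this
      exact this
    have hb : (b : V) = 0 := by
      apply hS.nondeg_right
      intro v
      obtain ⟨a', b', rfl⟩ := exists_decomp hc v
      rw [map_add, LinearMap.add_apply, h2 b' b'.2 b b.2, add_zero]
      have := hx (a' : V)
      rw [hBa, e1, e2, hP₁a, hP₂a, projE_left hc _ a'.2, projE_right hc.symm _ a'.2, map_zero,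
        zero_add] at this
      exact this
    rw [ha, hb, add_zero]
  · intro x y
    rw [hBa, hBa, hP₁A, hP₁A, hP₂A, hP₂A, hS.inv, hS.inv]

/-- hermitian forms on complementary invariant subspaces glue -/
theorem glue_hermitian {W U : Submodule K V} (hWU : IsCompl W U) (hW : ∀ v ∈ W, A v ∈ W)
    (hU : ∀ v ∈ U, A v ∈ U) (BW : LinearMap.BilinForm F W) (BU : LinearMap.BilinForm F U)
    (hBW : HInv σ 1 (A.restrict hW) BW) (hBU : HInv σ 1 (A.restrict hU) BU) :
    ∃ B : LinearMap.BilinForm F V, HInv σ 1 A B := by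
  set PW : V →ₗ[F] W := (W.linearProjOfIsCompl U hWU).restrictScalars F with hPW
  set PU : V →ₗ[F] U := (U.linearProjOfIsCompl W hWU.symm).restrictScalars F with hPU
  have hPWa : ∀ (a : W) (b : U), PW ((a : V) + (b : V)) = a := by
    intro a b
    show W.linearProjOfIsCompl U hWU ((a : V) + (b : V)) = a
    have e1 : W.linearProjOfIsCompl U hWU (a : V) = a :=
      Submodule.linearProjOfIsCompl_apply_left hWU a
    have e2 : W.linearProjOfIsCompl U hWU (b : V) = 0 :=
      Submodule.linearProjOfIsCompl_apply_right hWU b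
    rw [map_add, e1, e2, add_zero]
  have hPUa : ∀ (a : W) (b : U), PU ((a : V) + (b : V)) = b := by
    intro a b
    show U.linearProjOfIsCompl W hWU.symm ((a : V) + (b : V)) = b
    have e1 : U.linearProjOfIsCompl W hWU.symm (b : V) = b :=
      Submodule.linearProjOfIsCompl_apply_left hWU.symm b
    have e2 : U.linearProjOfIsCompl W hWU.symm (a : V) = 0 :=
      Submodule.linearProjOfIsCompl_apply_right hWU.symm a
    rw [map_add, e1, e2, zero_add]
  have hPWs : ∀ (c : K) x, PW (c • x) = c • PW x := fun c x =>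
    (W.linearProjOfIsCompl U hWU).map_smul c x
  have hPUs : ∀ (c : K) x, PU (c • x) = c • PU x := fun c x =>
    (U.linearProjOfIsCompl W hWU.symm).map_smul c x
  have hPWA : ∀ x, PW (A x) = A.restrict hW (PW x) := by
    intro x
    obtain ⟨a, b, rfl⟩ := exists_decomp hWU x
    rw [hPWa, map_add]
    exact hPWa ⟨A a, hW _ a.2⟩ ⟨A b, hU _ b.2⟩
  have hPUA : ∀ x, PU (A x) = A.restrict hU (PU x) := by
    intro x
    obtain ⟨a, b, rfl⟩ := exists_decomp hWU x
    rw [hPUa, map_add]
    exact hPUa ⟨A a, hW _ a.2⟩ ⟨A b, hU _ b.2⟩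
  set B : LinearMap.BilinForm F V := BW.compl₁₂ PW PW + BU.compl₁₂ PU PU with hB
  have hBa : ∀ x y, B x y = BW (PW x) (PW y) + BU (PU x) (PU y) := fun x y => rfl
  refine ⟨B, ?_, ?_, ?_, ?_⟩
  · intro c x y
    rw [hBa, hBa, hPWs, hPUs, hPWs, hPUs, hBW.adj, hBU.adj]
  · intro x y
    rw [hBa, hBa, hBW.symm, hBU.symm, one_mul, one_mul, one_mul]
  · intro x hx
    obtain ⟨a, b, rfl⟩ := exists_decomp hWU x
    have ha : a = 0 := by
      apply hBW.nondeg
      intro w
      have := hx ((w : V) + ((0 : U) : V))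
      rw [hBa, hPWa, hPUa, hPWa, hPUa, map_zero, add_zero] at this
      exact this
    have hb : b = 0 := by
      apply hBU.nondeg
      intro w
      have := hx (((0 : W) : V) + (w : V))
      rw [hBa, hPWa, hPUa, hPWa, hPUa, map_zero, zero_add] at this
      exact this
    rw [ha, hb]
    simp
  · intro x y
    rw [hBa, hBa, hPWA, hPWA, hPUA, hPUA, hBW.inv, hBU.inv]

end glue

end Cfsg.Agent.Helper13.Sesq
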