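import Mathlib
import Cfsg.Agent.Lib.Helper13.WallSplit

set_option autoImplicit false
set_option linter.style.haveILetI false
set_option linter.unusedSectionVars false
set_option linter.unusedVariables false

/-!
# The self-dual primary case of Wall's theorem for unitary groups
-/

namespace Cfsg.Agent.Helper13.Wall

open Polynomial Module Cfsg.Agent.Helper13.HermSS Cfsg.Agent.Helper13.SympSS
  Cfsg.Agent.Helper13.Dual Cfsg.Agent.Helper13.SS Cfsg.Agent.Helper13.Uni

universe u

section primary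
variable {F K : Type*} [Field F] [Field K] [Algebra F K] [FiniteDimensional F K] [Finite K]
variable {V : Type*} [AddCommGroup V] [Module F V] [Module K V] [IsScalarTower F K V]
  [FiniteDimensional K V]
variable {σ : K →ₐ[F] K} {ε : F} {A : Module.End K V} {B B' : LinearMap.BilinForm F V} {M : ℕ}

/-- the inductive step in the self-dual primary case: split off a cyclic summand of maximal
exponent which is nondegenerate for both forms -/
theorem primary_step_aux (hσ2 : ∀ x, σ (σ x) = x) (hσ1 : ∃ c, σ c ≠ c) (hε : ε * ε = 1)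
    (hM : 1 ≤ M) (hAM : A ^ M = 1) {f : K[X]} (hf : Irreducible f)
    (hfd : f ∣ dag (σ : K →+* K) M f) {e : ℕ} (he : 1 ≤ e) (hfe : aeval A (f ^ e) = 0)
    (hN : aeval A (f ^ (e - 1)) ≠ 0) (hB : HInv σ ε A B) (hB' : HInv σ ε A B')
    (IH : ∀ (D : Submodule K V) (hD : ∀ v ∈ D, A v ∈ D), finrank K D < finrank K V →
      ∀ B₁ B₂ : LinearMap.BilinForm F D, HInv σ ε (A.restrict hD) B₁ →
        HInv σ ε (A.restrict hD) B₂ →
        ∃ Z : D ≃ₗ[K] D, (∀ v, Z (A.restrict hD v) = A.restrict hD (Z v)) ∧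
          ∀ x y, B₁ (Z x) (Z y) = B₂ x y) :
    ∃ Z : V ≃ₗ[K] V, (∀ v, Z (A v) = A (Z v)) ∧ ∀ x y, B (Z x) (Z y) = B' x y := by
  set N := aeval A (f ^ (e - 1)) with hNdef
  -- a generator for `B`
  obtain ⟨u, d, hud⟩ := polar1 hB hσ1 N hN
  have hud' : B (N u) (aeval A (C d) u) ≠ 0 := by
    rwa [aeval_C, Module.algebraMap_end_apply]
  have hNu : N u ≠ 0 := by
    intro h
    apply hud
    rw [h]
    simp
  set C₀ := cyc A u with hC₀
  have hC₀inv : ∀ v ∈ C₀, A v ∈ C₀ := cyc_invariant A u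
  have hC₀nd := cyc_nondeg hB hM hAM hf he hfe u (C d) hud'
  set D := orthH hB hσ2 C₀ with hDdef
  have hCD : IsCompl C₀ D := isCompl_orthH hB hσ2 C₀ hC₀nd
  have hDinv : ∀ v ∈ D, A v ∈ D := orthH_invariant hB hσ2 hM hAM C₀ hC₀inv
  -- a generator for `B'`
  obtain ⟨w, hwD, p, hwp⟩ : ∃ w ∈ D, ∃ p : K[X], B' (N (u + w)) (aeval A p (u + w)) ≠ 0 := by
    by_contra hcon
    push Not at hcon
    apply hNu
    apply hB'.nondeg
    intro v
    obtain ⟨a, b, rfl⟩ := exists_decomp hCD v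
    rw [map_add]
    have h1 : B' (N u) a = 0 := by
      obtain ⟨r, hr⟩ := (mem_cyc A u a).1 a.2
      rw [← hr]
      have := hcon 0 D.zero_mem r
      rwa [add_zero] at this
    have h2 : B' (N u) b = 0 := by
      refine polar2 hB' hσ2 hσ1 N D u (fun w hw d => ?_) b b.2
      have := hcon w hw (C d)
      rwa [aeval_C, Module.algebraMap_end_apply] at this
    rw [h1, h2, add_zero]
  set u' := u + w with hu'
  set C' := cyc A u' with hC'
  have hC'inv : ∀ v ∈ C', A v ∈ C' := cyc_invariant A u'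
  have hC'nd := cyc_nondeg hB' hM hAM hf he hfe u' p hwp
  set D' := orthH hB' hσ2 C' with hD'def
  have hC'D' : IsCompl C' D' := isCompl_orthH hB' hσ2 C' hC'nd
  have hD'inv : ∀ v ∈ D', A v ∈ D' := orthH_invariant hB' hσ2 hM hAM C' hC'inv
  have hC'D : IsCompl C' D := by
    constructor
    · rw [Submodule.disjoint_def]
      intro x hxC' hxD
      obtain ⟨r, rfl⟩ := (mem_cyc A u' x).1 hxC'
      have h1 : aeval A r u = aeval A r u' - aeval A r w := by
        rw [hu', map_add]
        abel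
      have h2 : aeval A r u ∈ D := by
        rw [h1]
        exact D.sub_mem hxD (aeval_mem_of_invariant A D hDinv r w hwD)
      have h3 : aeval A r u = 0 :=
        Submodule.disjoint_def.1 hCD.disjoint _ (aeval_mem_cyc A u r) h2
      have h4 : f ^ e ∣ r := pow_dvd_of_aeval_eq_zero A hf he hfe u hNu r h3
      obtain ⟨c, rfl⟩ := h4
      rw [map_mul, hfe, zero_mul, LinearMap.zero_apply]
    · rw [Submodule.codisjoint_iff_exists_add_eq]
      intro z
      obtain ⟨a, b, rfl⟩ := exists_decomp hCD z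
      obtain ⟨r, hr⟩ := (mem_cyc A u a).1 a.2
      refine ⟨aeval A r u', b - aeval A r w, aeval_mem_cyc A u' r,
        D.sub_mem b.2 (aeval_mem_of_invariant A D hDinv r w hwD), ?_⟩
      rw [← hr, hu', map_add]
      abel
  -- the change of decomposition
  obtain ⟨Θ, hΘc, hΘC, hΘD⟩ := exists_theta A hCD hC'D hC'D' hC₀inv hDinv hC'inv hD'inv
  set B'' := pullH B' Θ with hB''def
  have hB'' : HInv σ ε A B'' := hinv_pullH hB' Θ hΘc
  have horth : ∀ c ∈ C₀, ∀ d ∈ D, B c d = 0 := fun c hc d hd => hd c hc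
  have horth'' : ∀ c ∈ C₀, ∀ d ∈ D, B'' c d = 0 := fun c hc d hd =>
    (hΘD d hd) (Θ c) (hΘC c hc)
  have horth2 : ∀ c ∈ C₀, ∀ d ∈ D, B d c = 0 := by
    intro c hc d hd
    rw [hB.symm, horth c hc d hd, mul_zero]
  have horth2'' : ∀ c ∈ C₀, ∀ d ∈ D, B'' d c = 0 := by
    intro c hc d hd
    rw [hB''.symm, horth'' c hc d hd, mul_zero]
  have hBC := hB.restrict hCD hC₀inv horth
  have hBC'' := hB''.restrict hCD hC₀inv horth''
  have hBD := hB.restrict hCD.symm hDinv (fun d hd c hc => horth2 c hc d hd)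
  have hBD'' := hB''.restrict hCD.symm hDinv (fun d hd c hc => horth2'' c hc d hd)
  -- the cyclic part
  have hresM : (A.restrict hC₀inv) ^ M = 1 := by
    have h1 := aeval_restrict_eq_zero A C₀ hC₀inv (X ^ M - 1) (by
      rw [map_sub, map_pow, aeval_X, map_one, hAM, sub_self, LinearMap.ker_zero]
      exact le_top)
    rwa [map_sub, map_pow, aeval_X, map_one, sub_eq_zero] at h1
  have hresfe : aeval (A.restrict hC₀inv) (f ^ e) = 0 :=
    aeval_restrict_eq_zero A C₀ hC₀inv (f ^ e) (by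
      rw [hfe, LinearMap.ker_zero]
      exact le_top)
  have hresu : aeval (A.restrict hC₀inv) (f ^ (e - 1)) ⟨u, self_mem_cyc A u⟩ ≠ 0 := by
    intro h
    apply hNu
    have := congrArg Subtype.val h
    rwa [aeval_restrict_apply] at this
  have hrescyc : ∀ x : C₀, ∃ P : K[X],
      aeval (A.restrict hC₀inv) P ⟨u, self_mem_cyc A u⟩ = x := by
    intro x
    obtain ⟨r, hr⟩ := (mem_cyc A u x).1 x.2
    refine ⟨r, ?_⟩
    apply Subtype.ext
    rw [aeval_restrict_apply]
    exact hr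
  obtain ⟨ZC, hZCc, hZC⟩ := cyclic_isometry hσ2 hσ1 hε hM hresM hf hfd he hresfe
    ⟨u, self_mem_cyc A u⟩ hresu hrescyc hBC hBC''
  -- the complement
  have hdim : finrank K D < finrank K V := by
    have h1 := Submodule.finrank_add_eq_of_isCompl hCD
    have h2 : 0 < finrank K C₀ := by
      rw [finrank_pos_iff_exists_ne_zero]
      refine ⟨⟨u, self_mem_cyc A u⟩, ?_⟩
      intro h
      apply hNu
      have := congrArg Subtype.val h
      rw [show u = 0 from this, map_zero]
    omega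
  obtain ⟨ZD, hZDc, hZD⟩ := IH D hDinv hdim (resH B D) (resH B'' D) hBD hBD''
  obtain ⟨Z, hZc, hZ⟩ := glue_isometry_H A B B'' hCD hC₀inv hDinv horth horth'' horth2 horth2''
    ZC ZD hZCc hZDc hZC hZD
  refine ⟨Θ.symm.trans Z, ?_, ?_⟩
  · intro v
    show Z (Θ.symm (A v)) = A (Z (Θ.symm v))
    rw [← hZc]
    congr 1
    apply Θ.injective
    rw [Θ.apply_symm_apply, hΘc, Θ.apply_symm_apply]
  · intro x y
    show B (Z (Θ.symm x)) (Z (Θ.symm y)) = B' x y
    rw [hZ, hB''def, pullH_apply, Θ.apply_symm_apply, Θ.apply_symm_apply]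

/-- the self-dual primary case, given the induction hypothesis for proper invariant subspaces -/
theorem primary_step (hσ2 : ∀ x, σ (σ x) = x) (hσ1 : ∃ c, σ c ≠ c) (hε : ε * ε = 1)
    (hM : 1 ≤ M) (hAM : A ^ M = 1) {f : K[X]} (hf : Irreducible f)
    (hfd : f ∣ dag (σ : K →+* K) M f) {a : ℕ} (hfa : aeval A (f ^ a) = 0)
    (hB : HInv σ ε A B) (hB' : HInv σ ε A B')
    (IH : ∀ (D : Submodule K V) (hD : ∀ v ∈ D, A v ∈ D), finrank K D < finrank K V →
      ∀ B₁ B₂ : LinearMap.BilinForm F D, HInv σ ε (A.restrict hD) B₁ →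
        HInv σ ε (A.restrict hD) B₂ →
        ∃ Z : D ≃ₗ[K] D, (∀ v, Z (A.restrict hD v) = A.restrict hD (Z v)) ∧
          ∀ x y, B₁ (Z x) (Z y) = B₂ x y) :
    ∃ Z : V ≃ₗ[K] V, (∀ v, Z (A v) = A (Z v)) ∧ ∀ x y, B (Z x) (Z y) = B' x y := by
  classical
  by_cases hsub : Subsingleton V
  · refine ⟨LinearEquiv.refl K V, fun v => rfl, fun u v => ?_⟩
    rw [Subsingleton.elim u 0]
    simp
  rw [not_subsingleton_iff_nontrivial] at hsub
  have hex : ∃ e, aeval A (f ^ e) = 0 := ⟨a, hfa⟩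
  set e := Nat.find hex with he_def
  have hfe : aeval A (f ^ e) = 0 := Nat.find_spec hex
  have he : 1 ≤ e := by
    rcases Nat.eq_zero_or_pos e with h0 | h0
    · exfalso
      rw [h0, pow_zero, map_one] at hfe
      exact one_ne_zero hfe
    · exact h0
  have hN : aeval A (f ^ (e - 1)) ≠ 0 := Nat.find_min hex (by omega)
  exact primary_step_aux hσ2 hσ1 hε hM hAM hf hfd he hfe hN hB hB' IH

end primary

end Cfsg.Agent.Helper13.Wall
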