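import Mathlib
import Cfsg.Agent.Lib.Helper13.WallPrimary

set_option autoImplicit false
set_option linter.style.haveILetI false
set_option linter.unusedSectionVars false
set_option linter.unusedVariables false

/-!
# Wall's theorem for unitary groups: two invariant hermitian-like forms of an endomorphism of
finite order are isometric by an element of the commutant
-/

namespace Cfsg.Agent.Helper13.Wall

open Polynomial Module Cfsg.Agent.Helper13.HermSS Cfsg.Agent.Helper13.SympSS
  Cfsg.Agent.Helper13.Dual Cfsg.Agent.Helper13.SS Cfsg.Agent.Helper13.Uni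

universe u

section main
open scoped Classical
variable {F K : Type*} [Field F] [Field K] [Algebra F K] [FiniteDimensional F K] [Finite K]

theorem restrict_pow_eq_one {V : Type*} [AddCommGroup V] [Module K V] (A : Module.End K V)
    {M : ℕ} (hAM : A ^ M = 1) (W : Submodule K V) (hW : ∀ v ∈ W, A v ∈ W) :
    (A.restrict hW) ^ M = 1 := by
  have h1 := aeval_restrict_eq_zero A W hW (X ^ M - 1) (by
    rw [map_sub, map_pow, aeval_X, map_one, hAM, sub_self, LinearMap.ker_zero]
    exact le_top)
  rwa [map_sub, map_pow, aeval_X, map_one, sub_eq_zero] at h1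

/-- two invariant nondegenerate hermitian-like forms (for a nontrivial involution of the finite
field `K`) of an endomorphism of finite order are isometric by an equivalence commuting with the
endomorphism -/
theorem exists_commuting_isometry_W {σ : K →ₐ[F] K} (hσ2 : ∀ x, σ (σ x) = x)
    (hσ1 : ∃ c, σ c ≠ c) {ε : F} (hε : ε * ε = 1) (M : ℕ) (hM : 1 ≤ M) :
    ∀ (n : ℕ) (V : Type u) [AddCommGroup V] [Module F V] [Module K V] [IsScalarTower F K V]
      [FiniteDimensional K V] (A : Module.End K V) (B B' : LinearMap.BilinForm F V),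
      finrank K V = n → A ^ M = 1 → HInv σ ε A B → HInv σ ε A B' →
      ∃ Z : V ≃ₗ[K] V, (∀ v, Z (A v) = A (Z v)) ∧ ∀ u v, B (Z u) (Z v) = B' u v := by
  have hσ2' : ∀ x, (σ : K →+* K) ((σ : K →+* K) x) = x := hσ2
  intro n
  induction n using Nat.strong_induction_on with
  | _ n ih =>
  intro V _ _ _ _ _ A B B' hn hAM hB hB'
  by_cases hn0 : n = 0
  · haveI : Subsingleton V := Module.finrank_zero_iff.1 (hn.trans hn0)
    refine ⟨LinearEquiv.refl K V, fun v => rfl, fun u v => ?_⟩
    rw [Subsingleton.elim u 0]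
    simp
  haveI : Nontrivial V := (Module.finrank_pos_iff (R := K) (M := V)).1 (by rw [hn]; omega)
  have hXM : aeval A (X ^ M - 1 : K[X]) = 0 := by
    rw [map_sub, map_pow, aeval_X, map_one, hAM, sub_self]
  have hXM0 : (X ^ M - 1 : K[X]) ≠ 0 := (X_pow_sub_one_monic hM).ne_zero
  -- an irreducible factor of the minimal polynomial
  have hint : IsIntegral K A := Algebra.IsIntegral.isIntegral A
  obtain ⟨f, hfmon, hfirr, hfμ⟩ :=
    Polynomial.exists_monic_irreducible_factor (minpoly K A) (minpoly.not_isUnit K A)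
  have hfM : f ∣ X ^ M - 1 := hfμ.trans (minpoly.dvd K A hXM)
  have hker : LinearMap.ker (aeval A f) ≠ ⊥ := by
    intro hbot
    obtain ⟨g, hg⟩ := hfμ
    have h1 : aeval A f * aeval A g = 0 := by rw [← map_mul, ← hg, minpoly.aeval]
    have h2 : aeval A g = 0 := by
      apply LinearMap.ext
      intro v
      have := LinearMap.congr_fun h1 v
      rw [Module.End.mul_apply, LinearMap.zero_apply] at this
      exact (LinearMap.ker_eq_bot'.1 hbot) _ this
    have h3 := minpoly.dvd K A h2
    have hg0 : g ≠ 0 := by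
      rintro rfl
      rw [mul_zero] at hg
      exact minpoly.ne_zero hint hg
    rw [hg] at h3
    have h4 : f * g ∣ 1 * g := by rwa [one_mul]
    have h5 := (mul_dvd_mul_iff_right hg0).1 h4
    exact hfirr.not_isUnit (isUnit_of_dvd_one h5)
  have hfS : f ∈ irrFactors (X ^ M - 1 : K[X]) := mem_irrFactors_of_dvd hXM0 hfirr hfmon hfM
  obtain ⟨a, g₁, hfg₁, hfac₁⟩ := WfDvdMonoid.max_power_factor hXM0 hfirr
  have ha : 1 ≤ a := by
    rcases Nat.eq_zero_or_pos a with h0 | h0
    · exfalso
      rw [h0, pow_zero, one_mul] at hfac₁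
      exact hfg₁ (hfac₁ ▸ hfM)
    · exact h0
  -- the splitting
  have finish : ∀ (Φ Ψ : K[X]), (X ^ M - 1 : K[X]) = Φ * Ψ → IsCoprime Φ Ψ →
      IsCoprime Φ (dag (σ : K →+* K) M Ψ) → f ∣ Φ →
      (∀ hW : ∀ v ∈ LinearMap.ker (aeval A Φ), A v ∈ LinearMap.ker (aeval A Φ),
        HInv σ ε (A.restrict hW) (resH B (LinearMap.ker (aeval A Φ))) →
        HInv σ ε (A.restrict hW) (resH B' (LinearMap.ker (aeval A Φ))) →
        ∃ ZW : LinearMap.ker (aeval A Φ) ≃ₗ[K] LinearMap.ker (aeval A Φ),
          (∀ w, ZW (A.restrict hW w) = A.restrict hW (ZW w)) ∧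
          ∀ w w', resH B _ (ZW w) (ZW w') = resH B' _ w w') →
      ∃ Z : V ≃ₗ[K] V, (∀ v, Z (A v) = A (Z v)) ∧ ∀ u v, B (Z u) (Z v) = B' u v := by
    intro Φ Ψ hfac hcop hcop' hfΦ hsolve
    set W := LinearMap.ker (aeval A Φ) with hWdef
    set U := LinearMap.ker (aeval A Ψ) with hUdef
    have hWU : IsCompl W U := isCompl_ker_aeval A hcop (by rw [← hfac]; exact hXM)
    have hW : ∀ v ∈ W, A v ∈ W := ker_aeval_invariant A Φ
    have hU : ∀ v ∈ U, A v ∈ U := ker_aeval_invariant A Ψ
    have horth : ∀ C : LinearMap.BilinForm F V, HInv σ ε A C → ∀ w ∈ W, ∀ u ∈ U, C w u = 0 := by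
      intro C hC w hw u hu
      exact hC.orth_of_coprime hσ2 hM hAM Φ Ψ hcop' w u (LinearMap.mem_ker.1 hw)
        (LinearMap.mem_ker.1 hu)
    have horth2 : ∀ C : LinearMap.BilinForm F V, HInv σ ε A C → ∀ w ∈ W, ∀ u ∈ U, C u w = 0 := by
      intro C hC w hw u hu
      rw [hC.symm, horth C hC w hw u hu, mul_zero]
    have hBW := hB.restrict hWU hW (horth B hB)
    have hBW' := hB'.restrict hWU hW (horth B' hB')
    have hBU := hB.restrict hWU.symm hU (fun u hu w hw => horth2 B hB w hw u hu)
    have hBU' := hB'.restrict hWU.symm hU (fun u hu w hw => horth2 B' hB' w hw u hu)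
    obtain ⟨ZW, hZWc, hZW⟩ := hsolve hW hBW hBW'
    have hWpos : 0 < finrank K W := by
      have h1 : LinearMap.ker (aeval A f) ≤ W := ker_aeval_le_of_dvd A hfΦ
      have h2 := Submodule.finrank_mono h1
      have h3 : 0 < finrank K (LinearMap.ker (aeval A f)) := by
        rw [Module.finrank_pos_iff]
        exact Submodule.nontrivial_iff_ne_bot.2 hker
      omega
    have hdim : finrank K W + finrank K U = finrank K V :=
      Submodule.finrank_add_eq_of_isCompl hWU
    obtain ⟨ZU, hZUc, hZU⟩ := ih (finrank K U) (by omega) U (A.restrict hU) (resH B U)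
      (resH B' U) rfl (restrict_pow_eq_one A hAM U hU) hBU hBU'
    exact glue_isometry_H A B B' hWU hW hU (horth B hB) (horth B' hB') (horth2 B hB)
      (horth2 B' hB') ZW ZU hZWc hZUc hZW hZU
  by_cases hfd : cdual M (σ : K →+* K) f = f
  · -- the self-dual case
    have hfd' : f ∣ dag (σ : K →+* K) M f := (dvd_comp_map_iff hσ2' hfirr f).2 (by rw [hfd])
    have hcop : IsCoprime (f ^ a) g₁ := (hfirr.coprime_iff_not_dvd.2 hfg₁).pow_left
    have hcop' : IsCoprime (f ^ a) (dag (σ : K →+* K) M g₁) := by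
      apply IsCoprime.pow_left
      rw [hfirr.coprime_iff_not_dvd]
      intro h
      have := (dvd_comp_map_iff hσ2' hfirr g₁).1 h
      rw [hfd] at this
      exact hfg₁ this
    apply finish (f ^ a) g₁ hfac₁ hcop hcop' (dvd_pow_self f (by omega))
    intro hW hBW hBW'
    set W := LinearMap.ker (aeval A (f ^ a)) with hWdef
    have hfa : aeval (A.restrict hW) (f ^ a) = 0 := aeval_restrict_eq_zero A W hW (f ^ a) le_rfl
    have hWle : finrank K W ≤ n := hn ▸ Submodule.finrank_le W
    refine primary_step hσ2 hσ1 hε hM (restrict_pow_eq_one A hAM W hW) hfirr hfd' hfa hBW hBW' ?_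
    intro D hD hlt B₁ B₂ h₁ h₂
    exact ih (finrank K D) (lt_of_lt_of_le hlt hWle) D ((A.restrict hW).restrict hD) B₁ B₂ rfl
      (restrict_pow_eq_one _ (restrict_pow_eq_one A hAM W hW) D hD) h₁ h₂
  · -- the case of a dual pair
    set f' := cdual M (σ : K →+* K) f with hf'
    have hf'irr : Irreducible f' := cdual_irreducible hσ2' hfirr
    have hg₁0 : g₁ ≠ 0 := by
      rintro rfl
      rw [mul_zero] at hfac₁
      exact hXM0 hfac₁
    obtain ⟨b, g, hf'g, hfac₂⟩ := WfDvdMonoid.max_power_factor hg₁0 hf'irr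
    have hfg : ¬ f ∣ g := fun h => hfg₁ (hfac₂ ▸ Dvd.dvd.mul_left h _)
    have hfac : (X ^ M - 1 : K[X]) = (f ^ a * f' ^ b) * g := by
      rw [hfac₁, hfac₂, mul_assoc]
    have hcop : IsCoprime (f ^ a * f' ^ b) g :=
      IsCoprime.mul_left (hfirr.coprime_iff_not_dvd.2 hfg).pow_left
        (hf'irr.coprime_iff_not_dvd.2 hf'g).pow_left
    have hcop' : IsCoprime (f ^ a * f' ^ b) (dag (σ : K →+* K) M g) := by
      apply IsCoprime.mul_left
      · apply IsCoprime.pow_left
        rw [hfirr.coprime_iff_not_dvd]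
        intro h
        exact hf'g ((dvd_comp_map_iff hσ2' hfirr g).1 h)
      · apply IsCoprime.pow_left
        rw [hf'irr.coprime_iff_not_dvd]
        intro h
        have := (dvd_comp_map_iff hσ2' hf'irr g).1 h
        rw [hf', cdual_cdual hσ2' hM hfirr hfmon hfM] at this
        exact hfg this
    apply finish (f ^ a * f' ^ b) g hfac hcop hcop' (Dvd.dvd.mul_right (dvd_pow_self f (by omega)) _)
    intro hW hBW hBW'
    set W := LinearMap.ker (aeval A (f ^ a * f' ^ b)) with hWdef
    set AW := A.restrict hW with hAW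
    have hAWM : AW ^ M = 1 := restrict_pow_eq_one A hAM W hW
    have hΦW : aeval AW (f ^ a * f' ^ b) = 0 := aeval_restrict_eq_zero A W hW _ le_rfl
    have hcff' : IsCoprime (f ^ a) (f' ^ b) := (coprime_self_cdual hσ2' hfS hfd).pow
    have hc : IsCompl (LinearMap.ker (aeval AW (f ^ a))) (LinearMap.ker (aeval AW (f' ^ b))) :=
      isCompl_ker_aeval AW hcff' hΦW
    have hc1 : IsCoprime (f ^ a) (((f ^ a).map (σ : K →+* K)).comp (X ^ (M - 1))) := by
      rw [Polynomial.map_pow, pow_comp]
      exact (coprime_self_ccomp hσ2' hfS hfd).pow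
    have hc2 : IsCoprime (f' ^ b) (((f' ^ b).map (σ : K →+* K)).comp (X ^ (M - 1))) := by
      rw [Polynomial.map_pow, pow_comp]
      exact (coprime_cdual_ccomp hσ2' hM hfS hfd).pow
    refine pair_block_H hσ2 AW hM hAWM _ _ hBW hBW' hc (ker_aeval_invariant AW _)
      (ker_aeval_invariant AW _) ?_ ?_ ?_ ?_
    · intro u hu v hv
      exact hBW.orth_of_coprime hσ2 hM hAWM _ _ hc1 u v (LinearMap.mem_ker.1 hu)
        (LinearMap.mem_ker.1 hv)
    · intro u hu v hv
      exact hBW'.orth_of_coprime hσ2 hM hAWM _ _ hc1 u v (LinearMap.mem_ker.1 hu)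
        (LinearMap.mem_ker.1 hv)
    · intro u hu v hv
      exact hBW.orth_of_coprime hσ2 hM hAWM _ _ hc2 u v (LinearMap.mem_ker.1 hu)
        (LinearMap.mem_ker.1 hv)
    · intro u hu v hv
      exact hBW'.orth_of_coprime hσ2 hM hAWM _ _ hc2 u v (LinearMap.mem_ker.1 hu)
        (LinearMap.mem_ker.1 hv)

end main

end Cfsg.Agent.Helper13.Wall
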