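import Mathlib
import Cfsg.Agent.Lib.Helper13.SesqGlue
import Cfsg.Agent.Lib.Helper13.WallMain

set_option autoImplicit false
set_option linter.style.haveILetI false
set_option linter.unusedSectionVars false
set_option linter.unusedVariables false

/-!
# Existence of invariant hermitian forms: an endomorphism of finite order preserving a
nondegenerate sesquilinear form preserves a nondegenerate hermitian form
-/

namespace Cfsg.Agent.Helper13.Sesq

open Polynomial Module Cfsg.Agent.Helper13.HermSS Cfsg.Agent.Helper13.SympSS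
  Cfsg.Agent.Helper13.Dual Cfsg.Agent.Helper13.SS Cfsg.Agent.Helper13.Uni
  Cfsg.Agent.Helper13.Wall

universe u

section primary
variable {F K : Type*} [Field F] [Field K] [Algebra F K] [FiniteDimensional F K] [Finite K]
variable {V : Type*} [AddCommGroup V] [Module F V] [Module K V] [IsScalarTower F K V]
  [FiniteDimensional K V]
variable {σ : K →ₐ[F] K} {A : Module.End K V} {S : LinearMap.BilinForm F V} {M : ℕ}

theorem primary_hermitian_aux (hσ2 : ∀ x, σ (σ x) = x) (hσ1 : ∃ c, σ c ≠ c)
    (hM : 1 ≤ M) (hAM : A ^ M = 1) {f : K[X]} (hf : Irreducible f)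
    (hfd : f ∣ dag (σ : K →+* K) M f) {e : ℕ} (he : 1 ≤ e) (hfe : aeval A (f ^ e) = 0)
    (hN : aeval A (f ^ (e - 1)) ≠ 0) (hS : SInv σ A S)
    (IH : ∀ (D : Submodule K V) (hD : ∀ v ∈ D, A v ∈ D), finrank K D < finrank K V →
      ∀ S₁ : LinearMap.BilinForm F D, SInv σ (A.restrict hD) S₁ →
        ∃ B₁ : LinearMap.BilinForm F D, HInv σ 1 (A.restrict hD) B₁) :
    ∃ B : LinearMap.BilinForm F V, HInv σ 1 A B := by
  set N := aeval A (f ^ (e - 1)) with hNdef
  obtain ⟨u, d, hud⟩ := polar1_S hS hσ1 N hN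
  have hud' : S (N u) (aeval A (C d) u) ≠ 0 := by
    rwa [aeval_C, Module.algebraMap_end_apply]
  have hNu : N u ≠ 0 := by
    intro h
    apply hud
    rw [h]
    simp
  set C₀ := cyc A u with hC₀
  have hC₀inv : ∀ v ∈ C₀, A v ∈ C₀ := cyc_invariant A u
  have hC₀nd : ∀ x ∈ C₀, (∀ y ∈ C₀, S x y = 0) → x = 0 :=
    cyc_nondeg_S hS hM hAM hf he hfe u (C d) hud'
  have hSC : SInv σ (A.restrict hC₀inv) (resH S C₀) := hS.restrict hC₀inv hC₀nd
  have hC₀ndr : ∀ x ∈ C₀, (∀ y ∈ C₀, S y x = 0) → x = 0 := by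
    intro x hx hxy
    have := hSC.nondeg_right ⟨x, hx⟩ (fun y => hxy y y.2)
    exact congrArg Subtype.val this
  -- the right orthogonal
  set D' := rorth hS hσ2 C₀ with hD'def
  have hCD' : IsCompl C₀ D' := isCompl_rorth hS hσ2 C₀ hC₀ndr
  have hD'inv : ∀ v ∈ D', A v ∈ D' := rorth_invariant hS hσ2 hM hAM C₀ hC₀inv
  -- the left orthogonal
  have hSf : SInv σ A S.flip := hS.flip hσ2
  set D'' := rorth hSf hσ2 C₀ with hD''def
  have hCD'' : IsCompl C₀ D'' := isCompl_rorth hSf hσ2 C₀ (fun x hx hxy => hC₀nd x hx hxy)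
  have hD''inv : ∀ v ∈ D'', A v ∈ D'' := rorth_invariant hSf hσ2 hM hAM C₀ hC₀inv
  have hD''mem : ∀ v ∈ D'', ∀ c ∈ C₀, S v c = 0 := fun v hv c hc => hv c hc
  -- the form on the right orthogonal
  set P : Module.End K V := projE hCD''.symm with hP
  set S' : LinearMap.BilinForm F D' := resH (S ∘ₗ P.restrictScalars F) D' with hS'def
  have hS'a : ∀ x y : D', S' x y = S (P (x : V)) (y : V) := fun x y => rfl
  have hS' : SInv σ (A.restrict hD'inv) S' := by
    refine ⟨?_, ?_, ?_⟩
    · intro c x y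
      rw [hS'a, hS'a]
      show S (P (c • (x : V))) (y : V) = S (P (x : V)) (σ c • (y : V))
      rw [P.map_smul, hS.adj]
    · intro x hx
      have h1 : P (x : V) = 0 := by
        apply hS.nondeg
        intro v
        obtain ⟨a, b, rfl⟩ := exists_decomp hCD' v
        rw [map_add]
        have e1 : S (P (x : V)) a = 0 := hD''mem _ (projE_mem hCD''.symm (x : V)) a a.2
        have e2 : S (P (x : V)) b = 0 := hx b
        rw [e1, e2, add_zero]
      have h2 : (x : V) ∈ C₀ := mem_of_projE_eq_zero hCD''.symm _ h1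
      apply Subtype.ext
      exact Submodule.disjoint_def.1 hCD'.disjoint _ h2 x.2
    · intro x y
      rw [hS'a, hS'a]
      show S (P (A (x : V))) (A (y : V)) = S (P (x : V)) (y : V)
      rw [projE_commute hCD''.symm A hD''inv hC₀inv, hS.inv]
  have hdim : finrank K D' < finrank K V := by
    have h1 := Submodule.finrank_add_eq_of_isCompl hCD'
    have h2 : 0 < finrank K C₀ := by
      rw [finrank_pos_iff_exists_ne_zero]
      refine ⟨⟨u, self_mem_cyc A u⟩, ?_⟩
      intro h
      apply hNu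
      have := congrArg Subtype.val h
      rw [show u = 0 from this, map_zero]
    omega
  obtain ⟨BD, hBD⟩ := IH D' hD'inv hdim S' hS'
  -- the cyclic part
  have hresM : (A.restrict hC₀inv) ^ M = 1 := restrict_pow_eq_one A hAM C₀ hC₀inv
  have hresfe : aeval (A.restrict hC₀inv) (f ^ e) = 0 :=
    aeval_restrict_eq_zero A C₀ hC₀inv (f ^ e) (by
      rw [hfe, LinearMap.ker_zero]
      exact le_top)
  have hresu : aeval (A.restrict hC₀inv) (f ^ (e - 1)) ⟨u, self_mem_cyc A u⟩ ≠ 0 := by
    intro h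
    apply hNu
    have := congrArg Subtype.val h
    rwa [aeval_restrict_apply] at this
  have hrescyc : ∀ x : C₀, ∃ P : K[X],
      aeval (A.restrict hC₀inv) P ⟨u, self_mem_cyc A u⟩ = x := by
    intro x
    obtain ⟨r, hr⟩ := (mem_cyc A u x).1 x.2
    refine ⟨r, ?_⟩
    apply Subtype.ext
    rw [aeval_restrict_apply]
    exact hr
  obtain ⟨BC, hBC⟩ := cyclic_hermitian hσ2 hσ1 hM hresM hf hfd he hresfe
    ⟨u, self_mem_cyc A u⟩ hresu hrescyc hSC
  exact glue_hermitian hCD' hC₀inv hD'inv BC BD hBC hBD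

theorem primary_hermitian (hσ2 : ∀ x, σ (σ x) = x) (hσ1 : ∃ c, σ c ≠ c)
    (hM : 1 ≤ M) (hAM : A ^ M = 1) {f : K[X]} (hf : Irreducible f)
    (hfd : f ∣ dag (σ : K →+* K) M f) {a : ℕ} (hfa : aeval A (f ^ a) = 0)
    (hS : SInv σ A S)
    (IH : ∀ (D : Submodule K V) (hD : ∀ v ∈ D, A v ∈ D), finrank K D < finrank K V →
      ∀ S₁ : LinearMap.BilinForm F D, SInv σ (A.restrict hD) S₁ →
        ∃ B₁ : LinearMap.BilinForm F D, HInv σ 1 (A.restrict hD) B₁) :
    ∃ B : LinearMap.BilinForm F V, HInv σ 1 A B := by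
  classical
  by_cases hsub : Subsingleton V
  · refine ⟨0, fun c u v => by simp, fun u v => by simp, fun u _ => Subsingleton.elim _ _,
      fun u v => by simp⟩
  rw [not_subsingleton_iff_nontrivial] at hsub
  have hex : ∃ e, aeval A (f ^ e) = 0 := ⟨a, hfa⟩
  set e := Nat.find hex with he_def
  have hfe : aeval A (f ^ e) = 0 := Nat.find_spec hex
  have he : 1 ≤ e := by
    rcases Nat.eq_zero_or_pos e with h0 | h0
    · exfalso
      rw [h0, pow_zero, map_one] at hfe
      exact one_ne_zero hfe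
    · exact h0
  have hN : aeval A (f ^ (e - 1)) ≠ 0 := Nat.find_min hex (by omega)
  exact primary_hermitian_aux hσ2 hσ1 hM hAM hf hfd he hfe hN hS IH

end primary

section main
open scoped Classical
variable {F K : Type*} [Field F] [Field K] [Algebra F K] [FiniteDimensional F K] [Finite K]

/-- an endomorphism of finite order preserving a nondegenerate sesquilinear form (for a
nontrivial involution of the finite field `K`) preserves a nondegenerate hermitian form -/
theorem exists_hermitian {σ : K →ₐ[F] K} (hσ2 : ∀ x, σ (σ x) = x)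
    (hσ1 : ∃ c, σ c ≠ c) (M : ℕ) (hM : 1 ≤ M) :
    ∀ (n : ℕ) (V : Type u) [AddCommGroup V] [Module F V] [Module K V] [IsScalarTower F K V]
      [FiniteDimensional K V] (A : Module.End K V) (S : LinearMap.BilinForm F V),
      finrank K V = n → A ^ M = 1 → SInv σ A S →
      ∃ B : LinearMap.BilinForm F V, HInv σ 1 A B := by
  have hσ2' : ∀ x, (σ : K →+* K) ((σ : K →+* K) x) = x := hσ2
  intro n
  induction n using Nat.strong_induction_on with
  | _ n ih =>
  intro V _ _ _ _ _ A S hn hAM hS
  by_cases hn0 : n = 0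
  · haveI : Subsingleton V := Module.finrank_zero_iff.1 (hn.trans hn0)
    exact ⟨0, fun c u v => by simp, fun u v => by simp, fun u _ => Subsingleton.elim _ _,
      fun u v => by simp⟩
  haveI : Nontrivial V := (Module.finrank_pos_iff (R := K) (M := V)).1 (by rw [hn]; omega)
  have hXM : aeval A (X ^ M - 1 : K[X]) = 0 := by
    rw [map_sub, map_pow, aeval_X, map_one, hAM, sub_self]
  have hXM0 : (X ^ M - 1 : K[X]) ≠ 0 := (X_pow_sub_one_monic hM).ne_zero
  have hint : IsIntegral K A := Algebra.IsIntegral.isIntegral A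
  obtain ⟨f, hfmon, hfirr, hfμ⟩ :=
    Polynomial.exists_monic_irreducible_factor (minpoly K A) (minpoly.not_isUnit K A)
  have hfM : f ∣ X ^ M - 1 := hfμ.trans (minpoly.dvd K A hXM)
  have hker : LinearMap.ker (aeval A f) ≠ ⊥ := by
    intro hbot
    obtain ⟨g, hg⟩ := hfμ
    have h1 : aeval A f * aeval A g = 0 := by rw [← map_mul, ← hg, minpoly.aeval]
    have h2 : aeval A g = 0 := by
      apply LinearMap.ext
      intro v
      have := LinearMap.congr_fun h1 v
      rw [Module.End.mul_apply, LinearMap.zero_apply] at this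
      exact (LinearMap.ker_eq_bot'.1 hbot) _ this
    have h3 := minpoly.dvd K A h2
    have hg0 : g ≠ 0 := by
      rintro rfl
      rw [mul_zero] at hg
      exact minpoly.ne_zero hint hg
    rw [hg] at h3
    have h4 : f * g ∣ 1 * g := by rwa [one_mul]
    have h5 := (mul_dvd_mul_iff_right hg0).1 h4
    exact hfirr.not_isUnit (isUnit_of_dvd_one h5)
  have hfS : f ∈ irrFactors (X ^ M - 1 : K[X]) := mem_irrFactors_of_dvd hXM0 hfirr hfmon hfM
  obtain ⟨a, g₁, hfg₁, hfac₁⟩ := WfDvdMonoid.max_power_factor hXM0 hfirr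
  have ha : 1 ≤ a := by
    rcases Nat.eq_zero_or_pos a with h0 | h0
    · exfalso
      rw [h0, pow_zero, one_mul] at hfac₁
      exact hfg₁ (hfac₁ ▸ hfM)
    · exact h0
  have hSf : SInv σ A S.flip := hS.flip hσ2
  have finish : ∀ (Φ Ψ : K[X]), (X ^ M - 1 : K[X]) = Φ * Ψ → IsCoprime Φ Ψ →
      IsCoprime Φ (dag (σ : K →+* K) M Ψ) → f ∣ Φ →
      (∀ hW : ∀ v ∈ LinearMap.ker (aeval A Φ), A v ∈ LinearMap.ker (aeval A Φ),
        SInv σ (A.restrict hW) (resH S (LinearMap.ker (aeval A Φ))) →
        ∃ BW : LinearMap.BilinForm F (LinearMap.ker (aeval A Φ)),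
          HInv σ 1 (A.restrict hW) BW) →
      ∃ B : LinearMap.BilinForm F V, HInv σ 1 A B := by
    intro Φ Ψ hfac hcop hcop' hfΦ hsolve
    set W := LinearMap.ker (aeval A Φ) with hWdef
    set U := LinearMap.ker (aeval A Ψ) with hUdef
    have hWU : IsCompl W U := isCompl_ker_aeval A hcop (by rw [← hfac]; exact hXM)
    have hW : ∀ v ∈ W, A v ∈ W := ker_aeval_invariant A Φ
    have hU : ∀ v ∈ U, A v ∈ U := ker_aeval_invariant A Ψ
    have horth : ∀ w ∈ W, ∀ u ∈ U, S w u = 0 := by
      intro w hw u hu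
      exact hS.orth_of_coprime hσ2 hM hAM Φ Ψ hcop' w u (LinearMap.mem_ker.1 hw)
        (LinearMap.mem_ker.1 hu)
    have horth2 : ∀ w ∈ W, ∀ u ∈ U, S u w = 0 := by
      intro w hw u hu
      exact hSf.orth_of_coprime hσ2 hM hAM Φ Ψ hcop' w u (LinearMap.mem_ker.1 hw)
        (LinearMap.mem_ker.1 hu)
    have hSW : SInv σ (A.restrict hW) (resH S W) := by
      apply hS.restrict hW
      intro w hw hww
      apply hS.nondeg
      intro v
      obtain ⟨a', b', rfl⟩ := exists_decomp hWU v
      rw [map_add, hww a' a'.2, horth w hw b' b'.2, add_zero]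
    have hSU : SInv σ (A.restrict hU) (resH S U) := by
      apply hS.restrict hU
      intro u hu huu
      apply hS.nondeg
      intro v
      obtain ⟨a', b', rfl⟩ := exists_decomp hWU v
      rw [map_add, horth2 a' a'.2 u hu, huu b' b'.2, add_zero]
    obtain ⟨BW, hBW⟩ := hsolve hW hSW
    have hWpos : 0 < finrank K W := by
      have h1 : LinearMap.ker (aeval A f) ≤ W := ker_aeval_le_of_dvd A hfΦ
      have h2 := Submodule.finrank_mono h1
      have h3 : 0 < finrank K (LinearMap.ker (aeval A f)) := by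
        rw [Module.finrank_pos_iff]
        exact Submodule.nontrivial_iff_ne_bot.2 hker
      omega
    have hdim : finrank K W + finrank K U = finrank K V :=
      Submodule.finrank_add_eq_of_isCompl hWU
    obtain ⟨BU, hBU⟩ := ih (finrank K U) (by omega) U (A.restrict hU) (resH S U) rfl
      (restrict_pow_eq_one A hAM U hU) hSU
    exact glue_hermitian hWU hW hU BW BU hBW hBU
  by_cases hfd : cdual M (σ : K →+* K) f = f
  · -- the self-dual case
    have hfd' : f ∣ dag (σ : K →+* K) M f := (dvd_comp_map_iff hσ2' hfirr f).2 (by rw [hfd])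
    have hcop : IsCoprime (f ^ a) g₁ := (hfirr.coprime_iff_not_dvd.2 hfg₁).pow_left
    have hcop' : IsCoprime (f ^ a) (dag (σ : K →+* K) M g₁) := by
      apply IsCoprime.pow_left
      rw [hfirr.coprime_iff_not_dvd]
      intro h
      have := (dvd_comp_map_iff hσ2' hfirr g₁).1 h
      rw [hfd] at this
      exact hfg₁ this
    apply finish (f ^ a) g₁ hfac₁ hcop hcop' (dvd_pow_self f (by omega))
    intro hW hSW
    set W := LinearMap.ker (aeval A (f ^ a)) with hWdef
    have hfa : aeval (A.restrict hW) (f ^ a) = 0 := aeval_restrict_eq_zero A W hW (f ^ a) le_rfl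
    have hWle : finrank K W ≤ n := hn ▸ Submodule.finrank_le W
    refine primary_hermitian hσ2 hσ1 hM (restrict_pow_eq_one A hAM W hW) hfirr hfd' hfa hSW ?_
    intro D hD hlt S₁ h₁
    exact ih (finrank K D) (lt_of_lt_of_le hlt hWle) D ((A.restrict hW).restrict hD) S₁ rfl
      (restrict_pow_eq_one _ (restrict_pow_eq_one A hAM W hW) D hD) h₁
  · -- the case of a dual pair
    set f' := cdual M (σ : K →+* K) f with hf'
    have hf'irr : Irreducible f' := cdual_irreducible hσ2' hfirr
    have hg₁0 : g₁ ≠ 0 := by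
      rintro rfl
      rw [mul_zero] at hfac₁
      exact hXM0 hfac₁
    obtain ⟨b, g, hf'g, hfac₂⟩ := WfDvdMonoid.max_power_factor hg₁0 hf'irr
    have hfg : ¬ f ∣ g := fun h => hfg₁ (hfac₂ ▸ Dvd.dvd.mul_left h _)
    have hfac : (X ^ M - 1 : K[X]) = (f ^ a * f' ^ b) * g := by
      rw [hfac₁, hfac₂, mul_assoc]
    have hcop : IsCoprime (f ^ a * f' ^ b) g :=
      IsCoprime.mul_left (hfirr.coprime_iff_not_dvd.2 hfg).pow_left
        (hf'irr.coprime_iff_not_dvd.2 hf'g).pow_left
    have hcop' : IsCoprime (f ^ a * f' ^ b) (dag (σ : K →+* K) M g) := by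
      apply IsCoprime.mul_left
      · apply IsCoprime.pow_left
        rw [hfirr.coprime_iff_not_dvd]
        intro h
        exact hf'g ((dvd_comp_map_iff hσ2' hfirr g).1 h)
      · apply IsCoprime.pow_left
        rw [hf'irr.coprime_iff_not_dvd]
        intro h
        have := (dvd_comp_map_iff hσ2' hf'irr g).1 h
        rw [hf', cdual_cdual hσ2' hM hfirr hfmon hfM] at this
        exact hfg this
    apply finish (f ^ a * f' ^ b) g hfac hcop hcop' (Dvd.dvd.mul_right (dvd_pow_self f (by omega)) _)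
    intro hW hSW
    set W := LinearMap.ker (aeval A (f ^ a * f' ^ b)) with hWdef
    set AW := A.restrict hW with hAW
    have hAWM : AW ^ M = 1 := restrict_pow_eq_one A hAM W hW
    have hΦW : aeval AW (f ^ a * f' ^ b) = 0 := aeval_restrict_eq_zero A W hW _ le_rfl
    have hcff' : IsCoprime (f ^ a) (f' ^ b) := (coprime_self_cdual hσ2' hfS hfd).pow
    have hc : IsCompl (LinearMap.ker (aeval AW (f ^ a))) (LinearMap.ker (aeval AW (f' ^ b))) :=
      isCompl_ker_aeval AW hcff' hΦW
    have hc1 : IsCoprime (f ^ a) (dag (σ : K →+* K) M (f ^ a)) := by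
      rw [dag_pow]
      exact (coprime_self_ccomp hσ2' hfS hfd).pow
    have hc2 : IsCoprime (f' ^ b) (dag (σ : K →+* K) M (f' ^ b)) := by
      rw [dag_pow]
      exact (coprime_cdual_ccomp hσ2' hM hfS hfd).pow
    refine pair_hermitian hσ2 hSW hc (ker_aeval_invariant AW _) (ker_aeval_invariant AW _) ?_ ?_
    · intro u hu v hv
      exact hSW.orth_of_coprime hσ2 hM hAWM _ _ hc1 u v (LinearMap.mem_ker.1 hu)
        (LinearMap.mem_ker.1 hv)
    · intro u hu v hv
      exact hSW.orth_of_coprime hσ2 hM hAWM _ _ hc2 u v (LinearMap.mem_ker.1 hu)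
        (LinearMap.mem_ker.1 hv)

end main

end Cfsg.Agent.Helper13.Sesq
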