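import Mathlib
import Cfsg.Agent.Lib.Helper13.SesqMain
import Cfsg.Agent.Lib.Helper13.UnitaryConj

set_option autoImplicit false
set_option linter.style.haveILetI false
set_option linter.unusedSectionVars false
set_option linter.unusedVariables false

/-!
# Matrices similar to the inverse of their conjugate transpose are similar to unitary matrices
-/

namespace Cfsg.Agent.Helper13.Sesq

open Polynomial Module Cfsg.Agent.Helper13.HermSS Cfsg.Agent.Helper13.Uni
  Cfsg.Agent.Helper11.Herm Matrix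

universe u

section adjoint
variable {K : Type*} [Field K] (φ : K →+* K) {n : ℕ}

theorem hdot_adj (hφ2 : ∀ x, φ (φ x) = x) (X : Matrix (Fin n) (Fin n) K) (u v : Fin n → K) :
    hdot φ (X *ᵥ u) v = hdot φ u ((X.map φ)ᵀ *ᵥ v) := by
  have h1 : φ ∘ ((X.map φ)ᵀ *ᵥ v) = ((X.map φ)ᵀ).map φ *ᵥ (φ ∘ v) := by
    funext i
    exact RingHom.map_mulVec φ _ v i
  have h2 : ((X.map φ)ᵀ).map φ = Xᵀ := by
    ext i j
    simp [hφ2]
  unfold hdot
  rw [h1, h2, ← Matrix.vecMul_transpose, Matrix.dotProduct_mulVec]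

end adjoint

section general
variable {F : Type*} {K : Type u} [Field F] [Field K] [Algebra F K] {q : ℕ} [Finite K]

/-- a matrix of finite order preserving a nondegenerate sesquilinear form is similar to a unitary
matrix -/
theorem exists_unitary_of_star (σ : K →ₐ[F] K) (hσ : ∀ x, σ x = x ^ q)
    (hσ2 : ∀ x, σ (σ x) = x) (hσ1 : ∃ c, σ c ≠ c) (n : ℕ) (a c : Matrix (Fin n) (Fin n) K)
    (M : ℕ) (hM : 1 ≤ M) (haM : a ^ M = 1) (hc : IsUnit c.det)
    (hac : (a.map (σ : K →+* K))ᵀ * c * a = c) :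
    ∃ (b : Matrix (Fin n) (Fin n) K) (T : (Fin n → K) ≃ₗ[K] (Fin n → K)),
      Pres q b ∧ ∀ v, T (a *ᵥ v) = b *ᵥ (T v) := by
  haveI : FiniteDimensional F K := Module.Finite.of_finite
  have hσ2' : ∀ x, (σ : K →+* K) ((σ : K →+* K) x) = x := hσ2
  have hσ' : ∀ x, (σ : K →+* K) x = x ^ q := hσ
  obtain ⟨tr, htr, htrσ⟩ := exists_tr σ hσ2 hσ1
  set H := Cfsg.hermForm n K q with hHdef
  have hH : IsSesq σ H := hermForm_isSesq σ hσ hσ2 n
  have hHdot : ∀ u v, H u v = hdot (σ : K →+* K) u v := fun u v =>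
    hermForm_eq_hdot (σ : K →+* K) hσ' n u v
  set A : Module.End K (Fin n → K) := Matrix.toLinAlgEquiv' a with hAdef
  have hA : ∀ v, A v = a *ᵥ v := fun v => Matrix.toLinAlgEquiv'_apply _ _
  have hAM : A ^ M = 1 := by
    rw [hAdef, ← map_pow, haM, map_one]
  set B₀ := trForm tr H hH with hB₀def
  have hB₀ : HInv σ 1 (1 : Module.End K (Fin n → K)) B₀ :=
    trForm_hinv tr htr htrσ hσ2 hH 1 (fun _ _ => rfl)
  set Lc : (Fin n → K) →ₗ[K] (Fin n → K) := Matrix.toLin' c with hLc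
  have hLca : ∀ v, Lc v = c *ᵥ v := fun v => Matrix.toLin'_apply _ _
  set S : LinearMap.BilinForm F (Fin n → K) := B₀.compl₂ (Lc.restrictScalars F) with hSdef
  have hSa : ∀ u v, S u v = B₀ u (Lc v) := fun u v => rfl
  have hS : SInv σ A S := by
    refine ⟨?_, ?_, ?_⟩
    · intro k u v
      rw [hSa, hSa, hB₀.adj, Lc.map_smul]
    · intro u hu
      apply hB₀.nondeg
      intro w
      have := hu (c⁻¹ *ᵥ w)
      rw [hSa, hLca, Matrix.mulVec_mulVec, Matrix.mul_nonsing_inv c hc, Matrix.one_mulVec] at this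
      exact this
    · intro u v
      rw [hSa, hSa, hB₀def, trForm_apply, trForm_apply, hHdot, hHdot, hA, hA, hLca, hLca,
        hdot_adj (σ : K →+* K) hσ2', Matrix.mulVec_mulVec, Matrix.mulVec_mulVec, hac]
  obtain ⟨B, hB⟩ := exists_hermitian hσ2 hσ1 M hM _ (Fin n → K) A S rfl hAM hS
  obtain ⟨T, hT⟩ := Herm.exists_isometry σ hσ2 hσ1 1 (Or.inl rfl) n (Fin n → K) (Fin n → K) B B₀
    (Module.finrank_fin_fun K) (Module.finrank_fin_fun K) ⟨hB.adj, hB.symm, hB.nondeg⟩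
    ⟨hB₀.adj, hB₀.symm, hB₀.nondeg⟩
  set Z : (Fin n → K) →ₗ[K] (Fin n → K) :=
    (T : (Fin n → K) →ₗ[K] (Fin n → K)) ∘ₗ A ∘ₗ (T.symm : (Fin n → K) →ₗ[K] (Fin n → K)) with hZ
  have hZa : ∀ v, Z v = T (A (T.symm v)) := fun v => rfl
  set b := LinearMap.toMatrix' Z with hbdef
  have hb : ∀ v, b *ᵥ v = Z v := by
    intro v
    rw [hbdef, LinearMap.toMatrix'_mulVec]
  refine ⟨b, T, ?_, ?_⟩
  · intro u v
    rw [hb, hb]
    refine eq_of_trForm_eq tr htr hH hH Z ?_ u v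
    intro u v
    rw [hZa, hZa, ← hB₀def, hT, hB.inv, ← hT, T.apply_symm_apply, T.apply_symm_apply]
  · intro v
    rw [hb, hZa, T.symm_apply_apply, hA]

end general

end Cfsg.Agent.Helper13.Sesq
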