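import Mathlib
import Cfsg.Agent.Lib.Helper13.SpDec1
import Cfsg.Agent.Lib.Helper2.SympCard
import Cfsg.Agent.Lib.Helper13.OrthType3

set_option autoImplicit false
set_option linter.unusedSectionVars false

/-!
# Orthogonal decompositions of a symplectic space: counting
-/

namespace Cfsg.Agent.Helper13.SpDec

open Module Cfsg.Agent.Helper28.SympIso Cfsg.Agent.Helper28.IsoGrp

universe u

section general

/-- the order of a group acting freely divides the size of the set -/
theorem card_dvd_of_free {G X : Type*} [Group G] [MulAction G X] [Finite X]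
    (hfree : ∀ x : X, MulAction.stabilizer G x = ⊥) : Nat.card G ∣ Nat.card X := by
  classical
  haveI := Fintype.ofFinite (MulAction.orbitRel.Quotient G X)
  rw [Nat.card_congr (MulAction.selfEquivSigmaOrbits G X), Nat.card_sigma]
  apply Finset.dvd_sum
  intro ω _
  have h := MulAction.index_stabilizer G (Quotient.out ω)
  rw [hfree, Subgroup.index_bot] at h
  rw [Nat.card_coe_set_eq, ← h]

end general

section count
variable {F : Type u} [Field F] {d t a : ℕ}

/-- the set of decompositions -/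
abbrev DecSet (F : Type u) [Field F] (d a t : ℕ) :=
  {D : Fin t → Submodule F (Fin d ⊕ Fin d → F) // Good d a D}

theorem good_comp_perm (D : Fin t → Submodule F (Fin d ⊕ Fin d → F)) (hD : Good d a D)
    (σ : Equiv.Perm (Fin t)) : Good d a (D ∘ σ) := by
  obtain ⟨hdec, hnd, horth⟩ := hD
  refine ⟨⟨hdec.two_le, hdec.pos, fun j => hdec.finrank_eq _, hdec.indep.comp σ.injective, ?_⟩,
    fun j => hnd _, ?_⟩
  · rw [← hdec.iSup_eq_top]
    exact Equiv.iSup_comp (g := D) σ
  · intro j j' hjj'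
    exact horth _ _ (fun h => hjj' (σ.injective h))

theorem good_map (D : Fin t → Submodule F (Fin d ⊕ Fin d → F)) (hD : Good d a D)
    (g : (Fin d ⊕ Fin d → F) ≃ₗ[F] (Fin d ⊕ Fin d → F)) (hg : g ∈ isoGrp (sympBil d F)) :
    Good d a (fun j => (D j).map (g : (Fin d ⊕ Fin d → F) →ₗ[F] (Fin d ⊕ Fin d → F))) := by
  obtain ⟨hdec, hnd, horth⟩ := hD
  have hg' : ∀ x y, Cfsg.sympForm d F (g x) (g y) = Cfsg.sympForm d F x y := by
    intro x y
    rw [← sympBil_apply, ← sympBil_apply]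
    exact hg x y
  refine ⟨⟨hdec.two_le, hdec.pos, ?_, ?_, ?_⟩, ?_, ?_⟩
  · intro j
    rw [LinearEquiv.finrank_map_eq, hdec.finrank_eq]
  · exact hdec.indep.map_orderIso (Submodule.orderIsoMapComap g)
  · rw [← Submodule.map_iSup, hdec.iSup_eq_top, Submodule.map_top, LinearEquiv.range]
  · rintro j u ⟨u₀, hu₀, rfl⟩ hu
    have hu₀0 : u₀ ≠ 0 := by
      rintro rfl
      apply hu
      exact map_zero _
    obtain ⟨v₀, hv₀, hne⟩ := hnd j u₀ hu₀ hu₀0
    refine ⟨g v₀, Submodule.mem_map_of_mem hv₀, ?_⟩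
    show Cfsg.sympForm d F (g u₀) (g v₀) ≠ 0
    rw [hg']
    exact hne
  · rintro j j' hjj' u ⟨u₀, hu₀, rfl⟩ v ⟨v₀, hv₀, rfl⟩
    show Cfsg.sympForm d F (g u₀) (g v₀) = 0
    rw [hg']
    exact horth j j' hjj' u₀ hu₀ v₀ hv₀

noncomputable instance permAction : MulAction (Equiv.Perm (Fin t)) (DecSet F d a t) where
  smul σ D := ⟨D.1 ∘ σ.symm, good_comp_perm D.1 D.2 σ.symm⟩
  one_smul D := Subtype.ext rfl
  mul_smul σ τ D := Subtype.ext rfl

theorem permAction_val (σ : Equiv.Perm (Fin t)) (D : DecSet F d a t) :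
    (σ • D).1 = D.1 ∘ σ.symm := rfl

noncomputable instance isoAction : MulAction (isoGrp (sympBil d F)) (DecSet F d a t) where
  smul g D := ⟨fun j => (D.1 j).map ((g : (Fin d ⊕ Fin d → F) ≃ₗ[F] (Fin d ⊕ Fin d → F)) :
    (Fin d ⊕ Fin d → F) →ₗ[F] (Fin d ⊕ Fin d → F)), good_map D.1 D.2 g g.2⟩
  one_smul D := by
    apply Subtype.ext
    funext j
    exact Submodule.map_id _
  mul_smul g h D := by
    apply Subtype.ext
    funext j
    exact Submodule.map_comp _ _ _

theorem isoAction_val (g : isoGrp (sympBil d F)) (D : DecSet F d a t) (j : Fin t) :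
    (g • D).1 j = (D.1 j).map ((g : (Fin d ⊕ Fin d → F) ≃ₗ[F] (Fin d ⊕ Fin d → F)) :
      (Fin d ⊕ Fin d → F) →ₗ[F] (Fin d ⊕ Fin d → F)) := rfl

end count

section finite
variable {F : Type u} [Field F] [Fintype F] {d s t a : ℕ}

instance finite_decSet : Finite (DecSet F d a t) := by
  haveI : Finite (Submodule F (Fin d ⊕ Fin d → F)) :=
    Finite.of_injective (fun p => (p : Set (Fin d ⊕ Fin d → F))) SetLike.coe_injective
  exact Subtype.finite

theorem perm_free (D : DecSet F d a t) :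
    MulAction.stabilizer (Equiv.Perm (Fin t)) D = ⊥ := by
  rw [eq_bot_iff]
  intro σ hσ
  rw [MulAction.mem_stabilizer_iff] at hσ
  rw [Subgroup.mem_bot]
  have hinj : Function.Injective D.1 := by
    apply D.2.1.indep.injective
    intro j h
    have h1 := D.2.1.finrank_eq j
    rw [h, finrank_bot] at h1
    have := D.2.1.pos
    omega
  have h1 : D.1 ∘ σ.symm = D.1 := congrArg Subtype.val hσ
  apply Equiv.ext
  intro j
  have h2 := congrFun h1 (σ j)
  rw [Function.comp_apply, Equiv.symm_apply_apply] at h2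
  exact (hinj h2).symm

theorem iso_transitive (hdim : d + d = t * (s + s)) (D D' : DecSet F d (s + s) t) :
    ∃ g : isoGrp (sympBil d F), g • D = D' := by
  obtain ⟨Φ, hΦ, hD⟩ := exists_iso_of_good hdim D.1 D.2
  obtain ⟨Φ', hΦ', hD'⟩ := exists_iso_of_good hdim D'.1 D'.2
  refine ⟨⟨Φ.symm.trans Φ', ?_⟩, ?_⟩
  · intro x y
    rw [sympBil_apply, sympBil_apply]
    show Cfsg.sympForm d F (Φ' (Φ.symm x)) (Φ' (Φ.symm y)) = _
    rw [hΦ', ← hΦ, Φ.apply_symm_apply, Φ.apply_symm_apply]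
  · apply Subtype.ext
    funext j
    rw [isoAction_val, ← hD, ← hD']
    ext v
    rw [Submodule.mem_map, mem_decompOf]
    constructor
    · rintro ⟨x, hx, rfl⟩
      obtain ⟨u, rfl⟩ := (mem_decompOf Φ j x).1 hx
      refine ⟨u, ?_⟩
      show _ = Φ' (Φ.symm (Φ (Pi.single j u)))
      rw [Φ.symm_apply_apply]
    · rintro ⟨u, rfl⟩
      refine ⟨Φ (Pi.single j u), single_mem_decompOf Φ j u, ?_⟩
      show Φ' (Φ.symm (Φ (Pi.single j u))) = _
      rw [Φ.symm_apply_apply]

/-- a prime dividing the number of unordered decompositions divides the group order -/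
theorem dvd_card_symp (hdim : d + d = t * (s + s)) (ht : 2 ≤ t) (hs : 0 < s) (r : ℕ)
    (hr : r ∣ Nat.card (DecSet F d (s + s) t) / t.factorial) :
    r ∣ Nat.card (Matrix.symplecticGroup (Fin d) F) := by
  have h1 : t.factorial ∣ Nat.card (DecSet F d (s + s) t) := by
    have := card_dvd_of_free (G := Equiv.Perm (Fin t)) (X := DecSet F d (s + s) t) perm_free
    rwa [Nat.card_perm, Nat.card_eq_fintype_card, Fintype.card_fin] at this
  have h2 : r ∣ Nat.card (DecSet F d (s + s) t) := by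
    obtain ⟨m, hm⟩ := h1
    rw [hm, Nat.mul_div_cancel_left _ (Nat.factorial_pos t)] at hr
    rw [hm]
    exact Dvd.dvd.mul_left hr _
  obtain ⟨Φ₀, hΦ₀⟩ := exists_iso (F := F) hdim
  let D₀ : DecSet F d (s + s) t := ⟨decompOf Φ₀, good_decompOf ht hs Φ₀ hΦ₀⟩
  haveI : MulAction.IsPretransitive (isoGrp (sympBil d F)) (DecSet F d (s + s) t) :=
    ⟨iso_transitive hdim⟩
  have h3 := MulAction.index_stabilizer_of_transitive (isoGrp (sympBil d F)) D₀
  have h4 : Nat.card (DecSet F d (s + s) t) ∣ Nat.card (isoGrp (sympBil d F)) := by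
    rw [← h3]
    exact Subgroup.index_dvd_card _
  rw [Nat.card_congr (sympMulEquiv d).toEquiv]
  exact h2.trans h4

end finite

section arith
variable {F : Type u} [Field F] [Fintype F] {p : ℕ} [Fact p.Prime] [CharP F p] {q : ℕ}

open Cfsg.Agent.Helper13.OrthSS Cfsg.Agent.Helper13.SS in
theorem c_le_of_dvd_card (hF : Fintype.card F = q) (r : ℕ) (hr : r.Prime) (hrp : r ≠ p) (d : ℕ)
    (h : r ∣ Nat.card (Matrix.symplecticGroup (Fin d) F)) (i c : ℕ)
    (hi : i = orderOf (q : ZMod r)) (hc : c = if Even i then i else 2 * i) : c ≤ 2 * d := by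
  rw [Cfsg.Agent.Helper2.Symp.card_symplecticGroup, hF] at h
  obtain ⟨k, hk, rfl⟩ := exists_card_pow (p := p) hF
  have hp : p.Prime := Fact.out
  have h1 : ¬ r ∣ (p ^ k) ^ (d ^ 2) := by
    intro h'
    have := hr.dvd_of_dvd_pow (hr.dvd_of_dvd_pow h')
    exact hrp ((Nat.prime_dvd_prime_iff_eq hr hp).1 this)
  have h2 := (hr.dvd_mul.1 h).resolve_left h1
  obtain ⟨j, hj, hdiv⟩ := (hr.prime.dvd_finset_prod_iff _).1 h2
  have h3 := orderOf_dvd_of_dvd_pow_sub_one hr (q := p ^ k) (Nat.one_le_pow _ _ hp.pos) hdiv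
  rw [← hi] at h3
  have hj' := Finset.mem_range.1 hj
  have hcd : c ∣ 2 * (j + 1) := by
    rw [hc]
    split_ifs with hev
    · exact h3
    · have hodd : Odd i := Nat.not_even_iff_odd.1 hev
      have h4 : i ∣ j + 1 := (Nat.Coprime.dvd_of_dvd_mul_left hodd.coprime_two_right h3)
      exact Nat.mul_dvd_mul_left 2 h4
  have := Nat.le_of_dvd (by omega) hcd
  omega

end arith

end Cfsg.Agent.Helper13.SpDec
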