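import Mathlib
import Cfsg.Agent.Lib.Helper13.SlDec1
import Cfsg.Agent.Lib.Helper13.SpDec2

set_option autoImplicit false
set_option linter.unusedSectionVars false

/-!
# Direct sum decompositions of `F^n`: counting
-/

namespace Cfsg.Agent.Helper13.SlDec

open Module Cfsg.Agent.Helper13.SpDec

universe u

section count
variable {F : Type u} [Field F] {n t a : ℕ}

/-- the set of decompositions -/
abbrev DecSetG (F : Type u) [Field F] (n a t : ℕ) :=
  {D : Fin t → Submodule F (Fin n → F) // Cfsg.Geo.IsMDecomposition a D}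

theorem isMDecomp_comp_perm (D : Fin t → Submodule F (Fin n → F))
    (hD : Cfsg.Geo.IsMDecomposition a D) (σ : Equiv.Perm (Fin t)) :
    Cfsg.Geo.IsMDecomposition a (D ∘ σ) := by
  refine ⟨hD.two_le, hD.pos, fun j => hD.finrank_eq _, hD.indep.comp σ.injective, ?_⟩
  rw [← hD.iSup_eq_top]
  exact Equiv.iSup_comp (g := D) σ

theorem isMDecomp_map (D : Fin t → Submodule F (Fin n → F))
    (hD : Cfsg.Geo.IsMDecomposition a D) (g : (Fin n → F) ≃ₗ[F] (Fin n → F)) :
    Cfsg.Geo.IsMDecomposition a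
      (fun j => (D j).map (g : (Fin n → F) →ₗ[F] (Fin n → F))) := by
  refine ⟨hD.two_le, hD.pos, ?_, ?_, ?_⟩
  · intro j
    rw [LinearEquiv.finrank_map_eq, hD.finrank_eq]
  · exact hD.indep.map_orderIso (Submodule.orderIsoMapComap g)
  · rw [← Submodule.map_iSup, hD.iSup_eq_top, Submodule.map_top, LinearEquiv.range]

noncomputable instance permActionG : MulAction (Equiv.Perm (Fin t)) (DecSetG F n a t) where
  smul σ D := ⟨D.1 ∘ σ.symm, isMDecomp_comp_perm D.1 D.2 σ.symm⟩
  one_smul D := Subtype.ext rfl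
  mul_smul σ τ D := Subtype.ext rfl

noncomputable instance linAction :
    MulAction ((Fin n → F) ≃ₗ[F] (Fin n → F)) (DecSetG F n a t) where
  smul g D := ⟨fun j => (D.1 j).map (g : (Fin n → F) →ₗ[F] (Fin n → F)),
    isMDecomp_map D.1 D.2 g⟩
  one_smul D := by
    apply Subtype.ext
    funext j
    exact Submodule.map_id _
  mul_smul g h D := by
    apply Subtype.ext
    funext j
    exact Submodule.map_comp _ _ _

theorem linAction_val (g : (Fin n → F) ≃ₗ[F] (Fin n → F)) (D : DecSetG F n a t) (j : Fin t) :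
    (g • D).1 j = (D.1 j).map (g : (Fin n → F) →ₗ[F] (Fin n → F)) := rfl

end count

section finite
variable {F : Type u} [Field F] [Fintype F] {n t a : ℕ}

instance finite_decSetG : Finite (DecSetG F n a t) := by
  haveI : Finite (Submodule F (Fin n → F)) :=
    Finite.of_injective (fun p => (p : Set (Fin n → F))) SetLike.coe_injective
  exact Subtype.finite

theorem perm_freeG (D : DecSetG F n a t) :
    MulAction.stabilizer (Equiv.Perm (Fin t)) D = ⊥ := by
  rw [eq_bot_iff]
  intro σ hσ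
  rw [MulAction.mem_stabilizer_iff] at hσ
  rw [Subgroup.mem_bot]
  have hinj : Function.Injective D.1 := isMDecomp_injective D.1 D.2
  have h1 : D.1 ∘ σ.symm = D.1 := congrArg Subtype.val hσ
  apply Equiv.ext
  intro j
  have h2 := congrFun h1 (σ j)
  rw [Function.comp_apply, Equiv.symm_apply_apply] at h2
  exact (hinj h2).symm

theorem lin_transitive (hat : n = a * t) (D D' : DecSetG F n a t) :
    ∃ g : (Fin n → F) ≃ₗ[F] (Fin n → F), g • D = D' := by
  obtain ⟨Φ, hD⟩ := exists_equiv_of_isMDecomp hat D.1 D.2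
  obtain ⟨Φ', hD'⟩ := exists_equiv_of_isMDecomp hat D'.1 D'.2
  refine ⟨Φ.symm.trans Φ', ?_⟩
  apply Subtype.ext
  funext j
  rw [linAction_val, ← hD, ← hD']
  ext v
  rw [Submodule.mem_map, mem_decompOfG]
  constructor
  · rintro ⟨x, hx, rfl⟩
    obtain ⟨u, rfl⟩ := (mem_decompOfG Φ j x).1 hx
    refine ⟨u, ?_⟩
    show _ = Φ' (Φ.symm (Φ (Pi.single j u)))
    rw [Φ.symm_apply_apply]
  · rintro ⟨u, rfl⟩
    refine ⟨Φ (Pi.single j u), single_mem_decompOfG Φ j u, ?_⟩
    show Φ' (Φ.symm (Φ (Pi.single j u))) = _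
    rw [Φ.symm_apply_apply]

/-- a prime dividing the number of unordered decompositions divides the group order -/
theorem dvd_card_gl (hat : n = a * t) (ht : 2 ≤ t) (ha : 0 < a) (r : ℕ)
    (hr : r ∣ Nat.card (DecSetG F n a t) / t.factorial) :
    r ∣ Nat.card (Matrix.GeneralLinearGroup (Fin n) F) := by
  have h1 : t.factorial ∣ Nat.card (DecSetG F n a t) := by
    have := card_dvd_of_free (G := Equiv.Perm (Fin t)) (X := DecSetG F n a t) perm_freeG
    rwa [Nat.card_perm, Nat.card_eq_fintype_card, Fintype.card_fin] at this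
  have h2 : r ∣ Nat.card (DecSetG F n a t) := by
    obtain ⟨m, hm⟩ := h1
    rw [hm, Nat.mul_div_cancel_left _ (Nat.factorial_pos t)] at hr
    rw [hm]
    exact Dvd.dvd.mul_left hr _
  let Φ₀ : (Fin t → (Fin a → F)) ≃ₗ[F] (Fin n → F) :=
    LinearEquiv.ofFinrankEq _ _ (by
      rw [Module.finrank_pi_fintype]
      simp only [Module.finrank_fin_fun, Finset.sum_const, Finset.card_univ, Fintype.card_fin,
        smul_eq_mul]
      rw [hat, mul_comm])
  let D₀ : DecSetG F n a t := ⟨decompOfG Φ₀, isMDecomp_decompOfG ht ha Φ₀⟩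
  haveI : MulAction.IsPretransitive ((Fin n → F) ≃ₗ[F] (Fin n → F)) (DecSetG F n a t) :=
    ⟨lin_transitive hat⟩
  have h3 := MulAction.index_stabilizer_of_transitive ((Fin n → F) ≃ₗ[F] (Fin n → F)) D₀
  have h4 : Nat.card (DecSetG F n a t) ∣ Nat.card ((Fin n → F) ≃ₗ[F] (Fin n → F)) := by
    rw [← h3]
    exact Subgroup.index_dvd_card _
  rw [Nat.card_congr ((Matrix.GeneralLinearGroup.toLin.trans
    (LinearMap.GeneralLinearGroup.generalLinearEquiv F (Fin n → F))).toEquiv)]
  exact h2.trans h4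

end finite

section arith
variable {F : Type u} [Field F] [Fintype F] {p : ℕ} [Fact p.Prime] [CharP F p] {q : ℕ}

open Cfsg.Agent.Helper13.OrthSS Cfsg.Agent.Helper13.SS in
theorem c_le_of_dvd_card_gl (hF : Fintype.card F = q) (r : ℕ) (hr : r.Prime) (hrp : r ≠ p)
    (n : ℕ) (h : r ∣ Nat.card (Matrix.GeneralLinearGroup (Fin n) F)) :
    orderOf (q : ZMod r) ≤ n := by
  rw [Matrix.card_GL_field, hF] at h
  obtain ⟨k, hk, rfl⟩ := exists_card_pow (p := p) hF
  have hp : p.Prime := Fact.out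
  obtain ⟨j, -, hdiv⟩ := (hr.prime.dvd_finset_prod_iff _).1 h
  have hjn : (j : ℕ) < n := j.2
  have e1 : (p ^ k) ^ n - (p ^ k) ^ (j : ℕ) = (p ^ k) ^ (j : ℕ) * ((p ^ k) ^ (n - j) - 1) := by
    rw [Nat.mul_sub, mul_one, ← pow_add]
    congr 2
    omega
  rw [e1] at hdiv
  have h1 : ¬ r ∣ (p ^ k) ^ (j : ℕ) := by
    intro h'
    have := hr.dvd_of_dvd_pow (hr.dvd_of_dvd_pow h')
    exact hrp ((Nat.prime_dvd_prime_iff_eq hr hp).1 this)
  have h2 := (hr.dvd_mul.1 hdiv).resolve_left h1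
  have h3 := orderOf_dvd_of_dvd_pow_sub_one hr (q := p ^ k) (Nat.one_le_pow _ _ hp.pos) h2
  have := Nat.le_of_dvd (by omega) h3
  omega

end arith

end Cfsg.Agent.Helper13.SlDec
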