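import Mathlib
import Cfsg.Agent.Lib.Helper13.SlDec1
import Cfsg.Agent.Lib.Helper13.SemisimpleClass

set_option autoImplicit false
set_option linter.unusedSectionVars false

/-!
# Elements whose `r`-th power is a scalar which is not an `r`-th power
-/

namespace Cfsg.Agent.Helper13.SlDec

open Polynomial Module Cfsg.Agent.Helper13.SS
open scoped Classical

universe u

section nonpower
variable {F : Type u} [Field F]

/-- the successor in a cyclic order -/
def nxt (r : ℕ) (h : 0 < r) (m : Fin r) : Fin r :=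
  if h' : (m : ℕ) + 1 < r then ⟨(m : ℕ) + 1, h'⟩ else ⟨0, h⟩

/-- a basis permuted cyclically, up to scalars, in blocks of length `r` -/
theorem exists_cyclic_basis (r : ℕ) (hr : r.Prime) (n : ℕ) (z : F) (hz : ∀ w : F, w ^ r ≠ z)
    (f : Module.End F (Fin n → F)) (hf : f ^ r = z • 1) (ι₀ : Type) [Fintype ι₀]
    (hcard : Fintype.card ι₀ * r = n) :
    ∃ b : Basis (ι₀ × Fin r) F (Fin n → F), ∀ (l : ι₀) (m : Fin r),
      f (b (l, m)) ∈ Submodule.span F {b (l, nxt r hr.pos m)} := by
  have hirr : Irreducible (X ^ r - C z : F[X]) := X_pow_sub_C_irreducible_of_prime hr hz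
  haveI : Fact (Irreducible (X ^ r - C z : F[X])) := ⟨hirr⟩
  let K := AdjoinRoot (X ^ r - C z : F[X])
  let pb := AdjoinRoot.powerBasis hirr.ne_zero
  haveI : Module.Finite F K := pb.finite
  have hdimpb : pb.dim = r := by
    rw [AdjoinRoot.powerBasis_dim, natDegree_X_pow_sub_C]
  have hK : finrank F K = r := by
    rw [pb.finrank, hdimpb]
  set α : K := AdjoinRoot.root (X ^ r - C z : F[X]) with hα
  have hαr : α ^ r = algebraMap F K z := by
    have h1 : aeval α (X ^ r - C z : F[X]) = 0 := by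
      rw [AdjoinRoot.aeval_eq]
      exact AdjoinRoot.mk_self
    rw [map_sub, map_pow, aeval_X, aeval_C, sub_eq_zero] at h1
    exact h1
  let y : (ι₀ → K) →ₗ[F] (ι₀ → K) := DistribSMul.toLinearMap F (ι₀ → K) α
  have hyapp : ∀ a, y a = α • a := fun a => rfl
  have hypow : ∀ k a, (y ^ k) a = α ^ k • a := by
    intro k
    induction k with
    | zero => intro a; simp
    | succ k ih =>
      intro a
      rw [pow_succ, Module.End.mul_apply, hyapp, ih, smul_smul, ← pow_succ]
  have hyr : y ^ r = z • 1 := by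
    apply LinearMap.ext
    intro a
    rw [hypow, hαr, LinearMap.smul_apply, Module.End.one_apply, algebraMap_smul]
  have hkill : ∀ {U : Type u} [AddCommGroup U] [Module F U] (g : Module.End F U),
      g ^ r = z • 1 → aeval g (X ^ r - C z : F[X]) = 0 := by
    intro U _ _ g hg
    rw [map_sub, map_pow, aeval_X, aeval_C, hg, Algebra.algebraMap_eq_smul_one, sub_self]
  have hdim : finrank F (ι₀ → K) = finrank F (Fin n → F) := by
    rw [Module.finrank_pi_fintype, Module.finrank_fin_fun]
    simp only [Finset.sum_const, Finset.card_univ, smul_eq_mul]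
    rw [hK]
    exact hcard
  obtain ⟨T, hT⟩ := exists_equiv_of_irreducible (X ^ r - C z : F[X]) y (hkill y hyr) f
    (hkill f hf) hdim
  let bK : Basis (Fin r) F K := pb.basis.reindex (finCongr hdimpb)
  have hbK : ∀ m : Fin r, bK m = α ^ (m : ℕ) := by
    intro m
    show (pb.basis.reindex (finCongr hdimpb)) m = _
    rw [Basis.reindex_apply, PowerBasis.basis_eq_pow, AdjoinRoot.powerBasis_gen]
    rfl
  let bM : Basis (ι₀ × Fin r) F (ι₀ → K) :=
    (Pi.basis (fun _ : ι₀ => bK)).reindex (Equiv.sigmaEquivProd ι₀ (Fin r))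
  have hbM : ∀ (l : ι₀) (m : Fin r), bM (l, m) = Pi.single l (α ^ (m : ℕ)) := by
    intro l m
    show ((Pi.basis (fun _ : ι₀ => bK)).reindex (Equiv.sigmaEquivProd ι₀ (Fin r))) (l, m) = _
    rw [Basis.reindex_apply, Pi.basis_apply]
    show (Pi.single l (bK m) : ι₀ → K) = _
    rw [hbK]
  refine ⟨bM.map T, fun l m => ?_⟩
  rw [Basis.map_apply, Basis.map_apply, hbM, hbM, ← hT, hyapp, ← Pi.single_smul, smul_eq_mul,
    ← pow_succ']
  unfold nxt
  split_ifs with h
  · exact Submodule.subset_span rfl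
  · have hm : (m : ℕ) + 1 = r := by
      have := m.2
      omega
    rw [hm, hαr]
    show T (Pi.single l (algebraMap F K z)) ∈ Submodule.span F {T (Pi.single l (α ^ 0))}
    have h1 : (Pi.single l (algebraMap F K z) : ι₀ → K) = z • Pi.single l (α ^ 0) := by
      rw [← Pi.single_smul, pow_zero, Algebra.algebraMap_eq_smul_one]
    rw [h1, map_smul]
    exact Submodule.smul_mem _ _ (Submodule.subset_span rfl)

theorem card_fiber_of_equiv {I B : Type*} [Fintype I] [Fintype B] (β : I → ℕ) (j₀ : ℕ)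
    (e : {i // β i = j₀} ≃ B) :
    (Finset.univ.filter (fun i => β i = j₀)).card = Fintype.card B := by
  rw [← Fintype.card_subtype]
  exact Fintype.card_congr e

theorem injective_of_pow_eq_smul {V : Type*} [AddCommGroup V] [Module F V] (r : ℕ) (hr : 0 < r)
    (z : F) (hz : z ≠ 0) (f : Module.End F V) (hf : f ^ r = z • 1) : Function.Injective f := by
  rw [injective_iff_map_eq_zero]
  intro v hv
  have h1 : (f ^ r) v = z • v := by
    rw [hf]
    simp
  have h2 : (f ^ r) v = 0 := by
    rw [← Nat.sub_add_cancel hr, pow_succ, Module.End.mul_apply, hv, map_zero]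
  rw [h2] at h1
  exact (smul_eq_zero.1 h1.symm).resolve_left hz

/-- an element whose `r`-th power is a scalar which is not an `r`-th power stabilises a
decomposition -/
theorem exists_decomp_nonpower (r : ℕ) (hr : r.Prime) (n a t : ℕ) (hat : n = a * t)
    (ha : 0 < a) (ht : 2 ≤ t) (z : F) (hz : ∀ w : F, w ^ r ≠ z)
    (f : Module.End F (Fin n → F)) (hf : f ^ r = z • 1) :
    ∃ D : Fin t → Submodule F (Fin n → F), Cfsg.Geo.IsMDecomposition a D ∧
      ∃ σ : Equiv.Perm (Fin t), ∀ j, (D j).map f = D (σ j) := by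
  have hz0 : z ≠ 0 := fun h => hz 0 (by rw [h, zero_pow hr.ne_zero])
  have hinj := injective_of_pow_eq_smul r hr.pos z hz0 f hf
  have hirr : Irreducible (X ^ r - C z : F[X]) := X_pow_sub_C_irreducible_of_prime hr hz
  haveI : Fact (Irreducible (X ^ r - C z : F[X])) := ⟨hirr⟩
  have hrn : r ∣ n := by
    have hkill : aeval f (X ^ r - C z : F[X]) = 0 := by
      rw [map_sub, map_pow, aeval_X, aeval_C, hf, Algebra.algebraMap_eq_smul_one, sub_self]
    have := natDegree_dvd_finrank (X ^ r - C z : F[X]) f hkill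
    rwa [natDegree_X_pow_sub_C, Module.finrank_fin_fun] at this
  rw [hat] at hrn
  rcases (Nat.Prime.dvd_mul hr).1 hrn with ⟨a'', ha''⟩ | ⟨t', ht'⟩
  · obtain ⟨b, hb⟩ := exists_cyclic_basis r hr n z hz f hf (Fin t × Fin a'') (by
      rw [Fintype.card_prod, Fintype.card_fin, Fintype.card_fin, hat, ha'']
      ring)
    apply exists_decomp_of_blocks ht ha b (fun i => (i.1.1 : ℕ)) (fun i => i.1.1.2) ?_ f hinj
      (fun i => (i.1, nxt r hr.pos i.2)) id (fun j hj => hj) (fun i => hb i.1 i.2) (fun i => rfl)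
    intro j₀ hj₀
    rw [card_fiber_of_equiv (B := Fin a'' × Fin r) _ j₀
      ⟨fun i => (i.1.1.2, i.1.2), fun sm => ⟨((⟨j₀, hj₀⟩, sm.1), sm.2), rfl⟩, ?_, ?_⟩,
      Fintype.card_prod, Fintype.card_fin, Fintype.card_fin, ha'', mul_comm]
    · rintro ⟨⟨⟨j, s⟩, m⟩, h⟩
      have h' : (j : ℕ) = j₀ := h
      apply Subtype.ext
      show ((⟨j₀, hj₀⟩, s), m) = ((j, s), m)
      rw [Prod.mk.injEq, Prod.mk.injEq]
      exact ⟨⟨Fin.ext h'.symm, rfl⟩, rfl⟩
    · rintro ⟨s, m⟩
      rfl
  · have ht'0 : 0 < t' := by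
      rcases Nat.eq_zero_or_pos t' with h | h
      · rw [h, mul_zero] at ht'
        omega
      · exact h
    obtain ⟨b, hb⟩ := exists_cyclic_basis r hr n z hz f hf (Fin t' × Fin a) (by
      rw [Fintype.card_prod, Fintype.card_fin, Fintype.card_fin, hat, ht']
      ring)
    have hβt : ∀ i : (Fin t' × Fin a) × Fin r, (i.2 : ℕ) * t' + (i.1.1 : ℕ) < t := by
      intro i
      have h1 := i.2.2
      have h2 := i.1.1.2
      calc (i.2 : ℕ) * t' + (i.1.1 : ℕ) < (i.2 : ℕ) * t' + t' := by omega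
        _ = ((i.2 : ℕ) + 1) * t' := by ring
        _ ≤ r * t' := Nat.mul_le_mul_right _ (by omega)
        _ = t := ht'.symm
    apply exists_decomp_of_blocks ht ha b (fun i => (i.2 : ℕ) * t' + (i.1.1 : ℕ)) hβt ?_ f hinj
      (fun i => (i.1, nxt r hr.pos i.2)) (fun j => (j + t') % t)
      (fun j _ => Nat.mod_lt _ (by omega)) (fun i => hb i.1 i.2) ?_
    · intro j₀ hj₀
      have hdiv : j₀ / t' < r := by
        apply Nat.div_lt_of_lt_mul
        rw [mul_comm, ← ht']
        exact hj₀
      rw [card_fiber_of_equiv (B := Fin a) _ j₀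
        ⟨fun i => i.1.1.2, fun s => ⟨((⟨j₀ % t', Nat.mod_lt _ ht'0⟩, s), ⟨j₀ / t', hdiv⟩),
          Nat.div_add_mod' j₀ t'⟩, ?_, ?_⟩, Fintype.card_fin]
      · rintro ⟨⟨⟨L, s⟩, m⟩, h⟩
        have h' : (m : ℕ) * t' + (L : ℕ) = j₀ := h
        apply Subtype.ext
        show ((⟨j₀ % t', _⟩, s), (⟨j₀ / t', hdiv⟩ : Fin r)) = ((L, s), m)
        rw [Prod.mk.injEq, Prod.mk.injEq]
        refine ⟨⟨Fin.ext ?_, rfl⟩, Fin.ext ?_⟩
        · show j₀ % t' = (L : ℕ)
          rw [← h', Nat.mul_add_mod_of_lt L.2]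
        · show j₀ / t' = (m : ℕ)
          rw [← h', add_comm, Nat.add_mul_div_right _ _ ht'0, Nat.div_eq_of_lt L.2, zero_add]
      · intro s
        rfl
    · rintro ⟨⟨L, s⟩, m⟩
      show ((nxt r hr.pos m : Fin r) : ℕ) * t' + (L : ℕ) = ((m : ℕ) * t' + (L : ℕ) + t') % t
      unfold nxt
      split_ifs with h
      · show ((m : ℕ) + 1) * t' + (L : ℕ) = _
        have h3 : (m : ℕ) * t' + (L : ℕ) + t' < t := by
          have h2 := L.2
          calc (m : ℕ) * t' + (L : ℕ) + t' < ((m : ℕ) + 1) * t' + t' := by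
                rw [add_mul, one_mul]
                omega
            _ = ((m : ℕ) + 1 + 1) * t' := by ring
            _ ≤ r * t' := Nat.mul_le_mul_right _ (by omega)
            _ = t := ht'.symm
        rw [Nat.mod_eq_of_lt h3]
        ring
      · show 0 * t' + (L : ℕ) = _
        have hm : (m : ℕ) + 1 = r := by
          have := m.2
          omega
        have h3 : (m : ℕ) * t' + (L : ℕ) + t' = (L : ℕ) + t := by
          calc (m : ℕ) * t' + (L : ℕ) + t' = (L : ℕ) + ((m : ℕ) + 1) * t' := by ring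
            _ = (L : ℕ) + r * t' := by rw [hm]
            _ = (L : ℕ) + t := by rw [ht']
        have hLt : (L : ℕ) < t := by
          have := L.2
          have : t' ≤ t := by
            rw [ht']
            exact Nat.le_mul_of_pos_left _ hr.pos
          omega
        rw [h3, Nat.add_mod_right, Nat.mod_eq_of_lt hLt, zero_mul, zero_add]

end nonpower

end Cfsg.Agent.Helper13.SlDec
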