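import Mathlib
import Cfsg.Agent.Lib.Helper13.SlDec3
import Cfsg.Agent.Lib.Helper13.SlDec4
import Cfsg.Agent.Lib.Helper13.SpDec6

set_option autoImplicit false
set_option linter.unusedSectionVars false

/-!
# Elements of prime order which are monomial: the permutation model
-/

namespace Cfsg.Agent.Helper13.SlDec

open Polynomial Module Cfsg.Agent.Helper13.SS Cfsg.Agent.Helper13.Dual
  Cfsg.Agent.Helper13.SympSS Cfsg.Agent.Helper13.SpDec
open scoped Classical

universe u

section perm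
variable {r u₀ f₀ : ℕ}

/-- the index set: `u₀` cycles of length `r` and `f₀` fixed points -/
abbrev PIdx (r u₀ f₀ : ℕ) := (Fin u₀ × ZMod r) ⊕ Fin f₀

/-- the permutation rotating the cycles -/
def rotP (r u₀ f₀ : ℕ) : Equiv.Perm (PIdx r u₀ f₀) :=
  Equiv.sumCongr (Equiv.prodCongr (Equiv.refl (Fin u₀)) (Equiv.addRight (1 : ZMod r)))
    (Equiv.refl (Fin f₀))

theorem rotP_inl (l : Fin u₀) (m : ZMod r) :
    rotP r u₀ f₀ (Sum.inl (l, m)) = Sum.inl (l, m + 1) := rfl

theorem rotP_inr (j : Fin f₀) : rotP r u₀ f₀ (Sum.inr j) = Sum.inr j := rfl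

theorem rotP_pow_inl (k : ℕ) (l : Fin u₀) (m : ZMod r) :
    (rotP r u₀ f₀ ^ k) (Sum.inl (l, m)) = Sum.inl (l, m + k) := by
  induction k with
  | zero => simp
  | succ k ih =>
    rw [pow_succ', Equiv.Perm.mul_apply, ih, rotP_inl]
    congr 2
    push_cast
    ring

theorem rotP_pow_inr (k : ℕ) (j : Fin f₀) :
    (rotP r u₀ f₀ ^ k) (Sum.inr j) = Sum.inr j := by
  induction k with
  | zero => simp
  | succ k ih =>
    rw [pow_succ', Equiv.Perm.mul_apply, ih, rotP_inr]

theorem rotP_pow_r : rotP r u₀ f₀ ^ r = 1 := by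
  apply Equiv.ext
  rintro (⟨l, m⟩ | j)
  · rw [rotP_pow_inl, ZMod.natCast_self, add_zero]
    rfl
  · rw [rotP_pow_inr]
    rfl

end perm

section rotmap
variable {F : Type u} [Field F] {r u₀ f₀ : ℕ} [NeZero r]

/-- the linear map permuting the coordinates -/
noncomputable def rotMap (F : Type u) [Field F] (r u₀ f₀ : ℕ) [NeZero r] :
    Module.End F (PIdx r u₀ f₀ → F) :=
  LinearMap.funLeft F F (rotP r u₀ f₀).symm

theorem rotMap_apply (w : PIdx r u₀ f₀ → F) (i : PIdx r u₀ f₀) :
    rotMap F r u₀ f₀ w i = w ((rotP r u₀ f₀).symm i) := rfl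

theorem rotMap_single (i : PIdx r u₀ f₀) :
    rotMap F r u₀ f₀ (Pi.single i 1) = Pi.single (rotP r u₀ f₀ i) 1 := by
  funext i'
  rw [rotMap_apply, Pi.single_apply, Pi.single_apply]
  apply if_congr _ rfl rfl
  rw [Equiv.symm_apply_eq]

theorem rotMap_pow (k : ℕ) (w : PIdx r u₀ f₀ → F) (i : PIdx r u₀ f₀) :
    ((rotMap F r u₀ f₀) ^ k) w i = w ((rotP r u₀ f₀ ^ k).symm i) := by
  induction k generalizing w with
  | zero =>
    rw [pow_zero, pow_zero]
    rfl
  | succ k ih =>
    rw [pow_succ, Module.End.mul_apply, ih, rotMap_apply]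
    congr 1
    rw [Equiv.eq_symm_apply, pow_succ, Equiv.Perm.mul_apply, Equiv.apply_symm_apply,
      Equiv.apply_symm_apply]

theorem rotMap_pow_r : (rotMap F r u₀ f₀) ^ r = 1 := by
  apply LinearMap.ext
  intro w
  funext i
  rw [rotMap_pow, rotP_pow_r]
  rfl

theorem mem_ker_rotMap (w : PIdx r u₀ f₀ → F) :
    w ∈ LinearMap.ker (rotMap F r u₀ f₀ - 1) ↔ ∀ i, w (rotP r u₀ f₀ i) = w i := by
  rw [LinearMap.mem_ker, LinearMap.sub_apply, Module.End.one_apply, sub_eq_zero]
  constructor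
  · intro h i
    have := congrFun h (rotP r u₀ f₀ i)
    rw [rotMap_apply, Equiv.symm_apply_apply] at this
    exact this.symm
  · intro h
    funext i
    rw [rotMap_apply]
    have := h ((rotP r u₀ f₀).symm i)
    rw [Equiv.apply_symm_apply] at this
    exact this.symm

theorem ker_rotMap_const (w : PIdx r u₀ f₀ → F) (hw : ∀ i, w (rotP r u₀ f₀ i) = w i)
    (l : Fin u₀) (m : ZMod r) : w (Sum.inl (l, m)) = w (Sum.inl (l, 0)) := by
  have h1 : ∀ k : ℕ, w (Sum.inl (l, (k : ZMod r))) = w (Sum.inl (l, 0)) := by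
    intro k
    induction k with
    | zero => simp
    | succ k ih =>
      rw [← ih, ← hw (Sum.inl (l, (k : ZMod r))), rotP_inl]
      congr 3
      push_cast
      rfl
  rw [← ZMod.natCast_zmod_val m]
  exact h1 _

theorem finrank_ker_rotMap :
    finrank F (LinearMap.ker (rotMap F r u₀ f₀ - 1)) = u₀ + f₀ := by
  set ρ : Fin u₀ ⊕ Fin f₀ → PIdx r u₀ f₀ := Sum.map (fun l => (l, 0)) id with hρ
  set κ : PIdx r u₀ f₀ → Fin u₀ ⊕ Fin f₀ := Sum.map Prod.fst id with hκ
  have hκπ : ∀ i, κ (rotP r u₀ f₀ i) = κ i := by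
    rintro (⟨l, m⟩ | j)
    · rfl
    · rfl
  have hκρ : ∀ x, κ (ρ x) = x := by
    rintro (l | j)
    · rfl
    · rfl
  have hρκ : ∀ (w : PIdx r u₀ f₀ → F), (∀ i, w (rotP r u₀ f₀ i) = w i) →
      ∀ i, w (ρ (κ i)) = w i := by
    intro w hw
    rintro (⟨l, m⟩ | j)
    · exact (ker_rotMap_const w hw l m).symm
    · rfl
  let E : LinearMap.ker (rotMap F r u₀ f₀ - 1) ≃ₗ[F] (Fin u₀ ⊕ Fin f₀ → F) :=
    { toFun := fun w x => (w : PIdx r u₀ f₀ → F) (ρ x)
      map_add' := fun w w' => rfl
      map_smul' := fun c w => rfl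
      invFun := fun v => ⟨fun i => v (κ i), (mem_ker_rotMap _).2 (fun i => by
        show v (κ (rotP r u₀ f₀ i)) = v (κ i)
        rw [hκπ])⟩
      left_inv := fun w => by
        apply Subtype.ext
        funext i
        exact hρκ _ ((mem_ker_rotMap _).1 w.2) i
      right_inv := fun v => by
        funext x
        show v (κ (ρ x)) = v x
        rw [hκρ] }
  rw [E.finrank_eq, Module.finrank_fintype_fun_eq_card, Fintype.card_sum, Fintype.card_fin,
    Fintype.card_fin]

end rotmap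

section permdecomp
variable {F : Type u} [Field F] [Fintype F] {p : ℕ} [Fact p.Prime] [CharP F p] {r q : ℕ}

/-- when the cyclotomic polynomial is irreducible and `n ≤ (n mod c) r`, every element of
order `r` is monomial -/
theorem exists_decomp_perm (hF : Fintype.card F = q) (hr : r.Prime) (hrp : r ≠ p) (n : ℕ)
    (hn : 2 ≤ n) (c : ℕ) (hc : c = orderOf (q : ZMod r)) (hc1 : 1 < c) (hcr : c = r - 1)
    (hnr : n ≤ (n % c) * r) (f : Module.End F (Fin n → F)) (hf : f ^ r = 1) :
    ∃ D : Fin n → Submodule F (Fin n → F), Cfsg.Geo.IsMDecomposition 1 D ∧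
      ∃ σ : Equiv.Perm (Fin n), ∀ j, (D j).map f = D (σ j) := by
  haveI : NeZero r := ⟨hr.ne_zero⟩
  subst hc
  obtain ⟨k, hfin, -⟩ := struct_gl hF hr hrp f hf
  rw [Module.finrank_fin_fun] at hfin
  set c := orderOf (q : ZMod r) with hc
  set u₀ := ∑ a, k a with hu₀
  have hr' : r = c + 1 := by
    have := hr.two_le
    omega
  have hru' : r * u₀ = c * u₀ + u₀ := by
    rw [hr']
    ring
  have hru : r * u₀ ≤ n := by
    have h1 := Nat.div_add_mod n c
    have h2 : u₀ ≤ n / c := by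
      rw [Nat.le_div_iff_mul_le (by omega), mul_comm]
      omega
    have h3 : n / c ≤ n % c := by
      have h4 : c * (n / c) ≤ c * (n % c) := by
        rw [hr', mul_add, mul_one] at hnr
        have : (n % c) * c = c * (n % c) := mul_comm _ _
        omega
      exact Nat.le_of_mul_le_mul_left h4 (by omega)
    have := Nat.mul_le_mul_left c h2
    omega
  set f₀ := n - r * u₀ with hf₀
  have hcardI : Fintype.card (PIdx r u₀ f₀) = n := by
    rw [Fintype.card_sum, Fintype.card_prod, Fintype.card_fin, Fintype.card_fin, ZMod.card,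
      mul_comm]
    omega
  set y := rotMap F r u₀ f₀ with hy
  have hyr : y ^ r = 1 := rotMap_pow_r
  set S := insert (X - 1 : F[X]) (cycFactors F r) with hS
  have hkill : ∀ {U : Type u} [AddCommGroup U] [Module F U] (C : Module.End F U),
      C ^ r = 1 → aeval C (∏ f ∈ S, f) = 0 := by
    intro U _ _ C hC
    rw [hS, X_sub_one_mul_prod hr hrp, map_sub, map_pow, aeval_X, map_one, hC, sub_self]
  have hirr : ∀ f ∈ S, Irreducible f := fun f hf => insert_irreducible hf
  have hcop := insert_pairwise_coprime (F := F) hr hrp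
  have hcard1 : (cycFactors F r).card = 1 := by
    have h1 := cycFactors_card (F := F) hF hr hrp
    rw [← hc, ← hcr] at h1
    have h2 : (cycFactors F r).card * c = 1 * c := by rw [h1, one_mul]
    exact Nat.eq_of_mul_eq_mul_right (by omega) h2
  obtain ⟨a₀, ha₀⟩ := Finset.card_eq_one.1 hcard1
  have hky : kdim y (X - 1) = u₀ + f₀ := by
    rw [kdim_X_sub_one]
    exact finrank_ker_rotMap
  have hsumy := finrank_eq_sum_kdim y S hcop (hkill y hyr)
  have hsumf := finrank_eq_sum_kdim f S hcop (hkill f hf)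
  rw [hS, Finset.sum_insert (X_sub_one_notMem hr hrp), ha₀, Finset.sum_singleton,
    Module.finrank_fintype_fun_eq_card, hcardI] at hsumy
  rw [hS, Finset.sum_insert (X_sub_one_notMem hr hrp), ha₀, Finset.sum_singleton,
    Module.finrank_fin_fun] at hsumf
  have hk : ∀ f' ∈ S, kdim y f' = kdim f f' := by
    intro f' hf'
    rw [hS, ha₀] at hf'
    rcases Finset.mem_insert.1 hf' with rfl | h
    · omega
    · rw [Finset.mem_singleton] at h
      rw [h]
      omega
  obtain ⟨T, hT⟩ := exists_equiv_aux S _ _ y f hirr hcop (hkill y hyr) (hkill f hf) hk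
  set b : Basis (PIdx r u₀ f₀) F (Fin n → F) := (Pi.basisFun F (PIdx r u₀ f₀)).map T with hb
  have hfb : ∀ i, f (b i) = b (rotP r u₀ f₀ i) := by
    intro i
    rw [hb, Basis.map_apply, Basis.map_apply, Pi.basisFun_apply, Pi.basisFun_apply, ← hT, hy,
      rotMap_single]
  have hinj : Function.Injective f :=
    injective_of_pow_eq_smul r hr.pos 1 one_ne_zero f (by rw [hf, one_smul])
  let e : PIdx r u₀ f₀ ≃ Fin n := Fintype.equivFinOfCardEq hcardI
  apply exists_decomp_of_blocks hn one_pos b (fun i => (e i : ℕ)) (fun i => (e i).2) ?_ f hinj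
    (rotP r u₀ f₀)
    (fun j => if h : j < n then (e (rotP r u₀ f₀ (e.symm ⟨j, h⟩)) : ℕ) else j) ?_ ?_ ?_
  · intro j₀ hj₀
    rw [card_fiber_of_equiv (B := Unit) _ j₀
      ⟨fun _ => (), fun _ => ⟨e.symm ⟨j₀, hj₀⟩, by rw [Equiv.apply_symm_apply]⟩, ?_, ?_⟩,
      Fintype.card_unit]
    · rintro ⟨i, h⟩
      apply Subtype.ext
      show e.symm ⟨j₀, hj₀⟩ = i
      rw [Equiv.symm_apply_eq]
      exact Fin.ext h.symm
    · intro x
      rfl
  · intro j hj
    rw [dif_pos hj]
    exact (e _).2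
  · intro i
    rw [hfb]
    exact Submodule.subset_span rfl
  · intro i
    show ((e (rotP r u₀ f₀ i) : Fin n) : ℕ) = _
    rw [dif_pos (e i).2]
    simp

end permdecomp

end Cfsg.Agent.Helper13.SlDec
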