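import Mathlib
import Cfsg.Agent.Lib.Helper13.SlDec3
import Cfsg.Agent.Lib.Helper13.SlDec4
import Cfsg.Agent.Lib.Helper13.SpDec6
import Cfsg.Agent.Lib.Helper13.SpDec7
import Cfsg.Agent.Lib.Helper13.Elusive

set_option autoImplicit false
set_option linter.unusedSectionVars false

/-!
# Elements of prime order of `SL_n(q)` stabilising no decomposition
-/

namespace Cfsg.Agent.Helper13.SlDec

open Polynomial Module Cfsg.Agent.Helper13.SS Cfsg.Agent.Helper13.Dual
  Cfsg.Agent.Helper13.SympSS Cfsg.Agent.Helper13.SpDec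
open scoped Classical

universe u

section transfer
variable {F : Type u} [Field F] {n a t : ℕ}

/-- an endomorphism permuting the summands of a decomposition is monomial on the model space -/
theorem exists_mono_gl (f : Module.End F (Fin n → F))
    (Φ : (Fin t → (Fin a → F)) ≃ₗ[F] (Fin n → F)) (σ : Equiv.Perm (Fin t))
    (hσ : ∀ j, (decompOfG Φ j).map f = decompOfG Φ (σ j)) (r : ℕ) (hf : f ^ r = 1) :
    ∃ y : Module.End F (Fin t → (Fin a → F)), IsMono y σ ∧ y ^ r = 1 ∧
      kdim y (X - 1) = kdim f (X - 1) := by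
  set y : Module.End F (Fin t → (Fin a → F)) :=
    (Φ.symm : (Fin n → F) →ₗ[F] (Fin t → (Fin a → F))) ∘ₗ f ∘ₗ
      (Φ : (Fin t → (Fin a → F)) →ₗ[F] (Fin n → F)) with hy
  have hya : ∀ w, y w = Φ.symm (f (Φ w)) := fun w => rfl
  have hΦy : ∀ w, Φ (y w) = f (Φ w) := by
    intro w
    rw [hya, Φ.apply_symm_apply]
  refine ⟨y, ?_, ?_, ?_⟩
  · intro j u j' hj'
    have hmem : f (Φ (Pi.single j u)) ∈ decompOfG Φ (σ j) := by
      rw [← hσ j, Submodule.mem_map]
      exact ⟨Φ (Pi.single j u), single_mem_decompOfG Φ j u, rfl⟩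
    rw [hya]
    exact (mem_decompOfG_iff Φ (σ j) _).1 hmem j' hj'
  · have hpow : ∀ (m : ℕ) w, (y ^ m) w = Φ.symm ((f ^ m) (Φ w)) := by
      intro m
      induction m with
      | zero =>
        intro w
        simp
      | succ m ih =>
        intro w
        rw [pow_succ, Module.End.mul_apply, ih, hΦy, pow_succ, Module.End.mul_apply]
    apply LinearMap.ext
    intro w
    rw [hpow, hf, Module.End.one_apply, Module.End.one_apply, Φ.symm_apply_apply]
  · exact kdim_eq_of_equiv Φ y f hΦy (X - 1)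

end transfer

section blocks
variable {F : Type u} [Field F] [Fintype F] {p : ℕ} [Fact p.Prime] [CharP F p] {r q a t : ℕ}

/-- the fixed spaces of the blocks when all summands are fixed -/
theorem exists_block_fix_gl (hF : Fintype.card F = q) (hr : r.Prime) (hrp : r ≠ p)
    (y : Module.End F (Fin t → (Fin a → F))) (h : IsMono y 1) (hyr : y ^ r = 1) :
    ∃ fx : Fin t → ℕ, (∀ j, ∃ u, a = fx j + orderOf (q : ZMod r) * u) ∧
      ∑ j, fx j ≤ kdim y (X - 1) := by
  refine ⟨fun j => kdim (blockOf y j) (X - 1), ?_, ?_⟩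
  · intro j
    obtain ⟨k, hfin, -⟩ := struct_gl hF hr hrp (blockOf y j) (blockOf_pow y h r hyr j)
    rw [Module.finrank_fin_fun] at hfin
    exact ⟨_, hfin⟩
  · rw [kdim_X_sub_one]
    simp only [kdim_X_sub_one]
    exact sum_fix_le y h

end blocks

section elements
variable {F : Type u} [Field F] [Fintype F] {p : ℕ} [Fact p.Prime] [CharP F p] {r q : ℕ}

theorem not_dvd_card_sub_one (hF : Fintype.card F = q) (hr : r.Prime)
    (hc2 : 2 ≤ orderOf (q : ZMod r)) : ¬ r ∣ Fintype.card F - 1 := by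
  haveI : Fact r.Prime := ⟨hr⟩
  exact Cfsg.Agent.Helper13.Elus.not_dvd_of_two_le_orderOf r (by rw [hF]; exact hc2)

/-- elements of `SL_n` of order `r` with a prescribed number of units -/
theorem exists_sl_elt (hF : Fintype.card F = q) (hr : r.Prime) (hrp : r ≠ p)
    (hc2 : 2 ≤ orderOf (q : ZMod r)) (n u : ℕ) (hu1 : 1 ≤ u)
    (hu : orderOf (q : ZMod r) * u ≤ n) :
    ∃ x : Matrix.SpecialLinearGroup (Fin n) F,
      (Matrix.toLin' (x : Matrix (Fin n) (Fin n) F)) ^ r = 1 ∧
      ((x ^ r : Matrix.SpecialLinearGroup (Fin n) F) : Matrix (Fin n) (Fin n) F)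
        = (1 : F) • (1 : Matrix (Fin n) (Fin n) F) ∧
      (∀ z : F, (x : Matrix (Fin n) (Fin n) F) ≠ z • (1 : Matrix (Fin n) (Fin n) F)) ∧
      kdim (Matrix.toLin' (x : Matrix (Fin n) (Fin n) F)) (X - 1)
        = n - orderOf (q : ZMod r) * u := by
  haveI : Fact r.Prime := ⟨hr⟩
  have hrq := not_dvd_card_sub_one hF hr hc2
  obtain ⟨a₀, ha₀⟩ := cycFactors_nonempty_aux (F := F) hF hr hrp
  set k : ↥(cycFactors F r) → ℕ := fun a => if a = ⟨a₀, ha₀⟩ then u else 0 with hk
  have hsum : ∑ a, k a = u := by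
    rw [hk, Finset.sum_ite_eq' Finset.univ (⟨a₀, ha₀⟩ : ↥(cycFactors F r)) (fun _ => u),
      if_pos (Finset.mem_univ _)]
  obtain ⟨g, hg, hgk, -⟩ := exists_gl_elt hF hr hrp n k (by rw [hsum]; exact hu)
  rw [hsum] at hgk
  have hdet : LinearMap.det g = 1 := by
    apply Cfsg.Agent.Helper13.Elus.eq_one_of_pow_eq_one_of_not_dvd r hrq
    rw [← map_pow, hg, map_one]
  have hn0 : 0 < n := by
    have : orderOf (q : ZMod r) ≤ orderOf (q : ZMod r) * u := Nat.le_mul_of_pos_right _ hu1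
    omega
  set x : Matrix.SpecialLinearGroup (Fin n) F :=
    ⟨LinearMap.toMatrix' g, by rw [LinearMap.det_toMatrix']; exact hdet⟩ with hx
  have hxg : Matrix.toLin' (x : Matrix (Fin n) (Fin n) F) = g := Matrix.toLin'_toMatrix' g
  refine ⟨x, ?_, ?_, ?_, ?_⟩
  · rw [hxg, hg]
  · rw [Matrix.SpecialLinearGroup.coe_pow, one_smul]
    apply Matrix.toLin'.injective
    rw [Matrix.toLin'_pow, hxg, hg, Matrix.toLin'_one]
    rfl
  · intro z hxz
    have hgz : g = z • 1 := by
      rw [← hxg, hxz, map_smul, Matrix.toLin'_one]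
      rfl
    have hzr : z ^ r = 1 := by
      have h1 : (g ^ r) (Pi.single ⟨0, hn0⟩ 1) = Pi.single ⟨0, hn0⟩ 1 := by
        rw [hg, Module.End.one_apply]
      rw [hgz, _root_.smul_pow, one_pow, LinearMap.smul_apply, Module.End.one_apply] at h1
      have h2 := congrFun h1 ⟨0, hn0⟩
      rw [Pi.smul_apply, Pi.single_eq_same, smul_eq_mul, mul_one] at h2
      exact h2
    have hz1 := Cfsg.Agent.Helper13.Elus.eq_one_of_pow_eq_one_of_not_dvd r hrq z hzr
    rw [hz1, one_smul] at hgz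
    rw [kdim_X_sub_one, hgz, sub_self, LinearMap.ker_zero, finrank_top,
      Module.finrank_fin_fun] at hgk
    have : orderOf (q : ZMod r) ≤ orderOf (q : ZMod r) * u := Nat.le_mul_of_pos_right _ hu1
    omega
  · rw [hxg, hgk]

end elements

end Cfsg.Agent.Helper13.SlDec
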