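import Mathlib
import Cfsg.Agent.Lib.Helper13.SlDec6

set_option autoImplicit false
set_option linter.unusedSectionVars false

/-!
# Monomial endomorphisms of prime order: a lower bound for the fixed space
-/

namespace Cfsg.Agent.Helper13.SlDec

open Polynomial Module Cfsg.Agent.Helper13.SS Cfsg.Agent.Helper13.Dual
  Cfsg.Agent.Helper13.SympSS Cfsg.Agent.Helper13.SpDec
open scoped Classical

universe u

section orbits

theorem perm_pow_mul_eq_one {t : ℕ} (σ : Equiv.Perm (Fin t)) (r : ℕ) (hσ : σ ^ r = 1) (m : ℕ) :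
    σ ^ (m * r) = 1 := by
  rw [pow_mul', hσ, one_pow]

theorem perm_pow_inv {t : ℕ} (σ : Equiv.Perm (Fin t)) (r : ℕ) (hr : 0 < r) (hσ : σ ^ r = 1)
    (m : ℕ) (j : Fin t) : (σ ^ (m * (r - 1))) ((σ ^ m) j) = j := by
  rw [← Equiv.Perm.mul_apply, ← pow_add]
  have e : m * (r - 1) + m = m * r := by
    obtain ⟨r', rfl⟩ : ∃ r', r = r' + 1 := ⟨r - 1, by omega⟩
    rw [Nat.add_sub_cancel]
    ring
  rw [e, perm_pow_mul_eq_one σ r hσ, Equiv.Perm.one_apply]

/-- representatives of the orbits of a permutation of order dividing `r` -/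
theorem exists_orbit_reps {t : ℕ} (σ : Equiv.Perm (Fin t)) (r : ℕ) (hr : 0 < r)
    (hσ : σ ^ r = 1) :
    ∃ R : Finset (Fin t), t ≤ r * R.card ∧
      ∀ j ∈ R, ∀ j' ∈ R, ∀ m : ℕ, (σ ^ m) j = j' → j = j' := by
  refine ⟨Finset.univ.filter (fun j => ∀ m : ℕ, j ≤ (σ ^ m) j), ?_, ?_⟩
  · set R := Finset.univ.filter (fun j : Fin t => ∀ m : ℕ, j ≤ (σ ^ m) j) with hR
    have hsub : (Finset.univ : Finset (Fin t)) ⊆
        R.biUnion (fun j₀ => (Finset.range r).image (fun m => (σ ^ m) j₀)) := by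
      intro j _
      set O := (Finset.range r).image (fun m => (σ ^ m) j) with hO
      have hne : O.Nonempty := ⟨j, Finset.mem_image.2 ⟨0, Finset.mem_range.2 hr, by simp⟩⟩
      obtain ⟨m₀, hm₀, hm₀j⟩ := Finset.mem_image.1 (Finset.min'_mem O hne)
      have hj₀R : O.min' hne ∈ R := by
        rw [hR, Finset.mem_filter]
        refine ⟨Finset.mem_univ _, ?_⟩
        intro m
        apply Finset.min'_le
        rw [← hm₀j, hO, Finset.mem_image]
        refine ⟨(m + m₀) % r, Finset.mem_range.2 (Nat.mod_lt _ hr), ?_⟩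
        show (σ ^ ((m + m₀) % r)) j = (σ ^ m) ((σ ^ m₀) j)
        rw [← pow_eq_pow_mod _ hσ, pow_add, Equiv.Perm.mul_apply]
      rw [Finset.mem_biUnion]
      refine ⟨O.min' hne, hj₀R, ?_⟩
      rw [Finset.mem_image]
      refine ⟨(m₀ * (r - 1)) % r, Finset.mem_range.2 (Nat.mod_lt _ hr), ?_⟩
      show (σ ^ ((m₀ * (r - 1)) % r)) (O.min' hne) = j
      rw [← pow_eq_pow_mod _ hσ, ← hm₀j]
      exact perm_pow_inv σ r hr hσ m₀ j
    have h1 := Finset.card_le_card hsub
    rw [Finset.card_univ, Fintype.card_fin] at h1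
    have h2 : (R.biUnion (fun j₀ => (Finset.range r).image (fun m => (σ ^ m) j₀))).card
        ≤ ∑ j₀ ∈ R, r := by
      refine le_trans Finset.card_biUnion_le (Finset.sum_le_sum ?_)
      intro j₀ _
      refine le_trans Finset.card_image_le ?_
      rw [Finset.card_range]
    rw [Finset.sum_const, smul_eq_mul, mul_comm] at h2
    exact le_trans h1 h2
  · intro j hj j' hj' m hm
    rw [Finset.mem_filter] at hj hj'
    have h1 : j ≤ j' := hm ▸ hj.2 m
    have h2 : j' ≤ j := by
      have := hj'.2 (m * (r - 1))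
      rwa [← hm, perm_pow_inv σ r hr hσ m j, hm] at this
    exact le_antisymm h1 h2

end orbits

section lower
variable {F : Type u} [Field F] {U : Type*} [AddCommGroup U] [Module F U] {t : ℕ}

theorem perm_pow_eq_one (y : Module.End F (Fin t → U)) (σ : Equiv.Perm (Fin t))
    (h : IsMono y σ) (r : ℕ) (hyr : y ^ r = 1) (hU : ∃ u : U, u ≠ 0) : σ ^ r = 1 := by
  obtain ⟨u, hu⟩ := hU
  apply Equiv.ext
  intro j
  by_contra hne
  have := (h.pow r) j u j (Ne.symm hne)
  rw [hyr, Module.End.one_apply, Pi.single_eq_same] at this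
  exact hu this

theorem pow_single_of_fixed (y : Module.End F (Fin t → U)) (σ : Equiv.Perm (Fin t))
    (h : IsMono y σ) (j : Fin t) (hj : σ j = j) (m : ℕ) (u : U) :
    (y ^ m) (Pi.single j u) = Pi.single j (((blockOf y j) ^ m) u) := by
  induction m generalizing u with
  | zero => simp
  | succ m ih =>
    have h1 : y (Pi.single j u) = Pi.single j (blockOf y j u) :=
      eq_single_of_supp _ j (fun j' hj' => h j u j' (by rw [hj]; exact hj'))
    rw [pow_succ, Module.End.mul_apply, h1, ih, pow_succ, Module.End.mul_apply]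

theorem blockOf_pow_of_fixed (y : Module.End F (Fin t → U)) (σ : Equiv.Perm (Fin t))
    (h : IsMono y σ) (j : Fin t) (hj : σ j = j) (m : ℕ) (hym : y ^ m = 1) :
    (blockOf y j) ^ m = 1 := by
  apply LinearMap.ext
  intro u
  have h1 := pow_single_of_fixed y σ h j hj m u
  rw [hym, Module.End.one_apply] at h1
  have h2 := congrFun h1 j
  rw [Pi.single_eq_same, Pi.single_eq_same] at h2
  rw [Module.End.one_apply]
  exact h2.symm

/-- a monomial endomorphism of prime order with trivial fixed blocks has a large fixed space -/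
theorem le_mul_fix [FiniteDimensional F U] (y : Module.End F (Fin t → U))
    (σ : Equiv.Perm (Fin t)) (h : IsMono y σ) (r : ℕ) (hr : r.Prime) (hyr : y ^ r = 1)
    (hU : ∃ u : U, u ≠ 0) (hrF : (r : F) ≠ 0)
    (hfix : ∀ j, σ j = j → blockOf y j = 1) :
    t * finrank F U ≤ r * finrank F (LinearMap.ker (y - 1)) := by
  have hσr := perm_pow_eq_one y σ h r hyr hU
  obtain ⟨R, hRcard, hRind⟩ := exists_orbit_reps σ r hr.pos hσr
  set Avg : Module.End F (Fin t → U) := ∑ m ∈ Finset.range r, y ^ m with hAvg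
  have h1 : (y - 1) * Avg = 0 := by
    rw [hAvg, mul_geom_sum, hyr, sub_self]
  set E : ({j // j ∈ R} → U) →ₗ[F] (Fin t → U) :=
    LinearMap.pi (fun j => if hj : j ∈ R then LinearMap.proj ⟨j, hj⟩ else 0) with hE
  have hE1 : ∀ (w : {j // j ∈ R} → U) (j : Fin t) (hj : j ∈ R), E w j = w ⟨j, hj⟩ := by
    intro w j hj
    rw [hE, LinearMap.pi_apply, dif_pos hj]
    rfl
  have hE0 : ∀ (w : {j // j ∈ R} → U) (j : Fin t), j ∉ R → E w j = 0 := by
    intro w j hj
    rw [hE, LinearMap.pi_apply, dif_neg hj]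
    rfl
  -- coordinates of powers
  have hcoord : ∀ (w : {j // j ∈ R} → U) (j₀ : Fin t) (hj₀ : j₀ ∈ R) (m : ℕ),
      (y ^ m) (E w) j₀ = if (σ ^ m) j₀ = j₀ then (y ^ m) (Pi.single j₀ (w ⟨j₀, hj₀⟩)) j₀
        else 0 := by
    intro w j₀ hj₀ m
    set l := (σ ^ m).symm j₀ with hl
    have hlj : (σ ^ m) l = j₀ := (σ ^ m).apply_symm_apply j₀
    have h2 := (h.pow m).apply (E w) l
    rw [hlj] at h2
    rw [h2]
    by_cases hlR : l ∈ R
    · have hll : l = j₀ := hRind l hlR j₀ hj₀ m hlj
      rw [hll] at hlj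
      rw [if_pos hlj, hll, hE1 w j₀ hj₀]
    · rw [hE0 w l hlR, Pi.single_zero, map_zero]
      have hne : (σ ^ m) j₀ ≠ j₀ := by
        intro heq
        apply hlR
        have : l = j₀ := by
          rw [hl, Equiv.symm_apply_eq, heq]
        rw [this]
        exact hj₀
      rw [if_neg hne]
      rfl
  set Ψ : ({j // j ∈ R} → U) →ₗ[F] (Fin t → U) := Avg ∘ₗ E with hΨ
  have hΨker : ∀ w, Ψ w ∈ LinearMap.ker (y - 1) := by
    intro w
    rw [LinearMap.mem_ker]
    show (y - 1) (Avg (E w)) = 0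
    rw [← Module.End.mul_apply, h1, LinearMap.zero_apply]
  have hΨa : ∀ (w : {j // j ∈ R} → U) (j₀ : Fin t) (hj₀ : j₀ ∈ R),
      Ψ w j₀ = ∑ m ∈ Finset.range r, (y ^ m) (E w) j₀ := by
    intro w j₀ hj₀
    show (Avg (E w)) j₀ = _
    rw [hAvg, LinearMap.sum_apply, Finset.sum_apply]
  have hΨinj : Function.Injective Ψ := by
    rw [injective_iff_map_eq_zero]
    intro w hw
    funext ⟨j₀, hj₀⟩
    have h3 := congrFun hw j₀
    rw [hΨa w j₀ hj₀, Pi.zero_apply] at h3
    show w ⟨j₀, hj₀⟩ = 0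
    by_cases hσj : σ j₀ = j₀
    · have hterm : ∀ m ∈ Finset.range r, (y ^ m) (E w) j₀ = w ⟨j₀, hj₀⟩ := by
        intro m _
        have hm : ∀ m : ℕ, (σ ^ m) j₀ = j₀ := by
          intro m
          induction m with
          | zero => simp
          | succ m ih => rw [pow_succ, Equiv.Perm.mul_apply, hσj, ih]
        have hm := hm m
        rw [hcoord w j₀ hj₀ m, if_pos hm, pow_single_of_fixed y σ h j₀ hσj, hfix j₀ hσj,
          one_pow, Module.End.one_apply, Pi.single_eq_same]
      rw [Finset.sum_congr rfl hterm, Finset.sum_const, Finset.card_range,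
        ← Nat.cast_smul_eq_nsmul F, smul_eq_zero] at h3
      rcases h3 with h3 | h3
      · exact absurd h3 hrF
      · exact h3
    · rw [Finset.sum_eq_single 0] at h3
      · rw [hcoord w j₀ hj₀ 0, pow_zero, Equiv.Perm.one_apply, if_pos rfl, pow_zero,
          Module.End.one_apply, Pi.single_eq_same] at h3
        exact h3
      · intro m hm hm0
        rw [hcoord w j₀ hj₀ m, if_neg]
        exact pow_apply_ne y σ h r hr hyr hU j₀ hσj m (Nat.pos_of_ne_zero hm0)
          (Finset.mem_range.1 hm)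
      · intro h'
        exact absurd (Finset.mem_range.2 hr.pos) h'
  set Ψ' := LinearMap.codRestrict (LinearMap.ker (y - 1)) Ψ hΨker with hΨ'
  have hinj' : Function.Injective Ψ' := by
    intro w w' hww'
    exact hΨinj (congrArg Subtype.val hww')
  have h4 := LinearMap.finrank_le_finrank_of_injective hinj'
  rw [Module.finrank_pi_fintype, Finset.sum_const, Finset.card_univ, smul_eq_mul,
    Fintype.card_coe] at h4
  calc t * finrank F U ≤ r * R.card * finrank F U := Nat.mul_le_mul_right _ hRcard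
    _ = r * (R.card * finrank F U) := by ring
    _ ≤ r * finrank F (LinearMap.ker (y - 1)) := Nat.mul_le_mul_left _ h4

end lower

end Cfsg.Agent.Helper13.SlDec
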