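import Mathlib
import Cfsg.Agent.Lib.Helper13.SlDec7
import Cfsg.Agent.Lib.Helper13.ElusiveCore

set_option autoImplicit false
set_option linter.unusedSectionVars false

/-!
# Elements of prime order of `SL_n(q)` stabilising no decomposition: the obstructions
-/

namespace Cfsg.Agent.Helper13.SlDec

open Polynomial Module Cfsg.Agent.Helper13.SS Cfsg.Agent.Helper13.Dual
  Cfsg.Agent.Helper13.SympSS Cfsg.Agent.Helper13.SpDec
open scoped Classical

universe u

section transfer
variable {F : Type u} [Field F] {n a t : ℕ}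

theorem exists_mono_of_stab (hat : n = a * t) (f : Module.End F (Fin n → F)) (r : ℕ)
    (hf : f ^ r = 1) (D : Fin t → Submodule F (Fin n → F))
    (hD : Cfsg.Geo.IsMDecomposition a D) (σ : Equiv.Perm (Fin t))
    (hσ : ∀ j, (D j).map f = D (σ j)) :
    ∃ y : Module.End F (Fin t → (Fin a → F)), IsMono y σ ∧ y ^ r = 1 ∧
      kdim y (X - 1) = kdim f (X - 1) := by
  obtain ⟨Φ, rfl⟩ := exists_equiv_of_isMDecomp hat D hD
  exact exists_mono_gl f Φ σ hσ r hf

theorem end_fin_one_eq_smul (b : Module.End F (Fin 1 → F)) :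
    b = (b (fun _ => 1) 0) • (1 : Module.End F (Fin 1 → F)) := by
  apply LinearMap.ext
  intro u
  have hu : u = u 0 • (fun _ => (1 : F)) := by
    funext i
    rw [Pi.smul_apply, smul_eq_mul, mul_one, Subsingleton.elim i 0]
  funext i
  rw [Subsingleton.elim i 0, LinearMap.smul_apply, Module.End.one_apply, Pi.smul_apply,
    smul_eq_mul]
  conv_lhs => rw [hu, map_smul, Pi.smul_apply, smul_eq_mul]
  rw [mul_comm]

end transfer

section cases
variable {F : Type u} [Field F] [Fintype F] {p : ℕ} [Fact p.Prime] [CharP F p] {r q a t : ℕ}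

theorem exists_ne_zero_fin (ha : 0 < a) : ∃ u : Fin a → F, u ≠ 0 := by
  refine ⟨fun _ => 1, ?_⟩
  intro h
  have := congrFun h ⟨0, ha⟩
  exact one_ne_zero this

/-- the two possibilities for a monomial endomorphism of order `r` -/
theorem mono_fix_cases (hF : Fintype.card F = q) (hr : r.Prime) (hrp : r ≠ p) (ha : 0 < a)
    (y : Module.End F (Fin t → (Fin a → F))) (σ : Equiv.Perm (Fin t)) (h : IsMono y σ)
    (hyr : y ^ r = 1) :
    (∃ fx : Fin t → ℕ, (∀ j, ∃ u, a = fx j + orderOf (q : ZMod r) * u) ∧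
      ∑ j, fx j ≤ kdim y (X - 1)) ∨
    (a ≤ kdim y (X - 1) ∧ kdim y (X - 1) + (r - 1) * a ≤ t * a) := by
  by_cases hσ : ∀ j, σ j = j
  · left
    have hσ1 : σ = 1 := Equiv.ext hσ
    rw [hσ1] at h
    exact exists_block_fix_gl hF hr hrp y h hyr
  · right
    push Not at hσ
    obtain ⟨j₀, hj₀⟩ := hσ
    have h1 := finrank_le_fix y σ h r hr hyr (exists_ne_zero_fin ha) j₀ hj₀
    have h2 := fix_add_le y σ h r hr hyr (exists_ne_zero_fin ha) j₀ hj₀
    rw [Module.finrank_fin_fun] at h1 h2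
    rw [kdim_X_sub_one]
    exact ⟨h1, h2⟩

theorem orderOf_le_pred (hF : Fintype.card F = q) (hr : r.Prime) (hrp : r ≠ p) :
    orderOf (q : ZMod r) ≤ r - 1 := by
  have hp : p.Prime := Fact.out
  have hne : (q : ZMod r) ≠ 0 := by
    intro h0
    rw [ZMod.natCast_eq_zero_iff] at h0
    obtain ⟨k, -, rfl⟩ := exists_card_pow (p := p) hF
    exact hrp ((Nat.prime_dvd_prime_iff_eq hr hp).1 (hr.dvd_of_dvd_pow h0))
  have : Fact r.Prime := ⟨hr⟩
  have h1 : orderOf (q : ZMod r) ∣ r - 1 :=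
    orderOf_dvd_of_pow_eq_one (ZMod.pow_card_sub_one_eq_one hne)
  have hr1 : 0 < r - 1 := by
    have := hr.two_le
    omega
  exact Nat.le_of_dvd hr1 h1

/-- second obstruction: `c ≤ a` but the residues do not match -/
theorem bad_two (hF : Fintype.card F = q) (hr : r.Prime) (hrp : r ≠ p) (ha : 0 < a)
    (n : ℕ) (hat : n = a * t) (hca : orderOf (q : ZMod r) ≤ a)
    (hmod : n % orderOf (q : ZMod r) ≠ t * (a % orderOf (q : ZMod r)))
    (y : Module.End F (Fin t → (Fin a → F))) (σ : Equiv.Perm (Fin t)) (h : IsMono y σ)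
    (hyr : y ^ r = 1)
    (hfix : kdim y (X - 1) = n - orderOf (q : ZMod r) * (n / orderOf (q : ZMod r))) : False := by
  have hc0 : 0 < orderOf (q : ZMod r) := pos_orderOf hF hr hrp
  obtain ⟨c, hc⟩ : ∃ c, c = orderOf (q : ZMod r) := ⟨_, rfl⟩
  rw [← hc] at hc0 hca hmod hfix
  have hfix' : kdim y (X - 1) = n % c := by
    rw [hfix, Nat.mod_def]
  have hlt : n % c < c := Nat.mod_lt _ hc0
  have hge : c ≤ t * (a % c) := by
    by_contra hlt'
    push Not at hlt'
    apply hmod
    have e : n = c * (t * (a / c)) + t * (a % c) := by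
      rw [hat]
      conv_lhs => rw [← Nat.div_add_mod a c]
      ring
    rw [e, Nat.mul_add_mod, Nat.mod_eq_of_lt hlt']
  rcases mono_fix_cases hF hr hrp ha y σ h hyr with ⟨fx, hfx, hsum⟩ | ⟨h1, -⟩
  · rw [← hc] at hfx
    have hfxge : ∀ j, a % c ≤ fx j := by
      intro j
      obtain ⟨u, hu⟩ := hfx j
      have : a % c = fx j % c := by
        conv_lhs => rw [hu, Nat.add_mul_mod_self_left]
      rw [this]
      exact Nat.mod_le _ _
    have h2 : t * (a % c) ≤ ∑ j, fx j := by
      calc t * (a % c) = ∑ _j : Fin t, a % c := by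
            rw [Finset.sum_const, Finset.card_univ, Fintype.card_fin, smul_eq_mul]
        _ ≤ ∑ j, fx j := Finset.sum_le_sum (fun j _ => hfxge j)
    omega
  · omega

/-- first obstruction: `a < c` -/
theorem bad_one (hF : Fintype.card F = q) (hr : r.Prime) (hrp : r ≠ p) (ha : 0 < a)
    (n : ℕ) (hat : n = a * t) (hca : a < orderOf (q : ZMod r))
    (hcn : orderOf (q : ZMod r) ≤ n)
    (y : Module.End F (Fin t → (Fin a → F))) (σ : Equiv.Perm (Fin t)) (h : IsMono y σ)
    (hyr : y ^ r = 1)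
    (hfix : kdim y (X - 1) = n - orderOf (q : ZMod r) * 1) :
    a = 1 ∧ orderOf (q : ZMod r) = r - 1 := by
  have hc0 : 0 < orderOf (q : ZMod r) := pos_orderOf hF hr hrp
  have hcr := orderOf_le_pred hF hr hrp
  obtain ⟨c, hc⟩ : ∃ c, c = orderOf (q : ZMod r) := ⟨_, rfl⟩
  rw [← hc] at hc0 hcr hca hcn hfix ⊢
  rw [mul_one] at hfix
  rcases mono_fix_cases hF hr hrp ha y σ h hyr with ⟨fx, hfx, hsum⟩ | ⟨-, h2⟩
  · exfalso
    rw [← hc] at hfx
    have hfxa : ∀ j, fx j = a := by
      intro j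
      obtain ⟨u, hu⟩ := hfx j
      rcases Nat.eq_zero_or_pos u with h0 | h0
      · rw [h0, mul_zero, add_zero] at hu
        exact hu.symm
      · have : c ≤ c * u := Nat.le_mul_of_pos_right _ h0
        omega
    have h3 : ∑ j, fx j = n := by
      rw [Finset.sum_congr rfl (fun j _ => hfxa j), Finset.sum_const, Finset.card_univ,
        Fintype.card_fin, smul_eq_mul, hat, mul_comm]
    omega
  · rw [hfix] at h2
    have h3 : (r - 1) * a ≤ c := by
      have e : t * a = n := by rw [hat, mul_comm]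
      omega
    have h4 : (r - 1) * a ≤ (r - 1) * 1 := by
      rw [mul_one]
      exact le_trans h3 hcr
    have hr1 : 0 < r - 1 := by
      have := hr.two_le
      omega
    have h5 : a ≤ 1 := Nat.le_of_mul_le_mul_left h4 hr1
    have ha1 : a = 1 := le_antisymm h5 ha
    refine ⟨ha1, ?_⟩
    rw [ha1, mul_one] at h3
    omega

/-- third obstruction: `a = 1`, `c = r - 1` -/
theorem bad_three (hF : Fintype.card F = q) (hr : r.Prime) (hrp : r ≠ p)
    (hc2 : 2 ≤ orderOf (q : ZMod r))
    (n : ℕ) (hat : n = 1 * t)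
    (y : Module.End F (Fin t → (Fin 1 → F))) (σ : Equiv.Perm (Fin t)) (h : IsMono y σ)
    (hyr : y ^ r = 1)
    (hfix : kdim y (X - 1) = n - orderOf (q : ZMod r) * (n / orderOf (q : ZMod r))) :
    n ≤ (n % orderOf (q : ZMod r)) * r := by
  haveI : Fact r.Prime := ⟨hr⟩
  have hrq := not_dvd_card_sub_one hF hr hc2
  have hfix' : kdim y (X - 1) = n % orderOf (q : ZMod r) := by
    rw [hfix, Nat.mod_def]
  have hblock : ∀ j, σ j = j → blockOf y j = 1 := by
    intro j hj
    have h1 := blockOf_pow_of_fixed y σ h j hj r hyr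
    rw [end_fin_one_eq_smul (blockOf y j)] at h1 ⊢
    rw [_root_.smul_pow, one_pow] at h1
    have h2 : (blockOf y j (fun _ => 1) 0) ^ r = 1 := by
      have h3 := congrFun (LinearMap.congr_fun h1 (fun _ => (1 : F))) 0
      rw [LinearMap.smul_apply, Module.End.one_apply, Pi.smul_apply, smul_eq_mul, mul_one] at h3
      exact h3
    rw [Cfsg.Agent.Helper13.Elus.eq_one_of_pow_eq_one_of_not_dvd r hrq _ h2, one_smul]
  have h1 := le_mul_fix y σ h r hr hyr (exists_ne_zero_fin (F := F) one_pos)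
    (cast_ne_zero_of_prime_ne (F := F) hr hrp) hblock
  rw [Module.finrank_fin_fun, mul_one, ← kdim_X_sub_one, hfix'] at h1
  rw [hat, one_mul] at *
  rw [mul_comm]
  exact h1

end cases

end Cfsg.Agent.Helper13.SlDec
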