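import Mathlib
import Cfsg.Agent.Lib.Helper13.SlDec2
import Cfsg.Agent.Lib.Helper13.SlDec5
import Cfsg.Agent.Lib.Helper13.SlDec8

set_option autoImplicit false
set_option linter.unusedSectionVars false

/-!
# Elements of prime order of `SL_n(q)` and decompositions: both directions
-/

namespace Cfsg.Agent.Helper13.SlDec

open Polynomial Module Cfsg.Agent.Helper13.SS Cfsg.Agent.Helper13.Dual
  Cfsg.Agent.Helper13.SympSS Cfsg.Agent.Helper13.SpDec
open scoped Classical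

universe u

variable {F : Type u} [Field F] [Fintype F] {p : ℕ} [Fact p.Prime] [CharP F p] {r q : ℕ}

theorem stab_forward (hF : Fintype.card F = q) (hr : r.Prime) (hrp : r ≠ p) (n a t : ℕ)
    (hat : n = a * t) (ha : 1 ≤ a) (ht : 2 ≤ t)
    (hΩ : r ∣ Nat.card (DecSetG F n a t) / t.factorial) (c : ℕ)
    (hc : c = orderOf (q : ZMod r))
    (hall : ∀ x : Matrix.SpecialLinearGroup (Fin n) F,
      (∃ z : F, ((x ^ r : Matrix.SpecialLinearGroup (Fin n) F) : Matrix (Fin n) (Fin n) F)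
        = z • (1 : Matrix (Fin n) (Fin n) F)) →
      (∀ z : F, (x : Matrix (Fin n) (Fin n) F) ≠ z • (1 : Matrix (Fin n) (Fin n) F)) →
      ∃ D : Fin t → Submodule F (Fin n → F), Cfsg.Geo.IsMDecomposition a D ∧
        ∃ σ : Equiv.Perm (Fin t), ∀ j,
          (D j).map (Matrix.toLin' (x : Matrix (Fin n) (Fin n) F)) = D (σ j)) :
    (a = 1 ∧ 1 < c ∧ c = r - 1 ∧ n ≤ (n % c) * r) ∨ (c ≤ a ∧ n % c = t * (a % c)) := by
  subst hc
  have hc0 : 0 < orderOf (q : ZMod r) := pos_orderOf hF hr hrp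
  by_cases hc1 : orderOf (q : ZMod r) = 1
  · right
    rw [hc1]
    refine ⟨ha, ?_⟩
    rw [Nat.mod_one, Nat.mod_one, mul_zero]
  have hc2 : 2 ≤ orderOf (q : ZMod r) := by omega
  have hcn : orderOf (q : ZMod r) ≤ n :=
    c_le_of_dvd_card_gl hF r hr hrp n (dvd_card_gl hat ht ha r hΩ)
  have hu1 : 1 ≤ n / orderOf (q : ZMod r) := Nat.div_pos hcn hc0
  have hu : orderOf (q : ZMod r) * (n / orderOf (q : ZMod r)) ≤ n := Nat.mul_div_le n _
  by_cases hca : orderOf (q : ZMod r) ≤ a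
  · right
    refine ⟨hca, ?_⟩
    by_contra hmod
    obtain ⟨x, hxr, hxz, hxns, hxk⟩ := exists_sl_elt hF hr hrp hc2 n _ hu1 hu
    obtain ⟨D, hD, σ, hσ⟩ := hall x ⟨1, hxz⟩ hxns
    obtain ⟨y, hy, hyr, hyk⟩ := exists_mono_of_stab hat _ r hxr D hD σ hσ
    exact bad_two hF hr hrp ha n hat hca hmod y σ hy hyr (hyk.trans hxk)
  · left
    push Not at hca
    obtain ⟨x, hxr, hxz, hxns, hxk⟩ := exists_sl_elt hF hr hrp hc2 n 1 le_rfl
      (by rw [mul_one]; exact hcn)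
    obtain ⟨D, hD, σ, hσ⟩ := hall x ⟨1, hxz⟩ hxns
    obtain ⟨y, hy, hyr, hyk⟩ := exists_mono_of_stab hat _ r hxr D hD σ hσ
    obtain ⟨ha1, hcr⟩ := bad_one hF hr hrp ha n hat hca hcn y σ hy hyr (hyk.trans hxk)
    refine ⟨ha1, hc2, hcr, ?_⟩
    subst ha1
    obtain ⟨x', hxr', hxz', hxns', hxk'⟩ := exists_sl_elt hF hr hrp hc2 n _ hu1 hu
    obtain ⟨D', hD', σ', hσ'⟩ := hall x' ⟨1, hxz'⟩ hxns'
    obtain ⟨y', hy', hyr', hyk'⟩ := exists_mono_of_stab hat _ r hxr' D' hD' σ' hσ'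
    exact bad_three hF hr hrp hc2 n hat y' σ' hy' hyr' (hyk'.trans hxk')

theorem stab_backward (hF : Fintype.card F = q) (hr : r.Prime) (hrp : r ≠ p) (n a t : ℕ)
    (hn : 2 ≤ n) (hat : n = a * t) (ha : 1 ≤ a) (ht : 2 ≤ t) (c : ℕ)
    (hc : c = orderOf (q : ZMod r))
    (hcond : (a = 1 ∧ 1 < c ∧ c = r - 1 ∧ n ≤ (n % c) * r) ∨
      (c ≤ a ∧ n % c = t * (a % c)))
    (x : Matrix.SpecialLinearGroup (Fin n) F) (z : F)
    (hxz : ((x ^ r : Matrix.SpecialLinearGroup (Fin n) F) : Matrix (Fin n) (Fin n) F)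
        = z • (1 : Matrix (Fin n) (Fin n) F)) :
    ∃ D : Fin t → Submodule F (Fin n → F), Cfsg.Geo.IsMDecomposition a D ∧
      ∃ σ : Equiv.Perm (Fin t), ∀ j,
        (D j).map (Matrix.toLin' (x : Matrix (Fin n) (Fin n) F)) = D (σ j) := by
  obtain ⟨hz0, hfr, -⟩ := Cfsg.Agent.Helper13.Elus.sl_data (by omega : 0 < n) r x z hxz
  by_cases hpow : ∃ w : F, w ^ r = z
  · obtain ⟨w, hw⟩ := hpow
    have hw0 : w ≠ 0 := by
      intro h0
      rw [h0, zero_pow hr.ne_zero] at hw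
      exact hz0 hw.symm
    set f : Module.End F (Fin n → F) :=
      w⁻¹ • Matrix.toLin' (x : Matrix (Fin n) (Fin n) F) with hfdef
    have hf : f ^ r = 1 := by
      rw [hfdef, _root_.smul_pow, hfr, smul_smul, inv_pow, hw, inv_mul_cancel₀ hz0, one_smul]
    have hmap : ∀ S : Submodule F (Fin n → F),
        S.map f = S.map (Matrix.toLin' (x : Matrix (Fin n) (Fin n) F)) := fun S =>
      Submodule.map_smul _ S w⁻¹ (inv_ne_zero hw0)
    rcases hcond with ⟨ha1, hc1, hcr, hnr⟩ | ⟨hca, hmod⟩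
    · subst ha1
      have htn : t = n := by rw [hat, one_mul]
      subst htn
      obtain ⟨D, hD, σ, hσ⟩ := exists_decomp_perm hF hr hrp t hn c hc hc1 hcr hnr f hf
      exact ⟨D, hD, σ, fun j => by rw [← hmap]; exact hσ j⟩
    · obtain ⟨Φ, hΦ⟩ := exists_stable_decomp_gl hF hr hrp n a t hat c hc hmod f hf
      refine ⟨decompOfG Φ, isMDecomp_decompOfG ht ha Φ, 1, fun j => ?_⟩
      rw [← hmap, hΦ j]
      rfl
  · push Not at hpow
    exact exists_decomp_nonpower r hr n a t hat ha ht z hpow _ hfr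

end Cfsg.Agent.Helper13.SlDec
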