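import Mathlib
import Cfsg.Agent.Lib.Helper23.SlhDefs

/-!
# S3050, piece SLH-B4: the torus relation
-/

set_option autoImplicit false
set_option linter.unusedSectionVars false
set_option linter.unusedVariables false

namespace Cfsg.Agent.Helper23.Slh

open Cfsg.Agent.Helper12.NatMod

local notation "SL2" => Matrix.SpecialLinearGroup (Fin 2)

section Blocks

variable {F : Type*} [Field F] [CharP F 2] {R : Type*} [Ring R]

/-- PIECE SLH-B4.  From `hh c * uu 1 = uu (c * c) * hh c`: entries (2,2), (2,1), (1,2). -/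
theorem torus_rel (h2 : (2 : R) = 0) (P : SL2 F →* Matrix (Fin 2) (Fin 2) R)
    (α β : F → R) (hD : BlockData P α β) (h1 : BlockRel1 α β) (hr2 : BlockRel2 α β)
    (hh_eq : ∀ c : Fˣ, P (hh c) = !![β (c : F), α (c : F) + α ((c⁻¹ : Fˣ) : F);
      α (c : F) + α ((c⁻¹ : Fˣ) : F), β ((c⁻¹ : Fˣ) : F)]) (c : Fˣ) :
    α ((c : F) * c) + 1 = (α (c : F) + α ((c⁻¹ : Fˣ) : F)) * β (c : F) ∧
      β ((c : F) * c) = β (c : F) * β (c : F) := by
  have hrel := hh_mul_uu c (1 : F)
  rw [mul_one] at hrel
  have hP := congrArg P hrel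
  rw [map_mul, map_mul, hD.uu_eq, hD.uu_eq, hh_eq c, h1.α_one, h1.β_one] at hP
  -- notation
  set b := β (c : F) with hb
  set bd := β ((c⁻¹ : Fˣ) : F) with hbd
  set ε := α (c : F) + α ((c⁻¹ : Fˣ) : F) with hε
  set a' := α ((c : F) * c) with ha'
  set b' := β ((c : F) * c) with hb'
  have hbdb : bd * b = 1 := by
    have := hr2.β_inv c⁻¹
    rw [inv_inv] at this
    exact this
  -- entries
  have e22 := congrFun (congrFun hP 1) 1
  have e21 := congrFun (congrFun hP 1) 0
  have e12 := congrFun (congrFun hP 0) 1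
  simp [Matrix.mul_apply, Fin.sum_univ_two] at e22 e21 e12
  -- e22 : ε + bd = a' * bd ; e21 : ε = a' * ε ; e12 : b + ε = a' * ε + b' * bd
  have h11 : (1 : R) + 1 = 0 := by rw [one_add_one_eq_two, h2]
  have hA : a' = ε * b + 1 := by
    have := congrArg (· * b) e22
    simp only [add_mul, mul_assoc, hbdb, mul_one] at this
    exact this.symm
  constructor
  · rw [hA, add_assoc, h11, add_zero]
  · have h3 : b = b' * bd := by
      rw [← e21, add_comm ε] at e12
      exact add_right_cancel e12
    have := congrArg (· * b) h3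
    simp only [mul_assoc, hbdb, mul_one] at this
    exact this.symm

end Blocks

end Cfsg.Agent.Helper23.Slh
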