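import Mathlib
import Cfsg.Agent.Lib.Helper23.SlhDefs

/-!
# S3050, piece SLH-BIL: no nonzero equivariant biadditive map between sums of natural modules
-/

set_option autoImplicit false
set_option linter.unusedSectionVars false
set_option linter.unusedVariables false

namespace Cfsg.Agent.Helper23.Slh

open Cfsg.Agent.Helper12.NatMod

local notation "SL2" => Matrix.SpecialLinearGroup (Fin 2)

section PartN

variable {F : Type*} [Field F] [CharP F 2]

/-- first coordinates -/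
def slh_bil_e0 {k : ℕ} (a : Fin k → F) : Fin k → Fin 2 → F := fun i => ![a i, 0]

/-- second coordinates -/
def slh_bil_e1 {k : ℕ} (a : Fin k → F) : Fin k → Fin 2 → F := fun i => ![0, a i]

/-- the diagonal action -/
def slh_bil_act {k : ℕ} (g : SL2 F) (v : Fin k → Fin 2 → F) : Fin k → Fin 2 → F :=
  fun i => (g : Matrix (Fin 2) (Fin 2) F).mulVec (v i)

theorem slh_bil_mulVec (M : Matrix (Fin 2) (Fin 2) F) (v : Fin 2 → F) :
    M.mulVec v = ![M 0 0 * v 0 + M 0 1 * v 1, M 1 0 * v 0 + M 1 1 * v 1] := by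
  funext j
  fin_cases j <;> simp [Matrix.mulVec, dotProduct, Fin.sum_univ_two]

theorem slh_bil_act_apply {k : ℕ} (g : SL2 F) (v : Fin k → Fin 2 → F) (i : Fin k) :
    slh_bil_act g v i = ![(g : Matrix (Fin 2) (Fin 2) F) 0 0 * v i 0 +
      (g : Matrix (Fin 2) (Fin 2) F) 0 1 * v i 1,
      (g : Matrix (Fin 2) (Fin 2) F) 1 0 * v i 0 + (g : Matrix (Fin 2) (Fin 2) F) 1 1 * v i 1] :=
  slh_bil_mulVec _ _

theorem slh_bil_ext {k : ℕ} {v w : Fin k → Fin 2 → F} (h0 : ∀ i, v i 0 = w i 0)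
    (h1 : ∀ i, v i 1 = w i 1) : v = w := by
  funext i j
  fin_cases j
  · exact h0 i
  · exact h1 i

theorem slh_bil_split {k : ℕ} (v : Fin k → Fin 2 → F) :
    v = slh_bil_e0 (fun i => v i 0) + slh_bil_e1 (fun i => v i 1) := by
  apply slh_bil_ext <;> intro i <;> simp [slh_bil_e0, slh_bil_e1]

theorem slh_bil_act_uu_e0 {k : ℕ} (c : F) (a : Fin k → F) :
    slh_bil_act (uu c) (slh_bil_e0 a) = slh_bil_e0 a := by
  apply slh_bil_ext <;> intro i <;> rw [slh_bil_act_apply] <;> simp [slh_bil_e0]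

theorem slh_bil_act_uu_e1 {k : ℕ} (c : F) (b : Fin k → F) :
    slh_bil_act (uu c) (slh_bil_e1 b) = slh_bil_e0 (fun i => c * b i) + slh_bil_e1 b := by
  apply slh_bil_ext <;> intro i <;> rw [slh_bil_act_apply] <;> simp [slh_bil_e0, slh_bil_e1]

theorem slh_bil_act_hh_e0 {k : ℕ} (s : Fˣ) (a : Fin k → F) :
    slh_bil_act (hh s) (slh_bil_e0 a) = slh_bil_e0 (fun i => (s : F) * a i) := by
  apply slh_bil_ext <;> intro i <;> rw [slh_bil_act_apply] <;> simp [slh_bil_e0]

/-- the swap (characteristic 2) -/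
def slh_bil_w : SL2 F := ⟨!![0, 1; 1, 0], by
  rw [Matrix.det_fin_two_of]
  have h : (2 : F) = 0 := CharP.ofNat_eq_zero F 2
  linear_combination (-1 : F) * h⟩

theorem slh_bil_w_coe :
    ((slh_bil_w : SL2 F) : Matrix (Fin 2) (Fin 2) F) = !![0, 1; 1, 0] := rfl

theorem slh_bil_act_w {k : ℕ} (v : Fin k → Fin 2 → F) (i : Fin k) :
    slh_bil_act slh_bil_w v i = ![v i 1, v i 0] := by
  rw [slh_bil_act_apply, slh_bil_w_coe]
  simp

theorem slh_bil_act_w_e0 {k : ℕ} (a : Fin k → F) :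
    slh_bil_act slh_bil_w (slh_bil_e0 a) = slh_bil_e1 a := by
  apply slh_bil_ext <;> intro i <;> rw [slh_bil_act_w] <;> simp [slh_bil_e0, slh_bil_e1]

theorem slh_bil_act_w_e1 {k : ℕ} (a : Fin k → F) :
    slh_bil_act slh_bil_w (slh_bil_e1 a) = slh_bil_e0 a := by
  apply slh_bil_ext <;> intro i <;> rw [slh_bil_act_w] <;> simp [slh_bil_e0, slh_bil_e1]

/-- PIECE SLH-BIL.  No nonzero equivariant biadditive map between sums of natural modules (`|F| ≥ 4`). -/
theorem bil_zero (hF : ∃ s : F, s ≠ 0 ∧ s ≠ 1) {k1 k2 k3 : ℕ}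
    (B : (Fin k1 → Fin 2 → F) → (Fin k2 → Fin 2 → F) → (Fin k3 → Fin 2 → F))
    (hadd1 : ∀ v v' w, B (v + v') w = B v w + B v' w)
    (hadd2 : ∀ v w w', B v (w + w') = B v w + B v w')
    (heq : ∀ (g : SL2 F) v w,
      B (fun i => (g : Matrix (Fin 2) (Fin 2) F).mulVec (v i)) (fun i => (g : Matrix (Fin 2) (Fin 2) F).mulVec (w i)) =
        fun i => (g : Matrix (Fin 2) (Fin 2) F).mulVec (B v w i)) :
    ∀ v w, B v w = 0 := by
  obtain ⟨s, hs0, hs1⟩ := hF
  have heq' : ∀ (g : SL2 F) v w, B (slh_bil_act g v) (slh_bil_act g w) = slh_bil_act g (B v w) :=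
    heq
  -- Step 1: the second coordinates of `B (e0 a) (e0 b)` vanish
  have h1 : ∀ a b i, B (slh_bil_e0 a) (slh_bil_e0 b) i 1 = 0 := by
    intro a b i
    have h := heq' (uu 1) (slh_bil_e0 a) (slh_bil_e0 b)
    rw [slh_bil_act_uu_e0, slh_bil_act_uu_e0] at h
    have h' := congrFun (congrFun h i) 0
    rw [slh_bil_act_apply] at h'
    simp at h'
    exact h'
  -- Step 2: homogeneity in the second argument
  have h2 : ∀ (c : F) a b i, B (slh_bil_e0 a) (slh_bil_e0 (fun i => c * b i)) i 0 =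
      c * B (slh_bil_e0 a) (slh_bil_e1 b) i 1 := by
    intro c a b i
    have h := heq' (uu c) (slh_bil_e0 a) (slh_bil_e1 b)
    rw [slh_bil_act_uu_e0, slh_bil_act_uu_e1, hadd2] at h
    have h' := congrFun (congrFun h i) 0
    rw [slh_bil_act_apply] at h'
    simp at h'
    linear_combination h'
  have h2' : ∀ a b i, B (slh_bil_e0 a) (slh_bil_e0 b) i 0 = B (slh_bil_e0 a) (slh_bil_e1 b) i 1 := by
    intro a b i
    have := h2 1 a b i
    simp only [one_mul] at this
    exact this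
  -- Step 2': homogeneity in the first argument
  have h3 : ∀ (c : F) a b i, B (slh_bil_e0 (fun i => c * a i)) (slh_bil_e0 b) i 0 =
      c * B (slh_bil_e1 a) (slh_bil_e0 b) i 1 := by
    intro c a b i
    have h := heq' (uu c) (slh_bil_e1 a) (slh_bil_e0 b)
    rw [slh_bil_act_uu_e0, slh_bil_act_uu_e1, hadd1] at h
    have h' := congrFun (congrFun h i) 0
    rw [slh_bil_act_apply] at h'
    simp at h'
    linear_combination h'
  have h3' : ∀ a b i, B (slh_bil_e0 a) (slh_bil_e0 b) i 0 = B (slh_bil_e1 a) (slh_bil_e0 b) i 1 := by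
    intro a b i
    have := h3 1 a b i
    simp only [one_mul] at this
    exact this
  -- Step 3: the torus
  have h4 : ∀ a b i, B (slh_bil_e0 a) (slh_bil_e0 b) i 0 = 0 := by
    intro a b i
    have h := heq' (hh (Units.mk0 s hs0)) (slh_bil_e0 a) (slh_bil_e0 b)
    rw [slh_bil_act_hh_e0, slh_bil_act_hh_e0] at h
    have h' := congrFun (congrFun h i) 0
    rw [slh_bil_act_apply] at h'
    simp only [Units.val_mk0] at h'
    rw [h3 s, ← h3', h2 s, ← h2'] at h'
    simp at h'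
    rcases h' with h' | h'
    · have h5 : (s - 1) * B (slh_bil_e0 a) (slh_bil_e0 b) i 0 = 0 := by
        linear_combination h'
      rcases mul_eq_zero.1 h5 with h6 | h6
      · exact absurd (sub_eq_zero.1 h6) hs1
      · exact h6
    · exact absurd h' hs0
  have h00 : ∀ a b, B (slh_bil_e0 a) (slh_bil_e0 b) = 0 := by
    intro a b
    apply slh_bil_ext
    · intro i; rw [h4]; rfl
    · intro i; rw [h1]; rfl
  -- Step 4
  have h11 : ∀ a b, B (slh_bil_e1 a) (slh_bil_e1 b) = 0 := by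
    intro a b
    have h := heq' slh_bil_w (slh_bil_e0 a) (slh_bil_e0 b)
    rw [slh_bil_act_w_e0, slh_bil_act_w_e0, h00] at h
    rw [h]
    apply slh_bil_ext <;> intro i <;> rw [slh_bil_act_w] <;> simp
  -- Step 5
  have h01 : ∀ a b, B (slh_bil_e0 a) (slh_bil_e1 b) = 0 := by
    intro a b
    have h := heq' slh_bil_w (slh_bil_e0 a) (slh_bil_e1 b)
    rw [slh_bil_act_w_e0, slh_bil_act_w_e1] at h
    apply slh_bil_ext
    · intro i
      have h' := congrFun (congrFun h i) 1
      rw [slh_bil_act_w] at h'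
      simp at h'
      rw [← h', ← h3', h4]; rfl
    · intro i
      rw [← h2', h4]; rfl
  have h10 : ∀ a b, B (slh_bil_e1 a) (slh_bil_e0 b) = 0 := by
    intro a b
    have h := heq' slh_bil_w (slh_bil_e0 a) (slh_bil_e1 b)
    rw [slh_bil_act_w_e0, slh_bil_act_w_e1, h01] at h
    rw [h]
    apply slh_bil_ext <;> intro i <;> rw [slh_bil_act_w] <;> simp
  intro v w
  rw [slh_bil_split v, slh_bil_split w, hadd1, hadd2, hadd2, h00, h01, h10, h11]
  simp

end PartN

end Cfsg.Agent.Helper23.Slh
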