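import Mathlib
import Cfsg.Agent.Lib.Helper13.SuBN5
import Cfsg.Agent.Lib.Helper13.SoBC

/-!
# The (B, N)-pair of `WSU n φ` for odd `n`, with arbitrary representatives of the last reflection (helper13)

For `φ = RingHom.id F` this is the (B, N)-pair of the special orthogonal group `SO_n` of the split symmetric
bilinear form (characteristic not two).
-/

set_option autoImplicit false
set_option linter.unusedSectionVars false
set_option linter.unusedVariables false

namespace Cfsg.Agent.Helper13.SoBN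

open Matrix Cfsg.Agent.Helper13.BNAbs Cfsg.Agent.Helper13.SuP Cfsg.Agent.Helper13.SuBN
  Cfsg.Agent.Helper13.SoBC
  Cfsg.Agent.Helper2.WordLen Cfsg.Agent.Helper2.BN Cfsg.Agent.Helper17.BNCox

variable {n : ℕ} {F : Type*} [Field F] {φ : F →+* F}

/-- the simple reflections -/
noncomputable def srO (φ : F →+* F) (sL : Fin (n / 2) → WSU n φ) (i : Fin (n / 2)) : WSU n φ :=
  if h : i.val + 1 < n / 2 then wS φ (ix n i) (ix' n i h) 1 else sL i

section family

variable (hφφ : ∀ x, φ (φ x) = x) (hodd : n % 2 = 1) {sL : Fin (n / 2) → WSU n φ}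
  (hsL : ∀ i, IsMon (mt (sL i)) (piL (ix n i)))
  (hM : ∃ u v : F, v ≠ 0 ∧ v + φ v + u * φ u = 0)

include hφφ hsL in
theorem srO_isMon (i : Fin (n / 2)) : IsMon (mt (srO φ sL i)) (pr n i) := by
  unfold srO
  by_cases h : i.val + 1 < n / 2
  · rw [dif_pos h, pr_short h]
    have hab1 : (ix' n i h).val = (ix n i).val + 1 := rfl
    have hb : 2 * (ix' n i h).val + 1 < n := by
      show 2 * (i.val + 1) + 1 < n
      omega
    obtain ⟨hab, hab', ha, hbb⟩ := short_ne hab1 hb
    exact wS_isMon hφφ hab hab' ha hbb one_ne_zero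
  · rw [dif_neg h, pr_long h]
    exact hsL i

include hφφ hsL in
theorem srO_mem_mon (i : Fin (n / 2)) : srO φ sL i ∈ mon n φ := ⟨pr n i, srO_isMon hφφ hsL i⟩

include hφφ hodd hM in
/-- a simple root element with a non-zero entry at `(ix i, rb i)` -/
theorem exists_Xr_apply_ne_zero' (i : Fin (n / 2)) :
    ∃ x ∈ Xr φ i, x ∈ bor n φ ∧ mt x (ix n i) (rb n i) ≠ 0 := by
  unfold Xr rb
  by_cases h : i.val + 1 < n / 2
  · rw [dif_pos h, dif_pos h]
    have hab1 : (ix' n i h).val = (ix n i).val + 1 := rfl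
    have hb : 2 * (ix' n i h).val + 1 < n := by
      show 2 * (i.val + 1) + 1 < n
      omega
    obtain ⟨hab, hab', ha, hbb⟩ := short_ne hab1 hb
    refine ⟨Tm φ (ix n i) (ix' n i h) 1, ⟨1, rfl⟩, ?_, ?_⟩
    · apply Tm_mem_bor hφφ hab ha hbb
      rw [Fin.lt_def]
      omega
    · rw [← mulVec_ev (mt (Tm φ (ix n i) (ix' n i h) 1)) (ix' n i h) (ix n i),
        Tm_ev_b hφφ hab hab' ha hbb, Pi.add_apply, Pi.smul_apply, ev_self, ev_ne hab.symm, zero_add,
        smul_eq_mul, mul_one]
      exact one_ne_zero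
  · rw [dif_neg h, dif_neg h, dif_pos hodd]
    have ha := ix_ne_rev i
    obtain ⟨u, v, hv0, huv⟩ := hM
    have hc := mid_rev hodd
    have hac : ix n i ≠ mid n hodd := by
      intro e
      have := congrArg Fin.val e
      have h3 : (ix n i).val = i.val := rfl
      have h4 : (mid n hodd).val = n / 2 := rfl
      have := i.2
      omega
    have hlt : ix n i < mid n hodd := by
      rw [Fin.lt_def]
      show i.val < n / 2
      exact i.2
    refine ⟨Mm φ (ix n i) (mid n hodd) u v, ⟨u, v, huv, rfl⟩, Mm_mem_bor hφφ hac ha hc hlt huv, ?_⟩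
    rw [Mm_coe hφφ hac ha hc huv]
    unfold MmM
    have hc' : mid n hodd ≠ Fin.rev (ix n i) := by
      intro e
      apply hac
      rw [hc] at e
      exact (Fin.rev_inj.1 e).symm
    rw [Matrix.add_apply, Matrix.sub_apply, Matrix.add_apply, Matrix.one_apply_ne ha,
      Matrix.single_apply, Matrix.single_apply, Matrix.single_apply, if_neg, if_neg, if_pos]
    · simpa using hv0
    · exact ⟨rfl, rfl⟩
    · rintro ⟨e1, _⟩
      exact hac e1.symm
    · rintro ⟨_, e2⟩
      exact hc' e2

include hφφ hodd hsL in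
/-- the rank one datum of the simple root `i` -/
theorem rankOne_rO (i : Fin (n / 2)) :
    RankOne (bor n φ) (mon n φ) (srO φ sL i) (Xr φ i) (Yr φ i) := by
  by_cases h : i.val + 1 < n / 2
  · -- the short roots
    have hab1 : (ix' n i h).val = (ix n i).val + 1 := rfl
    have hb : 2 * (ix' n i h).val + 1 < n := by
      show 2 * (i.val + 1) + 1 < n
      omega
    obtain ⟨hab, hab', ha, hbb⟩ := short_ne hab1 hb
    have hba' : ix' n i h ≠ Fin.rev (ix n i) := ne_rev_symm hab'
    have hlt : ix n i < ix' n i h := by rw [Fin.lt_def]; omega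
    have hs : srO φ sL i = wS φ (ix n i) (ix' n i h) 1 := by unfold srO; rw [dif_pos h]
    have hX : Xr φ i = Set.range (Tm φ (ix n i) (ix' n i h)) := by unfold Xr; rw [dif_pos h]
    have hY : Yr φ i = Set.range (Tm φ (ix' n i h) (ix n i)) := by unfold Yr; rw [dif_pos h]
    rw [hs, hX, hY]
    set a := ix n i with hadef
    set b := ix' n i h with hbdef
    refine ⟨?_, ?_, ?_, ?_⟩
    · rintro _ ⟨t, rfl⟩
      exact Tm_mem_bor hφφ hab ha hbb hlt t
    · intro g hg
      obtain ⟨t, ht⟩ := split_short hab1 hb hφφ hg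
      exact ⟨Tm φ a b t, ⟨t, rfl⟩, ht⟩
    · rintro N ⟨π, hπ⟩
      rcases lt_trichotomy (π⁻¹ a) (π⁻¹ b) with h1 | h1 | h1
      · left
        rintro _ ⟨t, rfl⟩
        exact conj_Tm_mem_bor hφφ hab ha hbb hπ h1 t
      · exact absurd (π⁻¹.injective h1) hab
      · right
        rintro _ ⟨t, rfl⟩
        exact conj_Tm_mem_bor hφφ hab.symm hbb ha hπ h1 t
    · rintro _ ⟨t, rfl⟩
      by_cases ht : t = 0
      · left
        rw [ht, Tm_zero hφφ hab ha hbb]
      · right
        have hw : wS φ a b (-t) = Tm φ a b (-t) * Tm φ b a t⁻¹ * Tm φ a b (-t) := by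
          unfold wS
          rw [inv_neg, neg_neg]
        obtain ⟨b', hb', e⟩ := rank1_aux (B := bor n φ) (s := wS φ a b (1 : F)) (x := Tm φ a b t) hw
          (by rw [Tm_add hφφ hab ha hbb, neg_add_cancel, Tm_zero hφφ hab ha hbb])
          (by
            apply mem_bor_of_isMon_one
            have := (wS_isMon hφφ hab hab' ha hbb (one_ne_zero (α := F))).mul
              (wS_isMon hφφ hab hab' ha hbb (neg_ne_zero.2 ht)).inv'
            rw [mul_inv_cancel] at this
            exact this)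
          (Tm_mem_bor hφφ hab ha hbb hlt _)
        exact ⟨b', hb', Tm φ b a t⁻¹, ⟨t⁻¹, rfl⟩, e⟩
  · -- the non-reduced root
    have ha := ix_ne_rev i
    have hlt := ix_lt_rev i
    have hra : Fin.rev (ix n i) ≠ Fin.rev (Fin.rev (ix n i)) := by
      rw [Fin.rev_rev]; exact ha.symm
    have hs : srO φ sL i = sL i := by unfold srO; rw [dif_neg h]
    have hil : i.val + 1 = n / 2 := by have := i.2; omega
    have hc := mid_rev hodd
    have hac : ix n i ≠ mid n hodd := by
      intro e
      have := congrArg Fin.val e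
      have h3 : (ix n i).val = i.val := rfl
      have h4 : (mid n hodd).val = n / 2 := rfl
      have := i.2
      omega
    have hrac : Fin.rev (ix n i) ≠ mid n hodd := by
      intro e
      apply hac
      rw [hc] at e
      exact Fin.rev_inj.1 e
    have hac1 : (mid n hodd).val = (ix n i).val + 1 := by
      show n / 2 = i.val + 1
      omega
    have hltc : ix n i < mid n hodd := by
      rw [Fin.lt_def]
      show i.val < n / 2
      exact i.2
    have hX : Xr φ i =
        {x | ∃ u v : F, v + φ v + u * φ u = 0 ∧ x = Mm φ (ix n i) (mid n hodd) u v} := by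
      unfold Xr; rw [dif_neg h, dif_pos hodd]
    have hY : Yr φ i =
        {x | ∃ u v : F, v + φ v + u * φ u = 0 ∧ x = Mm φ (Fin.rev (ix n i)) (mid n hodd) u v} := by
      unfold Yr; rw [dif_neg h, dif_pos hodd]
    rw [hs, hX, hY]
    have hsi := hsL i
    set a := ix n i with hadef
    set c := mid n hodd with hcdef
    refine ⟨?_, ?_, ?_, ?_⟩
    · rintro _ ⟨u, v, huv, rfl⟩
      exact Mm_mem_bor hφφ hac ha hc hltc huv
    · intro g hg
      obtain ⟨u, v, huv, hg'⟩ := split_bc_gen hφφ hac ha hc hac1 hsi hg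
      exact ⟨Mm φ a c u v, ⟨u, v, huv, rfl⟩, hg'⟩
    · rintro N ⟨π, hπ⟩
      rcases lt_trichotomy (π⁻¹ a) (π⁻¹ (Fin.rev a)) with h1 | h1 | h1
      · left
        rintro _ ⟨u, v, huv, rfl⟩
        exact conj_Mm_mem_bor hφφ hac ha hc hπ h1 huv
      · exact absurd (π⁻¹.injective h1) ha
      · right
        rintro _ ⟨u, v, huv, rfl⟩
        apply conj_Mm_mem_bor hφφ hrac hra hc hπ _ huv
        rw [Fin.rev_rev]
        exact h1
    · rintro _ ⟨u, v, huv, rfl⟩
      by_cases hne : Mm φ a c u v = 1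
      · left
        exact hne
      · right
        obtain ⟨b', hb', u', v', huv', e⟩ := rank1_bc_gen hφφ hac ha hc hac1 hsi huv hne
        exact ⟨b', hb', _, ⟨u', v', huv', rfl⟩, e⟩

include hφφ hsL in
/-- words in the simple reflections -/
theorem isMon_wordO (l' : List (Fin (n / 2))) :
    IsMon (mt ((l'.map (srO φ sL)).prod)) (l'.map (pr n)).prod := by
  induction l' with
  | nil => exact isMon_one
  | cons i l' ih =>
    rw [List.map_cons, List.prod_cons, List.map_cons, List.prod_cons, mt_mul]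
    exact (srO_isMon hφφ hsL i).mul ih

theorem word_mem_closureO (l' : List (Fin (n / 2))) :
    (l'.map (srO φ sL)).prod ∈ Subgroup.closure (Set.range (srO (n := n) φ sL)) := by
  apply Subgroup.list_prod_mem
  intro x hx
  rw [List.mem_map] at hx
  obtain ⟨i, _, rfl⟩ := hx
  exact Subgroup.subset_closure ⟨i, rfl⟩

include hφφ hsL in
theorem closure_sup_eqO :
    Subgroup.closure (Set.range (srO (n := n) φ sL)) ⊔ (bor n φ ⊓ mon n φ) = mon n φ := by
  apply le_antisymm
  · apply sup_le
    · rw [Subgroup.closure_le]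
      rintro _ ⟨i, rfl⟩
      exact srO_mem_mon hφφ hsL i
    · exact inf_le_right
  · rintro N ⟨π, hπ⟩
    obtain ⟨l', hl'⟩ := exists_word π hπ.comm_rev
    set N' := (l'.map (srO φ sL)).prod with hN'
    have h1 : IsMon (mt N') π := by rw [hl']; exact isMon_wordO hφφ hsL l'
    have h2 : N'⁻¹ * N ∈ tor n φ := by
      have := h1.inv'.mul hπ
      rw [inv_mul_cancel, ← mt_mul] at this
      exact this
    have h3 : N = N' * (N'⁻¹ * N) := by group
    rw [h3]
    apply Subgroup.mul_mem
    · exact Subgroup.mem_sup_left (word_mem_closureO l')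
    · apply Subgroup.mem_sup_right
      rw [← tor_eq_inf]
      exact h2

include hφφ hsL in
theorem srO_sq_mem (i : Fin (n / 2)) : srO φ sL i * srO φ sL i ∈ bor n φ := by
  apply mem_bor_of_isMon_one
  have := (srO_isMon hφφ hsL i).mul (srO_isMon hφφ hsL i)
  rw [pr_mul_self, ← mt_mul] at this
  exact this

/-- the (B, N)-pair -/
noncomputable def soBN (hgen : bor n φ ⊔ mon n φ = ⊤) : Cfsg.BNPair (WSU n φ) where
  B := bor n φ
  N := mon n φ
  S := Set.range (srO (n := n) φ sL)
  sup_eq_top := hgen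
  conj_mem := fun N hN t ht => conj_mem_bor_of_mon hN ht
  subset := by
    rintro _ ⟨i, rfl⟩
    exact srO_mem_mon hφφ hsL i
  sq_mem := by
    rintro _ ⟨i, rfl⟩
    exact srO_sq_mem hφφ hsL i
  inj := by
    rintro _ ⟨i, rfl⟩ _ ⟨j, rfl⟩ h
    have h1 := (srO_isMon hφφ hsL i).inv'.mul (srO_isMon hφφ hsL j)
    rw [← mt_mul] at h1
    have h2 := perm_eq_one_of_mem_bor h1 h
    rw [inv_mul_eq_one] at h2
    rw [pr_injective h2]
  closure_sup := closure_sup_eqO hφφ hsL
  mul_mem_union := by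
    rintro _ ⟨i, rfl⟩ N hN b hb
    exact (rankOne_rO hφφ hodd hsL i).mul_mem_union N hN b hb
  conj_ne := by
    rintro _ ⟨i, rfl⟩ h
    obtain ⟨x, _, hxB, hx⟩ := exists_Xr_apply_ne_zero' hφφ hodd hM i
    have h1 : srO φ sL i * x * srO φ sL i ∈
        (fun b : WSU n φ => srO φ sL i * b * srO φ sL i) '' (bor n φ : Set (WSU n φ)) :=
      ⟨_, hxB, rfl⟩
    rw [h] at h1
    have hsq := srO_sq_mem hφφ hsL i
    have h2 : srO φ sL i * x * (srO φ sL i)⁻¹ ∈ bor n φ := by
      have e : srO φ sL i * x * (srO φ sL i)⁻¹ =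
          (srO φ sL i * x * srO φ sL i) * (srO φ sL i * srO φ sL i)⁻¹ := by
        group
      rw [e]
      exact (bor n φ).mul_mem h1 ((bor n φ).inv_mem hsq)
    have h3 := h2 (rb n i) (ix n i) (ix_lt_rb i)
    rw [conj_apply (srO_isMon hφφ hsL i), pr_inv, pr_rb, pr_ix] at h3
    rcases mul_eq_zero.1 h3 with h4 | h4
    · rcases mul_eq_zero.1 h4 with h5 | h5
      · have := (srO_isMon hφφ hsL i).apply_ne_zero (ix n i)
        rw [pr_ix] at this
        exact this h5
      · exact hx h5
    · have := (srO_isMon hφφ hsL i).inv'.apply_ne_zero (ix n i)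
      rw [pr_inv, pr_ix] at this
      exact this h4

variable (hgen : bor n φ ⊔ mon n φ = ⊤)

noncomputable instance : Fintype ↥(soBN hφφ hodd hsL hM hgen).S :=
  (Set.finite_range (srO (n := n) φ sL)).fintype

/-- the index of a simple reflection -/
noncomputable def idxO (s : ↥(soBN hφφ hodd hsL hM hgen).S) : Fin (n / 2) := Classical.choose s.2

theorem srO_idx (s : ↥(soBN hφφ hodd hsL hM hgen).S) :
    srO φ sL (idxO hφφ hodd hsL hM hgen s) = (s : WSU n φ) :=
  Classical.choose_spec s.2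

theorem n0_allDescO [Finite F] {N0 : WSU n φ} (hN0 : IsMon (mt N0) Fin.revPerm)
    (t : ↥(soBN hφφ hodd hsL hM hgen).S) :
    ℓ (soBN hφφ hodd hsL hM hgen) (π (soBN hφφ hodd hsL hM hgen) ⟨N0, ⟨Fin.revPerm, hN0⟩⟩ *
      σ (soBN hφφ hodd hsL hM hgen) t) <
    ℓ (soBN hφφ hodd hsL hM hgen) (π (soBN hφφ hodd hsL hM hgen) ⟨N0, ⟨Fin.revPerm, hN0⟩⟩) := by
  have : Finite (WSU n φ) := finite_WSU
  apply allDesc_of_rankOne (soBN hφφ hodd hsL hM hgen) ⟨N0, ⟨Fin.revPerm, hN0⟩⟩
    (fun s => Xr φ (idxO hφφ hodd hsL hM hgen s)) (fun s => Yr φ (idxO hφφ hodd hsL hM hgen s))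
  · intro s
    have := rankOne_rO hφφ hodd hsL (idxO hφφ hodd hsL hM hgen s)
    rw [srO_idx] at this
    exact this
  · intro s
    obtain ⟨x, hx, _, hx0⟩ := exists_Xr_apply_ne_zero' hφφ hodd hM (idxO hφφ hodd hsL hM hgen s)
    refine ⟨x, hx, ?_⟩
    intro e
    rw [e, mt_one, Matrix.one_apply_ne (ne_of_lt (ix_lt_rb _))] at hx0
    exact hx0 rfl
  · intro s y hy
    exact conj_Yr_mem_bor hφφ hN0 _ y hy

/-- the degree of the Steinberg character -/
theorem St_oneO [Finite F] {N0 : WSU n φ} (hN0 : IsMon (mt N0) Fin.revPerm) :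
    St (soBN hφφ hodd hsL hM hgen) 1 = (Nat.card (unip n φ) : ℂ) := by
  have : Finite (WSU n φ) := finite_WSU
  have h := St_apply_B (soBN hφφ hodd hsL hM hgen) ⟨N0, ⟨Fin.revPerm, hN0⟩⟩
    (n0_allDescO hφφ hodd hsL hM hgen hN0) (tor n φ) (mem_tor_iff_conj hN0)
    (1 : ↥(soBN hφφ hodd hsL hM hgen).B)
  rw [OneMemClass.coe_one, Cfsg.Agent.Helper13.SpBN.fixedPointCharacter_one_eq] at h
  rw [h]
  congr 1
  exact index_tor

theorem fixedPointCharacter_conj_eq {G : Type*} [Group G] (H : Subgroup G) (z : G)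
    (hz : ∀ g : G, g⁻¹ * z * g ∈ H) :
    Cfsg.fixedPointCharacter H z = Cfsg.fixedPointCharacter H 1 := by
  unfold Cfsg.fixedPointCharacter
  have hset : MulAction.fixedBy (G ⧸ H) z = MulAction.fixedBy (G ⧸ H) (1 : G) := by
    ext x
    simp only [MulAction.mem_fixedBy, one_smul, iff_true]
    induction x using QuotientGroup.induction_on with
    | H g =>
      show ((z * g : G) : G ⧸ H) = (g : G ⧸ H)
      rw [QuotientGroup.eq]
      have : (z * g)⁻¹ * g = (g⁻¹ * z * g)⁻¹ := by group
      rw [this]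
      exact H.inv_mem (hz g)
  rw [hset]

/-- elements all of whose conjugates lie in `B` act trivially -/
theorem St_eq_of_conj_mem (z : WSU n φ) (hz : ∀ g : WSU n φ, g⁻¹ * z * g ∈ bor n φ) :
    St (soBN hφφ hodd hsL hM hgen) z = St (soBN hφφ hodd hsL hM hgen) 1 := by
  unfold St
  apply Finset.sum_congr rfl
  intro A _
  congr 1
  apply fixedPointCharacter_conj_eq
  intro g
  exact B_le_par (soBN hφφ hodd hsL hM hgen) _ (hz g)

end family

end Cfsg.Agent.Helper13.SoBN
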