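import Mathlib
import Cfsg.Agent.Lib.Helper13.SoBN4
import Cfsg.Agent.Lib.Helper16.SoGenR
import Cfsg.Agent.Lib.Helper18.SoN0
import Cfsg.Agent.Lib.Helper18.SoHRoot
import Cfsg.Agent.Lib.Helper10.SoTransport
import Cfsg.Agent.Lib.Helper10.SoIndex
import Cfsg.Agent.Lib.Helper21.SoFinal

/-!
# The Steinberg character of `PΩ_{2m+1}(q)`, `q` odd (helper13)
-/

set_option autoImplicit false
set_option linter.unusedSectionVars false
set_option linter.unusedVariables false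

namespace Cfsg.Agent.Helper13.SoBN

open Matrix Cfsg.Agent.Helper13.BNAbs Cfsg.Agent.Helper13.SuP Cfsg.Agent.Helper13.SuBN
  Cfsg.Agent.Helper13.SoBC Cfsg.Agent.Helper13.SoP
  Cfsg.Agent.Helper2.WordLen Cfsg.Agent.Helper2.BN Cfsg.Agent.Helper17.BNCox

/-- the Steinberg character of `PΩ_{2m+1}(q)` -/
theorem steinberg_POmegaOdd {F : Type*} [Field F] [Fintype F] (p : ℕ) [Fact p.Prime] [CharP F p]
    (hodd : Odd (Fintype.card F)) (m : ℕ) (hm : 1 ≤ m) :
    ∃ χ : Cfsg.POmega F (Cfsg.quadFormOdd m F) → ℂ,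
      Cfsg.IsIrrCharacter (Cfsg.POmega F (Cfsg.quadFormOdd m F)) χ ∧
      ∀ P : Sylow p (Cfsg.POmega F (Cfsg.quadFormOdd m F)), χ 1 = Nat.card P ∧
        ∀ x : Cfsg.POmega F (Cfsg.quadFormOdd m F), x ∈ P → x ≠ 1 → χ x = 0 := by
  have hp : p.Prime := Fact.out
  -- the characteristic is odd
  have hpdvd : p ∣ Fintype.card F := by
    obtain ⟨k, _, hk⟩ := FiniteField.card F p
    rw [hk]
    exact dvd_pow_self p k.ne_zero
  have hp2 : p ≠ 2 := by
    intro e
    rw [e] at hpdvd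
    exact (Nat.not_even_iff_odd.2 hodd) (even_iff_two_dvd.2 hpdvd)
  have h2 : (2 : F) ≠ 0 := by
    intro h0
    have h3 : ((2 : ℕ) : F) = 0 := by exact_mod_cast h0
    rw [CharP.cast_eq_zero_iff F p] at h3
    exact hp2 ((Nat.prime_dvd_prime_iff_eq hp Nat.prime_two).1 h3)
  -- the data
  obtain ⟨n, hn⟩ : ∃ n : ℕ, n = 2 * m + 1 := ⟨_, rfl⟩
  have hoddn : n % 2 = 1 := by omega
  let φ : F →+* F := RingHom.id F
  have hφφ : ∀ x, φ (φ x) = x := fun x => rfl
  have htr : ∀ r : F, φ r = r → ∃ s : F, s + φ s = r := by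
    intro r _
    refine ⟨r / 2, ?_⟩
    show r / 2 + r / 2 = r
    field_simp
    ring
  have hM : ∃ u v : F, v ≠ 0 ∧ v + φ v + u * φ u = 0 := by
    refine ⟨2, -2, neg_ne_zero.2 h2, ?_⟩
    show (-2 : F) + -2 + 2 * 2 = 0
    ring
  have hsw : ∀ z : Fin n, z ≠ Fin.rev z → ∃ N : WSU n φ, IsMon (mt N) (piL z) := by
    intro z hz
    obtain ⟨u, v, hv0, huv⟩ := hM
    have hzc : z ≠ mid n hoddn := by
      intro e
      apply hz
      rw [e]
      exact mid_rev hoddn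
    exact exists_mon_piL hφφ hzc hz (mid_rev hoddn) huv hv0
  obtain ⟨sL, hsL⟩ : ∃ sL : Fin (n / 2) → WSU n φ, ∀ i, IsMon (mt (sL i)) (piL (ix n i)) :=
    ⟨fun i => Classical.choose (hsw (ix n i) (ix_ne_rev i)),
      fun i => Classical.choose_spec (hsw (ix n i) (ix_ne_rev i))⟩
  have hgen : bor n φ ⊔ mon n φ = ⊤ := sup_eq_top_of_swaps hφφ htr hsw
  obtain ⟨N0, hN0⟩ := exists_n0_of_swaps hsw
  have hroot : ∀ a b : Fin n, a.val + 1 = b.val → ∃ u ∈ unip n φ, mt u a b ≠ 0 :=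
    exists_unip_apply_ne_zero_odd hφφ hoddn htr
  have : Finite (WSU n φ) := finite_WSU
  letI : Fintype (WSU n φ) := Fintype.ofFinite _
  let U : Sylow p (WSU n φ) :=
    { toSubgroup := unip n φ
      isPGroup' := unip_isPGroup p
      is_maximal' := fun {Q} hQ hle => unip_isMax p hroot hQ hle }
  -- the transport
  obtain ⟨j, hj, z, hz, hzj⟩ := exists_hom_isometryGroup (F := F) h2 m
  obtain ⟨k, hk⟩ := exists_index_commutator (F := F) h2 m
  have hidx : ¬ p ∣ (commutator (Cfsg.isometryGroup F (Cfsg.quadFormOdd m F))).index := by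
    rw [hk]
    intro hdvd
    exact hp2 ((Nat.prime_dvd_prime_iff_eq hp Nat.prime_two).1 (hp.dvd_of_dvd_pow hdvd))
  subst hn
  have : Finite (Cfsg.isometryGroup F (Cfsg.quadFormOdd m F)) := inferInstance
  apply steinberg_commutator j hj z hz hzj p hidx U (St (soBN hφφ hoddn hsL hM hgen))
    (St_irr (soBN hφφ hoddn hsL hM hgen)) (St_oneO hφφ hoddn hsL hM hgen hN0)
  intro hU z' hz' hcomm
  apply St_eq_of_conj_mem
  intro g
  apply mem_bor_of_normalizes hroot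
  intro u hu
  have huC : u ∈ commutator (WSU (2 * m + 1) φ) := hU hu
  have hconj : g * u * g⁻¹ ∈ commutator (WSU (2 * m + 1) φ) :=
    (inferInstance : (commutator (WSU (2 * m + 1) φ)).Normal).conj_mem u huC g
  have h3 := hcomm _ hconj
  have e : (g⁻¹ * z' * g)⁻¹ * u * (g⁻¹ * z' * g) = g⁻¹ * (z'⁻¹ * (g * u * g⁻¹) * z') * g := by
    group
  rw [e]
  have e2 : z'⁻¹ * (g * u * g⁻¹) * z' = g * u * g⁻¹ := by
    rw [mul_assoc, ← h3, ← mul_assoc, inv_mul_cancel, one_mul]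
  rw [e2]
  have e3 : g⁻¹ * (g * u * g⁻¹) * g = u := by group
  rw [e3]
  exact hu

end Cfsg.Agent.Helper13.SoBN
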