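import Mathlib
import Cfsg.Agent.Lib.Helper13.SpTi3
import Cfsg.Agent.Lib.Helper13.SpTi4

set_option autoImplicit false
set_option linter.unusedSectionVars false

/-!
# Elements of odd prime order of symplectic groups fixing totally isotropic subspaces
-/

namespace Cfsg.Agent.Helper13.SpTi

open Polynomial Module Cfsg.Agent.Helper13.SS Cfsg.Agent.Helper13.Dual
  Cfsg.Agent.Helper13.SympSS Cfsg.Agent.Helper13.SpDec Cfsg.Agent.Helper13.SlDec
  Cfsg.Agent.Helper28.SympIso
open scoped Classical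

universe u

variable {F : Type u} [Field F] [Fintype F] {p : ℕ} [Fact p.Prime] [CharP F p] {r q : ℕ}

theorem odd_main (hF : Fintype.card F = q) (hr : r.Prime) (hr2 : r ≠ 2) (hrp : r ≠ p)
    (d m : ℕ) (hm : 1 ≤ m) (hmd : m ≤ d) (i c : ℕ) (hi : i = orderOf (q : ZMod r))
    (hc : c = if Even i then i else 2 * i) (hcn : c ≤ 2 * d) (hΩ : (2 * d) % c < 2 * m) :
    (∀ x : Matrix.symplecticGroup (Fin d) F, x ^ r = 1 →
      (∀ z : F, (x : Matrix (Fin d ⊕ Fin d) (Fin d ⊕ Fin d) F) ≠ z • 1) →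
      ∃ W : Submodule F (Fin d ⊕ Fin d → F), finrank F W = m ∧
        (∀ u ∈ W, ∀ v ∈ W, sympBil d F u v = 0) ∧ ∀ v ∈ W, LS x v ∈ W) ↔
    (i ≤ m ∧ 2 * (m % i) ≤ (2 * d) % c ∧ (Odd i ∨ (r - 1) / i + 2 * (m / i) ≤ (2 * d) / i)) := by
  have hi0 : 0 < orderOf (q : ZMod r) := pos_orderOf hF hr hrp
  have hinv := starΦ_involutive (F := F) hr hr2 hrp
  obtain ⟨w, hw, hcw⟩ := exists_weight hF hr hr2 hrp i c hi hc
  have hd : 0 < d := by omega
  have hrodd : Odd r := hr.eq_two_or_odd'.resolve_left hr2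
  have hcard : Fintype.card ↥(cycFactors F r) = (r - 1) / i := by
    rw [Fintype.card_coe, hi, ← cycFactors_card (F := F) hF hr hrp, Nat.mul_div_cancel _ hi0]
  obtain ⟨a₀, ha₀⟩ := cycFactors_nonempty_aux (F := F) hF hr hrp
  subst hi
  have hwi : (Odd (orderOf (q : ZMod r)) ↔ w = 2) := by
    constructor
    · intro hodd
      have hne : ¬ Even (orderOf (q : ZMod r)) := Nat.not_even_iff_odd.2 hodd
      rw [if_neg hne] at hc
      rw [hc] at hcw
      have := Nat.eq_of_mul_eq_mul_right hi0 hcw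
      omega
    · intro hw2
      by_contra hne
      have hev : Even (orderOf (q : ZMod r)) := Nat.not_odd_iff_even.1 hne
      rw [if_pos hev] at hc
      rw [hc, hw2] at hcw
      omega
  constructor
  · intro hall
    have hpat : ∀ k : ↥(cycFactors F r) → ℕ, (∀ a, k (starΦ hr hr2 hrp a) = k a) →
        (∃ a, k a ≠ 0) → orderOf (q : ZMod r) * ∑ a, k a ≤ 2 * d →
        Fits (starΦ (F := F) hr hr2 hrp) (orderOf (q : ZMod r)) (2 * d) m k := by
      intro k hks hk0 hkd
      obtain ⟨x, hx, hxc⟩ := (sreal_primePoly (m := d) hF hr hr2 hrp hi0 k hks).exists_matrix d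
        (natDegree_primePoly hF hr hrp k hkd)
      have hfix := kdim_of_charpoly hF hr hr2 hrp x hx k hxc
      have hpos : 1 ≤ ∑ a, k a := by
        obtain ⟨a, ha⟩ := hk0
        calc 1 ≤ k a := Nat.pos_of_ne_zero ha
          _ ≤ ∑ a, k a := Finset.single_le_sum (fun b _ => Nat.zero_le (k b)) (Finset.mem_univ a)
      have hlt : kdim (LS x) (X - 1) < 2 * d := by
        rw [hfix]
        have : orderOf (q : ZMod r) ≤ orderOf (q : ZMod r) * ∑ a, k a :=
          Nat.le_mul_of_pos_right _ hpos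
        omega
      obtain ⟨W, hWm, hWti, hWinv⟩ := hall x hx (not_scalar hd r hrodd x hx hlt)
      obtain ⟨e, j, h1, h2, h3⟩ := pattern_of_ti hF hr hr2 hrp d x hx k hxc hkd W hWinv hWti
      rw [hWm] at h1
      exact ⟨e, j, h1, h2, h3⟩
    rw [hcw] at hcn hΩ
    obtain ⟨h1, h2⟩ := cond_of_fits_max (starΦ (F := F) hr hr2 hrp) hinv w hw
      (orderOf (q : ZMod r)) (2 * d) m hi0 ⟨a₀, ha₀⟩ hcn hΩ hpat
    rw [hcw]
    refine ⟨h1, h2, ?_⟩
    by_cases hodd : Odd (orderOf (q : ZMod r))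
    · exact Or.inl hodd
    · right
      have hw1 : w = 1 := by
        rcases hw with ⟨-, h⟩ | ⟨-, h⟩
        · exact h
        · exact absurd (hwi.2 h) hodd
      have hσ : ∀ a, starΦ (F := F) hr hr2 hrp a = a := by
        rcases hw with ⟨h, -⟩ | ⟨-, h⟩
        · exact h
        · omega
      rw [hw1, one_mul] at hcn hΩ
      have h3 := cond_of_fits_odd (starΦ (F := F) hr hr2 hrp) hσ (orderOf (q : ZMod r))
        (2 * d) m hi0 ⟨a₀, ha₀⟩ h1 hcn hΩ hpat
      rw [hcard] at h3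
      exact h3
  · rintro ⟨h1, h2, h3⟩ x hx -
    obtain ⟨k, hks, hkd, hxc⟩ := charpoly_eq_primePoly hF hr hr2 hrp x hx
    have hfits : Fits (starΦ (F := F) hr hr2 hrp) (orderOf (q : ZMod r)) (2 * d) m k := by
      rcases hw with ⟨hσ, hw1⟩ | ⟨hσ, hw2⟩
      · have hev : ¬ Odd (orderOf (q : ZMod r)) := by
          intro hodd
          have := hwi.1 hodd
          omega
        rw [hcw, hw1, one_mul] at h2
        have h3' := h3.resolve_left hev
        rw [← hcard] at h3'
        exact fits_of_cond_one (starΦ (F := F) hr hr2 hrp) hσ (orderOf (q : ZMod r)) (2 * d) m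
          hi0 h2 h3' k hkd
      · rw [hcw, hw2] at h2
        exact fits_of_cond_two (starΦ (F := F) hr hr2 hrp) hinv hσ (orderOf (q : ZMod r))
          (2 * d) m (by omega) h2 k hks hkd
    obtain ⟨e, j, hmj, hfix, hjk⟩ := hfits
    exact exists_ti_of_pattern hF hr hr2 hrp d m hmd x hx k hks hxc e j hmj hfix hjk

end Cfsg.Agent.Helper13.SpTi
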