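import Mathlib
import Cfsg.Agent.Lib.Helper13.SpTi3
import Cfsg.Agent.Lib.Helper13.LagrangianCount

set_option autoImplicit false
set_option linter.unusedSectionVars false

/-!
# Involutions of projective symplectic groups fixing totally isotropic subspaces
-/

namespace Cfsg.Agent.Helper13.SpTi

open Polynomial Module Cfsg.Agent.Helper13.SS Cfsg.Agent.Helper13.Dual
  Cfsg.Agent.Helper13.SympSS Cfsg.Agent.Helper13.SpDec Cfsg.Agent.Helper13.SlDec
  Cfsg.Agent.Helper28.SympIso
open scoped Classical

universe u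

section diag
variable {F : Type u} [Field F]

/-- the diagonal matrix with `a` entries `1` and `b` entries `-1` -/
def diagPM (F : Type u) [Field F] (a b : ℕ) : Matrix (Fin a ⊕ Fin b) (Fin a ⊕ Fin b) F :=
  Matrix.diagonal (Sum.elim (fun _ => 1) (fun _ => -1))

theorem diagPM_mul_self (a b : ℕ) : diagPM F a b * diagPM F a b = 1 := by
  unfold diagPM
  rw [Matrix.diagonal_mul_diagonal, ← Matrix.diagonal_one]
  congr 1
  funext i
  rcases i with i | i <;> simp

theorem diagPM_charpoly (a b : ℕ) :
    (diagPM F a b).charpoly = (X - 1) ^ a * (X + 1) ^ b := by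
  unfold diagPM
  rw [Matrix.charpoly_diagonal, Fintype.prod_sum_type]
  simp only [Sum.elim_inl, Sum.elim_inr, Finset.prod_const, Finset.card_univ, Fintype.card_fin,
    map_one, map_neg, sub_neg_eq_add]

theorem prodMap_neg_one {V W : Type*} [AddCommGroup V] [Module F V] [AddCommGroup W]
    [Module F W] : (-1 : Module.End F V).prodMap (-1 : Module.End F W) = -1 := by
  apply LinearMap.ext
  rintro ⟨a, b⟩
  rfl

theorem hypMap_neg_one {ι : Type} [Fintype ι] [DecidableEq ι] :
    hypMap (-1 : Matrix ι ι F) (-1) = -1 := by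
  unfold hypMap
  rw [Matrix.transpose_neg, Matrix.transpose_one, map_neg, Matrix.toLin'_one]
  exact prodMap_neg_one

end diag

section quad
variable {F : Type u} [Field F]

/-- endomorphisms with square `-1` when `-1` is not a square -/
theorem charpoly_of_sq_neg_one (hirr : Irreducible (X ^ 2 + 1 : F[X]))
    {U : Type*} [AddCommGroup U] [Module F U] [FiniteDimensional F U]
    (g : Module.End F U) (hg : g ^ 2 = -1) :
    g.charpoly = (X ^ 2 + 1) ^ (finrank F U / 2) := by
  have hmonic : (X ^ 2 + 1 : F[X]).Monic := by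
    have : (X ^ 2 + 1 : F[X]) = X ^ 2 + C 1 := by rw [map_one]
    rw [this]
    exact monic_X_pow_add_C 1 (by norm_num)
  have hdeg : (X ^ 2 + 1 : F[X]).natDegree = 2 := by
    have : (X ^ 2 + 1 : F[X]) = X ^ 2 + C 1 := by rw [map_one]
    rw [this]
    exact natDegree_X_pow_add_C
  have hkill : aeval g (∏ f ∈ ({X ^ 2 + 1} : Finset F[X]), f) = 0 := by
    rw [Finset.prod_singleton, map_add, map_pow, aeval_X, map_one, hg, neg_add_cancel]
  have h1 := charpoly_eq_prod ({X ^ 2 + 1} : Finset F[X])
    (fun f hf => by rw [Finset.mem_singleton.1 hf]; exact hirr)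
    (fun f hf => by rw [Finset.mem_singleton.1 hf]; exact hmonic) g hkill
  rw [Finset.prod_singleton, hdeg] at h1
  rw [h1]
  congr 2
  unfold kdim
  rw [Finset.prod_singleton] at hkill
  rw [hkill, LinearMap.ker_zero, finrank_top]

end quad

section two
variable {F : Type u} [Field F] [Fintype F] {d m : ℕ}

theorem X_sub_one_ne_X_add_one (h2 : (2 : F) ≠ 0) : (X - 1 : F[X]) ≠ X + 1 := by
  intro h
  have h1 := congrArg (fun P => P.coeff 0) h
  simp only [coeff_sub, coeff_add, coeff_X_zero, coeff_one_zero, zero_sub, zero_add] at h1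
  apply h2
  have : (2 : F) = 1 - (-1) := by ring
  rw [this, h1]
  ring

/-- involutions fix totally isotropic subspaces of every dimension -/
theorem exists_ti_of_involution (h2 : (2 : F) ≠ 0) (hmd : m ≤ d)
    (x : Matrix.symplecticGroup (Fin d) F) (hx : LS x ^ 2 = 1) :
    ∃ W : Submodule F (Fin d ⊕ Fin d → F), finrank F W = m ∧
      (∀ u ∈ W, ∀ v ∈ W, sympBil d F u v = 0) ∧ ∀ v ∈ W, LS x v ∈ W := by
  set A := LS x with hA
  have hAB : AltInv A (sympBil d F) := LS_altInv x
  set S : Finset F[X] := {X - 1, X + 1} with hS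
  have hne := X_sub_one_ne_X_add_one h2
  have e1 : (X - 1 : F[X]) = X - C 1 := by rw [map_one]
  have e2 : (X + 1 : F[X]) = X + C 1 := by rw [map_one]
  have hirr : ∀ f ∈ S, Irreducible f := by
    intro f hf
    rw [hS, Finset.mem_insert, Finset.mem_singleton] at hf
    rcases hf with rfl | rfl
    · rw [e1]; exact irreducible_X_sub_C 1
    · rw [e2]
      exact irreducible_of_degree_eq_one (degree_X_add_C 1)
  have hmon : ∀ f ∈ S, f.Monic := by
    intro f hf
    rw [hS, Finset.mem_insert, Finset.mem_singleton] at hf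
    rcases hf with rfl | rfl
    · rw [e1]; exact monic_X_sub_C 1
    · rw [e2]; exact monic_X_add_C 1
  have hprod : ∏ f ∈ S, f = (X - 1) * (X + 1) := by
    rw [hS, Finset.prod_pair hne]
  have hkillgen : ∀ {U : Type u} [AddCommGroup U] [Module F U] (C : Module.End F U),
      C ^ 2 = 1 → aeval C (∏ f ∈ S, f) = 0 := by
    intro U _ _ C hC
    have : (X - 1 : F[X]) * (X + 1) = X ^ 2 - 1 := by ring
    rw [hprod, this, map_sub, map_pow, aeval_X, map_one, hC, sub_self]
  have hkill := hkillgen A hx
  have hcop := pairwise_coprime_of_monic_irreducible S hirr hmon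
  have hcop2 : IsCoprime (X - 1 : F[X]) (X + 1) :=
    hcop (by rw [hS]; simp) (by rw [hS]; simp) hne
  -- the eigenspaces
  set Kp := LinearMap.ker (aeval A (X - 1 : F[X])) with hKp
  set Km := LinearMap.ker (aeval A (X + 1 : F[X])) with hKm
  have hcompl : IsCompl Kp Km := isCompl_ker_aeval A hcop2 (by rw [← hprod]; exact hkill)
  have hKpa : ∀ u ∈ Kp, A u = u := by
    intro u hu
    rw [hKp, LinearMap.mem_ker, map_sub, aeval_X, map_one, LinearMap.sub_apply,
      Module.End.one_apply, sub_eq_zero] at hu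
    exact hu
  have hKma : ∀ u ∈ Km, A u = -u := by
    intro u hu
    rw [hKm, LinearMap.mem_ker, map_add, aeval_X, map_one, LinearMap.add_apply,
      Module.End.one_apply, add_eq_zero_iff_eq_neg] at hu
    exact hu
  have horth : ∀ u ∈ Kp, ∀ v ∈ Km, sympBil d F u v = 0 := by
    intro u hu v hv
    have h1 := hAB.inv u v
    rw [hKpa u hu, hKma v hv, map_neg] at h1
    have h3 : (2 : F) * sympBil d F u v = 0 := by
      have : sympBil d F u v = - sympBil d F u v := h1.symm
      calc (2 : F) * sympBil d F u v = sympBil d F u v + sympBil d F u v := by ring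
        _ = sympBil d F u v + - sympBil d F u v := by rw [← this]
        _ = 0 := by ring
    rcases mul_eq_zero.1 h3 with h | h
    · exact absurd h h2
    · exact h
  have hrestr := hAB.restrict hcompl (ker_aeval_invariant A (X - 1)) horth
  have heven : Even (kdim A (X - 1)) :=
    Cfsg.Agent.Helper11.even_finrank_of_nondegenerate_isAlt (resForm (sympBil d F) Kp)
      ⟨hrestr.nondeg, hrestr.nondeg_right⟩ hrestr.alt
  have hsum : 2 * d = kdim A (X - 1) + kdim A (X + 1) := by
    have := finrank_eq_sum_kdim A S hcop hkill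
    rw [hS, Finset.sum_pair hne, Module.finrank_fintype_fun_eq_card, Fintype.card_sum,
      Fintype.card_fin] at this
    omega
  have hcharA : A.charpoly = (X - 1) ^ kdim A (X - 1) * (X + 1) ^ kdim A (X + 1) := by
    have := charpoly_eq_prod S hirr hmon A hkill
    rw [hS, Finset.prod_pair hne, e1, natDegree_X_sub_C, e2, natDegree_X_add_C, Nat.div_one,
      Nat.div_one] at this
    rw [e1, e2]
    exact this
  obtain ⟨a, ha⟩ := heven
  have hevenb : ∃ b, kdim A (X + 1) = b + b := ⟨d - a, by omega⟩
  obtain ⟨b, hb⟩ := hevenb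
  have hab : a + b = d := by omega
  -- the model
  set a' := min m a with ha'
  have ha'a : a' ≤ a := min_le_right _ _
  have ha'm : a' ≤ m := min_le_left _ _
  obtain ⟨a'', ha''⟩ : ∃ a'', a = a' + a'' := ⟨a - a', by omega⟩
  have hb'b : m - a' ≤ b := by
    rcases le_total m a with h | h
    · rw [ha', min_eq_left h]
      omega
    · rw [ha', min_eq_right h]
      omega
  obtain ⟨b'', hb''⟩ : ∃ b'', b = (m - a') + b'' := ⟨b - (m - a'), by omega⟩
  set G := diagPM F a' (m - a') with hG
  set G₀ := diagPM F a'' b'' with hG₀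
  have hy₀ := hypMap_altInv G₀ G₀ (diagPM_mul_self a'' b'')
  have hyM : ((hypMap G G).prodMap (hypMap G₀ G₀)) ^ 2 = 1 := by
    rw [prodMap_pow, hypMap_pow, hypMap_pow, sq, sq, diagPM_mul_self, diagPM_mul_self,
      hypMap_one, hypMap_one, prodMap_one_one]
  have hcpm : G.charpoly * G.charpoly * (hypMap G₀ G₀).charpoly = A.charpoly := by
    rw [hcharA, hypMap_charpoly, hG, hG₀, diagPM_charpoly, diagPM_charpoly, ha, hb, ha'', hb'']
    ring
  have h2F : ((2 : ℕ) : F) ≠ 0 := by
    rw [Nat.cast_ofNat]
    exact h2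
  obtain ⟨W, hWdim, hWti, hWinv⟩ := exists_ti_of_model 2 (by norm_num) h2F S hirr hmon A
    (sympBil d F) hAB hkill G G (diagPM_mul_self _ _) (hypMap G₀ G₀) (hypForm _ F) hy₀ hyM
    (hkillgen _ hyM) hcpm
  refine ⟨W, ?_, hWti, hWinv⟩
  rw [hWdim, Fintype.card_sum, Fintype.card_fin, Fintype.card_fin]
  omega

end two

end Cfsg.Agent.Helper13.SpTi
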