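import Mathlib
import Cfsg.Agent.Lib.Helper13.SpTi6

set_option autoImplicit false
set_option linter.unusedSectionVars false

/-!
# Symplectic elements of square `-1` fixing totally isotropic subspaces
-/

namespace Cfsg.Agent.Helper13.SpTi

open Polynomial Module Cfsg.Agent.Helper13.SS Cfsg.Agent.Helper13.Dual
  Cfsg.Agent.Helper13.SympSS Cfsg.Agent.Helper13.SpDec Cfsg.Agent.Helper13.SlDec
  Cfsg.Agent.Helper28.SympIso
open scoped Classical

universe u

section sub
variable {F : Type u} [Field F] {V : Type*} [AddCommGroup V] [Module F V]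
  [FiniteDimensional F V]

theorem exists_submodule_finrank_eq (K : Submodule F V) (m : ℕ) (hm : m ≤ finrank F K) :
    ∃ W : Submodule F V, W ≤ K ∧ finrank F W = m := by
  set b := Module.finBasis F K with hb
  set s : Fin m → V := fun j => (b (Fin.castLE hm j) : V) with hs
  have hli : LinearIndependent F s := by
    have h1 : LinearIndependent F (fun j : Fin m => b (Fin.castLE hm j)) :=
      b.linearIndependent.comp _ (Fin.castLE_injective hm)
    exact h1.map' K.subtype (Submodule.ker_subtype K)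
  refine ⟨Submodule.span F (Set.range s), ?_, ?_⟩
  · rw [Submodule.span_le]
    rintro _ ⟨j, rfl⟩
    exact (b (Fin.castLE hm j)).2
  · rw [finrank_span_eq_card hli, Fintype.card_fin]

end sub

section split
variable {F : Type u} [Field F] [Fintype F] {d m : ℕ}

/-- elements of square `-1` when `-1` is a square -/
theorem exists_ti_of_split (h2 : (2 : F) ≠ 0) (hmd : m ≤ d) (ι₀ : F) (hι : ι₀ * ι₀ = -1)
    (x : Matrix.symplecticGroup (Fin d) F) (hx : LS x ^ 2 = -1) :
    ∃ W : Submodule F (Fin d ⊕ Fin d → F), finrank F W = m ∧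
      (∀ u ∈ W, ∀ v ∈ W, sympBil d F u v = 0) ∧ ∀ v ∈ W, LS x v ∈ W := by
  set A := LS x with hA
  have hAB : AltInv A (sympBil d F) := LS_altInv x
  have hι0 : ι₀ ≠ 0 := by
    rintro rfl
    rw [mul_zero] at hι
    exact one_ne_zero (neg_eq_zero.1 hι.symm)
  have hcop : IsCoprime (X - C ι₀ : F[X]) (X - C (-ι₀)) := by
    apply isCoprime_X_sub_C_of_isUnit_sub
    have : ι₀ - -ι₀ = 2 * ι₀ := by ring
    rw [this]
    exact (mul_ne_zero h2 hι0).isUnit
  have hprod : (X - C ι₀ : F[X]) * (X - C (-ι₀)) = X ^ 2 + 1 := by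
    have h1 : (C ι₀ : F[X]) * C ι₀ = -1 := by
      rw [← C_mul, hι, C_neg, C_1]
    rw [C_neg, sub_neg_eq_add]
    linear_combination (-1 : F[X]) * h1
  have hkill : aeval A ((X - C ι₀ : F[X]) * (X - C (-ι₀))) = 0 := by
    rw [hprod, map_add, map_pow, aeval_X, map_one, hx, neg_add_cancel]
  set Kp := LinearMap.ker (aeval A (X - C ι₀ : F[X])) with hKp
  set Km := LinearMap.ker (aeval A (X - C (-ι₀) : F[X])) with hKm
  have hcompl : IsCompl Kp Km := isCompl_ker_aeval A hcop hkill
  have hKa : ∀ (c : F) (u : Fin d ⊕ Fin d → F),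
      u ∈ LinearMap.ker (aeval A (X - C c : F[X])) → A u = c • u := by
    intro c u hu
    rw [LinearMap.mem_ker, map_sub, aeval_X, aeval_C, LinearMap.sub_apply,
      Module.algebraMap_end_apply, sub_eq_zero] at hu
    exact hu
  have hti : ∀ (c : F), c * c = -1 → ∀ u ∈ LinearMap.ker (aeval A (X - C c : F[X])),
      ∀ v ∈ LinearMap.ker (aeval A (X - C c : F[X])), sympBil d F u v = 0 := by
    intro c hc u hu v hv
    have h1 := hAB.inv u v
    rw [hKa c u hu, hKa c v hv] at h1
    simp only [map_smul, LinearMap.smul_apply, smul_eq_mul] at h1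
    have h3 : (2 : F) * sympBil d F u v = 0 := by
      have h4 : c * (c * sympBil d F u v) = - sympBil d F u v := by
        rw [← mul_assoc, hc]
        ring
      rw [h4] at h1
      calc (2 : F) * sympBil d F u v = sympBil d F u v + sympBil d F u v := by ring
        _ = sympBil d F u v + - sympBil d F u v := by rw [h1]
        _ = 0 := by ring
    rcases mul_eq_zero.1 h3 with h | h
    · exact absurd h h2
    · exact h
  have hfin : finrank F (Fin d ⊕ Fin d → F) = 2 * d := by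
    rw [Module.finrank_fintype_fun_eq_card, Fintype.card_sum, Fintype.card_fin]
    ring
  obtain ⟨hKpd, -⟩ := Cfsg.Agent.Helper13.LagCount.finrank_of_pair (sympBil d F) hAB.alt
    hAB.nondeg d hfin hcompl (hti ι₀ hι) (hti (-ι₀) (by rw [neg_mul_neg, hι]))
  obtain ⟨W, hWK, hWm⟩ := exists_submodule_finrank_eq Kp m (by rw [hKpd]; exact hmd)
  refine ⟨W, hWm, fun u hu v hv => hti ι₀ hι u (hWK hu) v (hWK hv), fun v hv => ?_⟩
  rw [hKa ι₀ v (hWK hv)]
  exact W.smul_mem _ hv

end split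

section nonsplit
variable {F : Type u} [Field F] [Fintype F] {d : ℕ}

theorem LS_J_sq (k : ℕ) :
    LS (⟨Matrix.J (Fin k) F, SymplecticGroup.J_mem (Fin k) F⟩ :
      Matrix.symplecticGroup (Fin k) F) ^ 2 = -1 := by
  unfold LS
  rw [← map_pow]
  show Matrix.toLinAlgEquiv' (Matrix.J (Fin k) F ^ 2) = -1
  rw [sq, Matrix.J_squared, map_neg, map_one]

/-- elements of square `-1` when `-1` is not a square -/
theorem exists_ti_of_nonsplit (h2 : (2 : F) ≠ 0) (hirr : Irreducible (X ^ 2 + 1 : F[X]))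
    (h : ℕ) (hmd : h + h ≤ d)
    (x : Matrix.symplecticGroup (Fin d) F) (hx : LS x ^ 2 = -1) :
    ∃ W : Submodule F (Fin d ⊕ Fin d → F), finrank F W = h + h ∧
      (∀ u ∈ W, ∀ v ∈ W, sympBil d F u v = 0) ∧ ∀ v ∈ W, LS x v ∈ W := by
  set A := LS x with hA
  have hAB : AltInv A (sympBil d F) := LS_altInv x
  have hmonic : (X ^ 2 + 1 : F[X]).Monic := by
    have : (X ^ 2 + 1 : F[X]) = X ^ 2 + C 1 := by rw [map_one]
    rw [this]
    exact monic_X_pow_add_C 1 (by norm_num)
  set S : Finset F[X] := {X ^ 2 + 1} with hS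
  have hSirr : ∀ f ∈ S, Irreducible f := fun f hf => by
    rw [Finset.mem_singleton.1 hf]; exact hirr
  have hSmon : ∀ f ∈ S, f.Monic := fun f hf => by
    rw [Finset.mem_singleton.1 hf]; exact hmonic
  have hkillgen : ∀ {U : Type u} [AddCommGroup U] [Module F U] (C : Module.End F U),
      C ^ 2 = -1 → aeval C (∏ f ∈ S, f) = 0 := by
    intro U _ _ C hC
    rw [hS, Finset.prod_singleton, map_add, map_pow, aeval_X, map_one, hC, neg_add_cancel]
  have hfin : finrank F (Fin d ⊕ Fin d → F) = 2 * d := by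
    rw [Module.finrank_fintype_fun_eq_card, Fintype.card_sum, Fintype.card_fin]
    ring
  have hcharA : A.charpoly = (X ^ 2 + 1) ^ d := by
    rw [charpoly_of_sq_neg_one hirr A hx, hfin, Nat.mul_div_cancel_left _ (by norm_num : 0 < 2)]
  -- the model
  set G : Matrix (Fin h ⊕ Fin h) (Fin h ⊕ Fin h) F := Matrix.J (Fin h) F with hG
  have hGG : (-G) * G = 1 := by
    rw [neg_mul, hG, Matrix.J_squared, neg_neg]
  have hGsq : G ^ 2 = -1 := by rw [sq, hG, Matrix.J_squared]
  have hG'sq : (-G) ^ 2 = -1 := by rw [neg_sq, hGsq]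
  have hfinh : finrank F (Fin h ⊕ Fin h → F) = 2 * h := by
    rw [Module.finrank_fintype_fun_eq_card, Fintype.card_sum, Fintype.card_fin]
    ring
  have hcharG : ∀ M : Matrix (Fin h ⊕ Fin h) (Fin h ⊕ Fin h) F, M ^ 2 = -1 →
      M.charpoly = (X ^ 2 + 1) ^ h := by
    intro M hM
    rw [← Matrix.charpoly_toLin', charpoly_of_sq_neg_one hirr (Matrix.toLin' M)
      (by rw [← Matrix.toLin'_pow, hM, map_neg, Matrix.toLin'_one]; rfl), hfinh,
      Nat.mul_div_cancel_left _ (by norm_num : 0 < 2)]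
  set J₀ : Matrix.symplecticGroup (Fin (d - (h + h))) F :=
    ⟨Matrix.J (Fin (d - (h + h))) F, SymplecticGroup.J_mem _ F⟩ with hJ₀
  have hJ₀sq : LS J₀ ^ 2 = -1 := LS_J_sq _
  have hfin0 : finrank F (Fin (d - (h + h)) ⊕ Fin (d - (h + h)) → F) = 2 * (d - (h + h)) := by
    rw [Module.finrank_fintype_fun_eq_card, Fintype.card_sum, Fintype.card_fin]
    ring
  have hcharJ₀ : (LS J₀).charpoly = (X ^ 2 + 1) ^ (d - (h + h)) := by
    rw [charpoly_of_sq_neg_one hirr (LS J₀) hJ₀sq, hfin0,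
      Nat.mul_div_cancel_left _ (by norm_num : 0 < 2)]
  have hysq : ((hypMap G (-G)).prodMap (LS J₀)) ^ 2 = -1 := by
    rw [prodMap_pow, hypMap_pow, hGsq, hG'sq, hypMap_neg_one, hJ₀sq, prodMap_neg_one]
  have hyM : ((hypMap G (-G)).prodMap (LS J₀)) ^ 4 = 1 := by
    have : (4 : ℕ) = 2 * 2 := rfl
    rw [this, pow_mul, hysq]
    exact neg_one_sq (R := Module.End F (((Fin h ⊕ Fin h → F) × (Fin h ⊕ Fin h → F)) × (Fin (d - (h + h)) ⊕ Fin (d - (h + h)) → F)))
  have hcpm : G.charpoly * (-G).charpoly * (LS J₀).charpoly = A.charpoly := by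
    rw [hcharG G hGsq, hcharG (-G) hG'sq, hcharJ₀, hcharA, ← pow_add, ← pow_add]
    congr 1
    omega
  have h4F : ((4 : ℕ) : F) ≠ 0 := by
    have : ((4 : ℕ) : F) = 2 * 2 := by norm_num
    rw [this]
    exact mul_ne_zero h2 h2
  obtain ⟨W, hWdim, hWti, hWinv⟩ := exists_ti_of_model 4 (by norm_num) h4F S hSirr hSmon A
    (sympBil d F) hAB (hkillgen A hx) G (-G) hGG (LS J₀) (sympBil _ F) (LS_altInv J₀) hyM
    (hkillgen _ hysq) hcpm
  refine ⟨W, ?_, hWti, hWinv⟩
  rw [hWdim, Fintype.card_sum, Fintype.card_fin]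

end nonsplit

end Cfsg.Agent.Helper13.SpTi
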