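import Mathlib
import Cfsg.Agent.Lib.Helper13.SpTi7

set_option autoImplicit false
set_option linter.unusedSectionVars false

/-!
# Elements of order two modulo scalars of symplectic groups and totally isotropic subspaces
-/

namespace Cfsg.Agent.Helper13.SpTi

open Polynomial Module Cfsg.Agent.Helper13.SS Cfsg.Agent.Helper13.Dual
  Cfsg.Agent.Helper13.SympSS Cfsg.Agent.Helper13.SpDec Cfsg.Agent.Helper13.SlDec
  Cfsg.Agent.Helper28.SympIso
open scoped Classical

universe u

variable {F : Type u} [Field F] [Fintype F] {d m : ℕ}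

theorem LS_pow_of_scalar (x : Matrix.symplecticGroup (Fin d) F) (k : ℕ) (z : F)
    (hxz : ((x ^ k : Matrix.symplecticGroup (Fin d) F) :
      Matrix (Fin d ⊕ Fin d) (Fin d ⊕ Fin d) F) = z • 1) : LS x ^ k = z • 1 := by
  unfold LS
  rw [← map_pow, ← SubmonoidClass.coe_pow, hxz, map_smul, map_one]

theorem irreducible_X_sq_add_one (hns : ¬ IsSquare (-1 : F)) :
    Irreducible (X ^ 2 + 1 : F[X]) := by
  have h1 : (X ^ 2 + 1 : F[X]) = X ^ 2 - C (-1) := by
    rw [C_neg, C_1, sub_neg_eq_add]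
  rw [h1, X_pow_sub_C_irreducible_iff_of_prime Nat.prime_two]
  intro b hb
  exact hns ⟨b, by rw [← hb, sq]⟩

theorem J_not_scalar (hd : 0 < d) (z : F) :
    (Matrix.J (Fin d) F : Matrix (Fin d ⊕ Fin d) (Fin d ⊕ Fin d) F) ≠ z • 1 := by
  intro h
  have h1 := congrFun (congrFun h (Sum.inl ⟨0, hd⟩)) (Sum.inl ⟨0, hd⟩)
  have h2 := congrFun (congrFun h (Sum.inl ⟨0, hd⟩)) (Sum.inr ⟨0, hd⟩)
  simp [Matrix.J] at h1 h2

theorem two_main (h2 : (2 : F) ≠ 0) (hodd : Fintype.card F % 2 = 1) (hd : 0 < d)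
    (hmd : m ≤ d) :
    (∀ x : Matrix.symplecticGroup (Fin d) F,
      (∃ z : F, ((x ^ 2 : Matrix.symplecticGroup (Fin d) F) :
        Matrix (Fin d ⊕ Fin d) (Fin d ⊕ Fin d) F) = z • 1) →
      (∀ z : F, (x : Matrix (Fin d ⊕ Fin d) (Fin d ⊕ Fin d) F) ≠ z • 1) →
      ∃ W : Submodule F (Fin d ⊕ Fin d → F), finrank F W = m ∧
        (∀ u ∈ W, ∀ v ∈ W, sympBil d F u v = 0) ∧ ∀ v ∈ W, LS x v ∈ W) ↔
    (Even m ∨ Fintype.card F % 4 = 1) := by
  constructor
  · intro hall
    by_contra hcon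
    push Not at hcon
    obtain ⟨hmodd, hq4⟩ := hcon
    have hq3 : Fintype.card F % 4 = 3 := by omega
    have hns : ¬ IsSquare (-1 : F) := by
      rw [FiniteField.isSquare_neg_one_iff]
      exact fun h => h hq3
    have hirr := irreducible_X_sq_add_one hns
    have : Fact (Irreducible (X ^ 2 + 1 : F[X])) := ⟨hirr⟩
    set x : Matrix.symplecticGroup (Fin d) F :=
      ⟨Matrix.J (Fin d) F, SymplecticGroup.J_mem (Fin d) F⟩ with hx
    have hxsq : LS x ^ 2 = -1 := LS_J_sq d
    obtain ⟨W, hWm, -, hWinv⟩ := hall x ⟨-1, by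
      rw [SubmonoidClass.coe_pow, hx]
      show Matrix.J (Fin d) F ^ 2 = (-1 : F) • 1
      rw [sq, Matrix.J_squared, neg_smul, one_smul]⟩ (fun z => J_not_scalar hd z)
    have hW : ∀ v ∈ W, LS x v ∈ W := hWinv
    have hres : aeval ((LS x).restrict hW) (X ^ 2 + 1 : F[X]) = 0 := by
      apply aeval_restrict_eq_zero
      rw [map_add, map_pow, aeval_X, map_one, hxsq, neg_add_cancel, LinearMap.ker_zero]
      exact le_top
    have hdvd := natDegree_dvd_finrank (X ^ 2 + 1 : F[X]) ((LS x).restrict hW) hres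
    have hdeg : (X ^ 2 + 1 : F[X]).natDegree = 2 := by
      have : (X ^ 2 + 1 : F[X]) = X ^ 2 + C 1 := by rw [map_one]
      rw [this, natDegree_X_pow_add_C]
    rw [hdeg, hWm] at hdvd
    exact hmodd (even_iff_two_dvd.2 hdvd)
  · intro hcond x hxz _
    obtain ⟨z, hxz⟩ := hxz
    have hz := scalar_sq hd z (x ^ 2) hxz
    have hLS := LS_pow_of_scalar x 2 z hxz
    rcases mul_self_eq_one_iff.1 hz with rfl | rfl
    · rw [one_smul] at hLS
      exact exists_ti_of_involution h2 hmd x hLS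
    · have hLS' : LS x ^ 2 = -1 := by
        rw [hLS]
        ext v
        simp
      clear hLS
      have hLS := hLS'
      by_cases hq : Fintype.card F % 4 = 1
      · have hsq : IsSquare (-1 : F) := by
          rw [FiniteField.isSquare_neg_one_iff]
          omega
        obtain ⟨ι₀, hι⟩ := hsq
        exact exists_ti_of_split h2 hmd ι₀ hι.symm x hLS
      · have hq3 : Fintype.card F % 4 = 3 := by omega
        have hns : ¬ IsSquare (-1 : F) := by
          rw [FiniteField.isSquare_neg_one_iff]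
          exact fun h => h hq3
        have hirr := irreducible_X_sq_add_one hns
        have hev : Even m := hcond.resolve_right hq
        obtain ⟨h, rfl⟩ := hev
        exact exists_ti_of_nonsplit h2 hirr h hmd x hLS

end Cfsg.Agent.Helper13.SpTi
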