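import Mathlib
import Cfsg.Agent.Lib.Helper13.SpTi5
import Cfsg.Agent.Lib.Helper13.SpTi8
import Cfsg.Agent.Lib.Helper13.TiCount
import Cfsg.Agent.Lib.Helper13.SpDec7
import Cfsg.Agent.Lib.Helper13.OrthType3

set_option autoImplicit false
set_option linter.unusedSectionVars false

/-!
# Elements of prime order of symplectic groups fixing totally isotropic subspaces: assembly
-/

namespace Cfsg.Agent.Helper13.SpTi

open Polynomial Module Cfsg.Agent.Helper13.SS Cfsg.Agent.Helper13.Dual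
  Cfsg.Agent.Helper13.SympSS Cfsg.Agent.Helper13.SpDec Cfsg.Agent.Helper13.SlDec
  Cfsg.Agent.Helper28.SympIso
open scoped Classical

universe u

section conv
variable {F : Type u} [Field F] [Fintype F] {d : ℕ}

theorem map_le_iff (x : Matrix.symplecticGroup (Fin d) F)
    (W : Submodule F (Fin d ⊕ Fin d → F)) :
    W.map (Matrix.toLin' (x : Matrix (Fin d ⊕ Fin d) (Fin d ⊕ Fin d) F)) ≤ W ↔
      ∀ v ∈ W, LS x v ∈ W := by
  rw [Submodule.map_le_iff_le_comap]
  constructor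
  · intro h v hv
    have h1 := h hv
    rw [Submodule.mem_comap, Matrix.toLin'_apply] at h1
    rw [LS_apply]
    exact h1
  · intro h v hv
    rw [Submodule.mem_comap, Matrix.toLin'_apply, ← LS_apply]
    exact h v hv

theorem fix_iff (x : Matrix.symplecticGroup (Fin d) F) (m : ℕ) :
    (∃ W : Submodule F (Fin d ⊕ Fin d → F), finrank F W = m ∧
      (∀ u ∈ W, ∀ v ∈ W, Cfsg.sympForm d F u v = 0) ∧
      W.map (Matrix.toLin' (x : Matrix (Fin d ⊕ Fin d) (Fin d ⊕ Fin d) F)) ≤ W) ↔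
    (∃ W : Submodule F (Fin d ⊕ Fin d → F), finrank F W = m ∧
      (∀ u ∈ W, ∀ v ∈ W, sympBil d F u v = 0) ∧ ∀ v ∈ W, LS x v ∈ W) := by
  simp only [sympBil_apply, map_le_iff]

/-- an element whose `r`-th power is scalar can be replaced by one whose `r`-th power is `1` -/
theorem exists_normalized' (hd : 0 < d) (r : ℕ) (hr : Odd r)
    (x : Matrix.symplecticGroup (Fin d) F) (z : F)
    (hxz : ((x ^ r : Matrix.symplecticGroup (Fin d) F) :
      Matrix (Fin d ⊕ Fin d) (Fin d ⊕ Fin d) F) = z • 1)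
    (hns : ∀ w : F, (x : Matrix (Fin d ⊕ Fin d) (Fin d ⊕ Fin d) F) ≠ w • 1) :
    ∃ x' : Matrix.symplecticGroup (Fin d) F, x' ^ r = 1 ∧
      (∀ w : F, (x' : Matrix (Fin d ⊕ Fin d) (Fin d ⊕ Fin d) F) ≠ w • 1) ∧
      ∀ D : Submodule F (Fin d ⊕ Fin d → F),
        D.map (Matrix.toLin' (x' : Matrix (Fin d ⊕ Fin d) (Fin d ⊕ Fin d) F))
          = D.map (Matrix.toLin' (x : Matrix (Fin d ⊕ Fin d) (Fin d ⊕ Fin d) F)) := by
  have hz := scalar_sq hd z (x ^ r) hxz
  have hz0 : z ≠ 0 := by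
    rintro rfl
    simp at hz
  have hmem : z • (x : Matrix (Fin d ⊕ Fin d) (Fin d ⊕ Fin d) F)
      ∈ Matrix.symplecticGroup (Fin d) F := by
    apply mem_symplectic_of_preserves
    intro u v
    rw [Matrix.smul_mulVec, Matrix.smul_mulVec, sympForm_smul_smul, hz, one_mul, ← LS_apply,
      ← LS_apply, ← sympBil_apply, (LS_altInv x).inv, sympBil_apply]
  refine ⟨⟨z • (x : Matrix (Fin d ⊕ Fin d) (Fin d ⊕ Fin d) F), hmem⟩, ?_, ?_, ?_⟩
  · apply Subtype.ext
    rw [SubmonoidClass.coe_pow]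
    show (z • (x : Matrix (Fin d ⊕ Fin d) (Fin d ⊕ Fin d) F)) ^ r = 1
    rw [_root_.smul_pow, ← SubmonoidClass.coe_pow, hxz, smul_smul, ← pow_succ]
    obtain ⟨m, rfl⟩ := hr
    have : z ^ (2 * m + 1 + 1) = (z * z) ^ (m + 1) := by
      rw [← sq, ← pow_mul]
      congr 1
    rw [this, hz, one_pow, one_smul]
  · intro w hw
    have hw' : z • (x : Matrix (Fin d ⊕ Fin d) (Fin d ⊕ Fin d) F) = w • 1 := hw
    apply hns (z⁻¹ * w)
    rw [← smul_smul, ← hw', smul_smul, inv_mul_cancel₀ hz0, one_smul]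
  · intro D
    show D.map (Matrix.toLin' (z • (x : Matrix (Fin d ⊕ Fin d) (Fin d ⊕ Fin d) F))) = _
    rw [map_smul, Submodule.map_smul _ _ z hz0]

end conv

section main
variable {F : Type u} [Field F] [Fintype F] {p : ℕ} [Fact p.Prime] [CharP F p] {q : ℕ}

theorem c_bounds (hF : Fintype.card F = q) (r : ℕ) (hr : r.Prime) (d m : ℕ) (hmd : m ≤ d)
    (j : ℕ) (hj : j < m) (hdvd : r ∣ Fintype.card F ^ (2 * d - 2 * j) - 1)
    (i c : ℕ) (hi : i = orderOf (q : ZMod r)) (hc : c = if Even i then i else 2 * i) :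
    c ≤ 2 * d ∧ (2 * d) % c < 2 * m := by
  rw [hF] at hdvd
  have hq1 : 1 ≤ q := by rw [← hF]; exact Fintype.card_pos
  have h3 := Cfsg.Agent.Helper13.OrthSS.orderOf_dvd_of_dvd_pow_sub_one hr hq1 hdvd
  rw [← hi] at h3
  have he : 2 * d - 2 * j = 2 * (d - j) := by omega
  rw [he] at h3
  have hcd : c ∣ 2 * (d - j) := by
    rw [hc]
    split_ifs with hev
    · exact h3
    · have hodd : Odd i := Nat.not_even_iff_odd.1 hev
      have h4 : i ∣ d - j := (Nat.Coprime.dvd_of_dvd_mul_left hodd.coprime_two_right h3)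
      exact Nat.mul_dvd_mul_left 2 h4
  have hpos : 0 < 2 * (d - j) := by omega
  have hle := Nat.le_of_dvd hpos hcd
  refine ⟨by omega, ?_⟩
  obtain ⟨t, ht⟩ := hcd
  have hc0 : 0 < c := by
    rcases Nat.eq_zero_or_pos c with h | h
    · rw [h, zero_mul] at ht; omega
    · exact h
  have h2d : 2 * d = 2 * j + c * t := by omega
  rw [h2d, Nat.add_mul_mod_self_left]
  have := Nat.mod_le (2 * j) c
  omega

theorem ti_main (hq : Fintype.card F = q)
    (d m : ℕ) (hd : 2 ≤ d) (hm : 1 ≤ m) (hmd : m ≤ d)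
    (r : ℕ) [Fact r.Prime]
    (hrΩ : r ∣ Nat.card {W : Submodule F (Fin d ⊕ Fin d → F) //
      Module.finrank F ↥W = m ∧ (∀ u ∈ W, ∀ v ∈ W, Cfsg.sympForm d F u v = 0)})
    (i c : ℕ) (hi : i = orderOf (q : ZMod r)) (hc : c = if Even i then i else 2 * i) :
    (∀ x : ↥(Matrix.symplecticGroup (Fin d) F),
      (∃ z : F, ((x ^ r : ↥(Matrix.symplecticGroup (Fin d) F)) :
        Matrix (Fin d ⊕ Fin d) (Fin d ⊕ Fin d) F) =
          z • (1 : Matrix (Fin d ⊕ Fin d) (Fin d ⊕ Fin d) F)) →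
      (∀ z : F, (x : Matrix (Fin d ⊕ Fin d) (Fin d ⊕ Fin d) F) ≠
        z • (1 : Matrix (Fin d ⊕ Fin d) (Fin d ⊕ Fin d) F)) →
      ∃ W : Submodule F (Fin d ⊕ Fin d → F), Module.finrank F ↥W = m ∧
        (∀ u ∈ W, ∀ v ∈ W, Cfsg.sympForm d F u v = 0) ∧
        W.map (Matrix.toLin' (x : Matrix (Fin d ⊕ Fin d) (Fin d ⊕ Fin d) F)) ≤ W) ↔
    ((r = 2 ∧ p ≠ 2 ∧ (Even m ∨ q % 4 = 1)) ∨
     (r ≠ p ∧ 2 < r ∧ i ≤ m ∧ 2 * (m % i) ≤ (2 * d) % c ∧
      (Odd i ∨ (r - 1) / i + 2 * (m / i) ≤ (2 * d) / i))) := by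
  have hr : r.Prime := Fact.out
  have hp : p.Prime := Fact.out
  have hd0 : 0 < d := by omega
  simp only [fix_iff]
  have hfin : finrank F (Fin d ⊕ Fin d → F) = 2 * d := by
    rw [Module.finrank_fintype_fun_eq_card, Fintype.card_sum, Fintype.card_fin]
    ring
  have hrΩ' : r ∣ Nat.card (Cfsg.Agent.Helper13.TiCnt.TiSub (sympBil d F) m) := by
    have : Nat.card (Cfsg.Agent.Helper13.TiCnt.TiSub (sympBil d F) m) =
        Nat.card {W : Submodule F (Fin d ⊕ Fin d → F) //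
          Module.finrank F ↥W = m ∧ (∀ u ∈ W, ∀ v ∈ W, Cfsg.sympForm d F u v = 0)} := by
      apply Nat.card_congr
      apply Equiv.subtypeEquivRight
      intro W
      simp only [sympBil_apply]
    rw [this]
    exact hrΩ
  have h2m : 2 * m ≤ 2 * d := by omega
  by_cases hrp : r = p
  · exfalso
    subst hrp
    exact Cfsg.Agent.Helper13.TiCnt.not_char_dvd_card_ti r (sympBil d F) (sympBil_isAlt d)
      (sympBil_nondegenerate d) (2 * d) m hfin h2m hrΩ'
  by_cases hr2 : r = 2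
  · subst hr2
    have hp2 : p ≠ 2 := fun h => hrp h.symm
    have h2F : (2 : F) ≠ 0 := by
      have := cast_ne_zero_of_prime_ne (F := F) (p := p) Nat.prime_two (fun h => hrp h)
      simpa using this
    have hodd : Fintype.card F % 2 = 1 := by
      apply FiniteField.odd_card_of_char_ne_two
      rw [ringChar.eq F p]
      exact hp2
    rw [two_main h2F hodd hd0 hmd, hq]
    constructor
    · intro h
      exact Or.inl ⟨rfl, hp2, h⟩
    · rintro (⟨-, -, h⟩ | ⟨-, h, -⟩)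
      · exact h
      · omega
  · obtain ⟨j, hj, hjd⟩ := Cfsg.Agent.Helper13.TiCnt.exists_dvd_of_dvd_card_ti r hr (sympBil d F)
      (sympBil_isAlt d) (sympBil_nondegenerate d) (2 * d) m hfin h2m hrΩ'
    obtain ⟨hcn, hΩ⟩ := c_bounds hq r hr d m hmd j hj hjd i c hi hc
    have hrodd : Odd r := hr.eq_two_or_odd'.resolve_left hr2
    have hr3 : 2 < r := by
      have := hr.two_le
      omega
    have hom := odd_main hq hr hr2 hrp d m hm hmd i c hi hc hcn hΩ
    constructor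
    · intro hall
      refine Or.inr ⟨hrp, hr3, ?_⟩
      rw [← hom]
      intro x hx hns
      exact hall x ⟨1, by rw [hx, one_smul]; rfl⟩ hns
    · rintro (⟨h, -, -⟩ | ⟨-, -, hcond⟩)
      · exact absurd h hr2
      · intro x ⟨z, hxz⟩ hns
        obtain ⟨x', hx', hns', hmap⟩ := exists_normalized' hd0 r hrodd x z hxz hns
        obtain ⟨W, hWm, hWti, hWinv⟩ := hom.2 hcond x' hx' hns'
        refine ⟨W, hWm, hWti, ?_⟩
        rw [← map_le_iff, ← hmap, map_le_iff]
        exact hWinv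

end main

end Cfsg.Agent.Helper13.SpTi
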