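import Mathlib
import Cfsg.Agent.Lib.Helper13.PrimeOrderSemisimple
import Cfsg.Agent.Lib.Helper13.SympPrime
import Cfsg.Agent.Lib.Helper13.SympFrame

/-!
# Semisimple elements of odd prime order of symplectic groups fixing no Lagrangian pair (helper13)
-/

set_option autoImplicit false
set_option linter.style.haveILetI false
set_option linter.unusedSectionVars false
set_option linter.unusedVariables false

namespace Cfsg.Agent.Helper13.SympDer

open Module Polynomial Cfsg.Agent.Helper13.InvTow Cfsg.Agent.Helper13.POS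
  Cfsg.Agent.Helper13.SympFrame

section core

variable {F : Type*} [Field F] [Fintype F] {V : Type*} [AddCommGroup V] [Module F V]
  [FiniteDimensional F V]

/-- an isometry which is trivial on one member of a Lagrangian pair and stabilises the other is
trivial. -/
theorem eq_one_of_trivial_on (B : LinearMap.BilinForm F V)
    (hnd : ∀ u, (∀ v, B u v = 0) → u = 0) (y : V →ₗ[F] V)
    (hy : ∀ u v, B (y u) (y v) = B u v) {U W : Submodule F V} (hUW : IsCompl U W)
    (hU : ∀ u ∈ U, ∀ v ∈ U, B u v = 0) (hyU : ∀ u ∈ U, y u ∈ U) (hyW : ∀ w ∈ W, y w = w) :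
    y = 1 := by
  have hyU1 : ∀ u ∈ U, y u = u := by
    intro u hu
    rw [← sub_eq_zero]
    apply hnd
    intro v
    have hv : v ∈ U ⊔ W := by rw [hUW.sup_eq_top]; exact Submodule.mem_top
    obtain ⟨u', hu', w', hw', rfl⟩ := Submodule.mem_sup.1 hv
    rw [map_add, hU _ (U.sub_mem (hyU u hu) hu) u' hu', zero_add, map_sub, LinearMap.sub_apply]
    nth_rewrite 1 [← hyW w' hw']
    rw [hy, sub_self]
  apply LinearMap.ext
  intro v
  have hv : v ∈ U ⊔ W := by rw [hUW.sup_eq_top]; exact Submodule.mem_top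
  obtain ⟨u', hu', w', hw', rfl⟩ := Submodule.mem_sup.1 hv
  rw [map_add, hyU1 u' hu', hyW w' hw', Module.End.one_apply]

theorem no_fixed_pair (r : ℕ) [Fact r.Prime] (hrF : (r : F) ≠ 0) (B : LinearMap.BilinForm F V)
    (hB : ∀ x, B x x = 0) (hnd : ∀ u, (∀ v, B u v = 0) → u = 0) (y : V →ₗ[F] V)
    (hy : ∀ u v, B (y u) (y v) = B u v) (hyr : y ^ r = 1) (hne : y ≠ 1)
    (hC : finrank F V < finrank F (LinearMap.ker (y - 1)) +
      2 * orderOf ((Fintype.card F : ℕ) : ZMod r))
    {U W : Submodule F V} (hUW : IsCompl U W)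
    (hU : ∀ u ∈ U, ∀ v ∈ U, B u v = 0) (hW : ∀ u ∈ W, ∀ v ∈ W, B u v = 0)
    (hyU : ∀ u ∈ U, y u ∈ U) (hyW : ∀ w ∈ W, y w ∈ W) : False := by
  set i := orderOf ((Fintype.card F : ℕ) : ZMod r) with hi
  set C := LinearMap.ker (y - 1) with hCdef
  have hmemC : ∀ v, v ∈ C ↔ y v = v := by
    intro v
    rw [hCdef, LinearMap.mem_ker, LinearMap.sub_apply, Module.End.one_apply, sub_eq_zero]
  -- C = (U ⊓ C) ⊕ (W ⊓ C)
  have hsup : C ≤ (U ⊓ C) ⊔ (W ⊓ C) := by
    intro c hc
    have hv : c ∈ U ⊔ W := by rw [hUW.sup_eq_top]; exact Submodule.mem_top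
    obtain ⟨u, hu, w, hw, rfl⟩ := Submodule.mem_sup.1 hv
    have h1 := (hmemC _).1 hc
    rw [map_add] at h1
    have h2 : y u - u = -(y w - w) := by
      have : y u - u + (y w - w) = 0 := by
        have : y u - u + (y w - w) = (y u + y w) - (u + w) := by abel
        rw [this, h1, sub_self]
      exact eq_neg_of_add_eq_zero_left this
    have h3 : y u - u ∈ U ⊓ W := by
      refine ⟨U.sub_mem (hyU u hu) hu, ?_⟩
      rw [h2]
      exact W.neg_mem (W.sub_mem (hyW w hw) hw)
    rw [hUW.inf_eq_bot, Submodule.mem_bot] at h3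
    have h4 : y w - w = 0 := by rw [h3] at h2; exact neg_eq_zero.1 h2.symm
    exact Submodule.add_mem_sup ⟨hu, (hmemC u).2 (sub_eq_zero.1 h3)⟩
      ⟨hw, (hmemC w).2 (sub_eq_zero.1 h4)⟩
  have hinf : (U ⊓ C) ⊓ (W ⊓ C) = ⊥ := by
    rw [eq_bot_iff, ← hUW.inf_eq_bot]
    exact inf_le_inf inf_le_left inf_le_left
  have hdimC : finrank F C ≤ finrank F ↥(U ⊓ C) + finrank F ↥(W ⊓ C) := by
    have h1 := Submodule.finrank_sup_add_finrank_inf_eq (U ⊓ C) (W ⊓ C)
    rw [hinf, finrank_bot, add_zero] at h1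
    rw [← h1]
    exact Submodule.finrank_mono hsup
  have hdimV : finrank F U + finrank F W = finrank F V := Submodule.finrank_add_eq_of_isCompl hUW
  have hdU := orderOf_dvd_finrank_sub r hrF y hyr U hyU
  have hdW := orderOf_dvd_finrank_sub r hrF y hyr W hyW
  have hleU : finrank F ↥(U ⊓ C) ≤ finrank F U := Submodule.finrank_mono inf_le_left
  have hleW : finrank F ↥(W ⊓ C) ≤ finrank F W := Submodule.finrank_mono inf_le_left
  rw [← hCdef, ← hi] at hdU hdW
  obtain ⟨a, ha⟩ := hdU
  obtain ⟨b, hb⟩ := hdW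
  have hab : a = 0 ∨ b = 0 := by
    by_contra hcon
    push Not at hcon
    have ha1 : 1 ≤ a := Nat.one_le_iff_ne_zero.2 hcon.1
    have hb1 : 1 ≤ b := Nat.one_le_iff_ne_zero.2 hcon.2
    have h1 : i ≤ i * a := Nat.le_mul_of_pos_right i ha1
    have h2 : i ≤ i * b := Nat.le_mul_of_pos_right i hb1
    omega
  rcases hab with h0 | h0
  · -- y is trivial on U
    have hUC : U ⊓ C = U := by
      apply Submodule.eq_of_le_of_finrank_eq inf_le_left
      rw [h0, mul_zero] at ha
      omega
    apply hne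
    apply eq_one_of_trivial_on B hnd y hy hUW.symm hW hyW
    intro u hu
    have : u ∈ U ⊓ C := by rw [hUC]; exact hu
    exact (hmemC u).1 this.2
  · have hWC : W ⊓ C = W := by
      apply Submodule.eq_of_le_of_finrank_eq inf_le_left
      rw [h0, mul_zero] at hb
      omega
    apply hne
    apply eq_one_of_trivial_on B hnd y hy hUW hU hyU
    intro w hw
    have : w ∈ W ⊓ C := by rw [hWC]; exact hw
    exact (hmemC w).1 this.2

/-- an isometry of odd prime order `r` whose fixed space has codimension less than `2 ord_r(q)`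
fixes or swaps no pair of complementary totally isotropic subspaces. -/
theorem no_lagrangian_pair (r : ℕ) [Fact r.Prime] (hr2 : r ≠ 2) (hrF : (r : F) ≠ 0)
    (B : LinearMap.BilinForm F V)
    (hB : ∀ x, B x x = 0) (hnd : ∀ u, (∀ v, B u v = 0) → u = 0) (g : V →ₗ[F] V)
    (hg : ∀ u v, B (g u) (g v) = B u v) (hgr : g ^ r = 1) (hne : g ≠ 1)
    (hC : finrank F V < finrank F (LinearMap.ker (g - 1)) +
      2 * orderOf ((Fintype.card F : ℕ) : ZMod r)) :
    ¬ ∃ U W : Submodule F V, IsCompl U W ∧ (∀ u ∈ U, ∀ v ∈ U, B u v = 0) ∧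
      (∀ u ∈ W, ∀ v ∈ W, B u v = 0) ∧
      ((U.map g = U ∧ W.map g = W) ∨ (U.map g = W ∧ W.map g = U)) := by
  rintro ⟨U, W, hUW, hU, hW, hmap⟩
  have hr : r.Prime := Fact.out
  rcases hmap with ⟨h1, h2⟩ | ⟨h1, h2⟩
  · exact no_fixed_pair r hrF B hB hnd g hg hgr hne hC hUW hU hW
      (fun u hu => by rw [← h1]; exact ⟨u, hu, rfl⟩) (fun w hw => by rw [← h2]; exact ⟨w, hw, rfl⟩)
  · -- pass to the square
    have hodd : Odd r := hr.odd_of_ne_two hr2
    obtain ⟨k, hk⟩ := hodd
    have hgk : (g * g) ^ (k + 1) = g := by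
      rw [← pow_two, ← pow_mul]
      have : 2 * (k + 1) = r + 1 := by omega
      rw [this, pow_succ, hgr, one_mul]
    have hy : ∀ u v, B ((g * g) u) ((g * g) v) = B u v := by
      intro u v
      rw [Module.End.mul_apply, Module.End.mul_apply, hg, hg]
    have hyr : (g * g) ^ r = 1 := by
      rw [← pow_two, ← pow_mul, mul_comm, pow_mul, hgr, one_pow]
    have hyne : g * g ≠ 1 := by
      intro h
      apply hne
      rw [← hgk, h, one_pow]
    have hker : LinearMap.ker (g * g - 1) = LinearMap.ker (g - 1) := by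
      ext v
      simp only [LinearMap.mem_ker, LinearMap.sub_apply, Module.End.one_apply, sub_eq_zero]
      constructor
      · intro h
        have hpow : ∀ n : ℕ, ((g * g) ^ n) v = v := by
          intro n
          induction n with
          | zero => simp
          | succ n ih => rw [pow_succ, Module.End.mul_apply, h, ih]
        have := hpow (k + 1)
        rwa [hgk] at this
      · intro h
        rw [Module.End.mul_apply, h, h]
    have hC' : finrank F V < finrank F (LinearMap.ker (g * g - 1)) +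
        2 * orderOf ((Fintype.card F : ℕ) : ZMod r) := by rw [hker]; exact hC
    refine no_fixed_pair r hrF B hB hnd (g * g) hy hyr hyne hC' hUW hU hW ?_ ?_
    · intro u hu
      rw [Module.End.mul_apply, ← h2]
      refine ⟨g u, ?_, rfl⟩
      rw [← h1]
      exact ⟨u, hu, rfl⟩
    · intro w hw
      rw [Module.End.mul_apply, ← h1]
      refine ⟨g w, ?_, rfl⟩
      rw [← h2]
      exact ⟨w, hw, rfl⟩

end core

end Cfsg.Agent.Helper13.SympDer
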