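import Mathlib
import Cfsg.Agent.Lib.Helper13.SympDerange

/-!
# Construction of a semisimple element of odd prime order with a large fixed space (helper13)
-/

set_option autoImplicit false
set_option linter.style.haveILetI false
set_option linter.unusedSectionVars false
set_option linter.unusedVariables false

namespace Cfsg.Agent.Helper13.SympDer

open Module Polynomial Cfsg.Agent.Helper13.SympSS Cfsg.Agent.Helper13.SS
  Cfsg.Agent.Helper13.Dual Cfsg.Agent.Helper28.SympIso

universe u

section transfer

variable {F : Type*} [Field F]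

/-- an isometry of an abstract symplectic space of dimension `2 n` is conjugate to an element of
the matrix group `Sp_{2n}(F)`. -/
theorem exists_matrix_conj {V : Type*} [AddCommGroup V] [Module F V] [FiniteDimensional F V]
    (A : Module.End F V) (B : LinearMap.BilinForm F V) (hAB : AltInv A B) (n : ℕ)
    (hfin : finrank F V = 2 * n) :
    ∃ (g : Matrix.symplecticGroup (Fin n) F) (e : V ≃ₗ[F] (Fin n ⊕ Fin n → F)),
      (∀ u v, sympBil n F (e u) (e v) = B u v) ∧
      ∀ v, Matrix.toLin' (g : Matrix (Fin n ⊕ Fin n) (Fin n ⊕ Fin n) F) (e v) = e (A v) := by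
  obtain ⟨e, he⟩ := exists_symp_equiv B hAB.alt ⟨hAB.nondeg, hAB.nondeg_right⟩ n hfin
  set A' : Module.End F (Fin n ⊕ Fin n → F) := e.conj A with hA'
  have hA'a : ∀ u, A' u = e (A (e.symm u)) := by
    intro u
    rw [hA', LinearEquiv.conj_apply]
    rfl
  set G : Matrix (Fin n ⊕ Fin n) (Fin n ⊕ Fin n) F := LinearMap.toMatrix' A' with hG
  have hGv : ∀ u, G.mulVec u = A' u := by
    intro u
    rw [hG, LinearMap.toMatrix'_mulVec]
  have hGmem : G ∈ Matrix.symplecticGroup (Fin n) F := by
    apply mem_symplectic_of_preserves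
    intro u v
    rw [← sympBil_apply, ← sympBil_apply, hGv, hGv, hA'a, hA'a, he, hAB.inv, ← he,
      e.apply_symm_apply, e.apply_symm_apply]
  refine ⟨⟨G, hGmem⟩, e, he, ?_⟩
  intro v
  show Matrix.toLin' G (e v) = _
  rw [Matrix.toLin'_apply, hGv, hA'a, e.symm_apply_apply]

end transfer

section element

variable {F : Type u} [Field F] [Fintype F] {p : ℕ} [Fact p.Prime] [CharP F p] {q : ℕ}

/-- if the order of `q` modulo the odd prime `r ≠ p` is even and at most `2 d`, then `Sp_{2d}(q)`
has a non-trivial element of order `r` whose fixed space has codimension `< 2 ord_r(q)`. -/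
theorem exists_element (hF : Fintype.card F = q) (r : ℕ) [Fact r.Prime] (hr2 : r ≠ 2)
    (hrp : r ≠ p) (d : ℕ) (heven : Even (orderOf (q : ZMod r)))
    (hle : orderOf (q : ZMod r) ≤ 2 * d) :
    ∃ x : Matrix.symplecticGroup (Fin d) F, x ^ r = 1 ∧
      Matrix.toLin' (x : Matrix (Fin d ⊕ Fin d) (Fin d ⊕ Fin d) F) ≠ 1 ∧
      2 * d < finrank F (LinearMap.ker
        (Matrix.toLin' (x : Matrix (Fin d ⊕ Fin d) (Fin d ⊕ Fin d) F) - 1)) +
        2 * orderOf (q : ZMod r) := by
  classical
  have hr : r.Prime := Fact.out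
  have hrF : (r : F) ≠ 0 := cast_ne_zero_of_prime_ne hr hrp
  have hi0 : 0 < orderOf (q : ZMod r) := by
    have := Cfsg.Agent.Helper13.POS.orderOf_card_pos (F := F) r hrF
    rwa [hF] at this
  set i := orderOf (q : ZMod r) with hi
  obtain ⟨i', hi'⟩ := heven
  have hcard := cycFactors_card (F := F) hF hr hrp
  have hne : (cycFactors F r).Nonempty := by
    rw [← Finset.card_pos]
    by_contra h
    have h0 : (cycFactors F r).card = 0 := by omega
    rw [h0, zero_mul] at hcard
    have := hr.two_le
    omega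
  obtain ⟨f, hf⟩ := hne
  have hfirr := cycFactors_irreducible hf
  have hfmon := cycFactors_monic hf
  have hfdvd : f ∣ X ^ r - 1 := cycFactors_dvd_X_pow hf
  have hfd : dualPoly r f = f := dualPoly_eq_self_of_even hF hr hi0 ⟨i', hi'⟩ hf
  have hroot := root_pow_ne_root hr hr2 hrp hf
  obtain ⟨V₂, _, _, _, A₂, B₂, hA₂r, hAB₂, hA₂c⟩ :=
    sreal_selfdual hr.one_le hfirr hfmon hfdvd hfd hroot
  have hdim₂ : finrank F V₂ = i := by
    rw [← LinearMap.charpoly_natDegree A₂, hA₂c, cycFactors_natDegree hF hr hrp hf]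
  have hfix₂ : ∀ v, A₂ v = v → v = 0 := by
    intro v hv
    by_contra hv0
    have h1 : A₂.HasEigenvalue 1 := by
      apply Module.End.hasEigenvalue_of_hasEigenvector (x := v)
      refine ⟨?_, hv0⟩
      rw [Module.End.mem_eigenspace_iff, one_smul]
      exact hv
    rw [Module.End.hasEigenvalue_iff_isRoot_charpoly, hA₂c] at h1
    exact cycFactors_eval_one_ne_zero hr hrp hf h1
  -- the trivial part
  set k := d - i' with hk
  have hkd : 2 * k + i = 2 * d := by omega
  set B₁ := sympBil k F with hB₁
  set A : Module.End F ((Fin k ⊕ Fin k → F) × V₂) :=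
    (LinearMap.id : Module.End F (Fin k ⊕ Fin k → F)).prodMap A₂ with hA
  set B := sumForm B₁ B₂ with hB
  have hAapp : ∀ z, A z = (z.1, A₂ z.2) := fun z => rfl
  have hAB : AltInv A B := by
    refine ⟨?_, ?_, ?_⟩
    · intro u
      rw [hB, sumForm_apply, hAB₂.alt, hB₁, sympBil_isAlt k u.1, add_zero]
    · rintro ⟨x, y⟩ h
      have hx : x = 0 := by
        apply (sympBil_nondegenerate (F := F) k).1
        intro v
        have := h (v, 0)
        rw [hB, sumForm_apply] at this
        simpa using this
      have hy : y = 0 := by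
        apply hAB₂.nondeg
        intro v
        have := h (0, v)
        rw [hB, sumForm_apply] at this
        simpa using this
      rw [hx, hy]
      rfl
    · intro u v
      rw [hB, sumForm_apply, sumForm_apply, hAapp, hAapp]
      show B₁ u.1 v.1 + B₂ (A₂ u.2) (A₂ v.2) = _
      rw [hAB₂.inv]
  have hfin : finrank F ((Fin k ⊕ Fin k → F) × V₂) = 2 * d := by
    rw [Module.finrank_prod, hdim₂, Module.finrank_fintype_fun_eq_card, Fintype.card_sum,
      Fintype.card_fin]
    omega
  obtain ⟨g, e, he, hge⟩ := exists_matrix_conj A B hAB d hfin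
  have hAr : A ^ r = 1 := by
    rw [hA, prodMap_pow, hA₂r]
    apply LinearMap.ext
    rintro ⟨x, y⟩
    simp
  have hgpow : ∀ n : ℕ, ∀ v,
      ((Matrix.toLin' (g : Matrix (Fin d ⊕ Fin d) (Fin d ⊕ Fin d) F)) ^ n) (e v) =
        e ((A ^ n) v) := by
    intro n
    induction n with
    | zero => intro v; simp
    | succ n ih =>
      intro v
      rw [pow_succ, Module.End.mul_apply, hge, ih, pow_succ, Module.End.mul_apply]
  refine ⟨g, ?_, ?_, ?_⟩
  · apply Subtype.ext
    rw [SubmonoidClass.coe_pow]
    apply Matrix.toLin'.injective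
    rw [Matrix.toLin'_pow]
    apply LinearMap.ext
    intro w
    obtain ⟨v, rfl⟩ := e.surjective w
    rw [hgpow, hAr]
    simp
  · intro h1
    -- a nonzero vector of V₂
    have hpos : 0 < finrank F V₂ := by rw [hdim₂]; exact hi0
    obtain ⟨v, hv⟩ := Module.finrank_pos_iff_exists_ne_zero.1 hpos
    apply hv
    apply hfix₂
    have h2 := hge ((0 : Fin k ⊕ Fin k → F), v)
    rw [h1, Module.End.one_apply] at h2
    have h3 := e.injective h2
    rw [hAapp] at h3
    exact (congrArg Prod.snd h3).symm
  · set S : Submodule F ((Fin k ⊕ Fin k → F) × V₂) :=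
      LinearMap.range (LinearMap.inl F (Fin k ⊕ Fin k → F) V₂) with hS
    have hSdim : finrank F S = 2 * k := by
      rw [hS, LinearMap.finrank_range_of_inj LinearMap.inl_injective,
        Module.finrank_fintype_fun_eq_card, Fintype.card_sum, Fintype.card_fin, two_mul]
    have hle' : S.map (e : ((Fin k ⊕ Fin k → F) × V₂) →ₗ[F] (Fin d ⊕ Fin d → F)) ≤
        LinearMap.ker (Matrix.toLin' (g : Matrix (Fin d ⊕ Fin d) (Fin d ⊕ Fin d) F) - 1) := by
      rintro _ ⟨z, ⟨x, rfl⟩, rfl⟩
      rw [LinearMap.mem_ker, LinearMap.sub_apply, Module.End.one_apply, sub_eq_zero]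
      show Matrix.toLin' _ (e _) = e _
      rw [hge, hAapp]
      congr 1
      simp
    have hmapdim : finrank F ↥(S.map
        (e : ((Fin k ⊕ Fin k → F) × V₂) →ₗ[F] (Fin d ⊕ Fin d → F))) = 2 * k := by
      rw [← hSdim]
      exact (Submodule.equivMapOfInjective _ e.injective S).symm.finrank_eq
    have := Submodule.finrank_mono hle'
    rw [hmapdim] at this
    omega

end element

end Cfsg.Agent.Helper13.SympDer
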