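import Mathlib
import Cfsg.Agent.Lib.Helper13.SpTi9
import Cfsg.Agent.Lib.Helper13.SympDerangeElt

set_option autoImplicit false
set_option linter.unusedSectionVars false

/-!
# Invariant nondegenerate subspaces of symplectic spaces: general constructions
-/

namespace Cfsg.Agent.Helper13.SpNd

open Polynomial Module Cfsg.Agent.Helper13.SS Cfsg.Agent.Helper13.Dual
  Cfsg.Agent.Helper13.SympSS Cfsg.Agent.Helper13.SpDec Cfsg.Agent.Helper13.SlDec
  Cfsg.Agent.Helper13.SpTi Cfsg.Agent.Helper28.SympIso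
open scoped Classical

universe u

section basic
variable {F : Type*} [Field F] {V : Type*} [AddCommGroup V] [Module F V]

/-- nondegeneracy of the restriction of a form to a submodule -/
def NdOn (B : LinearMap.BilinForm F V) (W : Submodule F V) : Prop :=
  ∀ u ∈ W, (∀ v ∈ W, B u v = 0) → u = 0

/-- the endomorphism `A` leaves invariant a nondegenerate subspace of dimension `m` -/
def FixN (B : LinearMap.BilinForm F V) (A : Module.End F V) (m : ℕ) : Prop :=
  ∃ W : Submodule F V, finrank F W = m ∧ NdOn B W ∧ ∀ v ∈ W, A v ∈ W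

theorem ndOn_iff (B : LinearMap.BilinForm F V) (W : Submodule F V) :
    (∀ u ∈ W, u ≠ 0 → ∃ v ∈ W, B u v ≠ 0) ↔ NdOn B W := by
  constructor
  · intro h u hu huv
    by_contra hne
    obtain ⟨v, hv, hne'⟩ := h u hu hne
    exact hne' (huv v hv)
  · intro h u hu hne
    by_contra hcon
    push Not at hcon
    exact hne (h u hu hcon)

variable (B : LinearMap.BilinForm F V)

theorem skew' (hB : ∀ u, B u u = 0) (u v : V) : B u v = - B v u := by
  have h1 : LinearMap.IsAlt B := hB
  exact (LinearMap.IsAlt.neg h1 v u).symm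

theorem ndOn_bot : NdOn B ⊥ := by
  intro u hu _
  exact (Submodule.mem_bot F).1 hu

theorem ndOn_top (hnd : ∀ u, (∀ v, B u v = 0) → u = 0) : NdOn B ⊤ := by
  intro u _ h
  exact hnd u (fun v => h v trivial)

theorem mem_orth {W : Submodule F V} {u : V} :
    u ∈ B.orthogonal W ↔ ∀ w ∈ W, B w u = 0 :=
  LinearMap.BilinForm.mem_orthogonal_iff

theorem isCompl_orth [FiniteDimensional F V] (hB : ∀ u, B u u = 0) (W : Submodule F V)
    (hW : NdOn B W) : IsCompl W (B.orthogonal W) := by
  have h1 : LinearMap.IsAlt B := hB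
  apply LinearMap.BilinForm.isCompl_orthogonal_of_restrict_nondegenerate h1.isRefl
  constructor
  · intro x hx
    apply Subtype.ext
    apply hW x x.2
    intro v hv
    exact hx ⟨v, hv⟩
  · intro x hx
    apply Subtype.ext
    apply hW x x.2
    intro v hv
    have := hx ⟨v, hv⟩
    rw [skew' B hB]
    show -(B v x) = 0
    have h2 : B v x = 0 := this
    rw [h2, neg_zero]

theorem ndOn_orth [FiniteDimensional F V] (hB : ∀ u, B u u = 0)
    (hnd : ∀ u, (∀ v, B u v = 0) → u = 0) (W : Submodule F V) (hW : NdOn B W) :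
    NdOn B (B.orthogonal W) := by
  intro u hu h
  apply hnd
  intro z
  have hc := isCompl_orth B hB W hW
  have hz : z ∈ W ⊔ B.orthogonal W := by
    rw [hc.sup_eq_top]
    trivial
  obtain ⟨w, hw, w', hw', rfl⟩ := Submodule.mem_sup.1 hz
  rw [map_add, h w' hw', add_zero, skew' B hB, (mem_orth B).1 hu w hw, neg_zero]

theorem finrank_orth [FiniteDimensional F V] (hB : ∀ u, B u u = 0) (W : Submodule F V)
    (hW : NdOn B W) : finrank F W + finrank F (B.orthogonal W) = finrank F V :=
  Submodule.finrank_add_eq_of_isCompl (isCompl_orth B hB W hW)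

/-- the orthogonal complement of an invariant subspace is invariant -/
theorem orth_invariant [FiniteDimensional F V] {A : Module.End F V} (hAB : AltInv A B)
    (W : Submodule F V) (hWinv : ∀ v ∈ W, A v ∈ W) : ∀ v ∈ B.orthogonal W, A v ∈ B.orthogonal W := by
  have hinj : Function.Injective (A.restrict hWinv) := by
    intro a b hab
    apply Subtype.ext
    have h1 : A (a : V) = A (b : V) := congrArg Subtype.val hab
    have h2 : A ((a : V) - (b : V)) = 0 := by rw [map_sub, h1, sub_self]
    have h3 : (a : V) - (b : V) = 0 := by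
      apply hAB.nondeg
      intro v
      have hsurj : ∀ z : V, B ((a : V) - (b : V)) z = 0 ∨ True := fun z => Or.inr trivial
      -- use invariance: B (a-b) v = B (A (a-b)) (A v) = 0
      rw [← hAB.inv, h2]
      simp
    exact sub_eq_zero.1 h3
  have hsurj : Function.Surjective (A.restrict hWinv) :=
    LinearMap.surjective_of_injective hinj
  intro v hv
  rw [mem_orth] at hv ⊢
  intro w hw
  obtain ⟨w', hw'⟩ := hsurj ⟨w, hw⟩
  have h1 : A (w' : V) = w := congrArg Subtype.val hw'
  rw [← h1, hAB.inv]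
  exact hv _ w'.2

/-- the restriction of an isometry to an invariant nondegenerate subspace -/
theorem altInv_restrict {A : Module.End F V} (hAB : AltInv A B) (W : Submodule F V)
    (hW : NdOn B W) (hWinv : ∀ v ∈ W, A v ∈ W) :
    AltInv (A.restrict hWinv) (resForm B W) := by
  refine ⟨fun u => hAB.alt _, ?_, fun u v => ?_⟩
  · intro u hu
    apply Subtype.ext
    apply hW u u.2
    intro v hv
    exact hu ⟨v, hv⟩
  · rw [resForm_apply, resForm_apply]
    exact hAB.inv _ _

theorem ndOn_of_altInv {A : Module.End F V} (W : Submodule F V) (hWinv : ∀ v ∈ W, A v ∈ W)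
    (h : AltInv (A.restrict hWinv) (resForm B W)) : NdOn B W := by
  intro u hu huv
  have := h.nondeg ⟨u, hu⟩ (fun v => huv v v.2)
  exact congrArg Subtype.val this

end basic

section fix
variable {F : Type*} [Field F] {V : Type*} [AddCommGroup V] [Module F V]
variable (B : LinearMap.BilinForm F V) (A : Module.End F V)

theorem FixN.zero : FixN B A 0 :=
  ⟨⊥, finrank_bot F V, ndOn_bot B, fun v hv => by
    rw [(Submodule.mem_bot F).1 hv, map_zero]
    exact Submodule.zero_mem _⟩

theorem FixN.top (hnd : ∀ u, (∀ v, B u v = 0) → u = 0) : FixN B A (finrank F V) :=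
  ⟨⊤, finrank_top F V, ndOn_top B hnd, fun _ _ => trivial⟩

/-- subspaces of an invariant subspace -/
theorem FixN.of_sub (V₁ : Submodule F V) (hV₁ : ∀ v ∈ V₁, A v ∈ V₁) (m : ℕ)
    (h : FixN (resForm B V₁) (A.restrict hV₁) m) : FixN B A m := by
  obtain ⟨W, hWm, hWnd, hWinv⟩ := h
  refine ⟨W.map V₁.subtype, ?_, ?_, ?_⟩
  · rw [Submodule.finrank_map_subtype_eq, hWm]
  · rintro _ ⟨u, hu, rfl⟩ h
    have : u = 0 := by
      apply hWnd u hu
      intro v hv
      rw [resForm_apply]
      exact h _ ⟨v, hv, rfl⟩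
    rw [this, map_zero]
  · rintro _ ⟨u, hu, rfl⟩
    exact ⟨A.restrict hV₁ u, hWinv u hu, rfl⟩

/-- orthogonal sums -/
theorem FixN.osum [FiniteDimensional F V] (hB : ∀ u, B u u = 0) (W₁ W₂ : Submodule F V)
    (h₁ : NdOn B W₁) (h₂ : NdOn B W₂) (horth : ∀ u ∈ W₁, ∀ v ∈ W₂, B u v = 0)
    (hinv₁ : ∀ v ∈ W₁, A v ∈ W₁) (hinv₂ : ∀ v ∈ W₂, A v ∈ W₂) :
    FixN B A (finrank F W₁ + finrank F W₂) := by
  have horth' : ∀ u ∈ W₂, ∀ v ∈ W₁, B u v = 0 := by
    intro u hu v hv
    rw [skew' B hB, horth v hv u hu, neg_zero]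
  have hdisj : W₁ ⊓ W₂ = ⊥ := by
    rw [eq_bot_iff]
    rintro x ⟨hx1, hx2⟩
    rw [Submodule.mem_bot]
    apply h₁ x hx1
    intro v hv
    exact horth' x hx2 v hv
  refine ⟨W₁ ⊔ W₂, ?_, ?_, ?_⟩
  · have := Submodule.finrank_sup_add_finrank_inf_eq W₁ W₂
    rw [hdisj, finrank_bot, add_zero] at this
    exact this
  · intro u hu h
    obtain ⟨a, ha, b, hb, rfl⟩ := Submodule.mem_sup.1 hu
    have ha0 : a = 0 := by
      apply h₁ a ha
      intro v hv
      have := h v (Submodule.mem_sup_left hv)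
      rwa [map_add, LinearMap.add_apply, horth' b hb v hv, add_zero] at this
    have hb0 : b = 0 := by
      apply h₂ b hb
      intro v hv
      have := h v (Submodule.mem_sup_right hv)
      rwa [map_add, LinearMap.add_apply, horth a ha v hv, zero_add] at this
    rw [ha0, hb0, add_zero]
  · intro v hv
    obtain ⟨a, ha, b, hb, rfl⟩ := Submodule.mem_sup.1 hv
    rw [map_add]
    exact Submodule.add_mem _ (Submodule.mem_sup_left (hinv₁ a ha))
      (Submodule.mem_sup_right (hinv₂ b hb))

/-- orthogonal complements -/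
theorem FixN.compl [FiniteDimensional F V] (hAB : AltInv A B) (m : ℕ) (h : FixN B A m) :
    FixN B A (finrank F V - m) := by
  obtain ⟨W, hWm, hWnd, hWinv⟩ := h
  refine ⟨B.orthogonal W, ?_, ndOn_orth B hAB.alt hAB.nondeg W hWnd,
    orth_invariant B hAB W hWinv⟩
  have := finrank_orth B hAB.alt W hWnd
  omega

end fix

section conv
variable {F : Type u} [Field F] [Fintype F] {d : ℕ}

theorem fixn_iff (x : Matrix.symplecticGroup (Fin d) F) (m : ℕ) :
    (∃ W : Submodule F (Fin d ⊕ Fin d → F), finrank F W = m ∧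
      (∀ u ∈ W, u ≠ 0 → ∃ v ∈ W, Cfsg.sympForm d F u v ≠ 0) ∧
      W.map (Matrix.toLin' (x : Matrix (Fin d ⊕ Fin d) (Fin d ⊕ Fin d) F)) ≤ W) ↔
    FixN (sympBil d F) (LS x) m := by
  unfold FixN
  simp only [← ndOn_iff, sympBil_apply, map_le_iff]

end conv

end Cfsg.Agent.Helper13.SpNd
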