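import Mathlib
import Cfsg.Agent.Lib.Helper13.SpNd1
import Cfsg.Agent.Lib.Helper13.OrthNd6
import Cfsg.Agent.Lib.Helper11.AltForm

set_option autoImplicit false
set_option linter.unusedSectionVars false

/-!
# The set of nondegenerate subspaces of a symplectic space: Witt's theorem and counting
-/

namespace Cfsg.Agent.Helper13.SpNd

open Polynomial Module Cfsg.Agent.Helper13.SS Cfsg.Agent.Helper13.Dual
  Cfsg.Agent.Helper13.SympSS Cfsg.Agent.Helper13.SpDec Cfsg.Agent.Helper13.SlDec
  Cfsg.Agent.Helper13.SpTi Cfsg.Agent.Helper28.SympIso Cfsg.Agent.Helper28.IsoGrp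
open scoped Classical

universe u

section sub
variable {F : Type u} [Field F] {V : Type u} [AddCommGroup V] [Module F V]

/-- the nondegenerate subspaces of dimension `m` -/
abbrev NdSubS (B : LinearMap.BilinForm F V) (m : ℕ) :=
  {W : Submodule F V // finrank F W = m ∧ NdOn B W}

variable (B : LinearMap.BilinForm F V)

theorem ndsubS_map (g : V ≃ₗ[F] V) (hg : ∀ x y, B (g x) (g y) = B x y) (m : ℕ)
    (W : Submodule F V) (hW : finrank F W = m ∧ NdOn B W) :
    finrank F (W.map (g : V →ₗ[F] V)) = m ∧ NdOn B (W.map (g : V →ₗ[F] V)) := by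
  refine ⟨?_, ?_⟩
  · rw [LinearEquiv.finrank_map_eq g W]
    exact hW.1
  · rintro _ ⟨u, hu, rfl⟩ h
    have : u = 0 := by
      apply hW.2 u hu
      intro v hv
      have h1 := h _ ⟨v, hv, rfl⟩
      have h2 : B (g u) (g v) = 0 := h1
      rwa [hg] at h2
    rw [this, map_zero]

/-- nondegenerate subspaces inside a subspace -/
noncomputable def ndsubSEquiv (V₁ : Submodule F V) (m : ℕ) :
    {W : NdSubS B m // W.1 ≤ V₁} ≃ NdSubS (resForm B V₁) m where
  toFun := fun W => ⟨W.1.1.comap V₁.subtype, by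
    refine ⟨?_, ?_⟩
    · rw [(Submodule.comapSubtypeEquivOfLe W.2).finrank_eq]
      exact W.1.2.1
    · intro u hu h
      apply Subtype.ext
      apply W.1.2.2 (u : V) hu
      intro v hv
      have := h ⟨v, W.2 hv⟩ hv
      rwa [resForm_apply] at this⟩
  invFun := fun W' => ⟨⟨W'.1.map V₁.subtype, by
    refine ⟨?_, ?_⟩
    · rw [Submodule.finrank_map_subtype_eq]
      exact W'.2.1
    · rintro _ ⟨u, hu, rfl⟩ h
      have : u = 0 := by
        apply W'.2.2 u hu
        intro v hv
        rw [resForm_apply]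
        exact h _ ⟨v, hv, rfl⟩
      rw [this, map_zero]⟩,
    Submodule.map_subtype_le V₁ W'.1⟩
  left_inv := fun W => by
    apply Subtype.ext
    apply Subtype.ext
    show (W.1.1.comap V₁.subtype).map V₁.subtype = W.1.1
    rw [Submodule.map_comap_subtype]
    exact inf_eq_right.2 W.2
  right_inv := fun W' => by
    apply Subtype.ext
    show (W'.1.map V₁.subtype).comap V₁.subtype = W'.1
    exact Submodule.comap_map_eq_of_injective (Submodule.injective_subtype V₁) W'.1

theorem pow_inv {A : Module.End F V} (hAB : AltInv A B) (j : ℕ) (x y : V) :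
    B ((A ^ j) x) ((A ^ j) y) = B x y := by
  induction j with
  | zero => rfl
  | succ j ih =>
    rw [pow_succ', Module.End.mul_apply, Module.End.mul_apply, hAB.inv, ih]

/-- the fixed space of a semisimple isometry is nondegenerate -/
theorem ndOn_fixed {A : Module.End F V} (hAB : AltInv A B) (r : ℕ) (hAr : A ^ r = 1)
    (hrF : (r : F) ≠ 0) : NdOn B (LinearMap.ker (aeval A (X - 1 : F[X]))) := by
  set N : Module.End F V := ∑ j ∈ Finset.range r, A ^ j with hN
  have hAN : A * N = N := by
    have h1 := mul_geom_sum A r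
    rw [hAr, sub_self, sub_mul, one_mul, sub_eq_zero] at h1
    exact h1
  intro v hv h
  apply hAB.nondeg
  intro x
  have hvf : A v = v := (Cfsg.Agent.Helper13.OrthNd.mem_fix A _).1 hv
  have hNx : N x ∈ LinearMap.ker (aeval A (X - 1 : F[X])) := by
    rw [Cfsg.Agent.Helper13.OrthNd.mem_fix, ← Module.End.mul_apply, hAN]
  have h1 := h (N x) hNx
  have h2 : B v (N x) = (r : F) * B v x := by
    have h3 : N x = ∑ j ∈ Finset.range r, (A ^ j) x := by
      rw [hN, LinearMap.sum_apply]
    rw [h3, map_sum]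
    have h5 : ∀ j ∈ Finset.range r, B v ((A ^ j) x) = B v x := by
      intro j _
      have := pow_inv B hAB j v x
      rwa [Cfsg.Agent.Helper13.OrthNd.pow_apply_fix A _ hvf j] at this
    rw [Finset.sum_congr rfl h5, Finset.sum_const, Finset.card_range, nsmul_eq_mul]
  rw [h2] at h1
  rcases mul_eq_zero.1 h1 with h | h
  · exact absurd h hrF
  · exact h

end sub

section witt
variable {F : Type u} [Field F] {V : Type u} [AddCommGroup V] [Module F V]
  [FiniteDimensional F V]
variable (B : LinearMap.BilinForm F V)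

theorem even_finrank_of_ndOn (hB : ∀ u, B u u = 0) (W : Submodule F V) (hW : NdOn B W) :
    Even (finrank F W) := by
  apply Cfsg.Agent.Helper11.even_finrank_of_nondegenerate_isAlt (resForm B W)
  · constructor
    · intro x hx
      apply Subtype.ext
      apply hW x x.2
      intro v hv
      exact hx ⟨v, hv⟩
    · intro x hx
      apply Subtype.ext
      apply hW x x.2
      intro v hv
      have h2 : B v x = 0 := hx ⟨v, hv⟩
      rw [skew' B hB, h2, neg_zero]
  · intro x
    exact hB _

/-- nondegenerate subspaces of the same dimension are isometric -/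
theorem exists_sub_iso (hB : ∀ u, B u u = 0) (W W' : Submodule F V) (hW : NdOn B W)
    (hW' : NdOn B W') (hdim : finrank F W = finrank F W') :
    ∃ e : W ≃ₗ[F] W', ∀ x y : W, B (e x : V) (e y : V) = B (x : V) (y : V) := by
  obtain ⟨k, hk⟩ := even_finrank_of_ndOn B hB W hW
  have hk2 : finrank F W = 2 * k := by omega
  have hnd : ∀ (U : Submodule F V), NdOn B U → (resForm B U).Nondegenerate := by
    intro U hU
    constructor
    · intro x hx
      apply Subtype.ext
      apply hU x x.2
      intro v hv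
      exact hx ⟨v, hv⟩
    · intro x hx
      apply Subtype.ext
      apply hU x x.2
      intro v hv
      have h2 : B v x = 0 := hx ⟨v, hv⟩
      rw [skew' B hB, h2, neg_zero]
  obtain ⟨e₁, he₁⟩ := exists_symp_equiv (resForm B W) (fun x => hB _) (hnd W hW) k hk2
  obtain ⟨e₂, he₂⟩ := exists_symp_equiv (resForm B W') (fun x => hB _) (hnd W' hW') k
    (by omega)
  refine ⟨e₁.trans e₂.symm, ?_⟩
  intro x y
  have h1 := he₂ (e₂.symm (e₁ x)) (e₂.symm (e₁ y))
  rw [e₂.apply_symm_apply, e₂.apply_symm_apply, he₁, resForm_apply, resForm_apply] at h1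
  exact h1.symm

/-- Witt's theorem for nondegenerate subspaces -/
theorem exists_iso_map (hB : ∀ u, B u u = 0) (hnd : ∀ u, (∀ v, B u v = 0) → u = 0)
    (W W' : Submodule F V) (hW : NdOn B W) (hW' : NdOn B W')
    (hdim : finrank F W = finrank F W') :
    ∃ g : V ≃ₗ[F] V, (∀ x y, B (g x) (g y) = B x y) ∧ W.map (g : V →ₗ[F] V) = W' := by
  set C := B.orthogonal W with hC
  set C' := B.orthogonal W' with hC'
  have hc : IsCompl W C := isCompl_orth B hB W hW
  have hc' : IsCompl W' C' := isCompl_orth B hB W' hW'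
  have hndC : NdOn B C := ndOn_orth B hB hnd W hW
  have hndC' : NdOn B C' := ndOn_orth B hB hnd W' hW'
  have hdimC : finrank F C = finrank F C' := by
    have h1 : finrank F W + finrank F C = finrank F V := finrank_orth B hB W hW
    have h3 : finrank F W' + finrank F C' = finrank F V := finrank_orth B hB W' hW'
    omega
  obtain ⟨e₁, he₁⟩ := exists_sub_iso B hB W W' hW hW' hdim
  obtain ⟨e₂, he₂⟩ := exists_sub_iso B hB C C' hndC hndC' hdimC
  set Φ := Submodule.prodEquivOfIsCompl W C hc with hΦ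
  set Φ' := Submodule.prodEquivOfIsCompl W' C' hc' with hΦ'
  have hΦa : ∀ z : W × C, Φ z = (z.1 : V) + (z.2 : V) := fun z => by
    rw [hΦ, Submodule.coe_prodEquivOfIsCompl']
  have hΦ'a : ∀ z : W' × C', Φ' z = (z.1 : V) + (z.2 : V) := fun z => by
    rw [hΦ', Submodule.coe_prodEquivOfIsCompl']
  have hBΦ : ∀ z z' : W × C, B (Φ z) (Φ z') = B (z.1 : V) (z'.1 : V) + B (z.2 : V) (z'.2 : V) := by
    intro z z'
    rw [hΦa, hΦa]
    simp only [map_add, LinearMap.add_apply]
    have h1 : B (z.1 : V) (z'.2 : V) = 0 := (mem_orth B).1 z'.2.2 _ z.1.2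
    have h2 : B (z.2 : V) (z'.1 : V) = 0 := by
      rw [skew' B hB, (mem_orth B).1 z.2.2 _ z'.1.2, neg_zero]
    rw [h1, h2]
    ring
  have hBΦ' : ∀ z z' : W' × C', B (Φ' z) (Φ' z') =
      B (z.1 : V) (z'.1 : V) + B (z.2 : V) (z'.2 : V) := by
    intro z z'
    rw [hΦ'a, hΦ'a]
    simp only [map_add, LinearMap.add_apply]
    have h1 : B (z.1 : V) (z'.2 : V) = 0 := (mem_orth B).1 z'.2.2 _ z.1.2
    have h2 : B (z.2 : V) (z'.1 : V) = 0 := by
      rw [skew' B hB, (mem_orth B).1 z.2.2 _ z'.1.2, neg_zero]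
    rw [h1, h2]
    ring
  refine ⟨Φ.symm.trans ((e₁.prodCongr e₂).trans Φ'), ?_, ?_⟩
  · intro x y
    show B (Φ' ((e₁.prodCongr e₂) (Φ.symm x))) (Φ' ((e₁.prodCongr e₂) (Φ.symm y))) = B x y
    have hx : x = Φ (Φ.symm x) := (Φ.apply_symm_apply x).symm
    have hy : y = Φ (Φ.symm y) := (Φ.apply_symm_apply y).symm
    conv_rhs => rw [hx, hy]
    rw [hBΦ', hBΦ]
    congr 1
    · exact he₁ _ _
    · exact he₂ _ _
  · apply le_antisymm
    · rintro _ ⟨w, hw, rfl⟩
      show Φ' ((e₁.prodCongr e₂) (Φ.symm w)) ∈ W'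
      have h1 : Φ.symm w = ((⟨w, hw⟩ : W), 0) :=
        Submodule.prodEquivOfIsCompl_symm_apply_left W C hc ⟨w, hw⟩
      rw [h1]
      show Φ' (e₁ ⟨w, hw⟩, e₂ 0) ∈ W'
      rw [map_zero, hΦ'a]
      simp
    · intro w' hw'
      refine ⟨((e₁.symm ⟨w', hw'⟩ : W) : V), (e₁.symm ⟨w', hw'⟩).2, ?_⟩
      show Φ' ((e₁.prodCongr e₂) (Φ.symm ((e₁.symm ⟨w', hw'⟩ : W) : V))) = w'
      have h1 : Φ.symm ((e₁.symm ⟨w', hw'⟩ : W) : V) = (e₁.symm ⟨w', hw'⟩, 0) :=
        Submodule.prodEquivOfIsCompl_symm_apply_left W C hc _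
      rw [h1]
      show Φ' (e₁ (e₁.symm ⟨w', hw'⟩), e₂ 0) = w'
      rw [map_zero, e₁.apply_symm_apply, hΦ'a]
      simp

end witt

section count
variable {F : Type u} [Field F] [Fintype F] {V : Type u} [AddCommGroup V] [Module F V]
  [FiniteDimensional F V]
variable (B : LinearMap.BilinForm F V)

theorem finite_ndsubS (m : ℕ) : Finite (NdSubS B m) := by
  haveI : Finite V := Module.finite_of_finite F
  apply Finite.of_injective (fun W : NdSubS B m => ((W.1 : Submodule F V) : Set V))
  intro W W' h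
  apply Subtype.ext
  exact SetLike.coe_injective h

/-- the number of nondegenerate subspaces divides the order of the isometry group -/
theorem card_ndsubS_dvd (hB : ∀ u, B u u = 0) (hnd : ∀ u, (∀ v, B u v = 0) → u = 0)
    (m : ℕ) (W₀ : NdSubS B m) : Nat.card (NdSubS B m) ∣ Nat.card (isoGrp B) := by
  haveI : Finite (V ≃ₗ[F] V) := Cfsg.Agent.Helper13.OrthNd.finite_linearEquiv
  letI act : MulAction (isoGrp B) (Submodule F V) :=
    { smul := fun g S => S.map ((g : V ≃ₗ[F] V) : V →ₗ[F] V)
      one_smul := fun S => by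
        show S.map ((1 : V ≃ₗ[F] V) : V →ₗ[F] V) = S
        exact Submodule.map_id S
      mul_smul := fun g h S => by
        show S.map (((g * h : isoGrp B) : V ≃ₗ[F] V) : V →ₗ[F] V) =
          (S.map ((h : V ≃ₗ[F] V) : V →ₗ[F] V)).map ((g : V ≃ₗ[F] V) : V →ₗ[F] V)
        rw [← Submodule.map_comp]
        rfl }
  have horb : ∀ S : Submodule F V, S ∈ MulAction.orbit (isoGrp B) W₀.1 ↔
      (finrank F S = m ∧ NdOn B S) := by
    intro S
    constructor
    · rintro ⟨g, rfl⟩
      exact ndsubS_map B g.1 g.2 m W₀.1 W₀.2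
    · rintro ⟨h1, h3⟩
      obtain ⟨g, hgB, hgW⟩ := exists_iso_map B hB hnd W₀.1 S W₀.2.2 h3 (by rw [W₀.2.1, h1])
      exact ⟨⟨g, hgB⟩, hgW⟩
  have hcard : Nat.card (NdSubS B m) = Nat.card (MulAction.orbit (isoGrp B) W₀.1) := by
    apply Nat.card_congr
    exact Equiv.subtypeEquivRight (fun S => (horb S).symm)
  rw [hcard]
  have h5 := Nat.card_congr (MulAction.orbitProdStabilizerEquivGroup (isoGrp B) W₀.1)
  rw [Nat.card_prod] at h5
  exact ⟨_, h5.symm⟩

/-- the number of nondegenerate subspaces is congruent to the number of invariant ones -/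
theorem card_ndsubS_modEq (A : Module.End F V) (hAB : AltInv A B) (r : ℕ) (hr : r.Prime)
    (hAr : A ^ r = 1) (m : ℕ) :
    Nat.card (NdSubS B m) ≡ Nat.card {W : NdSubS B m // W.1.map A = W.1} [MOD r] := by
  have hr1 : 1 ≤ r := hr.one_lt.le
  haveI : Fact r.Prime := ⟨hr⟩
  haveI : Finite (NdSubS B m) := finite_ndsubS B m
  haveI : Fintype (NdSubS B m) := Fintype.ofFinite _
  set f : Function.End (NdSubS B m) := fun W => ⟨W.1.map A,
    ndsubS_map B (Cfsg.Agent.Helper13.OrthNd.equivOfPow A r hr1 hAr) (fun x y => hAB.inv x y)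
      m W.1 W.2⟩ with hf
  have hfk : ∀ (k : ℕ) (W : NdSubS B m), ((f ^ k) W).1 = W.1.map (A ^ k) := by
    intro k
    induction k with
    | zero =>
      intro W
      show W.1 = W.1.map (LinearMap.id)
      rw [Submodule.map_id]
    | succ k ih =>
      intro W
      rw [pow_succ]
      show ((f ^ k) (f W)).1 = _
      rw [ih (f W)]
      show (W.1.map A).map (A ^ k) = _
      rw [← Submodule.map_comp, pow_succ]
      rfl
  have hfr : f ^ r ^ 1 = 1 := by
    funext W
    apply Subtype.ext
    rw [pow_one, hfk, hAr]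
    show W.1.map (LinearMap.id) = W.1
    rw [Submodule.map_id]
  have h1 := Equiv.Perm.card_fixedPoints_modEq (f := f) (p := r) (n := 1) hfr
  rw [Nat.card_eq_fintype_card]
  have h3 : Nat.card {W : NdSubS B m // W.1.map A = W.1} =
      Fintype.card (Function.fixedPoints f) := by
    rw [← Nat.card_eq_fintype_card]
    apply Nat.card_congr
    apply Equiv.subtypeEquivRight
    intro W
    show _ ↔ f W = W
    constructor
    · intro h
      exact Subtype.ext h
    · intro h
      exact congrArg Subtype.val h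
  rw [h3]
  exact h1

end count

end Cfsg.Agent.Helper13.SpNd
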