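import Mathlib
import Cfsg.Agent.Lib.Helper13.SpNd2
import Cfsg.Agent.Lib.Helper13.OrthTs6

set_option autoImplicit false
set_option linter.unusedSectionVars false

/-!
# Invariant nondegenerate subspaces of semisimple symplectic isometries of odd prime order
-/

namespace Cfsg.Agent.Helper13.SpNd

open Polynomial Module Cfsg.Agent.Helper13.SS Cfsg.Agent.Helper13.Dual
  Cfsg.Agent.Helper13.SympSS Cfsg.Agent.Helper13.SpDec Cfsg.Agent.Helper13.SlDec
  Cfsg.Agent.Helper13.SpTi Cfsg.Agent.Helper28.SympIso Cfsg.Agent.Helper28.IsoGrp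
  Cfsg.Agent.Helper13.OrthTs
open scoped Classical

universe u

section plane
variable {F : Type*} [Field F] {V : Type*} [AddCommGroup V] [Module F V]
variable (B : LinearMap.BilinForm F V)

/-- a hyperbolic pair spans a nondegenerate plane -/
theorem ndOn_span_pair (hB : ∀ u, B u u = 0) (u v : V) (h : B u v ≠ 0) :
    finrank F (Submodule.span F ({u, v} : Set V)) = 2 ∧
      NdOn B (Submodule.span F ({u, v} : Set V)) := by
  have hvu : B v u = - B u v := skew' B hB v u
  have hli : LinearIndependent F ![u, v] := by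
    rw [LinearIndependent.pair_iff]
    intro s t hst
    have h1 : B (s • u + t • v) v = 0 := by rw [hst]; simp
    have h2 : B (s • u + t • v) u = 0 := by rw [hst]; simp
    simp only [map_add, map_smul, LinearMap.add_apply, LinearMap.smul_apply, smul_eq_mul,
      hB, mul_zero, add_zero, zero_add] at h1 h2
    rw [hvu] at h2
    refine ⟨?_, ?_⟩
    · rcases mul_eq_zero.1 h1 with h3 | h3
      · exact h3
      · exact absurd h3 h
    · rcases mul_eq_zero.1 h2 with h3 | h3
      · exact h3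
      · exact absurd (neg_eq_zero.1 h3) h
  refine ⟨?_, ?_⟩
  · have := finrank_span_eq_card hli
    rw [Matrix.range_cons_cons_empty] at this
    rw [this]
    simp
  · intro w hw hall
    obtain ⟨a, b, rfl⟩ := Submodule.mem_span_pair.1 hw
    have h1 := hall v (Submodule.subset_span (by simp))
    have h2 := hall u (Submodule.subset_span (by simp))
    simp only [map_add, map_smul, LinearMap.add_apply, LinearMap.smul_apply, smul_eq_mul,
      hB, mul_zero, add_zero, zero_add] at h1 h2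
    rw [hvu] at h2
    have ha : a = 0 := by
      rcases mul_eq_zero.1 h1 with h3 | h3
      · exact h3
      · exact absurd h3 h
    have hb : b = 0 := by
      rcases mul_eq_zero.1 h2 with h3 | h3
      · exact h3
      · exact absurd (neg_eq_zero.1 h3) h
    rw [ha, hb, zero_smul, zero_smul, add_zero]

/-- every nonzero nondegenerate subspace contains a nondegenerate plane -/
theorem exists_plane_in (hB : ∀ u, B u u = 0) (U : Submodule F V) (hU : NdOn B U)
    (hne : U ≠ ⊥) : ∃ P : Submodule F V, P ≤ U ∧ finrank F P = 2 ∧ NdOn B P := by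
  obtain ⟨u, hu, hu0⟩ := (Submodule.ne_bot_iff U).1 hne
  have : ∃ v ∈ U, B u v ≠ 0 := by
    by_contra hcon
    push Not at hcon
    exact hu0 (hU u hu hcon)
  obtain ⟨v, hv, huv⟩ := this
  obtain ⟨h1, h2⟩ := ndOn_span_pair B hB u v huv
  refine ⟨Submodule.span F ({u, v} : Set V), ?_, h1, h2⟩
  rw [Submodule.span_le]
  intro z hz
  rcases hz with rfl | rfl
  · exact hu
  · exact hv

/-- nondegenerate subspaces of every even dimension -/
theorem fixN_one [FiniteDimensional F V] (hB : ∀ u, B u u = 0)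
    (hnd : ∀ u, (∀ v, B u v = 0) → u = 0) (s : ℕ) (hs : 2 * s ≤ finrank F V) :
    FixN B (1 : Module.End F V) (2 * s) := by
  induction s with
  | zero => exact FixN.zero B 1
  | succ s ih =>
    obtain ⟨W, hWm, hWnd, -⟩ := ih (by omega)
    have hC := ndOn_orth B hB hnd W hWnd
    have hfin := finrank_orth B hB W hWnd
    have hne : B.orthogonal W ≠ ⊥ := by
      intro h0
      rw [h0, finrank_bot] at hfin
      omega
    obtain ⟨P, hPle, hP2, hPnd⟩ := exists_plane_in B hB _ hC hne
    have := FixN.osum B 1 hB W P hWnd hPnd (fun u hu v hv => (mem_orth B).1 (hPle hv) u hu)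
      (fun v hv => hv) (fun v hv => hv)
    rw [hWm, hP2] at this
    have e : 2 * (s + 1) = 2 * s + 2 := by ring
    rw [e]
    exact this

end plane

section model
variable {F : Type u} [Field F] [Finite F]

theorem altInv_prod {V₁ V₂ : Type*} [AddCommGroup V₁] [Module F V₁] [AddCommGroup V₂]
    [Module F V₂] {y₁ : Module.End F V₁} {B₁ : LinearMap.BilinForm F V₁}
    {y₂ : Module.End F V₂} {B₂ : LinearMap.BilinForm F V₂} (h₁ : AltInv y₁ B₁)
    (h₂ : AltInv y₂ B₂) : AltInv (y₁.prodMap y₂) (sumForm B₁ B₂) := by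
  refine ⟨?_, ?_, ?_⟩
  · intro u
    rw [sumForm_apply, h₁.alt, h₂.alt, add_zero]
  · rintro ⟨a, b⟩ h
    have ha : a = 0 := by
      apply h₁.nondeg
      intro v
      have := h (v, 0)
      rw [sumForm_apply] at this
      simpa using this
    have hb : b = 0 := by
      apply h₂.nondeg
      intro v
      have := h (0, v)
      rw [sumForm_apply] at this
      simpa using this
    rw [ha, hb]
    rfl
  · intro u v
    rw [sumForm_apply, sumForm_apply]
    show B₁ (y₁ u.1) (y₁ v.1) + B₂ (y₂ u.2) (y₂ v.2) = _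
    rw [h₁.inv, h₂.inv]

/-- an isometry with the characteristic polynomial of an orthogonal sum fixes a nondegenerate
subspace of the dimension of the first summand -/
theorem fixN_of_model (M : ℕ) (hM : 1 ≤ M) (hMF : (M : F) ≠ 0)
    (S : Finset F[X]) (hirr : ∀ f ∈ S, Irreducible f) (hmon : ∀ f ∈ S, f.Monic)
    {V : Type u} [AddCommGroup V] [Module F V] [FiniteDimensional F V]
    (A : Module.End F V) (B : LinearMap.BilinForm F V) (hAB : AltInv A B)
    (hkA : aeval A (∏ f ∈ S, f) = 0)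
    {V₁ V₂ : Type u} [AddCommGroup V₁] [Module F V₁] [FiniteDimensional F V₁]
    [AddCommGroup V₂] [Module F V₂] [FiniteDimensional F V₂]
    (y₁ : Module.End F V₁) (B₁ : LinearMap.BilinForm F V₁) (hy₁ : AltInv y₁ B₁)
    (y₂ : Module.End F V₂) (B₂ : LinearMap.BilinForm F V₂) (hy₂ : AltInv y₂ B₂)
    (hyM : (y₁.prodMap y₂) ^ M = 1)
    (hky : aeval (y₁.prodMap y₂) (∏ f ∈ S, f) = 0)
    (hcp : y₁.charpoly * y₂.charpoly = A.charpoly) : FixN B A (finrank F V₁) := by
  have hyB := altInv_prod hy₁ hy₂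
  have hycp : (y₁.prodMap y₂).charpoly = A.charpoly := by
    rw [LinearMap.charpoly_prodMap, hcp]
  obtain ⟨Φ, hΦc, hΦ⟩ := exists_intertwining_iso_gen M hM hMF S hirr hmon A B (y₁.prodMap y₂)
    (sumForm B₁ B₂) hAB hyB hyM hkA hky hycp
  set L : V₁ →ₗ[F] V := (Φ : _ →ₗ[F] V) ∘ₗ LinearMap.inl F V₁ V₂ with hL
  have hLa : ∀ a, L a = Φ (a, 0) := fun a => rfl
  have hLinj : Function.Injective L := by
    intro a b h
    have := Φ.injective h
    exact congrArg Prod.fst this
  refine ⟨LinearMap.range L, LinearMap.finrank_range_of_inj hLinj, ?_, ?_⟩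
  · rintro _ ⟨a, rfl⟩ h
    have : a = 0 := by
      apply hy₁.nondeg
      intro b
      have := h (L b) ⟨b, rfl⟩
      rw [hLa, hLa, hΦ, sumForm_apply] at this
      simpa using this
    rw [this, map_zero]
  · rintro _ ⟨a, rfl⟩
    refine ⟨y₁ a, ?_⟩
    rw [hLa, hLa, ← hΦc]
    congr 1
    rw [LinearMap.prodMap_apply]
    simp

end model

section pattern
variable {F : Type u} [Field F] [Fintype F] {p : ℕ} [Fact p.Prime] [CharP F p] {r q : ℕ}

/-- an isometry of order `r` leaves invariant a nondegenerate subspace of each admissible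
shape -/
theorem fixN_of_sub_pattern (hF : Fintype.card F = q) (hr : r.Prime) (hr2 : r ≠ 2)
    (hrp : r ≠ p) {V : Type u} [AddCommGroup V] [Module F V] [FiniteDimensional F V]
    (A : Module.End F V) (B : LinearMap.BilinForm F V) (hAB : AltInv A B) (hAr : A ^ r = 1)
    (e₀ : ℕ) (k : ↥(cycFactors F r) → ℕ) (hk : ∀ a, k (starΦ hr hr2 hrp a) = k a)
    (hcp : A.charpoly = gPoly r e₀ k)
    (j : ↥(cycFactors F r) → ℕ) (hj : ∀ a, j (starΦ hr hr2 hrp a) = j a)
    (hjk : ∀ a, j a ≤ k a) (m₁ m₂ : ℕ) (hdim : finrank F V = 2 * m₁ + 2 * m₂)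
    (h1 : orderOf (q : ZMod r) * ∑ a, j a ≤ 2 * m₁)
    (h2 : orderOf (q : ZMod r) * ∑ a, (k a - j a) ≤ 2 * m₂) : FixN B A (2 * m₁) := by
  have hr1 : 1 ≤ r := hr.one_lt.le
  have hrF : (r : F) ≠ 0 := cast_ne_zero_of_prime_ne hr hrp
  have hi0 : 0 < orderOf (q : ZMod r) := pos_orderOf hF hr hrp
  set S := insert (X - 1 : F[X]) (cycFactors F r) with hS
  have hirr : ∀ f ∈ S, Irreducible f := fun f hf => insert_irreducible hf
  have e1 : (X - 1 : F[X]) = X - C 1 := by rw [map_one]
  have hmon : ∀ f ∈ S, f.Monic := by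
    intro f hf
    rcases Finset.mem_insert.1 hf with rfl | hf
    · rw [e1]
      exact monic_X_sub_C 1
    · exact cycFactors_monic hf
  have hkill : ∀ {U : Type u} [AddCommGroup U] [Module F U] (C : Module.End F U),
      C ^ r = 1 → aeval C (∏ f ∈ S, f) = 0 := by
    intro U _ _ C hC
    rw [hS, X_sub_one_mul_prod hr hrp, map_sub, map_pow, aeval_X, map_one, hC, sub_self]
  have hfin := finrank_of_gPoly hF hr hrp A hAr e₀ k hcp
  set k₂ : ↥(cycFactors F r) → ℕ := fun a => k a - j a with hk₂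
  have hk₂s : ∀ a, k₂ (starΦ hr hr2 hrp a) = k₂ a := by
    intro a
    show k (starΦ hr hr2 hrp a) - j (starΦ hr hr2 hrp a) = k a - j a
    rw [hk, hj]
  have hsumk : ∑ a, j a + ∑ a, k₂ a = ∑ a, k a := by
    rw [← Finset.sum_add_distrib]
    apply Finset.sum_congr rfl
    intro a _
    have := hjk a
    show j a + (k a - j a) = k a
    omega
  obtain ⟨V₁, _, _, _, A₁, B₁, hA₁r, hAB₁, hA₁c⟩ :=
    sreal_primePoly (m := m₁) hF hr hr2 hrp hi0 j hj
  obtain ⟨V₂, _, _, _, A₂, B₂, hA₂r, hAB₂, hA₂c⟩ :=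
    sreal_primePoly (m := m₂) hF hr hr2 hrp hi0 k₂ hk₂s
  have hfin₁ : finrank F V₁ = 2 * m₁ := by
    rw [← LinearMap.charpoly_natDegree A₁, hA₁c, natDegree_primePoly hF hr hrp j h1]
  have hyM : (A₁.prodMap A₂) ^ r = 1 := by
    rw [prodMap_pow, hA₁r, hA₂r, prodMap_one_one]
  have hmul : orderOf (q : ZMod r) * ∑ a, j a + orderOf (q : ZMod r) * ∑ a, k₂ a =
      orderOf (q : ZMod r) * ∑ a, k a := by
    rw [← mul_add, hsumk]
  have h2' : orderOf (q : ZMod r) * ∑ a, k₂ a ≤ 2 * m₂ := h2
  have key : 2 * m₁ - orderOf (q : ZMod r) * ∑ a, j a +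
      (2 * m₂ - orderOf (q : ZMod r) * ∑ a, k₂ a) = e₀ := by omega
  have hcpm : A₁.charpoly * A₂.charpoly = A.charpoly := by
    rw [hA₁c, hA₂c, hcp, primePoly_eq_gPoly, primePoly_eq_gPoly, gPoly_mul]
    congr 1
    · funext a
      have := hjk a
      show j a + (k a - j a) = k a
      omega
  have := fixN_of_model r hr1 hrF S hirr hmon A B hAB (hkill _ hAr) A₁ B₁ hAB₁ A₂ B₂ hAB₂ hyM
    (hkill _ hyM) hcpm
  rwa [hfin₁] at this

/-- the shape of an invariant nondegenerate subspace -/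
theorem units_of_nd (hF : Fintype.card F = q) (hr : r.Prime) (hr2 : r ≠ 2) (hrp : r ≠ p)
    (i c : ℕ) (hi : i = orderOf (q : ZMod r)) (hc : c = if Even i then i else 2 * i)
    {V : Type u} [AddCommGroup V] [Module F V] [FiniteDimensional F V]
    (A : Module.End F V) (B : LinearMap.BilinForm F V) (hAB : AltInv A B) (hAr : A ^ r = 1)
    (W : Submodule F V) (hWinv : ∀ v ∈ W, A v ∈ W) (hWnd : NdOn B W) :
    ∃ e u, finrank F W = e + c * u ∧ e ≤ kdim A (X - 1) ∧
      (u = 0 → ∀ w ∈ W, A w = w) := by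
  have hA'r : (A.restrict hWinv) ^ r = 1 := restrict_pow_eq_one A hAr W hWinv
  have hAB' := altInv_restrict B hAB W hWnd hWinv
  obtain ⟨u, hu⟩ := exists_units hF hr hr2 hrp i c hi hc (A.restrict hWinv) _ hAB' hA'r
  refine ⟨kdim (A.restrict hWinv) (X - 1), u, hu,
    Cfsg.Agent.Helper13.OrthNd.kdim_restrict_le A W hWinv _, ?_⟩
  intro hu0 w hw
  rw [hu0, mul_zero, add_zero] at hu
  have htop : LinearMap.ker (aeval (A.restrict hWinv) (X - 1 : F[X])) = ⊤ :=
    Submodule.eq_top_of_finrank_eq hu.symm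
  have h1 : (⟨w, hw⟩ : W) ∈ LinearMap.ker (aeval (A.restrict hWinv) (X - 1 : F[X])) := by
    rw [htop]
    trivial
  rw [Cfsg.Agent.Helper13.OrthNd.mem_fix] at h1
  have := congrArg (Subtype.val) h1
  rwa [LinearMap.coe_restrict_apply] at this

end pattern

section count
variable {F : Type u} [Field F] [Fintype F] {p : ℕ} [Fact p.Prime] [CharP F p] {r q : ℕ}
  {V : Type u} [AddCommGroup V] [Module F V] [FiniteDimensional F V]

/-- the isometry group of a small space has no element of order `r` -/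
theorem no_order_of_smallS (hF : Fintype.card F = q) (hr : r.Prime) (hr2 : r ≠ 2) (hrp : r ≠ p)
    (i c : ℕ) (hi : i = orderOf (q : ZMod r)) (hc : c = if Even i then i else 2 * i)
    (B : LinearMap.BilinForm F V) (hB : ∀ u, B u u = 0)
    (hnd : ∀ u, (∀ v, B u v = 0) → u = 0) (hlt : finrank F V < c)
    (g : isoGrp B) (hg : orderOf g = r) : False := by
  have hr1 : 1 ≤ r := hr.one_lt.le
  set A : Module.End F V := ((g : V ≃ₗ[F] V) : V →ₗ[F] V) with hA
  have hgr : (g : V ≃ₗ[F] V) ^ r = 1 := by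
    have := pow_orderOf_eq_one g
    rw [hg] at this
    have h3 := congrArg (Subtype.val) this
    rwa [SubmonoidClass.coe_pow] at h3
  have hAr : A ^ r = 1 := by
    apply LinearMap.ext
    intro v
    rw [hA, ← Cfsg.Agent.Helper13.OrthNd.linearEquiv_pow_apply, hgr]
    rfl
  have hAB : AltInv A B := ⟨hB, hnd, fun u v => g.2 u v⟩
  obtain ⟨u, hu⟩ := exists_units hF hr hr2 hrp i c hi hc A B hAB hAr
  have hu0 : u = 0 := by
    rcases Nat.eq_zero_or_pos u with h | h
    · exact h
    · have : c ≤ c * u := Nat.le_mul_of_pos_right _ h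
      omega
  rw [hu0, mul_zero, add_zero] at hu
  have htop : LinearMap.ker (aeval A (X - 1 : F[X])) = ⊤ :=
    Submodule.eq_top_of_finrank_eq hu.symm
  have hg1 : g = 1 := by
    apply Subtype.ext
    apply LinearEquiv.ext
    intro v
    have h1 : v ∈ LinearMap.ker (aeval A (X - 1 : F[X])) := by
      rw [htop]
      trivial
    rw [Cfsg.Agent.Helper13.OrthNd.mem_fix] at h1
    exact h1
  rw [hg1, orderOf_one] at hg
  have := hr.one_lt
  omega

/-- in a small space the number of nondegenerate subspaces is prime to `r` -/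
theorem not_dvd_card_small (hF : Fintype.card F = q) (hr : r.Prime) (hr2 : r ≠ 2) (hrp : r ≠ p)
    (i c : ℕ) (hi : i = orderOf (q : ZMod r)) (hc : c = if Even i then i else 2 * i)
    (B : LinearMap.BilinForm F V) (hB : ∀ u, B u u = 0)
    (hnd : ∀ u, (∀ v, B u v = 0) → u = 0) (hlt : finrank F V < c)
    (m : ℕ) (W₀ : NdSubS B m) : ¬ r ∣ Nat.card (NdSubS B m) := by
  intro hdvd
  have : Finite (V ≃ₗ[F] V) := Cfsg.Agent.Helper13.OrthNd.finite_linearEquiv
  have : Fact r.Prime := ⟨hr⟩
  have h1 := dvd_trans hdvd (card_ndsubS_dvd B hB hnd m W₀)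
  obtain ⟨g, hg⟩ := exists_prime_orderOf_dvd_card' r h1
  exact no_order_of_smallS hF hr hr2 hrp i c hi hc B hB hnd hlt g hg

/-- the counting lemma: if some semisimple isometry has a small fixed space and the subspaces
are small, the number of subspaces is prime to `r` -/
theorem not_dvd_of_ltS (hF : Fintype.card F = q) (hr : r.Prime) (hr2 : r ≠ 2) (hrp : r ≠ p)
    (i c : ℕ) (hi : i = orderOf (q : ZMod r)) (hc : c = if Even i then i else 2 * i)
    (A : Module.End F V) (B : LinearMap.BilinForm F V) (hAB : AltInv A B) (hAr : A ^ r = 1)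
    (he₀ : kdim A (X - 1) < c) (m : ℕ) (hme : Even m) (hmc : m < c)
    (hm : m ≤ kdim A (X - 1)) : ¬ r ∣ Nat.card (NdSubS B m) := by
  have hr1 : 1 ≤ r := hr.one_lt.le
  have hrF : (r : F) ≠ 0 := cast_ne_zero_of_prime_ne hr hrp
  set V₁ : Submodule F V := LinearMap.ker (aeval A (X - 1 : F[X])) with hV₁
  have hV₁nd : NdOn B V₁ := ndOn_fixed B hAB r hAr hrF
  have hV₁inv : ∀ v ∈ V₁, A v ∈ V₁ := by
    intro v hv
    rw [hV₁, Cfsg.Agent.Helper13.OrthNd.mem_fix] at hv ⊢
    rw [hv, hv]
  have hAB₁ := altInv_restrict B hAB V₁ hV₁nd hV₁inv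
  have hsub : ∀ W : NdSubS B m, (∀ v ∈ W.1, A v ∈ W.1) → W.1 ≤ V₁ := by
    intro W hWinv
    obtain ⟨e, u, h1, -, hfix⟩ := units_of_nd hF hr hr2 hrp i c hi hc A B hAB hAr W.1 hWinv W.2.2
    rw [W.2.1] at h1
    have hu0 : u = 0 := by
      rcases Nat.eq_zero_or_pos u with h | h
      · exact h
      · have : c ≤ c * u := Nat.le_mul_of_pos_right _ h
        omega
    intro w hw
    rw [hV₁, Cfsg.Agent.Helper13.OrthNd.mem_fix]
    exact hfix hu0 w hw
  have hiff : ∀ W : NdSubS B m, W.1.map A = W.1 ↔ W.1 ≤ V₁ := by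
    intro W
    constructor
    · intro hWA
      apply hsub W
      intro v hv
      rw [← hWA]
      exact Submodule.mem_map_of_mem hv
    · intro hle
      apply le_antisymm
      · rintro _ ⟨w, hw, rfl⟩
        have : A w = w := (Cfsg.Agent.Helper13.OrthNd.mem_fix A w).1 (hle hw)
        rw [this]
        exact hw
      · intro w hw
        have : A w = w := (Cfsg.Agent.Helper13.OrthNd.mem_fix A w).1 (hle hw)
        exact ⟨w, hw, this⟩
  -- a nondegenerate `m`-subspace of the fixed space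
  obtain ⟨s, hs⟩ := hme
  have hfix1 : FixN (resForm B V₁) 1 (2 * s) :=
    fixN_one (resForm B V₁) hAB₁.alt hAB₁.nondeg s (by
      show 2 * s ≤ finrank F V₁
      have : finrank F V₁ = kdim A (X - 1) := rfl
      omega)
  obtain ⟨W₀, hW₀m, hW₀nd, -⟩ := hfix1
  have hm2 : m = 2 * s := by omega
  have hnd := not_dvd_card_small hF hr hr2 hrp i c hi hc (resForm B V₁) hAB₁.alt hAB₁.nondeg
    (by
      show finrank F V₁ < c
      exact he₀) m ⟨W₀, by rw [hm2]; exact hW₀m, hW₀nd⟩
  have hmod := card_ndsubS_modEq B A hAB r hr hAr m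
  have hcard : Nat.card {W : NdSubS B m // W.1.map A = W.1} =
      Nat.card (NdSubS (resForm B V₁) m) := by
    apply Nat.card_congr
    exact (Equiv.subtypeEquivRight hiff).trans (ndsubSEquiv B V₁ m)
  intro hdvd
  apply hnd
  rw [← hcard]
  exact (Nat.ModEq.dvd_iff hmod (dvd_refl r)).1 hdvd

end count

end Cfsg.Agent.Helper13.SpNd
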