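import Mathlib
import Cfsg.Agent.Lib.Helper13.SpNd3

set_option autoImplicit false
set_option linter.unusedSectionVars false

/-!
# Invariant nondegenerate subspaces: the criterion for semisimple elements of odd prime order
-/

namespace Cfsg.Agent.Helper13.SpNd

open Polynomial Module Cfsg.Agent.Helper13.SS Cfsg.Agent.Helper13.Dual
  Cfsg.Agent.Helper13.SympSS Cfsg.Agent.Helper13.SpDec Cfsg.Agent.Helper13.SlDec
  Cfsg.Agent.Helper13.SpTi Cfsg.Agent.Helper28.SympIso Cfsg.Agent.Helper28.IsoGrp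
  Cfsg.Agent.Helper13.OrthTs
open scoped Classical

universe u

section main
variable {F : Type u} [Field F] [Fintype F] {p : ℕ} [Fact p.Prime] [CharP F p] {r q : ℕ}

/-- sufficiency of the arithmetic condition -/
theorem ss_suff (hF : Fintype.card F = q) (hr : r.Prime) (hr2 : r ≠ 2) (hrp : r ≠ p)
    (i c : ℕ) (hi : i = orderOf (q : ZMod r)) (hc : c = if Even i then i else 2 * i)
    (d m : ℕ) (hme : Even m) (hmd : m ≤ 2 * d) (hcond : m % c ≤ (2 * d) % c)
    (x : Matrix.symplecticGroup (Fin d) F) (hx : x ^ r = 1) :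
    FixN (sympBil d F) (LS x) m := by
  have hi0 : 0 < orderOf (q : ZMod r) := pos_orderOf hF hr hrp
  have hinv := starΦ_involutive (F := F) hr hr2 hrp
  set A := LS x with hA
  have hAr : A ^ r = 1 := LS_pow_eq_one x r hx
  have hAB : AltInv A (sympBil d F) := LS_altInv x
  obtain ⟨k, hk, hfin, hcp⟩ := struct_altInv hF hr hr2 hrp A _ hAB hAr
  have hcp' : A.charpoly = gPoly r (kdim A (X - 1)) k := hcp
  rw [Module.finrank_fintype_fun_eq_card, Fintype.card_sum, Fintype.card_fin] at hfin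
  obtain ⟨t, ht⟩ := c_dvd_sum hF hr hr2 hrp i c hi hc k hk
  obtain ⟨w, hw, hcw⟩ := exists_weight hF hr hr2 hrp i c hi hc
  subst hi
  have hc0 : 0 < c := by
    rcases hw with ⟨-, rfl⟩ | ⟨-, rfl⟩ <;> omega
  obtain ⟨j, hj, hjk, hjle, hor⟩ := exists_peel _ hinv w hw k hk (m / c)
  obtain ⟨m₁, hm₁⟩ := hme
  have hmdiv : c * (m / c) + m % c = m := Nat.div_add_mod m c
  have hij : orderOf (q : ZMod r) * ∑ a, j a ≤ c * (m / c) := by
    have h := Nat.mul_le_mul_left (orderOf (q : ZMod r)) hjle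
    have e : orderOf (q : ZMod r) * (w * (m / c)) = c * (m / c) := by
      rw [hcw]
      ring
    rw [e] at h
    exact h
  have hsub : ∑ a, (k a - j a) = ∑ a, k a - ∑ a, j a :=
    Finset.sum_tsub_distrib _ (fun a _ => hjk a)
  have hfinV : finrank F (Fin d ⊕ Fin d → F) = 2 * m₁ + 2 * (d - m₁) := by
    rw [Module.finrank_fintype_fun_eq_card, Fintype.card_sum, Fintype.card_fin]
    omega
  have hmod : (2 * d) % c ≤ kdim A (X - 1) := by
    have h1 : 2 * d = kdim A (X - 1) + c * t := by omega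
    rw [h1, Nat.add_mul_mod_self_left]
    exact Nat.mod_le _ _
  have hgoal : FixN (sympBil d F) A (2 * m₁) := by
    apply fixN_of_sub_pattern hF hr hr2 hrp A _ hAB hAr _ k hk hcp' j hj hjk m₁ (d - m₁) hfinV
    · omega
    · rw [hsub]
      rcases hor with h | h
      · rw [h, Nat.sub_self, mul_zero]
        exact Nat.zero_le _
      · have h3 : orderOf (q : ZMod r) * ∑ a, j a = c * (m / c) := by
          rw [h, hcw]
          ring
        have h4 : orderOf (q : ZMod r) * (∑ a, k a - ∑ a, j a) =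
            orderOf (q : ZMod r) * ∑ a, k a - orderOf (q : ZMod r) * ∑ a, j a :=
          Nat.mul_sub _ _ _
        rw [h4, h3, ht]
        omega
  have e : m = 2 * m₁ := by omega
  rw [e]
  exact hgoal

/-- necessity of the arithmetic condition -/
theorem ss_nec (hF : Fintype.card F = q) (hr : r.Prime) (hr2 : r ≠ 2) (hrp : r ≠ p)
    (i c : ℕ) (hi : i = orderOf (q : ZMod r)) (hc : c = if Even i then i else 2 * i)
    (d m : ℕ) (hd : 0 < d) (hme : Even m) (hmd : m < d)
    (hrΩ : r ∣ Nat.card (NdSubS (sympBil d F) m))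
    (hall : ∀ x : Matrix.symplecticGroup (Fin d) F, x ^ r = 1 →
      (∀ z : F, (x : Matrix (Fin d ⊕ Fin d) (Fin d ⊕ Fin d) F) ≠ z • 1) →
      FixN (sympBil d F) (LS x) m) :
    c ≤ m ∧ m % c ≤ (2 * d) % c := by
  have hrodd : Odd r := hr.eq_two_or_odd'.resolve_left hr2
  have hi0 : 0 < orderOf (q : ZMod r) := pos_orderOf hF hr hrp
  obtain ⟨w, hw, hcw⟩ := exists_weight hF hr hr2 hrp i c hi hc
  have hc0 : 0 < c := by
    subst hi
    rcases hw with ⟨-, rfl⟩ | ⟨-, rfl⟩ <;> omega
  obtain ⟨x, hx, hxk⟩ := exists_unit_elt hF hr hr2 hrp i c hi hc d ((2 * d) / c)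
    (Nat.mul_div_le _ _)
  have hfix : kdim (LS x) (X - 1) = (2 * d) % c := by
    rw [hxk]
    have := Nat.div_add_mod (2 * d) c
    omega
  have hfixlt : kdim (LS x) (X - 1) < c := by
    rw [hfix]
    exact Nat.mod_lt _ hc0
  have hAr : LS x ^ r = 1 := LS_pow_eq_one x r hx
  have hAB : AltInv (LS x) (sympBil d F) := LS_altInv x
  have h1 : m % c ≤ (2 * d) % c := by
    by_contra hcon
    push Not at hcon
    have hc2d : c ≤ 2 * d := by
      by_contra hlt
      push Not at hlt
      rw [Nat.mod_eq_of_lt hlt] at hcon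
      have := Nat.mod_le m c
      omega
    have hlt2 : (2 * d) % c < 2 * d := by
      have := Nat.mod_lt (2 * d) hc0
      omega
    have hns := not_scalar hd r hrodd x hx (by omega)
    obtain ⟨W, hWm, hWnd, hWinv⟩ := hall x hx hns
    obtain ⟨e, u, h1, h2, -⟩ := units_of_nd hF hr hr2 hrp i c hi hc (LS x) _ hAB hAr W hWinv hWnd
    rw [hWm] at h1
    have h3 : m % c = e := by
      rw [h1, Nat.add_mul_mod_self_left]
      exact Nat.mod_eq_of_lt (by omega)
    omega
  refine ⟨?_, h1⟩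
  by_contra hlt
  push Not at hlt
  rw [Nat.mod_eq_of_lt hlt] at h1
  exact not_dvd_of_ltS hF hr hr2 hrp i c hi hc (LS x) _ hAB hAr hfixlt m hme hlt
    (by omega) hrΩ

end main

end Cfsg.Agent.Helper13.SpNd
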