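import Mathlib
import Cfsg.Agent.Lib.Helper13.SpNd4
import Cfsg.Agent.Lib.Helper13.SympMatrix

set_option autoImplicit false
set_option linter.unusedSectionVars false

/-!
# Invariant nondegenerate subspaces: involutions in odd characteristic
-/

namespace Cfsg.Agent.Helper13.SpNd

open Polynomial Module Cfsg.Agent.Helper13.SS Cfsg.Agent.Helper13.Dual
  Cfsg.Agent.Helper13.SympSS Cfsg.Agent.Helper13.SpDec Cfsg.Agent.Helper13.SlDec
  Cfsg.Agent.Helper13.SpTi Cfsg.Agent.Helper28.SympIso Cfsg.Agent.Helper28.IsoGrp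
open scoped Classical

universe u

section inv
variable {F : Type*} [Field F] {V : Type*} [AddCommGroup V] [Module F V]
variable (B : LinearMap.BilinForm F V) (A : Module.End F V)

/-- an invariant plane for an isometry with `A² = -1` -/
theorem exists_inv_plane_neg (h2 : (2 : F) ≠ 0) (hAB : AltInv A B)
    (hA2 : ∀ v, A (A v) = -v) (C : Submodule F V) (hC : NdOn B C)
    (hCinv : ∀ v ∈ C, A v ∈ C) (hne : C ≠ ⊥) :
    ∃ P : Submodule F V, P ≤ C ∧ finrank F P = 2 ∧ NdOn B P ∧ ∀ v ∈ P, A v ∈ P := by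
  have hsym : ∀ u v, B (A v) u = B (A u) v := by
    intro u v
    rw [skew' B hAB.alt, ← hAB.inv u (A v), hA2, map_neg, neg_neg]
  have hex : ∃ v ∈ C, B (A v) v ≠ 0 := by
    by_contra hcon
    push Not at hcon
    obtain ⟨u, hu, hu0⟩ := (Submodule.ne_bot_iff C).1 hne
    apply hu0
    have hAu : A u = 0 := by
      apply hC (A u) (hCinv u hu)
      intro v hv
      have h1 := hcon (u + v) (C.add_mem hu hv)
      simp only [map_add, LinearMap.add_apply, hcon u hu, hcon v hv, zero_add, add_zero] at h1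
      rw [hsym u v] at h1
      have h3 : (2 : F) * B (A u) v = 0 := by
        rw [two_mul]
        exact h1
      rcases mul_eq_zero.1 h3 with h | h
      · exact absurd h h2
      · exact h
    have := hA2 u
    rw [hAu, map_zero] at this
    exact neg_eq_zero.1 this.symm
  obtain ⟨v, hv, hvv⟩ := hex
  have hvA : B v (A v) ≠ 0 := by
    rw [skew' B hAB.alt]
    exact neg_ne_zero.2 hvv
  obtain ⟨h1, h3⟩ := ndOn_span_pair B hAB.alt v (A v) hvA
  refine ⟨Submodule.span F ({v, A v} : Set V), ?_, h1, h3, ?_⟩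
  · rw [Submodule.span_le]
    intro z hz
    rcases hz with rfl | rfl
    · exact hv
    · exact hCinv _ hv
  · intro w hw
    obtain ⟨a, b, rfl⟩ := Submodule.mem_span_pair.1 hw
    rw [map_add, map_smul, map_smul, hA2]
    apply Submodule.add_mem
    · exact Submodule.smul_mem _ _ (Submodule.subset_span (by simp))
    · exact Submodule.smul_mem _ _ (Submodule.neg_mem _ (Submodule.subset_span (by simp)))

/-- an invariant plane for an isometry with `A² = 1` -/
theorem exists_inv_plane_pos (h2 : (2 : F) ≠ 0) (hAB : AltInv A B)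
    (hA2 : ∀ v, A (A v) = v) (C : Submodule F V) (hC : NdOn B C)
    (hCinv : ∀ v ∈ C, A v ∈ C) (hne : C ≠ ⊥) :
    ∃ P : Submodule F V, P ≤ C ∧ finrank F P = 2 ∧ NdOn B P ∧ ∀ v ∈ P, A v ∈ P := by
  -- an eigenvector
  have hex : ∃ (ε : F) (e : V), ε * ε = 1 ∧ e ∈ C ∧ e ≠ 0 ∧ A e = ε • e := by
    obtain ⟨u, hu, hu0⟩ := (Submodule.ne_bot_iff C).1 hne
    by_cases hp : u + A u = 0
    · refine ⟨-1, u, by ring, hu, hu0, ?_⟩
      rw [neg_one_smul]
      exact (eq_neg_of_add_eq_zero_right hp)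
    · refine ⟨1, u + A u, by ring, C.add_mem hu (hCinv u hu), hp, ?_⟩
      rw [map_add, hA2, one_smul, add_comm]
  obtain ⟨ε, e, hε, heC, he0, hAe⟩ := hex
  have hex2 : ∃ f' ∈ C, B e f' ≠ 0 := by
    by_contra hcon
    push Not at hcon
    exact he0 (hC e heC hcon)
  obtain ⟨f', hf'C, hef'⟩ := hex2
  set f : V := f' + ε • A f' with hf
  have hfC : f ∈ C := C.add_mem hf'C (C.smul_mem _ (hCinv _ hf'C))
  have hAf : A f = ε • f := by
    rw [hf, map_add, map_smul, hA2, smul_add, smul_smul, hε, one_smul, add_comm]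
  have hBef : B e f = 2 * B e f' := by
    have h1 : B e (A f') = ε * B e f' := by
      rw [← hAB.inv e (A f'), hA2, hAe, map_smul, LinearMap.smul_apply, smul_eq_mul]
    rw [hf, map_add, map_smul, smul_eq_mul, h1, ← mul_assoc, hε]
    ring
  have hef : B e f ≠ 0 := by
    rw [hBef]
    exact mul_ne_zero h2 hef'
  obtain ⟨h1, h3⟩ := ndOn_span_pair B hAB.alt e f hef
  refine ⟨Submodule.span F ({e, f} : Set V), ?_, h1, h3, ?_⟩
  · rw [Submodule.span_le]
    intro z hz
    rcases hz with rfl | rfl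
    · exact heC
    · exact hfC
  · intro w hw
    obtain ⟨a, b, rfl⟩ := Submodule.mem_span_pair.1 hw
    rw [map_add, map_smul, map_smul, hAe, hAf]
    apply Submodule.add_mem
    · exact Submodule.smul_mem _ _ (Submodule.smul_mem _ _ (Submodule.subset_span (by simp)))
    · exact Submodule.smul_mem _ _ (Submodule.smul_mem _ _ (Submodule.subset_span (by simp)))

/-- peeling invariant planes -/
theorem fixN_of_planes [FiniteDimensional F V] (hAB : AltInv A B)
    (hplane : ∀ C : Submodule F V, NdOn B C → (∀ v ∈ C, A v ∈ C) → C ≠ ⊥ →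
      ∃ P : Submodule F V, P ≤ C ∧ finrank F P = 2 ∧ NdOn B P ∧ ∀ v ∈ P, A v ∈ P)
    (s : ℕ) (hs : 2 * s ≤ finrank F V) : FixN B A (2 * s) := by
  induction s with
  | zero => exact FixN.zero B A
  | succ s ih =>
    obtain ⟨W, hWm, hWnd, hWinv⟩ := ih (by omega)
    have hC := ndOn_orth B hAB.alt hAB.nondeg W hWnd
    have hfin := finrank_orth B hAB.alt W hWnd
    have hne : B.orthogonal W ≠ ⊥ := by
      intro h0
      rw [h0, finrank_bot] at hfin
      omega
    obtain ⟨P, hPle, hP2, hPnd, hPinv⟩ := hplane _ hC (orth_invariant B hAB W hWinv) hne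
    have := FixN.osum B A hAB.alt W P hWnd hPnd
      (fun u hu v hv => (mem_orth B).1 (hPle hv) u hu) hWinv hPinv
    rw [hWm, hP2] at this
    have e : 2 * (s + 1) = 2 * s + 2 := by ring
    rw [e]
    exact this

/-- an isometry whose square is `±1` fixes nondegenerate subspaces of every even dimension -/
theorem fixN_of_sq [FiniteDimensional F V] (h2 : (2 : F) ≠ 0) (hAB : AltInv A B) (z : F)
    (hz : z = 1 ∨ z = -1) (hA2 : ∀ v, A (A v) = z • v) (s : ℕ) (hs : 2 * s ≤ finrank F V) :
    FixN B A (2 * s) := by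
  apply fixN_of_planes B A hAB _ s hs
  intro C hC hCinv hne
  rcases hz with rfl | rfl
  · exact exists_inv_plane_pos B A h2 hAB (fun v => by rw [hA2, one_smul]) C hC hCinv hne
  · exact exists_inv_plane_neg B A h2 hAB (fun v => by rw [hA2, neg_one_smul]) C hC hCinv hne

end inv

section main
variable {F : Type u} [Field F] [Fintype F] {d : ℕ}

/-- the case `r = 2 ≠ p` -/
theorem two_odd_main (h2 : (2 : F) ≠ 0) (hd : 1 ≤ d) (m : ℕ) (hme : Even m) (hmd : m ≤ 2 * d)
    (x : Matrix.symplecticGroup (Fin d) F) (z : F)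
    (hxz : ((x ^ 2 : Matrix.symplecticGroup (Fin d) F) :
      Matrix (Fin d ⊕ Fin d) (Fin d ⊕ Fin d) F) = z • 1) :
    FixN (sympBil d F) (LS x) m := by
  have hz := Cfsg.Agent.Helper13.SympFrame.scalar_eq_one_or_neg_one d hd x z hxz
  have hA2 : ∀ v, LS x (LS x v) = z • v := by
    intro v
    have := Cfsg.Agent.Helper13.SympFrame.toLin'_sq d x z hxz v
    rw [Matrix.toLin'_apply, Matrix.toLin'_apply] at this
    rw [LS_apply, LS_apply]
    exact this
  obtain ⟨s, hs⟩ := hme
  have hfin : finrank F (Fin d ⊕ Fin d → F) = 2 * d := by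
    rw [Module.finrank_fintype_fun_eq_card, Fintype.card_sum, Fintype.card_fin]
    ring
  have := fixN_of_sq (sympBil d F) (LS x) h2 (LS_altInv x) z hz hA2 s (by rw [hfin]; omega)
  have e : m = 2 * s := by omega
  rw [e]
  exact this

end main

end Cfsg.Agent.Helper13.SpNd
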