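import Mathlib
import Cfsg.Agent.Lib.Helper13.SpNd5
import Cfsg.Agent.Lib.Helper13.OrthNe12
import Cfsg.Agent.Lib.Helper13.OrthSp4

set_option autoImplicit false
set_option linter.unusedSectionVars false

/-!
# Invariant nondegenerate subspaces: involutions in characteristic two
-/

namespace Cfsg.Agent.Helper13.SpNd

open Polynomial Module Cfsg.Agent.Helper13.SS Cfsg.Agent.Helper13.Dual
  Cfsg.Agent.Helper13.SympSS Cfsg.Agent.Helper13.SpDec Cfsg.Agent.Helper13.SlDec
  Cfsg.Agent.Helper13.SpTi Cfsg.Agent.Helper28.SympIso Cfsg.Agent.Helper28.IsoGrp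
open scoped Classical

universe u

section sup
variable {F : Type*} [Field F] {V : Type*} [AddCommGroup V] [Module F V]
variable (B : LinearMap.BilinForm F V)

/-- orthogonal sums of nondegenerate subspaces -/
theorem ndOn_sup [FiniteDimensional F V] (hB : ∀ u, B u u = 0) (W₁ W₂ : Submodule F V)
    (h₁ : NdOn B W₁) (h₂ : NdOn B W₂) (horth : ∀ u ∈ W₁, ∀ v ∈ W₂, B u v = 0) :
    finrank F ↥(W₁ ⊔ W₂) = finrank F W₁ + finrank F W₂ ∧ NdOn B (W₁ ⊔ W₂) := by
  have horth' : ∀ u ∈ W₂, ∀ v ∈ W₁, B u v = 0 := by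
    intro u hu v hv
    rw [skew' B hB, horth v hv u hu, neg_zero]
  have hdisj : W₁ ⊓ W₂ = ⊥ := by
    rw [eq_bot_iff]
    rintro x ⟨hx1, hx2⟩
    rw [Submodule.mem_bot]
    apply h₁ x hx1
    intro v hv
    exact horth' x hx2 v hv
  refine ⟨?_, ?_⟩
  · have := Submodule.finrank_sup_add_finrank_inf_eq W₁ W₂
    rw [hdisj, finrank_bot, add_zero] at this
    exact this
  · intro u hu h
    obtain ⟨a, ha, b, hb, rfl⟩ := Submodule.mem_sup.1 hu
    have ha0 : a = 0 := by
      apply h₁ a ha
      intro v hv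
      have := h v (Submodule.mem_sup_left hv)
      rwa [map_add, LinearMap.add_apply, horth' b hb v hv, add_zero] at this
    have hb0 : b = 0 := by
      apply h₂ b hb
      intro v hv
      have := h v (Submodule.mem_sup_right hv)
      rwa [map_add, LinearMap.add_apply, horth a ha v hv, zero_add] at this
    rw [ha0, hb0, add_zero]

/-- adding an invariant nondegenerate block to a subspace of its orthogonal complement -/
theorem FixN.add_block [FiniteDimensional F V] {A : Module.End F V} (hAB : AltInv A B)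
    (Q : Submodule F V) (hQ : NdOn B Q) (hQinv : ∀ v ∈ Q, A v ∈ Q) (m' : ℕ)
    (h : FixN (resForm B (B.orthogonal Q)) (A.restrict (orth_invariant B hAB Q hQinv)) m') :
    FixN B A (finrank F Q + m') := by
  obtain ⟨W', hW'm, hW'nd, hW'inv⟩ := h
  set W'' : Submodule F V := W'.map (B.orthogonal Q).subtype with hW''
  have h1 : finrank F W'' = m' := by
    rw [hW'', Submodule.finrank_map_subtype_eq, hW'm]
  have h2 : NdOn B W'' := by
    rintro _ ⟨u, hu, rfl⟩ h
    have : u = 0 := by
      apply hW'nd u hu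
      intro v hv
      rw [resForm_apply]
      exact h _ ⟨v, hv, rfl⟩
    rw [this, map_zero]
  have h3 : ∀ v ∈ W'', A v ∈ W'' := by
    rintro _ ⟨u, hu, rfl⟩
    exact ⟨(A.restrict (orth_invariant B hAB Q hQinv)) u, hW'inv u hu, rfl⟩
  have h4 : W'' ≤ B.orthogonal Q := by
    rintro _ ⟨u, -, rfl⟩
    exact u.2
  have := FixN.osum B A hAB.alt Q W'' hQ h2 (fun u hu v hv => (mem_orth B).1 (h4 hv) u hu)
    hQinv h3
  rwa [h1] at this

end sup

section atype
variable {F : Type u} [Field F] {V : Type u} [AddCommGroup V] [Module F V]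
  [FiniteDimensional F V]

/-- an isometry `Y = 1 + N` with `N² = 0`, `B v (N v) = 0` and `rank N = ρ` -/
def IsASp (B : LinearMap.BilinForm F V) (Y : Module.End F V) (ρ : ℕ) : Prop :=
  AltInv Y B ∧ (Y - 1) * (Y - 1) = 0 ∧ (∀ v, B v ((Y - 1) v) = 0) ∧
    finrank F (LinearMap.range (Y - 1)) = ρ

variable {B : LinearMap.BilinForm F V} {Y : Module.End F V} {ρ : ℕ}

theorem IsASp.inv_sub (W : Submodule F V) (hW : ∀ v ∈ W, Y v ∈ W) :
    ∀ v ∈ W, (Y - 1) v ∈ W := by
  intro v hv
  rw [LinearMap.sub_apply, Module.End.one_apply]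
  exact W.sub_mem (hW v hv) hv

/-- the rank of `N` on an invariant nondegenerate subspace is even -/
theorem IsASp.even_rank (h : IsASp B Y ρ) (W : Submodule F V) (hW : ∀ v ∈ W, Y v ∈ W)
    (hWnd : NdOn B W) : Even (finrank F (W.map (Y - 1))) := by
  obtain ⟨hYB, -, h3, -⟩ := h
  have hN := IsASp.inv_sub (Y := Y) W hW
  set N' : Module.End F W := (Y - 1).restrict hN with hN'
  have hres := altInv_restrict B hYB W hWnd hW
  have halt : ∀ w : W, resForm B W (N' w) w = 0 := by
    intro w
    rw [resForm_apply]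
    show B ((Y - 1) (w : V)) (w : V) = 0
    rw [skew' B hYB.alt, h3, neg_zero]
  have h1 := Cfsg.Agent.Helper13.OrthSp.even_finrank_range_of_alt
    (resForm B W) ⟨hres.nondeg, hres.nondeg_right⟩ N' halt
  have h2 : (LinearMap.range N').map W.subtype = W.map (Y - 1) := by
    ext y
    constructor
    · rintro ⟨_, ⟨w, rfl⟩, rfl⟩
      exact ⟨w, w.2, rfl⟩
    · rintro ⟨w, hw, rfl⟩
      exact ⟨N' ⟨w, hw⟩, ⟨⟨w, hw⟩, rfl⟩, rfl⟩
  rw [← h2, Submodule.finrank_map_subtype_eq]
  exact h1

/-- when the rank is maximal every invariant nondegenerate subspace has dimension divisible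
by four -/
theorem IsASp.four_dvd (h : IsASp B Y ρ) (hρ : finrank F V = 2 * ρ)
    (W : Submodule F V) (hW : ∀ v ∈ W, Y v ∈ W) (hWnd : NdOn B W) : 4 ∣ finrank F W := by
  obtain ⟨h1, h2, h3, h4⟩ := h
  have hh : IsASp B Y ρ := ⟨h1, h2, h3, h4⟩
  have hc := isCompl_orth B h1.alt W hWnd
  have hfin := Submodule.finrank_add_eq_of_isCompl hc
  have hNW := IsASp.inv_sub (Y := Y) W hW
  have hNC := IsASp.inv_sub (Y := Y) _ (orth_invariant B h1 W hW)
  have hsplit := Cfsg.Agent.Helper13.OrthNe.finrank_range_split (Y - 1) W _ hc hNW hNC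
  have hleW := Cfsg.Agent.Helper13.OrthNe.two_mul_finrank_map_le (Y - 1) h2 W hNW
  have hleC := Cfsg.Agent.Helper13.OrthNe.two_mul_finrank_map_le (Y - 1) h2 _ hNC
  obtain ⟨a, ha⟩ := hh.even_rank W hW hWnd
  exact ⟨a, by omega⟩

end atype

section block
variable {F : Type*} [Field F] {V : Type*} [AddCommGroup V] [Module F V]
variable (B : LinearMap.BilinForm F V) (A : Module.End F V)

/-- in characteristic two every nonzero invariant nondegenerate subspace of an involution
contains an invariant nondegenerate subspace of dimension two or four -/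
theorem exists_block2 [FiniteDimensional F V] (h2 : (2 : F) = 0) (hAB : AltInv A B)
    (hA2 : ∀ v, A (A v) = v) (C : Submodule F V) (hC : NdOn B C)
    (hCinv : ∀ v ∈ C, A v ∈ C) (hne : C ≠ ⊥) :
    ∃ Q : Submodule F V, Q ≤ C ∧ (finrank F Q = 2 ∨ finrank F Q = 4) ∧ NdOn B Q ∧
      ∀ v ∈ Q, A v ∈ Q := by
  have hB := hAB.alt
  by_cases hex : ∃ v ∈ C, B v (A v) ≠ 0
  · obtain ⟨v, hv, hvA⟩ := hex
    obtain ⟨h1, h3⟩ := ndOn_span_pair B hB v (A v) hvA
    refine ⟨Submodule.span F ({v, A v} : Set V), ?_, Or.inl h1, h3, ?_⟩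
    · rw [Submodule.span_le]
      intro z hz
      rcases hz with rfl | rfl
      · exact hv
      · exact hCinv _ hv
    · intro w hw
      obtain ⟨a, b, rfl⟩ := Submodule.mem_span_pair.1 hw
      rw [map_add, map_smul, map_smul, hA2]
      apply Submodule.add_mem
      · exact Submodule.smul_mem _ _ (Submodule.subset_span (by simp))
      · exact Submodule.smul_mem _ _ (Submodule.subset_span (by simp))
  push Not at hex
  by_cases hfix : ∀ v ∈ C, A v = v
  · obtain ⟨P, hPle, hP2, hPnd⟩ := exists_plane_in B hB C hC hne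
    refine ⟨P, hPle, Or.inl hP2, hPnd, ?_⟩
    intro v hv
    rw [hfix v (hPle hv)]
    exact hv
  push Not at hfix
  obtain ⟨u, hu, hAu⟩ := hfix
  -- the nilpotent part
  set N : Module.End F V := A - 1 with hN
  have hNa : ∀ v, N v = A v - v := fun v => by
    rw [hN, LinearMap.sub_apply, Module.End.one_apply]
  have hNC : ∀ v ∈ C, N v ∈ C := fun v hv => by
    rw [hNa]
    exact C.sub_mem (hCinv v hv) hv
  have hAN : ∀ v, A v = v + N v := fun v => by
    rw [hNa]
    abel
  have two_smul_zero : ∀ v : V, v + v = 0 := by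
    intro v
    have : (2 : F) • v = 0 := by rw [h2, zero_smul]
    rwa [two_smul] at this
  have hNN : ∀ v, N (N v) = 0 := by
    intro v
    rw [hNa, hNa, map_sub, hA2]
    have h1 := two_smul_zero (v - A v)
    have e : v - A v - (A v - v) = (v - A v) + (v - A v) := by abel
    rw [e, h1]
  have F1 : ∀ v ∈ C, B v (N v) = 0 := by
    intro v hv
    rw [hNa, map_sub, hex v hv, hB, sub_zero]
  have F2 : ∀ a ∈ C, ∀ b ∈ C, B a (N b) = B (N a) b := by
    intro a ha b hb
    have h1 := F1 (a + b) (C.add_mem ha hb)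
    simp only [map_add, LinearMap.add_apply, F1 a ha, F1 b hb, zero_add, add_zero] at h1
    rw [skew' B hB (N a) b]
    exact eq_neg_of_add_eq_zero_right h1
  have F4 : ∀ a ∈ C, ∀ b ∈ C, B (N a) (N b) = 0 := by
    intro a ha b hb
    rw [← F2 a ha (N b) (hNC b hb), hNN, map_zero]
  have hNu0 : N u ≠ 0 := by
    rw [hNa]
    exact sub_ne_zero.2 hAu
  have hex2 : ∃ w₀ ∈ C, B (N u) w₀ ≠ 0 := by
    by_contra hcon
    push Not at hcon
    exact hNu0 (hC (N u) (hNC u hu) hcon)
  obtain ⟨w₀, hw₀, hγ⟩ := hex2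
  set γ := B (N u) w₀ with hγdef
  set w : V := w₀ + (-(B u w₀) / γ) • N w₀ with hw
  have hwC : w ∈ C := C.add_mem hw₀ (C.smul_mem _ (hNC w₀ hw₀))
  have hNw : N w = N w₀ := by
    rw [hw, map_add, map_smul, hNN, smul_zero, add_zero]
  have hNuw : B (N u) w = γ := by
    rw [hw, map_add, map_smul, F4 u hu w₀ hw₀, smul_zero, add_zero]
  have huw : B u w = 0 := by
    rw [hw, map_add, map_smul, F2 u hu w₀ hw₀, ← hγdef, smul_eq_mul]
    field_simp
    ring
  have huNw : B u (N w) = γ := by
    rw [F2 u hu w hwC, hNuw]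
  obtain ⟨hP₁2, hP₁nd⟩ := ndOn_span_pair B hB u (N w) (by rw [huNw]; exact hγ)
  obtain ⟨hP₂2, hP₂nd⟩ := ndOn_span_pair B hB (N u) w (by rw [hNuw]; exact hγ)
  set P₁ := Submodule.span F ({u, N w} : Set V) with hP₁
  set P₂ := Submodule.span F ({N u, w} : Set V) with hP₂
  have horth : ∀ a ∈ P₁, ∀ b ∈ P₂, B a b = 0 := by
    apply Cfsg.Agent.Helper13.SympFrame.eq_zero_of_span B
    intro a ha b hb
    rcases ha with ha | ha
    · rcases hb with hb | hb
      · rw [ha, hb]
        exact F1 u hu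
      · rw [ha, hb]
        exact huw
    · rcases hb with hb | hb
      · rw [ha, hb, skew' B hB, F4 u hu w hwC, neg_zero]
      · rw [ha, hb, skew' B hB, F1 w hwC, neg_zero]
  obtain ⟨hfin, hnd⟩ := ndOn_sup B hB P₁ P₂ hP₁nd hP₂nd horth
  have hP₁C : P₁ ≤ C := by
    rw [hP₁, Submodule.span_le]
    intro z hz
    rcases hz with rfl | rfl
    · exact hu
    · exact hNC _ hwC
  have hP₂C : P₂ ≤ C := by
    rw [hP₂, Submodule.span_le]
    intro z hz
    rcases hz with rfl | rfl
    · exact hNC _ hu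
    · exact hwC
  have hu1 : u ∈ P₁ := Submodule.subset_span (by simp)
  have hNw1 : N w ∈ P₁ := Submodule.subset_span (by simp)
  have hNu2 : N u ∈ P₂ := Submodule.subset_span (by simp)
  have hw2 : w ∈ P₂ := Submodule.subset_span (by simp)
  refine ⟨P₁ ⊔ P₂, sup_le hP₁C hP₂C, Or.inr (by rw [hfin, hP₁2, hP₂2]), hnd, ?_⟩
  intro v hv
  obtain ⟨a, ha, b, hb, rfl⟩ := Submodule.mem_sup.1 hv
  rw [map_add]
  apply Submodule.add_mem
  · obtain ⟨s, t, rfl⟩ := Submodule.mem_span_pair.1 ha
    rw [map_add, map_smul, map_smul, hAN u, hAN (N w), hNN, add_zero, smul_add]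
    apply Submodule.add_mem
    · apply Submodule.add_mem
      · exact Submodule.mem_sup_left (Submodule.smul_mem _ _ hu1)
      · exact Submodule.mem_sup_right (Submodule.smul_mem _ _ hNu2)
    · exact Submodule.mem_sup_left (Submodule.smul_mem _ _ hNw1)
  · obtain ⟨s, t, rfl⟩ := Submodule.mem_span_pair.1 hb
    rw [map_add, map_smul, map_smul, hAN (N u), hAN w, hNN, add_zero, smul_add]
    apply Submodule.add_mem
    · exact Submodule.mem_sup_right (Submodule.smul_mem _ _ hNu2)
    · apply Submodule.add_mem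
      · exact Submodule.mem_sup_right (Submodule.smul_mem _ _ hw2)
      · exact Submodule.mem_sup_left (Submodule.smul_mem _ _ hNw1)

end block

section suff
variable {F : Type u} [Field F]

/-- sufficiency in characteristic two -/
theorem char2_suffS (h2 : (2 : F) = 0) :
    ∀ (n : ℕ) {V : Type u} [AddCommGroup V] [Module F V] [FiniteDimensional F V]
      (B : LinearMap.BilinForm F V) (A : Module.End F V), finrank F V = n → AltInv A B →
      (∀ v, A (A v) = v) → ∀ m, Even m → m ≤ n → (n % 4 = 2 ∨ m % 4 = 0) → FixN B A m := by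
  intro n
  induction n using Nat.strong_induction_on with
  | _ n ih =>
  intro V _ _ _ B A hn hAB hA2 m hme hmn hcond
  by_cases hm0 : m = 0
  · rw [hm0]
    exact FixN.zero B A
  by_cases hmn' : m = n
  · rw [hmn', ← hn]
    exact FixN.top B A hAB.nondeg
  have hnev : Even n := by
    rw [← hn]
    exact Cfsg.Agent.Helper11.even_finrank_of_nondegenerate_isAlt B
      ⟨hAB.nondeg, hAB.nondeg_right⟩ hAB.alt
  obtain ⟨a, ha⟩ := hnev
  obtain ⟨b, hb⟩ := hme
  have htop : (⊤ : Submodule F V) ≠ ⊥ := by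
    intro h
    have := finrank_top F V
    rw [h, finrank_bot] at this
    omega
  obtain ⟨Q, -, hQdim, hQnd, hQinv⟩ := exists_block2 B A h2 hAB hA2 ⊤ (ndOn_top B hAB.nondeg)
    (fun _ _ => trivial) htop
  have hCinv := orth_invariant B hAB Q hQinv
  have hCnd := ndOn_orth B hAB.alt hAB.nondeg Q hQnd
  have hfin := finrank_orth B hAB.alt Q hQnd
  have hAB' := altInv_restrict B hAB _ hCnd hCinv
  have hA2' : ∀ v, (A.restrict hCinv) ((A.restrict hCinv) v) = v := by
    intro v
    apply Subtype.ext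
    rw [LinearMap.coe_restrict_apply, LinearMap.coe_restrict_apply]
    exact hA2 _
  rcases hQdim with hQ2 | hQ4
  · have hn' : finrank F ↥(B.orthogonal Q) = n - 2 := by omega
    by_cases hm4 : m % 4 = 0
    · have := ih (n - 2) (by omega) (resForm B _) (A.restrict hCinv) hn' hAB' hA2' m ⟨b, hb⟩
        (by omega) (Or.inr hm4)
      exact FixN.of_sub B A _ hCinv m this
    · have hn4 : n % 4 = 2 := by
        rcases hcond with h | h
        · exact h
        · exact absurd h hm4
      have := ih (n - 2) (by omega) (resForm B _) (A.restrict hCinv) hn' hAB' hA2' (m - 2)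
        ⟨b - 1, by omega⟩ (by omega) (Or.inr (by omega))
      have h3 := FixN.add_block B hAB Q hQnd hQinv (m - 2) this
      have e : finrank F Q + (m - 2) = m := by omega
      rwa [e] at h3
  · have hn' : finrank F ↥(B.orthogonal Q) = n - 4 := by omega
    by_cases hm4 : m % 4 = 0
    · have := ih (n - 4) (by omega) (resForm B _) (A.restrict hCinv) hn' hAB' hA2' (m - 4)
        ⟨b - 2, by omega⟩ (by omega) (Or.inr (by omega))
      have h3 := FixN.add_block B hAB Q hQnd hQinv (m - 4) this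
      have e : finrank F Q + (m - 4) = m := by omega
      rwa [e] at h3
    · have hn4 : n % 4 = 2 := by
        rcases hcond with h | h
        · exact h
        · exact absurd h hm4
      have := ih (n - 4) (by omega) (resForm B _) (A.restrict hCinv) hn' hAB' hA2' m ⟨b, hb⟩
        (by omega) (Or.inl (by omega))
      exact FixN.of_sub B A _ hCinv m this

end suff

end Cfsg.Agent.Helper13.SpNd
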