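import Mathlib
import Cfsg.Agent.Lib.Helper13.SpNd6

set_option autoImplicit false
set_option linter.unusedSectionVars false

/-!
# Invariant nondegenerate subspaces: the criterion in characteristic two
-/

namespace Cfsg.Agent.Helper13.SpNd

open Polynomial Module Cfsg.Agent.Helper13.SS Cfsg.Agent.Helper13.Dual
  Cfsg.Agent.Helper13.SympSS Cfsg.Agent.Helper13.SpDec Cfsg.Agent.Helper13.SlDec
  Cfsg.Agent.Helper13.SpTi Cfsg.Agent.Helper28.SympIso Cfsg.Agent.Helper28.IsoGrp
open scoped Classical

universe u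

section model
variable {F : Type u} [Field F] (e : ℕ)

/-- the coordinate swap -/
noncomputable def swapMap (F : Type u) [Field F] (e : ℕ) :
    (Fin e ⊕ Fin e → F) →ₗ[F] (Fin e ⊕ Fin e → F) :=
  LinearMap.funLeft F F Sum.swap

theorem swapMap_apply (b : Fin e ⊕ Fin e → F) (i : Fin e ⊕ Fin e) :
    swapMap F e b i = b (Sum.swap i) := rfl

theorem swapMap_swapMap (b : Fin e ⊕ Fin e → F) : swapMap F e (swapMap F e b) = b := by
  funext i
  rw [swapMap_apply, swapMap_apply, Sum.swap_swap]

theorem swapMap_dot (b b' : Fin e ⊕ Fin e → F) :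
    swapMap F e b ⬝ᵥ b' = b ⬝ᵥ swapMap F e b' := by
  unfold dotProduct
  rw [Fintype.sum_sum_type, Fintype.sum_sum_type]
  simp only [swapMap_apply, Sum.swap_inl, Sum.swap_inr]
  rw [add_comm]

theorem dot_swapMap_self (h2 : (2 : F) = 0) (b : Fin e ⊕ Fin e → F) :
    b ⬝ᵥ swapMap F e b = 0 := by
  unfold dotProduct
  rw [Fintype.sum_sum_type]
  simp only [swapMap_apply, Sum.swap_inl, Sum.swap_inr]
  have : ∑ j : Fin e, b (Sum.inr j) * b (Sum.inl j) = ∑ j : Fin e, b (Sum.inl j) * b (Sum.inr j) :=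
    Finset.sum_congr rfl (fun j _ => mul_comm _ _)
  rw [this, ← two_mul, h2, zero_mul]

/-- the shear along the coordinate swap -/
noncomputable def shearA (F : Type u) [Field F] (e : ℕ) :
    Module.End F ((Fin e ⊕ Fin e → F) × (Fin e ⊕ Fin e → F)) :=
  LinearMap.prod (LinearMap.fst F _ _ + (swapMap F e) ∘ₗ LinearMap.snd F _ _)
    (LinearMap.snd F _ _)

theorem shearA_apply (u : (Fin e ⊕ Fin e → F) × (Fin e ⊕ Fin e → F)) :
    shearA F e u = (u.1 + swapMap F e u.2, u.2) := rfl

theorem shearA_sub_one_apply (u : (Fin e ⊕ Fin e → F) × (Fin e ⊕ Fin e → F)) :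
    (shearA F e - 1) u = (swapMap F e u.2, 0) := by
  rw [LinearMap.sub_apply, Module.End.one_apply, shearA_apply]
  apply Prod.ext
  · simp
  · simp

theorem isASp_shearA (h2 : (2 : F) = 0) :
    IsASp (hypForm (Fin e ⊕ Fin e) F) (shearA F e) (e + e) := by
  have h1 := hypMap_altInv (F := F) (ι := Fin e ⊕ Fin e) 1 1 (one_mul 1)
  refine ⟨⟨h1.alt, h1.nondeg, ?_⟩, ?_, ?_, ?_⟩
  · intro u v
    rw [hypForm_apply, hypForm_apply, shearA_apply, shearA_apply]
    simp only [dotProduct_add]
    rw [← swapMap_dot, dotProduct_comm (swapMap F e u.2) v.2]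
    ring
  · apply LinearMap.ext
    intro u
    rw [Module.End.mul_apply, shearA_sub_one_apply, shearA_sub_one_apply, map_zero]
    rfl
  · intro v
    rw [shearA_sub_one_apply, hypForm_apply]
    simp only [dotProduct_zero, zero_dotProduct, sub_zero]
    exact dot_swapMap_self e h2 v.2
  · have hr : LinearMap.range (shearA F e - 1) =
        LinearMap.range (LinearMap.inl F (Fin e ⊕ Fin e → F) (Fin e ⊕ Fin e → F)) := by
      apply le_antisymm
      · rintro _ ⟨u, rfl⟩
        rw [shearA_sub_one_apply]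
        exact ⟨swapMap F e u.2, rfl⟩
      · rintro _ ⟨a, rfl⟩
        refine ⟨(0, swapMap F e a), ?_⟩
        rw [shearA_sub_one_apply, swapMap_swapMap]
        rfl
    rw [hr, LinearMap.finrank_range_of_inj LinearMap.inl_injective,
      Module.finrank_fintype_fun_eq_card, Fintype.card_sum, Fintype.card_fin]

theorem shearA_shearA (h2 : (2 : F) = 0) (u : (Fin e ⊕ Fin e → F) × (Fin e ⊕ Fin e → F)) :
    shearA F e (shearA F e u) = u := by
  rw [shearA_apply, shearA_apply]
  apply Prod.ext
  · show u.1 + swapMap F e u.2 + swapMap F e u.2 = u.1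
    have : swapMap F e u.2 + swapMap F e u.2 = 0 := by
      have : (2 : F) • swapMap F e u.2 = 0 := by rw [h2, zero_smul]
      rwa [two_smul] at this
    rw [add_assoc, this, add_zero]
  · rfl

end model

section elt
variable {F : Type u} [Field F] [Fintype F]

/-- in characteristic two and dimension divisible by four there is an involution all of whose
invariant nondegenerate subspaces have dimension divisible by four -/
theorem exists_fullA (h2 : (2 : F) = 0) (e : ℕ) :
    ∃ g : Matrix.symplecticGroup (Fin (e + e)) F,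
      ((g ^ 2 : Matrix.symplecticGroup (Fin (e + e)) F) :
        Matrix (Fin (e + e) ⊕ Fin (e + e)) (Fin (e + e) ⊕ Fin (e + e)) F) = 1 ∧
      ∀ W : Submodule F (Fin (e + e) ⊕ Fin (e + e) → F), (∀ v ∈ W, LS g v ∈ W) →
        NdOn (sympBil (e + e) F) W → 4 ∣ finrank F W := by
  have hA := isASp_shearA (F := F) e h2
  have hfin : finrank F ((Fin e ⊕ Fin e → F) × (Fin e ⊕ Fin e → F)) = 2 * (e + e) := by
    rw [Module.finrank_prod, Module.finrank_fintype_fun_eq_card, Fintype.card_sum,
      Fintype.card_fin]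
    ring
  obtain ⟨g, E, hE, hgE⟩ := Cfsg.Agent.Helper13.SympDer.exists_matrix_conj (shearA F e)
    (hypForm (Fin e ⊕ Fin e) F) hA.1 (e + e) hfin
  refine ⟨g, ?_, ?_⟩
  · rw [SubmonoidClass.coe_pow, pow_two]
    apply Matrix.toLin'.injective
    apply LinearMap.ext
    intro w
    rw [Matrix.toLin'_mul, LinearMap.comp_apply, Matrix.toLin'_one]
    have hw : w = E (E.symm w) := (E.apply_symm_apply w).symm
    rw [hw, hgE, hgE, shearA_shearA e h2]
    rfl
  · intro W hWinv hWnd
    set W' : Submodule F ((Fin e ⊕ Fin e → F) × (Fin e ⊕ Fin e → F)) :=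
      W.map (E.symm : _ →ₗ[F] _) with hW'
    have h1 : finrank F W' = finrank F W := LinearEquiv.finrank_map_eq E.symm W
    have h3 : ∀ v ∈ W', shearA F e v ∈ W' := by
      rintro _ ⟨w, hw, rfl⟩
      refine ⟨LS g w, hWinv w hw, ?_⟩
      show E.symm (LS g w) = shearA F e (E.symm w)
      apply E.injective
      rw [E.apply_symm_apply, ← hgE, E.apply_symm_apply, LS_apply, Matrix.toLin'_apply]
    have h4 : NdOn (hypForm (Fin e ⊕ Fin e) F) W' := by
      rintro _ ⟨w, hw, rfl⟩ h
      have : w = 0 := by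
        apply hWnd w hw
        intro v hv
        have := h (E.symm v) ⟨v, hv, rfl⟩
        have h5 : hypForm (Fin e ⊕ Fin e) F (E.symm w) (E.symm v) = 0 := this
        rwa [← hE, E.apply_symm_apply, E.apply_symm_apply] at h5
      rw [this, map_zero]
    rw [← h1]
    exact hA.four_dvd hfin W' h3 h4

end elt

section main
variable {F : Type u} [Field F] [Fintype F]

/-- the case `r = p = 2` -/
theorem char2_main (h2 : (2 : F) = 0) (d m : ℕ) (hd : 1 ≤ d) (hme : Even m) (hmd : m ≤ 2 * d) :
    (∀ x : Matrix.symplecticGroup (Fin d) F,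
      (∃ z : F, ((x ^ 2 : Matrix.symplecticGroup (Fin d) F) :
        Matrix (Fin d ⊕ Fin d) (Fin d ⊕ Fin d) F) = z • 1) →
      (∀ z : F, (x : Matrix (Fin d ⊕ Fin d) (Fin d ⊕ Fin d) F) ≠ z • 1) →
      FixN (sympBil d F) (LS x) m) ↔ ((2 * d) % 4 = 2 ∨ m % 4 = 0) := by
  have hfin : finrank F (Fin d ⊕ Fin d → F) = 2 * d := by
    rw [Module.finrank_fintype_fun_eq_card, Fintype.card_sum, Fintype.card_fin]
    ring
  constructor
  · intro hall
    by_contra hcon
    push Not at hcon
    obtain ⟨hc1, hc2⟩ := hcon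
    obtain ⟨e, he⟩ : ∃ e, d = e + e := ⟨d / 2, by omega⟩
    subst he
    obtain ⟨g, hg2, hgW⟩ := exists_fullA (F := F) h2 e
    have hfix : FixN (sympBil (e + e) F) (LS g) m := by
      by_cases hsc : ∃ z : F, (g : Matrix (Fin (e + e) ⊕ Fin (e + e))
          (Fin (e + e) ⊕ Fin (e + e)) F) = z • 1
      · obtain ⟨z, hz⟩ := hsc
        obtain ⟨s, hs⟩ := hme
        have h1 := fixN_one (sympBil (e + e) F) (sympBil_isAlt (e + e))
          (sympBil_nondegenerate (e + e)).1 s (by rw [hfin]; omega)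
        obtain ⟨W, hWm, hWnd, -⟩ := h1
        refine ⟨W, by rw [hWm]; omega, hWnd, ?_⟩
        intro v hv
        rw [LS_apply, hz, Matrix.smul_mulVec, Matrix.one_mulVec]
        exact W.smul_mem z hv
      · push Not at hsc
        exact hall g ⟨1, by rw [hg2, one_smul]⟩ hsc
    obtain ⟨W, hWm, hWnd, hWinv⟩ := hfix
    have := hgW W hWinv hWnd
    rw [hWm] at this
    omega
  · intro hcond x hx _
    obtain ⟨z, hxz⟩ := hx
    have hzz := Cfsg.Agent.Helper13.SympFrame.scalar_mul_self_eq_one d hd x z 2 hxz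
    have hz1 : z = 1 := by
      have h3 : (z - 1) * (z - 1) = 0 := by
        linear_combination hzz + (1 - z) * h2
      rcases mul_eq_zero.1 h3 with h | h <;> exact sub_eq_zero.1 h
    have hA2 : ∀ v, LS x (LS x v) = v := by
      intro v
      have := Cfsg.Agent.Helper13.SympFrame.toLin'_sq d x z hxz v
      rw [Matrix.toLin'_apply, Matrix.toLin'_apply, hz1, one_smul] at this
      rw [LS_apply, LS_apply]
      exact this
    exact char2_suffS h2 (2 * d) (sympBil d F) (LS x) hfin (LS_altInv x) hA2 m hme hmd hcond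

end main

end Cfsg.Agent.Helper13.SpNd
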