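import Mathlib
import Cfsg.Agent.Lib.Helper13.SpNd7

set_option autoImplicit false
set_option linter.unusedSectionVars false

/-!
# Unipotent isometries: adjoint identities and triangular families
-/

namespace Cfsg.Agent.Helper13.SpNd

open Polynomial Module Cfsg.Agent.Helper13.SympSS
open scoped Classical

universe u

section adj
variable {F : Type*} [Field F] {V : Type*} [AddCommGroup V] [Module F V]
variable (B : LinearMap.BilinForm F V) (X : Module.End F V)

/-- the adjoint identity for `N = X - 1` -/
theorem adj_one (hX : ∀ u v, B (X u) (X v) = B u v) (u w : V) :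
    B ((X - 1) u) w = - B u ((X - 1) w) - B ((X - 1) u) ((X - 1) w) := by
  have h1 := hX u w
  have hu : X u = u + (X - 1) u := by
    rw [LinearMap.sub_apply, Module.End.one_apply]
    abel
  have hw : X w = w + (X - 1) w := by
    rw [LinearMap.sub_apply, Module.End.one_apply]
    abel
  rw [hu, hw] at h1
  simp only [map_add, LinearMap.add_apply] at h1
  linear_combination h1

/-- products of powers of `N` of total degree at least the nilpotency index pair to zero -/
theorem pair_pow_zero (hX : ∀ u v, B (X u) (X v) = B u v) (a : ℕ) (hNa : (X - 1) ^ a = 0) :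
    ∀ (i j : ℕ) (u w : V), a ≤ i + j → B (((X - 1) ^ i) u) (((X - 1) ^ j) w) = 0 := by
  have hzero : ∀ (j : ℕ) (w : V), a ≤ j → ((X - 1) ^ j) w = 0 := by
    intro j w hj
    rw [pow_eq_zero_of_le hj hNa]
    rfl
  intro i
  induction i with
  | zero =>
    intro j u w hij
    rw [hzero j w (by omega), map_zero]
  | succ i ih =>
    have key : ∀ (t j : ℕ) (u w : V), a ≤ i + 1 + j → a ≤ j + t →
        B (((X - 1) ^ (i + 1)) u) (((X - 1) ^ j) w) = 0 := by
      intro t
      induction t with
      | zero =>
        intro j u w _ hj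
        rw [hzero j w (by omega), map_zero]
      | succ t iht =>
        intro j u w hij hjt
        rw [pow_succ', Module.End.mul_apply, adj_one B X hX]
        have h1 : B (((X - 1) ^ i) u) ((X - 1) (((X - 1) ^ j) w)) = 0 := by
          rw [← Module.End.mul_apply, ← pow_succ']
          exact ih (j + 1) u w (by omega)
        have h2 : B ((X - 1) (((X - 1) ^ i) u)) ((X - 1) (((X - 1) ^ j) w)) = 0 := by
          rw [← Module.End.mul_apply, ← pow_succ', ← Module.End.mul_apply, ← pow_succ']
          exact iht (j + 1) u w (by omega) (by omega)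
        rw [h1, h2]
        ring
    intro j u w hij
    exact key a j u w hij (by omega)

/-- on the antidiagonal the pairing is the top form up to sign -/
theorem pair_pow_anti (hX : ∀ u v, B (X u) (X v) = B u v) (a : ℕ) (hNa : (X - 1) ^ a = 0) :
    ∀ (i j : ℕ) (u w : V), i + j + 1 = a →
      B (((X - 1) ^ i) u) (((X - 1) ^ j) w) = (-1) ^ i * B u (((X - 1) ^ (a - 1)) w) := by
  intro i
  induction i with
  | zero =>
    intro j u w hij
    have : j = a - 1 := by omega
    rw [this, pow_zero, Module.End.one_apply, pow_zero, one_mul]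
  | succ i ih =>
    intro j u w hij
    rw [pow_succ', Module.End.mul_apply, adj_one B X hX]
    have h1 : B (((X - 1) ^ i) u) ((X - 1) (((X - 1) ^ j) w)) =
        (-1) ^ i * B u (((X - 1) ^ (a - 1)) w) := by
      rw [← Module.End.mul_apply, ← pow_succ']
      exact ih (j + 1) u w (by omega)
    have h2 : B ((X - 1) (((X - 1) ^ i) u)) ((X - 1) (((X - 1) ^ j) w)) = 0 := by
      rw [← Module.End.mul_apply, ← pow_succ', ← Module.End.mul_apply, ← pow_succ']
      exact pair_pow_zero B X hX a hNa (i + 1) (j + 1) u w (by omega)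
    rw [h1, h2, pow_succ]
    ring

/-- the symmetry of the top form -/
theorem top_form_symm (hB : ∀ u, B u u = 0) (hX : ∀ u v, B (X u) (X v) = B u v) (a : ℕ)
    (ha : 1 ≤ a) (hNa : (X - 1) ^ a = 0) (u w : V) :
    B w (((X - 1) ^ (a - 1)) u) = (-1) ^ a * B u (((X - 1) ^ (a - 1)) w) := by
  rw [skew' B hB]
  have := pair_pow_anti B X hX a hNa (a - 1) 0 u w (by omega)
  rw [pow_zero, Module.End.one_apply] at this
  rw [this]
  have e : (-1 : F) ^ a = (-1) ^ (a - 1) * (-1) := by
    rw [← pow_succ, Nat.sub_add_cancel ha]
  rw [e]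
  ring

end adj

section tri
variable {F : Type*} [Field F] {V : Type*} [AddCommGroup V] [Module F V]
variable (B : LinearMap.BilinForm F V)

/-- the coefficients of a vector orthogonal to a triangular dual family vanish -/
theorem tri_coeff {n : ℕ} (x y : Fin n → V) (htri : ∀ k l, l < k → B (x k) (y l) = 0)
    (hdiag : ∀ k, B (x k) (y k) ≠ 0) (α : Fin n → F)
    (h : ∀ l, B (∑ k, α k • x k) (y l) = 0) : ∀ l, α l = 0 := by
  have key : ∀ (m : ℕ) (l : Fin n), l.val = m → α l = 0 := by
    intro m
    induction m using Nat.strong_induction_on with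
    | _ m ih =>
    intro l hl
    have h1 := h l
    rw [map_sum, LinearMap.sum_apply] at h1
    rw [Finset.sum_eq_single l] at h1
    · rw [map_smul, LinearMap.smul_apply, smul_eq_mul] at h1
      rcases mul_eq_zero.1 h1 with h3 | h3
      · exact h3
      · exact absurd h3 (hdiag l)
    · intro k _ hkl
      rw [map_smul, LinearMap.smul_apply, smul_eq_mul]
      rcases lt_or_gt_of_ne hkl with hlt | hgt
      · rw [ih k.val (by rw [← hl]; exact hlt) k rfl, zero_mul]
      · rw [htri k l hgt, mul_zero]
    · intro hl'
      exact absurd (Finset.mem_univ l) hl'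
  intro l
  exact key l.val l rfl

theorem tri_linearIndependent {n : ℕ} (x y : Fin n → V)
    (htri : ∀ k l, l < k → B (x k) (y l) = 0) (hdiag : ∀ k, B (x k) (y k) ≠ 0) :
    LinearIndependent F x := by
  rw [Fintype.linearIndependent_iff]
  intro α hα l
  apply tri_coeff B x y htri hdiag α _ l
  intro l'
  rw [hα]
  simp

theorem tri_ndOn {n : ℕ} (x y : Fin n → V) (htri : ∀ k l, l < k → B (x k) (y l) = 0)
    (hdiag : ∀ k, B (x k) (y k) ≠ 0) (hy : ∀ l, y l ∈ Submodule.span F (Set.range x)) :
    finrank F (Submodule.span F (Set.range x)) = n ∧ NdOn B (Submodule.span F (Set.range x)) := by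
  refine ⟨?_, ?_⟩
  · rw [finrank_span_eq_card (tri_linearIndependent B x y htri hdiag), Fintype.card_fin]
  · intro w hw hall
    obtain ⟨α, rfl⟩ := (Submodule.mem_span_range_iff_exists_fun F).1 hw
    have := tri_coeff B x y htri hdiag α (fun l => hall (y l) (hy l))
    apply Finset.sum_eq_zero
    intro k _
    rw [this k, zero_smul]

end tri

end Cfsg.Agent.Helper13.SpNd
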