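import Mathlib
import Cfsg.Agent.Lib.Helper13.SpNd8

set_option autoImplicit false
set_option linter.unusedSectionVars false

/-!
# Unipotent isometries: cyclic nondegenerate invariant subspaces
-/

namespace Cfsg.Agent.Helper13.SpNd

open Polynomial Module Cfsg.Agent.Helper13.SympSS
open scoped Classical

universe u

section atoms
variable {F : Type*} [Field F] {V : Type*} [AddCommGroup V] [Module F V]
variable (B : LinearMap.BilinForm F V) (X : Module.End F V)

theorem X_eq_add (z : V) : X z = z + (X - 1) z := by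
  rw [LinearMap.sub_apply, Module.End.one_apply]
  abel

/-- a span of a family closed under `N` up to the family is invariant -/
theorem span_invariant {ι : Type*} (x : ι → V)
    (h : ∀ k, (X - 1) (x k) ∈ Submodule.span F (Set.range x)) :
    ∀ z ∈ Submodule.span F (Set.range x), X z ∈ Submodule.span F (Set.range x) := by
  intro z hz
  induction hz using Submodule.span_induction with
  | mem z hz =>
    obtain ⟨k, rfl⟩ := hz
    rw [X_eq_add X]
    exact Submodule.add_mem _ (Submodule.subset_span ⟨k, rfl⟩) (h k)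
  | zero =>
    rw [map_zero]
    exact Submodule.zero_mem _
  | add p q _ _ hp hq =>
    rw [map_add]
    exact Submodule.add_mem _ hp hq
  | smul c p _ hp =>
    rw [map_smul]
    exact Submodule.smul_mem _ _ hp

/-- the cyclic subspace of a vector with nonzero top form -/
theorem atom_single (hX : ∀ u v, B (X u) (X v) = B u v) (a : ℕ) (ha : 1 ≤ a)
    (hNa : (X - 1) ^ a = 0) (v : V) (hv : B v (((X - 1) ^ (a - 1)) v) ≠ 0) :
    ∃ Q : Submodule F V, finrank F Q = a ∧ NdOn B Q ∧ (∀ z ∈ Q, X z ∈ Q) ∧ v ∈ Q := by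
  set x : Fin a → V := fun k => ((X - 1) ^ k.val) v with hx
  set y : Fin a → V := fun l => ((X - 1) ^ (a - 1 - l.val)) v with hy
  have htri : ∀ k l : Fin a, l < k → B (x k) (y l) = 0 := by
    intro k l hlk
    have h1 : l.val < k.val := hlk
    have h2 := k.2
    exact pair_pow_zero B X hX a hNa k.val (a - 1 - l.val) v v (by omega)
  have hdiag : ∀ k : Fin a, B (x k) (y k) ≠ 0 := by
    intro k
    have h2 := k.2
    show B (((X - 1) ^ k.val) v) (((X - 1) ^ (a - 1 - k.val)) v) ≠ 0
    rw [pair_pow_anti B X hX a hNa k.val (a - 1 - k.val) v v (by omega)]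
    exact mul_ne_zero (pow_ne_zero _ (neg_ne_zero.2 one_ne_zero)) hv
  have hyx : ∀ l : Fin a, y l ∈ Submodule.span F (Set.range x) := by
    intro l
    have h2 := l.2
    exact Submodule.subset_span ⟨⟨a - 1 - l.val, by omega⟩, rfl⟩
  obtain ⟨hfin, hnd⟩ := tri_ndOn B x y htri hdiag hyx
  refine ⟨Submodule.span F (Set.range x), hfin, hnd, ?_, ?_⟩
  · apply span_invariant X x
    intro k
    show (X - 1) (((X - 1) ^ k.val) v) ∈ _
    rw [← Module.End.mul_apply, ← pow_succ']
    by_cases hk : k.val + 1 < a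
    · exact Submodule.subset_span ⟨⟨k.val + 1, hk⟩, rfl⟩
    · have h2 := k.2
      have : k.val + 1 = a := by omega
      rw [this, hNa]
      exact Submodule.zero_mem _
  · have h0 : x ⟨0, by omega⟩ = v := by
      show ((X - 1 : Module.End F V) ^ 0) v = v
      rw [pow_zero, Module.End.one_apply]
    rw [← h0]
    exact Submodule.subset_span ⟨_, rfl⟩

/-- the generator selector -/
noncomputable def sel (u w : V) (t : ℕ) : V := if t % 2 = 0 then u else w

theorem sel_congr (u w : V) {t t' : ℕ} (h : t % 2 = t' % 2) : sel u w t = sel u w t' := by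
  unfold sel
  rw [h]

theorem sel_even (u w : V) {t : ℕ} (h : t % 2 = 0) : sel u w t = u := by
  unfold sel
  rw [if_pos h]

theorem sel_odd (u w : V) {t : ℕ} (h : t % 2 = 1) : sel u w t = w := by
  unfold sel
  rw [if_neg (by omega)]

/-- the subspace generated by a pair of vectors with nonzero mixed top form -/
theorem atom_double (hX : ∀ u v, B (X u) (X v) = B u v) (a : ℕ) (ha : 1 ≤ a)
    (hNa : (X - 1) ^ a = 0) (u w : V) (huw : B u (((X - 1) ^ (a - 1)) w) ≠ 0)
    (hwu : B w (((X - 1) ^ (a - 1)) u) ≠ 0) (hww : B w (((X - 1) ^ (a - 1)) w) = 0) :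
    ∃ Q : Submodule F V, finrank F Q = 2 * a ∧ NdOn B Q ∧ (∀ z ∈ Q, X z ∈ Q) ∧ u ∈ Q := by
  set x : Fin (2 * a) → V := fun k => ((X - 1) ^ (k.val / 2)) (sel u w k.val) with hx
  set y : Fin (2 * a) → V := fun l => ((X - 1) ^ (a - 1 - l.val / 2)) (sel u w (l.val + 1))
    with hy
  have htri : ∀ k l : Fin (2 * a), l < k → B (x k) (y l) = 0 := by
    intro k l hlk
    have h1 : l.val < k.val := hlk
    have h2 := k.2
    show B (((X - 1) ^ (k.val / 2)) (sel u w k.val))
      (((X - 1) ^ (a - 1 - l.val / 2)) (sel u w (l.val + 1))) = 0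
    by_cases hlev : l.val / 2 < k.val / 2
    · exact pair_pow_zero B X hX a hNa _ _ _ _ (by omega)
    · have hl2 : l.val % 2 = 0 := by omega
      have hk2 : k.val % 2 = 1 := by omega
      have hkl : l.val / 2 = k.val / 2 := by omega
      rw [sel_odd u w hk2, sel_odd u w (by omega : (l.val + 1) % 2 = 1), hkl,
        pair_pow_anti B X hX a hNa (k.val / 2) (a - 1 - k.val / 2) w w (by omega), hww, mul_zero]
  have hdiag : ∀ k : Fin (2 * a), B (x k) (y k) ≠ 0 := by
    intro k
    have h2 := k.2
    show B (((X - 1) ^ (k.val / 2)) (sel u w k.val))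
      (((X - 1) ^ (a - 1 - k.val / 2)) (sel u w (k.val + 1))) ≠ 0
    rw [pair_pow_anti B X hX a hNa (k.val / 2) (a - 1 - k.val / 2) _ _ (by omega)]
    apply mul_ne_zero (pow_ne_zero _ (neg_ne_zero.2 one_ne_zero))
    rcases Nat.mod_two_eq_zero_or_one k.val with h | h
    · rw [sel_even u w h, sel_odd u w (by omega : (k.val + 1) % 2 = 1)]
      exact huw
    · rw [sel_odd u w h, sel_even u w (by omega : (k.val + 1) % 2 = 0)]
      exact hwu
  have hyx : ∀ l : Fin (2 * a), y l ∈ Submodule.span F (Set.range x) := by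
    intro l
    have h2 := l.2
    refine Submodule.subset_span ⟨⟨2 * (a - 1 - l.val / 2) + (l.val + 1) % 2, by omega⟩, ?_⟩
    show ((X - 1) ^ ((2 * (a - 1 - l.val / 2) + (l.val + 1) % 2) / 2))
      (sel u w (2 * (a - 1 - l.val / 2) + (l.val + 1) % 2)) = _
    have e1 : (2 * (a - 1 - l.val / 2) + (l.val + 1) % 2) / 2 = a - 1 - l.val / 2 := by omega
    rw [e1, sel_congr u w (by omega : (2 * (a - 1 - l.val / 2) + (l.val + 1) % 2) % 2 =
      (l.val + 1) % 2)]
  obtain ⟨hfin, hnd⟩ := tri_ndOn B x y htri hdiag hyx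
  refine ⟨Submodule.span F (Set.range x), hfin, hnd, ?_, ?_⟩
  · apply span_invariant X x
    intro k
    show (X - 1) (((X - 1) ^ (k.val / 2)) (sel u w k.val)) ∈ _
    rw [← Module.End.mul_apply, ← pow_succ']
    have h2 := k.2
    by_cases hk : k.val / 2 + 1 < a
    · refine Submodule.subset_span ⟨⟨k.val + 2, by omega⟩, ?_⟩
      show ((X - 1) ^ ((k.val + 2) / 2)) (sel u w (k.val + 2)) = _
      have e1 : (k.val + 2) / 2 = k.val / 2 + 1 := by omega
      rw [e1, sel_congr u w (by omega : (k.val + 2) % 2 = k.val % 2)]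
    · have : k.val / 2 + 1 = a := by omega
      rw [this, hNa]
      exact Submodule.zero_mem _
  · have h0 : x ⟨0, by omega⟩ = u := by
      simp only [hx]
      rw [Nat.zero_div, pow_zero, Module.End.one_apply, sel_even u w (by norm_num)]
    rw [← h0]
    exact Submodule.subset_span ⟨_, rfl⟩

end atoms

end Cfsg.Agent.Helper13.SpNd
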