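import Mathlib
import Cfsg.Agent.Lib.Helper13.SpNd9
import Cfsg.Agent.Lib.Helper13.OrthJp3
import Cfsg.Agent.Lib.Helper17.JordanSp

set_option autoImplicit false
set_option linter.unusedSectionVars false

/-!
# Unipotent symplectic isometries: parity of Jordan types and nondegenerate Jordan atoms
-/

namespace Cfsg.Agent.Helper13.SpNd

open Polynomial Module Cfsg.Agent.Helper13.SympSS Cfsg.Agent.Helper13.OrthJp
  Cfsg.Agent.Helper28.SympIso
open scoped Classical

universe u

section multiset

theorem type_eq_replicate (ν : Multiset ℕ) (a s : ℕ) (ha : 0 < a) (hpos : ∀ b ∈ ν, 0 < b)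
    (hsum : ν.sum = s * a) (hcount : s ≤ ν.count a) : ν = Multiset.replicate s a := by
  have h1 := Multiset.filter_add_not (fun b => b = a) ν
  rw [Multiset.filter_eq' ν a] at h1
  have h2 : ν.sum = ν.count a * a + (ν.filter (fun b => ¬ b = a)).sum := by
    conv_lhs => rw [← h1]
    rw [Multiset.sum_add, Multiset.sum_replicate, smul_eq_mul]
  have h3 : s * a ≤ ν.count a * a := Nat.mul_le_mul_right a hcount
  have h4 : (ν.filter (fun b => ¬ b = a)).sum = 0 := by omega
  have h5 : ν.count a * a = s * a := by omega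
  have h6 : ν.count a = s := Nat.eq_of_mul_eq_mul_right ha h5
  have h7 : ν.filter (fun b => ¬ b = a) = 0 := by
    rw [Multiset.eq_zero_iff_forall_notMem]
    intro b hb
    have hb' := Multiset.le_sum_of_mem hb
    have := hpos b (Multiset.mem_of_mem_filter hb)
    omega
  rw [h7, add_zero, h6] at h1
  exact h1.symm

theorem sum_sub_pred_eq_count (ν : Multiset ℕ) (a : ℕ) (ha : 1 ≤ a) (hle : ∀ b ∈ ν, b ≤ a) :
    (ν.map (fun b => b - (a - 1))).sum = ν.count a := by
  induction ν using Multiset.induction_on with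
  | empty => simp
  | cons b s ih =>
    have hb := hle b (Multiset.mem_cons_self b s)
    have ih' := ih (fun c hc => hle c (Multiset.mem_cons_of_mem hc))
    simp only [Multiset.map_cons, Multiset.sum_cons, Multiset.count_cons]
    rw [ih']
    split_ifs with h <;> omega

end multiset

section types
variable {F : Type*} [Field F] {V : Type*} [AddCommGroup V] [Module F V]
  [FiniteDimensional F V]

theorem hasType_le_of_pow_eq_zero {N : Module.End F V} {ν : Multiset ℕ} (h : HasType N ν)
    (k : ℕ) (hk : N ^ k = 0) : ∀ b ∈ ν, b ≤ k := by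
  have h1 := h.2 k
  rw [hk, LinearMap.range_zero, finrank_bot] at h1
  intro b hb
  have h2 : b - k ≤ (ν.map (fun a => a - k)).sum :=
    Multiset.single_le_sum (fun _ _ => Nat.zero_le _) _ (Multiset.mem_map.2 ⟨b, hb, rfl⟩)
  omega

theorem hasType_count_top {N : Module.End F V} {ν : Multiset ℕ} (h : HasType N ν)
    (a : ℕ) (ha : 1 ≤ a) (hNa : N ^ a = 0) :
    finrank F (LinearMap.range (N ^ (a - 1))) = ν.count a := by
  rw [h.2 (a - 1)]
  exact sum_sub_pred_eq_count ν a ha (hasType_le_of_pow_eq_zero h a hNa)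

end types

section parity
variable {F : Type u} [Field F] {V : Type u} [AddCommGroup V] [Module F V]
  [FiniteDimensional F V]

/-- the parity condition for unipotent symplectic isometries -/
theorem even_count_sp (B : LinearMap.BilinForm F V) (X : Module.End F V) (hAB : AltInv X B)
    {ν : Multiset ℕ} (h : HasType (X - 1) ν) (e : ℕ) (he : Odd e) : Even (ν.count e) := by
  obtain ⟨n, hn⟩ := Cfsg.Agent.Helper11.even_finrank_of_nondegenerate_isAlt B
    ⟨hAB.nondeg, hAB.nondeg_right⟩ hAB.alt
  obtain ⟨g, E, -, hgE⟩ := Cfsg.Agent.Helper13.SympDer.exists_matrix_conj X B hAB n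
    (by omega)
  have h' : HasType (Matrix.toLin' (g : Matrix (Fin n ⊕ Fin n) (Fin n ⊕ Fin n) F) - 1 :
      Module.End F (Fin n ⊕ Fin n → F)) ν := by
    refine hasType_of_equiv E ?_ h
    intro x
    rw [LinearMap.sub_apply, LinearMap.sub_apply, Module.End.one_apply, Module.End.one_apply,
      map_sub, hgE]
  obtain ⟨s, hs⟩ := he
  obtain ⟨a, ha⟩ := Cfsg.Agent.Helper17.JordanSp.even_rank_sub_one_pow g s
  obtain ⟨c, hc⟩ := Cfsg.Agent.Helper17.JordanSp.even_rank_sub_one_pow g (s + 1)
  rw [← finrank_range_toLin'_sub_one_pow, h'.2] at ha hc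
  have h4 := count_add_two_mul ν e (by omega)
  have e1 : e - 1 = 2 * s := by omega
  have e2 : e + 1 = 2 * (s + 1) := by omega
  rw [e1, e2, ha, hc] at h4
  exact ⟨a + c - (ν.map (fun a => a - e)).sum, by omega⟩

end parity

section atom
variable {F : Type u} [Field F] {V : Type u} [AddCommGroup V] [Module F V]
  [FiniteDimensional F V]

theorem restrict_sub_one (X : Module.End F V) (W : Submodule F V) (hX : ∀ z ∈ W, X z ∈ W)
    (hN : ∀ z ∈ W, (X - 1) z ∈ W) : (X - 1).restrict hN = X.restrict hX - 1 := by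
  ext w
  rfl

theorem sub_one_mem (X : Module.End F V) (W : Submodule F V) (hX : ∀ z ∈ W, X z ∈ W) :
    ∀ z ∈ W, (X - 1) z ∈ W := by
  intro z hz
  rw [LinearMap.sub_apply, Module.End.one_apply]
  exact W.sub_mem (hX z hz) hz

/-- a nondegenerate invariant subspace consisting of one or two Jordan blocks of maximal size -/
theorem exists_atom (h2 : (2 : F) ≠ 0) (B : LinearMap.BilinForm F V) (X : Module.End F V)
    (hAB : AltInv X B) (μ : Multiset ℕ) (hμ : HasType (X - 1) μ) (a : ℕ) (ha : a ∈ μ)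
    (hmax : ∀ b ∈ μ, b ≤ a) :
    ∃ (Q : Submodule F V) (s : ℕ), (Even a → s = 1) ∧ (Odd a → s = 2) ∧ NdOn B Q ∧
      ∃ hQ : ∀ z ∈ Q, X z ∈ Q, finrank F Q = s * a ∧
        HasType (X.restrict hQ - 1) (Multiset.replicate s a) := by
  have ha1 : 1 ≤ a := hμ.1 a ha
  have hNa : (X - 1) ^ a = 0 := hμ.pow_eq_zero a hmax
  have hX := hAB.inv
  have hB := hAB.alt
  -- the top power is nonzero
  have hrk : 0 < finrank F (LinearMap.range ((X - 1) ^ (a - 1))) := by
    rw [hμ.2 (a - 1)]
    have h3 : a - (a - 1) ≤ (μ.map (fun b => b - (a - 1))).sum :=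
      Multiset.single_le_sum (fun _ _ => Nat.zero_le _) _ (Multiset.mem_map.2 ⟨a, ha, rfl⟩)
    omega
  have hex : ∃ u₀ w₀ : V, B u₀ (((X - 1) ^ (a - 1)) w₀) ≠ 0 := by
    by_contra hcon
    push Not at hcon
    have h0 : (X - 1) ^ (a - 1) = 0 := by
      apply LinearMap.ext
      intro w
      exact hAB.nondeg_right _ (fun u => hcon u w)
    rw [h0, LinearMap.range_zero, finrank_bot] at hrk
    omega
  obtain ⟨u₀, w₀, huw⟩ := hex
  have hsymm := top_form_symm B X hB hX a ha1 hNa
  -- the common conclusion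
  have hfinish : ∀ (Q : Submodule F V) (s : ℕ), (Even a → s = 1) → (Odd a → s = 2) →
      (1 ≤ s) → NdOn B Q → (∀ z ∈ Q, X z ∈ Q) → finrank F Q = s * a →
      (∃ z ∈ Q, ((X - 1) ^ (a - 1)) z ≠ 0) →
      ∃ (Q : Submodule F V) (s : ℕ), (Even a → s = 1) ∧ (Odd a → s = 2) ∧ NdOn B Q ∧
        ∃ hQ : ∀ z ∈ Q, X z ∈ Q, finrank F Q = s * a ∧
          HasType (X.restrict hQ - 1) (Multiset.replicate s a) := by
    intro Q s hs1 hs2 hs hQnd hQinv hQfin ⟨z, hzQ, hz⟩
    refine ⟨Q, s, hs1, hs2, hQnd, hQinv, hQfin, ?_⟩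
    have hN := sub_one_mem X Q hQinv
    have hnil : IsNilpotent ((X - 1).restrict hN) :=
      isNilpotent_restrict ⟨a, hNa⟩ hN
    obtain ⟨ν, hν⟩ := exists_hasType _ hnil
    have hNa' : ((X - 1).restrict hN) ^ a = 0 := by
      ext w
      rw [restrict_pow_apply, hNa]
      rfl
    have hcnt := hasType_count_top hν a ha1 hNa'
    have hpos : 0 < finrank F (LinearMap.range (((X - 1).restrict hN) ^ (a - 1))) := by
      rw [Nat.pos_iff_ne_zero]
      intro h0
      have h3 : LinearMap.range (((X - 1).restrict hN) ^ (a - 1)) = ⊥ :=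
        Submodule.finrank_eq_zero.1 h0
      have h4 := LinearMap.range_eq_bot.1 h3
      have h5 := congrArg (fun f => ((f (⟨z, hzQ⟩ : Q) : Q) : V)) h4
      simp only [restrict_pow_apply] at h5
      exact hz h5
    have hres := altInv_restrict B hAB Q hQnd hQinv
    have hν' : HasType (X.restrict hQinv - 1) ν := by
      rw [← restrict_sub_one X Q hQinv hN]
      exact hν
    have hcount : s ≤ ν.count a := by
      rcases Nat.even_or_odd a with hev | hodd
      · rw [hs1 hev]
        omega
      · rw [hs2 hodd]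
        obtain ⟨c, hc⟩ := even_count_sp (resForm B Q) (X.restrict hQinv) hres hν' a hodd
        omega
    have hsum : ν.sum = s * a := by
      rw [hν.sum, hQfin]
    rw [← type_eq_replicate ν a s (by omega) hν.1 hsum hcount]
    exact hν'
  rcases Nat.even_or_odd a with hev | hodd
  · -- the symmetric case
    have hsym : ∀ u w, B w (((X - 1) ^ (a - 1)) u) = B u (((X - 1) ^ (a - 1)) w) := by
      intro u w
      rw [hsymm u w, hev.neg_one_pow, one_mul]
    have hexv : ∃ v, B v (((X - 1) ^ (a - 1)) v) ≠ 0 := by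
      by_contra hcon
      push Not at hcon
      have h1 := hcon (u₀ + w₀)
      simp only [map_add, LinearMap.add_apply, hcon u₀, hcon w₀, zero_add, add_zero] at h1
      rw [hsym u₀ w₀] at h1
      have h3 : (2 : F) * B u₀ (((X - 1) ^ (a - 1)) w₀) = 0 := by
        rw [two_mul]
        exact h1
      rcases mul_eq_zero.1 h3 with h | h
      · exact h2 h
      · exact huw h
    obtain ⟨v, hv⟩ := hexv
    obtain ⟨Q, hQfin, hQnd, hQinv, hvQ⟩ := atom_single B X hX a ha1 hNa v hv
    refine hfinish Q 1 (fun _ => rfl) (fun h => ?_) le_rfl hQnd hQinv (by rw [hQfin, one_mul])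
      ⟨v, hvQ, ?_⟩
    · exact absurd hev (Nat.not_even_iff_odd.2 h)
    · intro h0
      rw [h0, map_zero] at hv
      exact hv rfl
  · -- the alternating case
    have hskew : ∀ u w, B w (((X - 1) ^ (a - 1)) u) = - B u (((X - 1) ^ (a - 1)) w) := by
      intro u w
      rw [hsymm u w, hodd.neg_one_pow, neg_one_mul]
    have hww : B w₀ (((X - 1) ^ (a - 1)) w₀) = 0 := by
      have h1 := hskew w₀ w₀
      have h3 : (2 : F) * B w₀ (((X - 1) ^ (a - 1)) w₀) = 0 := by
        rw [two_mul]
        linear_combination h1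
      rcases mul_eq_zero.1 h3 with h | h
      · exact absurd h h2
      · exact h
    have hwu : B w₀ (((X - 1) ^ (a - 1)) u₀) ≠ 0 := by
      rw [hskew u₀ w₀]
      exact neg_ne_zero.2 huw
    obtain ⟨Q, hQfin, hQnd, hQinv, huQ⟩ := atom_double B X hX a ha1 hNa u₀ w₀ huw hwu hww
    refine hfinish Q 2 (fun h => ?_) (fun _ => rfl) (by omega) hQnd hQinv hQfin ⟨u₀, huQ, ?_⟩
    · exact absurd hodd (Nat.not_odd_iff_even.2 h)
    · intro h0
      rw [h0, map_zero] at hwu
      exact hwu rfl

end atom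

end Cfsg.Agent.Helper13.SpNd
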