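import Mathlib
import Cfsg.Agent.Lib.Helper13.SpNd10
import Cfsg.Agent.Lib.Helper17.JordanSpExists

set_option autoImplicit false
set_option linter.unusedSectionVars false

/-!
# Unipotent symplectic isometries: invariant nondegenerate subspaces
-/

namespace Cfsg.Agent.Helper13.SpNd

open Polynomial Module Cfsg.Agent.Helper13.SympSS Cfsg.Agent.Helper13.OrthJp
  Cfsg.Agent.Helper28.SympIso
open scoped Classical

universe u

section suff
variable {F : Type u} [Field F]

theorem le_of_le_add_of_notMem (ν μ' : Multiset ℕ) (s a : ℕ)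
    (h : ν ≤ Multiset.replicate s a + μ') (ha : a ∉ ν) : ν ≤ μ' := by
  rw [Multiset.le_iff_count] at h ⊢
  intro b
  have h1 := h b
  rw [Multiset.count_add, Multiset.count_replicate] at h1
  split_ifs at h1 with hab
  · rw [← hab, Multiset.count_eq_zero_of_notMem ha]
    exact Nat.zero_le _
  · omega

/-- sufficiency: every parity-admissible sub-type is realised by an invariant nondegenerate
subspace -/
theorem unip_suff (h2 : (2 : F) ≠ 0) :
    ∀ (n : ℕ) {V : Type u} [AddCommGroup V] [Module F V] [FiniteDimensional F V]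
      (B : LinearMap.BilinForm F V) (X : Module.End F V), finrank F V = n → AltInv X B →
      ∀ μ : Multiset ℕ, HasType (X - 1) μ → ∀ ν : Multiset ℕ, ν ≤ μ →
      (∀ e, Odd e → Even (ν.count e)) → FixN B X ν.sum := by
  intro n
  induction n using Nat.strong_induction_on with
  | _ n ih =>
  intro V _ _ _ B X hn hAB μ hμ ν hνμ hpar
  by_cases hμ0 : μ = 0
  · rw [hμ0] at hνμ
    rw [Multiset.le_zero.1 hνμ, Multiset.sum_zero]
    exact FixN.zero B X
  -- the largest part
  have hne : μ.toFinset.Nonempty := by
    rw [Multiset.toFinset_nonempty]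
    exact hμ0
  obtain ⟨a, ha, hmax⟩ := Finset.exists_max_image μ.toFinset id hne
  rw [Multiset.mem_toFinset] at ha
  have hmax' : ∀ b ∈ μ, b ≤ a := fun b hb => hmax b (Multiset.mem_toFinset.2 hb)
  have ha1 : 1 ≤ a := hμ.1 a ha
  obtain ⟨Q, s, hs1, hs2, hQnd, hQinv, hQfin, hQtype⟩ := exists_atom h2 B X hAB μ hμ a ha hmax'
  have hs : 1 ≤ s := by
    rcases Nat.even_or_odd a with h | h
    · rw [hs1 h]
    · rw [hs2 h]
      omega
  -- the complement
  have hCinv := orth_invariant B hAB Q hQinv
  have hCnd := ndOn_orth B hAB.alt hAB.nondeg Q hQnd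
  have hfin := finrank_orth B hAB.alt Q hQnd
  have hc := isCompl_orth B hAB.alt Q hQnd
  have hAB' := altInv_restrict B hAB _ hCnd hCinv
  have hNQ := sub_one_mem X Q hQinv
  have hNC := sub_one_mem X _ hCinv
  have hnil : IsNilpotent (X - 1) := hμ.isNilpotent
  obtain ⟨μ', hμ'⟩ := exists_hasType _ (isNilpotent_restrict hnil hNC)
  have hQtype' : HasType ((X - 1).restrict hNQ) (Multiset.replicate s a) := by
    rw [restrict_sub_one X Q hQinv hNQ]
    exact hQtype
  have hsum := HasType.add hc hNQ hNC hQtype' hμ'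
  have hμeq : μ = Multiset.replicate s a + μ' := hμ.unique hsum
  have hμ'' : HasType (X.restrict hCinv - 1) μ' := by
    rw [← restrict_sub_one X _ hCinv hNC]
    exact hμ'
  have hsa : 0 < s * a := Nat.mul_pos hs ha1
  have hn' : finrank F ↥(B.orthogonal Q) < n := by omega
  by_cases haν : a ∈ ν
  · -- peel the atom
    have hcount : s ≤ ν.count a := by
      have h1 : 1 ≤ ν.count a := Multiset.one_le_count_iff_mem.2 haν
      rcases Nat.even_or_odd a with h | h
      · rw [hs1 h]
        exact h1
      · rw [hs2 h]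
        obtain ⟨c, hc⟩ := hpar a h
        omega
    have hrep : Multiset.replicate s a ≤ ν := Multiset.le_count_iff_replicate_le.1 hcount
    set ν' := ν - Multiset.replicate s a with hν'
    have hνeq : ν = Multiset.replicate s a + ν' := by
      rw [hν', add_comm]
      exact (tsub_add_cancel_of_le hrep).symm
    have hν'μ' : ν' ≤ μ' := by
      rw [hνeq, hμeq] at hνμ
      exact (Multiset.add_le_add_iff_left).1 hνμ
    have hpar' : ∀ e, Odd e → Even (ν'.count e) := by
      intro e he
      rw [hν', Multiset.count_sub, Multiset.count_replicate]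
      split_ifs with hae
      · subst hae
        rw [hs2 he]
        obtain ⟨c, hc⟩ := hpar a he
        have h1 : 1 ≤ ν.count a := Multiset.one_le_count_iff_mem.2 haν
        exact ⟨c - 1, by omega⟩
      · rw [Nat.sub_zero]
        exact hpar e he
    have h3 := ih _ hn' (resForm B _) (X.restrict hCinv) rfl hAB' μ' hμ'' ν' hν'μ' hpar'
    have h4 := FixN.add_block B hAB Q hQnd hQinv _ h3
    have e : ν.sum = finrank F Q + ν'.sum := by
      conv_lhs => rw [hνeq]
      rw [Multiset.sum_add, Multiset.sum_replicate, smul_eq_mul, hQfin]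
    rw [e]
    exact h4
  · -- the atom is not needed
    have hνμ' : ν ≤ μ' := le_of_le_add_of_notMem ν μ' s a (hμeq ▸ hνμ) haν
    have h3 := ih _ hn' (resForm B _) (X.restrict hCinv) rfl hAB' μ' hμ'' ν hνμ' hpar
    exact FixN.of_sub B X _ hCinv _ h3

end suff

section sub
variable {F : Type u} [Field F] {V : Type u} [AddCommGroup V] [Module F V]
  [FiniteDimensional F V]

/-- the type of an invariant nondegenerate subspace -/
theorem sub_type_sp (B : LinearMap.BilinForm F V) (X : Module.End F V) (hAB : AltInv X B)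
    {μ : Multiset ℕ} (hμ : HasType (X - 1) μ) (W : Submodule F V) (hWnd : NdOn B W)
    (hWinv : ∀ w ∈ W, X w ∈ W) :
    ∃ ν : Multiset ℕ, ν ≤ μ ∧ ν.sum = finrank F W ∧ ∀ e, Odd e → Even (ν.count e) := by
  have hCinv := orth_invariant B hAB W hWinv
  have hc := isCompl_orth B hAB.alt W hWnd
  have hNW := sub_one_mem X W hWinv
  have hNC := sub_one_mem X _ hCinv
  have hnil : IsNilpotent (X - 1) := hμ.isNilpotent
  obtain ⟨ν, hν⟩ := exists_hasType _ (isNilpotent_restrict hnil hNW)
  obtain ⟨ν', hν'⟩ := exists_hasType _ (isNilpotent_restrict hnil hNC)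
  have hsum := HasType.add hc hNW hNC hν hν'
  have hμeq : μ = ν + ν' := hμ.unique hsum
  refine ⟨ν, ?_, hν.sum, ?_⟩
  · rw [hμeq]
    exact Multiset.le_add_right _ _
  · intro e he
    have hres := altInv_restrict B hAB W hWnd hWinv
    rw [restrict_sub_one X W hWinv hNW] at hν
    exact even_count_sp (resForm B W) (X.restrict hWinv) hres hν e he

end sub

section exist
variable {F : Type u} [Field F]

theorem LS_eq_toLin' {m : ℕ} (g : Matrix.symplecticGroup (Fin m) F) :
    LS g = Matrix.toLin' (g : Matrix (Fin m ⊕ Fin m) (Fin m ⊕ Fin m) F) := by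
  apply LinearMap.ext
  intro v
  rw [LS_apply, Matrix.toLin'_apply]

/-- existence of a unipotent symplectic matrix of each admissible type -/
theorem exists_unip_sp (μ : Multiset ℕ) (hpos : ∀ a ∈ μ, 0 < a)
    (hpar : ∀ e, Odd e → Even (μ.count e)) (m : ℕ) (hsum : μ.sum = 2 * m) :
    ∃ g : Matrix.symplecticGroup (Fin m) F, HasType (LS g - 1) μ := by
  obtain ⟨l, rfl⟩ := Quot.exists_rep μ
  let k : Fin l.length → ℕ := fun i => l.get i
  have hk : Finset.univ.val.map k = (l : Multiset ℕ) := by
    rw [Fin.univ_val_map, List.ofFn_get]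
  have hkpos : ∀ i, 1 ≤ k i := fun i => hpos _ (by
    show l.get i ∈ (l : Multiset ℕ)
    exact Multiset.mem_coe.2 (List.get_mem l i))
  have hksum : ∑ i, k i = 2 * m := by
    rw [← hsum]
    change (Finset.univ.val.map k).sum = _
    rw [hk]
    rfl
  have hpar' : ∀ j : ℕ, Odd j →
      Even (Finset.univ.filter (fun i : Fin l.length => k i = j)).card := by
    intro j hj
    have h3 : (Finset.univ.filter (fun i : Fin l.length => k i = j)).card =
        Multiset.count j (Finset.univ.val.map k) := by
      rw [Multiset.count_map]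
      show Multiset.card (Multiset.filter (fun i => k i = j) Finset.univ.val) = _
      congr 1
      apply Multiset.filter_congr
      intro x _
      exact eq_comm
    rw [h3, hk]
    exact hpar j hj
  obtain ⟨e, A, hA⟩ := Cfsg.Agent.Helper17.JordanSpEx.exists_isConj (F := F) k hksum hpar'
  refine ⟨A, ?_⟩
  have := hasType_of_isConj k hkpos e _ hA
  rw [hk] at this
  rw [LS_eq_toLin']
  exact this

end exist

end Cfsg.Agent.Helper13.SpNd
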