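import Mathlib
import Cfsg.Agent.Lib.Helper13.SpNd11
import Cfsg.Agent.Lib.Helper13.OrthJp4

set_option autoImplicit false
set_option linter.unusedSectionVars false

/-!
# Elements of prime order of symplectic groups fixing nondegenerate subspaces: assembly
-/

namespace Cfsg.Agent.Helper13.SpNd

open Polynomial Module Cfsg.Agent.Helper13.SympSS Cfsg.Agent.Helper13.OrthJp
  Cfsg.Agent.Helper13.SpDec Cfsg.Agent.Helper13.SpTi Cfsg.Agent.Helper28.SympIso
  Cfsg.Agent.Helper13.SS Cfsg.Agent.Helper13.Dual Cfsg.Agent.Helper13.SlDec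
open scoped Classical

universe u

section unip
variable {F : Type u} [Field F] [Fintype F] {p : ℕ} [Fact p.Prime] [CharP F p]

theorem ones_case (μ : Multiset ℕ) (hall : ∀ a ∈ μ, a = 1) (m : ℕ) (hme : Even m)
    (hm : m ≤ μ.sum) :
    ∃ ν : Multiset ℕ, ν ≤ μ ∧ ν.sum = m ∧ ∀ e, Odd e → Even (ν.count e) := by
  have h1 : μ = Multiset.replicate (Multiset.card μ) 1 := Multiset.eq_replicate_card.2 hall
  have h2 : μ.sum = Multiset.card μ := by
    conv_lhs => rw [h1]
    rw [Multiset.sum_replicate, smul_eq_mul, mul_one]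
  refine ⟨Multiset.replicate m 1, ?_, ?_, ?_⟩
  · rw [h1, Multiset.replicate_le_replicate]
    omega
  · rw [Multiset.sum_replicate, smul_eq_mul, mul_one]
  · intro e _
    rw [Multiset.count_replicate]
    split_ifs
    · exact hme
    · exact Even.zero

theorem coe_pow_eq_one_of_LS {d : ℕ} (g : Matrix.symplecticGroup (Fin d) F) (k : ℕ)
    (h : LS g ^ k = 1) :
    ((g ^ k : Matrix.symplecticGroup (Fin d) F) :
      Matrix (Fin d ⊕ Fin d) (Fin d ⊕ Fin d) F) = 1 := by
  rw [SubmonoidClass.coe_pow]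
  apply (Matrix.toLinAlgEquiv' (R := F) (n := Fin d ⊕ Fin d)).injective
  rw [map_pow, map_one]
  exact h

/-- the case `r = p > 2` -/
theorem unip_main (hp2 : p ≠ 2) (d m : ℕ) (hd : 1 ≤ d) (hme : Even m) (hmd : m ≤ 2 * d) :
    (∀ x : Matrix.symplecticGroup (Fin d) F,
      (∃ z : F, ((x ^ p : Matrix.symplecticGroup (Fin d) F) :
        Matrix (Fin d ⊕ Fin d) (Fin d ⊕ Fin d) F) = z • 1) →
      (∀ z : F, (x : Matrix (Fin d ⊕ Fin d) (Fin d ⊕ Fin d) F) ≠ z • 1) →
      FixN (sympBil d F) (LS x) m) ↔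
    (∀ μ : Multiset ℕ, (∀ a ∈ μ, 0 < a ∧ a ≤ p) → (∀ a : ℕ, Odd a → Even (μ.count a)) →
      μ.sum = 2 * d → ∃ ν : Multiset ℕ, ν ≤ μ ∧ ν.sum = m ∧ ∀ a : ℕ, Odd a → Even (ν.count a)) := by
  have hp : p.Prime := Fact.out
  have hpodd : Odd p := hp.odd_of_ne_two hp2
  have h2F : (2 : F) ≠ 0 := by
    have := cast_ne_zero_of_prime_ne (F := F) (p := p) Nat.prime_two (fun h => hp2 h.symm)
    simpa using this
  have hfin : finrank F (Fin d ⊕ Fin d → F) = 2 * d := by
    rw [Module.finrank_fintype_fun_eq_card, Fintype.card_sum, Fintype.card_fin]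
    ring
  constructor
  · intro hall μ hμ hpar hsum
    by_cases hones : ∀ a ∈ μ, a = 1
    · exact ones_case μ hones m hme (by rw [hsum]; exact hmd)
    push Not at hones
    obtain ⟨a, ha, ha1⟩ := hones
    have ha2 : 2 ≤ a := by
      have := (hμ a ha).1
      omega
    obtain ⟨g, hg⟩ := exists_unip_sp (F := F) μ (fun a ha => (hμ a ha).1) hpar d hsum
    have hgp : LS g ^ p = 1 := pow_char_eq_one p hg (fun a ha => (hμ a ha).2)
    have hns : ∀ z : F, (g : Matrix (Fin d ⊕ Fin d) (Fin d ⊕ Fin d) F) ≠ z • 1 := by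
      intro z hz
      apply not_smul_of_hasType hg a ha ha2 (z - 1)
      apply LinearMap.ext
      intro v
      rw [LinearMap.sub_apply, LS_apply, hz, Matrix.smul_mulVec, Matrix.one_mulVec,
        Module.End.one_apply, LinearMap.smul_apply, Module.End.one_apply, sub_smul, one_smul]
    obtain ⟨W, hWm, hWnd, hWinv⟩ := hall g ⟨1, by
      rw [coe_pow_eq_one_of_LS g p hgp, one_smul]⟩ hns
    obtain ⟨ν, h1, h3, h4⟩ := sub_type_sp (sympBil d F) (LS g) (LS_altInv g) hg W hWnd hWinv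
    exact ⟨ν, h1, by rw [h3, hWm], h4⟩
  · intro hcond x ⟨z, hxz⟩ hns
    have hd0 : 0 < d := hd
    obtain ⟨x', hx', -, hmap⟩ := exists_normalized' hd0 p hpodd x z hxz hns
    have hfix : FixN (sympBil d F) (LS x') m := by
      have hA : LS x' ^ p = 1 := LS_pow_eq_one x' p hx'
      have hNp : (LS x' - 1) ^ p = 0 := by
        haveI : CharP (Module.End F (Fin d ⊕ Fin d → F)) p := by
          haveI : Nontrivial (Fin d ⊕ Fin d → F) := by
            apply Module.nontrivial_of_finrank_pos (R := F)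
            rw [hfin]
            omega
          exact charP_of_injective_algebraMap
            (algebraMap F (Module.End F (Fin d ⊕ Fin d → F))).injective p
        have h1 := sub_pow_char_of_commute p (Commute.one_right (LS x'))
        rw [h1, hA, one_pow, sub_self]
      obtain ⟨μ, hμ⟩ := exists_hasType (LS x' - 1) ⟨p, hNp⟩
      have hle := hasType_le_of_pow_eq_zero hμ p hNp
      have hsum : μ.sum = 2 * d := by rw [hμ.sum, hfin]
      obtain ⟨ν, h1, h3, h4⟩ := hcond μ (fun a ha => ⟨hμ.1 a ha, hle a ha⟩)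
        (fun a ha => even_count_sp (sympBil d F) (LS x') (LS_altInv x') hμ a ha) hsum
      have := unip_suff h2F (2 * d) (sympBil d F) (LS x') hfin (LS_altInv x') μ hμ ν h1 h4
      rwa [h3] at this
    obtain ⟨W, hWm, hWnd, hWinv⟩ := hfix
    refine ⟨W, hWm, hWnd, ?_⟩
    rw [← map_le_iff] at hWinv ⊢
    rw [← hmap]
    exact hWinv

end unip

section main
variable {F : Type u} [Field F] [Fintype F] {p : ℕ} [Fact p.Prime] [CharP F p] {q : ℕ}

theorem nd_main (hq : Fintype.card F = q)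
    (d m : ℕ) (hd : 2 ≤ d) (hm : 2 ≤ m) (hme : Even m) (hmd : m < d)
    (r : ℕ) [Fact r.Prime]
    (hrΩ : r ∣ Nat.card {W : Submodule F (Fin d ⊕ Fin d → F) // Module.finrank F ↥W = m ∧
      (∀ u ∈ W, u ≠ 0 → ∃ v ∈ W, Cfsg.sympForm d F u v ≠ 0)})
    (i c : ℕ) (hi : i = orderOf (q : ZMod r)) (hc : c = if Even i then i else 2 * i) :
    (∀ x : ↥(Matrix.symplecticGroup (Fin d) F),
      (∃ z : F, ((x ^ r : ↥(Matrix.symplecticGroup (Fin d) F)) :
        Matrix (Fin d ⊕ Fin d) (Fin d ⊕ Fin d) F) =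
          z • (1 : Matrix (Fin d ⊕ Fin d) (Fin d ⊕ Fin d) F)) →
      (∀ z : F, (x : Matrix (Fin d ⊕ Fin d) (Fin d ⊕ Fin d) F) ≠
        z • (1 : Matrix (Fin d ⊕ Fin d) (Fin d ⊕ Fin d) F)) →
      ∃ W : Submodule F (Fin d ⊕ Fin d → F), Module.finrank F ↥W = m ∧
        (∀ u ∈ W, u ≠ 0 → ∃ v ∈ W, Cfsg.sympForm d F u v ≠ 0) ∧
        W.map (Matrix.toLin' (x : Matrix (Fin d ⊕ Fin d) (Fin d ⊕ Fin d) F)) ≤ W) ↔
    ((r = p ∧ 2 < p ∧ (∀ μ : Multiset ℕ, (∀ a ∈ μ, 0 < a ∧ a ≤ p) →
        (∀ a : ℕ, Odd a → Even (μ.count a)) → μ.sum = 2 * d →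
        ∃ ν : Multiset ℕ, ν ≤ μ ∧ ν.sum = m ∧ ∀ a : ℕ, Odd a → Even (ν.count a))) ∨
     (r = p ∧ p = 2 ∧ ((2 * d) % 4 = 2 ∨ m % 4 = 0)) ∨
     (r = 2 ∧ p ≠ 2) ∨
     (r ≠ p ∧ 2 < r ∧ c ≤ m ∧ m % c ≤ (2 * d) % c)) := by
  have hr : r.Prime := Fact.out
  have hp : p.Prime := Fact.out
  have hd1 : 1 ≤ d := by omega
  have hd0 : 0 < d := by omega
  have hm2d : m ≤ 2 * d := by omega
  simp only [fixn_iff]
  by_cases hrp : r = p
  · subst hrp
    by_cases hr2 : r = 2
    · subst hr2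
      have h2F : (2 : F) = 0 := by
        have := CharP.cast_eq_zero F 2
        simpa using this
      rw [char2_main h2F d m hd1 hme hm2d]
      constructor
      · intro h
        exact Or.inr (Or.inl ⟨rfl, rfl, h⟩)
      · rintro (⟨-, h, -⟩ | ⟨-, -, h⟩ | ⟨-, h⟩ | ⟨h, -⟩)
        · omega
        · exact h
        · exact absurd rfl h
        · exact absurd rfl h
    · rw [unip_main hr2 d m hd1 hme hm2d]
      have hr3 : 2 < r := by
        have := hr.two_le
        omega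
      constructor
      · intro h
        exact Or.inl ⟨rfl, hr3, h⟩
      · rintro (⟨-, -, h⟩ | ⟨-, h, -⟩ | ⟨h, -⟩ | ⟨h, -⟩)
        · exact h
        · exact absurd h hr2
        · exact absurd h hr2
        · exact absurd rfl h
  by_cases hr2 : r = 2
  · subst hr2
    have hp2 : p ≠ 2 := fun h => hrp h.symm
    have h2F : (2 : F) ≠ 0 := by
      have := cast_ne_zero_of_prime_ne (F := F) (p := p) Nat.prime_two (fun h => hrp h)
      simpa using this
    constructor
    · intro _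
      exact Or.inr (Or.inr (Or.inl ⟨rfl, hp2⟩))
    · intro _ x ⟨z, hxz⟩ _
      exact two_odd_main h2F hd1 m hme hm2d x z hxz
  · have hrodd : Odd r := hr.eq_two_or_odd'.resolve_left hr2
    have hr3 : 2 < r := by
      have := hr.two_le
      omega
    have hrΩ' : r ∣ Nat.card (NdSubS (sympBil d F) m) := by
      have : Nat.card (NdSubS (sympBil d F) m) =
          Nat.card {W : Submodule F (Fin d ⊕ Fin d → F) // Module.finrank F ↥W = m ∧
            (∀ u ∈ W, u ≠ 0 → ∃ v ∈ W, Cfsg.sympForm d F u v ≠ 0)} := by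
        apply Nat.card_congr
        apply Equiv.subtypeEquivRight
        intro W
        simp only [← ndOn_iff, sympBil_apply]
      rw [this]
      exact hrΩ
    constructor
    · intro hall
      refine Or.inr (Or.inr (Or.inr ⟨hrp, hr3, ?_⟩))
      apply ss_nec hq hr hr2 hrp i c hi hc d m hd0 hme hmd hrΩ'
      intro x hx hns
      exact hall x ⟨1, by rw [hx, one_smul]; rfl⟩ hns
    · rintro (⟨h, -, -⟩ | ⟨h, -, -⟩ | ⟨h, -⟩ | ⟨-, -, -, hcond⟩)
      · exact absurd h hrp
      · exact absurd h hrp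
      · exact absurd h hr2
      · intro x ⟨z, hxz⟩ hns
        obtain ⟨x', hx', -, hmap⟩ := exists_normalized' hd0 r hrodd x z hxz hns
        obtain ⟨W, hWm, hWnd, hWinv⟩ := ss_suff hq hr hr2 hrp i c hi hc d m hme hm2d hcond x' hx'
        refine ⟨W, hWm, hWnd, ?_⟩
        rw [← map_le_iff] at hWinv ⊢
        rw [← hmap]
        exact hWinv

end main

end Cfsg.Agent.Helper13.SpNd
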