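import Mathlib
import Cfsg.Prelude.Def_GeometricClasses
import Cfsg.Agent.Lib.Helper28.SympIso

/-!
# Similarities of a symplectic form: transport to the standard form (helper13)
-/

set_option autoImplicit false

namespace Cfsg.Agent.Helper13.SpSim

open Matrix Module

section transport

variable {F : Type*} [Field F] {ι κ : Type*} [Fintype ι] [DecidableEq ι] [Fintype κ]
  [DecidableEq κ]

/-- transport of a matrix along a linear equivalence of coordinate spaces -/
noncomputable def pull (e : (ι → F) ≃ₗ[F] (κ → F)) (A : Matrix κ κ F) : Matrix ι ι F :=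
  LinearMap.toMatrix' (e.symm.conj (Matrix.toLin' A))

theorem pull_mulVec (e : (ι → F) ≃ₗ[F] (κ → F)) (A : Matrix κ κ F) (v : ι → F) :
    pull e A *ᵥ v = e.symm (A *ᵥ e v) := by
  unfold pull
  rw [← Matrix.toLin'_apply, Matrix.toLin'_toMatrix', LinearEquiv.conj_apply_apply,
    LinearEquiv.symm_symm, Matrix.toLin'_apply]

theorem pull_mul (e : (ι → F) ≃ₗ[F] (κ → F)) (A B : Matrix κ κ F) :
    pull e (A * B) = pull e A * pull e B := by
  unfold pull
  rw [Matrix.toLin'_mul, ← LinearMap.toMatrix'_comp, ← LinearEquiv.conj_comp]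

theorem pull_one (e : (ι → F) ≃ₗ[F] (κ → F)) : pull e (1 : Matrix κ κ F) = 1 := by
  unfold pull
  rw [Matrix.toLin'_one, LinearEquiv.conj_id, LinearMap.toMatrix'_id]

theorem pull_smul (e : (ι → F) ≃ₗ[F] (κ → F)) (c : F) (A : Matrix κ κ F) :
    pull e (c • A) = c • pull e A := by
  unfold pull
  rw [map_smul, map_smul, map_smul]

theorem pull_add (e : (ι → F) ≃ₗ[F] (κ → F)) (A B : Matrix κ κ F) :
    pull e (A + B) = pull e A + pull e B := by
  unfold pull
  rw [map_add, map_add, map_add]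

theorem pull_sub (e : (ι → F) ≃ₗ[F] (κ → F)) (A B : Matrix κ κ F) :
    pull e (A - B) = pull e A - pull e B := by
  unfold pull
  rw [map_sub, map_sub, map_sub]

theorem det_pull (e : (ι → F) ≃ₗ[F] (κ → F)) (A : Matrix κ κ F) : (pull e A).det = A.det := by
  unfold pull
  rw [LinearMap.det_toMatrix']
  have h := LinearMap.det_conj (Matrix.toLin' A) e.symm
  rw [LinearEquiv.symm_symm] at h
  rw [← LinearMap.det_toLin' A, ← h]
  rfl

theorem charpoly_pull (e : (ι → F) ≃ₗ[F] (κ → F)) (A : Matrix κ κ F) :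
    (pull e A).charpoly = A.charpoly := by
  unfold pull
  rw [← LinearMap.toMatrix_eq_toMatrix', LinearMap.charpoly_toMatrix, LinearEquiv.charpoly_conj,
    Matrix.charpoly_toLin']

theorem rank_pull (e : (ι → F) ≃ₗ[F] (κ → F)) (A : Matrix κ κ F) :
    (pull e A).rank = A.rank := by
  have h1 : LinearMap.range (Matrix.mulVecLin (pull e A)) =
      (LinearMap.range (Matrix.mulVecLin A)).map (e.symm : (κ → F) →ₗ[F] (ι → F)) := by
    ext w
    constructor
    · rintro ⟨v, rfl⟩
      rw [Matrix.mulVecLin_apply, pull_mulVec]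
      exact ⟨A *ᵥ e v, ⟨e v, rfl⟩, rfl⟩
    · rintro ⟨_, ⟨v, rfl⟩, rfl⟩
      refine ⟨e.symm v, ?_⟩
      rw [Matrix.mulVecLin_apply, pull_mulVec, LinearEquiv.apply_symm_apply]
      rfl
  unfold Matrix.rank
  rw [h1]
  exact LinearEquiv.finrank_map_eq e.symm _

theorem pull_symm_pull (e : (ι → F) ≃ₗ[F] (κ → F)) (A : Matrix κ κ F) :
    pull e.symm (pull e A) = A := by
  apply Matrix.toLin'.injective
  apply LinearMap.ext
  intro v
  rw [Matrix.toLin'_apply, Matrix.toLin'_apply, pull_mulVec, pull_mulVec, LinearEquiv.symm_symm,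
    LinearEquiv.apply_symm_apply, LinearEquiv.apply_symm_apply]

theorem pull_pull_symm (e : (ι → F) ≃ₗ[F] (κ → F)) (A : Matrix ι ι F) :
    pull e (pull e.symm A) = A := by
  have := pull_symm_pull e.symm A
  rwa [LinearEquiv.symm_symm] at this

end transport

section form

variable {F : Type*} [Field F] {n m : ℕ} {f : (Fin n → F) → (Fin n → F) → F}

/-- the bilinear form attached to a two-argument form -/
noncomputable def bil (hf : Cfsg.Geo.IsBilinearForm f) : LinearMap.BilinForm F (Fin n → F) :=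
  LinearMap.mk₂ F f hf.add_left hf.smul_left hf.add_right hf.smul_right

theorem bil_apply (hf : Cfsg.Geo.IsBilinearForm f) (u v : Fin n → F) : bil hf u v = f u v := rfl

/-- a symplectic form is equivalent to the standard one -/
theorem exists_equiv (hf : Cfsg.Geo.IsSymplecticForm f) (hn : n = 2 * m) :
    ∃ e : (Fin n → F) ≃ₗ[F] (Fin m ⊕ Fin m → F),
      ∀ x y, Cfsg.sympForm m F (e x) (e y) = f x y := by
  have hA : (bil hf.bilinear).IsAlt := fun x => hf.alternating x
  have hB : (bil hf.bilinear).Nondegenerate := by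
    constructor
    · intro x hx
      by_contra hne
      obtain ⟨-, y, hy⟩ := hf.nondegenerate x hne
      exact hy (hx y)
    · intro x hx
      by_contra hne
      obtain ⟨⟨y, hy⟩, -⟩ := hf.nondegenerate x hne
      exact hy (hx y)
  obtain ⟨e, he⟩ := Cfsg.Agent.Helper28.SympIso.exists_symp_equiv (bil hf.bilinear) hA hB m
    (by rw [Module.finrank_fin_fun, hn])
  refine ⟨e, fun x y => ?_⟩
  rw [← Cfsg.Agent.Helper28.SympIso.sympBil_apply, he]
  rfl

/-- similarities of the standard symplectic form, in matrix terms -/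
theorem sympForm_mulVec (A : Matrix (Fin m ⊕ Fin m) (Fin m ⊕ Fin m) F) (τ : F)
    (hA : Aᵀ * Matrix.J (Fin m) F * A = τ • Matrix.J (Fin m) F) (u v : Fin m ⊕ Fin m → F) :
    Cfsg.sympForm m F (A *ᵥ u) (A *ᵥ v) = τ * Cfsg.sympForm m F u v := by
  unfold Cfsg.sympForm
  rw [Matrix.mulVec_mulVec, ← Matrix.vecMul_transpose, Matrix.dotProduct_mulVec,
    Matrix.vecMul_vecMul, ← Matrix.dotProduct_mulVec, ← Matrix.mul_assoc, hA, Matrix.smul_mulVec,
    dotProduct_smul, smul_eq_mul]

/-- a similarity of the standard form gives a similarity of `f` -/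
theorem sim_pull (e : (Fin n → F) ≃ₗ[F] (Fin m ⊕ Fin m → F))
    (he : ∀ x y, Cfsg.sympForm m F (e x) (e y) = f x y)
    (A : Matrix (Fin m ⊕ Fin m) (Fin m ⊕ Fin m) F) (τ : F)
    (hA : Aᵀ * Matrix.J (Fin m) F * A = τ • Matrix.J (Fin m) F) (u v : Fin n → F) :
    f (pull e A *ᵥ u) (pull e A *ᵥ v) = τ * f u v := by
  rw [pull_mulVec, pull_mulVec, ← he, LinearEquiv.apply_symm_apply, LinearEquiv.apply_symm_apply,
    sympForm_mulVec A τ hA, he]

/-- membership in the similarity group from a matrix identity -/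
theorem mem_similarityGroup (g : GL (Fin n) F) (τ : F) (hτ : τ ≠ 0)
    (h : ∀ u v, f ((g : Matrix (Fin n) (Fin n) F) *ᵥ u) ((g : Matrix (Fin n) (Fin n) F) *ᵥ v) =
      τ * f u v) : g ∈ Cfsg.Geo.similarityGroup f :=
  ⟨Units.mk0 τ hτ, h⟩

end form

end Cfsg.Agent.Helper13.SpSim
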