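import Mathlib
import Cfsg.Agent.Lib.Helper13.SpSim1
import Cfsg.Agent.Lib.Helper13.FieldNorm8

/-!
# Elements with scalar square in symplectic similarity groups (helper13)
-/

set_option autoImplicit false

namespace Cfsg.Agent.Helper13.SpSim

open Matrix Module Polynomial

section models

variable {F : Type*} [Field F] {m : ℕ}

/-- the non-split model `e_i ↦ f_i`, `f_i ↦ z e_i` -/
def Ynon (m : ℕ) (z : F) : Matrix (Fin m ⊕ Fin m) (Fin m ⊕ Fin m) F :=
  Matrix.fromBlocks 0 (z • (1 : Matrix (Fin m) (Fin m) F)) 1 0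

theorem Ynon_sq (z : F) : Ynon m z * Ynon m z = z • (1 : Matrix (Fin m ⊕ Fin m) (Fin m ⊕ Fin m) F) := by
  unfold Ynon
  rw [Matrix.fromBlocks_multiply, ← Matrix.fromBlocks_one, Matrix.fromBlocks_smul]
  simp

theorem Ynon_sim (z : F) :
    (Ynon m z)ᵀ * Matrix.J (Fin m) F * Ynon m z = (-z) • Matrix.J (Fin m) F := by
  unfold Ynon Matrix.J
  rw [Matrix.fromBlocks_transpose, Matrix.fromBlocks_multiply, Matrix.fromBlocks_multiply,
    Matrix.fromBlocks_smul]
  simp

/-- the sign pattern of the split model -/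
def sgn (m t : ℕ) (j : Fin m) : F := if (j : ℕ) < t then -1 else 1

theorem sgn_mul_self (t : ℕ) (j : Fin m) : (sgn m t j : F) * sgn m t j = 1 := by
  unfold sgn
  split_ifs <;> simp

/-- the split model: `a` times a diagonal matrix of signs, the same on `e_i` and `f_i` -/
def Ysp (m : ℕ) (a : F) (t : ℕ) : Matrix (Fin m ⊕ Fin m) (Fin m ⊕ Fin m) F :=
  a • Matrix.fromBlocks (Matrix.diagonal (sgn m t)) 0 0 (Matrix.diagonal (sgn m t))

theorem diag_sgn_sq (t : ℕ) :
    Matrix.diagonal (sgn (F := F) m t) * Matrix.diagonal (sgn m t) = 1 := by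
  rw [Matrix.diagonal_mul_diagonal, ← Matrix.diagonal_one]
  congr 1
  funext j
  exact sgn_mul_self t j

theorem Ysp_sq (a : F) (t : ℕ) :
    Ysp m a t * Ysp m a t = (a * a) • (1 : Matrix (Fin m ⊕ Fin m) (Fin m ⊕ Fin m) F) := by
  unfold Ysp
  rw [Matrix.smul_mul, Matrix.mul_smul, smul_smul, Matrix.fromBlocks_multiply]
  simp only [Matrix.mul_zero, Matrix.zero_mul, add_zero, zero_add, diag_sgn_sq]
  rw [Matrix.fromBlocks_one]

theorem Ysp_sim (a : F) (t : ℕ) :
    (Ysp m a t)ᵀ * Matrix.J (Fin m) F * Ysp m a t = (a * a) • Matrix.J (Fin m) F := by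
  unfold Ysp Matrix.J
  rw [Matrix.transpose_smul, Matrix.fromBlocks_transpose, Matrix.smul_mul, Matrix.smul_mul,
    Matrix.mul_smul, smul_smul, Matrix.fromBlocks_multiply, Matrix.fromBlocks_multiply]
  simp only [Matrix.transpose_zero, Matrix.diagonal_transpose, Matrix.mul_zero, Matrix.zero_mul,
    add_zero, zero_add, Matrix.mul_one, Matrix.mul_neg, Matrix.neg_mul, diag_sgn_sq, neg_zero]

theorem Ysp_charpoly (a : F) (t : ℕ) (ht : t ≤ m) :
    (Ysp m a t).charpoly = (X - C a) ^ (2 * m - 2 * t) * (X + C a) ^ (2 * t) := by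
  have h1 : Ysp m a t = Matrix.diagonal (fun j => a * Sum.elim (sgn m t) (sgn m t) j) := by
    unfold Ysp
    rw [Matrix.fromBlocks_diagonal]
    ext i j
    by_cases hij : i = j
    · subst hij
      simp
    · simp [hij]
  rw [h1, Matrix.charpoly_diagonal, Fintype.prod_sum_type]
  simp only [Sum.elim_inl, Sum.elim_inr]
  have h2 : ∏ j : Fin m, (X - C (a * sgn m t j) : F[X]) = (X - C a) ^ (m - t) * (X + C a) ^ t := by
    have h3 : ∀ j : Fin m, (X - C (a * sgn m t j) : F[X]) =
        if (j : ℕ) < t then X + C a else X - C a := by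
      intro j
      unfold sgn
      split_ifs
      · rw [mul_neg, mul_one, C_neg, sub_neg_eq_add]
      · rw [mul_one]
    simp only [h3]
    rw [Finset.prod_ite, Finset.prod_const, Finset.prod_const, mul_comm]
    congr 2
    · have h4 := Finset.card_filter_add_card_filter_not (s := (Finset.univ : Finset (Fin m)))
        (fun j : Fin m => (j : ℕ) < t)
      have h5 : (Finset.univ.filter (fun j : Fin m => (j : ℕ) < t)).card = t := by
        rw [Fin.card_filter_val_lt, min_eq_right ht]
      rw [Finset.card_univ, Fintype.card_fin] at h4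
      omega
    · rw [Fin.card_filter_val_lt, min_eq_right ht]
  rw [h2, ← pow_two, mul_pow, ← pow_mul, ← pow_mul]
  congr 2 <;> omega

end models

section conj

open Cfsg.Agent.Helper13.SS Cfsg.Agent.Helper13.FN

variable {F : Type*} [Field F] [Fintype F] {p : ℕ} [Fact p.Prime] [CharP F p] {n m : ℕ}

/-- conjugating an element with scalar square and prescribed characteristic polynomial into a
subgroup -/
theorem conj_into_of_charpoly (hp2 : p ≠ 2) (x : SpecialLinearGroup (Fin n) F) (z : F)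
    (hz : z ≠ 0) (hx : (x ^ 2 : SpecialLinearGroup (Fin n) F).1 =
      z • (1 : Matrix (Fin n) (Fin n) F)) (S : Subgroup (GL (Fin n) F))
    (Y : Matrix (Fin n) (Fin n) F) (hY : Y * Y = z • (1 : Matrix (Fin n) (Fin n) F))
    (hYS : ∀ y : SpecialLinearGroup (Fin n) F, y.1 = Y → SpecialLinearGroup.toGL y ∈ S)
    (hchar : Y.charpoly = x.1.charpoly) :
    ∃ P : SpecialLinearGroup (Fin n) F, P⁻¹ * x * P ∈ S.comap
      (SpecialLinearGroup.toGL : SpecialLinearGroup (Fin n) F →* GL (Fin n) F) := by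
  have hdet : Y.det = 1 := by
    rw [Matrix.det_eq_sign_charpoly_coeff, hchar, ← Matrix.det_eq_sign_charpoly_coeff]
    exact x.2
  obtain ⟨y, hy⟩ : ∃ y : SpecialLinearGroup (Fin n) F, y.1 = Y := ⟨⟨Y, hdet⟩, rfl⟩
  have hy2 : (y ^ 2 : SpecialLinearGroup (Fin n) F).1 = z • (1 : Matrix (Fin n) (Fin n) F) := by
    rw [Matrix.SpecialLinearGroup.coe_pow, hy, pow_two, hY]
  have hconj := sl_isConj_of_charpoly_eq (p := p) y x (orderOf_coprime_of_sq hp2 y z hz hy2)
    (orderOf_coprime_of_sq hp2 x z hz hx) (by rw [hy, hchar])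
  obtain ⟨c, hc⟩ := isConj_iff.1 hconj
  refine ⟨c, ?_⟩
  rw [Subgroup.mem_comap, ← hc]
  have : c⁻¹ * (c * y * c⁻¹) * c = y := by group
  rw [this]
  exact hYS y hy

/-- odd characteristic: every element of `SL_n` with scalar square is conjugate into the
similarity group of a symplectic form, if `(q - 1)_2 ≤ (n)_2` -/
theorem conj_invol_odd {f : (Fin n → F) → (Fin n → F) → F} (hp2 : p ≠ 2) (hn : n = 2 * m)
    (hm : 1 ≤ m) (hf : Cfsg.Geo.IsSymplecticForm f)
    (hv : padicValNat 2 (Fintype.card F - 1) ≤ padicValNat 2 n)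
    (x : SpecialLinearGroup (Fin n) F) (z : F)
    (hx : (x ^ 2 : SpecialLinearGroup (Fin n) F).1 = z • (1 : Matrix (Fin n) (Fin n) F)) :
    ∃ P : SpecialLinearGroup (Fin n) F, P⁻¹ * x * P ∈ (Cfsg.Geo.similarityGroup f).comap
      (SpecialLinearGroup.toGL : SpecialLinearGroup (Fin n) F →* GL (Fin n) F) := by
  have hn0 : 0 < n := by omega
  have h2 : (2 : F) ≠ 0 := two_ne_zero_of_char_ne (p := p) hp2
  have hz0 : z ≠ 0 := by
    rintro rfl
    have h1 := congrArg Matrix.det hx
    haveI : Nonempty (Fin n) := ⟨⟨0, hn0⟩⟩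
    rw [(x ^ 2).2, zero_smul, Matrix.det_zero] at h1
    exact one_ne_zero h1
  have hxM : x.1 * x.1 = z • (1 : Matrix (Fin n) (Fin n) F) := by
    rw [← pow_two, ← Matrix.SpecialLinearGroup.coe_pow]
    exact hx
  obtain ⟨e, he⟩ := exists_equiv hf hn
  by_cases hsq : IsSquare z
  · obtain ⟨a, rfl⟩ := hsq
    have ha : a ≠ 0 := fun h => hz0 (by rw [h, mul_zero])
    set j := finrank F (LinearMap.ker (Matrix.toLin' (x.1 + a • (1 : Matrix (Fin n) (Fin n) F))))
      with hj
    have hcx := charpoly_of_sq_split h2 a ha x.1 hxM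
    rw [← hj] at hcx
    have hjn : j ≤ n := by
      have := Submodule.finrank_le
        (LinearMap.ker (Matrix.toLin' (x.1 + a • (1 : Matrix (Fin n) (Fin n) F))))
      rwa [Module.finrank_fin_fun] at this
    have hne : Even n := ⟨m, by omega⟩
    have hjeven : Even j := by
      by_contra hodd
      rw [Nat.not_even_iff_odd] at hodd
      have hdet := Matrix.det_eq_sign_charpoly_coeff x.1
      rw [x.2, Fintype.card_fin, hne.neg_one_pow, one_mul, hcx, coeff_zero_eq_eval_zero, eval_mul,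
        eval_pow, eval_pow, eval_sub, eval_add, eval_X, eval_C, zero_sub, zero_add] at hdet
      have hnj : Odd (n - j) := by
        obtain ⟨l, hl⟩ := hodd
        exact ⟨m - l - 1, by omega⟩
      rw [hnj.neg_pow, neg_mul, ← pow_add, Nat.sub_add_cancel hjn] at hdet
      apply pow_ne_neg_one h2 n hn0 hv a
      rw [hdet, neg_neg]
    obtain ⟨t, ht⟩ := hjeven
    have htm : t ≤ m := by omega
    apply conj_into_of_charpoly hp2 x (a * a) hz0 hx _ (pull e (Ysp m a t))
    · rw [← pull_mul, Ysp_sq, pull_smul, pull_one]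
    · intro y hy
      apply mem_similarityGroup _ (a * a) hz0
      intro u v
      have hval : ((SpecialLinearGroup.toGL y : GL (Fin n) F) : Matrix (Fin n) (Fin n) F) =
          pull e (Ysp m a t) := hy
      rw [hval]
      exact sim_pull e he _ _ (Ysp_sim a t) u v
    · rw [charpoly_pull, Ysp_charpoly a t htm, hcx, hn, ht]
      congr 2 <;> omega
  · apply conj_into_of_charpoly hp2 x z hz0 hx _ (pull e (Ynon m z))
    · rw [← pull_mul, Ynon_sq, pull_smul, pull_one]
    · intro y hy
      apply mem_similarityGroup _ (-z) (neg_ne_zero.2 hz0)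
      intro u v
      have hval : ((SpecialLinearGroup.toGL y : GL (Fin n) F) : Matrix (Fin n) (Fin n) F) =
          pull e (Ynon m z) := hy
      rw [hval]
      exact sim_pull e he _ _ (Ynon_sim z) u v
    · have hY : pull e (Ynon m z) * pull e (Ynon m z) = z • (1 : Matrix (Fin n) (Fin n) F) := by
        rw [← pull_mul, Ynon_sq, pull_smul, pull_one]
      rw [charpoly_of_sq_nonsplit z hsq _ hY, charpoly_of_sq_nonsplit z hsq x.1 hxM]

end conj

end Cfsg.Agent.Helper13.SpSim
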