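import Mathlib
import Cfsg.Agent.Lib.Helper13.SpSim1

/-!
# Scalar multiples of reflections are not symplectic similarities (helper13)
-/

set_option autoImplicit false

namespace Cfsg.Agent.Helper13.SpSim

open Matrix Module

section refl

variable {F : Type*} [Field F] {n : ℕ} {f : (Fin n → F) → (Fin n → F) → F}

theorem exists_ne_zero_of_two_functionals (hn : 3 ≤ n) (φ ψ : (Fin n → F) →ₗ[F] F) :
    ∃ w : Fin n → F, w ≠ 0 ∧ φ w = 0 ∧ ψ w = 0 := by
  set L : (Fin n → F) →ₗ[F] F × F := φ.prod ψ with hL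
  have h1 := LinearMap.finrank_range_add_finrank_ker L
  rw [Module.finrank_fin_fun] at h1
  have h2 : finrank F (LinearMap.range L) ≤ 2 := by
    have := Submodule.finrank_le (LinearMap.range L)
    rwa [Module.finrank_prod, Module.finrank_self] at this
  have h3 : 0 < finrank F (LinearMap.ker L) := by omega
  obtain ⟨⟨w, hw⟩, hne⟩ := Module.finrank_pos_iff_exists_ne_zero.1 h3
  refine ⟨w, fun h => hne (Subtype.ext h), ?_, ?_⟩
  · have := LinearMap.mem_ker.1 hw
    rw [hL, LinearMap.prod_apply] at this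
    exact (Prod.mk.inj this).1
  · have := LinearMap.mem_ker.1 hw
    rw [hL, LinearMap.prod_apply] at this
    exact (Prod.mk.inj this).2

/-- a scalar plus a rank one map which is not a transvection is no similarity of a
symplectic form in dimension at least three -/
theorem not_sim_of_scalar_add_rank_one (hf : Cfsg.Geo.IsSymplecticForm f) (hn : 3 ≤ n)
    (Y : Matrix (Fin n) (Fin n) F) (l : F) (hl : l ≠ 0) (u : Fin n → F)
    (φ : (Fin n → F) →ₗ[F] F) (hφu : φ u ≠ 0) (hY : ∀ w, Y *ᵥ w = l • w + φ w • u) (τ : F)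
    (hτ : ∀ w w', f (Y *ᵥ w) (Y *ᵥ w') = τ * f w w') : False := by
  have hb := hf.bilinear
  have key : ∀ w w', τ * f w w' = l * l * f w w' + l * (φ w' * f w u - φ w * f w' u) := by
    intro w w'
    rw [← hτ, hY, hY]
    simp only [hb.add_left, hb.add_right, hb.smul_left, hb.smul_right]
    rw [hf.alternating u, hf.skew u w']
    ring
  set ψ : (Fin n → F) →ₗ[F] F := (bil hb).flip u with hψ
  have hψa : ∀ w, ψ w = f w u := fun w => rfl
  by_cases hτl : τ = l * l
  · have h1 : ∀ w, f w u = 0 := by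
      intro w
      have h2 := key w u
      rw [hτl, hf.alternating u] at h2
      have h3 : l * (φ u * f w u) = 0 := by linear_combination -h2
      rcases mul_eq_zero.1 h3 with h | h
      · exact (hl h).elim
      · rcases mul_eq_zero.1 h with h' | h'
        · exact (hφu h').elim
        · exact h'
    have hu : u = 0 := by
      by_contra hne
      obtain ⟨⟨x, hx⟩, -⟩ := hf.nondegenerate u hne
      exact hx (h1 x)
    apply hφu
    rw [hu, map_zero]
  · obtain ⟨w, hw0, hφw, hψw⟩ := exists_ne_zero_of_two_functionals hn φ ψ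
    rw [hψa] at hψw
    obtain ⟨-, x, hx⟩ := hf.nondegenerate w hw0
    apply hx
    have h2 := key w x
    rw [hφw, hψw] at h2
    have h3 : (τ - l * l) * f w x = 0 := by linear_combination h2
    rcases mul_eq_zero.1 h3 with h | h
    · exact (hτl (sub_eq_zero.1 h)).elim
    · exact h

/-- a scalar multiple of a reflection, of determinant one -/
theorem exists_bad_refl (hn : 2 ≤ n) (h2 : (2 : F) ≠ 0) (a : F) (ha : a ^ n = -1) :
    ∃ x : SpecialLinearGroup (Fin n) F,
      (x ^ 2 : SpecialLinearGroup (Fin n) F).1 = (a ^ 2) • (1 : Matrix (Fin n) (Fin n) F) ∧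
      (∀ z : F, x.1 ≠ z • (1 : Matrix (Fin n) (Fin n) F)) ∧
      ∃ (u : Fin n → F) (φ : (Fin n → F) →ₗ[F] F), φ u ≠ 0 ∧
        ∀ w : Fin n → F, x.1 *ᵥ w = a • w + φ w • u := by
  classical
  have ha0 : a ≠ 0 := by
    intro h
    rw [h, zero_pow (by omega)] at ha
    exact zero_ne_one (neg_eq_zero.1 ha.symm).symm
  set i0 : Fin n := ⟨0, by omega⟩ with hi0
  set i1 : Fin n := ⟨1, by omega⟩ with hi1
  have h01 : i0 ≠ i1 := by simp [hi0, hi1, Fin.ext_iff]
  set d : Fin n → F := fun i => a * (if i = i0 then (-1 : F) else 1) with hd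
  set M : Matrix (Fin n) (Fin n) F := Matrix.diagonal d with hM
  have hdet : M.det = 1 := by
    rw [hM, Matrix.det_diagonal]
    simp only [hd]
    rw [Finset.prod_mul_distrib, Fintype.prod_ite_eq', Finset.prod_const, Finset.card_univ,
      Fintype.card_fin, ha]
    ring
  obtain ⟨x, hx⟩ : ∃ x : SpecialLinearGroup (Fin n) F, x.1 = M := ⟨⟨M, hdet⟩, rfl⟩
  have h2a : (2 : F) * a ≠ 0 := mul_ne_zero h2 ha0
  refine ⟨x, ?_, ?_, Pi.single i0 1, (-(2 * a)) • LinearMap.proj i0, ?_, ?_⟩
  · rw [Matrix.SpecialLinearGroup.coe_pow, hx, hM, Matrix.diagonal_pow,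
      Matrix.smul_one_eq_diagonal]
    congr 1
    funext i
    simp only [hd, Pi.pow_apply, mul_pow]
    by_cases h : i = i0 <;> simp [h]
  · intro z hz
    rw [hx, hM, Matrix.smul_one_eq_diagonal] at hz
    have e0 := congrFun (Matrix.diagonal_injective hz) i0
    have e1 := congrFun (Matrix.diagonal_injective hz) i1
    simp only [hd, if_neg (Ne.symm h01)] at e0 e1
    simp only [if_true] at e0
    apply h2a
    have : a * (-1) = a * 1 := by rw [e0, e1]
    linear_combination -this
  · simp only [LinearMap.smul_apply, LinearMap.proj_apply, Pi.single_eq_same, smul_eq_mul,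
      mul_one]
    exact neg_ne_zero.2 h2a
  · intro w
    rw [hx, hM]
    ext j
    rw [Matrix.mulVec_diagonal]
    simp only [hd, Pi.add_apply, Pi.smul_apply, LinearMap.smul_apply, LinearMap.proj_apply,
      smul_eq_mul]
    by_cases hj : j = i0
    · subst hj
      simp only [if_true, Pi.single_eq_same]
      ring
    · simp only [if_neg hj, Pi.single_eq_of_ne hj]
      ring

/-- no conjugate of a scalar multiple of a reflection is a similarity -/
theorem not_conj_refl (hf : Cfsg.Geo.IsSymplecticForm f) (hn : 3 ≤ n)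
    (x : SpecialLinearGroup (Fin n) F) (a : F) (ha : a ≠ 0) (u : Fin n → F)
    (φ : (Fin n → F) →ₗ[F] F) (hφu : φ u ≠ 0) (hx : ∀ w : Fin n → F, x.1 *ᵥ w = a • w + φ w • u)
    (P : SpecialLinearGroup (Fin n) F) :
    P⁻¹ * x * P ∉ (Cfsg.Geo.similarityGroup f).comap
      (SpecialLinearGroup.toGL : SpecialLinearGroup (Fin n) F →* GL (Fin n) F) := by
  intro hmem
  rw [Subgroup.mem_comap] at hmem
  obtain ⟨c, hc⟩ := hmem
  have hval : ((SpecialLinearGroup.toGL (P⁻¹ * x * P) : GL (Fin n) F) :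
      Matrix (Fin n) (Fin n) F) = (P⁻¹).1 * x.1 * P.1 := rfl
  rw [hval] at hc
  have hPP : (P⁻¹).1 * P.1 = 1 := by
    rw [← Matrix.SpecialLinearGroup.coe_mul, inv_mul_cancel, Matrix.SpecialLinearGroup.coe_one]
  have hPP' : P.1 * (P⁻¹).1 = 1 := by
    rw [← Matrix.SpecialLinearGroup.coe_mul, mul_inv_cancel, Matrix.SpecialLinearGroup.coe_one]
  apply not_sim_of_scalar_add_rank_one hf hn ((P⁻¹).1 * x.1 * P.1) a ha ((P⁻¹).1 *ᵥ u)
    (φ.comp (Matrix.toLin' P.1)) _ _ (c : F) hc
  · rw [LinearMap.comp_apply, Matrix.toLin'_apply, Matrix.mulVec_mulVec, hPP', Matrix.one_mulVec]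
    exact hφu
  · intro w
    rw [← Matrix.mulVec_mulVec, ← Matrix.mulVec_mulVec, hx, Matrix.mulVec_add, Matrix.mulVec_smul,
      Matrix.mulVec_smul, Matrix.mulVec_mulVec, hPP, Matrix.one_mulVec, LinearMap.comp_apply,
      Matrix.toLin'_apply]

end refl

end Cfsg.Agent.Helper13.SpSim
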