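import Mathlib
import Cfsg.Agent.Lib.Helper13.SpSim1
import Cfsg.Agent.Lib.Helper13.NilpotentGL

/-!
# Characteristic two: elements with scalar square in symplectic similarity groups (helper13)
-/

set_option autoImplicit false

namespace Cfsg.Agent.Helper13.SpSim

open Matrix Module

section nilconj

open Cfsg.Agent.Helper13.Nilp

variable {F : Type*} [Field F] {n : ℕ}

/-- unipotent elements with the same ranks of the powers of the nilpotent part are conjugate -/
theorem isConj_of_rank_pow_eq (g g' : GL (Fin n) F) (hg : IsNilpotent (nilMat g))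
    (hg' : IsNilpotent (nilMat g'))
    (h : ∀ k, (nilMat g ^ k).rank = (nilMat g' ^ k).rank) : IsConj g g' := by
  have h1 : IsNilpotent (nilOf g) := by
    obtain ⟨k, hk⟩ := hg
    exact ⟨k, (nilOf_pow_eq_zero_iff g k).2 hk⟩
  have h2 : IsNilpotent (nilOf g') := by
    obtain ⟨k, hk⟩ := hg'
    exact ⟨k, (nilOf_pow_eq_zero_iff g' k).2 hk⟩
  obtain ⟨cb⟩ := exists_chainBasis (nilOf g) h1
  obtain ⟨cb'⟩ := exists_chainBasis (nilOf g') h2
  apply isConj_of_type_eq cb cb'
  apply multiset_eq_of_sub_sums _ _ cb.type_pos cb'.type_pos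
  intro k
  rw [← cb.finrank_range_pow, ← cb'.finrank_range_pow, finrank_range_nilOf_pow,
    finrank_range_nilOf_pow, h]

end nilconj

section unimodel

variable {F : Type*} [Field F] {m : ℕ}

/-- the indicator of the first `s` indices -/
def eps (m s : ℕ) (j : Fin m) : F := if (j : ℕ) < s then 1 else 0

/-- the unipotent model: `e_j ↦ e_j`, `f_j ↦ f_j + e_j` for `j < s` -/
def Yuni (m s : ℕ) : Matrix (Fin m ⊕ Fin m) (Fin m ⊕ Fin m) F :=
  Matrix.fromBlocks 1 (Matrix.diagonal (eps m s)) 0 1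

theorem Yuni_sim (s : ℕ) :
    (Yuni (F := F) m s)ᵀ * Matrix.J (Fin m) F * Yuni m s = (1 : F) • Matrix.J (Fin m) F := by
  unfold Yuni Matrix.J
  rw [Matrix.fromBlocks_transpose, Matrix.fromBlocks_multiply, Matrix.fromBlocks_multiply, one_smul]
  simp

theorem Yuni_sub_one (s : ℕ) :
    Yuni (F := F) m s - 1 = Matrix.fromBlocks 0 (Matrix.diagonal (eps m s)) 0 0 := by
  unfold Yuni
  rw [sub_eq_iff_eq_add, ← Matrix.fromBlocks_one, Matrix.fromBlocks_add]
  simp

theorem Yuni_sub_one_sq (s : ℕ) : (Yuni (F := F) m s - 1) * (Yuni m s - 1) = 0 := by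
  rw [Yuni_sub_one, Matrix.fromBlocks_multiply]
  simp

theorem rank_Yuni_sub_one (s : ℕ) (hs : s ≤ m) : (Yuni (F := F) m s - 1).rank = s := by
  classical
  have h1 : Yuni (F := F) m s - 1 =
      (Matrix.diagonal (Sum.elim (eps (F := F) m s) (fun _ => 0))).submatrix
        (Equiv.refl (Fin m ⊕ Fin m)) (Equiv.sumComm (Fin m) (Fin m)) := by
    rw [Yuni_sub_one]
    ext a b
    rcases a with i | i <;> rcases b with j | j <;>
      simp [Matrix.diagonal_apply, Matrix.fromBlocks]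
  rw [h1, Matrix.rank_submatrix, Matrix.rank_diagonal]
  have e : {a : Fin m ⊕ Fin m // Sum.elim (eps (F := F) m s) (fun _ => 0) a ≠ 0} ≃
      {j : Fin m // (j : ℕ) < s} :=
    { toFun := fun a => match a with
        | ⟨Sum.inl j, h⟩ => ⟨j, by
            by_contra hlt
            apply h
            simp [eps, hlt]⟩
        | ⟨Sum.inr j, h⟩ => (h rfl).elim
      invFun := fun j => ⟨Sum.inl j.1, by simp [eps, j.2]⟩
      left_inv := by
        rintro ⟨a | a, h⟩
        · rfl
        · exact (h rfl).elim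
      right_inv := by
        rintro ⟨j, hj⟩
        rfl }
  rw [Fintype.card_congr e, Fintype.card_subtype, Fin.card_filter_val_lt, min_eq_right hs]

/-- the block diagonal matrix with a scaling in one coordinate pair -/
def Dfix (m : ℕ) (i₀ : Fin m) (β : F) : Matrix (Fin m ⊕ Fin m) (Fin m ⊕ Fin m) F :=
  Matrix.fromBlocks (Matrix.diagonal (Function.update (fun _ => (1 : F)) i₀ β)) 0 0
    (Matrix.diagonal (Function.update (fun _ => (1 : F)) i₀ β))

theorem det_Dfix (i₀ : Fin m) (β : F) : (Dfix m i₀ β).det = β * β := by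
  unfold Dfix
  rw [Matrix.det_fromBlocks_zero₁₂, Matrix.det_diagonal,
    Finset.prod_update_of_mem (Finset.mem_univ i₀)]
  simp

theorem Dfix_comm (i₀ : Fin m) (β : F) (s : ℕ) :
    Dfix m i₀ β * Yuni m s = Yuni m s * Dfix m i₀ β := by
  unfold Dfix Yuni
  rw [Matrix.fromBlocks_multiply, Matrix.fromBlocks_multiply]
  simp only [Matrix.mul_one, Matrix.one_mul, Matrix.mul_zero, Matrix.zero_mul, add_zero, zero_add,
    Matrix.diagonal_mul_diagonal]
  congr 2
  funext j
  exact mul_comm _ _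

end unimodel

section char2

open Cfsg.Agent.Helper13.Nilp

variable {F : Type*} [Field F] [Fintype F] [CharP F 2] {n m : ℕ}

omit [Fintype F] in
theorem add_self_mat {ι : Type*} (M : Matrix ι ι F) : M + M = 0 := by
  rw [← two_smul F M, CharTwo.two_eq_zero, zero_smul]

omit [Fintype F] in
theorem Yuni_mul_self (s : ℕ) : Yuni (F := F) m s * Yuni m s = 1 := by
  unfold Yuni
  rw [Matrix.fromBlocks_multiply]
  simp only [Matrix.mul_one, Matrix.one_mul, Matrix.mul_zero, Matrix.zero_mul, add_zero, zero_add,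
    add_self_mat]
  exact Matrix.fromBlocks_one

omit [Fintype F] [CharP F 2] in
theorem pull_zero {ι κ : Type*} [Fintype ι] [DecidableEq ι] [Fintype κ] [DecidableEq κ]
    (e : (ι → F) ≃ₗ[F] (κ → F)) : pull e (0 : Matrix κ κ F) = 0 := by
  have h : (0 : Matrix κ κ F) = (0 : F) • (1 : Matrix κ κ F) := by rw [zero_smul]
  rw [h, pull_smul, zero_smul]

omit [Fintype F] [CharP F 2] in
theorem conj_aux (C D Y g₀ : Matrix (Fin n) (Fin n) F) (c : F) (hDY : D * Y = Y * D)
    (hcm : C * Y = g₀ * C) : C * D * (c • Y) = (c • g₀) * (C * D) := by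
  calc C * D * (c • Y) = c • (C * (D * Y)) := by rw [Matrix.mul_smul, Matrix.mul_assoc]
    _ = c • (C * (Y * D)) := by rw [hDY]
    _ = c • ((C * Y) * D) := by rw [Matrix.mul_assoc]
    _ = c • ((g₀ * C) * D) := by rw [hcm]
    _ = (c • g₀) * (C * D) := by rw [Matrix.smul_mul, Matrix.mul_assoc]

/-- characteristic two: every element of `SL_n` with scalar square is conjugate into the
similarity group of a symplectic form -/
theorem conj_invol_two {f : (Fin n → F) → (Fin n → F) → F} (hn : n = 2 * m) (hm : 1 ≤ m)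
    (hf : Cfsg.Geo.IsSymplecticForm f) (x : SpecialLinearGroup (Fin n) F) (z : F)
    (hx : (x ^ 2 : SpecialLinearGroup (Fin n) F).1 = z • (1 : Matrix (Fin n) (Fin n) F)) :
    ∃ P : SpecialLinearGroup (Fin n) F, P⁻¹ * x * P ∈ (Cfsg.Geo.similarityGroup f).comap
      (SpecialLinearGroup.toGL : SpecialLinearGroup (Fin n) F →* GL (Fin n) F) := by
  classical
  have hn0 : 0 < n := by omega
  have hz0 : z ≠ 0 := by
    rintro rfl
    have h1 := congrArg Matrix.det hx
    have : Nonempty (Fin n) := ⟨⟨0, hn0⟩⟩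
    rw [(x ^ 2).2, zero_smul, Matrix.det_zero] at h1
    exact one_ne_zero h1
  have hxM : x.1 * x.1 = z • (1 : Matrix (Fin n) (Fin n) F) := by
    rw [← pow_two, ← Matrix.SpecialLinearGroup.coe_pow]
    exact hx
  obtain ⟨c, rfl⟩ := FiniteField.isSquare_of_char_two (ringChar.eq F 2) z
  have hc : c ≠ 0 := fun h => hz0 (by rw [h, mul_zero])
  obtain ⟨e, he⟩ := exists_equiv hf hn
  set g₀ : Matrix (Fin n) (Fin n) F := c⁻¹ • x.1 with hg₀
  have hcg₀ : c • g₀ = x.1 := by
    rw [hg₀, smul_smul, mul_inv_cancel₀ hc, one_smul]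
  have hg₀2 : g₀ * g₀ = 1 := by
    rw [hg₀, Matrix.smul_mul, Matrix.mul_smul, smul_smul, hxM, smul_smul]
    rw [show c⁻¹ * c⁻¹ * (c * c) = 1 by field_simp, one_smul]
  let g : GL (Fin n) F := ⟨g₀, g₀, hg₀2, hg₀2⟩
  have hN2 : (g₀ - 1) * (g₀ - 1) = 0 := by
    rw [Matrix.sub_mul, Matrix.mul_sub, Matrix.mul_sub, hg₀2, Matrix.mul_one, Matrix.one_mul,
      Matrix.one_mul]
    have h3 : (1 : Matrix (Fin n) (Fin n) F) - g₀ - (g₀ - 1) = (1 + 1) - (g₀ + g₀) := by abel
    rw [h3, add_self_mat, add_self_mat, sub_zero]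
  set s := (g₀ - 1).rank with hs
  have hsm : s ≤ m := by
    have := Matrix.rank_add_rank_le_card_of_mul_eq_zero hN2
    rw [Fintype.card_fin] at this
    omega
  set Y : Matrix (Fin n) (Fin n) F := pull e (Yuni m s) with hY
  have hYY : Y * Y = 1 := by
    rw [hY, ← pull_mul, Yuni_mul_self, pull_one]
  let g' : GL (Fin n) F := ⟨Y, Y, hYY, hYY⟩
  have hng : nilMat g = g₀ - 1 := rfl
  have hng' : nilMat g' = pull e (Yuni m s - 1) := by
    show Y - 1 = _
    rw [pull_sub, pull_one]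
  have hN2' : nilMat g' * nilMat g' = 0 := by
    rw [hng', ← pull_mul, Yuni_sub_one_sq, pull_zero]
  have hconj : IsConj g g' := by
    apply isConj_of_rank_pow_eq
    · exact ⟨2, by rw [pow_two, hng, hN2]⟩
    · exact ⟨2, by rw [pow_two, hN2']⟩
    · intro k
      rcases k with _ | _ | k
      · rw [pow_zero, pow_zero]
      · rw [zero_add, pow_one, pow_one, hng, hng', rank_pull, rank_Yuni_sub_one s hsm]
      · have e1 : nilMat g ^ (k + 1 + 1) = 0 := by
          rw [pow_succ, pow_succ, mul_assoc, hng, hN2, mul_zero]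
        have e2 : nilMat g' ^ (k + 1 + 1) = 0 := by
          rw [pow_succ, pow_succ, mul_assoc, hN2', mul_zero]
        rw [e1, e2]
  obtain ⟨c₀, hc₀⟩ := isConj_iff.1 hconj
  have hcm : ((c₀⁻¹ : GL (Fin n) F) : Matrix (Fin n) (Fin n) F) * Y =
      g₀ * ((c₀⁻¹ : GL (Fin n) F) : Matrix (Fin n) (Fin n) F) := by
    have h3 : g * c₀⁻¹ = c₀⁻¹ * g' := by rw [← hc₀]; group
    have h4 := congrArg (fun u : GL (Fin n) F => (u : Matrix (Fin n) (Fin n) F)) h3
    exact h4.symm
  set δ : F := (c₀ : Matrix (Fin n) (Fin n) F).det with hδ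
  have hδ' : ((c₀⁻¹ : GL (Fin n) F) : Matrix (Fin n) (Fin n) F).det * δ = 1 := by
    rw [hδ, ← Matrix.det_mul, gln_inv_mul, Matrix.det_one]
  obtain ⟨β, hβ⟩ := FiniteField.isSquare_of_char_two (ringChar.eq F 2) δ
  set D : Matrix (Fin n) (Fin n) F := pull e (Dfix m ⟨0, hm⟩ β) with hD
  have hDdet : D.det = δ := by rw [hD, det_pull, det_Dfix, hβ]
  have hDY : D * Y = Y * D := by rw [hD, hY, ← pull_mul, ← pull_mul, Dfix_comm]
  have hPdet : (((c₀⁻¹ : GL (Fin n) F) : Matrix (Fin n) (Fin n) F) * D).det = 1 := by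
    rw [Matrix.det_mul, hDdet, hδ']
  obtain ⟨P, hP⟩ : ∃ P : SpecialLinearGroup (Fin n) F,
      P.1 = ((c₀⁻¹ : GL (Fin n) F) : Matrix (Fin n) (Fin n) F) * D := ⟨⟨_, hPdet⟩, rfl⟩
  have hkey : (P⁻¹ * x * P).1 = c • Y := by
    have h5 : P.1 * (P⁻¹ * x * P).1 = P.1 * (c • Y) := by
      rw [← Matrix.SpecialLinearGroup.coe_mul]
      have h6 : P * (P⁻¹ * x * P) = x * P := by group
      rw [h6, Matrix.SpecialLinearGroup.coe_mul, hP]
      set C : Matrix (Fin n) (Fin n) F := ((c₀⁻¹ : GL (Fin n) F) : Matrix (Fin n) (Fin n) F)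
        with hC
      rw [← hcg₀]
      exact (conj_aux C D Y g₀ c hDY hcm).symm
    have h7 := congrArg (fun M => (P⁻¹).1 * M) h5
    simp only [← Matrix.mul_assoc] at h7
    rw [← Matrix.SpecialLinearGroup.coe_mul, inv_mul_cancel, Matrix.SpecialLinearGroup.coe_one,
      Matrix.one_mul, Matrix.one_mul] at h7
    exact h7
  refine ⟨P, ?_⟩
  rw [Subgroup.mem_comap]
  apply mem_similarityGroup _ (c * c) hz0
  intro u v
  have hval : ((SpecialLinearGroup.toGL (P⁻¹ * x * P) : GL (Fin n) F) :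
      Matrix (Fin n) (Fin n) F) = pull e (c • Yuni m s) := by
    rw [pull_smul, ← hY, ← hkey]
    rfl
  rw [hval]
  apply sim_pull e he
  rw [Matrix.transpose_smul, Matrix.smul_mul, Matrix.smul_mul, Matrix.mul_smul, smul_smul,
    Yuni_sim, one_smul]

end char2

end Cfsg.Agent.Helper13.SpSim
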