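import Mathlib
import Cfsg.Agent.Lib.Helper13.SpSim1
import Cfsg.Agent.Lib.Helper2.CardSL
import Cfsg.Agent.Lib.Helper2.SympCard
import Cfsg.Agent.Lib.Helper12.PSLOrder

/-!
# The index of the symplectic similarity group in `SL_n(q)` (helper13)
-/

set_option autoImplicit false

namespace Cfsg.Agent.Helper13.SpSim

open Matrix Module

section arith

theorem prod_pow_sub_pow (q n : ℕ) :
    ∏ i ∈ Finset.range n, (q ^ n - q ^ i) =
      q ^ (∑ i ∈ Finset.range n, i) * ∏ i ∈ Finset.range n, (q ^ (i + 1) - 1) := by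
  have h1 : ∏ i ∈ Finset.range n, (q ^ n - q ^ i) =
      ∏ i ∈ Finset.range n, (q ^ i * (q ^ (n - 1 - i + 1) - 1)) := by
    apply Finset.prod_congr rfl
    intro i hi
    have hi' := Finset.mem_range.1 hi
    rw [Cfsg.Agent.Helper12.pow_sub_pow_eq_mul q n i hi'.le]
    congr 3
    omega
  rw [h1, Finset.prod_mul_distrib, Finset.prod_pow_eq_pow_sum,
    Finset.prod_range_reflect (fun j => q ^ (j + 1) - 1) n]

theorem prod_split_even_odd (q m : ℕ) :
    ∏ i ∈ Finset.range (2 * m), (q ^ (i + 1) - 1) =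
      (∏ i ∈ Finset.range m, (q ^ (2 * i + 1) - 1)) *
        ∏ i ∈ Finset.range m, (q ^ (2 * (i + 1)) - 1) := by
  induction m with
  | zero => simp
  | succ m ih =>
    have h1 : 2 * (m + 1) = 2 * m + 1 + 1 := by ring
    rw [h1, Finset.prod_range_succ, Finset.prod_range_succ, ih, Finset.prod_range_succ,
      Finset.prod_range_succ]
    have h2 : 2 * m + 1 + 1 = 2 * (m + 1) := by ring
    rw [h2]
    ring

theorem prod_odd_split (q m : ℕ) (hm : 1 ≤ m) :
    ∏ i ∈ Finset.range m, (q ^ (2 * i + 1) - 1) =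
      (q - 1) * ∏ j ∈ Finset.range (m - 1), (q ^ (2 * j + 3) - 1) := by
  obtain ⟨k, rfl⟩ : ∃ k, m = k + 1 := ⟨m - 1, by omega⟩
  rw [Finset.prod_range_succ', Nat.add_sub_cancel, mul_comm]
  congr 1
  simp

theorem sum_range_two_mul (m : ℕ) :
    ∑ i ∈ Finset.range (2 * m), i = m ^ 2 + m * (m - 1) := by
  have h := Finset.sum_range_id_mul_two (2 * m)
  rcases Nat.eq_zero_or_pos m with rfl | hm
  · simp
  · obtain ⟨k, rfl⟩ : ∃ k, m = k + 1 := ⟨m - 1, by omega⟩
    have h1 : 2 * (k + 1) - 1 = 2 * k + 1 := by omega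
    rw [h1] at h
    rw [Nat.add_sub_cancel]
    nlinarith

/-- the arithmetic of the index of `Sp_{2m}(q)` in `SL_{2m}(q)` -/
theorem dvd_cases (q m r : ℕ) (hq : 2 ≤ q) (hm : 1 ≤ m) (hr : r.Prime) (S L : ℕ)
    (hS : S = q ^ (m ^ 2) * ∏ i ∈ Finset.range m, (q ^ (2 * (i + 1)) - 1))
    (hL : (q - 1) * L = ∏ i : Fin (2 * m), (q ^ (2 * m) - q ^ (i : ℕ)))
    (hdiv : r * S ∣ L) :
    r ∣ q ∨ ∃ j, j < m - 1 ∧ r ∣ q ^ (2 * j + 3) - 1 := by
  set R := q ^ (m * (m - 1)) * ∏ j ∈ Finset.range (m - 1), (q ^ (2 * j + 3) - 1) with hR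
  have hSpos : 0 < S := by
    rw [hS]
    apply Nat.mul_pos (pow_pos (by omega) _)
    apply Finset.prod_pos
    intro i _
    have : 1 < q ^ (2 * (i + 1)) := Nat.one_lt_pow (by omega) (by omega)
    omega
  have h1 : (q - 1) * L = (q - 1) * (S * R) := by
    rw [hL, Fin.prod_univ_eq_prod_range (fun i => q ^ (2 * m) - q ^ i) (2 * m), prod_pow_sub_pow,
      prod_split_even_odd, prod_odd_split q m hm, sum_range_two_mul, pow_add, hS, hR]
    ring
  have h2 : L = S * R := Nat.eq_of_mul_eq_mul_left (by omega) h1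
  rw [h2, mul_comm r S] at hdiv
  have h3 : r ∣ R := Nat.dvd_of_mul_dvd_mul_left hSpos hdiv
  rw [hR] at h3
  rcases (Nat.Prime.dvd_mul hr).1 h3 with h4 | h4
  · exact Or.inl (hr.dvd_of_dvd_pow h4)
  · rw [Prime.dvd_finsetProd_iff hr.prime] at h4
    obtain ⟨j, hj, hj'⟩ := h4
    exact Or.inr ⟨j, Finset.mem_range.1 hj, hj'⟩

end arith

section index

variable {F : Type*} [Field F] [Fintype F] {n m : ℕ} {f : (Fin n → F) → (Fin n → F) → F}

omit [Fintype F] in
/-- symplectic matrices in the transposed convention -/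
theorem symp_transpose_mul (g : Matrix.symplecticGroup (Fin m) F) :
    (g.1)ᵀ * Matrix.J (Fin m) F * g.1 = (1 : F) • Matrix.J (Fin m) F := by
  have h := SymplecticGroup.mem_iff.1 (SymplecticGroup.transpose_mem g.2)
  rw [Matrix.transpose_transpose] at h
  rw [h, one_smul]

/-- the embedding of the standard symplectic group as isometries of `f` -/
noncomputable def spHom (e : (Fin n → F) ≃ₗ[F] (Fin m ⊕ Fin m → F)) :
    Matrix.symplecticGroup (Fin m) F →* SpecialLinearGroup (Fin n) F where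
  toFun g := ⟨pull e g.1, by rw [det_pull, SymplecticGroup.det_eq_one g.2]⟩
  map_one' := by
    apply Subtype.ext
    show pull e (1 : Matrix (Fin m ⊕ Fin m) (Fin m ⊕ Fin m) F) = 1
    exact pull_one e
  map_mul' g h := by
    apply Subtype.ext
    show pull e (g.1 * h.1) = pull e g.1 * pull e h.1
    exact pull_mul e g.1 h.1

omit [Fintype F] in
theorem spHom_injective (e : (Fin n → F) ≃ₗ[F] (Fin m ⊕ Fin m → F)) :
    Function.Injective (spHom e) := by
  intro g h hgh
  have h1 : pull e g.1 = pull e h.1 := congrArg Subtype.val hgh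
  apply Subtype.ext
  rw [← pull_symm_pull e g.1, ← pull_symm_pull e h.1, h1]

omit [Fintype F] in
theorem spHom_range_le (e : (Fin n → F) ≃ₗ[F] (Fin m ⊕ Fin m → F))
    (he : ∀ x y, Cfsg.sympForm m F (e x) (e y) = f x y) :
    (spHom e).range ≤ (Cfsg.Geo.similarityGroup f).comap
      (SpecialLinearGroup.toGL : SpecialLinearGroup (Fin n) F →* GL (Fin n) F) := by
  rintro _ ⟨g, rfl⟩
  rw [Subgroup.mem_comap]
  apply mem_similarityGroup _ 1 one_ne_zero
  intro u v
  exact sim_pull e he g.1 1 (symp_transpose_mul g) u v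

omit [Fintype F] in
/-- the index of the similarity group times the order of `Sp_{2m}(q)` divides the order of
`SL_{2m}(q)` -/
theorem index_mul_card_dvd (hf : Cfsg.Geo.IsSymplecticForm f) (hn : n = 2 * m) :
    ((Cfsg.Geo.similarityGroup f).comap
      (SpecialLinearGroup.toGL : SpecialLinearGroup (Fin n) F →* GL (Fin n) F)).index *
      Nat.card (Matrix.symplecticGroup (Fin m) F) ∣
      Nat.card (SpecialLinearGroup (Fin n) F) := by
  obtain ⟨e, he⟩ := exists_equiv hf hn
  set H := (Cfsg.Geo.similarityGroup f).comap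
      (SpecialLinearGroup.toGL : SpecialLinearGroup (Fin n) F →* GL (Fin n) F) with hH
  have h1 : Nat.card (spHom e).range = Nat.card (Matrix.symplecticGroup (Fin m) F) :=
    Nat.card_range_of_injective (spHom_injective e)
  have h2 : Nat.card (spHom e).range ∣ Nat.card H := Subgroup.card_dvd_of_le (spHom_range_le e he)
  rw [← h1, ← Subgroup.index_mul_card H]
  exact Nat.mul_dvd_mul_left _ h2

/-- a prime dividing the index of the similarity group of a symplectic form in `SL_n(q)` is the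
characteristic or divides `q ^ i - 1` for some odd `i` with `3 ≤ i ≤ n - 1` -/
theorem prime_dvd_index_cases (hf : Cfsg.Geo.IsSymplecticForm f) (hn : n = 2 * m) (hm : 1 ≤ m)
    (r : ℕ) (hr : r.Prime)
    (hΩ : r ∣ ((Cfsg.Geo.similarityGroup f).comap
      (SpecialLinearGroup.toGL : SpecialLinearGroup (Fin n) F →* GL (Fin n) F)).index) :
    r ∣ Fintype.card F ∨ ∃ j, j < m - 1 ∧ r ∣ Fintype.card F ^ (2 * j + 3) - 1 := by
  subst hn
  apply dvd_cases (Fintype.card F) m r Fintype.one_lt_card hm hr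
    (Nat.card (Matrix.symplecticGroup (Fin m) F))
    (Nat.card (SpecialLinearGroup (Fin (2 * m)) F))
    (Cfsg.Agent.Helper2.Symp.card_symplecticGroup m)
    (Cfsg.Agent.Helper2.card_SL_mul (2 * m) (by omega))
  exact dvd_trans (Nat.mul_dvd_mul_right hΩ _) (index_mul_card_dvd hf rfl)

end index

end Cfsg.Agent.Helper13.SpSim
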