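import Mathlib
import Cfsg.Agent.Lib.Helper13.SpSim1

/-!
# A unipotent element of type `(3, 1^{n-3})` is not conjugate to a symplectic similarity (helper13)
-/

set_option autoImplicit false

namespace Cfsg.Agent.Helper13.SpSim

open Matrix Module

section unipJ3

variable {F : Type*} [Field F] {n : ℕ} {f : (Fin n → F) → (Fin n → F) → F}

theorem form_zero_left (hb : Cfsg.Geo.IsBilinearForm f) (a : Fin n → F) : f 0 a = 0 := by
  have := hb.smul_left 0 0 a
  rwa [zero_smul, zero_mul] at this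

theorem form_zero_right (hb : Cfsg.Geo.IsBilinearForm f) (a : Fin n → F) : f a 0 = 0 := by
  have := hb.smul_right 0 a 0
  rwa [zero_smul, zero_mul] at this

/-- no similarity of a symplectic form (odd characteristic) is unipotent with nilpotent part `N`
such that `N ^ 3 = 0` and `N ^ 2` has rank one -/
theorem no_J3 (hf : Cfsg.Geo.IsSymplecticForm f) (h2 : (2 : F) ≠ 0)
    (Y : Matrix (Fin n) (Fin n) F) (τ : F)
    (hτ : ∀ u v, f (Y *ᵥ u) (Y *ᵥ v) = τ * f u v)
    (N : Matrix (Fin n) (Fin n) F) (hYN : Y = 1 + N) (hN3 : N * N * N = 0)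
    (ψ : (Fin n → F) →ₗ[F] F) (w₀ : Fin n → F) (hψ : ψ ≠ 0) (hw₀ : w₀ ≠ 0)
    (hNN : ∀ u, (N * N) *ᵥ u = ψ u • w₀) (hNw : N *ᵥ w₀ = 0) : False := by
  have hb := hf.bilinear
  have hYv : ∀ u, Y *ᵥ u = u + N *ᵥ u := by
    intro u
    rw [hYN, Matrix.add_mulVec, Matrix.one_mulVec]
  have hYw : Y *ᵥ w₀ = w₀ := by rw [hYv, hNw, add_zero]
  have h1 : ∀ v, f w₀ (N *ᵥ v) = (τ - 1) * f w₀ v := by
    intro v
    have := hτ w₀ v
    rw [hYw, hYv, hb.add_right] at this
    linear_combination this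
  have hN3v : ∀ v, N *ᵥ (N *ᵥ (N *ᵥ v)) = 0 := by
    intro v
    rw [Matrix.mulVec_mulVec, Matrix.mulVec_mulVec, hN3, Matrix.zero_mulVec]
  obtain ⟨-, v₀, hv₀⟩ := hf.nondegenerate w₀ hw₀
  have hτ1 : τ = 1 := by
    have h3 := h1 (N *ᵥ (N *ᵥ v₀))
    rw [hN3v, form_zero_right hb, h1, h1] at h3
    have h4 : (τ - 1) ^ 3 * f w₀ v₀ = 0 := by linear_combination -h3
    rcases mul_eq_zero.1 h4 with h | h
    · exact sub_eq_zero.1 (pow_eq_zero_iff (by norm_num) |>.1 h)
    · exact (hv₀ h).elim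
  have star : ∀ u v, f (N *ᵥ u) v + f u (N *ᵥ v) + f (N *ᵥ u) (N *ᵥ v) = 0 := by
    intro u v
    have := hτ u v
    rw [hτ1, one_mul, hYv, hYv, hb.add_left, hb.add_right, hb.add_right] at this
    linear_combination this
  have h5 : ∀ u v, f (N *ᵥ (N *ᵥ u)) (N *ᵥ v) = 0 := by
    intro u v
    have := star (N *ᵥ (N *ᵥ u)) v
    rw [hN3v, form_zero_left hb, form_zero_left hb] at this
    linear_combination this
  have h6 : ∀ u v, f (N *ᵥ u) (N *ᵥ (N *ᵥ v)) = 0 := by
    intro u v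
    have := star u (N *ᵥ (N *ᵥ v))
    rw [hN3v, form_zero_right hb, form_zero_right hb] at this
    linear_combination this
  have h7 : ∀ u v, f (N *ᵥ (N *ᵥ u)) v = f u (N *ᵥ (N *ᵥ v)) := by
    intro u v
    have a := star (N *ᵥ u) v
    have b := star u (N *ᵥ v)
    rw [h5] at a
    rw [h6] at b
    linear_combination a - b
  have h8 : ∀ u, ψ u * f w₀ u = 0 := by
    intro u
    have a := h7 u u
    rw [hf.skew u, Matrix.mulVec_mulVec, hNN, hb.smul_left] at a
    have h9 : (2 : F) * (ψ u * f w₀ u) = 0 := by linear_combination a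
    rcases mul_eq_zero.1 h9 with h | h
    · exact (h2 h).elim
    · exact h
  obtain ⟨a, ha⟩ : ∃ a, ψ a ≠ 0 := by
    by_contra hcon
    push Not at hcon
    exact hψ (LinearMap.ext hcon)
  have ha' : f w₀ a = 0 := by
    rcases mul_eq_zero.1 (h8 a) with h | h
    · exact (ha h).elim
    · exact h
  have hv' : ψ v₀ = 0 := by
    rcases mul_eq_zero.1 (h8 v₀) with h | h
    · exact h
    · exact (hv₀ h).elim
  have h10 := h8 (a + v₀)
  rw [map_add, hb.add_right, ha', hv', add_zero, zero_add] at h10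
  rcases mul_eq_zero.1 h10 with h | h
  · exact ha h
  · exact hv₀ h

/-- the model unipotent element -/
theorem exists_J3 (hn : 3 ≤ n) (p : ℕ) [Fact p.Prime] [CharP F p] (hp : 3 ≤ p) :
    ∃ x : SpecialLinearGroup (Fin n) F,
      (x ^ p : SpecialLinearGroup (Fin n) F).1 = (1 : F) • (1 : Matrix (Fin n) (Fin n) F) ∧
      (∀ z : F, x.1 ≠ z • (1 : Matrix (Fin n) (Fin n) F)) ∧
      ∃ N : Matrix (Fin n) (Fin n) F, x.1 = 1 + N ∧ N * N * N = 0 ∧
        ∃ i0 i2 : Fin n, (∀ u : Fin n → F, (N * N) *ᵥ u = u i2 • Pi.single i0 (1 : F)) ∧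
          N *ᵥ Pi.single i0 (1 : F) = 0 := by
  classical
  set i0 : Fin n := ⟨0, by omega⟩ with hi0
  set i1 : Fin n := ⟨1, by omega⟩ with hi1
  set i2 : Fin n := ⟨2, by omega⟩ with hi2
  have h01 : i0 ≠ i1 := by simp [hi0, hi1, Fin.ext_iff]
  have h02 : i0 ≠ i2 := by simp [hi0, hi2, Fin.ext_iff]
  have h12 : i1 ≠ i2 := by simp [hi1, hi2, Fin.ext_iff]
  set A : Matrix (Fin n) (Fin n) F := Matrix.single i0 i1 1 with hA
  set B : Matrix (Fin n) (Fin n) F := Matrix.single i1 i2 1 with hB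
  set C : Matrix (Fin n) (Fin n) F := Matrix.single i0 i2 1 with hC
  have hAA : A * A = 0 := Matrix.single_mul_single_of_ne 1 i0 i1 i0 (Ne.symm h01) 1
  have hAB : A * B = C := by
    rw [hA, hB, Matrix.single_mul_single_same, mul_one]
  have hAC : A * C = 0 := Matrix.single_mul_single_of_ne 1 i0 i1 i0 (Ne.symm h01) 1
  have hBA : B * A = 0 := Matrix.single_mul_single_of_ne 1 i1 i2 i0 (Ne.symm h02) 1
  have hBB : B * B = 0 := Matrix.single_mul_single_of_ne 1 i1 i2 i1 (Ne.symm h12) 1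
  have hBC : B * C = 0 := Matrix.single_mul_single_of_ne 1 i1 i2 i0 (Ne.symm h02) 1
  have hCA : C * A = 0 := Matrix.single_mul_single_of_ne 1 i0 i2 i0 (Ne.symm h02) 1
  have hCB : C * B = 0 := Matrix.single_mul_single_of_ne 1 i0 i2 i1 (Ne.symm h12) 1
  have hCC : C * C = 0 := Matrix.single_mul_single_of_ne 1 i0 i2 i0 (Ne.symm h02) 1
  set N : Matrix (Fin n) (Fin n) F := A + B + C with hN
  have hNN : N * N = C := by
    rw [hN]
    simp only [add_mul, mul_add, hAA, hAB, hAC, hBA, hBB, hBC, hCA, hCB, hCC, add_zero, zero_add]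
  have hN3 : N * N * N = 0 := by
    rw [hNN, hN]
    simp only [mul_add, hCA, hCB, hCC, add_zero]
  have hM : Matrix.transvection i0 i1 (1 : F) * Matrix.transvection i1 i2 (1 : F) = 1 + N := by
    unfold Matrix.transvection
    rw [← hA, ← hB, add_mul, mul_add, mul_add, one_mul, mul_one, one_mul, hAB, hN]
    abel
  have hdet : (1 + N).det = 1 := by
    rw [← hM, Matrix.det_mul, Matrix.det_transvection_of_ne _ _ h01,
      Matrix.det_transvection_of_ne _ _ h12, mul_one]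
  obtain ⟨x, hx⟩ : ∃ x : SpecialLinearGroup (Fin n) F, x.1 = 1 + N := ⟨⟨_, hdet⟩, rfl⟩
  refine ⟨x, ?_, ?_, N, hx, hN3, i0, i2, ?_, ?_⟩
  · have : Nonempty (Fin n) := ⟨i0⟩
    rw [Matrix.SpecialLinearGroup.coe_pow, hx, add_pow_char_of_commute p (Commute.one_left N),
      one_pow, one_smul]
    have h3 : N ^ 3 = 0 := by rw [pow_succ, pow_two, hN3]
    rw [pow_eq_zero_of_le hp h3, add_zero]
  · intro z hz
    have h3 := congrFun (congrFun hz i0) i1
    rw [hx] at h3
    simp only [hN, hA, hB, hC, Matrix.add_apply, Matrix.one_apply_ne h01, Matrix.smul_apply,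
      smul_eq_mul, mul_zero, zero_add, Matrix.single_apply] at h3
    simp [Ne.symm h01, Ne.symm h12] at h3
  · intro u
    rw [hNN, hC, Matrix.single_mulVec, one_mul]
    ext j
    by_cases hj : j = i0
    · subst hj
      simp
    · simp [hj]
  · rw [hN, Matrix.add_mulVec, Matrix.add_mulVec, hA, hB, hC, Matrix.single_mulVec,
      Matrix.single_mulVec, Matrix.single_mulVec]
    simp [Ne.symm h01, Ne.symm h02]

/-- no conjugate of the model unipotent element is a similarity -/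
theorem not_conj_J3 (hf : Cfsg.Geo.IsSymplecticForm f) (h2 : (2 : F) ≠ 0)
    (x : SpecialLinearGroup (Fin n) F) (N : Matrix (Fin n) (Fin n) F) (hx : x.1 = 1 + N)
    (hN3 : N * N * N = 0) (i0 i2 : Fin n)
    (hNN : ∀ u : Fin n → F, (N * N) *ᵥ u = u i2 • Pi.single i0 (1 : F))
    (hNe : N *ᵥ Pi.single i0 (1 : F) = 0) (P : SpecialLinearGroup (Fin n) F) :
    P⁻¹ * x * P ∉ (Cfsg.Geo.similarityGroup f).comap
      (SpecialLinearGroup.toGL : SpecialLinearGroup (Fin n) F →* GL (Fin n) F) := by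
  intro hmem
  rw [Subgroup.mem_comap] at hmem
  obtain ⟨c, hc⟩ := hmem
  have hval : ((SpecialLinearGroup.toGL (P⁻¹ * x * P) : GL (Fin n) F) :
      Matrix (Fin n) (Fin n) F) = (P⁻¹).1 * x.1 * P.1 := rfl
  rw [hval] at hc
  have hPP : (P⁻¹).1 * P.1 = 1 := by
    rw [← Matrix.SpecialLinearGroup.coe_mul, inv_mul_cancel, Matrix.SpecialLinearGroup.coe_one]
  have hPP' : P.1 * (P⁻¹).1 = 1 := by
    rw [← Matrix.SpecialLinearGroup.coe_mul, mul_inv_cancel, Matrix.SpecialLinearGroup.coe_one]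
  set Q := (P⁻¹).1 with hQ
  set N' : Matrix (Fin n) (Fin n) F := Q * N * P.1 with hN'
  have hY : Q * x.1 * P.1 = 1 + N' := by
    rw [hx, Matrix.mul_add, Matrix.add_mul, Matrix.mul_one, hPP, hN']
  have hN'2 : N' * N' = Q * (N * N) * P.1 := by
    rw [hN']
    calc Q * N * P.1 * (Q * N * P.1) = Q * N * (P.1 * Q) * N * P.1 := by
          simp only [Matrix.mul_assoc]
      _ = Q * (N * N) * P.1 := by rw [hPP', Matrix.mul_one, Matrix.mul_assoc Q N N]
  have hN'3 : N' * N' * N' = 0 := by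
    rw [hN'2, hN']
    calc Q * (N * N) * P.1 * (Q * N * P.1) = Q * (N * N) * (P.1 * Q) * N * P.1 := by
          simp only [Matrix.mul_assoc]
      _ = Q * (N * N * N) * P.1 := by
          rw [hPP', Matrix.mul_one, Matrix.mul_assoc Q (N * N) N]
      _ = 0 := by rw [hN3, Matrix.mul_zero, Matrix.zero_mul]
  apply no_J3 hf h2 (Q * x.1 * P.1) (c : F) hc N' hY hN'3
    ((LinearMap.proj i2).comp (Matrix.toLin' P.1)) (Q *ᵥ Pi.single i0 (1 : F))
  · intro h0
    have h3 := LinearMap.congr_fun h0 (Q *ᵥ Pi.single i2 (1 : F))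
    rw [LinearMap.comp_apply, Matrix.toLin'_apply, Matrix.mulVec_mulVec, hPP', Matrix.one_mulVec,
      LinearMap.proj_apply, Pi.single_eq_same, LinearMap.zero_apply] at h3
    exact one_ne_zero h3
  · intro h0
    have h3 := congrArg (fun v => P.1 *ᵥ v) h0
    simp only [Matrix.mulVec_mulVec, hPP', Matrix.one_mulVec, Matrix.mulVec_zero] at h3
    have h4 := congrFun h3 i0
    rw [Pi.single_eq_same, Pi.zero_apply] at h4
    exact one_ne_zero h4
  · intro u
    rw [hN'2, ← Matrix.mulVec_mulVec, ← Matrix.mulVec_mulVec, hNN, Matrix.mulVec_smul,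
      LinearMap.comp_apply, Matrix.toLin'_apply, LinearMap.proj_apply]
  · rw [hN', Matrix.mulVec_mulVec, Matrix.mul_assoc, Matrix.mul_assoc, hPP', Matrix.mul_one,
      ← Matrix.mulVec_mulVec, hNe, Matrix.mulVec_zero]

end unipJ3

end Cfsg.Agent.Helper13.SpSim
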