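import Mathlib
import Cfsg.Agent.Lib.Helper13.SpSim1
import Cfsg.Agent.Lib.Helper13.SemisimpleGL
import Cfsg.Agent.Lib.Helper13.SympPrime
import Cfsg.Agent.Lib.Helper13.Elusive

/-!
# Semisimple elements of odd prime order not conjugate to symplectic similarities (helper13)
-/

set_option autoImplicit false

namespace Cfsg.Agent.Helper13.SpSim

open Matrix Module Polynomial Cfsg.Agent.Helper13.SS Cfsg.Agent.Helper13.SympSS
  Cfsg.Agent.Helper13.Dual

universe u

section semisimple

variable {F : Type u} [Field F] [Fintype F] {p : ℕ} [Fact p.Prime] [CharP F p] {n r : ℕ}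
  {f : (Fin n → F) → (Fin n → F) → F}

omit [Fintype F] [Fact p.Prime] [CharP F p] in
theorem sim_pow (g : GL (Fin n) F) (c : F)
    (hc : ∀ u v, f ((g : Matrix (Fin n) (Fin n) F) *ᵥ u) ((g : Matrix (Fin n) (Fin n) F) *ᵥ v) =
      c * f u v) (k : ℕ) (u v : Fin n → F) :
    f ((L g ^ k) u) ((L g ^ k) v) = c ^ k * f u v := by
  induction k generalizing u v with
  | zero => simp
  | succ k ih =>
    rw [pow_succ, Module.End.mul_apply, Module.End.mul_apply, ih, pow_succ]
    have h1 : ∀ w, L g w = (g : Matrix (Fin n) (Fin n) F) *ᵥ w := fun w => rfl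
    rw [h1, h1, hc]
    ring

omit [Fintype F] [Fact p.Prime] [CharP F p] in
theorem kdim_scalar (z : F) (P : F[X]) (A : Module.End F (Fin n → F)) (hA : A = z • 1) :
    kdim A P = 0 ∨ kdim A P = n := by
  have h1 : aeval A P = (P.eval z) • (1 : Module.End F (Fin n → F)) := by
    have h2 : A = algebraMap F (Module.End F (Fin n → F)) z := by
      rw [hA, Algebra.algebraMap_eq_smul_one]
    rw [h2, Polynomial.aeval_algebraMap_apply_eq_algebraMap_eval, Algebra.algebraMap_eq_smul_one]
  unfold kdim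
  rw [h1]
  by_cases h0 : P.eval z = 0
  · right
    rw [h0, zero_smul, LinearMap.ker_zero, finrank_top, Module.finrank_fin_fun]
  · left
    have h3 : LinearMap.ker ((P.eval z) • (1 : Module.End F (Fin n → F))) = ⊥ := by
      rw [LinearMap.ker_eq_bot']
      intro v hv
      rw [LinearMap.smul_apply, Module.End.one_apply] at hv
      exact (smul_eq_zero.1 hv).resolve_left h0
    rw [h3, finrank_bot]

theorem exists_bad_semisimple (hf : Cfsg.Geo.IsSymplecticForm f) [Fact r.Prime] (hr2 : r ≠ 2)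
    (hrp : r ≠ p) (hodd : Odd (orderOf ((Fintype.card F : ℕ) : ZMod r)))
    (hd2 : 2 ≤ orderOf ((Fintype.card F : ℕ) : ZMod r))
    (hdn : orderOf ((Fintype.card F : ℕ) : ZMod r) < n) :
    ∃ x : SpecialLinearGroup (Fin n) F,
      (x ^ r : SpecialLinearGroup (Fin n) F).1 = (1 : F) • (1 : Matrix (Fin n) (Fin n) F) ∧
      (∀ z : F, x.1 ≠ z • (1 : Matrix (Fin n) (Fin n) F)) ∧
      ∀ P : SpecialLinearGroup (Fin n) F, P⁻¹ * x * P ∉ (Cfsg.Geo.similarityGroup f).comap
        (SpecialLinearGroup.toGL : SpecialLinearGroup (Fin n) F →* GL (Fin n) F) := by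
  classical
  have hr : r.Prime := Fact.out
  have hF : Fintype.card F = Fintype.card F := rfl
  set d := orderOf ((Fintype.card F : ℕ) : ZMod r) with hd
  have hcard := cycFactors_card (p := p) hF hr hrp
  have hne : (cycFactors F r).Nonempty := by
    rw [← Finset.card_pos]
    have h1 : 0 < r - 1 := by have := hr.two_le; omega
    rw [← hcard] at h1
    exact Nat.pos_of_mul_pos_right h1
  obtain ⟨f₀, hf₀⟩ := hne
  set b : F[X] → ℕ := fun g => if g = f₀ then 1 else 0 with hb
  have hbsum : ∑ g ∈ cycFactors F r, b g = 1 := by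
    simp only [hb]
    rw [Finset.sum_ite_eq', if_pos hf₀]
  obtain ⟨g, hg, hk⟩ := exists_gl_of_mult (p := p) (n := n) hF hr hrp b (by
    rw [hbsum, one_mul]
    exact hdn.le)
  have hk0 : kdim (L g) f₀ = d := by
    rw [hk f₀ hf₀]
    simp only [hb, if_true, one_mul]
    rfl
  have hk1 : ∀ f' ∈ cycFactors F r, f' ≠ f₀ → kdim (L g) f' = 0 := by
    intro f' hf' hne
    rw [hk f' hf']
    simp only [hb, if_neg hne, zero_mul]
  have hrq : ¬ r ∣ Fintype.card F - 1 := Cfsg.Agent.Helper13.Elus.not_dvd_of_two_le_orderOf r hd2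
  have hdet : (g : Matrix (Fin n) (Fin n) F).det = 1 := by
    apply Cfsg.Agent.Helper13.Elus.eq_one_of_pow_eq_one_of_not_dvd r hrq
    rw [← Matrix.det_pow, ← Units.val_pow_eq_pow_val, hg, Units.val_one, Matrix.det_one]
  obtain ⟨x, hx⟩ : ∃ x : SpecialLinearGroup (Fin n) F, x.1 = (g : Matrix (Fin n) (Fin n) F) :=
    ⟨⟨_, hdet⟩, rfl⟩
  have hxg : SpecialLinearGroup.toGL x = g := Units.ext hx
  have hxr : x ^ r = 1 := by
    apply Matrix.SpecialLinearGroup.toGL_injective
    rw [map_pow, hxg, hg, map_one]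
  have hrF : (r : F) ≠ 0 := cast_ne_zero_of_prime_ne (p := p) hr hrp
  refine ⟨x, ?_, ?_, ?_⟩
  · rw [hxr, Matrix.SpecialLinearGroup.coe_one, one_smul]
  · intro z hz
    have hLg : L g = z • 1 := by
      unfold L
      rw [← hx, hz, map_smul, Matrix.toLin'_one]
      rfl
    rcases kdim_scalar z f₀ (L g) hLg with h | h
    · rw [hk0] at h
      omega
    · rw [hk0] at h
      omega
  · intro P hmem
    rw [Subgroup.mem_comap] at hmem
    obtain ⟨c, hc⟩ := hmem
    set gy : GL (Fin n) F := SpecialLinearGroup.toGL (P⁻¹ * x * P) with hgy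
    have hgy1 : gy = (SpecialLinearGroup.toGL P)⁻¹ * g * (SpecialLinearGroup.toGL P)⁻¹⁻¹ := by
      rw [hgy, map_mul, map_mul, map_inv, hxg, inv_inv]
    have hgyr : gy ^ r = 1 := by
      rw [hgy, ← map_pow]
      have : (P⁻¹ * x * P) ^ r = 1 := by
        have h1 : P⁻¹ * x * P = P⁻¹ * x * P⁻¹⁻¹ := by rw [inv_inv]
        rw [h1, conj_pow, hxr, mul_one, mul_inv_cancel]
      rw [this, map_one]
    have hLr : L gy ^ r = 1 := by rw [← L_pow, hgyr, L_one]
    have hc1 : (c : F) = 1 := by
      apply Cfsg.Agent.Helper13.Elus.eq_one_of_pow_eq_one_of_not_dvd r hrq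
      have hn0 : 0 < n := by omega
      have hu : (Pi.single (⟨0, hn0⟩ : Fin n) (1 : F) : Fin n → F) ≠ 0 := by
        intro h
        have := congrFun h ⟨0, hn0⟩
        rw [Pi.single_eq_same, Pi.zero_apply] at this
        exact one_ne_zero this
      obtain ⟨⟨w, hw⟩, -⟩ := hf.nondegenerate _ hu
      have h1 := sim_pow gy (c : F) hc r w (Pi.single (⟨0, hn0⟩ : Fin n) (1 : F))
      rw [hLr, Module.End.one_apply, Module.End.one_apply] at h1
      have h2 : ((c : F) ^ r - 1) * f w (Pi.single (⟨0, hn0⟩ : Fin n) (1 : F)) = 0 := by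
        linear_combination -h1
      rcases mul_eq_zero.1 h2 with h | h
      · exact sub_eq_zero.1 h
      · exact (hw h).elim
    have hAB : AltInv (L gy) (bil hf.bilinear) := by
      refine ⟨fun u => hf.alternating u, ?_, ?_⟩
      · intro u hu
        by_contra hne
        obtain ⟨-, w, hw⟩ := hf.nondegenerate u hne
        exact hw (hu w)
      · intro u v
        have h1 := hc u v
        rw [hc1, one_mul] at h1
        exact h1
    have hdual := kdim_dual hr.one_lt.le hrF hLr hAB (cycFactors_irreducible hf₀)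
      (cycFactors_monic hf₀) (cycFactors_dvd_X_pow hf₀)
    rw [hgy1, kdim_conj, kdim_conj, hk0,
      hk1 _ (dualPoly_mem_cycFactors (p := p) hr hr2 hrp hf₀)
        (dualPoly_ne_self_of_odd (p := p) hF hr hr2 hrp hodd hf₀)] at hdual
    omega

end semisimple

end Cfsg.Agent.Helper13.SpSim
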