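import Mathlib
import Cfsg.Agent.Lib.Helper13.SpSim1

/-!
# Eigenvalue symmetry of symplectic similarities and bad diagonal elements (helper13)
-/

set_option autoImplicit false

namespace Cfsg.Agent.Helper13.SpSim

open Matrix Module

section ranksym

variable {F : Type*} [Field F] {n m : ℕ} {f : (Fin n → F) → (Fin n → F) → F}

/-- similarities of the standard symplectic form, in matrix terms (converse) -/
theorem transpose_J_of_sim (A : Matrix (Fin m ⊕ Fin m) (Fin m ⊕ Fin m) F) (τ : F)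
    (h : ∀ u v, Cfsg.sympForm m F (A *ᵥ u) (A *ᵥ v) = τ * Cfsg.sympForm m F u v) :
    Aᵀ * Matrix.J (Fin m) F * A = τ • Matrix.J (Fin m) F := by
  ext i j
  have h1 := h (Pi.single i 1) (Pi.single j 1)
  have h2 : ∀ u v : Fin m ⊕ Fin m → F, Cfsg.sympForm m F (A *ᵥ u) (A *ᵥ v)
      = u ⬝ᵥ ((Aᵀ * Matrix.J (Fin m) F * A) *ᵥ v) := by
    intro u v
    show (A *ᵥ u) ⬝ᵥ (Matrix.J (Fin m) F *ᵥ (A *ᵥ v)) = _
    rw [← Matrix.vecMul_transpose A u, ← Matrix.dotProduct_mulVec, Matrix.mulVec_mulVec,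
      Matrix.mulVec_mulVec]
  rw [h2] at h1
  have h3 : Cfsg.sympForm m F (Pi.single i 1) (Pi.single j 1) = Matrix.J (Fin m) F i j := by
    show (Pi.single i 1 : Fin m ⊕ Fin m → F) ⬝ᵥ (Matrix.J (Fin m) F *ᵥ Pi.single j 1) = _
    simp
  rw [h3] at h1
  rw [Matrix.smul_apply, smul_eq_mul, ← h1]
  simp

/-- the eigenvalue symmetry `μ ↦ τ / μ` of a similarity of the standard symplectic form -/
theorem rank_sub_smul_std (A : Matrix (Fin m ⊕ Fin m) (Fin m ⊕ Fin m) F) (τ μ : F) (hτ : τ ≠ 0)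
    (hμ : μ ≠ 0) (hA : Aᵀ * Matrix.J (Fin m) F * A = τ • Matrix.J (Fin m) F) :
    (A - μ • (1 : Matrix (Fin m ⊕ Fin m) (Fin m ⊕ Fin m) F)).rank =
      (A - (τ / μ) • (1 : Matrix (Fin m ⊕ Fin m) (Fin m ⊕ Fin m) F)).rank := by
  have hJ : IsUnit (Matrix.J (Fin m) F).det := Matrix.isUnit_det_J (Fin m) F
  have hAdet : IsUnit A.det := by
    have h1 := congrArg Matrix.det hA
    rw [Matrix.det_mul, Matrix.det_mul, Matrix.det_transpose, Matrix.det_smul] at h1
    rw [isUnit_iff_ne_zero]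
    intro h0
    rw [h0, zero_mul, zero_mul] at h1
    exact (mul_ne_zero (pow_ne_zero _ hτ) hJ.ne_zero) h1.symm
  have hJA : IsUnit (Matrix.J (Fin m) F * A).det := by
    rw [Matrix.det_mul]
    exact hJ.mul hAdet
  have hμJ : IsUnit ((-μ) • Matrix.J (Fin m) F).det := by
    rw [Matrix.det_smul]
    exact (isUnit_iff_ne_zero.2 (pow_ne_zero _ (neg_ne_zero.2 hμ))).mul hJ
  have key : (A - μ • (1 : Matrix (Fin m ⊕ Fin m) (Fin m ⊕ Fin m) F))ᵀ *
      (Matrix.J (Fin m) F * A) = ((-μ) • Matrix.J (Fin m) F) *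
        (A - (τ / μ) • (1 : Matrix (Fin m ⊕ Fin m) (Fin m ⊕ Fin m) F)) := by
    rw [Matrix.transpose_sub, Matrix.transpose_smul, Matrix.transpose_one, Matrix.sub_mul,
      ← Matrix.mul_assoc, hA, Matrix.mul_sub, Matrix.smul_mul, Matrix.one_mul, Matrix.smul_mul,
      Matrix.mul_smul, Matrix.mul_one, smul_smul]
    have h1 : τ / μ * -μ = -τ := by field_simp
    rw [h1, neg_smul, neg_smul, sub_neg_eq_add, neg_add_eq_sub]
  rw [← Matrix.rank_transpose (A - μ • (1 : Matrix (Fin m ⊕ Fin m) (Fin m ⊕ Fin m) F)),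
    ← Matrix.rank_mul_eq_left_of_isUnit_det _ _ hJA, key,
    Matrix.rank_mul_eq_right_of_isUnit_det _ _ hμJ]

/-- the eigenvalue symmetry `μ ↦ τ / μ` of a similarity of a symplectic form -/
theorem rank_sub_smul_sim (hf : Cfsg.Geo.IsSymplecticForm f) (hn : n = 2 * m)
    (Y : Matrix (Fin n) (Fin n) F) (τ μ : F) (hτ : τ ≠ 0) (hμ : μ ≠ 0)
    (hY : ∀ u v, f (Y *ᵥ u) (Y *ᵥ v) = τ * f u v) :
    (Y - μ • (1 : Matrix (Fin n) (Fin n) F)).rank =
      (Y - (τ / μ) • (1 : Matrix (Fin n) (Fin n) F)).rank := by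
  obtain ⟨e, he⟩ := exists_equiv hf hn
  set A := pull e.symm Y with hA
  have hsim : ∀ u v, Cfsg.sympForm m F (A *ᵥ u) (A *ᵥ v) = τ * Cfsg.sympForm m F u v := by
    intro u v
    rw [hA, pull_mulVec, pull_mulVec, LinearEquiv.symm_symm, he, hY, ← he,
      LinearEquiv.apply_symm_apply, LinearEquiv.apply_symm_apply]
  have h1 := rank_sub_smul_std A τ μ hτ hμ (transpose_J_of_sim A τ hsim)
  have h2 : ∀ ν : F, (A - ν • (1 : Matrix (Fin m ⊕ Fin m) (Fin m ⊕ Fin m) F)).rank =
      (Y - ν • (1 : Matrix (Fin n) (Fin n) F)).rank := by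
    intro ν
    rw [hA, ← pull_one e.symm, ← pull_smul, ← pull_sub, rank_pull]
  rw [h2, h2] at h1
  exact h1

end ranksym

section comb

variable {F : Type*} [Field F] [DecidableEq F]

/-- the combinatorial contradiction for the eigenvalue pattern `(ω, ω, ω⁻², 1, …, 1)` -/
theorem comb_contra (ω τ : F) (k r : ℕ) (hr : r.Prime) (hr2 : r ≠ 2) (hω : orderOf ω = r)
    (hk : Odd k) (hgap : ¬ (k = 3 ∧ r = 3)) (cnt : F → ℕ)
    (hcnt : ∀ μ, cnt μ = (if ω = μ then 1 else 0) + (if ω = μ then 1 else 0) +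
      (if ω⁻¹ * ω⁻¹ = μ then 1 else 0) + k * (if 1 = μ then 1 else 0))
    (hR : ∀ μ ν, μ * ν = τ → cnt μ = cnt ν) : False := by
  have hωr : ω ^ r = 1 := hω ▸ pow_orderOf_eq_one ω
  have hω0 : ω ≠ 0 := by
    rintro rfl
    rw [zero_pow hr.ne_zero] at hωr
    exact zero_ne_one hωr
  have hpow : ∀ j, ω ^ j = 1 → r ∣ j := fun j h => hω ▸ orderOf_dvd_of_pow_eq_one h
  have hω1 : ω ≠ 1 := by
    intro h
    have := hpow 1 (by rw [pow_one, h])
    exact hr.one_lt.ne' (Nat.dvd_one.1 this)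
  have hω2 : ω * ω ≠ 1 := by
    intro h
    have := hpow 2 (by rw [pow_two, h])
    exact hr2 ((Nat.prime_dvd_prime_iff_eq hr Nat.prime_two).1 this)
  have hω4 : ω * ω * (ω * ω) ≠ 1 := by
    intro h
    have h1 := hpow 4 (by rw [← h]; ring)
    have h2 : r ∣ 2 ^ 2 := by norm_num; exact h1
    exact hr2 ((Nat.prime_dvd_prime_iff_eq hr Nat.prime_two).1 (hr.dvd_of_dvd_pow h2))
  have hω3 : ω * ω * ω = 1 → r = 3 := by
    intro h
    have := hpow 3 (by rw [← h]; ring)
    exact (Nat.prime_dvd_prime_iff_eq hr Nat.prime_three).1 this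
  have hi0 : ω⁻¹ ≠ 0 := inv_ne_zero hω0
  set b := ω⁻¹ * ω⁻¹ with hb
  have hbω : b * (ω * ω) = 1 := by rw [hb]; field_simp
  have hb0 : b ≠ 0 := mul_ne_zero hi0 hi0
  have hb1 : b ≠ 1 := by
    intro h
    rw [h, one_mul] at hbω
    exact hω2 hbω
  have hi1 : ω⁻¹ ≠ 1 := by
    intro h
    exact hω1 (inv_eq_one.1 h)
  have c1 : cnt 1 = k := by
    rw [hcnt, if_neg hω1, if_neg hb1, if_pos rfl]
    ring
  have h1 := hR 1 τ (one_mul τ)
  rw [c1] at h1
  by_cases ht1 : τ = 1
  · subst ht1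
    have h2 := hR ω ω⁻¹ (mul_inv_cancel₀ hω0)
    have c2 : 2 ≤ cnt ω := by
      rw [hcnt, if_pos rfl]
      omega
    have e1 : ω ≠ ω⁻¹ := by
      intro h
      apply hω2
      nth_rewrite 2 [h]
      exact mul_inv_cancel₀ hω0
    have e2 : b ≠ ω⁻¹ := by
      intro h
      apply hi1
      have h3 : ω⁻¹ * ω⁻¹ = 1 * ω⁻¹ := by rw [one_mul]; exact h
      exact mul_right_cancel₀ hi0 h3
    have c3 : cnt ω⁻¹ = 0 := by
      rw [hcnt, if_neg e1, if_neg e2, if_neg (Ne.symm hi1)]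
      simp
    omega
  · have c4 : cnt τ = (if ω = τ then 1 else 0) + (if ω = τ then 1 else 0) +
        (if b = τ then 1 else 0) := by
      rw [hcnt, if_neg (Ne.symm ht1), mul_zero, add_zero]
    rw [c4] at h1
    by_cases hωτ : ω = τ
    · rw [if_pos hωτ] at h1
      by_cases hbτ : b = τ
      · rw [if_pos hbτ] at h1
        have h3 : ω * ω * ω = 1 := by
          have h4 : ω = b := by rw [hωτ, hbτ]
          calc ω * ω * ω = ω * (ω * ω) := by ring
            _ = b * (ω * ω) := by rw [← h4]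
            _ = 1 := hbω
        exact hgap ⟨by omega, hω3 h3⟩
      · rw [if_neg hbτ] at h1
        obtain ⟨t, ht⟩ := hk
        omega
    · rw [if_neg hωτ] at h1
      by_cases hbτ : b = τ
      · have hωb : ω ≠ b := by rw [hbτ]; exact hωτ
        have h2 := hR ω (b * ω⁻¹) (by
          rw [← hbτ, mul_comm b, ← mul_assoc, mul_inv_cancel₀ hω0, one_mul])
        have c2 : 2 ≤ cnt ω := by
          rw [hcnt, if_pos rfl]
          omega
        have e1 : ω ≠ b * ω⁻¹ := by
          intro h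
          apply hω4
          have h3 : ω * ω = b := by
            calc ω * ω = (b * ω⁻¹) * ω := by rw [← h]
              _ = b := by rw [mul_assoc, inv_mul_cancel₀ hω0, mul_one]
          nth_rewrite 1 [h3]
          exact hbω
        have e2 : b ≠ b * ω⁻¹ := by
          intro h
          apply hi1
          have h3 : b * 1 = b * ω⁻¹ := by rw [mul_one]; exact h
          exact (mul_left_cancel₀ hb0 h3).symm
        have e3 : (1 : F) ≠ b * ω⁻¹ := by
          intro h
          apply hωb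
          have h3 : ω = b * ω⁻¹ * ω := by rw [← h, one_mul]
          rw [h3, mul_assoc, inv_mul_cancel₀ hω0, mul_one]
        have c3 : cnt (b * ω⁻¹) = 0 := by
          rw [hcnt, if_neg e1, if_neg e2, if_neg e3]
          simp
        omega
      · rw [if_neg hbτ] at h1
        obtain ⟨t, ht⟩ := hk
        omega

end comb

section diag

variable {F : Type*} [Field F] [DecidableEq F] {k : ℕ}

/-- the eigenvalue vector `(ω, ω, ω⁻², 1, …, 1)` -/
def dvec (k : ℕ) (ω : F) : Fin (3 + k) → F := Fin.append ![ω, ω, ω⁻¹ * ω⁻¹] (fun _ => 1)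

/-- the multiplicity of an eigenvalue -/
def cntv (k : ℕ) (ω μ : F) : ℕ := (Finset.univ.filter (fun i => dvec k ω i = μ)).card

theorem cntv_eq (ω μ : F) : cntv k ω μ = (if ω = μ then 1 else 0) + (if ω = μ then 1 else 0) +
    (if ω⁻¹ * ω⁻¹ = μ then 1 else 0) + k * (if 1 = μ then 1 else 0) := by
  unfold cntv
  rw [Finset.card_filter, Fin.sum_univ_add, Fin.sum_univ_three]
  simp only [dvec, Fin.append_left, Fin.append_right]
  simp
  rfl

theorem rank_diag_sub (ω μ : F) :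
    (Matrix.diagonal (dvec k ω) - μ • (1 : Matrix (Fin (3 + k)) (Fin (3 + k)) F)).rank +
      cntv k ω μ = 3 + k := by
  have h1 : Matrix.diagonal (dvec k ω) - μ • (1 : Matrix (Fin (3 + k)) (Fin (3 + k)) F) =
      Matrix.diagonal (fun i => dvec k ω i - μ) := by
    rw [Matrix.smul_one_eq_diagonal, Matrix.diagonal_sub]
  rw [h1, Matrix.rank_diagonal, Fintype.card_subtype]
  unfold cntv
  have h2 := Finset.card_filter_add_card_filter_not (s := (Finset.univ : Finset (Fin (3 + k))))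
    (fun i => dvec k ω i = μ)
  rw [Finset.card_univ, Fintype.card_fin] at h2
  have h3 : (Finset.univ.filter (fun i => dvec k ω i - μ ≠ 0)) =
      (Finset.univ.filter (fun i => ¬ dvec k ω i = μ)) := by
    ext i
    simp only [Finset.mem_filter, Finset.mem_univ, true_and, sub_ne_zero]
  rw [h3]
  omega

omit [DecidableEq F] in
theorem prod_dvec (ω : F) (hω : ω ≠ 0) : ∏ i, dvec k ω i = 1 := by
  rw [Fin.prod_univ_add, Fin.prod_univ_three]
  simp only [dvec, Fin.append_left, Fin.append_right, Finset.prod_const_one, mul_one]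
  simp
  field_simp

omit [DecidableEq F] in
theorem dvec_pow (ω : F) (r : ℕ) (hω : ω ^ r = 1) (i : Fin (3 + k)) : dvec k ω i ^ r = 1 := by
  refine Fin.addCases (fun j => ?_) (fun j => ?_) i
  · simp only [dvec, Fin.append_left]
    fin_cases j
    · simpa using hω
    · simpa using hω
    · simp only [Fin.reduceFinMk, Matrix.cons_val]
      rw [mul_pow, inv_pow, hω, inv_one, one_mul]
  · simp only [dvec, Fin.append_right, one_pow]

end diag

section baddiag

variable {F : Type*} [Field F] [Fintype F] {n m r : ℕ} {f : (Fin n → F) → (Fin n → F) → F}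

/-- if `r` divides `q - 1`, the diagonal element `(ω, ω, ω⁻², 1, …, 1)` has no conjugate in the
similarity group of a symplectic form, unless `(n, r) = (6, 3)` -/
theorem exists_bad_diag (hf : Cfsg.Geo.IsSymplecticForm f) (hn4 : 4 ≤ n) (hn : n = 2 * m)
    [Fact r.Prime] (hr2 : r ≠ 2) (hrq : r ∣ Fintype.card F - 1) (hgap : ¬ (n = 6 ∧ r = 3)) :
    ∃ x : SpecialLinearGroup (Fin n) F,
      (x ^ r : SpecialLinearGroup (Fin n) F).1 = (1 : F) • (1 : Matrix (Fin n) (Fin n) F) ∧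
      (∀ z : F, x.1 ≠ z • (1 : Matrix (Fin n) (Fin n) F)) ∧
      ∀ P : SpecialLinearGroup (Fin n) F, P⁻¹ * x * P ∉ (Cfsg.Geo.similarityGroup f).comap
        (SpecialLinearGroup.toGL : SpecialLinearGroup (Fin n) F →* GL (Fin n) F) := by
  classical
  have hr : r.Prime := Fact.out
  obtain ⟨k, rfl⟩ : ∃ k, n = 3 + k := ⟨n - 3, by omega⟩
  have hk : Odd k := ⟨m - 2, by omega⟩
  have hgap' : ¬ (k = 3 ∧ r = 3) := fun h => hgap ⟨by omega, h.2⟩
  obtain ⟨u, hu⟩ := exists_prime_orderOf_dvd_card (G := Fˣ) r (by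
    rw [Fintype.card_units]
    exact hrq)
  set ω : F := (u : F) with hω
  have hωo : orderOf ω = r := by rw [hω, orderOf_units, hu]
  have hω0 : ω ≠ 0 := u.ne_zero
  have hωr : ω ^ r = 1 := hωo ▸ pow_orderOf_eq_one ω
  have hω1 : ω ≠ 1 := by
    intro h
    rw [h, orderOf_one] at hωo
    exact hr.one_lt.ne hωo
  have hdet : (Matrix.diagonal (dvec k ω)).det = 1 := by
    rw [Matrix.det_diagonal, prod_dvec ω hω0]
  obtain ⟨x, hx⟩ : ∃ x : SpecialLinearGroup (Fin (3 + k)) F, x.1 = Matrix.diagonal (dvec k ω) :=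
    ⟨⟨_, hdet⟩, rfl⟩
  refine ⟨x, ?_, ?_, ?_⟩
  · rw [Matrix.SpecialLinearGroup.coe_pow, hx, Matrix.diagonal_pow, one_smul, ← Matrix.diagonal_one]
    congr 1
    funext i
    exact dvec_pow ω r hωr i
  · intro z hz
    rw [hx, Matrix.smul_one_eq_diagonal] at hz
    have e0 := congrFun (Matrix.diagonal_injective hz) (Fin.castAdd k 0)
    have e1 := congrFun (Matrix.diagonal_injective hz) (Fin.natAdd 3 ⟨0, by omega⟩)
    simp only [dvec, Fin.append_left, Fin.append_right] at e0 e1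
    apply hω1
    rw [← e1] at e0
    simpa using e0
  · intro P hmem
    rw [Subgroup.mem_comap] at hmem
    obtain ⟨c, hc⟩ := hmem
    have hval : ((SpecialLinearGroup.toGL (P⁻¹ * x * P) : GL (Fin (3 + k)) F) :
        Matrix (Fin (3 + k)) (Fin (3 + k)) F) = (P⁻¹).1 * x.1 * P.1 := rfl
    rw [hval] at hc
    have hPP : (P⁻¹).1 * P.1 = 1 := by
      rw [← Matrix.SpecialLinearGroup.coe_mul, inv_mul_cancel, Matrix.SpecialLinearGroup.coe_one]
    have hPdet : IsUnit P.1.det := by rw [P.2]; exact isUnit_one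
    have hQdet : IsUnit (P⁻¹).1.det := by rw [(P⁻¹).2]; exact isUnit_one
    have hrank : ∀ ν : F, ((P⁻¹).1 * x.1 * P.1 -
        ν • (1 : Matrix (Fin (3 + k)) (Fin (3 + k)) F)).rank =
        (Matrix.diagonal (dvec k ω) - ν • (1 : Matrix (Fin (3 + k)) (Fin (3 + k)) F)).rank := by
      intro ν
      have h1 : (P⁻¹).1 * x.1 * P.1 - ν • (1 : Matrix (Fin (3 + k)) (Fin (3 + k)) F) =
          (P⁻¹).1 * (x.1 - ν • (1 : Matrix (Fin (3 + k)) (Fin (3 + k)) F)) * P.1 := by
        rw [Matrix.mul_sub, Matrix.sub_mul, Matrix.mul_smul, Matrix.mul_one, Matrix.smul_mul, hPP]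
      rw [h1, Matrix.rank_mul_eq_left_of_isUnit_det _ _ hPdet,
        Matrix.rank_mul_eq_right_of_isUnit_det _ _ hQdet, hx]
    apply comb_contra ω (c : F) k r hr hr2 hωo hk hgap' (cntv k ω) (cntv_eq ω)
    intro μ ν hμν
    have hc0 : (c : F) ≠ 0 := c.ne_zero
    have hμ0 : μ ≠ 0 := by
      rintro rfl
      rw [zero_mul] at hμν
      exact hc0 hμν.symm
    have hν : ν = (c : F) / μ := by
      rw [← hμν]
      field_simp
    have h1 := rank_sub_smul_sim hf hn _ (c : F) μ hc0 hμ0 hc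
    rw [hrank, hrank, ← hν] at h1
    have h2 := rank_diag_sub (k := k) ω μ
    have h3 := rank_diag_sub (k := k) ω ν
    omega

end baddiag

end Cfsg.Agent.Helper13.SpSim
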