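import Mathlib
import Cfsg.Agent.Lib.Helper16.SpUDefs

/-!
# S2316, piece SPU-PERM: the elements of `N_A` are monomial with a block-preserving permutation
-/

set_option autoImplicit false
set_option linter.unusedSectionVars false
set_option linter.unusedVariables false

namespace Cfsg.Agent.Helper16.SpU

open Matrix Cfsg.Agent.Helper6.SpN Cfsg.Agent.Helper13.SpBN Cfsg.Agent.Helper13.SylO
  Cfsg.Agent.Helper6.Uni Cfsg.Agent.Helper2.WordLen Cfsg.Agent.Helper2.BN Cfsg.Agent.Helper17.BNCox

variable {m : ℕ} {F : Type*} [Field F]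

/-- the permutation of a simple reflection of `A'` moves a position to itself or to a linked
neighbour. -/
theorem spu_perm_blk_pr (A' : Set (Fin m)) {i : Fin m} (hi : i ∈ A') (a : Fin m ⊕ Fin m) :
    blk A' a (pr i a) := by
  have hm := i.2
  have hka := key_lt a
  by_cases h : i.val + 1 < m
  · rw [pr_short h]
    have hk := key_piS (i := i) (i' := ⟨i.val + 1, h⟩) rfl a
    have hl1 : lnk A' i.val := ⟨by omega, i, hi, by unfold lidx; rw [if_pos hm]⟩
    have hl2 : lnk A' (2 * m - 2 - i.val) :=
      ⟨by omega, i, hi, by unfold lidx; rw [if_neg (by omega)]; omega⟩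
    intro j hj1 hj2
    rw [hk] at hj1 hj2
    split_ifs at hj1 hj2 with h1 h2 h3 h4
    · rw [h1] at hj1 hj2
      rw [min_eq_left (by omega)] at hj1
      rw [max_eq_right (by omega)] at hj2
      have : j = i.val := by omega
      rw [this]; exact hl1
    · rw [h2] at hj1 hj2
      rw [min_eq_right (by omega)] at hj1
      rw [max_eq_left (by omega)] at hj2
      have : j = i.val := by omega
      rw [this]; exact hl1
    · rw [h3] at hj1 hj2
      rw [min_eq_left (by omega)] at hj1
      rw [max_eq_right (by omega)] at hj2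
      have : j = 2 * m - 2 - i.val := by omega
      rw [this]; exact hl2
    · rw [h4] at hj1 hj2
      rw [min_eq_right (by omega)] at hj1
      rw [max_eq_left (by omega)] at hj2
      have : j = 2 * m - 2 - i.val := by omega
      rw [this]; exact hl2
    · rw [min_self] at hj1
      rw [max_self] at hj2
      omega
  · rw [pr_long h]
    have hk := key_piL (l := i) (by omega) a
    have hl1 : lnk A' (m - 1) := ⟨by omega, i, hi, by unfold lidx; rw [if_pos (by omega)]; omega⟩
    intro j hj1 hj2
    rw [hk] at hj1 hj2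
    split_ifs at hj1 hj2 with h1 h2
    · rw [h1] at hj1 hj2
      rw [min_eq_left (by omega)] at hj1
      rw [max_eq_right (by omega)] at hj2
      have : j = m - 1 := by omega
      rw [this]; exact hl1
    · rw [h2] at hj1 hj2
      rw [min_eq_right (by omega)] at hj1
      rw [max_eq_left (by omega)] at hj2
      have : j = m - 1 := by omega
      rw [this]; exact hl1
    · rw [min_self] at hj1
      rw [max_self] at hj2
      omega

/-- the monomial matrices with block-preserving permutation -/
def spu_perm_sub (m : ℕ) (F : Type*) [Field F] (A' : Set (Fin m)) :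
    Subgroup (symplecticGroup (Fin m) F) where
  carrier := {g | ∃ π : Equiv.Perm (Fin m ⊕ Fin m), IsMon g.1 π ∧ ∀ a, blk A' a (π a)}
  one_mem' := ⟨1, isMon_one, fun a => blk_refl A' a⟩
  mul_mem' := by
    rintro g h ⟨π, hg, hπ⟩ ⟨ρ, hh, hρ⟩
    refine ⟨π * ρ, hg.mul hh, fun a => ?_⟩
    rw [Equiv.Perm.mul_apply]
    exact blk_trans A' (hρ a) (hπ (ρ a))
  inv_mem' := by
    rintro g ⟨π, hg, hπ⟩
    refine ⟨π⁻¹, hg.inv', fun a => ?_⟩
    have := hπ (π⁻¹ a)
    have e : π (π⁻¹ a) = a := by simp
    rw [e] at this
    exact blk_symm A' this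

/-- PIECE SPU-PERM: the elements of `N_A` are monomial with a block-preserving permutation
(the set of such elements is a subgroup containing `sr i`, `i ∈ idxSet A` [`sr_isMon`, `pr_short`,
`pr_long`, `piS_*`, `piL`] and the torus). -/
theorem perm_of_mem_NA [Finite F] (A : Set ↥(spBN m F).S) {n : symplecticGroup (Fin m) F}
    (hn : n ∈ NA (spBN m F) A) :
    ∃ π : Equiv.Perm (Fin m ⊕ Fin m), IsMon n.1 π ∧ ∀ a, blk (idxSet A) a (π a) := by
  have hle : NA (spBN m F) A ≤ spu_perm_sub m F (idxSet A) := by
    unfold NA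
    apply sup_le
    · rw [Subgroup.closure_le]
      rintro _ ⟨s, hs, rfl⟩
      obtain ⟨i, hi⟩ := s.2
      have hiA : i ∈ idxSet A := ⟨s, hs, hi.symm⟩
      refine ⟨pr i, ?_, fun a => spu_perm_blk_pr _ hiA a⟩
      rw [← hi]
      exact sr_isMon i
    · intro g hg
      have hg' : g ∈ tor m F := by
        rw [tor_eq_inf]
        exact hg
      exact ⟨1, hg', fun a => blk_refl _ a⟩
  exact hle hn

end Cfsg.Agent.Helper16.SpU
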