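import Mathlib

set_option autoImplicit false
set_option linter.unusedSectionVars false
set_option linter.unusedVariables false
set_option linter.style.haveILetI false

/-!
# Quadratic Gauss sums over finite fields of odd characteristic (helper13)
-/

namespace Cfsg.Agent.Helper13.SpUn

open Finset
open scoped Classical

section gauss
variable {F : Type*} [Field F] [Fintype F] {R : Type*} [Field R]

/-- quadratic Gauss sum -/
noncomputable def qg (ψ : AddChar F R) (c : F) : R := ∑ a : F, ψ (c * a ^ 2)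

theorem qg_mul_sq (ψ : AddChar F R) (c s : F) (hs : s ≠ 0) : qg ψ (c * s ^ 2) = qg ψ c := by
  unfold qg
  apply Fintype.sum_equiv (Equiv.mulLeft₀ s hs)
  intro a
  rw [Equiv.mulLeft₀_apply]
  congr 1
  ring

theorem sum_mulShift' (ψ : AddChar F R) (hψ : ψ.IsPrimitive) (b : F) :
    ∑ x : F, ψ (b * x) = if b = 0 then (Fintype.card F : R) else 0 := by
  classical
  have := AddChar.sum_mulShift b hψ
  simp_rw [mul_comm b]
  rw [this]
  split_ifs <;> simp

theorem qg_mul_qg_neg (ψ : AddChar F R) (hψ : ψ.IsPrimitive) (h2 : (2 : F) ≠ 0) (c : F)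
    (hc : c ≠ 0) : qg ψ c * qg ψ (-c) = (Fintype.card F : R) := by
  classical
  unfold qg
  rw [Finset.sum_mul_sum, ← Finset.sum_product']
  let e : F × F ≃ F × F :=
    { toFun := fun p => (p.1 + p.2, p.1 - p.2)
      invFun := fun p => ((p.1 + p.2) / 2, (p.1 - p.2) / 2)
      left_inv := by
        intro p
        ext <;> simp <;> field_simp <;> ring
      right_inv := by
        intro p
        ext <;> simp <;> field_simp <;> ring }
  have h1 : ∑ p ∈ (Finset.univ : Finset F) ×ˢ (Finset.univ : Finset F),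
      ψ (c * p.1 ^ 2) * ψ (-c * p.2 ^ 2) = ∑ p : F × F, ψ (c * ((e p).1 * (e p).2)) := by
    rw [Finset.univ_product_univ]
    apply Finset.sum_congr rfl
    intro p _
    rw [← AddChar.map_add_eq_mul]
    congr 1
    show _ = c * ((p.1 + p.2) * (p.1 - p.2))
    ring
  rw [h1, Fintype.sum_equiv e (fun p => ψ (c * ((e p).1 * (e p).2)))
    (fun p => ψ (c * (p.1 * p.2))) (fun p => rfl), Fintype.sum_prod_type]
  have h3 : ∀ s : F, ∑ t : F, ψ (c * (s * t)) = if s = 0 then (Fintype.card F : R) else 0 := by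
    intro s
    have := sum_mulShift' ψ hψ (c * s)
    simp_rw [mul_assoc] at this
    rw [this]
    by_cases hs : s = 0
    · simp [hs]
    · rw [if_neg hs, if_neg (mul_ne_zero hc hs)]
  simp_rw [h3]
  simp

theorem qg_ne_zero [CharZero R] (ψ : AddChar F R) (hψ : ψ.IsPrimitive) (h2 : (2 : F) ≠ 0) (c : F)
    (hc : c ≠ 0) : qg ψ c ≠ 0 := by
  intro h
  have := qg_mul_qg_neg ψ hψ h2 c hc
  rw [h, zero_mul] at this
  have hcard : (Fintype.card F : R) ≠ 0 := by
    exact_mod_cast Fintype.card_ne_zero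
  exact hcard this.symm

/-- summing over squares -/
theorem sum_sq_eq (hF : ringChar F ≠ 2) (g : F → R) :
    ∑ a : F, g (a ^ 2) = ∑ y : F, (((quadraticChar F y + 1 : ℤ) : R)) * g y := by
  classical
  have h1 : ∑ a : F, g (a ^ 2) = ∑ y : F, ∑ a ∈ Finset.univ.filter (fun a : F => a ^ 2 = y),
      g (a ^ 2) := by
    rw [← Finset.sum_fiberwise (s := Finset.univ) (g := fun a : F => a ^ 2)]
  rw [h1]
  apply Finset.sum_congr rfl
  intro y _
  have h2 : ∑ a ∈ Finset.univ.filter (fun a : F => a ^ 2 = y), g (a ^ 2) =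
      ∑ a ∈ Finset.univ.filter (fun a : F => a ^ 2 = y), g y := by
    apply Finset.sum_congr rfl
    intro a ha
    rw [(Finset.mem_filter.1 ha).2]
  rw [h2, Finset.sum_const, nsmul_eq_mul]
  congr 1
  have h3 := quadraticChar_card_sqrts hF y
  have h4 : ({x : F | x ^ 2 = y}.toFinset) = Finset.univ.filter (fun a : F => a ^ 2 = y) := by
    ext a
    simp
  rw [h4] at h3
  rw [← h3]
  simp

theorem ringChar_ne_two (h2 : (2 : F) ≠ 0) : ringChar F ≠ 2 := by
  intro h
  haveI : CharP F 2 := ringChar.of_eq h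
  exact h2 CharTwo.two_eq_zero

theorem qg_add_of_not_isSquare (ψ : AddChar F R) (hψ : ψ.IsPrimitive) (h2 : (2 : F) ≠ 0)
    (c c' : F) (hc : c ≠ 0) (hc' : c' ≠ 0) (hns : ¬ IsSquare (c' / c)) :
    qg ψ c + qg ψ c' = 0 := by
  classical
  have hF := ringChar_ne_two h2
  unfold qg
  rw [sum_sq_eq hF (fun y => ψ (c * y)), sum_sq_eq hF (fun y => ψ (c' * y))]
  have hcc : c / c' ≠ 0 := div_ne_zero hc hc'
  have h1 : ∑ y : F, (((quadraticChar F y + 1 : ℤ) : R)) * ψ (c' * y) =
      ∑ z : F, (((quadraticChar F (c / c' * z) + 1 : ℤ) : R)) * ψ (c * z) := by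
    symm
    apply Fintype.sum_equiv (Equiv.mulLeft₀ (c / c') hcc)
    intro z
    rw [Equiv.mulLeft₀_apply]
    congr 2
    field_simp
  rw [h1, ← Finset.sum_add_distrib]
  have hχ : quadraticChar F (c / c') = -1 := by
    rw [quadraticChar_neg_one_iff_not_isSquare]
    intro hsq
    apply hns
    obtain ⟨r, hr⟩ := hsq
    have hr0 : r ≠ 0 := by
      rintro rfl
      rw [mul_zero] at hr
      exact hcc hr
    refine ⟨r⁻¹, ?_⟩
    have : c' / c = (c / c')⁻¹ := by rw [inv_div]
    rw [this, hr, mul_inv]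
  have h3 : ∀ z : F, (((quadraticChar F z + 1 : ℤ) : R)) * ψ (c * z) +
      (((quadraticChar F (c / c' * z) + 1 : ℤ) : R)) * ψ (c * z) = 2 * ψ (c * z) := by
    intro z
    rw [map_mul (quadraticChar F) (c / c') z, hχ]
    push_cast
    ring
  simp_rw [h3]
  rw [← Finset.mul_sum, sum_mulShift' ψ hψ c, if_neg hc, mul_zero]

theorem qg_eq_of_isSquare (ψ : AddChar F R) (c c' : F) (hc : c ≠ 0) (hc' : c' ≠ 0)
    (hs : IsSquare (c' / c)) : qg ψ c' = qg ψ c := by
  obtain ⟨r, hr⟩ := hs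
  have hr0 : r ≠ 0 := by
    rintro rfl
    rw [mul_zero] at hr
    exact (div_ne_zero hc' hc) hr
  have : c' = c * r ^ 2 := by
    field_simp at hr
    rw [hr]
  rw [this, qg_mul_sq ψ c r hr0]

theorem qg_eq_iff [CharZero R] (ψ : AddChar F R) (hψ : ψ.IsPrimitive) (h2 : (2 : F) ≠ 0)
    (c c' : F) (hc : c ≠ 0) (hc' : c' ≠ 0) : qg ψ c' = qg ψ c ↔ IsSquare (c' / c) := by
  constructor
  · intro h
    by_contra hns
    have h1 := qg_add_of_not_isSquare ψ hψ h2 c c' hc hc' hns
    rw [h] at h1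
    have h3 : (2 : R) * qg ψ c = 0 := by rw [two_mul]; exact h1
    rcases mul_eq_zero.1 h3 with h4 | h4
    · exact two_ne_zero h4
    · exact qg_ne_zero ψ hψ h2 c hc h4
  · exact qg_eq_of_isSquare ψ c c' hc hc'

theorem qg_eq_or [CharZero R] (ψ : AddChar F R) (hψ : ψ.IsPrimitive) (h2 : (2 : F) ≠ 0)
    (c : F) (hc : c ≠ 0) : qg ψ c = qg ψ 1 ∨ qg ψ c = - qg ψ 1 := by
  by_cases hs : IsSquare (c / 1)
  · left
    exact qg_eq_of_isSquare ψ 1 c one_ne_zero hc hs
  · right
    have := qg_add_of_not_isSquare ψ hψ h2 1 c one_ne_zero hc hs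
    rw [eq_neg_iff_add_eq_zero, add_comm]
    exact this

end gauss

end Cfsg.Agent.Helper13.SpUn
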