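import Mathlib
import Cfsg.Agent.Lib.Helper13.SpUn1
import Cfsg.Agent.Lib.Helper13.OrthJp3

set_option autoImplicit false
set_option linter.unusedSectionVars false
set_option linter.unusedVariables false
set_option linter.style.haveILetI false

/-!
# Skew nilpotent endomorphisms of symplectic spaces: basic notions (helper13)
-/

namespace Cfsg.Agent.Helper13.SpUn

open Module Cfsg.Agent.Helper13.OrthJp
open scoped Classical

universe u

section basic
variable {F : Type*} [Field F] {V : Type*} [AddCommGroup V] [Module F V]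

/-- a nondegenerate alternating form together with a skew-adjoint nilpotent endomorphism -/
structure SkewNil (B : LinearMap.BilinForm F V) (X : Module.End F V) : Prop where
  alt : ∀ x, B x x = 0
  nd : ∀ x, (∀ y, B x y = 0) → x = 0
  skew : ∀ x y, B (X x) y = - B x (X y)
  nil : IsNilpotent X

variable {B : LinearMap.BilinForm F V} {X : Module.End F V}

theorem SkewNil.swap (h : SkewNil B X) (x y : V) : B x y = - B y x := by
  have h1 : LinearMap.IsAlt B := h.alt
  exact (LinearMap.IsAlt.neg h1 y x).symm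

theorem SkewNil.nd_right (h : SkewNil B X) (y : V) (hy : ∀ x, B x y = 0) : y = 0 := by
  apply h.nd
  intro x
  rw [h.swap, hy, neg_zero]

theorem SkewNil.pow_skew (h : SkewNil B X) (a : ℕ) (x y : V) :
    B ((X ^ a) x) y = (-1) ^ a * B x ((X ^ a) y) := by
  induction a generalizing x y with
  | zero => simp
  | succ a ih =>
    have e : (X ^ (a + 1)) y = X ((X ^ a) y) := by rw [pow_succ', Module.End.mul_apply]
    rw [e, pow_succ, Module.End.mul_apply, ih, h.skew]
    ring

theorem SkewNil.self_pow_even (h : SkewNil B X) (h2 : (2 : F) ≠ 0) (i : ℕ) (hi : Even i)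
    (x : V) : B x ((X ^ i) x) = 0 := by
  have h1 := h.pow_skew i x x
  rw [hi.neg_one_pow, one_mul, h.swap] at h1
  have h3 : (2 : F) * B x ((X ^ i) x) = 0 := by linear_combination -h1
  rcases mul_eq_zero.1 h3 with h4 | h4
  · exact absurd h4 h2
  · exact h4

theorem SkewNil.symm_odd (h : SkewNil B X) (i : ℕ) (hi : Odd i) (x y : V) :
    B x ((X ^ i) y) = B y ((X ^ i) x) := by
  have h1 := h.pow_skew i x y
  rw [hi.neg_one_pow, h.swap] at h1
  linear_combination h1

theorem pow_add_apply (X : Module.End F V) (a b : ℕ) (x : V) :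
    (X ^ a) ((X ^ b) x) = (X ^ (a + b)) x := by
  rw [pow_add, Module.End.mul_apply]

/-- the Gram entries along a chain -/
theorem SkewNil.gram_chain (h : SkewNil B X) (a b : ℕ) (x y : V) :
    B ((X ^ a) x) ((X ^ b) y) = (-1) ^ a * B x ((X ^ (a + b)) y) := by
  rw [h.pow_skew, pow_add_apply]

end basic

section iso
variable {F : Type*} [Field F] {V : Type*} [AddCommGroup V] [Module F V]
  {V' : Type*} [AddCommGroup V'] [Module F V'] {V'' : Type*} [AddCommGroup V''] [Module F V'']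

/-- isometries intertwining the endomorphisms -/
def Iso (B : LinearMap.BilinForm F V) (X : Module.End F V) (B' : LinearMap.BilinForm F V')
    (X' : Module.End F V') : Prop :=
  ∃ e : V ≃ₗ[F] V', (∀ x y, B' (e x) (e y) = B x y) ∧ ∀ x, e (X x) = X' (e x)

variable {B : LinearMap.BilinForm F V} {X : Module.End F V}
  {B' : LinearMap.BilinForm F V'} {X' : Module.End F V'}
  {B'' : LinearMap.BilinForm F V''} {X'' : Module.End F V''}

theorem Iso.refl (B : LinearMap.BilinForm F V) (X : Module.End F V) : Iso B X B X :=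
  ⟨LinearEquiv.refl F V, fun _ _ => rfl, fun _ => rfl⟩

theorem Iso.symm (h : Iso B X B' X') : Iso B' X' B X := by
  obtain ⟨e, he, hX⟩ := h
  refine ⟨e.symm, fun x y => ?_, fun x => ?_⟩
  · rw [← he, e.apply_symm_apply, e.apply_symm_apply]
  · apply e.injective
    rw [e.apply_symm_apply, hX, e.apply_symm_apply]

theorem Iso.trans (h : Iso B X B' X') (h' : Iso B' X' B'' X'') : Iso B X B'' X'' := by
  obtain ⟨e, he, hX⟩ := h
  obtain ⟨e', he', hX'⟩ := h'
  refine ⟨e.trans e', fun x y => ?_, fun x => ?_⟩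
  · rw [LinearEquiv.trans_apply, LinearEquiv.trans_apply, he', he]
  · rw [LinearEquiv.trans_apply, LinearEquiv.trans_apply, hX, hX']

theorem Iso.pow_apply {e : V ≃ₗ[F] V'} (hX : ∀ x, e (X x) = X' (e x)) (j : ℕ) (x : V) :
    e ((X ^ j) x) = (X' ^ j) (e x) := by
  induction j generalizing x with
  | zero => simp
  | succ j ih => rw [pow_succ, Module.End.mul_apply, ih, hX, pow_succ, Module.End.mul_apply]

theorem Iso.skewNil (h : Iso B X B' X') (hs : SkewNil B X) : SkewNil B' X' := by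
  obtain ⟨e, he, hX⟩ := h
  refine ⟨fun x => ?_, fun x hx => ?_, fun x y => ?_, ?_⟩
  · rw [← e.apply_symm_apply x, he, hs.alt]
  · have : e.symm x = 0 := by
      apply hs.nd
      intro y
      rw [← he, e.apply_symm_apply, hx]
    rw [← e.apply_symm_apply x, this, map_zero]
  · rw [← e.apply_symm_apply x, ← e.apply_symm_apply y, ← hX, ← hX, he, he, hs.skew]
  · obtain ⟨k, hk⟩ := hs.nil
    refine ⟨k, ?_⟩
    apply LinearMap.ext
    intro x
    rw [← e.apply_symm_apply x, ← Iso.pow_apply hX, hk]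
    simp

theorem Iso.hasType (h : Iso B X B' X') {μ : Multiset ℕ} (ht : HasType X μ) : HasType X' μ := by
  obtain ⟨e, he, hX⟩ := h
  exact hasType_of_equiv e hX ht

theorem Iso.finrank_eq (h : Iso B X B' X') : finrank F V = finrank F V' := by
  obtain ⟨e, he, hX⟩ := h
  exact e.finrank_eq

end iso

section prod
variable {F : Type*} [Field F] {V₁ : Type*} [AddCommGroup V₁] [Module F V₁]
  {V₂ : Type*} [AddCommGroup V₂] [Module F V₂]
  {W₁ : Type*} [AddCommGroup W₁] [Module F W₁]
  {W₂ : Type*} [AddCommGroup W₂] [Module F W₂]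

/-- orthogonal sum of forms -/
noncomputable def prodB (B₁ : LinearMap.BilinForm F V₁) (B₂ : LinearMap.BilinForm F V₂) :
    LinearMap.BilinForm F (V₁ × V₂) :=
  B₁.compl₁₂ (LinearMap.fst F V₁ V₂) (LinearMap.fst F V₁ V₂) +
    B₂.compl₁₂ (LinearMap.snd F V₁ V₂) (LinearMap.snd F V₁ V₂)

theorem prodB_apply (B₁ : LinearMap.BilinForm F V₁) (B₂ : LinearMap.BilinForm F V₂)
    (p q : V₁ × V₂) : prodB B₁ B₂ p q = B₁ p.1 q.1 + B₂ p.2 q.2 := rfl

theorem prodMap_pow_apply (X₁ : Module.End F V₁) (X₂ : Module.End F V₂) (j : ℕ) (p : V₁ × V₂) :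
    ((X₁.prodMap X₂) ^ j) p = ((X₁ ^ j) p.1, (X₂ ^ j) p.2) := by
  induction j generalizing p with
  | zero => simp
  | succ j ih =>
    rw [pow_succ, Module.End.mul_apply, ih, pow_succ, pow_succ, Module.End.mul_apply,
      Module.End.mul_apply]
    rfl

theorem SkewNil.prod {B₁ : LinearMap.BilinForm F V₁} {X₁ : Module.End F V₁}
    {B₂ : LinearMap.BilinForm F V₂} {X₂ : Module.End F V₂} (h₁ : SkewNil B₁ X₁)
    (h₂ : SkewNil B₂ X₂) : SkewNil (prodB B₁ B₂) (X₁.prodMap X₂) := by
  refine ⟨fun p => ?_, ?_, fun p q => ?_, ?_⟩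
  · rw [prodB_apply, h₁.alt, h₂.alt, add_zero]
  · rintro ⟨a, b⟩ h
    have ha : a = 0 := by
      apply h₁.nd
      intro v
      have := h (v, 0)
      rw [prodB_apply] at this
      simpa using this
    have hb : b = 0 := by
      apply h₂.nd
      intro v
      have := h (0, v)
      rw [prodB_apply] at this
      simpa using this
    rw [ha, hb]
    rfl
  · rw [prodB_apply, prodB_apply]
    show B₁ (X₁ p.1) q.1 + B₂ (X₂ p.2) q.2 = -(B₁ p.1 (X₁ q.1) + B₂ p.2 (X₂ q.2))
    rw [h₁.skew, h₂.skew]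
    ring
  · obtain ⟨k₁, hk₁⟩ := h₁.nil
    obtain ⟨k₂, hk₂⟩ := h₂.nil
    refine ⟨k₁ + k₂, ?_⟩
    apply LinearMap.ext
    intro p
    rw [prodMap_pow_apply, pow_eq_zero_of_le (Nat.le_add_right k₁ k₂) hk₁,
      pow_eq_zero_of_le (Nat.le_add_left k₂ k₁) hk₂]
    rfl

theorem Iso.prod {B₁ : LinearMap.BilinForm F V₁} {X₁ : Module.End F V₁}
    {B₂ : LinearMap.BilinForm F V₂} {X₂ : Module.End F V₂}
    {C₁ : LinearMap.BilinForm F W₁} {Y₁ : Module.End F W₁}
    {C₂ : LinearMap.BilinForm F W₂} {Y₂ : Module.End F W₂}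
    (h₁ : Iso B₁ X₁ C₁ Y₁) (h₂ : Iso B₂ X₂ C₂ Y₂) :
    Iso (prodB B₁ B₂) (X₁.prodMap X₂) (prodB C₁ C₂) (Y₁.prodMap Y₂) := by
  obtain ⟨e₁, he₁, hX₁⟩ := h₁
  obtain ⟨e₂, he₂, hX₂⟩ := h₂
  refine ⟨e₁.prodCongr e₂, fun p q => ?_, fun p => ?_⟩
  · rw [prodB_apply, prodB_apply]
    show C₁ (e₁ p.1) (e₁ q.1) + C₂ (e₂ p.2) (e₂ q.2) = _
    rw [he₁, he₂]
  · show (e₁ (X₁ p.1), e₂ (X₂ p.2)) = (Y₁ (e₁ p.1), Y₂ (e₂ p.2))
    rw [hX₁, hX₂]

end prod

section gs
variable {F : Type*} [Field F] {R : Type*} [Field R]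
  {V : Type*} [AddCommGroup V] [Module F V] {V' : Type*} [AddCommGroup V'] [Module F V']

/-- the Gauss sum of the quadratic form `x ↦ B x (X^(d-1) x)` on the kernel of `X^d` -/
noncomputable def gs (ψ : AddChar F R) (B : LinearMap.BilinForm F V) (X : Module.End F V)
    (d : ℕ) : R :=
  ∑ᶠ x : V, if (X ^ d) x = 0 then ψ (B x ((X ^ (d - 1)) x)) else 0

theorem Iso.gs_eq {B : LinearMap.BilinForm F V} {X : Module.End F V}
    {B' : LinearMap.BilinForm F V'} {X' : Module.End F V'} (h : Iso B X B' X')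
    (ψ : AddChar F R) (d : ℕ) : gs ψ B X d = gs ψ B' X' d := by
  obtain ⟨e, he, hX⟩ := h
  unfold gs
  rw [← finsum_comp_equiv e.toEquiv]
  apply finsum_congr
  intro x
  show _ = if (X' ^ d) (e x) = 0 then ψ (B' (e x) ((X' ^ (d - 1)) (e x))) else 0
  rw [← Iso.pow_apply hX, ← Iso.pow_apply hX, he]
  by_cases hx : (X ^ d) x = 0
  · rw [if_pos hx, if_pos (by rw [hx, map_zero])]
  · rw [if_neg hx, if_neg (fun h0 => hx (by
      apply e.injective
      rw [h0, map_zero]))]

theorem gs_prod [Finite V] [Finite V'] (ψ : AddChar F R) (B : LinearMap.BilinForm F V)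
    (X : Module.End F V) (B' : LinearMap.BilinForm F V') (X' : Module.End F V') (d : ℕ) :
    gs ψ (prodB B B') (X.prodMap X') d = gs ψ B X d * gs ψ B' X' d := by
  haveI : Fintype V := Fintype.ofFinite V
  haveI : Fintype V' := Fintype.ofFinite V'
  unfold gs
  rw [finsum_eq_sum_of_fintype, finsum_eq_sum_of_fintype, finsum_eq_sum_of_fintype,
    Fintype.sum_prod_type, Finset.sum_mul_sum]
  apply Finset.sum_congr rfl
  intro x _
  apply Finset.sum_congr rfl
  intro y _
  rw [prodMap_pow_apply, prodMap_pow_apply, prodB_apply, Prod.mk_eq_zero]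
  by_cases hx : (X ^ d) x = 0
  · by_cases hy : (X' ^ d) y = 0
    · rw [if_pos ⟨hx, hy⟩, if_pos hx, if_pos hy, AddChar.map_add_eq_mul]
    · rw [if_neg (fun h => hy h.2), if_neg hy, mul_zero]
  · rw [if_neg (fun h => hx h.1), if_neg hx, zero_mul]

/-- if `X ^ (d-1)` vanishes the Gauss sum is the cardinality -/
theorem gs_of_pow_eq_zero [Finite V] (ψ : AddChar F R) (B : LinearMap.BilinForm F V)
    (X : Module.End F V) (d : ℕ) (hd : 1 ≤ d) (h : X ^ (d - 1) = 0) :
    gs ψ B X d = (Nat.card V : R) := by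
  haveI : Fintype V := Fintype.ofFinite V
  unfold gs
  rw [finsum_eq_sum_of_fintype]
  have h1 : X ^ d = 0 := by
    have : d = (d - 1) + 1 := by omega
    rw [this, pow_succ, h, zero_mul]
  simp only [h, h1, LinearMap.zero_apply, map_zero, if_true, AddChar.map_zero_eq_one]
  rw [Finset.sum_const, Finset.card_univ, Nat.card_eq_fintype_card]
  simp

end gs

end Cfsg.Agent.Helper13.SpUn
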