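import Mathlib
import Cfsg.Agent.Lib.Helper13.SpUn2

set_option autoImplicit false
set_option linter.unusedSectionVars false
set_option linter.unusedVariables false
set_option linter.style.haveILetI false

/-!
# Splitting off an embedded nondegenerate block (helper13)
-/

namespace Cfsg.Agent.Helper13.SpUn

open Module Cfsg.Agent.Helper13.OrthJp
open scoped Classical

universe u

section split
variable {F : Type*} [Field F] {V : Type*} [AddCommGroup V] [Module F V]
  {M : Type*} [AddCommGroup M] [Module F M]

/-- restriction of a form to a submodule -/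
noncomputable def resB (B : LinearMap.BilinForm F V) (P : Submodule F V) :
    LinearMap.BilinForm F P := B.domRestrict₁₂ P P

theorem resB_apply (B : LinearMap.BilinForm F V) (P : Submodule F V) (x y : P) :
    resB B P x y = B (x : V) (y : V) := rfl

/-- an isometric intertwining embedding is injective -/
theorem emb_injective {B : LinearMap.BilinForm F V} {BM : LinearMap.BilinForm F M}
    {XM : Module.End F M} (hM : SkewNil BM XM) (ι : M →ₗ[F] V)
    (hι : ∀ x y, B (ι x) (ι y) = BM x y) : Function.Injective ι := by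
  rw [← LinearMap.ker_eq_bot, LinearMap.ker_eq_bot']
  intro x hx
  apply hM.nd
  intro y
  rw [← hι, hx, map_zero, LinearMap.zero_apply]

theorem split [FiniteDimensional F V] {B : LinearMap.BilinForm F V} {X : Module.End F V}
    {BM : LinearMap.BilinForm F M} {XM : Module.End F M} (h : SkewNil B X)
    (hM : SkewNil BM XM) (ι : M →ₗ[F] V) (hι : ∀ x y, B (ι x) (ι y) = BM x y)
    (hX : ∀ x, ι (XM x) = X (ι x)) :
    ∃ (P : Submodule F V) (hP : ∀ y ∈ P, X y ∈ P),
      SkewNil (resB B P) (X.restrict hP) ∧
      Iso (prodB BM (resB B P)) (XM.prodMap (X.restrict hP)) B X ∧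
      ∀ y ∈ P, ∀ x : M, B (ι x) y = 0 := by
  have hinj := emb_injective hM ι hι
  set W : Submodule F V := LinearMap.range ι with hW
  set P : Submodule F V := B.orthogonal W with hPdef
  have hmemP : ∀ y, y ∈ P ↔ ∀ x : M, B (ι x) y = 0 := by
    intro y
    rw [hPdef, LinearMap.BilinForm.mem_orthogonal_iff]
    constructor
    · intro hy x
      exact hy (ι x) ⟨x, rfl⟩
    · rintro hy _ ⟨x, rfl⟩
      exact hy x
  have hrefl : B.IsRefl := (show LinearMap.IsAlt B from h.alt).isRefl
  have hnd : (B.restrict W).Nondegenerate := by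
    constructor
    · rintro ⟨_, ⟨x, rfl⟩⟩ hx
      have : x = 0 := by
        apply hM.nd
        intro y
        rw [← hι]
        exact hx ⟨ι y, ⟨y, rfl⟩⟩
      apply Subtype.ext
      show ι x = 0
      rw [this, map_zero]
    · rintro ⟨_, ⟨x, rfl⟩⟩ hx
      have : x = 0 := by
        apply hM.nd_right
        intro y
        rw [← hι]
        exact hx ⟨ι y, ⟨y, rfl⟩⟩
      apply Subtype.ext
      show ι x = 0
      rw [this, map_zero]
  have hc : IsCompl W P :=
    LinearMap.BilinForm.isCompl_orthogonal_of_restrict_nondegenerate hrefl hnd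
  have hP : ∀ y ∈ P, X y ∈ P := by
    intro y hy
    rw [hmemP] at hy ⊢
    intro x
    have := h.skew (ι x) y
    rw [← hX, hy, ] at this
    rw [eq_comm, neg_eq_zero] at this
    exact this
  have hsk : SkewNil (resB B P) (X.restrict hP) := by
    refine ⟨fun x => h.alt _, ?_, fun x y => h.skew _ _, isNilpotent_restrict h.nil hP⟩
    intro y hy
    apply Subtype.ext
    show (y : V) = 0
    apply h.nd
    intro z
    have hz : z ∈ W ⊔ P := by
      rw [hc.sup_eq_top]
      trivial
    obtain ⟨w, ⟨x, rfl⟩, y', hy', rfl⟩ := Submodule.mem_sup.1 hz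
    rw [map_add, h.swap, (hmemP y).1 y.2 x, neg_zero, zero_add]
    exact hy ⟨y', hy'⟩
  refine ⟨P, hP, hsk, ?_, fun y hy x => (hmemP y).1 hy x⟩
  let e₁ : M ≃ₗ[F] W := LinearEquiv.ofInjective ι hinj
  let e : (M × P) ≃ₗ[F] V :=
    (e₁.prodCongr (LinearEquiv.refl F P)) ≪≫ₗ Submodule.prodEquivOfIsCompl W P hc
  have he : ∀ p : M × P, e p = ι p.1 + (p.2 : V) := by
    intro p
    show ((e₁ p.1 : W) : V) + ((p.2 : P) : V) = _
    rfl
  refine ⟨e, fun p q => ?_, fun p => ?_⟩
  · rw [he, he, prodB_apply, resB_apply]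
    simp only [map_add, LinearMap.add_apply]
    rw [hι, (hmemP _).1 q.2.2 p.1, h.swap (p.2 : V) (ι q.1), (hmemP _).1 p.2.2 q.1]
    ring
  · rw [he, he, map_add]
    show ι (XM p.1) + X (p.2 : V) = _
    rw [hX]

end split

section cor
variable {F : Type*} [Field F] {V : Type*} [AddCommGroup V] [Module F V]
  {V' : Type*} [AddCommGroup V'] [Module F V']

/-- cancelling types in a product decomposition -/
theorem type_of_prod [FiniteDimensional F V] [FiniteDimensional F V']
    {X : Module.End F V} {X' : Module.End F V'} {μ ν : Multiset ℕ}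
    (hν : HasType X ν) (hμ : HasType (X.prodMap X') μ) (hnil : IsNilpotent X') :
    ν ≤ μ ∧ HasType X' (μ - ν) := by
  obtain ⟨ν', hν'⟩ := exists_hasType X' hnil
  have h1 := HasType.prodMap hν hν'
  have h2 : μ = ν + ν' := hμ.unique h1
  subst h2
  refine ⟨Multiset.le_add_right _ _, ?_⟩
  rw [add_tsub_cancel_left]
  exact hν'

end cor

end Cfsg.Agent.Helper13.SpUn
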