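import Mathlib
import Cfsg.Agent.Lib.Helper13.SpUn3
import Cfsg.Agent.Lib.Helper17.JordanRank

set_option autoImplicit false
set_option linter.unusedSectionVars false
set_option linter.unusedVariables false
set_option linter.style.haveILetI false

/-!
# The chain models: a single Jordan block with its standard pairing (helper13)
-/

namespace Cfsg.Agent.Helper13.SpUn

open Module Cfsg.Agent.Helper13.OrthJp Cfsg.Agent.Helper17.JordanRank
open scoped Classical

universe u

section chain
variable {F : Type*} [Field F] (d : ℕ)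

/-- the shift endomorphism `e_a ↦ e_{a+1}` of `F^d` -/
noncomputable def shiftL (d : ℕ) (F : Type*) [Field F] : Module.End F (Fin d → F) :=
  Matrix.toLin' (Cfsg.jordanBlock d F) - 1

theorem shiftL_eq : shiftL d F = Matrix.toLin' (Cfsg.jordanBlock d F - 1) := by
  rw [shiftL, map_sub, Matrix.toLin'_one]
  rfl

theorem shiftL_pow (j : ℕ) :
    (shiftL d F) ^ j = Matrix.toLin' ((Cfsg.jordanBlock d F - 1) ^ j) := by
  rw [shiftL_eq, Matrix.toLin'_pow]

theorem shiftL_pow_single (j : ℕ) (b : Fin d) :
    ((shiftL d F) ^ j) (Pi.single b 1) =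
      if h : (b : ℕ) + j < d then Pi.single (⟨(b : ℕ) + j, h⟩ : Fin d) 1 else 0 := by
  rw [shiftL_pow, Matrix.toLin'_apply, Matrix.mulVec_single_one]
  funext a
  rw [Matrix.col_apply, jordanBlock_sub_one_pow_apply]
  by_cases h : (b : ℕ) + j < d
  · rw [dif_pos h, Pi.single_apply]
    congr 1
    apply propext
    rw [Fin.ext_iff]
  · rw [dif_neg h, Pi.zero_apply, if_neg]
    have := a.2
    omega

theorem shiftL_single (b : Fin d) :
    (shiftL d F) (Pi.single b 1) =
      if h : (b : ℕ) + 1 < d then Pi.single (⟨(b : ℕ) + 1, h⟩ : Fin d) 1 else 0 := by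
  have := shiftL_pow_single (F := F) d 1 b
  rwa [pow_one] at this

theorem shiftL_pow_self : (shiftL d F) ^ d = 0 := by
  rw [shiftL_pow, jordanBlock_sub_one_pow_self, map_zero]

theorem shiftL_pow_apply (j : ℕ) (x : Fin d → F) (a : Fin d) :
    ((shiftL d F) ^ j) x a = if h : j ≤ (a : ℕ) then x ⟨(a : ℕ) - j, by have := a.2; omega⟩ else 0 := by
  rw [shiftL_pow, Matrix.toLin'_apply, Matrix.mulVec, dotProduct]
  simp only [jordanBlock_sub_one_pow_apply]
  by_cases h : j ≤ (a : ℕ)
  · rw [dif_pos h, Finset.sum_eq_single (⟨(a : ℕ) - j, by have := a.2; omega⟩ : Fin d)]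
    · rw [if_pos (by simp; omega), one_mul]
    · intro b _ hb
      rw [if_neg, zero_mul]
      intro hab
      apply hb
      apply Fin.ext
      simp
      omega
    · intro h'
      exact absurd (Finset.mem_univ _) h'
  · rw [dif_neg h]
    apply Finset.sum_eq_zero
    intro b _
    rw [if_neg (by omega), zero_mul]

theorem hasType_shiftL (hd : 1 ≤ d) : HasType (shiftL d F) {d} := by
  refine ⟨?_, fun j => ?_⟩
  · intro a ha
    rw [Multiset.mem_singleton] at ha
    omega
  · rw [shiftL, finrank_range_toLin'_sub_one_pow, rank_jordanBlock_sub_one_pow]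
    simp

/-- the Gram matrix of the standard pairing -/
def pairM (d : ℕ) (F : Type*) [Field F] : Matrix (Fin d) (Fin d) F :=
  Matrix.of fun a b => if (a : ℕ) + (b : ℕ) + 1 = d then (-1) ^ (a : ℕ) else 0

theorem pairM_apply (a b : Fin d) :
    pairM d F a b = if (a : ℕ) + (b : ℕ) + 1 = d then (-1) ^ (a : ℕ) else 0 := rfl

/-- the standard pairing on `F^d` -/
noncomputable def pairB (d : ℕ) (F : Type*) [Field F] : LinearMap.BilinForm F (Fin d → F) :=
  Matrix.toBilin' (pairM d F)

theorem pairB_single (a b : Fin d) :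
    pairB d F (Pi.single a 1) (Pi.single b 1) =
      if (a : ℕ) + (b : ℕ) + 1 = d then (-1) ^ (a : ℕ) else 0 := by
  rw [pairB, Matrix.toBilin'_single, pairM_apply]

theorem pairB_single_right (x : Fin d → F) (b : Fin d) :
    pairB d F x (Pi.single b 1) =
      (-1) ^ (d - 1 - (b : ℕ)) * x ⟨d - 1 - (b : ℕ), by have := b.2; omega⟩ := by
  rw [pairB, Matrix.toBilin'_apply]
  have hb := b.2
  rw [Finset.sum_eq_single (⟨d - 1 - (b : ℕ), by omega⟩ : Fin d)]
  · rw [Finset.sum_eq_single b]
    · rw [Pi.single_eq_same, pairM_apply, if_pos (by simp; omega)]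
      simp
      ring
    · intro c _ hc
      rw [Pi.single_eq_of_ne hc, mul_zero]
    · intro h
      exact absurd (Finset.mem_univ _) h
  · intro a _ ha
    apply Finset.sum_eq_zero
    intro c _
    by_cases hc : c = b
    · subst hc
      rw [pairM_apply, if_neg, mul_zero, zero_mul]
      intro h
      apply ha
      apply Fin.ext
      simp
      omega
    · rw [Pi.single_eq_of_ne hc, mul_zero]
  · intro h
    exact absurd (Finset.mem_univ _) h

theorem pairB_nd (x : Fin d → F) (h : ∀ y, pairB d F x y = 0) : x = 0 := by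
  funext a
  have ha := a.2
  have h1 := h (Pi.single (⟨d - 1 - (a : ℕ), by omega⟩ : Fin d) 1)
  rw [pairB_single_right] at h1
  have h2 : (⟨d - 1 - (d - 1 - (a : ℕ)), by omega⟩ : Fin d) = a := by
    apply Fin.ext
    simp
    omega
  simp only [Fin.val_mk] at h1
  rw [h2] at h1
  rcases mul_eq_zero.1 h1 with h3 | h3
  · exact absurd h3 (pow_ne_zero _ (by norm_num))
  · exact h3

theorem pairB_symm (x y : Fin d → F) :
    pairB d F y x = (-1) ^ (d - 1) * pairB d F x y := by
  have : LinearMap.flip (pairB d F) = ((-1 : F) ^ (d - 1)) • pairB d F := by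
    apply LinearMap.ext_basis (Pi.basisFun F (Fin d)) (Pi.basisFun F (Fin d))
    intro a b
    rw [LinearMap.flip_apply, Pi.basisFun_apply, Pi.basisFun_apply, LinearMap.smul_apply,
      LinearMap.smul_apply, pairB_single, pairB_single, smul_eq_mul]
    by_cases h : (a : ℕ) + (b : ℕ) + 1 = d
    · rw [if_pos h, if_pos (by omega), ← pow_add]
      have : d - 1 + (a : ℕ) = (b : ℕ) + 2 * (a : ℕ) := by omega
      rw [this, pow_add, pow_mul]
      simp
    · rw [if_neg h, if_neg (by omega), mul_zero]
  have h1 := congrArg (fun f => f x y) this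
  simpa using h1

theorem pairB_skew (x y : Fin d → F) :
    pairB d F (shiftL d F x) y = - pairB d F x (shiftL d F y) := by
  have : (pairB d F).compl₁₂ (shiftL d F) LinearMap.id =
      - (pairB d F).compl₁₂ LinearMap.id (shiftL d F) := by
    apply LinearMap.ext_basis (Pi.basisFun F (Fin d)) (Pi.basisFun F (Fin d))
    intro a b
    rw [LinearMap.neg_apply, LinearMap.neg_apply, LinearMap.compl₁₂_apply,
      LinearMap.compl₁₂_apply, Pi.basisFun_apply, Pi.basisFun_apply, LinearMap.id_apply,
      LinearMap.id_apply, shiftL_single, shiftL_single]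
    have ha := a.2
    have hb := b.2
    by_cases h1 : (a : ℕ) + 1 < d
    · rw [dif_pos h1, pairB_single]
      by_cases h2 : (b : ℕ) + 1 < d
      · rw [dif_pos h2, pairB_single]
        simp only [Fin.val_mk]
        by_cases h3 : (a : ℕ) + 1 + (b : ℕ) + 1 = d
        · rw [if_pos h3, if_pos (by omega), pow_succ]
          ring
        · rw [if_neg h3, if_neg (by omega), neg_zero]
      · rw [dif_neg h2, map_zero, neg_zero, if_neg]
        simp only [Fin.val_mk]
        omega
    · rw [dif_neg h1, map_zero, LinearMap.zero_apply]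
      by_cases h2 : (b : ℕ) + 1 < d
      · rw [dif_pos h2, pairB_single, if_neg, neg_zero]
        simp only [Fin.val_mk]
        omega
      · rw [dif_neg h2, map_zero, neg_zero]
  have h1 := congrArg (fun f => f x y) this
  simpa using h1

end chain

end Cfsg.Agent.Helper13.SpUn
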