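import Mathlib
import Cfsg.Agent.Lib.Helper13.SpUn4

set_option autoImplicit false
set_option linter.unusedSectionVars false
set_option linter.unusedVariables false
set_option linter.style.haveILetI false

/-!
# The even block and the pair block, their Gauss sums, and embeddings (helper13)
-/

namespace Cfsg.Agent.Helper13.SpUn

open Module Cfsg.Agent.Helper13.OrthJp Cfsg.Agent.Helper13.Nilp
open scoped Classical

universe u

section blocks
variable {F : Type*} [Field F] (d : ℕ)

theorem skewNil_even (h2 : (2 : F) ≠ 0) (hd : Even d) (hd1 : 1 ≤ d) (c : F) (hc : c ≠ 0) :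
    SkewNil (c • pairB d F) (shiftL d F) := by
  refine ⟨fun x => ?_, fun x hx => ?_, fun x y => ?_, ⟨d, shiftL_pow_self d⟩⟩
  · have h1 := pairB_symm d x x
    have hodd : Odd (d - 1) := by
      obtain ⟨k, hk⟩ := hd
      exact ⟨k - 1, by omega⟩
    rw [hodd.neg_one_pow] at h1
    have h3 : (2 : F) * pairB d F x x = 0 := by linear_combination h1
    rcases mul_eq_zero.1 h3 with h4 | h4
    · exact absurd h4 h2
    · rw [LinearMap.smul_apply, LinearMap.smul_apply, h4, smul_zero]
  · apply pairB_nd d x
    intro y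
    have := hx y
    rw [LinearMap.smul_apply, LinearMap.smul_apply, smul_eq_mul] at this
    rcases mul_eq_zero.1 this with h4 | h4
    · exact absurd h4 hc
    · exact h4
  · rw [LinearMap.smul_apply, LinearMap.smul_apply, LinearMap.smul_apply, LinearMap.smul_apply,
      pairB_skew, smul_neg]

/-- the pair form -/
noncomputable def pair2 (d : ℕ) (F : Type*) [Field F] :
    LinearMap.BilinForm F ((Fin d → F) × (Fin d → F)) :=
  (pairB d F).compl₁₂ (LinearMap.fst F (Fin d → F) (Fin d → F))
      (LinearMap.snd F (Fin d → F) (Fin d → F)) -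
    (pairB d F).compl₁₂ (LinearMap.snd F (Fin d → F) (Fin d → F))
      (LinearMap.fst F (Fin d → F) (Fin d → F))

theorem pair2_apply (p q : (Fin d → F) × (Fin d → F)) :
    pair2 d F p q = pairB d F p.1 q.2 - pairB d F p.2 q.1 := rfl

theorem pairB_symm_odd (hd : Odd d) (x y : Fin d → F) : pairB d F y x = pairB d F x y := by
  have h1 := pairB_symm d x y
  have heven : Even (d - 1) := by
    obtain ⟨k, hk⟩ := hd
    exact ⟨k, by omega⟩
  rw [heven.neg_one_pow, one_mul] at h1
  exact h1

theorem skewNil_pair (hd : Odd d) :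
    SkewNil (pair2 d F) ((shiftL d F).prodMap (shiftL d F)) := by
  refine ⟨fun p => ?_, ?_, fun p q => ?_, ?_⟩
  · rw [pair2_apply, pairB_symm_odd d hd p.1 p.2, sub_self]
  · rintro ⟨x, y⟩ h
    have hx : x = 0 := by
      apply pairB_nd d x
      intro y'
      have := h (0, y')
      rw [pair2_apply] at this
      simpa using this
    have hy : y = 0 := by
      apply pairB_nd d y
      intro x'
      have := h (x', 0)
      rw [pair2_apply] at this
      simpa using this
    rw [hx, hy]
    rfl
  · rw [pair2_apply, pair2_apply]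
    show pairB d F (shiftL d F p.1) q.2 - pairB d F (shiftL d F p.2) q.1 =
      -(pairB d F p.1 (shiftL d F q.2) - pairB d F p.2 (shiftL d F q.1))
    rw [pairB_skew, pairB_skew]
    ring
  · refine ⟨d, ?_⟩
    apply LinearMap.ext
    intro p
    rw [prodMap_pow_apply, shiftL_pow_self]
    rfl

theorem hasType_pair (hd : 1 ≤ d) :
    HasType ((shiftL d F).prodMap (shiftL d F)) ({d} + {d}) :=
  HasType.prodMap (hasType_shiftL d hd) (hasType_shiftL d hd)

end blocks

section sums
variable {F : Type*} [Field F] [Fintype F] {R : Type*} [Field R]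

theorem sum_pi_eval_zero (n : ℕ) (g : F → R) :
    ∑ x : Fin (n + 1) → F, g (x 0) = (Fintype.card F : R) ^ n * ∑ a : F, g a := by
  rw [← (Fin.consEquiv (fun _ : Fin (n + 1) => F)).sum_comp, Fintype.sum_prod_type]
  have : ∀ (a : F) (f : Fin n → F),
      g ((Fin.consEquiv (fun _ : Fin (n + 1) => F)) (a, f) 0) = g a := by
    intro a f
    rfl
  simp_rw [this]
  simp only [Finset.sum_const, Finset.card_univ, nsmul_eq_mul]
  rw [← Finset.mul_sum, Fintype.card_fun, Fintype.card_fin]
  push_cast
  rfl

theorem gs_even_block (ψ : AddChar F R) (d : ℕ) (hd1 : 1 ≤ d) (c : F) :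
    gs ψ (c • pairB d F) (shiftL d F) d = (Fintype.card F : R) ^ (d - 1) * qg ψ c := by
  obtain ⟨n, rfl⟩ : ∃ n, d = n + 1 := ⟨d - 1, by omega⟩
  unfold gs
  rw [finsum_eq_sum_of_fintype]
  have h1 : ∀ x : Fin (n + 1) → F, ((shiftL (n + 1) F) ^ (n + 1 - 1)) x =
      (x 0) • Pi.single (⟨n, by omega⟩ : Fin (n + 1)) (1 : F) := by
    intro x
    funext a
    rw [shiftL_pow_apply, Pi.smul_apply, Pi.single_apply, smul_eq_mul]
    by_cases h : n + 1 - 1 ≤ (a : ℕ)
    · have ha := a.2
      have ha' : a = ⟨n, by omega⟩ := by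
        apply Fin.ext
        simp
        omega
      rw [dif_pos h, if_pos ha', mul_one]
      congr 1
      apply Fin.ext
      simp
      omega
    · rw [dif_neg h, if_neg, mul_zero]
      intro ha'
      apply h
      rw [ha']
      simp
  have h3 := sum_pi_eval_zero (R := R) n (fun a => ψ (c * a ^ 2))
  have h4 : (Fintype.card F : R) ^ (n + 1 - 1) * qg ψ c =
      ∑ x : Fin (n + 1) → F, ψ (c * (x 0) ^ 2) := by
    rw [h3]
    rfl
  rw [h4]
  apply Finset.sum_congr rfl
  intro x _
  rw [if_pos (by rw [shiftL_pow_self]; rfl), h1]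
  congr 1
  have e1 : pairB (n + 1) F x (Pi.single (⟨n, by omega⟩ : Fin (n + 1)) (1 : F)) = x 0 := by
    rw [pairB_single_right]
    have e2 : (⟨n + 1 - 1 - n, by omega⟩ : Fin (n + 1)) = 0 := by
      apply Fin.ext
      simp
    simp only [Fin.val_mk]
    rw [e2]
    have e3 : n + 1 - 1 - n = 0 := by omega
    rw [e3, pow_zero, one_mul]
  rw [LinearMap.smul_apply, LinearMap.smul_apply, LinearMap.map_smul, e1]
  show c * (x 0 * x 0) = c * x 0 ^ 2
  ring

end sums

section homog
variable {F : Type*} [Field F] [Fintype F] {R : Type*} [Field R]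
  {V : Type*} [AddCommGroup V] [Module F V] [FiniteDimensional F V]

/-- for a homogeneous type `d^k` and `e < d` the quadratic form vanishes on the kernel of `X^e` -/
theorem gs_of_homog {B : LinearMap.BilinForm F V} {X : Module.End F V} (h : SkewNil B X)
    (d k e : ℕ) (ht : HasType X (Multiset.replicate k d)) (he : 1 ≤ e) (hed : e < d)
    (ψ : AddChar F R) : gs ψ B X e = (Fintype.card F : R) ^ (k * e) := by
  have hXd : X ^ d = 0 := by
    apply ht.pow_eq_zero d
    intro a ha
    rw [Multiset.eq_of_mem_replicate ha]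
  have hrk : ∀ j, finrank F (LinearMap.range (X ^ j)) = k * (d - j) := by
    intro j
    rw [ht.2 j, Multiset.map_replicate, Multiset.sum_replicate, smul_eq_mul]
  have hV : finrank F V = k * d := by
    rw [← ht.sum, Multiset.sum_replicate, smul_eq_mul]
  have hker : LinearMap.ker (X ^ e) = LinearMap.range (X ^ (d - e)) := by
    symm
    apply Submodule.eq_of_le_of_finrank_eq
    · rintro _ ⟨y, rfl⟩
      rw [LinearMap.mem_ker, pow_add_apply]
      have : e + (d - e) = d := by omega
      rw [this, hXd, LinearMap.zero_apply]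
    · have h1 := LinearMap.finrank_range_add_finrank_ker (X ^ e)
      rw [hrk, hV] at h1
      rw [hrk]
      have h2 : d - (d - e) = e := by omega
      rw [h2]
      have h3 : k * d = k * (d - e) + k * e := by
        rw [← Nat.mul_add]
        congr 1
        omega
      omega
  have hq : ∀ x : V, (X ^ e) x = 0 → B x ((X ^ (e - 1)) x) = 0 := by
    intro x hx
    have hx' : x ∈ LinearMap.range (X ^ (d - e)) := by
      rw [← hker]
      exact hx
    obtain ⟨y, rfl⟩ := hx'
    rw [pow_add_apply, h.pow_skew, pow_add_apply]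
    have h1 : X ^ (d - e + (e - 1 + (d - e))) = 0 :=
      pow_eq_zero_of_le (by omega) hXd
    rw [h1, LinearMap.zero_apply, map_zero, mul_zero]
  haveI : Finite V := Module.finite_of_finite F
  haveI : Fintype V := Fintype.ofFinite V
  unfold gs
  rw [finsum_eq_sum_of_fintype]
  have h2 : ∀ x : V, (if (X ^ e) x = 0 then ψ (B x ((X ^ (e - 1)) x)) else 0) =
      if x ∈ LinearMap.ker (X ^ e) then (1 : R) else 0 := by
    intro x
    by_cases hx : (X ^ e) x = 0
    · rw [if_pos hx, if_pos (by exact hx), hq x hx, AddChar.map_zero_eq_one]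
    · rw [if_neg hx, if_neg (by exact hx)]
  simp_rw [h2]
  rw [Finset.sum_boole]
  have h3 : (Finset.univ.filter (fun x : V => x ∈ LinearMap.ker (X ^ e))).card =
      Nat.card (LinearMap.ker (X ^ e)) := by
    rw [Nat.card_eq_fintype_card, Fintype.card_subtype]
  rw [h3, Module.natCard_eq_pow_finrank (K := F), Nat.card_eq_fintype_card, hker, hrk]
  have h4 : d - (d - e) = e := by omega
  rw [h4]
  push_cast
  rfl

end homog

section emb
variable {F : Type*} [Field F] {V : Type*} [AddCommGroup V] [Module F V] [FiniteDimensional F V]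
  {B : LinearMap.BilinForm F V} {X : Module.End F V}

theorem chainMap_shift (d : ℕ) (v : V) (hv : (X ^ d) v = 0) (x : Fin d → F) :
    chainMap X v d (shiftL d F x) = X (chainMap X v d x) := by
  have : (chainMap X v d).comp (shiftL d F) = X.comp (chainMap X v d) := by
    apply (Pi.basisFun F (Fin d)).ext
    intro a
    rw [LinearMap.comp_apply, LinearMap.comp_apply, Pi.basisFun_apply, shiftL_single,
      chainMap_single]
    by_cases h : (a : ℕ) + 1 < d
    · rw [dif_pos h, chainMap_single]
      show (X ^ ((a : ℕ) + 1)) v = _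
      rw [pow_succ', Module.End.mul_apply]
    · rw [dif_neg h, map_zero]
      have ha := a.2
      have : (a : ℕ) + 1 = d := by omega
      rw [← Module.End.mul_apply, ← pow_succ', this, hv]
  exact congrArg (fun f => f x) this

theorem gram_chainMap (h : SkewNil B X) (d : ℕ) (v w : V) (hw : (X ^ d) w = 0) (c : F)
    (hg : ∀ i, i < d → B v ((X ^ i) w) = if i + 1 = d then c else 0) (x y : Fin d → F) :
    B (chainMap X v d x) (chainMap X w d y) = c * pairB d F x y := by
  have : B.compl₁₂ (chainMap X v d) (chainMap X w d) = c • pairB d F := by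
    apply LinearMap.ext_basis (Pi.basisFun F (Fin d)) (Pi.basisFun F (Fin d))
    intro a b
    rw [LinearMap.compl₁₂_apply, Pi.basisFun_apply, Pi.basisFun_apply, chainMap_single,
      chainMap_single, LinearMap.smul_apply, LinearMap.smul_apply, pairB_single, h.gram_chain,
      smul_eq_mul]
    by_cases hab : (a : ℕ) + (b : ℕ) < d
    · rw [hg _ hab]
      by_cases h1 : (a : ℕ) + (b : ℕ) + 1 = d
      · rw [if_pos h1, if_pos h1]
        ring
      · rw [if_neg h1, if_neg h1, mul_zero, mul_zero]
    · have h1 : (X ^ ((a : ℕ) + (b : ℕ))) w = 0 := by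
        have : (a : ℕ) + (b : ℕ) = ((a : ℕ) + (b : ℕ) - d) + d := by omega
        rw [this, ← pow_add_apply, hw, map_zero]
      rw [h1, map_zero, mul_zero, if_neg (by omega), mul_zero]
  exact congrArg (fun f => f x y) this

theorem gram_chainMap_zero (h : SkewNil B X) (d : ℕ) (v w : V)
    (hg : ∀ i, B v ((X ^ i) w) = 0) (x y : Fin d → F) :
    B (chainMap X v d x) (chainMap X w d y) = 0 := by
  have : B.compl₁₂ (chainMap X v d) (chainMap X w d) = 0 := by
    apply LinearMap.ext_basis (Pi.basisFun F (Fin d)) (Pi.basisFun F (Fin d))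
    intro a b
    rw [LinearMap.compl₁₂_apply, Pi.basisFun_apply, Pi.basisFun_apply, chainMap_single,
      chainMap_single, h.gram_chain, hg, mul_zero]
    rfl
  exact congrArg (fun f => f x y) this

/-- a normalized cyclic vector gives an embedding of the even block -/
theorem emb_even (h : SkewNil B X) (d : ℕ) (c : F) (v : V) (hv : (X ^ d) v = 0)
    (hg : ∀ i, i < d → B v ((X ^ i) v) = if i + 1 = d then c else 0) :
    ∃ ι : (Fin d → F) →ₗ[F] V, (∀ x y, B (ι x) (ι y) = (c • pairB d F) x y) ∧
      (∀ x, ι (shiftL d F x) = X (ι x)) :=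
  ⟨chainMap X v d, fun x y => by
    rw [gram_chainMap h d v v hv c hg]
    rfl, chainMap_shift d v hv⟩

/-- a normalized pair of vectors gives an embedding of the pair block -/
theorem emb_pair (h : SkewNil B X) (d : ℕ) (hd : Odd d) (v w : V) (hv : (X ^ d) v = 0)
    (hw : (X ^ d) w = 0) (hvv : ∀ i, B v ((X ^ i) v) = 0) (hww : ∀ i, B w ((X ^ i) w) = 0)
    (hvw : ∀ i, i < d → B v ((X ^ i) w) = if i + 1 = d then 1 else 0) :
    ∃ ι : ((Fin d → F) × (Fin d → F)) →ₗ[F] V, (∀ p q, B (ι p) (ι q) = pair2 d F p q) ∧
      (∀ p, ι (((shiftL d F).prodMap (shiftL d F)) p) = X (ι p)) := by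
  refine ⟨(chainMap X v d).coprod (chainMap X w d), fun p q => ?_, fun p => ?_⟩
  · rw [LinearMap.coprod_apply, LinearMap.coprod_apply, pair2_apply]
    simp only [map_add, LinearMap.add_apply]
    rw [gram_chainMap_zero h d v v hvv, gram_chainMap_zero h d w w hww,
      gram_chainMap h d v w hw 1 hvw, h.swap (chainMap X w d p.2) (chainMap X v d q.1),
      gram_chainMap h d v w hw 1 hvw, pairB_symm_odd d hd p.2 q.1]
    ring
  · rw [LinearMap.coprod_apply, LinearMap.coprod_apply, map_add]
    show chainMap X v d (shiftL d F p.1) + chainMap X w d (shiftL d F p.2) = _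
    rw [chainMap_shift d v hv, chainMap_shift d w hw]

end emb

end Cfsg.Agent.Helper13.SpUn
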