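import Mathlib
import Cfsg.Agent.Lib.Helper13.SpUn5

set_option autoImplicit false
set_option linter.unusedSectionVars false
set_option linter.unusedVariables false
set_option linter.style.haveILetI false

/-!
# Normalizing generators of blocks (helper13)
-/

namespace Cfsg.Agent.Helper13.SpUn

open Module Cfsg.Agent.Helper13.OrthJp Cfsg.Agent.Helper13.Nilp
open scoped Classical

universe u

section norm
variable {F : Type*} [Field F] {V : Type*} [AddCommGroup V] [Module F V]
  {B : LinearMap.BilinForm F V} {X : Module.End F V}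

theorem pow_apply_eq_zero_of_le (X : Module.End F V) {d i : ℕ} (w : V) (hw : (X ^ d) w = 0)
    (hi : d ≤ i) : (X ^ i) w = 0 := by
  have : i = (i - d) + d := by omega
  rw [this, ← pow_add_apply, hw, map_zero]

theorem expand2 (h : SkewNil B X) (v w : V) (a : F) (j i : ℕ) :
    B (v + a • (X ^ j) w) ((X ^ i) (v + a • (X ^ j) w)) =
      B v ((X ^ i) v) + a * (1 + (-1) ^ (i + 1)) * B v ((X ^ (i + j)) w) +
        a ^ 2 * (-1) ^ j * B w ((X ^ (i + j + j)) w) := by
  have e1 : (X ^ i) (v + a • (X ^ j) w) = (X ^ i) v + a • (X ^ (i + j)) w := by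
    rw [map_add, map_smul, pow_add_apply]
  have e2 : B ((X ^ j) w) ((X ^ i) v) = (-1) ^ (i + 1) * B v ((X ^ (i + j)) w) := by
    rw [h.pow_skew, pow_add_apply, h.swap, h.pow_skew, add_comm j i]
    have : ((-1 : F)) ^ j * -((-1) ^ (i + j) * B v ((X ^ (i + j)) w)) =
        (-1) ^ (i + 1) * ((-1) ^ j * (-1) ^ j) * B v ((X ^ (i + j)) w) := by
      rw [pow_add, pow_succ]
      ring
    rw [this, ← mul_pow]
    simp
  have e3 : B ((X ^ j) w) ((X ^ (i + j)) w) = (-1) ^ j * B w ((X ^ (i + j + j)) w) := by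
    rw [h.pow_skew, pow_add_apply, add_comm j (i + j)]
  rw [e1]
  simp only [map_add, map_smul, LinearMap.add_apply, LinearMap.smul_apply, smul_eq_mul]
  rw [e2, e3]
  ring

theorem expand (h : SkewNil B X) (w : V) (a : F) (j i : ℕ) :
    B (w + a • (X ^ j) w) ((X ^ i) (w + a • (X ^ j) w)) =
      B w ((X ^ i) w) + a * (1 + (-1) ^ j) * B w ((X ^ (i + j)) w) +
        a ^ 2 * (-1) ^ j * B w ((X ^ (i + j + j)) w) := by
  have e1 : (X ^ i) (w + a • (X ^ j) w) = (X ^ i) w + a • (X ^ (i + j)) w := by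
    rw [map_add, map_smul, pow_add_apply]
  have e2 : B ((X ^ j) w) ((X ^ i) w) = (-1) ^ j * B w ((X ^ (i + j)) w) := by
    rw [h.pow_skew, pow_add_apply, add_comm j i]
  have e3 : B ((X ^ j) w) ((X ^ (i + j)) w) = (-1) ^ j * B w ((X ^ (i + j + j)) w) := by
    rw [h.pow_skew, pow_add_apply, add_comm j (i + j)]
  rw [e1]
  simp only [map_add, map_smul, LinearMap.add_apply, LinearMap.smul_apply, smul_eq_mul]
  rw [e2, e3]
  ring

/-- normalizing a cyclic vector of even length -/
theorem norm_even (h : SkewNil B X) (h2 : (2 : F) ≠ 0) (d : ℕ) (hd : Even d) (hd1 : 1 ≤ d)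
    (v : V) (hv : (X ^ d) v = 0) (c : F) (hc : c ≠ 0) (hvc : B v ((X ^ (d - 1)) v) = c) :
    ∃ w, (X ^ d) w = 0 ∧ ∀ i, i < d → B w ((X ^ i) w) = if i + 1 = d then c else 0 := by
  have key : ∀ t, t ≤ d - 1 → ∃ w, (X ^ d) w = 0 ∧ B w ((X ^ (d - 1)) w) = c ∧
      ∀ i, d - 1 - t ≤ i → i < d - 1 → B w ((X ^ i) w) = 0 := by
    intro t
    induction t with
    | zero =>
      intro _
      exact ⟨v, hv, hvc, fun i h1 h3 => by omega⟩
    | succ t ih =>
      intro ht
      obtain ⟨w, hw, hwc, hw0⟩ := ih (by omega)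
      set k := d - 1 - (t + 1) with hk
      by_cases hke : Even k
      · refine ⟨w, hw, hwc, fun i h1 h3 => ?_⟩
        by_cases hik : i = k
        · rw [hik]
          exact h.self_pow_even h2 k hke w
        · exact hw0 i (by omega) h3
      · have hko : Odd k := Nat.not_even_iff_odd.1 hke
        set j := t + 1 with hj
        have hjk : k + j = d - 1 := by omega
        have hje : Even j := by
          obtain ⟨a, ha⟩ := hd
          obtain ⟨b, hb⟩ := hko
          exact ⟨a - 1 - b, by omega⟩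
        set a : F := - B w ((X ^ k) w) / (2 * c) with ha
        refine ⟨w + a • (X ^ j) w, ?_, ?_, ?_⟩
        · rw [map_add, map_smul, pow_add_apply, hw,
            pow_apply_eq_zero_of_le X w hw (by omega : d ≤ d + j), smul_zero, add_zero]
        · rw [expand h, pow_apply_eq_zero_of_le X w hw (by omega : d ≤ d - 1 + j),
            pow_apply_eq_zero_of_le X w hw (by omega : d ≤ d - 1 + j + j), hwc]
          simp
        · intro i h1 h3
          rw [expand h, hje.neg_one_pow]
          by_cases hik : i = k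
          · rw [hik, hjk, hwc, pow_apply_eq_zero_of_le X w hw (by omega : d ≤ d - 1 + j), ha]
            simp only [map_zero, mul_zero, add_zero]
            field_simp
            ring
          · rw [pow_apply_eq_zero_of_le X w hw (by omega : d ≤ i + j),
              pow_apply_eq_zero_of_le X w hw (by omega : d ≤ i + j + j),
              hw0 i (by omega) h3]
            simp
  obtain ⟨w, hw, hwc, hw0⟩ := key (d - 1) le_rfl
  refine ⟨w, hw, fun i hi => ?_⟩
  by_cases h1 : i + 1 = d
  · rw [if_pos h1]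
    have : i = d - 1 := by omega
    rw [this, hwc]
  · rw [if_neg h1]
    exact hw0 i (by omega) (by omega)

/-- making a chain isotropic using a dual chain (odd length) -/
theorem iso_gen (h : SkewNil B X) (h2 : (2 : F) ≠ 0) (d : ℕ) (hd : Odd d) (v w : V)
    (hv : (X ^ d) v = 0) (hw : (X ^ d) w = 0) (γ : F) (hγ : γ ≠ 0)
    (hg : B v ((X ^ (d - 1)) w) = γ) :
    ∃ v', (X ^ d) v' = 0 ∧ (∀ i, B v' ((X ^ i) v') = 0) ∧ B v' ((X ^ (d - 1)) w) = γ := by
  have key : ∀ t, t ≤ d → ∃ v', (X ^ d) v' = 0 ∧ B v' ((X ^ (d - 1)) w) = γ ∧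
      ∀ i, d - t ≤ i → B v' ((X ^ i) v') = 0 := by
    intro t
    induction t with
    | zero =>
      intro _
      refine ⟨v, hv, hg, fun i h1 => ?_⟩
      rw [pow_apply_eq_zero_of_le X v hv (by omega), map_zero]
    | succ t ih =>
      intro ht
      obtain ⟨v', hv', hg', h0⟩ := ih (by omega)
      set k := d - (t + 1) with hk
      by_cases hke : Even k
      · refine ⟨v', hv', hg', fun i h1 => ?_⟩
        by_cases hik : i = k
        · rw [hik]
          exact h.self_pow_even h2 k hke v'
        · exact h0 i (by omega)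
      · have hko : Odd k := Nat.not_even_iff_odd.1 hke
        have hkd : k + 2 ≤ d := by
          obtain ⟨a, ha⟩ := hd
          obtain ⟨b, hb⟩ := hko
          omega
        set j := d - 1 - k with hj
        have hj1 : 1 ≤ j := by omega
        have hjk : k + j = d - 1 := by omega
        set a : F := - B v' ((X ^ k) v') / (2 * γ) with ha
        refine ⟨v' + a • (X ^ j) w, ?_, ?_, ?_⟩
        · rw [map_add, map_smul, pow_add_apply, hv',
            pow_apply_eq_zero_of_le X w hw (by omega : d ≤ d + j), smul_zero, add_zero]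
        · rw [map_add, LinearMap.add_apply, hg', map_smul, LinearMap.smul_apply, h.pow_skew,
            pow_add_apply, pow_apply_eq_zero_of_le X w hw (by omega : d ≤ j + (d - 1))]
          simp
        · intro i h1
          rw [expand2 h]
          by_cases hik : i = k
          · have hk1 : Even (k + 1) := by
              obtain ⟨b, hb⟩ := hko
              exact ⟨b + 1, by omega⟩
            rw [hik, hjk, hg', pow_apply_eq_zero_of_le X w hw (by omega : d ≤ d - 1 + j),
              hk1.neg_one_pow, ha]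
            simp only [map_zero, mul_zero, add_zero]
            field_simp
            ring
          · rw [pow_apply_eq_zero_of_le X w hw (by omega : d ≤ i + j),
              pow_apply_eq_zero_of_le X w hw (by omega : d ≤ i + j + j),
              h0 i (by omega)]
            simp
  obtain ⟨v', hv', hg', h0⟩ := key d le_rfl
  exact ⟨v', hv', fun i => h0 i (by omega), hg'⟩

/-- normalizing the pairing between an isotropic chain and a dual chain -/
theorem norm_pairing (h : SkewNil B X) (d : ℕ) (hd1 : 1 ≤ d) (v w : V)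
    (hw : (X ^ d) w = 0) (hww : ∀ i, B w ((X ^ i) w) = 0) (γ : F) (hγ : γ ≠ 0)
    (hg : B v ((X ^ (d - 1)) w) = γ) :
    ∃ w', (X ^ d) w' = 0 ∧ (∀ i, B w' ((X ^ i) w') = 0) ∧
      ∀ i, i < d → B v ((X ^ i) w') = if i + 1 = d then 1 else 0 := by
  have key : ∀ t, t ≤ d - 1 → ∃ w', (X ^ d) w' = 0 ∧ (∀ i, B w' ((X ^ i) w') = 0) ∧
      B v ((X ^ (d - 1)) w') = 1 ∧ ∀ i, d - 1 - t ≤ i → i < d - 1 → B v ((X ^ i) w') = 0 := by
    intro t
    induction t with
    | zero =>
      intro _
      refine ⟨γ⁻¹ • w, ?_, ?_, ?_, fun i h1 h3 => by omega⟩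
      · rw [map_smul, hw, smul_zero]
      · intro i
        simp only [map_smul, LinearMap.smul_apply]
        rw [hww, smul_zero, smul_zero]
      · simp only [map_smul]
        rw [hg, smul_eq_mul, inv_mul_cancel₀ hγ]
    | succ t ih =>
      intro ht
      obtain ⟨w', hw', hww', hg', h0⟩ := ih (by omega)
      set k := d - 1 - (t + 1) with hk
      set j := t + 1 with hj
      have hjk : k + j = d - 1 := by omega
      set a : F := - B v ((X ^ k) w') with ha
      refine ⟨w' + a • (X ^ j) w', ?_, ?_, ?_, ?_⟩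
      · rw [map_add, map_smul, pow_add_apply, hw',
          pow_apply_eq_zero_of_le X w' hw' (by omega : d ≤ d + j), smul_zero, add_zero]
      · intro i
        rw [expand h, hww', hww', hww']
        simp
      · rw [map_add, map_add, hg', map_smul, map_smul, pow_add_apply,
          pow_apply_eq_zero_of_le X w' hw' (by omega : d ≤ d - 1 + j)]
        simp
      · intro i h1 h3
        rw [map_add, map_add, map_smul, map_smul, pow_add_apply]
        by_cases hik : i = k
        · rw [hik, hjk, hg', ha]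
          simp
        · rw [pow_apply_eq_zero_of_le X w' hw' (by omega : d ≤ i + j), h0 i (by omega) h3]
          simp
  obtain ⟨w', hw', hww', hg', h0⟩ := key (d - 1) le_rfl
  refine ⟨w', hw', hww', fun i hi => ?_⟩
  by_cases h1 : i + 1 = d
  · rw [if_pos h1]
    have : i = d - 1 := by omega
    rw [this, hg']
  · rw [if_neg h1]
    exact h0 i (by omega) (by omega)

/-- normalizing a pair of vectors spanning a pair block (odd length) -/
theorem norm_odd (h : SkewNil B X) (h2 : (2 : F) ≠ 0) (d : ℕ) (hd : Odd d) (v w : V)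
    (hv : (X ^ d) v = 0) (hw : (X ^ d) w = 0) (γ : F) (hγ : γ ≠ 0)
    (hg : B v ((X ^ (d - 1)) w) = γ) :
    ∃ v' w', (X ^ d) v' = 0 ∧ (X ^ d) w' = 0 ∧ (∀ i, B v' ((X ^ i) v') = 0) ∧
      (∀ i, B w' ((X ^ i) w') = 0) ∧
      ∀ i, i < d → B v' ((X ^ i) w') = if i + 1 = d then 1 else 0 := by
  have hd1 : 1 ≤ d := by
    obtain ⟨a, ha⟩ := hd
    omega
  have heven : Even (d - 1) := by
    obtain ⟨a, ha⟩ := hd
    exact ⟨a, by omega⟩
  obtain ⟨v', hv', hvv', hg'⟩ := iso_gen h h2 d hd v w hv hw γ hγ hg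
  have hflip : ∀ x y : V, B x ((X ^ (d - 1)) y) = - B y ((X ^ (d - 1)) x) := by
    intro x y
    rw [h.swap, h.pow_skew, heven.neg_one_pow, one_mul]
  have hg2 : B w ((X ^ (d - 1)) v') = -γ := by rw [hflip, hg']
  obtain ⟨w', hw', hww', hg3⟩ := iso_gen h h2 d hd w v' hw hv' (-γ) (neg_ne_zero.2 hγ) hg2
  have hg4 : B v' ((X ^ (d - 1)) w') = γ := by rw [hflip, hg3, neg_neg]
  obtain ⟨w'', hw'', hww'', hfin⟩ := norm_pairing h d hd1 v' w' hw' hww' γ hγ hg4
  exact ⟨v', w'', hv', hw'', hvv', hww'', hfin⟩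

theorem rep0 (h : SkewNil B X) (h2 : (2 : F) ≠ 0) (d : ℕ) (hd : Even d) (hd1 : 1 ≤ d)
    (hne : X ^ (d - 1) ≠ 0) : ∃ v, B v ((X ^ (d - 1)) v) ≠ 0 := by
  by_contra hcon
  push Not at hcon
  apply hne
  apply LinearMap.ext
  intro y
  rw [LinearMap.zero_apply]
  apply h.nd_right
  intro x
  have hodd : Odd (d - 1) := by
    obtain ⟨k, hk⟩ := hd
    exact ⟨k - 1, by omega⟩
  have h1 := hcon (x + y)
  simp only [map_add, LinearMap.add_apply] at h1
  rw [hcon x, hcon y, h.symm_odd (d - 1) hodd y x] at h1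
  have h3 : (2 : F) * B x ((X ^ (d - 1)) y) = 0 := by linear_combination h1
  rcases mul_eq_zero.1 h3 with h4 | h4
  · exact absurd h4 h2
  · exact h4

theorem rep_odd (h : SkewNil B X) (d : ℕ) (hne : X ^ (d - 1) ≠ 0) :
    ∃ v w, B v ((X ^ (d - 1)) w) = 1 := by
  have : ∃ y, (X ^ (d - 1)) y ≠ 0 := by
    by_contra hcon
    push Not at hcon
    apply hne
    apply LinearMap.ext
    intro y
    rw [hcon y, LinearMap.zero_apply]
  obtain ⟨y, hy⟩ := this
  have : ∃ x, B x ((X ^ (d - 1)) y) ≠ 0 := by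
    by_contra hcon
    push Not at hcon
    exact hy (h.nd_right _ hcon)
  obtain ⟨x, hx⟩ := this
  refine ⟨(B x ((X ^ (d - 1)) y))⁻¹ • x, y, ?_⟩
  rw [map_smul, LinearMap.smul_apply, smul_eq_mul, inv_mul_cancel₀ hx]

end norm

section typ
variable {F : Type*} [Field F] {V : Type*} [AddCommGroup V] [Module F V]

theorem HasType.pow_ne_zero {N : Module.End F V} {μ : Multiset ℕ} (h : HasType N μ) (a j : ℕ)
    (ha : a ∈ μ) (hj : j < a) : N ^ j ≠ 0 := by
  intro h0
  have h1 := h.2 j
  rw [h0, LinearMap.range_zero, finrank_bot] at h1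
  have h3 : a - j ≤ (μ.map (fun a => a - j)).sum :=
    Multiset.single_le_sum (fun _ _ => Nat.zero_le _) _ (Multiset.mem_map.2 ⟨a, ha, rfl⟩)
  omega

end typ

end Cfsg.Agent.Helper13.SpUn
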