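import Mathlib
import Cfsg.Agent.Lib.Helper13.SpUn6
import Cfsg.Agent.Lib.Helper13.QuadFinite

set_option autoImplicit false
set_option linter.unusedSectionVars false
set_option linter.unusedVariables false
set_option linter.style.haveILetI false

/-!
# Gauss sums of the blocks; representing one (helper13)
-/

namespace Cfsg.Agent.Helper13.SpUn

open Module Cfsg.Agent.Helper13.OrthJp Cfsg.Agent.Helper13.Nilp
open scoped Classical

universe u

section vals
variable {F : Type*} [Field F] [Fintype F] {R : Type*} [Field R]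
  {V : Type*} [AddCommGroup V] [Module F V]

theorem gs_zero (ψ : AddChar F R) (B : LinearMap.BilinForm F V) (X : Module.End F V) :
    gs ψ B X 0 = 1 := by
  unfold gs
  rw [finsum_eq_single _ (0 : V)]
  · simp
  · intro x hx
    rw [if_neg]
    simpa using hx

theorem card_ne_zero' [CharZero R] (n : ℕ) : ((Fintype.card F : R)) ^ n ≠ 0 := by
  apply pow_ne_zero
  exact_mod_cast Fintype.card_ne_zero

theorem gs_even_block_all (ψ : AddChar F R) (h2 : (2 : F) ≠ 0) (d : ℕ) (hd : Even d)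
    (hd1 : 1 ≤ d) (c : F) (hc : c ≠ 0) (e : ℕ) :
    gs ψ (c • pairB d F) (shiftL d F) e =
      if e = d then (Fintype.card F : R) ^ (d - 1) * qg ψ c else (Fintype.card F : R) ^ (min e d) := by
  by_cases hed : e = d
  · rw [if_pos hed, hed, gs_even_block ψ d hd1 c]
  rw [if_neg hed]
  rcases Nat.eq_zero_or_pos e with h0 | hpos
  · rw [h0, gs_zero, Nat.zero_min, pow_zero]
  rcases Nat.lt_or_ge e d with hlt | hge
  · have := gs_of_homog (skewNil_even d h2 hd hd1 c hc) d 1 e
      (by rw [Multiset.replicate_one]; exact hasType_shiftL d hd1) hpos hlt ψ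
    rw [this, one_mul, Nat.min_eq_left hlt.le]
  · have hlt : d < e := lt_of_le_of_ne hge (Ne.symm hed)
    rw [gs_of_pow_eq_zero ψ _ _ e hpos
      (pow_eq_zero_of_le (by omega : d ≤ e - 1) (shiftL_pow_self d)),
      Nat.card_eq_fintype_card, Fintype.card_fun, Fintype.card_fin, Nat.min_eq_right hge]
    push_cast
    rfl

theorem gs_pair_block_all (ψ : AddChar F R) (d : ℕ) (hd : Odd d) (e : ℕ) (he : Even e) :
    gs ψ (pair2 d F) ((shiftL d F).prodMap (shiftL d F)) e =
      (Fintype.card F : R) ^ (2 * min e d) := by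
  have hd1 : 1 ≤ d := by
    obtain ⟨a, ha⟩ := hd
    omega
  have hed : e ≠ d := by
    rintro rfl
    exact (Nat.not_even_iff_odd.2 hd) he
  rcases Nat.eq_zero_or_pos e with h0 | hpos
  · rw [h0, gs_zero, Nat.zero_min, mul_zero, pow_zero]
  rcases Nat.lt_or_ge e d with hlt | hge
  · have := gs_of_homog (skewNil_pair d hd) d 2 e
      (by
        have : Multiset.replicate 2 d = {d} + {d} := rfl
        rw [this]
        exact hasType_pair d hd1) hpos hlt ψ
    rw [this, Nat.min_eq_left hlt.le]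
  · have hlt : d < e := lt_of_le_of_ne hge (Ne.symm hed)
    have hz : ((shiftL d F).prodMap (shiftL d F)) ^ (e - 1) = 0 := by
      apply LinearMap.ext
      intro p
      rw [prodMap_pow_apply, pow_eq_zero_of_le (by omega : d ≤ e - 1) (shiftL_pow_self d)]
      rfl
    rw [gs_of_pow_eq_zero ψ _ _ e hpos hz, Nat.card_eq_fintype_card, Fintype.card_prod,
      Fintype.card_fun, Fintype.card_fin, Nat.min_eq_right hge]
    push_cast
    ring

end vals

section rep
variable {F : Type u} [Field F] [Fintype F] {V : Type u} [AddCommGroup V] [Module F V]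
  [FiniteDimensional F V] {B : LinearMap.BilinForm F V} {X : Module.End F V}

/-- the embedding of the even block given by a normalized vector, with its properties -/
theorem exists_emb_even (h : SkewNil B X) (h2 : (2 : F) ≠ 0) (d : ℕ) (hd : Even d) (hd1 : 1 ≤ d)
    (hXd : X ^ d = 0) (v : V) (c : F) (hc : c ≠ 0) (hv : B v ((X ^ (d - 1)) v) = c) :
    ∃ (w : V) (ι : (Fin d → F) →ₗ[F] V), (∀ x y, B (ι x) (ι y) = (c • pairB d F) x y) ∧
      (∀ x, ι (shiftL d F x) = X (ι x)) ∧ w ∈ LinearMap.range ι ∧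
      B w ((X ^ (d - 1)) w) = c := by
  obtain ⟨w, hw, hg⟩ := norm_even h h2 d hd hd1 v (by rw [hXd]; rfl) c hc hv
  refine ⟨w, chainMap X w d, fun x y => ?_, chainMap_shift d w hw, ?_, ?_⟩
  · rw [gram_chainMap h d w w hw c hg]
    rfl
  · refine ⟨Pi.single (⟨0, by omega⟩ : Fin d) 1, ?_⟩
    rw [chainMap_single]
    simp
  · rw [hg (d - 1) (by omega), if_pos (by omega)]

theorem exists_emb_pair (h : SkewNil B X) (h2 : (2 : F) ≠ 0) (d : ℕ) (hd : Odd d)
    (hXd : X ^ d = 0) (hne : X ^ (d - 1) ≠ 0) :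
    ∃ ι : ((Fin d → F) × (Fin d → F)) →ₗ[F] V, (∀ p q, B (ι p) (ι q) = pair2 d F p q) ∧
      (∀ p, ι (((shiftL d F).prodMap (shiftL d F)) p) = X (ι p)) := by
  obtain ⟨v, w, hvw⟩ := rep_odd h d hne
  obtain ⟨v', w', hv', hw', hvv, hww, hg⟩ := norm_odd h h2 d hd v w (by rw [hXd]; rfl)
    (by rw [hXd]; rfl) 1 one_ne_zero hvw
  exact emb_pair h d hd v' w' hv' hw' hvv hww hg

/-- if the top part has multiplicity at least two, the top form represents one -/
theorem rep1 (h : SkewNil B X) (h2 : (2 : F) ≠ 0) (d : ℕ) (hd : Even d) (hd1 : 1 ≤ d)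
    (hXd : X ^ d = 0) (μ : Multiset ℕ) (hμ : HasType X μ) (hcount : 2 ≤ μ.count d) :
    ∃ v, B v ((X ^ (d - 1)) v) = 1 := by
  have hdμ : d ∈ μ := Multiset.count_pos.1 (by omega)
  have hne : X ^ (d - 1) ≠ 0 := HasType.pow_ne_zero hμ d (d - 1) hdμ (by omega)
  obtain ⟨v₁, hv₁⟩ := rep0 h h2 d hd hd1 hne
  obtain ⟨w₁, ι, hι, hιX, hw₁, hc₁⟩ := exists_emb_even h h2 d hd hd1 hXd v₁ _ hv₁ rfl
  set c₁ := B v₁ ((X ^ (d - 1)) v₁) with hc₁def
  obtain ⟨P, hP, hsk, hiso, horth⟩ := split h (skewNil_even d h2 hd hd1 c₁ hv₁) ι hι hιX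
  have ht := type_of_prod (hasType_shiftL (F := F) d hd1) (hiso.symm.hasType hμ) hsk.nil
  have hdP : d ∈ μ - {d} := by
    apply Multiset.count_pos.1
    rw [Multiset.count_sub, Multiset.count_singleton_self]
    omega
  have hneP : (X.restrict hP) ^ (d - 1) ≠ 0 := HasType.pow_ne_zero ht.2 d (d - 1) hdP (by omega)
  obtain ⟨v₂, hv₂⟩ := rep0 hsk h2 d hd hd1 hneP
  rw [resB_apply, restrict_pow_apply] at hv₂
  set c₂ := B (v₂ : V) ((X ^ (d - 1)) (v₂ : V)) with hc₂def
  obtain ⟨x, y, hxy⟩ := Cfsg.Agent.Helper13.exists_binary_one h2 c₁ c₂ hv₁ hv₂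
  have hodd : Odd (d - 1) := by
    obtain ⟨k, hk⟩ := hd
    exact ⟨k - 1, by omega⟩
  have hcross : B w₁ ((X ^ (d - 1)) (v₂ : V)) = 0 := by
    obtain ⟨z, rfl⟩ := hw₁
    apply horth
    have := ((X.restrict hP) ^ (d - 1)) v₂
    rw [← restrict_pow_apply X hP]
    exact Submodule.coe_mem _
  refine ⟨x • w₁ + y • (v₂ : V), ?_⟩
  simp only [map_add, map_smul, LinearMap.add_apply, LinearMap.smul_apply, smul_eq_mul]
  rw [h.symm_odd (d - 1) hodd (v₂ : V) w₁, hcross, hc₁, ← hc₂def]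
  linear_combination hxy

end rep

end Cfsg.Agent.Helper13.SpUn
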