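import Mathlib
import Cfsg.Agent.Lib.Helper13.SpUn7

set_option autoImplicit false
set_option linter.unusedSectionVars false
set_option linter.unusedVariables false
set_option linter.style.haveILetI false

/-!
# Uniqueness: type and Gauss-sum invariants determine the isometry class (helper13)
-/

namespace Cfsg.Agent.Helper13.SpUn

open Module Cfsg.Agent.Helper13.OrthJp Cfsg.Agent.Helper13.Nilp
open scoped Classical

universe u

section typ
variable {F : Type*} [Field F] {V : Type*} [AddCommGroup V] [Module F V]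

theorem hasType_le_of_pow_eq_zero {N : Module.End F V} {μ : Multiset ℕ} (h : HasType N μ)
    (d : ℕ) (hd : N ^ d = 0) (a : ℕ) (ha : a ∈ μ) : a ≤ d := by
  by_contra hlt
  push Not at hlt
  exact HasType.pow_ne_zero h a d ha hlt hd

theorem hasType_mem_of_pow_ne_zero [FiniteDimensional F V] {N : Module.End F V}
    {μ : Multiset ℕ} (h : HasType N μ) (d : ℕ) (hd1 : 1 ≤ d) (hd : N ^ d = 0)
    (hne : N ^ (d - 1) ≠ 0) : d ∈ μ := by
  by_contra hnot
  apply hne
  apply h.pow_eq_zero
  intro a ha
  have h1 := hasType_le_of_pow_eq_zero h d hd a ha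
  have h3 : a ≠ d := fun h => hnot (h ▸ ha)
  omega

end typ

section uniq
variable {F : Type u} [Field F] [Fintype F] {R : Type*} [Field R] [CharZero R]

theorem iso_even_of_sq (d : ℕ) (c c' s : F) (hs : s ≠ 0) (h : c' = c * s ^ 2) :
    Iso (c' • pairB d F) (shiftL d F) (c • pairB d F) (shiftL d F) := by
  refine ⟨LinearEquiv.smulOfNeZero F (Fin d → F) s hs, fun x y => ?_, fun x => ?_⟩
  · show (c • pairB d F) (s • x) (s • y) = _
    simp only [map_smul, LinearMap.smul_apply, smul_eq_mul]
    rw [h]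
    ring
  · show s • (shiftL d F x) = shiftL d F (s • x)
    rw [map_smul]

theorem step (ψ : AddChar F R) (n : ℕ)
    (IH : ∀ m < n, ∀ (P P' : Type u) [AddCommGroup P] [Module F P] [FiniteDimensional F P]
      [AddCommGroup P'] [Module F P'] [FiniteDimensional F P']
      (BP : LinearMap.BilinForm F P) (XP : Module.End F P) (BP' : LinearMap.BilinForm F P')
      (XP' : Module.End F P') (ν : Multiset ℕ), finrank F P = m → SkewNil BP XP →
      SkewNil BP' XP' → HasType XP ν → HasType XP' ν →
      (∀ e, Even e → gs ψ BP XP e = gs ψ BP' XP' e) → Iso BP XP BP' XP')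
    {V V' M M' : Type u} [AddCommGroup V] [Module F V] [FiniteDimensional F V]
    [AddCommGroup V'] [Module F V'] [FiniteDimensional F V']
    [AddCommGroup M] [Module F M] [FiniteDimensional F M]
    [AddCommGroup M'] [Module F M'] [FiniteDimensional F M']
    {B : LinearMap.BilinForm F V} {X : Module.End F V}
    {B' : LinearMap.BilinForm F V'} {X' : Module.End F V'}
    {BM : LinearMap.BilinForm F M} {XM : Module.End F M}
    {BM' : LinearMap.BilinForm F M'} {XM' : Module.End F M'}
    (h : SkewNil B X) (h' : SkewNil B' X') (hM : SkewNil BM XM) (hM' : SkewNil BM' XM')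
    (ι : M →ₗ[F] V) (hι : ∀ x y, B (ι x) (ι y) = BM x y) (hιX : ∀ x, ι (XM x) = X (ι x))
    (ι' : M' →ₗ[F] V') (hι' : ∀ x y, B' (ι' x) (ι' y) = BM' x y)
    (hιX' : ∀ x, ι' (XM' x) = X' (ι' x))
    (hMM : Iso BM XM BM' XM') (hpos : 0 < finrank F M) (ν : Multiset ℕ) (hν : HasType XM ν)
    (hgsM : ∀ e, Even e → gs ψ BM XM e ≠ 0) (μ : Multiset ℕ) (hμ : HasType X μ)
    (hμ' : HasType X' μ) (hgs : ∀ e, Even e → gs ψ B X e = gs ψ B' X' e)
    (hn : finrank F V = n) : Iso B X B' X' := by
  haveI : Finite M := Module.finite_of_finite F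
  haveI : Finite M' := Module.finite_of_finite F
  obtain ⟨P, hP, hsk, hiso, -⟩ := split h hM ι hι hιX
  obtain ⟨P', hP', hsk', hiso', -⟩ := split h' hM' ι' hι' hιX'
  haveI : Finite P := Module.finite_of_finite F
  haveI : Finite P' := Module.finite_of_finite F
  have ht := type_of_prod hν (hiso.symm.hasType hμ) hsk.nil
  have ht' := type_of_prod (hMM.hasType hν) (hiso'.symm.hasType hμ') hsk'.nil
  have hfin : finrank F M + finrank F P = n := by
    rw [← hn, ← hiso.finrank_eq, finrank_prod]
  have hgsP : ∀ e, Even e → gs ψ (resB B P) (X.restrict hP) e =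
      gs ψ (resB B' P') (X'.restrict hP') e := by
    intro e he
    have h1 := hiso.gs_eq ψ e
    have h3 := hiso'.gs_eq ψ e
    rw [gs_prod] at h1 h3
    have h4 := hgs e he
    rw [← h1, ← h3, ← hMM.gs_eq ψ e] at h4
    exact mul_left_cancel₀ (hgsM e he) h4
  have hPP := IH (finrank F P) (by omega) P P' _ _ _ _ (μ - ν) rfl hsk hsk' ht.2 ht'.2 hgsP
  exact hiso.symm.trans ((hMM.prod hPP).trans hiso')

/-- the top Gauss sum when the top part has multiplicity one -/
theorem gs_top_of_count_one (ψ : AddChar F R) (h2 : (2 : F) ≠ 0) {V : Type u} [AddCommGroup V]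
    [Module F V] [FiniteDimensional F V] {B : LinearMap.BilinForm F V} {X : Module.End F V}
    (h : SkewNil B X) (d : ℕ) (hd : Even d) (hd1 : 1 ≤ d) (c : F) (hc : c ≠ 0)
    (μ : Multiset ℕ) (hμ : HasType X μ) (hmax : ∀ a ∈ μ, a ≤ d) (hcount : μ.count d = 1)
    (ι : (Fin d → F) →ₗ[F] V) (hι : ∀ x y, B (ι x) (ι y) = (c • pairB d F) x y)
    (hιX : ∀ x, ι (shiftL d F x) = X (ι x)) (n : ℕ) (hn : finrank F V = n) :
    gs ψ B X d = (Fintype.card F : R) ^ (d - 1) * qg ψ c * (Fintype.card F : R) ^ (n - d) := by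
  have hM := skewNil_even d h2 hd hd1 c hc
  obtain ⟨P, hP, hsk, hiso, -⟩ := split h hM ι hι hιX
  haveI : Finite P := Module.finite_of_finite F
  have ht := type_of_prod (hasType_shiftL (F := F) d hd1) (hiso.symm.hasType hμ) hsk.nil
  have hfin : d + finrank F P = n := by
    rw [← hn, ← hiso.finrank_eq, finrank_prod, finrank_fin_fun]
  have hz : (X.restrict hP) ^ (d - 1) = 0 := by
    apply ht.2.pow_eq_zero
    intro a ha
    have h1 : a ∈ μ := Multiset.mem_of_le (Multiset.sub_le_self _ _) ha
    have h3 : a ≠ d := by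
      rintro rfl
      have := Multiset.count_pos.2 ha
      rw [Multiset.count_sub, Multiset.count_singleton_self, hcount] at this
      omega
    have := hmax a h1
    omega
  rw [← hiso.gs_eq ψ d, gs_prod, gs_even_block ψ d hd1 c, gs_of_pow_eq_zero ψ _ _ d hd1 hz,
    Module.natCard_eq_pow_finrank (K := F), Nat.card_eq_fintype_card]
  have : finrank F P = n - d := by omega
  rw [this]
  push_cast
  rfl

theorem uniq (h2 : (2 : F) ≠ 0) (ψ : AddChar F R) (hψ : ψ.IsPrimitive) :
    ∀ (n : ℕ) (V V' : Type u) [AddCommGroup V] [Module F V] [FiniteDimensional F V]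
      [AddCommGroup V'] [Module F V'] [FiniteDimensional F V']
      (B : LinearMap.BilinForm F V) (X : Module.End F V) (B' : LinearMap.BilinForm F V')
      (X' : Module.End F V') (μ : Multiset ℕ), finrank F V = n → SkewNil B X →
      SkewNil B' X' → HasType X μ → HasType X' μ →
      (∀ e, Even e → gs ψ B X e = gs ψ B' X' e) → Iso B X B' X' := by
  intro n
  induction n using Nat.strong_induction_on with
  | _ n IH =>
  intro V V' _ _ _ _ _ _ B X B' X' μ hn h h' hμ hμ' hgs
  have hn' : finrank F V' = n := by rw [← hμ'.sum, hμ.sum, hn]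
  rcases Nat.eq_zero_or_pos n with h0 | hpos
  · haveI : Subsingleton V := Module.finrank_zero_iff.1 (hn.trans h0)
    haveI : Subsingleton V' := Module.finrank_zero_iff.1 (hn'.trans h0)
    refine ⟨LinearEquiv.ofSubsingleton V V', fun x y => ?_, fun x => Subsingleton.elim _ _⟩
    rw [Subsingleton.elim x 0]
    simp
  -- the nilpotency index
  set d := Nat.find h.nil with hd
  have hXd : X ^ d = 0 := Nat.find_spec h.nil
  have hd1 : 1 ≤ d := by
    by_contra hlt
    have hd0 : d = 0 := by omega
    rw [hd0, pow_zero] at hXd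
    have : Subsingleton V := by
      constructor
      intro a b
      have ha : a = (1 : Module.End F V) a := rfl
      have hb : b = (1 : Module.End F V) b := rfl
      rw [ha, hb, hXd]
      rfl
    have := (Module.finrank_zero_iff (R := F) (M := V)).2 this
    omega
  have hne : X ^ (d - 1) ≠ 0 := Nat.find_min h.nil (by omega : d - 1 < d)
  have hmax : ∀ a ∈ μ, a ≤ d := hasType_le_of_pow_eq_zero hμ d hXd
  have hdμ : d ∈ μ := hasType_mem_of_pow_ne_zero hμ d hd1 hXd hne
  have hXd' : X' ^ d = 0 := hμ'.pow_eq_zero d hmax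
  have hne' : X' ^ (d - 1) ≠ 0 := HasType.pow_ne_zero hμ' d (d - 1) hdμ (by omega)
  have hq : ∀ k : ℕ, ((Fintype.card F : R)) ^ k ≠ 0 := card_ne_zero'
  rcases Nat.even_or_odd d with hde | hdo
  · -- even top part
    have hgsM : ∀ c : F, c ≠ 0 → ∀ e, Even e → gs ψ (c • pairB d F) (shiftL d F) e ≠ 0 := by
      intro c hc e he
      rw [gs_even_block_all ψ h2 d hde hd1 c hc e]
      by_cases hed : e = d
      · rw [if_pos hed]
        exact mul_ne_zero (hq _) (qg_ne_zero ψ hψ h2 c hc)
      · rw [if_neg hed]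
        exact hq _
    have hposM : 0 < finrank F (Fin d → F) := by
      rw [finrank_fin_fun]
      omega
    by_cases hc2 : 2 ≤ μ.count d
    · obtain ⟨v, hv⟩ := rep1 h h2 d hde hd1 hXd μ hμ hc2
      obtain ⟨v', hv'⟩ := rep1 h' h2 d hde hd1 hXd' μ hμ' hc2
      obtain ⟨-, ι, hι, hιX, -, -⟩ := exists_emb_even h h2 d hde hd1 hXd v 1 one_ne_zero hv
      obtain ⟨-, ι', hι', hιX', -, -⟩ :=
        exists_emb_even h' h2 d hde hd1 hXd' v' 1 one_ne_zero hv'
      have hM := skewNil_even d h2 hde hd1 (1 : F) one_ne_zero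
      exact step ψ n IH h h' hM hM ι hι hιX ι' hι' hιX' (Iso.refl _ _) hposM {d}
        (hasType_shiftL d hd1) (hgsM 1 one_ne_zero) μ hμ hμ' hgs hn
    · have hc1 : μ.count d = 1 := by
        have := Multiset.count_pos.2 hdμ
        omega
      obtain ⟨v, hv⟩ := rep0 h h2 d hde hd1 hne
      obtain ⟨v', hv'⟩ := rep0 h' h2 d hde hd1 hne'
      obtain ⟨-, ι, hι, hιX, -, -⟩ := exists_emb_even h h2 d hde hd1 hXd v _ hv rfl
      obtain ⟨-, ι', hι', hιX', -, -⟩ := exists_emb_even h' h2 d hde hd1 hXd' v' _ hv' rfl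
      set c := B v ((X ^ (d - 1)) v) with hcdef
      set c' := B' v' ((X' ^ (d - 1)) v') with hcdef'
      have e1 := gs_top_of_count_one ψ h2 h d hde hd1 c hv μ hμ hmax hc1 ι hι hιX n hn
      have e2 := gs_top_of_count_one ψ h2 h' d hde hd1 c' hv' μ hμ' hmax hc1 ι' hι' hιX' n hn'
      have e3 := hgs d hde
      rw [e1, e2] at e3
      have e4 : qg ψ c = qg ψ c' := by
        have := mul_right_cancel₀ (hq _) e3
        exact mul_left_cancel₀ (hq _) this
      have hsq : IsSquare (c' / c) := (qg_eq_iff ψ hψ h2 c c' hv hv').1 e4.symm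
      obtain ⟨s, hs⟩ := hsq
      have hs0 : s ≠ 0 := by
        rintro rfl
        rw [mul_zero] at hs
        exact (div_ne_zero hv' hv) hs
      have hcc : c' = c * s ^ 2 := by
        field_simp at hs
        rw [hs]
      have hM := skewNil_even d h2 hde hd1 c hv
      have hM' := skewNil_even d h2 hde hd1 c' hv'
      exact step ψ n IH h h' hM hM' ι hι hιX ι' hι' hιX' (iso_even_of_sq d c c' s hs0 hcc).symm
        hposM {d} (hasType_shiftL d hd1) (hgsM c hv) μ hμ hμ' hgs hn
  · -- odd top part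
    obtain ⟨ι, hι, hιX⟩ := exists_emb_pair h h2 d hdo hXd hne
    obtain ⟨ι', hι', hιX'⟩ := exists_emb_pair h' h2 d hdo hXd' hne'
    have hM := skewNil_pair (F := F) d hdo
    have hposM : 0 < finrank F ((Fin d → F) × (Fin d → F)) := by
      rw [finrank_prod, finrank_fin_fun]
      omega
    have hgsM : ∀ e, Even e → gs ψ (pair2 d F) ((shiftL d F).prodMap (shiftL d F)) e ≠ 0 := by
      intro e he
      rw [gs_pair_block_all ψ d hdo e he]
      exact hq _
    exact step ψ n IH h h' hM hM ι hι hιX ι' hι' hιX' (Iso.refl _ _) hposM ({d} + {d})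
      (hasType_pair d hd1) hgsM μ hμ hμ' hgs hn

end uniq

end Cfsg.Agent.Helper13.SpUn
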