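import Mathlib
import Cfsg.Agent.Lib.Helper13.SpUn8

set_option autoImplicit false
set_option linter.unusedSectionVars false
set_option linter.unusedVariables false
set_option linter.style.haveILetI false

/-!
# The possible values of the Gauss-sum invariants (helper13)
-/

namespace Cfsg.Agent.Helper13.SpUn

open Module Cfsg.Agent.Helper13.OrthJp Cfsg.Agent.Helper13.Nilp
open scoped Classical

universe u

section nval
variable {F : Type u} [Field F] [Fintype F] {R : Type*} [Field R]

/-- the normalized value of the `e`-th Gauss sum on a block of size `a` -/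
noncomputable def nval (ψ : AddChar F R) (e a : ℕ) : R :=
  if a = e then (Fintype.card F : R) ^ (e - 1) * qg ψ 1 else (Fintype.card F : R) ^ (min e a)

/-- the normalized value of the `e`-th Gauss sum for a type -/
noncomputable def Nval (ψ : AddChar F R) (e : ℕ) (μ : Multiset ℕ) : R :=
  (μ.map (nval ψ e)).prod

theorem Nval_zero (ψ : AddChar F R) (e : ℕ) : Nval ψ e 0 = 1 := by
  simp [Nval]

theorem Nval_add (ψ : AddChar F R) (e : ℕ) (μ ν : Multiset ℕ) :
    Nval ψ e (μ + ν) = Nval ψ e μ * Nval ψ e ν := by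
  simp [Nval, Multiset.map_add, Multiset.prod_add]

theorem Nval_singleton (ψ : AddChar F R) (e a : ℕ) : Nval ψ e {a} = nval ψ e a := by
  simp [Nval]

theorem nval_ne_zero [CharZero R] (ψ : AddChar F R) (hψ : ψ.IsPrimitive) (h2 : (2 : F) ≠ 0)
    (e a : ℕ) : nval ψ e a ≠ 0 := by
  unfold nval
  split_ifs
  · exact mul_ne_zero (card_ne_zero' _) (qg_ne_zero ψ hψ h2 1 one_ne_zero)
  · exact card_ne_zero' _

theorem Nval_ne_zero [CharZero R] (ψ : AddChar F R) (hψ : ψ.IsPrimitive) (h2 : (2 : F) ≠ 0)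
    (e : ℕ) (μ : Multiset ℕ) : Nval ψ e μ ≠ 0 := by
  unfold Nval
  apply Multiset.prod_ne_zero
  intro h0
  obtain ⟨a, -, ha⟩ := Multiset.mem_map.1 h0
  exact nval_ne_zero ψ hψ h2 e a ha

end nval

section block
variable {F : Type u} [Field F] [Fintype F]
  {V : Type u} [AddCommGroup V] [Module F V] [FiniteDimensional F V]
  {B : LinearMap.BilinForm F V} {X : Module.End F V}

/-- every nonzero space contains an embedded block of top size -/
theorem exists_block (h2 : (2 : F) ≠ 0) (h : SkewNil B X) (μ : Multiset ℕ) (hμ : HasType X μ)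
    (hpos : 0 < finrank F V) :
    ∃ d, 1 ≤ d ∧ d ∈ μ ∧
      ((Even d ∧ ∃ c : F, c ≠ 0 ∧ ∃ ι : (Fin d → F) →ₗ[F] V,
          (∀ x y, B (ι x) (ι y) = (c • pairB d F) x y) ∧ ∀ x, ι (shiftL d F x) = X (ι x)) ∨
        (Odd d ∧ 2 ≤ μ.count d ∧ ∃ ι : ((Fin d → F) × (Fin d → F)) →ₗ[F] V,
          (∀ p q, B (ι p) (ι q) = pair2 d F p q) ∧
            ∀ p, ι (((shiftL d F).prodMap (shiftL d F)) p) = X (ι p))) := by
  set d := Nat.find h.nil with hd
  have hXd : X ^ d = 0 := Nat.find_spec h.nil
  have hd1 : 1 ≤ d := by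
    by_contra hlt
    have hd0 : d = 0 := by omega
    rw [hd0, pow_zero] at hXd
    have : Subsingleton V := by
      constructor
      intro a b
      have ha : a = (1 : Module.End F V) a := rfl
      have hb : b = (1 : Module.End F V) b := rfl
      rw [ha, hb, hXd]
      rfl
    have := (Module.finrank_zero_iff (R := F) (M := V)).2 this
    omega
  have hne : X ^ (d - 1) ≠ 0 := Nat.find_min h.nil (by omega : d - 1 < d)
  have hdμ : d ∈ μ := hasType_mem_of_pow_ne_zero hμ d hd1 hXd hne
  refine ⟨d, hd1, hdμ, ?_⟩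
  rcases Nat.even_or_odd d with hde | hdo
  · left
    obtain ⟨v, hv⟩ := rep0 h h2 d hde hd1 hne
    obtain ⟨-, ι, hι, hιX, -, -⟩ := exists_emb_even h h2 d hde hd1 hXd v _ hv rfl
    exact ⟨hde, _, hv, ι, hι, hιX⟩
  · right
    obtain ⟨ι, hι, hιX⟩ := exists_emb_pair h h2 d hdo hXd hne
    refine ⟨hdo, ?_, ι, hι, hιX⟩
    -- the pair block has type {d} + {d} ≤ μ
    obtain ⟨P, hP, hsk, hiso, -⟩ := split h (skewNil_pair (F := F) d hdo) ι hι hιX
    have ht := type_of_prod (hasType_pair (F := F) d hd1) (hiso.symm.hasType hμ) hsk.nil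
    have := Multiset.count_le_of_le d ht.1
    rw [Multiset.count_add, Multiset.count_singleton_self] at this
    exact this

end block

section range
variable {F : Type u} [Field F] [Fintype F] {R : Type*} [Field R] [CharZero R]

theorem nval_even_block (ψ : AddChar F R) (hψ : ψ.IsPrimitive) (h2 : (2 : F) ≠ 0) (d : ℕ)
    (hd : Even d) (hd1 : 1 ≤ d) (c : F) (hc : c ≠ 0) (e : ℕ) :
    gs ψ (c • pairB d F) (shiftL d F) e = nval ψ e d ∨
      (e = d ∧ gs ψ (c • pairB d F) (shiftL d F) e = - nval ψ e d) := by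
  rw [gs_even_block_all ψ h2 d hd hd1 c hc e]
  unfold nval
  by_cases hed : e = d
  · rw [if_pos hed, if_pos hed.symm, hed]
    rcases qg_eq_or ψ hψ h2 c hc with h | h
    · left
      rw [h]
    · right
      refine ⟨rfl, ?_⟩
      rw [h]
      ring
  · left
    rw [if_neg hed, if_neg (Ne.symm hed)]

theorem range_gs (h2 : (2 : F) ≠ 0) (ψ : AddChar F R) (hψ : ψ.IsPrimitive) :
    ∀ (n : ℕ) (V : Type u) [AddCommGroup V] [Module F V] [FiniteDimensional F V]
      (B : LinearMap.BilinForm F V) (X : Module.End F V) (μ : Multiset ℕ), finrank F V = n →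
      SkewNil B X → HasType X μ → ∀ e, Even e →
      gs ψ B X e = Nval ψ e μ ∨ (e ∈ μ ∧ gs ψ B X e = - Nval ψ e μ) := by
  intro n
  induction n using Nat.strong_induction_on with
  | _ n IH =>
  intro V _ _ _ B X μ hn h hμ e he
  rcases Nat.eq_zero_or_pos n with h0 | hpos
  · haveI : Subsingleton V := Module.finrank_zero_iff.1 (hn.trans h0)
    have hμ0 : μ = 0 := by
      have hs := hμ.sum
      rw [hn, h0] at hs
      by_contra hne
      obtain ⟨a, ha⟩ := Multiset.exists_mem_of_ne_zero hne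
      have h1 := hμ.1 a ha
      have h3 := Multiset.single_le_sum (fun _ _ => Nat.zero_le _) a ha
      omega
    left
    rw [hμ0, Nval_zero]
    unfold gs
    rw [finsum_eq_single _ (0 : V)]
    · simp
    · intro x hx
      exact absurd (Subsingleton.elim x 0) hx
  -- general step: split a block
  have key : ∀ (M : Type u) [AddCommGroup M] [Module F M] [FiniteDimensional F M]
      (BM : LinearMap.BilinForm F M) (XM : Module.End F M) (hM : SkewNil BM XM)
      (ι : M →ₗ[F] V) (hι : ∀ x y, B (ι x) (ι y) = BM x y) (hιX : ∀ x, ι (XM x) = X (ι x))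
      (ν : Multiset ℕ) (hν : HasType XM ν) (hpos : 0 < finrank F M)
      (hval : gs ψ BM XM e = Nval ψ e ν ∨ (e ∈ ν ∧ gs ψ BM XM e = - Nval ψ e ν)),
      gs ψ B X e = Nval ψ e μ ∨ (e ∈ μ ∧ gs ψ B X e = - Nval ψ e μ) := by
    intro M _ _ _ BM XM hM ι hι hιX ν hν hposM hval
    haveI : Finite M := Module.finite_of_finite F
    obtain ⟨P, hP, hsk, hiso, -⟩ := split h hM ι hι hιX
    haveI : Finite P := Module.finite_of_finite F
    have ht := type_of_prod hν (hiso.symm.hasType hμ) hsk.nil
    have hfin : finrank F M + finrank F P = n := by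
      rw [← hn, ← hiso.finrank_eq, finrank_prod]
    have hP' := IH (finrank F P) (by omega) P (resB B P) (X.restrict hP) (μ - ν) rfl hsk ht.2 e he
    have hμeq : μ = ν + (μ - ν) := (add_tsub_cancel_of_le ht.1).symm
    have hg : gs ψ B X e = gs ψ BM XM e * gs ψ (resB B P) (X.restrict hP) e := by
      rw [← hiso.gs_eq ψ e, gs_prod]
    have hN : Nval ψ e μ = Nval ψ e ν * Nval ψ e (μ - ν) := by
      rw [← Nval_add, ← hμeq]
    have hsub : ∀ a, a ∈ μ - ν → a ∈ μ := fun a ha =>
      Multiset.mem_of_le (Multiset.sub_le_self _ _) ha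
    have hsub' : ∀ a, a ∈ ν → a ∈ μ := fun a ha => Multiset.mem_of_le ht.1 ha
    rcases hval with h1 | ⟨h1m, h1⟩ <;> rcases hP' with h3 | ⟨h3m, h3⟩
    · left
      rw [hg, hN, h1, h3]
    · right
      refine ⟨hsub e h3m, ?_⟩
      rw [hg, hN, h1, h3]
      ring
    · right
      refine ⟨hsub' e h1m, ?_⟩
      rw [hg, hN, h1, h3]
      ring
    · left
      rw [hg, hN, h1, h3]
      ring
  obtain ⟨d, hd1, hdμ, hcase⟩ := exists_block h2 h μ hμ (by omega)
  rcases hcase with ⟨hde, c, hc, ι, hι, hιX⟩ | ⟨hdo, -, ι, hι, hιX⟩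
  · refine key (Fin d → F) (c • pairB d F) (shiftL d F) (skewNil_even d h2 hde hd1 c hc) ι hι hιX
      {d} (hasType_shiftL d hd1) (by rw [finrank_fin_fun]; omega) ?_
    rw [Nval_singleton]
    rcases nval_even_block ψ hψ h2 d hde hd1 c hc e with h1 | ⟨h1, h3⟩
    · left
      exact h1
    · right
      exact ⟨by rw [h1]; exact Multiset.mem_singleton_self d, h3⟩
  · refine key ((Fin d → F) × (Fin d → F)) (pair2 d F) ((shiftL d F).prodMap (shiftL d F))
      (skewNil_pair d hdo) ι hι hιX ({d} + {d}) (hasType_pair d hd1)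
      (by rw [finrank_prod, finrank_fin_fun]; omega) ?_
    left
    rw [gs_pair_block_all ψ d hdo e he, Nval_add, Nval_singleton]
    unfold nval
    have hed : d ≠ e := by
      rintro rfl
      exact (Nat.not_even_iff_odd.2 hdo) he
    rw [if_neg hed, ← pow_add]
    congr 1
    ring

end range

end Cfsg.Agent.Helper13.SpUn
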