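import Mathlib
import Cfsg.Agent.Lib.Helper13.SpUn9

set_option autoImplicit false
set_option linter.unusedSectionVars false
set_option linter.unusedVariables false
set_option linter.style.haveILetI false

/-!
# Existence of all signed types (helper13)
-/

namespace Cfsg.Agent.Helper13.SpUn

open Module Cfsg.Agent.Helper13.OrthJp Cfsg.Agent.Helper13.Nilp
open scoped Classical

universe u

section exist
variable {F : Type u} [Field F] [Fintype F] {R : Type*} [Field R] [CharZero R]

theorem skewNil_punit : SkewNil (0 : LinearMap.BilinForm F PUnit.{u+1}) (0 : Module.End F PUnit.{u+1}) := by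
  refine ⟨fun x => rfl, fun x _ => Subsingleton.elim _ _, fun x y => by simp, ⟨1, by simp⟩⟩

theorem hasType_punit : HasType (0 : Module.End F PUnit.{u+1}) (0 : Multiset ℕ) := by
  refine ⟨by simp, fun j => ?_⟩
  rw [Multiset.map_zero, Multiset.sum_zero]
  exact finrank_zero_of_subsingleton

theorem gs_punit (ψ : AddChar F R) (e : ℕ) :
    gs ψ (0 : LinearMap.BilinForm F PUnit.{u+1}) (0 : Module.End F PUnit.{u+1}) e = 1 := by
  unfold gs
  rw [finsum_eq_single _ (0 : PUnit.{u+1})]
  · simp
  · intro x hx
    exact absurd (Subsingleton.elim x 0) hx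

/-- the statement of existence for a signed type -/
def HasModel (ψ : AddChar F R) (μ : Multiset ℕ) (S : Finset ℕ) : Prop :=
  ∃ (V : Type u) (_ : AddCommGroup V) (_ : Module F V) (_ : FiniteDimensional F V)
    (B : LinearMap.BilinForm F V) (X : Module.End F V), SkewNil B X ∧ HasType X μ ∧
      ∀ e, Even e → gs ψ B X e = (if e ∈ S then -1 else 1) * Nval ψ e μ

theorem hasModel_zero (ψ : AddChar F R) : HasModel ψ (0 : Multiset ℕ) ∅ := by
  refine ⟨PUnit.{u+1}, inferInstance, inferInstance, inferInstance, 0, 0, skewNil_punit,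
    hasType_punit, fun e _ => ?_⟩
  rw [gs_punit, Nval_zero]
  simp

/-- adding a block to a model -/
theorem hasModel_add (ψ : AddChar F R) {M : Type u} [AddCommGroup M] [Module F M]
    [FiniteDimensional F M] (BM : LinearMap.BilinForm F M) (XM : Module.End F M)
    (hM : SkewNil BM XM) (ν : Multiset ℕ) (hν : HasType XM ν) (μ' : Multiset ℕ)
    (S' S : Finset ℕ) (hmod : HasModel ψ μ' S')
    (hval : ∀ e, Even e → gs ψ BM XM e * ((if e ∈ S' then -1 else 1) * Nval ψ e μ') =
      (if e ∈ S then -1 else 1) * Nval ψ e (ν + μ')) :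
    HasModel ψ (ν + μ') S := by
  obtain ⟨V', i1, i2, i3, B', X', hsk', ht', hgs'⟩ := hmod
  haveI : Finite M := Module.finite_of_finite F
  haveI : Finite V' := Module.finite_of_finite F
  refine ⟨M × V', inferInstance, inferInstance, inferInstance, prodB BM B', XM.prodMap X',
    hM.prod hsk', HasType.prodMap hν ht', fun e he => ?_⟩
  rw [gs_prod, hgs' e he, hval e he]

theorem exists_model (h2 : (2 : F) ≠ 0) (ψ : AddChar F R) (hψ : ψ.IsPrimitive) :
    ∀ (k : ℕ) (μ : Multiset ℕ) (S : Finset ℕ), μ.card = k → (∀ a ∈ μ, 0 < a) →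
      (∀ j, Odd j → Even (μ.count j)) → (∀ e ∈ S, Even e ∧ e ∈ μ) → HasModel ψ μ S := by
  intro k
  induction k using Nat.strong_induction_on with
  | _ k IH =>
  intro μ S hk hpos hpar hS
  by_cases hμ0 : μ = 0
  · subst hμ0
    have hS0 : S = ∅ := by
      apply Finset.eq_empty_of_forall_notMem
      intro e he
      exact absurd (hS e he).2 (Multiset.notMem_zero e)
    rw [hS0]
    exact hasModel_zero ψ
  obtain ⟨a, ha⟩ := Multiset.exists_mem_of_ne_zero hμ0
  have ha1 : 1 ≤ a := hpos a ha
  rcases Nat.even_or_odd a with hae | hao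
  · -- an even part
    set μ' := μ.erase a with hμ'
    have hμeq : μ = {a} + μ' := by
      rw [Multiset.singleton_add, Multiset.cons_erase ha]
    have hcard : μ'.card < k := by
      rw [← hk]
      exact Multiset.card_erase_lt_of_mem ha
    have hpos' : ∀ b ∈ μ', 0 < b := fun b hb => hpos b (Multiset.mem_of_mem_erase hb)
    have hpar' : ∀ j, Odd j → Even (μ'.count j) := by
      intro j hj
      have hja : j ≠ a := by
        rintro rfl
        exact (Nat.not_even_iff_odd.2 hj) hae
      rw [hμ', Multiset.count_erase_of_ne hja]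
      exact hpar j hj
    by_cases ha' : a ∈ μ'
    · have hS' : ∀ e ∈ S, Even e ∧ e ∈ μ' := by
        intro e he
        refine ⟨(hS e he).1, ?_⟩
        by_cases hea : e = a
        · rw [hea]
          exact ha'
        · exact (Multiset.mem_erase_of_ne hea).2 (hS e he).2
      have hmod := IH μ'.card hcard μ' S rfl hpos' hpar' hS'
      rw [hμeq]
      refine hasModel_add ψ ((1 : F) • pairB a F) (shiftL a F)
        (skewNil_even a h2 hae ha1 1 one_ne_zero) {a} (hasType_shiftL a ha1) μ' S S hmod ?_
      intro e he
      rw [Nval_add, Nval_singleton, gs_even_block_all ψ h2 a hae ha1 1 one_ne_zero e]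
      unfold nval
      by_cases hea : e = a
      · rw [if_pos hea, if_pos hea.symm, hea]
        ring
      · rw [if_neg hea, if_neg (Ne.symm hea)]
        ring
    · obtain ⟨α, hα⟩ := FiniteField.exists_nonsquare (F := F) (ringChar_ne_two h2)
      have hα0 : α ≠ 0 := by
        rintro rfl
        exact hα ⟨0, by simp⟩
      set c : F := if a ∈ S then α else 1 with hc
      have hc0 : c ≠ 0 := by
        rw [hc]
        split_ifs
        · exact hα0
        · exact one_ne_zero
      have hS' : ∀ e ∈ S.erase a, Even e ∧ e ∈ μ' := by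
        intro e he
        have he1 := Finset.mem_erase.1 he
        exact ⟨(hS e he1.2).1, (Multiset.mem_erase_of_ne he1.1).2 (hS e he1.2).2⟩
      have hmod := IH μ'.card hcard μ' (S.erase a) rfl hpos' hpar' hS'
      rw [hμeq]
      refine hasModel_add ψ (c • pairB a F) (shiftL a F)
        (skewNil_even a h2 hae ha1 c hc0) {a} (hasType_shiftL a ha1) μ' (S.erase a) S hmod ?_
      intro e he
      rw [Nval_add, Nval_singleton, gs_even_block_all ψ h2 a hae ha1 c hc0 e]
      unfold nval
      by_cases hea : e = a
      · rw [if_pos hea, if_pos hea.symm, hea, if_neg (Finset.notMem_erase a S)]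
        by_cases haS : a ∈ S
        · rw [if_pos haS]
          have hcα : c = α := by rw [hc, if_pos haS]
          have hq := qg_add_of_not_isSquare ψ hψ h2 1 α one_ne_zero hα0 (by rwa [div_one])
          have hq' : qg ψ α = - qg ψ 1 := by linear_combination hq
          rw [hcα, hq']
          ring
        · rw [if_neg haS]
          have hc1 : c = 1 := by rw [hc, if_neg haS]
          rw [hc1]
          ring
      · rw [if_neg hea, if_neg (Ne.symm hea)]
        by_cases heS : e ∈ S
        · rw [if_pos heS, if_pos (Finset.mem_erase.2 ⟨hea, heS⟩)]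
          ring
        · rw [if_neg heS, if_neg (fun h => heS (Finset.mem_erase.1 h).2)]
          ring
  · -- an odd part: it occurs at least twice
    have hc2 : 2 ≤ μ.count a := by
      obtain ⟨r, hr⟩ := hpar a hao
      have := Multiset.count_pos.2 ha
      omega
    set μ₁ := μ.erase a with hμ₁
    have ha₁ : a ∈ μ₁ := by
      apply Multiset.count_pos.1
      rw [hμ₁, Multiset.count_erase_self]
      omega
    set μ' := μ₁.erase a with hμ'
    have hμeq : μ = ({a} + {a}) + μ' := by
      rw [add_assoc, Multiset.singleton_add, Multiset.singleton_add, Multiset.cons_erase ha₁,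
        Multiset.cons_erase ha]
    have hcard : μ'.card < k := by
      rw [← hk]
      exact lt_trans (Multiset.card_erase_lt_of_mem ha₁) (Multiset.card_erase_lt_of_mem ha)
    have hpos' : ∀ b ∈ μ', 0 < b := fun b hb =>
      hpos b (Multiset.mem_of_mem_erase (Multiset.mem_of_mem_erase hb))
    have hpar' : ∀ j, Odd j → Even (μ'.count j) := by
      intro j hj
      by_cases hja : j = a
      · rw [hja, hμ', Multiset.count_erase_self, hμ₁, Multiset.count_erase_self]
        obtain ⟨r, hr⟩ := hpar a hao
        exact ⟨r - 1, by omega⟩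
      · rw [hμ', Multiset.count_erase_of_ne hja, hμ₁, Multiset.count_erase_of_ne hja]
        exact hpar j hj
    have hS' : ∀ e ∈ S, Even e ∧ e ∈ μ' := by
      intro e he
      have hea : e ≠ a := by
        rintro rfl
        exact (Nat.not_even_iff_odd.2 hao) (hS e he).1
      exact ⟨(hS e he).1, (Multiset.mem_erase_of_ne hea).2
        ((Multiset.mem_erase_of_ne hea).2 (hS e he).2)⟩
    have hmod := IH μ'.card hcard μ' S rfl hpos' hpar' hS'
    rw [hμeq]
    refine hasModel_add ψ (pair2 a F) ((shiftL a F).prodMap (shiftL a F))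
      (skewNil_pair a hao) ({a} + {a}) (hasType_pair a ha1) μ' S S hmod ?_
    intro e he
    have hea : a ≠ e := by
      rintro rfl
      exact (Nat.not_even_iff_odd.2 hao) he
    rw [Nval_add, Nval_add, Nval_singleton, gs_pair_block_all ψ a hao e he]
    unfold nval
    rw [if_neg hea, two_mul, pow_add]
    ring

end exist

end Cfsg.Agent.Helper13.SpUn
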