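import Mathlib
import Cfsg.Agent.Lib.Helper13.SpUn2

set_option autoImplicit false
set_option linter.unusedSectionVars false
set_option linter.unusedVariables false
set_option linter.style.haveILetI false

/-!
# The Cayley transform of a unipotent isometry (helper13)
-/

namespace Cfsg.Agent.Helper13.SpUn

open Module Cfsg.Agent.Helper13.OrthJp
open scoped Classical

universe u

section cayley
variable {F : Type*} [Field F] {V : Type*} [AddCommGroup V] [Module F V]
  {V' : Type*} [AddCommGroup V'] [Module F V']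

/-- the Cayley transform `(u - 1)(u + 1)⁻¹` -/
noncomputable def cay (u : Module.End F V) : Module.End F V := (u - 1) * Ring.inverse (u + 1)

theorem isUnit_add_one (h2 : (2 : F) ≠ 0) (u : Module.End F V) (hn : IsNilpotent (u - 1)) :
    IsUnit (u + 1) := by
  have hu : IsUnit (algebraMap F (Module.End F V) 2) :=
    (isUnit_iff_ne_zero.2 h2).map (algebraMap F (Module.End F V))
  have hc : Commute (u - 1) (algebraMap F (Module.End F V) 2) :=
    (Algebra.commutes 2 (u - 1)).symm
  have := IsNilpotent.isUnit_add_left_of_commute hn hu hc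
  have e : algebraMap F (Module.End F V) 2 + (u - 1) = u + 1 := by
    rw [map_ofNat, ← one_add_one_eq_two]
    abel
  rwa [e] at this

theorem cay_mul (h2 : (2 : F) ≠ 0) (u : Module.End F V) (hn : IsNilpotent (u - 1)) :
    cay u * (u + 1) = u - 1 := by
  rw [cay, mul_assoc, Ring.inverse_mul_cancel _ (isUnit_add_one h2 u hn), mul_one]

theorem cay_apply (h2 : (2 : F) ≠ 0) (u : Module.End F V) (hn : IsNilpotent (u - 1)) (x : V) :
    cay u ((u + 1) x) = (u - 1) x := by
  rw [← Module.End.mul_apply, cay_mul h2 u hn]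

theorem surj_add_one (h2 : (2 : F) ≠ 0) (u : Module.End F V) (hn : IsNilpotent (u - 1)) (x : V) :
    ∃ x', (u + 1) x' = x := by
  refine ⟨Ring.inverse (u + 1) x, ?_⟩
  rw [← Module.End.mul_apply, Ring.mul_inverse_cancel _ (isUnit_add_one h2 u hn)]
  rfl

theorem commute_sub_add (u : Module.End F V) : Commute (u - 1) (u + 1) :=
  (((Commute.refl u).sub_left (Commute.one_left u)).add_right (Commute.one_right _))

theorem commute_inv (h2 : (2 : F) ≠ 0) (u : Module.End F V) (hn : IsNilpotent (u - 1)) :
    Commute (u - 1) (Ring.inverse (u + 1)) := by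
  obtain ⟨U, hU⟩ := isUnit_add_one h2 u hn
  rw [← hU, Ring.inverse_unit]
  apply Commute.units_inv_right
  rw [hU]
  exact commute_sub_add u

theorem cay_nil (h2 : (2 : F) ≠ 0) (u : Module.End F V) (hn : IsNilpotent (u - 1)) :
    IsNilpotent (cay u) :=
  Commute.isNilpotent_mul_right (commute_inv h2 u hn) hn

theorem cay_skew (h2 : (2 : F) ≠ 0) (u : Module.End F V) (hn : IsNilpotent (u - 1))
    (B : LinearMap.BilinForm F V) (hB : ∀ x y, B (u x) (u y) = B x y) (x y : V) :
    B (cay u x) y = - B x (cay u y) := by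
  obtain ⟨x', rfl⟩ := surj_add_one h2 u hn x
  obtain ⟨y', rfl⟩ := surj_add_one h2 u hn y
  rw [cay_apply h2 u hn, cay_apply h2 u hn]
  simp only [LinearMap.sub_apply, LinearMap.add_apply, Module.End.one_apply, map_sub, map_add]
  rw [hB]
  ring

theorem cay_commute_add (h2 : (2 : F) ≠ 0) (u : Module.End F V) (hn : IsNilpotent (u - 1)) :
    Commute (cay u) (u + 1) := by
  have hun := isUnit_add_one h2 u hn
  have h1 : Commute (Ring.inverse (u + 1)) (u + 1) := by
    show Ring.inverse (u + 1) * (u + 1) = (u + 1) * Ring.inverse (u + 1)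
    rw [Ring.inverse_mul_cancel _ hun, Ring.mul_inverse_cancel _ hun]
  exact (commute_sub_add u).mul_left h1

theorem cay_range (h2 : (2 : F) ≠ 0) (u : Module.End F V) (hn : IsNilpotent (u - 1)) (j : ℕ) :
    LinearMap.range ((cay u) ^ j) = LinearMap.range ((u - 1) ^ j) := by
  apply le_antisymm
  · rintro _ ⟨x, rfl⟩
    have : (cay u) ^ j = (u - 1) ^ j * (Ring.inverse (u + 1)) ^ j := by
      rw [cay, (commute_inv h2 u hn).mul_pow]
    rw [this, Module.End.mul_apply]
    exact ⟨_, rfl⟩
  · rintro _ ⟨y, rfl⟩
    have : (u - 1) ^ j = (cay u) ^ j * (u + 1) ^ j := by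
      rw [← (cay_commute_add h2 u hn).mul_pow, cay_mul h2 u hn]
    rw [this, Module.End.mul_apply]
    exact ⟨_, rfl⟩

theorem cay_hasType (h2 : (2 : F) ≠ 0) (u : Module.End F V) (hn : IsNilpotent (u - 1))
    (μ : Multiset ℕ) : HasType (cay u) μ ↔ HasType (u - 1) μ := by
  constructor
  · intro h
    refine ⟨h.1, fun j => ?_⟩
    rw [← cay_range h2 u hn j]
    exact h.2 j
  · intro h
    refine ⟨h.1, fun j => ?_⟩
    rw [cay_range h2 u hn j]
    exact h.2 j

/-- `(1 - X) u = 1 + X` pointwise -/
theorem cay_rel (h2 : (2 : F) ≠ 0) (u : Module.End F V) (hn : IsNilpotent (u - 1)) (x : V) :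
    u x - cay u (u x) = x + cay u x := by
  have h1 := cay_apply h2 u hn x
  simp only [LinearMap.sub_apply, LinearMap.add_apply, Module.End.one_apply, map_add] at h1
  rw [sub_eq_iff_eq_add]
  calc u x = (u x - x) + x := by abel
    _ = (cay u (u x) + cay u x) + x := by rw [h1]
    _ = _ := by abel

theorem cay_intertwine (h2 : (2 : F) ≠ 0) (u : Module.End F V) (hn : IsNilpotent (u - 1))
    (u' : Module.End F V') (hn' : IsNilpotent (u' - 1)) (e : V ≃ₗ[F] V')
    (he : ∀ x, e (u x) = u' (e x)) (x : V) : e (cay u x) = cay u' (e x) := by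
  obtain ⟨x', rfl⟩ := surj_add_one h2 u hn x
  rw [cay_apply h2 u hn]
  have h1 : e ((u + 1) x') = (u' + 1) (e x') := by
    simp only [LinearMap.add_apply, Module.End.one_apply, map_add]
    rw [he]
  rw [h1, cay_apply h2 u' hn']
  simp only [LinearMap.sub_apply, Module.End.one_apply, map_sub]
  rw [he]

theorem cay_reflect (h2 : (2 : F) ≠ 0) (u : Module.End F V) (hn : IsNilpotent (u - 1))
    (u' : Module.End F V') (hn' : IsNilpotent (u' - 1)) (e : V ≃ₗ[F] V')
    (he : ∀ x, e (cay u x) = cay u' (e x)) (x : V) : e (u x) = u' (e x) := by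
  have hun : IsUnit (1 - cay u') := (cay_nil h2 u' hn').isUnit_one_sub
  have hinj : Function.Injective (1 - cay u' : Module.End F V') := by
    obtain ⟨U, hU⟩ := hun
    intro a b hab
    have := congrArg (↑U⁻¹ : Module.End F V') hab
    rw [← hU, ← Module.End.mul_apply, ← Module.End.mul_apply, Units.inv_mul] at this
    exact this
  apply hinj
  simp only [LinearMap.sub_apply, Module.End.one_apply]
  rw [← he, ← map_sub, cay_rel h2 u hn x, map_add, he, cay_rel h2 u' hn' (e x)]

/-- the inverse Cayley transform -/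
noncomputable def icay (X : Module.End F V) : Module.End F V := (1 + X) * Ring.inverse (1 - X)

theorem icay_apply (X : Module.End F V) (hX : IsNilpotent X) (y : V) :
    icay X ((1 - X) y) = (1 + X) y := by
  rw [icay, Module.End.mul_apply, ← Module.End.mul_apply (Ring.inverse (1 - X)),
    Ring.inverse_mul_cancel _ hX.isUnit_one_sub]
  rfl

theorem surj_one_sub (X : Module.End F V) (hX : IsNilpotent X) (x : V) :
    ∃ y, (1 - X) y = x := by
  refine ⟨Ring.inverse (1 - X) x, ?_⟩
  rw [← Module.End.mul_apply, Ring.mul_inverse_cancel _ hX.isUnit_one_sub]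
  rfl

theorem icay_rel (X : Module.End F V) (hX : IsNilpotent X) :
    X * (icay X + 1) = icay X - 1 := by
  apply LinearMap.ext
  intro x
  obtain ⟨y, rfl⟩ := surj_one_sub X hX x
  have e := icay_apply X hX y
  rw [Module.End.mul_apply, LinearMap.add_apply, LinearMap.sub_apply (icay X) 1, e]
  simp only [LinearMap.sub_apply, LinearMap.add_apply, Module.End.one_apply, map_sub, map_add]
  abel

theorem icay_commute (X : Module.End F V) (hX : IsNilpotent X) : Commute X (icay X + 1) := by
  have h1 : Commute X (1 + X) := (Commute.one_right X).add_right (Commute.refl X)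
  have h3 : Commute X (1 - X) := (Commute.one_right X).sub_right (Commute.refl X)
  have h4 : Commute X (Ring.inverse (1 - X)) := by
    obtain ⟨U, hU⟩ := hX.isUnit_one_sub
    rw [← hU, Ring.inverse_unit]
    apply Commute.units_inv_right
    rw [hU]
    exact h3
  exact (h1.mul_right h4).add_right (Commute.one_right X)

theorem icay_nil (X : Module.End F V) (hX : IsNilpotent X) : IsNilpotent (icay X - 1) := by
  rw [← icay_rel X hX]
  exact Commute.isNilpotent_mul_right (icay_commute X hX) hX

theorem cay_icay (h2 : (2 : F) ≠ 0) (X : Module.End F V) (hX : IsNilpotent X) :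
    cay (icay X) = X := by
  have hn := icay_nil X hX
  have hun := isUnit_add_one h2 (icay X) hn
  have h1 := cay_mul h2 (icay X) hn
  rw [← icay_rel X hX] at h1
  obtain ⟨U, hU⟩ := hun
  rw [← hU] at h1
  exact Units.mul_left_inj U |>.1 h1

theorem icay_isometry (X : Module.End F V) (hX : IsNilpotent X) (B : LinearMap.BilinForm F V)
    (hB : ∀ x y, B (X x) y = - B x (X y)) (x y : V) : B (icay X x) (icay X y) = B x y := by
  obtain ⟨x', rfl⟩ := surj_one_sub X hX x
  obtain ⟨y', rfl⟩ := surj_one_sub X hX y
  rw [icay_apply X hX, icay_apply X hX]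
  simp only [LinearMap.sub_apply, LinearMap.add_apply, Module.End.one_apply, map_sub, map_add]
  rw [hB x' y']
  ring

end cayley

end Cfsg.Agent.Helper13.SpUn
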