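import Mathlib
import Cfsg.Agent.Lib.Helper13.SpUn11
import Cfsg.Agent.Lib.Helper13.SpUn10
import Cfsg.Agent.Lib.Helper28.SympIso

set_option autoImplicit false
set_option linter.unusedSectionVars false
set_option linter.unusedVariables false
set_option linter.style.haveILetI false

/-!
# Transfer between unipotent symplectic matrices and skew nilpotent endomorphisms (helper13)
-/

namespace Cfsg.Agent.Helper13.SpUn

open Module Matrix Cfsg.Agent.Helper13.OrthJp Cfsg.Agent.Helper28.SympIso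
  Cfsg.Agent.Helper28.IsoGrp
open scoped Classical

universe u

section mat
variable {F : Type u} [Field F] {m : ℕ}

/-- a symplectic matrix as an endomorphism -/
noncomputable def Lm (g : Matrix.symplecticGroup (Fin m) F) :
    Module.End F (Fin m ⊕ Fin m → F) :=
  Matrix.toLin' (g : Matrix (Fin m ⊕ Fin m) (Fin m ⊕ Fin m) F)

theorem Lm_apply (g : Matrix.symplecticGroup (Fin m) F) (x : Fin m ⊕ Fin m → F) :
    Lm g x = (g : Matrix (Fin m ⊕ Fin m) (Fin m ⊕ Fin m) F) *ᵥ x := by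
  rw [Lm, Matrix.toLin'_apply]

theorem Lm_mul (g h : Matrix.symplecticGroup (Fin m) F) : Lm (g * h) = Lm g * Lm h := by
  unfold Lm
  rw [show ((g * h : Matrix.symplecticGroup (Fin m) F) :
    Matrix (Fin m ⊕ Fin m) (Fin m ⊕ Fin m) F) = (g : Matrix _ _ F) * (h : Matrix _ _ F) from rfl,
    Matrix.toLin'_mul]
  rfl

theorem Lm_one : Lm (1 : Matrix.symplecticGroup (Fin m) F) = 1 := by
  unfold Lm
  rw [show ((1 : Matrix.symplecticGroup (Fin m) F) :
    Matrix (Fin m ⊕ Fin m) (Fin m ⊕ Fin m) F) = 1 from rfl, Matrix.toLin'_one]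
  rfl

theorem Lm_pow (g : Matrix.symplecticGroup (Fin m) F) (k : ℕ) : Lm (g ^ k) = (Lm g) ^ k := by
  induction k with
  | zero => rw [pow_zero, pow_zero, Lm_one]
  | succ k ih => rw [pow_succ, pow_succ, Lm_mul, ih]

theorem Lm_injective : Function.Injective (Lm (F := F) (m := m)) := by
  intro g h hgh
  apply Subtype.ext
  exact Matrix.toLin'.injective hgh

theorem Lm_isom (g : Matrix.symplecticGroup (Fin m) F) (x y : Fin m ⊕ Fin m → F) :
    sympBil m F (Lm g x) (Lm g y) = sympBil m F x y := by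
  have h1 := mem_isoGrp.1 (sympMulEquiv m g).2 x y
  rw [sympMulEquiv_apply, sympMulEquiv_apply] at h1
  rw [Lm_apply, Lm_apply]
  exact h1

theorem sub_one_pow_char {V : Type*} [AddCommGroup V] [Module F V] (p : ℕ) [Fact p.Prime]
    [CharP F p] (X : Module.End F V) : (X - 1) ^ p = X ^ p - 1 := by
  rcases subsingleton_or_nontrivial V with hs | hn
  · ext v
    exact Subsingleton.elim _ _
  · haveI : CharP (Module.End F V) p :=
      charP_of_injective_algebraMap (algebraMap F (Module.End F V)).injective p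
    have h1 := sub_pow_char_of_commute p (Commute.one_right X)
    rw [one_pow] at h1
    exact h1

theorem nil_of_pow (p : ℕ) [Fact p.Prime] [CharP F p] (g : Matrix.symplecticGroup (Fin m) F)
    (hg : g ^ p = 1) : IsNilpotent (Lm g - 1) := by
  refine ⟨p, ?_⟩
  rw [sub_one_pow_char, ← Lm_pow, hg, Lm_one, sub_self]

/-- the skew nilpotent endomorphism attached to a unipotent symplectic matrix -/
noncomputable def Xm (g : Matrix.symplecticGroup (Fin m) F) :
    Module.End F (Fin m ⊕ Fin m → F) := cay (Lm g)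

theorem skewNil_Xm (h2 : (2 : F) ≠ 0) (g : Matrix.symplecticGroup (Fin m) F)
    (hn : IsNilpotent (Lm g - 1)) : SkewNil (sympBil m F) (Xm g) :=
  ⟨sympBil_isAlt m, (sympBil_nondegenerate m).1, cay_skew h2 (Lm g) hn _ (Lm_isom g),
    cay_nil h2 (Lm g) hn⟩

theorem isConj_of_iso (h2 : (2 : F) ≠ 0) (g g' : Matrix.symplecticGroup (Fin m) F)
    (hn : IsNilpotent (Lm g - 1)) (hn' : IsNilpotent (Lm g' - 1))
    (h : Iso (sympBil m F) (Xm g) (sympBil m F) (Xm g')) : IsConj g g' := by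
  obtain ⟨e, he, hX⟩ := h
  have hu := cay_reflect h2 (Lm g) hn (Lm g') hn' e hX
  set A := (sympMulEquiv m).symm ⟨e, mem_isoGrp.2 he⟩ with hA
  have hAe : ∀ x, Lm A x = e x := by
    intro x
    have h1 := sympMulEquiv_apply m A x
    rw [hA, MulEquiv.apply_symm_apply] at h1
    rw [Lm_apply, hA, ← h1]
  rw [isConj_iff]
  refine ⟨A, ?_⟩
  rw [mul_inv_eq_iff_eq_mul]
  apply Lm_injective
  apply LinearMap.ext
  intro x
  rw [Lm_mul, Lm_mul, Module.End.mul_apply, Module.End.mul_apply, hAe, hAe, hu]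

theorem iso_of_isConj (h2 : (2 : F) ≠ 0) (g g' : Matrix.symplecticGroup (Fin m) F)
    (hn : IsNilpotent (Lm g - 1)) (hn' : IsNilpotent (Lm g' - 1)) (hc : IsConj g g') :
    Iso (sympBil m F) (Xm g) (sympBil m F) (Xm g') := by
  rw [isConj_iff] at hc
  obtain ⟨A, hA⟩ := hc
  rw [mul_inv_eq_iff_eq_mul] at hA
  have he : ∀ x, toLinEquiv m A (Lm g x) = Lm g' (toLinEquiv m A x) := by
    intro x
    rw [toLinEquiv_apply, toLinEquiv_apply, ← Lm_apply, ← Lm_apply, ← Module.End.mul_apply,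
      ← Module.End.mul_apply, ← Lm_mul, ← Lm_mul, hA]
  refine ⟨toLinEquiv m A, fun x y => ?_, cay_intertwine h2 (Lm g) hn (Lm g') hn' _ he⟩
  rw [toLinEquiv_apply, toLinEquiv_apply, ← Lm_apply, ← Lm_apply, Lm_isom]

theorem exists_mat (h2 : (2 : F) ≠ 0) (p : ℕ) [Fact p.Prime] [CharP F p] {V : Type u}
    [AddCommGroup V] [Module F V] [FiniteDimensional F V] {B : LinearMap.BilinForm F V}
    {X : Module.End F V} (h : SkewNil B X) (μ : Multiset ℕ) (hμ : HasType X μ)
    (hle : ∀ a ∈ μ, a ≤ p) (hfin : finrank F V = 2 * m) :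
    ∃ g : Matrix.symplecticGroup (Fin m) F, g ^ p = 1 ∧ Iso B X (sympBil m F) (Xm g) := by
  obtain ⟨e₀, he₀⟩ := exists_symp_equiv B (show B.IsAlt from h.alt) ⟨h.nd, h.nd_right⟩ m hfin
  set X₀ : Module.End F (Fin m ⊕ Fin m → F) := e₀.conj X with hX₀
  have hX₀a : ∀ x, X₀ (e₀ x) = e₀ (X x) := by
    intro x
    rw [hX₀, LinearEquiv.conj_apply]
    simp
  have hiso : Iso B X (sympBil m F) X₀ := ⟨e₀, he₀, fun x => (hX₀a x).symm⟩
  have hsk := hiso.skewNil h
  set u₀ := icay X₀ with hu₀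
  have hnil := icay_nil X₀ hsk.nil
  have hcay : cay u₀ = X₀ := cay_icay h2 X₀ hsk.nil
  set M : Matrix (Fin m ⊕ Fin m) (Fin m ⊕ Fin m) F := LinearMap.toMatrix' u₀ with hM
  have hMv : ∀ x, M *ᵥ x = u₀ x := by
    intro x
    rw [hM, LinearMap.toMatrix'_mulVec]
  have hMmem : M ∈ Matrix.symplecticGroup (Fin m) F := by
    apply mem_symplectic_of_preserves
    intro x y
    rw [← sympBil_apply, ← sympBil_apply, hMv, hMv]
    exact icay_isometry X₀ hsk.nil _ hsk.skew x y
  have hL : Lm (⟨M, hMmem⟩ : Matrix.symplecticGroup (Fin m) F) = u₀ := by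
    apply LinearMap.ext
    intro x
    rw [Lm_apply]
    exact hMv x
  refine ⟨⟨M, hMmem⟩, ?_, ?_⟩
  · apply Lm_injective
    rw [Lm_pow, Lm_one, hL]
    have ht : HasType (u₀ - 1) μ := by
      rw [← cay_hasType h2 u₀ hnil, hcay]
      exact hiso.hasType hμ
    exact pow_char_eq_one p ht hle
  · rw [Xm, hL, hcay]
    exact hiso

end mat

end Cfsg.Agent.Helper13.SpUn
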