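import Mathlib
import Cfsg.Agent.Lib.Helper13.SpUn12

set_option autoImplicit false
set_option linter.unusedSectionVars false
set_option linter.unusedVariables false
set_option linter.style.haveILetI false

/-!
# Parity of odd parts; the invariants of a unipotent symplectic matrix (helper13)
-/

namespace Cfsg.Agent.Helper13.SpUn

open Module Matrix Cfsg.Agent.Helper13.OrthJp Cfsg.Agent.Helper28.SympIso
open scoped Classical

universe u

section parity
variable {F : Type u} [Field F] [Fintype F]

theorem parity (h2 : (2 : F) ≠ 0) :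
    ∀ (n : ℕ) (V : Type u) [AddCommGroup V] [Module F V] [FiniteDimensional F V]
      (B : LinearMap.BilinForm F V) (X : Module.End F V) (μ : Multiset ℕ), finrank F V = n →
      SkewNil B X → HasType X μ → ∀ j, Odd j → Even (μ.count j) := by
  intro n
  induction n using Nat.strong_induction_on with
  | _ n IH =>
  intro V _ _ _ B X μ hn h hμ j hj
  rcases Nat.eq_zero_or_pos n with h0 | hpos
  · have hμ0 : μ = 0 := by
      have hs := hμ.sum
      rw [hn, h0] at hs
      by_contra hne
      obtain ⟨a, ha⟩ := Multiset.exists_mem_of_ne_zero hne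
      have h1 := hμ.1 a ha
      have h3 := Multiset.single_le_sum (fun _ _ => Nat.zero_le _) a ha
      omega
    rw [hμ0]
    simp
  have key : ∀ (M : Type u) [AddCommGroup M] [Module F M] [FiniteDimensional F M]
      (BM : LinearMap.BilinForm F M) (XM : Module.End F M) (hM : SkewNil BM XM)
      (ι : M →ₗ[F] V) (hι : ∀ x y, B (ι x) (ι y) = BM x y) (hιX : ∀ x, ι (XM x) = X (ι x))
      (ν : Multiset ℕ) (hν : HasType XM ν) (hpos : 0 < finrank F M)
      (hval : Even (ν.count j)), Even (μ.count j) := by
    intro M _ _ _ BM XM hM ι hι hιX ν hν hposM hval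
    obtain ⟨P, hP, hsk, hiso, -⟩ := split h hM ι hι hιX
    have ht := type_of_prod hν (hiso.symm.hasType hμ) hsk.nil
    have hfin : finrank F M + finrank F P = n := by
      rw [← hn, ← hiso.finrank_eq, finrank_prod]
    have hP' := IH (finrank F P) (by omega) P (resB B P) (X.restrict hP) (μ - ν) rfl hsk ht.2 j hj
    have hμeq : μ = ν + (μ - ν) := (add_tsub_cancel_of_le ht.1).symm
    rw [hμeq, Multiset.count_add]
    exact hval.add hP'
  obtain ⟨d, hd1, hdμ, hcase⟩ := exists_block h2 h μ hμ (by omega)
  rcases hcase with ⟨hde, c, hc, ι, hι, hιX⟩ | ⟨hdo, -, ι, hι, hιX⟩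
  · refine key (Fin d → F) (c • pairB d F) (shiftL d F) (skewNil_even d h2 hde hd1 c hc) ι hι hιX
      {d} (hasType_shiftL d hd1) (by rw [finrank_fin_fun]; omega) ?_
    have hjd : j ≠ d := by
      rintro rfl
      exact (Nat.not_even_iff_odd.2 hj) hde
    rw [Multiset.count_singleton, if_neg hjd]
    exact Even.zero
  · refine key ((Fin d → F) × (Fin d → F)) (pair2 d F) ((shiftL d F).prodMap (shiftL d F))
      (skewNil_pair d hdo) ι hι hιX ({d} + {d}) (hasType_pair d hd1)
      (by rw [finrank_prod, finrank_fin_fun]; omega) ?_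
    rw [Multiset.count_add]
    exact ⟨_, rfl⟩

end parity

section inv
variable {F : Type u} [Field F] [Fintype F] {R : Type*} [Field R] {m : ℕ}

/-- the Jordan type of a unipotent symplectic matrix, as a partition -/
noncomputable def part (g : Matrix.symplecticGroup (Fin m) F) : Nat.Partition (2 * m) :=
  if h : ∃ μ : Nat.Partition (2 * m), HasType (Xm g) μ.parts then Classical.choose h else default

theorem part_spec (h2 : (2 : F) ≠ 0) (g : Matrix.symplecticGroup (Fin m) F)
    (hn : IsNilpotent (Lm g - 1)) : HasType (Xm g) (part g).parts := by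
  have hex : ∃ μ : Nat.Partition (2 * m), HasType (Xm g) μ.parts := by
    obtain ⟨μ, hμ⟩ := exists_hasType (Xm g) (cay_nil h2 (Lm g) hn)
    refine ⟨⟨μ, fun {i} hi => hμ.1 i hi, ?_⟩, hμ⟩
    rw [hμ.sum, Module.finrank_fintype_fun_eq_card, Fintype.card_sum, Fintype.card_fin]
    ring
  rw [part, dif_pos hex]
  exact Classical.choose_spec hex

theorem part_eq (h2 : (2 : F) ≠ 0) (g : Matrix.symplecticGroup (Fin m) F)
    (hn : IsNilpotent (Lm g - 1)) (μ : Nat.Partition (2 * m)) (hμ : HasType (Xm g) μ.parts) :
    part g = μ :=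
  Nat.Partition.ext ((part_spec h2 g hn).unique hμ)

/-- the set of even parts where the Gauss-sum invariant is negative -/
noncomputable def sgn (ψ : AddChar F R) (g : Matrix.symplecticGroup (Fin m) F) : Finset ℕ :=
  ((part g).parts.toFinset.filter (fun j : ℕ => Even j)).filter
    (fun e => gs ψ (sympBil m F) (Xm g) e = - Nval ψ e (part g).parts)

theorem mem_sgn (ψ : AddChar F R) (g : Matrix.symplecticGroup (Fin m) F) (e : ℕ) :
    e ∈ sgn ψ g ↔ (e ∈ (part g).parts ∧ Even e) ∧
      gs ψ (sympBil m F) (Xm g) e = - Nval ψ e (part g).parts := by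
  rw [sgn, Finset.mem_filter, Finset.mem_filter, Multiset.mem_toFinset]

end inv

end Cfsg.Agent.Helper13.SpUn
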