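import Mathlib
import Cfsg.Agent.Lib.Helper13.SpUn13

set_option autoImplicit false
set_option linter.unusedSectionVars false
set_option linter.unusedVariables false
set_option linter.style.haveILetI false

/-!
# Counting the classes of elements of order `p` in `Sp_{2m}(q)`, `q` odd (helper13)
-/

namespace Cfsg.Agent.Helper13.SpUn

open Module Matrix Cfsg.Agent.Helper13.OrthJp Cfsg.Agent.Helper28.SympIso
open scoped Classical

universe u

section count
variable {F : Type u} [Field F] [Fintype F] {R : Type*} [Field R] [CharZero R]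

/-- the signed partitions -/
noncomputable def sigSet (p m : ℕ) : Finset (Σ _ : Nat.Partition (2 * m), Finset ℕ) :=
  (Finset.univ.filter (fun μ : Nat.Partition (2 * m) =>
    (∀ a ∈ μ.parts, a ≤ p) ∧ ∀ j : ℕ, Odd j → Even (μ.parts.count j))).sigma
    (fun μ => (μ.parts.toFinset.filter (fun j : ℕ => Even j)).powerset)

theorem card_sigSet (p m : ℕ) : (sigSet p m).card =
    ∑ μ ∈ Finset.univ.filter (fun μ : Nat.Partition (2 * m) =>
      (∀ a ∈ μ.parts, a ≤ p) ∧ ∀ j : ℕ, Odd j → Even (μ.parts.count j)),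
      2 ^ ((μ.parts.toFinset.filter (fun j : ℕ => Even j)).card) := by
  rw [sigSet, Finset.card_sigma]
  apply Finset.sum_congr rfl
  intro μ _
  rw [Finset.card_powerset]

variable {p : ℕ} [Fact p.Prime] [CharP F p] {m : ℕ}

/-- the invariant of a class, computed on a representative -/
noncomputable def fmap (ψ : AddChar F R) (C : ConjClasses (Matrix.symplecticGroup (Fin m) F)) :
    Σ _ : Nat.Partition (2 * m), Finset ℕ :=
  ⟨part (Quotient.out C), sgn ψ (Quotient.out C)⟩

theorem out_mk (C : ConjClasses (Matrix.symplecticGroup (Fin m) F)) :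
    ConjClasses.mk (Quotient.out C) = C := by
  rw [← ConjClasses.quotient_mk_eq_mk]
  exact Quotient.out_eq C

theorem pow_eq_one_of_isConj {g g' : Matrix.symplecticGroup (Fin m) F} (h : IsConj g g')
    (k : ℕ) (hg : g ^ k = 1) : g' ^ k = 1 := by
  rw [isConj_iff] at h
  obtain ⟨c, rfl⟩ := h
  rw [conj_pow, hg, mul_one, mul_inv_cancel]

theorem out_pow (C : ConjClasses (Matrix.symplecticGroup (Fin m) F))
    (hC : ∃ g, ConjClasses.mk g = C ∧ g ^ p = 1) : (Quotient.out C) ^ p = 1 := by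
  obtain ⟨g, hg, hgp⟩ := hC
  have h1 : IsConj g (Quotient.out C) := by
    rw [← ConjClasses.mk_eq_mk_iff_isConj, out_mk, hg]
  exact pow_eq_one_of_isConj h1 p hgp

theorem finrank_std : finrank F (Fin m ⊕ Fin m → F) = 2 * m := by
  rw [Module.finrank_fintype_fun_eq_card, Fintype.card_sum, Fintype.card_fin]
  ring

theorem fmap_mem (h2 : (2 : F) ≠ 0) (ψ : AddChar F R)
    (C : ConjClasses (Matrix.symplecticGroup (Fin m) F))
    (hC : ∃ g, ConjClasses.mk g = C ∧ g ^ p = 1) : fmap ψ C ∈ sigSet p m := by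
  have hgp := out_pow C hC
  set g := Quotient.out C with hg
  have hn := nil_of_pow p g hgp
  have ht := part_spec h2 g hn
  have hsk := skewNil_Xm h2 g hn
  rw [sigSet, Finset.mem_sigma]
  refine ⟨?_, ?_⟩
  · rw [Finset.mem_filter]
    refine ⟨Finset.mem_univ _, ?_, ?_⟩
    · have ht' : HasType (Lm g - 1) (part g).parts := (cay_hasType h2 (Lm g) hn _).1 ht
      apply hasType_le_of_pow_eq_zero ht' p
      rw [sub_one_pow_char, ← Lm_pow, hgp, Lm_one, sub_self]
    · exact parity h2 _ _ _ _ _ finrank_std hsk ht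
  · rw [Finset.mem_powerset]
    exact Finset.filter_subset _ _

theorem fmap_inj (h2 : (2 : F) ≠ 0) (ψ : AddChar F R) (hψ : ψ.IsPrimitive)
    (C C' : ConjClasses (Matrix.symplecticGroup (Fin m) F))
    (hC : ∃ g, ConjClasses.mk g = C ∧ g ^ p = 1) (hC' : ∃ g, ConjClasses.mk g = C' ∧ g ^ p = 1)
    (hf : fmap ψ C = fmap ψ C') : C = C' := by
  have hgp := out_pow C hC
  have hgp' := out_pow C' hC'
  set g := Quotient.out C with hg
  set g' := Quotient.out C' with hg'
  have hn := nil_of_pow p g hgp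
  have hn' := nil_of_pow p g' hgp'
  have hsk := skewNil_Xm h2 g hn
  have hsk' := skewNil_Xm h2 g' hn'
  have hpart : part g = part g' := congrArg Sigma.fst hf
  have hsgn : sgn ψ g = sgn ψ g' := by
    have := (Sigma.mk.inj_iff.1 hf).2
    exact eq_of_heq this
  have ht := part_spec h2 g hn
  have ht' := part_spec h2 g' hn'
  rw [← hpart] at ht'
  set μ := (part g).parts with hμ
  have hgs : ∀ e, Even e → gs ψ (sympBil m F) (Xm g) e = gs ψ (sympBil m F) (Xm g') e := by
    intro e he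
    have hN : Nval ψ e μ ≠ - Nval ψ e μ := by
      intro h
      have h3 : (2 : R) * Nval ψ e μ = 0 := by linear_combination h
      rcases mul_eq_zero.1 h3 with h4 | h4
      · exact two_ne_zero h4
      · exact Nval_ne_zero ψ hψ h2 e μ h4
    have r := range_gs h2 ψ hψ _ _ _ _ μ finrank_std hsk ht e he
    have r' := range_gs h2 ψ hψ _ _ _ _ μ finrank_std hsk' ht' e he
    rcases r with r1 | ⟨r1m, r1⟩ <;> rcases r' with r2 | ⟨r2m, r2⟩
    · rw [r1, r2]
    · exfalso
      have hmem : e ∈ sgn ψ g' := by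
        rw [mem_sgn, ← hpart]
        exact ⟨⟨r2m, he⟩, r2⟩
      rw [← hsgn, mem_sgn] at hmem
      rw [r1] at hmem
      exact hN hmem.2
    · exfalso
      have hmem : e ∈ sgn ψ g := by
        rw [mem_sgn]
        exact ⟨⟨r1m, he⟩, r1⟩
      rw [hsgn, mem_sgn, ← hpart] at hmem
      rw [r2] at hmem
      exact hN hmem.2
    · rw [r1, r2]
  have hiso := uniq h2 ψ hψ _ _ _ _ _ _ _ μ finrank_std hsk hsk' ht ht' hgs
  have hconj := isConj_of_iso h2 g g' hn hn' hiso
  rw [← out_mk C, ← out_mk C']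
  exact ConjClasses.mk_eq_mk_iff_isConj.2 hconj

theorem fmap_surj (h2 : (2 : F) ≠ 0) (ψ : AddChar F R) (hψ : ψ.IsPrimitive)
    (x : Σ _ : Nat.Partition (2 * m), Finset ℕ) (hx : x ∈ sigSet p m) :
    ∃ C : ConjClasses (Matrix.symplecticGroup (Fin m) F),
      (∃ g, ConjClasses.mk g = C ∧ g ^ p = 1) ∧ fmap ψ C = x := by
  obtain ⟨μ, S⟩ := x
  rw [sigSet, Finset.mem_sigma, Finset.mem_filter, Finset.mem_powerset] at hx
  obtain ⟨⟨-, hle, hpar⟩, hS⟩ := hx
  have hS' : ∀ e ∈ S, Even e ∧ e ∈ μ.parts := by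
    intro e he
    have := hS he
    rw [Finset.mem_filter, Multiset.mem_toFinset] at this
    exact ⟨this.2, this.1⟩
  obtain ⟨V, i1, i2, i3, B, X, hsk, ht, hgs⟩ :=
    exists_model h2 ψ hψ _ μ.parts S rfl (fun a ha => μ.parts_pos ha) hpar hS'
  have hfin : finrank F V = 2 * m := by rw [← ht.sum, μ.parts_sum]
  obtain ⟨g, hgp, hiso⟩ := exists_mat h2 p hsk μ.parts ht hle hfin
  refine ⟨ConjClasses.mk g, ⟨g, rfl, hgp⟩, ?_⟩
  have hgp₀ := out_pow (ConjClasses.mk g) ⟨g, rfl, hgp⟩
  set g₀ := Quotient.out (ConjClasses.mk g) with hg₀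
  have hconj : IsConj g₀ g := by
    rw [← ConjClasses.mk_eq_mk_iff_isConj, out_mk]
  have hn := nil_of_pow p g hgp
  have hn₀ := nil_of_pow p g₀ hgp₀
  have hiso₀ := iso_of_isConj h2 g₀ g hn₀ hn hconj
  have hall : Iso B X (sympBil m F) (Xm g₀) := hiso.trans hiso₀.symm
  have hpart : part g₀ = μ := part_eq h2 g₀ hn₀ μ (hall.hasType ht)
  have hgs₀ : ∀ e, Even e → gs ψ (sympBil m F) (Xm g₀) e =
      (if e ∈ S then -1 else 1) * Nval ψ e μ.parts := by
    intro e he
    rw [← hall.gs_eq ψ e]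
    exact hgs e he
  have hsgn : sgn ψ g₀ = S := by
    ext e
    rw [mem_sgn, hpart]
    constructor
    · rintro ⟨⟨hem, hee⟩, hval⟩
      by_contra heS
      rw [hgs₀ e hee, if_neg heS, one_mul] at hval
      have h3 : (2 : R) * Nval ψ e μ.parts = 0 := by linear_combination hval
      rcases mul_eq_zero.1 h3 with h4 | h4
      · exact two_ne_zero h4
      · exact Nval_ne_zero ψ hψ h2 e μ.parts h4
    · intro heS
      have := hS' e heS
      refine ⟨⟨this.2, this.1⟩, ?_⟩
      rw [hgs₀ e this.1, if_pos heS]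
      ring
  show (⟨part g₀, sgn ψ g₀⟩ : Σ _ : Nat.Partition (2 * m), Finset ℕ) = ⟨μ, S⟩
  rw [hpart, hsgn]

/-- the number of unipotent classes of exponent `p` -/
theorem card_unip (h2 : (2 : F) ≠ 0) (ψ : AddChar F R) (hψ : ψ.IsPrimitive) :
    Nat.card {C : ConjClasses (Matrix.symplecticGroup (Fin m) F) //
      ∃ g, ConjClasses.mk g = C ∧ g ^ p = 1} = (sigSet p m).card := by
  have hbij : Function.Bijective
      (fun C : {C : ConjClasses (Matrix.symplecticGroup (Fin m) F) //
        ∃ g, ConjClasses.mk g = C ∧ g ^ p = 1} =>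
        (⟨fmap ψ C.1, fmap_mem h2 ψ C.1 C.2⟩ : ↥(sigSet p m))) := by
    constructor
    · intro C C' h
      apply Subtype.ext
      exact fmap_inj h2 ψ hψ C.1 C'.1 C.2 C'.2 (congrArg Subtype.val h)
    · rintro ⟨x, hx⟩
      obtain ⟨C, hC, hf⟩ := fmap_surj (p := p) h2 ψ hψ x hx
      exact ⟨⟨C, hC⟩, Subtype.ext hf⟩
  rw [Nat.card_congr (Equiv.ofBijective _ hbij), Nat.card_eq_fintype_card, Fintype.card_coe]

end count

end Cfsg.Agent.Helper13.SpUn
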