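import Mathlib
import Cfsg.Agent.Lib.Helper13.SpUn14

set_option autoImplicit false
set_option linter.unusedSectionVars false
set_option linter.unusedVariables false
set_option linter.style.haveILetI false

/-!
# The number of classes of elements of order `p` in `Sp_{2m}(q)`, `q` a power of the odd prime `p`
-/

namespace Cfsg.Agent.Helper13.SpUn

open Module Matrix Cfsg.Agent.Helper13.OrthJp Cfsg.Agent.Helper28.SympIso
open scoped Classical

universe u

section final
variable {F : Type u} [Field F] [Fintype F] {p : ℕ} [Fact p.Prime] [CharP F p]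

theorem two_ne_zero_of_char' (hp : p ≠ 2) : (2 : F) ≠ 0 := by
  intro h
  have h1 : ((2 : ℕ) : F) = 0 := by exact_mod_cast h
  rw [CharP.cast_eq_zero_iff F p] at h1
  have hp' : p.Prime := Fact.out
  have := (Nat.prime_dvd_prime_iff_eq hp' Nat.prime_two).1 h1
  exact hp this

theorem class_count (hp : p ≠ 2) (m : ℕ) :
    Nat.card {C : ConjClasses ↥(Matrix.symplecticGroup (Fin m) F) //
      ∃ g : Matrix.symplecticGroup (Fin m) F, ConjClasses.mk g = C ∧ orderOf g = p} =
    (∑ μ ∈ Finset.univ.filter (fun μ : Nat.Partition (2 * m) =>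
      (∀ a ∈ μ.parts, a ≤ p) ∧ ∀ j : ℕ, Odd j → Even (μ.parts.count j)),
      2 ^ ((μ.parts.toFinset.filter (fun j : ℕ => Even j)).card)) - 1 := by
  have h2 : (2 : F) ≠ 0 := two_ne_zero_of_char' hp
  have hpp : p.Prime := Fact.out
  have hchar : ringChar ℚ ≠ ringChar F := by
    rw [ringChar.eq_zero, ringChar.eq F p]
    exact hpp.ne_zero.symm
  let P := AddChar.FiniteField.primitiveChar F ℚ hchar
  have hcard := card_unip (p := p) (m := m) h2 P.char P.prim
  rw [card_sigSet] at hcard
  rw [← hcard]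
  set A : Set (ConjClasses (Matrix.symplecticGroup (Fin m) F)) :=
    {C | ∃ g : Matrix.symplecticGroup (Fin m) F, ConjClasses.mk g = C ∧ orderOf g = p} with hA
  set A' : Set (ConjClasses (Matrix.symplecticGroup (Fin m) F)) :=
    {C | ∃ g : Matrix.symplecticGroup (Fin m) F, ConjClasses.mk g = C ∧ g ^ p = 1} with hA'
  have hins : A' = insert (ConjClasses.mk 1) A := by
    ext C
    rw [Set.mem_insert_iff]
    constructor
    · rintro ⟨g, rfl, hg⟩
      by_cases h1 : g = 1
      · left
        rw [h1]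
      · right
        exact ⟨g, rfl, orderOf_eq_prime hg h1⟩
    · rintro (rfl | ⟨g, rfl, hg⟩)
      · exact ⟨1, rfl, one_pow p⟩
      · exact ⟨g, rfl, by rw [← hg, pow_orderOf_eq_one]⟩
  have hnot : ConjClasses.mk (1 : Matrix.symplecticGroup (Fin m) F) ∉ A := by
    rintro ⟨g, hg, hgo⟩
    rw [ConjClasses.mk_eq_mk_iff_isConj, isConj_comm, isConj_one_right] at hg
    rw [hg, orderOf_one] at hgo
    exact hpp.one_lt.ne hgo
  have hfin : A.Finite := Set.toFinite A
  have h3 : A'.ncard = A.ncard + 1 := by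
    rw [hins, Set.ncard_insert_of_notMem hnot hfin]
  have h4 : Nat.card ↥A = A.ncard := Nat.card_coe_set_eq A
  have h5 : Nat.card ↥A' = A'.ncard := Nat.card_coe_set_eq A'
  show Nat.card ↥A = Nat.card ↥A' - 1
  rw [h4, h5, h3]
  omega

end final

end Cfsg.Agent.Helper13.SpUn
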