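import Mathlib
import Cfsg.Agent.Lib.Helper13.UnitaryConj
import Cfsg.Agent.Lib.Helper13.UnitaryPrime
import Cfsg.Agent.Lib.Helper13.SpNd1

set_option autoImplicit false
set_option linter.unusedSectionVars false

/-!
# Invariant nondegenerate subspaces of hermitian spaces: general constructions
-/

namespace Cfsg.Agent.Helper13.SuNd

open Polynomial Module Cfsg.Agent.Helper13.Uni
open scoped Classical

universe u

section basic
variable {F K : Type*} [Field F] [Field K] [Algebra F K]
variable {V : Type*} [AddCommGroup V] [Module F V] [Module K V] [IsScalarTower F K V]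
variable {σ : K →ₐ[F] K}

/-- nondegeneracy of the restriction of a form to a submodule -/
def NdOn (H : V → V → K) (W : Submodule K V) : Prop :=
  ∀ u ∈ W, (∀ v ∈ W, H u v = 0) → u = 0

/-- the endomorphism `A` leaves invariant a nondegenerate subspace of dimension `m` -/
def FixN (H : V → V → K) (A : Module.End K V) (m : ℕ) : Prop :=
  ∃ W : Submodule K V, finrank K W = m ∧ NdOn H W ∧ ∀ v ∈ W, A v ∈ W

/-- the restriction of a form to a subspace -/
def resH (H : V → V → K) (W : Submodule K V) : W → W → K := fun u v => H (u : V) (v : V)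

theorem resH_apply (H : V → V → K) (W : Submodule K V) (u v : W) :
    resH H W u v = H (u : V) (v : V) := rfl

/-- isometries of hermitian forms -/
structure UInv (σ : K →ₐ[F] K) (A : Module.End K V) (H : V → V → K) : Prop where
  sesq : IsSesq σ H
  inv : ∀ u v, H (A u) (A v) = H u v

theorem ndOn_iff (H : V → V → K) (W : Submodule K V) :
    (∀ u ∈ W, u ≠ 0 → ∃ v ∈ W, H u v ≠ 0) ↔ NdOn H W := by
  constructor
  · intro h u hu huv
    by_contra hne
    obtain ⟨v, hv, hne'⟩ := h u hu hne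
    exact hne' (huv v hv)
  · intro h u hu hne
    by_contra hcon
    push Not at hcon
    exact hne (h u hu hcon)

variable {H : V → V → K}

theorem ndOn_bot : NdOn H (⊥ : Submodule K V) := by
  intro u hu _
  exact (Submodule.mem_bot K).1 hu

theorem ndOn_top (h : IsSesq σ H) : NdOn H (⊤ : Submodule K V) := by
  intro u _ hu
  exact h.nondeg u (fun v => hu v trivial)

theorem IsSesq.nondeg_right' (h : IsSesq σ H) (v : V) (hv : ∀ u, H u v = 0) : v = 0 := by
  apply h.nondeg
  intro u
  rw [h.conj, hv, map_zero]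

theorem isSesq_res (h : IsSesq σ H) (W : Submodule K V) (hW : NdOn H W) :
    IsSesq σ (resH H W) where
  add_left u u' v := h.add_left _ _ _
  smul_left c u v := h.smul_left _ _ _
  conj u v := h.conj _ _
  nondeg u hu := by
    apply Subtype.ext
    apply hW u u.2
    intro v hv
    exact hu ⟨v, hv⟩

theorem ndOn_of_isSesq_res (W : Submodule K V) (h : IsSesq σ (resH H W)) : NdOn H W := by
  intro u hu huv
  have := h.nondeg ⟨u, hu⟩ (fun v => huv v v.2)
  exact congrArg Subtype.val this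

theorem mem_orth' (h : IsSesq σ H) {W : Submodule K V} {u : V} :
    u ∈ orth h W ↔ ∀ w ∈ W, H w u = 0 := Iff.rfl

theorem isCompl_orth' [FiniteDimensional F K] [FiniteDimensional K V]
    (hσ2 : ∀ x, σ (σ x) = x) (hσ1 : ∃ c, σ c ≠ c) (h : IsSesq σ H) (W : Submodule K V)
    (hW : NdOn H W) : IsCompl W (orth h W) := by
  obtain ⟨tr, htr, htrσ⟩ := exists_tr σ hσ2 hσ1
  apply isCompl_orth tr htr htrσ h W
  intro v hv hv'
  apply hW v hv
  intro w hw
  rw [h.conj, hv' w hw, map_zero]

theorem ndOn_orth [FiniteDimensional F K] [FiniteDimensional K V]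
    (hσ2 : ∀ x, σ (σ x) = x) (hσ1 : ∃ c, σ c ≠ c) (h : IsSesq σ H) (W : Submodule K V)
    (hW : NdOn H W) : NdOn H (orth h W) := by
  intro u hu hall
  apply h.nondeg
  intro z
  have hc := isCompl_orth' hσ2 hσ1 h W hW
  have hz : z ∈ W ⊔ orth h W := by
    rw [hc.sup_eq_top]
    trivial
  obtain ⟨w, hw, w', hw', rfl⟩ := Submodule.mem_sup.1 hz
  rw [h.add_right, hall w' hw', add_zero, h.conj, hu w hw, map_zero]

theorem finrank_orth [FiniteDimensional F K] [FiniteDimensional K V]
    (hσ2 : ∀ x, σ (σ x) = x) (hσ1 : ∃ c, σ c ≠ c) (h : IsSesq σ H) (W : Submodule K V)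
    (hW : NdOn H W) : finrank K W + finrank K (orth h W) = finrank K V :=
  Submodule.finrank_add_eq_of_isCompl (isCompl_orth' hσ2 hσ1 h W hW)

/-- the orthogonal complement of an invariant subspace is invariant -/
theorem orth_inv [FiniteDimensional K V] {A : Module.End K V} (hA : UInv σ A H)
    (W : Submodule K V) (hWinv : ∀ v ∈ W, A v ∈ W) :
    ∀ v ∈ orth hA.sesq W, A v ∈ orth hA.sesq W := by
  have hinj : Function.Injective (A.restrict hWinv) := by
    intro a b hab
    apply Subtype.ext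
    have h1 : A (a : V) = A (b : V) := congrArg Subtype.val hab
    have h2 : A ((a : V) - (b : V)) = 0 := by rw [map_sub, h1, sub_self]
    have h3 : (a : V) - (b : V) = 0 := by
      apply hA.sesq.nondeg
      intro v
      rw [← hA.inv, h2, hA.sesq.zero_left]
    exact sub_eq_zero.1 h3
  have hsurj : Function.Surjective (A.restrict hWinv) :=
    LinearMap.surjective_of_injective hinj
  intro v hv w hw
  obtain ⟨w', hw'⟩ := hsurj ⟨w, hw⟩
  have h1 : A (w' : V) = w := congrArg Subtype.val hw'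
  rw [← h1, hA.inv]
  exact hv _ w'.2

/-- the restriction of an isometry to an invariant nondegenerate subspace -/
theorem uinv_restrict {A : Module.End K V} (hA : UInv σ A H) (W : Submodule K V)
    (hW : NdOn H W) (hWinv : ∀ v ∈ W, A v ∈ W) :
    UInv σ (A.restrict hWinv) (resH H W) :=
  ⟨isSesq_res hA.sesq W hW, fun u v => hA.inv _ _⟩

theorem uinv_one (h : IsSesq σ H) : UInv σ (1 : Module.End K V) H := ⟨h, fun _ _ => rfl⟩

theorem UInv.pow {A : Module.End K V} (hA : UInv σ A H) (j : ℕ) : UInv σ (A ^ j) H := by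
  refine ⟨hA.sesq, ?_⟩
  induction j with
  | zero => intro u v; rfl
  | succ j ih =>
    intro u v
    rw [pow_succ', Module.End.mul_apply, Module.End.mul_apply, hA.inv, ih]

end basic

section fix
variable {F K : Type*} [Field F] [Field K] [Algebra F K]
variable {V : Type*} [AddCommGroup V] [Module F V] [Module K V] [IsScalarTower F K V]
variable {σ : K →ₐ[F] K} {H : V → V → K} (A : Module.End K V)

theorem FixN.zero : FixN H A 0 :=
  ⟨⊥, finrank_bot K V, ndOn_bot, fun v hv => by
    rw [(Submodule.mem_bot K).1 hv, map_zero]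
    exact Submodule.zero_mem _⟩

theorem FixN.top (h : IsSesq σ H) : FixN H A (finrank K V) :=
  ⟨⊤, finrank_top K V, ndOn_top h, fun _ _ => trivial⟩

/-- subspaces of an invariant subspace -/
theorem FixN.of_sub (V₁ : Submodule K V) (hV₁ : ∀ v ∈ V₁, A v ∈ V₁) (m : ℕ)
    (h : FixN (resH H V₁) (A.restrict hV₁) m) : FixN H A m := by
  obtain ⟨W, hWm, hWnd, hWinv⟩ := h
  refine ⟨W.map V₁.subtype, ?_, ?_, ?_⟩
  · rw [Submodule.finrank_map_subtype_eq, hWm]
  · rintro _ ⟨u, hu, rfl⟩ h
    have : u = 0 := by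
      apply hWnd u hu
      intro v hv
      rw [resH_apply]
      exact h _ ⟨v, hv, rfl⟩
    rw [this, map_zero]
  · rintro _ ⟨u, hu, rfl⟩
    exact ⟨A.restrict hV₁ u, hWinv u hu, rfl⟩

/-- orthogonal sums of nondegenerate subspaces -/
theorem ndOn_sup [FiniteDimensional K V] (h : IsSesq σ H) (W₁ W₂ : Submodule K V) (h₁ : NdOn H W₁) (h₂ : NdOn H W₂)
    (horth : ∀ u ∈ W₁, ∀ v ∈ W₂, H u v = 0) :
    NdOn H (W₁ ⊔ W₂) ∧ finrank K ↥(W₁ ⊔ W₂) = finrank K W₁ + finrank K W₂ := by
  have horth' : ∀ u ∈ W₂, ∀ v ∈ W₁, H u v = 0 := by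
    intro u hu v hv
    rw [h.conj, horth v hv u hu, map_zero]
  have hdisj : W₁ ⊓ W₂ = ⊥ := by
    rw [eq_bot_iff]
    rintro x ⟨hx1, hx2⟩
    rw [Submodule.mem_bot]
    apply h₁ x hx1
    intro v hv
    exact horth' x hx2 v hv
  refine ⟨?_, ?_⟩
  · intro u hu hall
    obtain ⟨a, ha, b, hb, rfl⟩ := Submodule.mem_sup.1 hu
    have ha0 : a = 0 := by
      apply h₁ a ha
      intro v hv
      have := hall v (Submodule.mem_sup_left hv)
      rwa [h.add_left, horth' b hb v hv, add_zero] at this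
    have hb0 : b = 0 := by
      apply h₂ b hb
      intro v hv
      have := hall v (Submodule.mem_sup_right hv)
      rwa [h.add_left, horth a ha v hv, zero_add] at this
    rw [ha0, hb0, add_zero]
  · have := Submodule.finrank_sup_add_finrank_inf_eq W₁ W₂
    rw [hdisj, finrank_bot, add_zero] at this
    exact this

theorem FixN.osum [FiniteDimensional K V] (h : IsSesq σ H) (W₁ W₂ : Submodule K V)
    (h₁ : NdOn H W₁) (h₂ : NdOn H W₂) (horth : ∀ u ∈ W₁, ∀ v ∈ W₂, H u v = 0)
    (hinv₁ : ∀ v ∈ W₁, A v ∈ W₁) (hinv₂ : ∀ v ∈ W₂, A v ∈ W₂) :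
    FixN H A (finrank K W₁ + finrank K W₂) := by
  obtain ⟨hnd, hfin⟩ := ndOn_sup h W₁ W₂ h₁ h₂ horth
  refine ⟨W₁ ⊔ W₂, hfin, hnd, ?_⟩
  intro v hv
  obtain ⟨a, ha, b, hb, rfl⟩ := Submodule.mem_sup.1 hv
  rw [map_add]
  exact Submodule.add_mem _ (Submodule.mem_sup_left (hinv₁ a ha))
    (Submodule.mem_sup_right (hinv₂ b hb))

/-- adding an invariant nondegenerate block to a subspace of its orthogonal -/
theorem FixN.add_block [FiniteDimensional K V] (hA : UInv σ A H) (Q : Submodule K V)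
    (hQnd : NdOn H Q) (hQinv : ∀ v ∈ Q, A v ∈ Q) (m : ℕ)
    (h : FixN (resH H (orth hA.sesq Q)) (A.restrict (orth_inv hA Q hQinv)) m) :
    FixN H A (finrank K Q + m) := by
  obtain ⟨W, hWm, hWnd, hWinv⟩ := h
  set W' : Submodule K V := W.map (orth hA.sesq Q).subtype with hW'
  have hW'fin : finrank K W' = m := by
    rw [hW', Submodule.finrank_map_subtype_eq, hWm]
  have hW'nd : NdOn H W' := by
    rintro _ ⟨u, hu, rfl⟩ h
    have : u = 0 := by
      apply hWnd u hu
      intro v hv
      rw [resH_apply]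
      exact h _ ⟨v, hv, rfl⟩
    rw [this, map_zero]
  have hW'inv : ∀ v ∈ W', A v ∈ W' := by
    rintro _ ⟨u, hu, rfl⟩
    exact ⟨A.restrict (orth_inv hA Q hQinv) u, hWinv u hu, rfl⟩
  have horth : ∀ u ∈ Q, ∀ v ∈ W', H u v = 0 := by
    rintro u hu _ ⟨v, -, rfl⟩
    exact v.2 u hu
  have := FixN.osum A hA.sesq Q W' hQnd hW'nd horth hQinv hW'inv
  rwa [hW'fin] at this

/-- orthogonal complements -/
theorem FixN.compl [FiniteDimensional F K] [FiniteDimensional K V]
    (hσ2 : ∀ x, σ (σ x) = x) (hσ1 : ∃ c, σ c ≠ c) (hA : UInv σ A H) (m : ℕ)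
    (h : FixN H A m) : FixN H A (finrank K V - m) := by
  obtain ⟨W, hWm, hWnd, hWinv⟩ := h
  refine ⟨orth hA.sesq W, ?_, ndOn_orth hσ2 hσ1 hA.sesq W hWnd, orth_inv hA W hWinv⟩
  have := finrank_orth hσ2 hσ1 hA.sesq W hWnd
  omega

end fix

end Cfsg.Agent.Helper13.SuNd
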