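import Mathlib
import Cfsg.Agent.Lib.Helper13.SuNd1
import Cfsg.Agent.Lib.Helper13.SpNd2

set_option autoImplicit false
set_option linter.unusedSectionVars false

/-!
# The set of nondegenerate subspaces of a hermitian space: Witt's theorem and counting
-/

namespace Cfsg.Agent.Helper13.SuNd

open Polynomial Module Cfsg.Agent.Helper13.Uni
open scoped Classical

universe u

section sub
variable {F K : Type*} [Field F] [Field K] [Algebra F K]
variable {V : Type*} [AddCommGroup V] [Module F V] [Module K V] [IsScalarTower F K V]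
variable {σ : K →ₐ[F] K}

/-- the nondegenerate subspaces of dimension `m` -/
abbrev NdSubS (H : V → V → K) (m : ℕ) :=
  {W : Submodule K V // finrank K W = m ∧ NdOn H W}

variable {H : V → V → K}

theorem ndsubS_map (g : V ≃ₗ[K] V) (hg : ∀ x y, H (g x) (g y) = H x y) (m : ℕ)
    (W : Submodule K V) (hW : finrank K W = m ∧ NdOn H W) :
    finrank K (W.map (g : V →ₗ[K] V)) = m ∧ NdOn H (W.map (g : V →ₗ[K] V)) := by
  refine ⟨?_, ?_⟩
  · rw [LinearEquiv.finrank_map_eq g W]
    exact hW.1
  · rintro _ ⟨u, hu, rfl⟩ h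
    have : u = 0 := by
      apply hW.2 u hu
      intro v hv
      have h1 := h _ ⟨v, hv, rfl⟩
      have h2 : H (g u) (g v) = 0 := h1
      rwa [hg] at h2
    rw [this, map_zero]

/-- nondegenerate subspaces inside a subspace -/
noncomputable def ndsubSEquiv (H : V → V → K) (V₁ : Submodule K V) (m : ℕ) :
    {W : NdSubS H m // W.1 ≤ V₁} ≃ NdSubS (resH H V₁) m where
  toFun := fun W => ⟨W.1.1.comap V₁.subtype, by
    refine ⟨?_, ?_⟩
    · rw [(Submodule.comapSubtypeEquivOfLe W.2).finrank_eq]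
      exact W.1.2.1
    · intro u hu h
      apply Subtype.ext
      apply W.1.2.2 (u : V) hu
      intro v hv
      have := h ⟨v, W.2 hv⟩ hv
      rwa [resH_apply] at this⟩
  invFun := fun W' => ⟨⟨W'.1.map V₁.subtype, by
    refine ⟨?_, ?_⟩
    · rw [Submodule.finrank_map_subtype_eq]
      exact W'.2.1
    · rintro _ ⟨u, hu, rfl⟩ h
      have : u = 0 := by
        apply W'.2.2 u hu
        intro v hv
        rw [resH_apply]
        exact h _ ⟨v, hv, rfl⟩
      rw [this, map_zero]⟩,
    Submodule.map_subtype_le V₁ W'.1⟩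
  left_inv := fun W => by
    apply Subtype.ext
    apply Subtype.ext
    show (W.1.1.comap V₁.subtype).map V₁.subtype = W.1.1
    rw [Submodule.map_comap_subtype]
    exact inf_eq_right.2 W.2
  right_inv := fun W' => by
    apply Subtype.ext
    show (W'.1.map V₁.subtype).comap V₁.subtype = W'.1
    exact Submodule.comap_map_eq_of_injective (Submodule.injective_subtype V₁) W'.1

theorem IsSesq.sum_right (h : IsSesq σ H) {ι : Type*} (s : Finset ι) (f : ι → V) (v : V) :
    H v (∑ i ∈ s, f i) = ∑ i ∈ s, H v (f i) := by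
  induction s using Finset.induction_on with
  | empty => simp [h.zero_right]
  | insert a s ha ih => rw [Finset.sum_insert ha, Finset.sum_insert ha, h.add_right, ih]

theorem mem_fix (A : Module.End K V) (v : V) :
    v ∈ LinearMap.ker (aeval A (X - 1 : K[X])) ↔ A v = v := by
  rw [LinearMap.mem_ker, map_sub, aeval_X, map_one, LinearMap.sub_apply, Module.End.one_apply,
    sub_eq_zero]

theorem pow_apply_fix (A : Module.End K V) (v : V) (hv : A v = v) (j : ℕ) : (A ^ j) v = v := by
  induction j with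
  | zero => rfl
  | succ j ih => rw [pow_succ, Module.End.mul_apply, hv, ih]

/-- the fixed space of a semisimple isometry is nondegenerate -/
theorem ndOn_fixed {A : Module.End K V} (hA : UInv σ A H) (r : ℕ) (hAr : A ^ r = 1)
    (hrK : (r : K) ≠ 0) : NdOn H (LinearMap.ker (aeval A (X - 1 : K[X]))) := by
  set N : Module.End K V := ∑ j ∈ Finset.range r, A ^ j with hN
  have hAN : A * N = N := by
    have h1 := mul_geom_sum A r
    rw [hAr, sub_self, sub_mul, one_mul, sub_eq_zero] at h1
    exact h1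
  intro v hv h
  apply hA.sesq.nondeg
  intro x
  have hvf : A v = v := (mem_fix A _).1 hv
  have hNx : N x ∈ LinearMap.ker (aeval A (X - 1 : K[X])) := by
    rw [mem_fix, ← Module.End.mul_apply, hAN]
  have h1 := h (N x) hNx
  have h2 : H v (N x) = (r : K) * H v x := by
    have h3 : N x = ∑ j ∈ Finset.range r, (A ^ j) x := by
      rw [hN, LinearMap.sum_apply]
    rw [h3, IsSesq.sum_right hA.sesq]
    have h5 : ∀ j ∈ Finset.range r, H v ((A ^ j) x) = H v x := by
      intro j _
      have := (hA.pow j).inv v x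
      rwa [pow_apply_fix A _ hvf j] at this
    rw [Finset.sum_congr rfl h5, Finset.sum_const, Finset.card_range, nsmul_eq_mul]
  rw [h2] at h1
  rcases mul_eq_zero.1 h1 with h | h
  · exact absurd h hrK
  · exact h

end sub

section witt
variable {F K : Type*} [Field F] [Field K] [Algebra F K] [FiniteDimensional F K] [Finite K]
variable {V : Type u} [AddCommGroup V] [Module F V] [Module K V] [IsScalarTower F K V]
  [FiniteDimensional K V]
variable {σ : K →ₐ[F] K} {H : V → V → K}

/-- nondegenerate subspaces of the same dimension are isometric -/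
theorem exists_sub_iso (hσ2 : ∀ x, σ (σ x) = x) (hσ1 : ∃ c, σ c ≠ c) (h : IsSesq σ H)
    (W W' : Submodule K V) (hW : NdOn H W) (hW' : NdOn H W')
    (hdim : finrank K W = finrank K W') :
    ∃ e : W ≃ₗ[K] W', ∀ x y : W, H (e x : V) (e y : V) = H (x : V) (y : V) := by
  obtain ⟨tr, htr, htrσ⟩ := exists_tr σ hσ2 hσ1
  obtain ⟨T⟩ : Nonempty (W ≃ₗ[K] W') := FiniteDimensional.nonempty_linearEquiv_of_finrank_eq hdim
  have h1 : IsSesq σ (resH H W) := isSesq_res h W hW
  have h1' : IsSesq σ (resH H W') := isSesq_res h W' hW'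
  set H₂ : W → W → K := fun x y => H (T x : V) (T y : V) with hH₂
  have h2 : IsSesq σ H₂ := by
    refine ⟨fun u u' v => ?_, fun c u v => ?_, fun u v => ?_, fun u hu => ?_⟩
    · show H (T (u + u') : V) (T v : V) = _
      rw [map_add, Submodule.coe_add, h.add_left]
    · show H (T (c • u) : V) (T v : V) = _
      rw [map_smul, Submodule.coe_smul, h.smul_left]
    · exact h.conj _ _
    · apply T.injective
      rw [map_zero]
      apply h1'.nondeg
      intro w
      have := hu (T.symm w)
      simp only [hH₂, T.apply_symm_apply] at this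
      exact this
  obtain ⟨Z, -, hZ⟩ := exists_commuting_isometry_sesq hσ2 hσ1 tr htr htrσ 1 le_rfl
    (by rw [Nat.cast_one]; exact one_ne_zero) (1 : Module.End K W) (pow_one 1) H₂ (resH H W)
    h2 h1 (fun _ _ => rfl) (fun _ _ => rfl)
  refine ⟨Z.trans T, fun x y => ?_⟩
  exact hZ x y

/-- Witt's theorem for nondegenerate subspaces -/
theorem exists_iso_map (hσ2 : ∀ x, σ (σ x) = x) (hσ1 : ∃ c, σ c ≠ c) (h : IsSesq σ H)
    (W W' : Submodule K V) (hW : NdOn H W) (hW' : NdOn H W')
    (hdim : finrank K W = finrank K W') :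
    ∃ g : V ≃ₗ[K] V, (∀ x y, H (g x) (g y) = H x y) ∧ W.map (g : V →ₗ[K] V) = W' := by
  set C := orth h W with hC
  set C' := orth h W' with hC'
  have hc : IsCompl W C := isCompl_orth' hσ2 hσ1 h W hW
  have hc' : IsCompl W' C' := isCompl_orth' hσ2 hσ1 h W' hW'
  have hndC : NdOn H C := ndOn_orth hσ2 hσ1 h W hW
  have hndC' : NdOn H C' := ndOn_orth hσ2 hσ1 h W' hW'
  have hdimC : finrank K C = finrank K C' := by
    have h1 : finrank K W + finrank K C = finrank K V := finrank_orth hσ2 hσ1 h W hW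
    have h3 : finrank K W' + finrank K C' = finrank K V := finrank_orth hσ2 hσ1 h W' hW'
    omega
  obtain ⟨e₁, he₁⟩ := exists_sub_iso hσ2 hσ1 h W W' hW hW' hdim
  obtain ⟨e₂, he₂⟩ := exists_sub_iso hσ2 hσ1 h C C' hndC hndC' hdimC
  set Φ := Submodule.prodEquivOfIsCompl W C hc with hΦ
  set Φ' := Submodule.prodEquivOfIsCompl W' C' hc' with hΦ'
  have hΦa : ∀ z : W × C, Φ z = (z.1 : V) + (z.2 : V) := fun z => by
    rw [hΦ, Submodule.coe_prodEquivOfIsCompl']
  have hΦ'a : ∀ z : W' × C', Φ' z = (z.1 : V) + (z.2 : V) := fun z => by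
    rw [hΦ', Submodule.coe_prodEquivOfIsCompl']
  have hBΦ : ∀ z z' : W × C, H (Φ z) (Φ z') = H (z.1 : V) (z'.1 : V) + H (z.2 : V) (z'.2 : V) := by
    intro z z'
    rw [hΦa, hΦa, h.add_left, h.add_right, h.add_right]
    have h1 : H (z.1 : V) (z'.2 : V) = 0 := z'.2.2 _ z.1.2
    have h2 : H (z.2 : V) (z'.1 : V) = 0 := by
      rw [h.conj, z.2.2 _ z'.1.2, map_zero]
    rw [h1, h2]
    ring
  have hBΦ' : ∀ z z' : W' × C', H (Φ' z) (Φ' z') =
      H (z.1 : V) (z'.1 : V) + H (z.2 : V) (z'.2 : V) := by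
    intro z z'
    rw [hΦ'a, hΦ'a, h.add_left, h.add_right, h.add_right]
    have h1 : H (z.1 : V) (z'.2 : V) = 0 := z'.2.2 _ z.1.2
    have h2 : H (z.2 : V) (z'.1 : V) = 0 := by
      rw [h.conj, z.2.2 _ z'.1.2, map_zero]
    rw [h1, h2]
    ring
  refine ⟨Φ.symm.trans ((e₁.prodCongr e₂).trans Φ'), ?_, ?_⟩
  · intro x y
    show H (Φ' ((e₁.prodCongr e₂) (Φ.symm x))) (Φ' ((e₁.prodCongr e₂) (Φ.symm y))) = H x y
    have hx : x = Φ (Φ.symm x) := (Φ.apply_symm_apply x).symm
    have hy : y = Φ (Φ.symm y) := (Φ.apply_symm_apply y).symm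
    conv_rhs => rw [hx, hy]
    rw [hBΦ', hBΦ]
    congr 1
    · exact he₁ _ _
    · exact he₂ _ _
  · apply le_antisymm
    · rintro _ ⟨w, hw, rfl⟩
      show Φ' ((e₁.prodCongr e₂) (Φ.symm w)) ∈ W'
      have h1 : Φ.symm w = ((⟨w, hw⟩ : W), 0) :=
        Submodule.prodEquivOfIsCompl_symm_apply_left W C hc ⟨w, hw⟩
      rw [h1]
      show Φ' (e₁ ⟨w, hw⟩, e₂ 0) ∈ W'
      rw [map_zero, hΦ'a]
      simp
    · intro w' hw'
      refine ⟨((e₁.symm ⟨w', hw'⟩ : W) : V), (e₁.symm ⟨w', hw'⟩).2, ?_⟩
      show Φ' ((e₁.prodCongr e₂) (Φ.symm ((e₁.symm ⟨w', hw'⟩ : W) : V))) = w'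
      have h1 : Φ.symm ((e₁.symm ⟨w', hw'⟩ : W) : V) = (e₁.symm ⟨w', hw'⟩, 0) :=
        Submodule.prodEquivOfIsCompl_symm_apply_left W C hc _
      rw [h1]
      show Φ' (e₁ (e₁.symm ⟨w', hw'⟩), e₂ 0) = w'
      rw [map_zero, e₁.apply_symm_apply, hΦ'a]
      simp

end witt

section grp
variable {K : Type*} [Field K] {V : Type*} [AddCommGroup V] [Module K V]

/-- the isometry group of a form -/
def isoU (H : V → V → K) : Subgroup (V ≃ₗ[K] V) where
  carrier := {g | ∀ x y, H (g x) (g y) = H x y}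
  mul_mem' := by
    intro a b ha hb x y
    show H (a (b x)) (a (b y)) = H x y
    rw [ha, hb]
  one_mem' := fun _ _ => rfl
  inv_mem' := by
    intro a ha x y
    have := ha (a⁻¹ x) (a⁻¹ y)
    have e : ∀ z, a (a⁻¹ z) = z := fun z => by
      show (a * a⁻¹) z = z
      rw [mul_inv_cancel]
      rfl
    rw [e, e] at this
    exact this.symm

theorem mem_isoU {H : V → V → K} {g : V ≃ₗ[K] V} :
    g ∈ isoU H ↔ ∀ x y, H (g x) (g y) = H x y := Iff.rfl

end grp

section count
variable {F : Type*} {K : Type u} [Field F] [Field K] [Algebra F K] [FiniteDimensional F K]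
  [Fintype K]
variable {V : Type u} [AddCommGroup V] [Module F V] [Module K V] [IsScalarTower F K V]
  [FiniteDimensional K V]
variable {σ : K →ₐ[F] K} {H : V → V → K}

theorem finite_ndsubS (H : V → V → K) (m : ℕ) : Finite (NdSubS H m) := by
  haveI : Finite V := Module.finite_of_finite K
  apply Finite.of_injective (fun W : NdSubS H m => ((W.1 : Submodule K V) : Set V))
  intro W W' h
  apply Subtype.ext
  exact SetLike.coe_injective h

/-- the number of nondegenerate subspaces divides the order of the isometry group -/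
theorem card_ndsubS_dvd (hσ2 : ∀ x, σ (σ x) = x) (hσ1 : ∃ c, σ c ≠ c) (h : IsSesq σ H)
    (m : ℕ) (W₀ : NdSubS H m) : Nat.card (NdSubS H m) ∣ Nat.card (isoU H) := by
  haveI : Finite (V ≃ₗ[K] V) := Cfsg.Agent.Helper13.OrthNd.finite_linearEquiv
  letI act : MulAction (isoU H) (Submodule K V) :=
    { smul := fun g S => S.map ((g : V ≃ₗ[K] V) : V →ₗ[K] V)
      one_smul := fun S => by
        show S.map ((1 : V ≃ₗ[K] V) : V →ₗ[K] V) = S
        exact Submodule.map_id S
      mul_smul := fun g h S => by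
        show S.map (((g * h : isoU H) : V ≃ₗ[K] V) : V →ₗ[K] V) =
          (S.map ((h : V ≃ₗ[K] V) : V →ₗ[K] V)).map ((g : V ≃ₗ[K] V) : V →ₗ[K] V)
        rw [← Submodule.map_comp]
        rfl }
  have horb : ∀ S : Submodule K V, S ∈ MulAction.orbit (isoU H) W₀.1 ↔
      (finrank K S = m ∧ NdOn H S) := by
    intro S
    constructor
    · rintro ⟨g, rfl⟩
      exact ndsubS_map g.1 g.2 m W₀.1 W₀.2
    · rintro ⟨h1, h3⟩
      obtain ⟨g, hgB, hgW⟩ := exists_iso_map hσ2 hσ1 h W₀.1 S W₀.2.2 h3 (by rw [W₀.2.1, h1])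
      exact ⟨⟨g, hgB⟩, hgW⟩
  have hcard : Nat.card (NdSubS H m) = Nat.card (MulAction.orbit (isoU H) W₀.1) := by
    apply Nat.card_congr
    exact Equiv.subtypeEquivRight (fun S => (horb S).symm)
  rw [hcard]
  have h5 := Nat.card_congr (MulAction.orbitProdStabilizerEquivGroup (isoU H) W₀.1)
  rw [Nat.card_prod] at h5
  exact ⟨_, h5.symm⟩

/-- the number of nondegenerate subspaces is congruent to the number of invariant ones -/
theorem card_ndsubS_modEq (A : Module.End K V) (hA : UInv σ A H) (r : ℕ) (hr : r.Prime)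
    (hAr : A ^ r = 1) (m : ℕ) :
    Nat.card (NdSubS H m) ≡ Nat.card {W : NdSubS H m // W.1.map A = W.1} [MOD r] := by
  have hr1 : 1 ≤ r := hr.one_lt.le
  haveI : Fact r.Prime := ⟨hr⟩
  haveI : Finite (NdSubS H m) := finite_ndsubS H m
  haveI : Fintype (NdSubS H m) := Fintype.ofFinite _
  set f : Function.End (NdSubS H m) := fun W => ⟨W.1.map A,
    ndsubS_map (Cfsg.Agent.Helper13.OrthNd.equivOfPow A r hr1 hAr) (fun x y => hA.inv x y)
      m W.1 W.2⟩ with hf
  have hfk : ∀ (k : ℕ) (W : NdSubS H m), ((f ^ k) W).1 = W.1.map (A ^ k) := by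
    intro k
    induction k with
    | zero =>
      intro W
      show W.1 = W.1.map (LinearMap.id)
      rw [Submodule.map_id]
    | succ k ih =>
      intro W
      rw [pow_succ]
      show ((f ^ k) (f W)).1 = _
      rw [ih (f W)]
      show (W.1.map A).map (A ^ k) = _
      rw [← Submodule.map_comp, pow_succ]
      rfl
  have hfr : f ^ r ^ 1 = 1 := by
    funext W
    apply Subtype.ext
    rw [pow_one, hfk, hAr]
    show W.1.map (LinearMap.id) = W.1
    rw [Submodule.map_id]
  have h1 := Equiv.Perm.card_fixedPoints_modEq (f := f) (p := r) (n := 1) hfr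
  rw [Nat.card_eq_fintype_card]
  have h3 : Nat.card {W : NdSubS H m // W.1.map A = W.1} =
      Fintype.card (Function.fixedPoints f) := by
    rw [← Nat.card_eq_fintype_card]
    apply Nat.card_congr
    apply Equiv.subtypeEquivRight
    intro W
    show _ ↔ f W = W
    constructor
    · intro h
      exact Subtype.ext h
    · intro h
      exact congrArg Subtype.val h
  rw [h3]
  exact h1

end count

section dims
variable {F K : Type*} [Field F] [Field K] [Algebra F K] [FiniteDimensional F K]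
variable {V : Type*} [AddCommGroup V] [Module F V] [Module K V] [IsScalarTower F K V]
  [FiniteDimensional K V]
variable {σ : K →ₐ[F] K} {H : V → V → K}

/-- an anisotropic vector spans a nondegenerate line -/
theorem ndOn_span_singleton (h : IsSesq σ H) (w : V) (hw : H w w ≠ 0) :
    finrank K (Submodule.span K ({w} : Set V)) = 1 ∧ NdOn H (Submodule.span K ({w} : Set V)) := by
  have hw0 : w ≠ 0 := by
    intro h0
    rw [h0, h.zero_left] at hw
    exact hw rfl
  refine ⟨finrank_span_singleton hw0, ?_⟩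
  intro u hu hall
  obtain ⟨a, rfl⟩ := Submodule.mem_span_singleton.1 hu
  have := hall w (Submodule.mem_span_singleton_self w)
  rw [h.smul_left] at this
  rcases mul_eq_zero.1 this with h1 | h1
  · rw [h1, zero_smul]
  · exact absurd h1 hw

/-- every nonzero nondegenerate subspace contains a nondegenerate line -/
theorem exists_line_in (hσ1 : ∃ c, σ c ≠ c) (h : IsSesq σ H) (U : Submodule K V)
    (hU : NdOn H U) (hne : U ≠ ⊥) :
    ∃ P : Submodule K V, P ≤ U ∧ finrank K P = 1 ∧ NdOn H P := by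
  obtain ⟨u, hu, hu0⟩ := (Submodule.ne_bot_iff U).1 hne
  have : ∃ v ∈ U, H u v ≠ 0 := by
    by_contra hcon
    push Not at hcon
    exact hu0 (hU u hu hcon)
  obtain ⟨v, hv, huv⟩ := this
  obtain ⟨w, hw, hww⟩ := exists_anisotropic hσ1 h U ⟨u, hu, v, hv, huv⟩
  obtain ⟨h1, h2⟩ := ndOn_span_singleton h w hww
  refine ⟨Submodule.span K ({w} : Set V), ?_, h1, h2⟩
  rw [Submodule.span_le]
  intro z hz
  rw [Set.mem_singleton_iff.1 hz]
  exact hw

/-- nondegenerate subspaces of every dimension, inside a nondegenerate subspace -/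
theorem exists_nd_sub (hσ2 : ∀ x, σ (σ x) = x) (hσ1 : ∃ c, σ c ≠ c) (h : IsSesq σ H)
    (U : Submodule K V) (hU : NdOn H U) (s : ℕ) (hs : s ≤ finrank K U) :
    ∃ W : Submodule K V, W ≤ U ∧ finrank K W = s ∧ NdOn H W := by
  induction s with
  | zero => exact ⟨⊥, bot_le, finrank_bot K V, ndOn_bot⟩
  | succ s ih =>
    obtain ⟨W, hWU, hWm, hWnd⟩ := ih (by omega)
    -- the orthogonal of `W` inside `U`
    set C : Submodule K V := U ⊓ orth h W with hC
    have hCnd : NdOn H C := by
      intro x hx hall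
      apply hU x hx.1
      intro z hz
      have hc := isCompl_orth' hσ2 hσ1 h W hWnd
      have hz' : z ∈ W ⊔ orth h W := by
        rw [hc.sup_eq_top]
        trivial
      obtain ⟨a, ha, b, hb, rfl⟩ := Submodule.mem_sup.1 hz'
      have hbU : b ∈ U := by
        have : b = (a + b) - a := by abel
        rw [this]
        exact U.sub_mem hz (hWU ha)
      rw [h.add_right, hall b ⟨hbU, hb⟩, add_zero, h.conj, hx.2 a ha, map_zero]
    have hCne : C ≠ ⊥ := by
      intro h0
      -- then `U ≤ W`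
      have hUW : U ≤ W := by
        intro z hz
        have hc := isCompl_orth' hσ2 hσ1 h W hWnd
        have hz' : z ∈ W ⊔ orth h W := by
          rw [hc.sup_eq_top]
          trivial
        obtain ⟨a, ha, b, hb, rfl⟩ := Submodule.mem_sup.1 hz'
        have hbU : b ∈ U := by
          have : b = (a + b) - a := by abel
          rw [this]
          exact U.sub_mem hz (hWU ha)
        have hb0 : b ∈ C := ⟨hbU, hb⟩
        rw [h0, Submodule.mem_bot] at hb0
        rw [hb0, add_zero]
        exact ha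
      have := Submodule.finrank_mono hUW
      omega
    obtain ⟨P, hPC, hP1, hPnd⟩ := exists_line_in hσ1 h C hCnd hCne
    obtain ⟨hnd, hfin⟩ := ndOn_sup h W P hWnd hPnd (fun u hu v hv => (hPC hv).2 u hu)
    refine ⟨W ⊔ P, sup_le hWU (le_trans hPC inf_le_left), ?_, hnd⟩
    rw [hfin, hWm, hP1]

/-- nondegenerate subspaces of every dimension -/
theorem fixN_one (hσ2 : ∀ x, σ (σ x) = x) (hσ1 : ∃ c, σ c ≠ c) (h : IsSesq σ H)
    (s : ℕ) (hs : s ≤ finrank K V) : FixN H (1 : Module.End K V) s := by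
  obtain ⟨W, -, hWm, hWnd⟩ := exists_nd_sub hσ2 hσ1 h ⊤ (ndOn_top h) s (by rwa [finrank_top])
  exact ⟨W, hWm, hWnd, fun v hv => hv⟩

end dims

end Cfsg.Agent.Helper13.SuNd
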