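import Mathlib
import Cfsg.Agent.Lib.Helper13.SuNd2
import Cfsg.Agent.Lib.Helper13.OrthNd2
import Cfsg.Agent.Lib.Helper13.SpTi1

set_option autoImplicit false
set_option linter.unusedSectionVars false

/-!
# Semisimple isometries of hermitian spaces: orthogonal decomposition into minimal blocks
-/

namespace Cfsg.Agent.Helper13.SuNd

open Polynomial Module Cfsg.Agent.Helper13.Uni Cfsg.Agent.Helper13.SS
  Cfsg.Agent.Helper13.HermSS Cfsg.Agent.Helper13.Dual Cfsg.Agent.Helper13.SympSS
open scoped Classical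

universe u

section cyc
variable {K : Type*} [Field K] {V : Type*} [AddCommGroup V] [Module K V]

/-- the dimension of a cyclic subspace is at most the degree of an annihilating polynomial -/
theorem finrank_cyc_le [FiniteDimensional K V] (A : Module.End K V) (w : V) (Q : K[X])
    (hQ : Q.Monic) (hw : aeval A Q w = 0) : finrank K (cyc A w) ≤ Q.natDegree := by
  set φ : K[X] →ₗ[K] V := (LinearMap.applyₗ w : Module.End K V →ₗ[K] V) ∘ₗ
    (aeval A : K[X] →ₐ[K] Module.End K V).toLinearMap with hφ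
  have hφa : ∀ P, φ P = aeval A P w := fun P => rfl
  have h1 : cyc A w ≤ (Polynomial.degreeLT K Q.natDegree).map φ := by
    intro v hv
    obtain ⟨P, rfl⟩ := (mem_cyc A w v).1 hv
    refine ⟨P %ₘ Q, ?_, ?_⟩
    · rw [SetLike.mem_coe, Polynomial.mem_degreeLT, ← Polynomial.degree_eq_natDegree hQ.ne_zero]
      exact Polynomial.degree_modByMonic_lt P hQ
    · rw [hφa]
      have h2 := Polynomial.modByMonic_add_div P Q
      conv_rhs => rw [← h2]
      rw [map_add, LinearMap.add_apply, mul_comm, map_mul, Module.End.mul_apply, hw, map_zero,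
        add_zero]
  have hfin : finrank K (Polynomial.degreeLT K Q.natDegree) = Q.natDegree := by
    rw [(Polynomial.degreeLTEquiv K Q.natDegree).finrank_eq, Module.finrank_fin_fun]
  haveI : Module.Finite K (Polynomial.degreeLT K Q.natDegree) :=
    Module.Finite.equiv (Polynomial.degreeLTEquiv K Q.natDegree).symm
  calc finrank K (cyc A w) ≤ finrank K ((Polynomial.degreeLT K Q.natDegree).map φ) :=
        Submodule.finrank_mono h1
    _ ≤ finrank K (Polynomial.degreeLT K Q.natDegree) := Submodule.finrank_map_le φ _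
    _ = Q.natDegree := hfin

end cyc

section semis
variable {F K : Type*} [Field F] [Field K] [Algebra F K] [FiniteDimensional F K] [Finite K]
variable {V : Type u} [AddCommGroup V] [Module F V] [Module K V] [IsScalarTower F K V]
  [FiniteDimensional K V]
variable {σ : K →ₐ[F] K} {H : V → V → K}

/-- dual eigenspaces of an isometry have the same dimension -/
theorem kdim_cdual_H (hσ2 : ∀ x, σ (σ x) = x) (hσ1 : ∃ c, σ c ≠ c) {M : ℕ} (hM : 1 ≤ M)
    (hMK : (M : K) ≠ 0) {A : Module.End K V} (hAM : A ^ M = 1) (hA : UInv σ A H) {f : K[X]}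
    (hf : f ∈ irrFactors (X ^ M - 1 : K[X])) :
    kdim A (cdual M (σ : K →+* K) f) = kdim A f := by
  obtain ⟨tr, htr, htrσ⟩ := exists_tr σ hσ2 hσ1
  exact kdim_cdual hσ2 hM hMK hAM (trForm_hinv tr htr htrσ hσ2 hA.sesq A hA.inv)
    (irrFactors_irreducible hf) (irrFactors_monic hf) (irrFactors_dvd hf)

/-- orthogonality of eigenspaces -/
theorem orth_of_coprime_H (hσ2 : ∀ x, σ (σ x) = x) (hσ1 : ∃ c, σ c ≠ c) {M : ℕ} (hM : 1 ≤ M)
    {A : Module.End K V} (hAM : A ^ M = 1) (hA : UInv σ A H) (P Q : K[X])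
    (hcop : IsCoprime P ((Q.map (σ : K →+* K)).comp (X ^ (M - 1)))) (u v : V)
    (hu : aeval A P u = 0) (hv : aeval A Q v = 0) : H u v = 0 := by
  obtain ⟨tr, htr, htrσ⟩ := exists_tr σ hσ2 hσ1
  exact hA.sesq.orth_of_coprime tr htr htrσ hσ2 A hA.inv hM hAM P Q hcop u v hu hv

theorem ker_invariant (A : Module.End K V) (P : K[X]) :
    ∀ v ∈ LinearMap.ker (aeval A P), A v ∈ LinearMap.ker (aeval A P) :=
  ker_aeval_invariant A P

/-- the block of a factor is nondegenerate -/
theorem ndOn_ker_cblock (hσ2 : ∀ x, σ (σ x) = x) (hσ1 : ∃ c, σ c ≠ c) {M : ℕ} (hM : 1 ≤ M)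
    (hMK : (M : K) ≠ 0) {A : Module.End K V} (hAM : A ^ M = 1) (hA : UInv σ A H) {f : K[X]}
    (hf : f ∈ irrFactors (X ^ M - 1 : K[X])) :
    NdOn H (LinearMap.ker (aeval A (cblockPoly M (σ : K →+* K) f))) := by
  have hσ2' : ∀ x, (σ : K →+* K) ((σ : K →+* K) x) = x := hσ2
  set P := cblockPoly M (σ : K →+* K) f with hP
  set Q := crestPoly M (σ : K →+* K) f with hQ
  have hXM : aeval A (X ^ M - 1 : K[X]) = 0 := by
    rw [map_sub, map_pow, aeval_X, map_one, hAM, sub_self]
  have hWU : IsCompl (LinearMap.ker (aeval A P)) (LinearMap.ker (aeval A Q)) :=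
    isCompl_ker_aeval A (coprime_cblock_crest hσ2' hM hf) (by
      rw [cblockPoly_mul_crestPoly hσ2' hM hMK hf]
      exact hXM)
  intro u hu hall
  apply hA.sesq.nondeg
  intro z
  obtain ⟨a, b, rfl⟩ := exists_decomp hWU z
  rw [hA.sesq.add_right, hall a a.2, zero_add]
  exact orth_of_coprime_H hσ2 hσ1 hM hAM hA P Q (coprime_cblock_crest_comp hσ2' hM hf) u b
    (LinearMap.mem_ker.1 hu) (LinearMap.mem_ker.1 b.2)

theorem cblockPoly_monic {M : ℕ} {f : K[X]} (hf : f ∈ irrFactors (X ^ M - 1 : K[X])) :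
    (cblockPoly M (σ : K →+* K) f).Monic := by
  unfold cblockPoly
  split_ifs
  · exact irrFactors_monic hf
  · exact (irrFactors_monic hf).mul (cdual_monic (irrFactors_irreducible hf))

theorem natDegree_pos_of_irr {f : K[X]} (hf : Irreducible f) : 0 < f.natDegree :=
  Polynomial.natDegree_pos_iff_degree_pos.2 (Polynomial.degree_pos_of_irreducible hf)

theorem natDegree_cblockPoly_pos {M : ℕ} {f : K[X]} (hf : f ∈ irrFactors (X ^ M - 1 : K[X])) :
    0 < (cblockPoly M (σ : K →+* K) f).natDegree := by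
  have h1 := natDegree_pos_of_irr (irrFactors_irreducible hf)
  unfold cblockPoly
  split_ifs
  · exact h1
  · rw [(irrFactors_monic hf).natDegree_mul (cdual_monic (irrFactors_irreducible hf))]
    omega

/-- a nonzero hermitian space killed by a block polynomial has at least its degree as
dimension -/
theorem natDegree_cblock_le (hσ2 : ∀ x, σ (σ x) = x) (hσ1 : ∃ c, σ c ≠ c) {M : ℕ} (hM : 1 ≤ M)
    (hMK : (M : K) ≠ 0) {A : Module.End K V} (hAM : A ^ M = 1) (hA : UInv σ A H) {f : K[X]}
    (hf : f ∈ irrFactors (X ^ M - 1 : K[X]))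
    (hkill : aeval A (cblockPoly M (σ : K →+* K) f) = 0) (hV : 0 < finrank K V) :
    (cblockPoly M (σ : K →+* K) f).natDegree ≤ finrank K V := by
  have hσ2' : ∀ x, (σ : K →+* K) ((σ : K →+* K) x) = x := hσ2
  have hfirr := irrFactors_irreducible hf
  have hfmon := irrFactors_monic hf
  have hdvd := dvd_kdim A f hfirr
  by_cases hfd : cdual M (σ : K →+* K) f = f
  · have hPf : cblockPoly M (σ : K →+* K) f = f := by
      unfold cblockPoly
      rw [if_pos hfd]
    rw [hPf] at hkill ⊢
    have h1 : kdim A f = finrank K V := by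
      unfold kdim
      rw [hkill, LinearMap.ker_zero, finrank_top]
    rw [h1] at hdvd
    exact Nat.le_of_dvd hV hdvd
  · have hPf : cblockPoly M (σ : K →+* K) f = f * cdual M (σ : K →+* K) f := by
      unfold cblockPoly
      rw [if_neg hfd]
    rw [hPf] at hkill ⊢
    have hcop := coprime_self_cdual hσ2' hf hfd
    have h1 : kdim A (f * cdual M (σ : K →+* K) f) = finrank K V := by
      unfold kdim
      rw [hkill, LinearMap.ker_zero, finrank_top]
    rw [kdim_mul A hcop, kdim_cdual_H hσ2 hσ1 hM hMK hAM hA hf] at h1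
    rw [hfmon.natDegree_mul (cdual_monic hfirr),
      natDegree_cdual hM hfirr hfmon (irrFactors_dvd hf)]
    have h2 : kdim A f ≠ 0 := by
      intro h0
      rw [h0] at h1
      omega
    have h3 := Nat.le_of_dvd (Nat.pos_of_ne_zero h2) hdvd
    omega

/-- a hermitian space killed by a block polynomial contains a nondegenerate invariant subspace of
the degree of the block polynomial -/
theorem exists_block (hσ2 : ∀ x, σ (σ x) = x) (hσ1 : ∃ c, σ c ≠ c) {M : ℕ} (hM : 1 ≤ M)
    (hMK : (M : K) ≠ 0) {A : Module.End K V} (hAM : A ^ M = 1) (hA : UInv σ A H) {f : K[X]}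
    (hf : f ∈ irrFactors (X ^ M - 1 : K[X]))
    (hkill : aeval A (cblockPoly M (σ : K →+* K) f) = 0) (hV : 0 < finrank K V) :
    ∃ L : Submodule K V, (∀ v ∈ L, A v ∈ L) ∧ NdOn H L ∧
      finrank K L = (cblockPoly M (σ : K →+* K) f).natDegree := by
  obtain ⟨tr, htr, htrσ⟩ := exists_tr σ hσ2 hσ1
  obtain ⟨w, hw0, hwd⟩ := exists_cyclic_nondeg hσ2 hσ1 tr htr htrσ M hM hMK A hAM hA.sesq hA.inv hV
  set L := cyc A w with hL
  have hLinv : ∀ v ∈ L, A v ∈ L := cyc_invariant A w
  have hLnd : NdOn H L := by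
    intro v hv hall
    apply hwd v hv
    intro l hl
    rw [hA.sesq.conj, hall l hl, map_zero]
  refine ⟨L, hLinv, hLnd, le_antisymm ?_ ?_⟩
  · apply finrank_cyc_le A w _ (cblockPoly_monic hf)
    rw [hkill]
    rfl
  · have hA' := uinv_restrict hA L hLnd hLinv
    have hAM' := Cfsg.Agent.Helper13.SpTi.restrict_pow_eq_one A hAM L hLinv
    have hkill' : aeval (A.restrict hLinv) (cblockPoly M (σ : K →+* K) f) = 0 := by
      apply LinearMap.ext
      intro x
      apply Subtype.ext
      rw [aeval_restrict_apply, hkill]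
      rfl
    have hpos : 0 < finrank K L := by
      rw [Module.finrank_pos_iff_exists_ne_zero]
      exact ⟨⟨w, self_mem_cyc A w⟩, fun h => hw0 (congrArg Subtype.val h)⟩
    exact natDegree_cblock_le hσ2 hσ1 hM hMK hAM' hA' hf hkill' hpos

/-- peeling a minimal block -/
theorem peel (hσ2 : ∀ x, σ (σ x) = x) (hσ1 : ∃ c, σ c ≠ c) {M : ℕ} (hM : 1 ≤ M)
    (hMK : (M : K) ≠ 0) {A : Module.End K V} (hAM : A ^ M = 1) (hA : UInv σ A H) {f : K[X]}
    (hf : f ∈ irrFactors (X ^ M - 1 : K[X])) (hfk : kdim A f ≠ 0) :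
    ∃ L : Submodule K V, (∀ v ∈ L, A v ∈ L) ∧ NdOn H L ∧
      finrank K L = (cblockPoly M (σ : K →+* K) f).natDegree := by
  set P := cblockPoly M (σ : K →+* K) f with hP
  set U := LinearMap.ker (aeval A P) with hU
  have hUinv : ∀ v ∈ U, A v ∈ U := ker_invariant A P
  have hUnd : NdOn H U := ndOn_ker_cblock hσ2 hσ1 hM hMK hAM hA hf
  have hA' := uinv_restrict hA U hUnd hUinv
  have hAM' := Cfsg.Agent.Helper13.SpTi.restrict_pow_eq_one A hAM U hUinv
  have hkill' : aeval (A.restrict hUinv) P = 0 := by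
    apply LinearMap.ext
    intro x
    apply Subtype.ext
    rw [aeval_restrict_apply]
    exact LinearMap.mem_ker.1 x.2
  have hpos : 0 < finrank K U := by
    have h1 : LinearMap.ker (aeval A f) ≤ U := ker_aeval_le_of_dvd A dvd_cblockPoly
    have h2 := Submodule.finrank_mono h1
    have h3 : 0 < finrank K (LinearMap.ker (aeval A f)) := Nat.pos_of_ne_zero hfk
    omega
  obtain ⟨L, hLinv, hLnd, hLfin⟩ := exists_block hσ2 hσ1 hM hMK hAM' hA' hf hkill' hpos
  refine ⟨L.map U.subtype, ?_, ?_, ?_⟩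
  · rintro _ ⟨u, hu, rfl⟩
    exact ⟨A.restrict hUinv u, hLinv u hu, rfl⟩
  · rintro _ ⟨u, hu, rfl⟩ h
    have : u = 0 := by
      apply hLnd u hu
      intro v hv
      rw [resH_apply]
      exact h _ ⟨v, hv, rfl⟩
    rw [this, map_zero]
  · rw [Submodule.finrank_map_subtype_eq, hLfin]

end semis

section thmU
variable {F K : Type*} [Field F] [Field K] [Algebra F K] [FiniteDimensional F K] [Finite K]
variable {σ : K →ₐ[F] K}

/-- a semisimple isometry all of whose blocks have the same dimension `d` leaves invariant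
nondegenerate subspaces of all dimensions divisible by `d` -/
theorem thmU (hσ2 : ∀ x, σ (σ x) = x) (hσ1 : ∃ c, σ c ≠ c) {M : ℕ} (hM : 1 ≤ M)
    (hMK : (M : K) ≠ 0) (d : ℕ) :
    ∀ (n : ℕ) {V : Type u} [AddCommGroup V] [Module F V] [Module K V] [IsScalarTower F K V]
      [FiniteDimensional K V] (H : V → V → K) (A : Module.End K V), finrank K V = n →
      UInv σ A H → A ^ M = 1 →
      (∀ f ∈ irrFactors (X ^ M - 1 : K[X]), kdim A f ≠ 0 →
        (cblockPoly M (σ : K →+* K) f).natDegree = d) →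
      d ∣ n ∧ ∀ t, d * t ≤ n → FixN H A (d * t) := by
  intro n
  induction n using Nat.strong_induction_on with
  | _ n ih =>
  intro V _ _ _ _ _ H A hn hA hAM hd
  by_cases hn0 : n = 0
  · subst hn0
    refine ⟨dvd_zero d, fun t ht => ?_⟩
    have : d * t = 0 := by omega
    rw [this]
    exact FixN.zero A
  have hXM : aeval A (X ^ M - 1 : K[X]) = 0 := by
    rw [map_sub, map_pow, aeval_X, map_one, hAM, sub_self]
  set S := irrFactors (X ^ M - 1 : K[X]) with hS
  have hprod : aeval A (∏ f ∈ S, f) = 0 := by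
    rw [hS, irrFactors_prod (X_pow_sub_one_monic hM) (X_pow_sub_one_squarefree hMK)]
    exact hXM
  obtain ⟨f, hfS, hfk⟩ : ∃ f ∈ S, kdim A f ≠ 0 := by
    by_contra hcon
    push Not at hcon
    have := finrank_eq_sum_kdim A S (irrFactors_pairwise_coprime _) hprod
    rw [Finset.sum_eq_zero hcon] at this
    omega
  obtain ⟨L, hLinv, hLnd, hLfin⟩ := peel hσ2 hσ1 hM hMK hAM hA hfS hfk
  rw [hd f hfS hfk] at hLfin
  have hd0 : 0 < d := by
    rw [← hd f hfS hfk]
    exact natDegree_cblockPoly_pos hfS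
  have hCinv := orth_inv hA L hLinv
  have hCnd := ndOn_orth hσ2 hσ1 hA.sesq L hLnd
  have hfin := finrank_orth hσ2 hσ1 hA.sesq L hLnd
  have hA' := uinv_restrict hA _ hCnd hCinv
  have hAM' := Cfsg.Agent.Helper13.SpTi.restrict_pow_eq_one A hAM _ hCinv
  have hn' : finrank K ↥(orth hA.sesq L) = n - d := by omega
  have hd' : ∀ g ∈ irrFactors (X ^ M - 1 : K[X]), kdim (A.restrict hCinv) g ≠ 0 →
      (cblockPoly M (σ : K →+* K) g).natDegree = d := by
    intro g hg hgk
    apply hd g hg
    intro h0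
    have := Cfsg.Agent.Helper13.OrthNd.kdim_restrict_le A _ hCinv g
    omega
  obtain ⟨hdvd, hfix⟩ := ih (n - d) (by omega) (resH H _) (A.restrict hCinv) hn' hA' hAM' hd'
  have hdn : d ≤ n := by omega
  refine ⟨?_, fun t ht => ?_⟩
  · have := (Nat.dvd_sub_iff_left hdn (dvd_refl d)).1 hdvd
    exact this
  · rcases Nat.eq_zero_or_pos t with h0 | h0
    · rw [h0, mul_zero]
      exact FixN.zero A
    · have h1 : d * (t - 1) ≤ n - d := by
        have : d * t = d * (t - 1) + d := by
          conv_lhs => rw [← Nat.sub_add_cancel h0]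
          ring
        omega
      have h2 := FixN.add_block A hA L hLnd hLinv _ (hfix (t - 1) h1)
      have h3 : finrank K L + d * (t - 1) = d * t := by
        rw [hLfin]
        conv_rhs => rw [← Nat.sub_add_cancel h0]
        ring
      rwa [h3] at h2

end thmU

end Cfsg.Agent.Helper13.SuNd
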