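import Mathlib
import Cfsg.Agent.Lib.Helper13.SuNd3
import Cfsg.Agent.Lib.Helper13.SpDec5

set_option autoImplicit false
set_option linter.unusedSectionVars false

/-!
# Semisimple unitary isometries of odd prime order: the structure of invariant nondegenerate
subspaces
-/

namespace Cfsg.Agent.Helper13.SuNd

open Polynomial Module Cfsg.Agent.Helper13.Uni Cfsg.Agent.Helper13.SS
  Cfsg.Agent.Helper13.HermSS Cfsg.Agent.Helper13.Dual Cfsg.Agent.Helper13.SympSS
open scoped Classical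

universe u

section arith
variable {K : Type*} [Field K] [Fintype K] {p : ℕ} [Fact p.Prime] [CharP K p] {r q : ℕ}

theorem pos_orderOf_q (hK : Fintype.card K = q ^ 2) (hr : r.Prime) (hrp : r ≠ p) :
    0 < orderOf (q : ZMod r) := by
  have h1 := Cfsg.Agent.Helper13.SpDec.pos_orderOf hK hr hrp
  rw [orderOf_pos_iff] at h1 ⊢
  push_cast at h1
  exact IsOfFinOrder.of_pow h1 (by norm_num)

/-- the degree of the cyclotomic factors over the field with `q ^ 2` elements -/
theorem natDegree_cyc (hK : Fintype.card K = q ^ 2) (hr : r.Prime) (hrp : r ≠ p) (i b : ℕ)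
    (hi : i = orderOf (q : ZMod r)) (hb : b = if Even i then i / 2 else i) {f : K[X]}
    (hf : f ∈ cycFactors K r) : f.natDegree = b := by
  have h1 := cycFactors_natDegree hK hr hrp hf
  push_cast at h1
  rw [h1, orderOf_pow' _ (by norm_num : (2 : ℕ) ≠ 0), ← hi, hb]
  split_ifs with he
  · obtain ⟨k, hk⟩ := he
    have : Nat.gcd i 2 = 2 := by
      rw [hk, ← two_mul]
      exact Nat.gcd_mul_right_left k 2
    rw [this]
  · have ho : Odd i := Nat.not_even_iff_odd.1 he
    have : Nat.gcd i 2 = 1 := Nat.Coprime.symm (Nat.coprime_two_left.2 ho)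
    rw [this, Nat.div_one]

end arith

section blocks
variable {F : Type*} {K : Type*} [Field F] [Field K] [Fintype K] [Algebra F K]
  {p : ℕ} [Fact p.Prime] [CharP K p] {r q : ℕ} {σ : K →ₐ[F] K}

theorem mem_irrFactors_of_cyc (hr : r.Prime) {f : K[X]} (hf : f ∈ cycFactors K r) :
    f ∈ irrFactors (X ^ r - 1 : K[X]) := by
  haveI : Fact r.Prime := ⟨hr⟩
  apply mem_irrFactors_of_dvd (X_pow_sub_one_monic hr.one_lt.le).ne_zero
    (cycFactors_irreducible hf) (cycFactors_monic hf)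
  rw [← cyclotomic_prime_mul_X_sub_one K r]
  exact dvd_mul_of_dvd_left (cycFactors_dvd hf) _

theorem cyc_of_mem_irrFactors (hr : r.Prime) (hrp : r ≠ p) {f : K[X]}
    (hf : f ∈ irrFactors (X ^ r - 1 : K[X])) : f = X - 1 ∨ f ∈ cycFactors K r := by
  haveI : Fact r.Prime := ⟨hr⟩
  have hirr := irrFactors_irreducible hf
  have hmon := irrFactors_monic hf
  have hdvd := irrFactors_dvd hf
  rw [← cyclotomic_prime_mul_X_sub_one K r] at hdvd
  rcases hirr.prime.dvd_or_dvd hdvd with h | h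
  · right
    haveI : NeZero (r : K) := ⟨cast_ne_zero_of_prime_ne hr hrp⟩
    exact mem_irrFactors_of_dvd (cyclotomic_ne_zero r K) hirr hmon h
  · left
    have e1 : (X - 1 : K[X]) = X - C 1 := by rw [map_one]
    rw [e1] at h ⊢
    exact Polynomial.eq_of_monic_of_associated hmon (monic_X_sub_C 1)
      (hirr.associated_of_dvd (irreducible_X_sub_C 1) h)

/-- the degree of the blocks of the cyclotomic factors -/
theorem natDegree_cblock_cyc (hK : Fintype.card K = q ^ 2) (hσ : ∀ x, σ x = x ^ q)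
    (hσ2 : ∀ x, σ (σ x) = x) (hr : r.Prime) (hr2 : r ≠ 2) (hrp : r ≠ p) (i b c : ℕ)
    (hi : i = orderOf (q : ZMod r)) (hb : b = if Even i then i / 2 else i)
    (hc : c = if i % 4 = 0 then i else if i % 4 = 2 then i / 2 else 2 * i) {f : K[X]}
    (hf : f ∈ cycFactors K r) : (cblockPoly r (σ : K →+* K) f).natDegree = c := by
  have hσ' : ∀ x, (σ : K →+* K) x = x ^ q := hσ
  have hσ2' : ∀ x, (σ : K →+* K) ((σ : K →+* K) x) = x := hσ2
  have hdeg := natDegree_cyc hK hr hrp i b hi hb hf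
  have hfirr := cycFactors_irreducible hf
  have hfmon := cycFactors_monic hf
  by_cases h4 : i % 4 = 2
  · have hfd := cdual_eq_self_of_mod4 hK hσ' hσ2' hr hrp (by rw [← hi]; exact h4) hf
    unfold cblockPoly
    rw [if_pos hfd, hdeg, hb, hc]
    have he : Even i := ⟨i / 2, by omega⟩
    rw [if_pos he, if_neg (by omega), if_pos h4]
  · have hfd := cdual_ne_self_of_not_mod4 hK hσ' hσ2' hr hr2 hrp (by rw [← hi]; exact h4) hf
    unfold cblockPoly
    rw [if_neg hfd, hfmon.natDegree_mul (cdual_monic hfirr),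
      natDegree_cdual hr.one_lt.le hfirr hfmon (cycFactors_dvd_X_pow hf), hdeg, hb, hc]
    by_cases h0 : i % 4 = 0
    · have he : Even i := ⟨i / 2, by omega⟩
      rw [if_pos he, if_pos h0]
      omega
    · have he : ¬ Even i := by
        rintro ⟨k, hk⟩
        omega
      rw [if_neg he, if_neg h0, if_neg h4]
      ring

end blocks

section struct
variable {F : Type*} {K : Type*} [Field F] [Field K] [Fintype K] [Algebra F K]
  [FiniteDimensional F K] {p : ℕ} [Fact p.Prime] [CharP K p] {r q : ℕ} {σ : K →ₐ[F] K}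
variable {V : Type u} [AddCommGroup V] [Module F V] [Module K V] [IsScalarTower F K V]
  [FiniteDimensional K V] {H : V → V → K}

/-- subspaces realising `FixN` inside an invariant subspace -/
theorem exists_sub_of_fixN (A : Module.End K V) (C : Submodule K V) (hC : ∀ v ∈ C, A v ∈ C)
    (m : ℕ) (h : FixN (resH H C) (A.restrict hC) m) :
    ∃ W : Submodule K V, W ≤ C ∧ finrank K W = m ∧ NdOn H W ∧ ∀ v ∈ W, A v ∈ W := by
  obtain ⟨W, hWm, hWnd, hWinv⟩ := h
  refine ⟨W.map C.subtype, Submodule.map_subtype_le C W, ?_, ?_, ?_⟩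
  · rw [Submodule.finrank_map_subtype_eq, hWm]
  · rintro _ ⟨u, hu, rfl⟩ h
    have : u = 0 := by
      apply hWnd u hu
      intro v hv
      rw [resH_apply]
      exact h _ ⟨v, hv, rfl⟩
    rw [this, map_zero]
  · rintro _ ⟨u, hu, rfl⟩
    exact ⟨A.restrict hC u, hWinv u hu, rfl⟩

/-- the structure of an isometry of odd prime order `r`: the fixed space and the blocks -/
theorem struct_r (hK : Fintype.card K = q ^ 2) (hσ : ∀ x, σ x = x ^ q)
    (hσ2 : ∀ x, σ (σ x) = x) (hσ1 : ∃ c, σ c ≠ c) (hr : r.Prime) (hr2 : r ≠ 2) (hrp : r ≠ p)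
    (i b c : ℕ) (hi : i = orderOf (q : ZMod r)) (hb : b = if Even i then i / 2 else i)
    (hc : c = if i % 4 = 0 then i else if i % 4 = 2 then i / 2 else 2 * i)
    (A : Module.End K V) (hA : UInv σ A H) (hAr : A ^ r = 1) :
    ∃ u₀, finrank K V = kdim A (X - 1) + c * u₀ ∧ ∀ t ≤ u₀, ∃ W : Submodule K V,
      W ≤ orth hA.sesq (LinearMap.ker (aeval A (X - 1 : K[X]))) ∧ finrank K W = c * t ∧
        NdOn H W ∧ ∀ v ∈ W, A v ∈ W := by
  have hrK : (r : K) ≠ 0 := cast_ne_zero_of_prime_ne hr hrp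
  have hr1 : 1 ≤ r := hr.one_lt.le
  set V₁ := LinearMap.ker (aeval A (X - 1 : K[X])) with hV₁
  have hV₁nd : NdOn H V₁ := ndOn_fixed hA r hAr hrK
  have hV₁inv : ∀ v ∈ V₁, A v ∈ V₁ := ker_invariant A _
  have hCinv := orth_inv hA V₁ hV₁inv
  have hCnd := ndOn_orth hσ2 hσ1 hA.sesq V₁ hV₁nd
  have hfin := finrank_orth hσ2 hσ1 hA.sesq V₁ hV₁nd
  have hc' := isCompl_orth' hσ2 hσ1 hA.sesq V₁ hV₁nd
  have hA' := uinv_restrict hA _ hCnd hCinv
  have hAr' := Cfsg.Agent.Helper13.SpTi.restrict_pow_eq_one A hAr _ hCinv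
  -- no fixed vectors on the complement
  have hnofix : kdim (A.restrict hCinv) (X - 1) = 0 := by
    unfold kdim
    rw [Submodule.finrank_eq_zero, eq_bot_iff]
    intro x hx
    rw [mem_fix] at hx
    have h1 : A (x : V) = x := congrArg Subtype.val hx
    have h2 : (x : V) ∈ V₁ := (mem_fix A _).2 h1
    have h3 : (x : V) ∈ V₁ ⊓ orth hA.sesq V₁ := ⟨h2, x.2⟩
    rw [hc'.inf_eq_bot, Submodule.mem_bot] at h3
    rw [Submodule.mem_bot]
    exact Subtype.ext h3
  have hd : ∀ f ∈ irrFactors (X ^ r - 1 : K[X]), kdim (A.restrict hCinv) f ≠ 0 →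
      (cblockPoly r (σ : K →+* K) f).natDegree = c := by
    intro f hf hfk
    rcases cyc_of_mem_irrFactors hr hrp hf with h | h
    · rw [h] at hfk
      exact absurd hnofix hfk
    · exact natDegree_cblock_cyc hK hσ hσ2 hr hr2 hrp i b c hi hb hc h
  obtain ⟨⟨u₀, hu₀⟩, hfix⟩ := thmU hσ2 hσ1 hr1 hrK c _ (resH H _) (A.restrict hCinv) rfl hA'
    hAr' hd
  refine ⟨u₀, ?_, fun t ht => ?_⟩
  · have : finrank K V₁ = kdim A (X - 1) := rfl
    omega
  · have h1 : c * t ≤ finrank K ↥(orth hA.sesq V₁) := by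
      rw [hu₀]
      exact Nat.mul_le_mul_left c ht
    exact exists_sub_of_fixN A _ hCinv _ (hfix t h1)

theorem c_pos (hK : Fintype.card K = q ^ 2) (hr : r.Prime) (hrp : r ≠ p) (i c : ℕ)
    (hi : i = orderOf (q : ZMod r))
    (hc : c = if i % 4 = 0 then i else if i % 4 = 2 then i / 2 else 2 * i) : 0 < c := by
  have hi0 : 0 < i := by
    rw [hi]
    exact pos_orderOf_q hK hr hrp
  rw [hc]
  split_ifs <;> omega

/-- sufficiency of the arithmetic condition -/
theorem ss_suff (hK : Fintype.card K = q ^ 2) (hσ : ∀ x, σ x = x ^ q)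
    (hσ2 : ∀ x, σ (σ x) = x) (hσ1 : ∃ c, σ c ≠ c) (hr : r.Prime) (hr2 : r ≠ 2) (hrp : r ≠ p)
    (i b c : ℕ) (hi : i = orderOf (q : ZMod r)) (hb : b = if Even i then i / 2 else i)
    (hc : c = if i % 4 = 0 then i else if i % 4 = 2 then i / 2 else 2 * i)
    (A : Module.End K V) (hA : UInv σ A H) (hAr : A ^ r = 1) (m : ℕ) (hm : m ≤ finrank K V)
    (hcond : m % c ≤ finrank K V % c) : FixN H A m := by
  have hc0 := c_pos hK hr hrp i c hi hc
  obtain ⟨u₀, hfin, hblocks⟩ := struct_r hK hσ hσ2 hσ1 hr hr2 hrp i b c hi hb hc A hA hAr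
  have hrK : (r : K) ≠ 0 := cast_ne_zero_of_prime_ne hr hrp
  set V₁ := LinearMap.ker (aeval A (X - 1 : K[X])) with hV₁
  have hV₁nd : NdOn H V₁ := ndOn_fixed hA r hAr hrK
  have he₀ : finrank K V₁ = kdim A (X - 1) := rfl
  set t := min (m / c) u₀ with ht
  have hdm : c * (m / c) + m % c = m := Nat.div_add_mod m c
  have hct : c * t ≤ m := by
    have : c * t ≤ c * (m / c) := Nat.mul_le_mul_left c (min_le_left _ _)
    omega
  have he : m - c * t ≤ kdim A (X - 1) := by
    rcases le_total (m / c) u₀ with h | h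
    · have : t = m / c := min_eq_left h
      rw [this]
      have h1 : finrank K V % c = kdim A (X - 1) % c := by
        rw [hfin, Nat.add_mul_mod_self_left]
      have h2 := Nat.mod_le (kdim A (X - 1)) c
      omega
    · have : t = u₀ := min_eq_right h
      rw [this]
      omega
  obtain ⟨W₂, hW₂le, hW₂fin, hW₂nd, hW₂inv⟩ := hblocks t (min_le_right _ _)
  obtain ⟨W₁, hW₁le, hW₁fin, hW₁nd⟩ := exists_nd_sub hσ2 hσ1 hA.sesq V₁ hV₁nd (m - c * t)
    (by rw [he₀]; exact he)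
  have hW₁inv : ∀ v ∈ W₁, A v ∈ W₁ := by
    intro v hv
    rw [(mem_fix A v).1 (hW₁le hv)]
    exact hv
  have := FixN.osum A hA.sesq W₁ W₂ hW₁nd hW₂nd
    (fun u hu v hv => hW₂le hv u (hW₁le hu)) hW₁inv hW₂inv
  rw [hW₁fin, hW₂fin] at this
  have e : m - c * t + c * t = m := by omega
  rwa [e] at this

/-- the shape of an invariant nondegenerate subspace -/
theorem units_of_nd (hK : Fintype.card K = q ^ 2) (hσ : ∀ x, σ x = x ^ q)
    (hσ2 : ∀ x, σ (σ x) = x) (hσ1 : ∃ c, σ c ≠ c) (hr : r.Prime) (hr2 : r ≠ 2) (hrp : r ≠ p)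
    (i b c : ℕ) (hi : i = orderOf (q : ZMod r)) (hb : b = if Even i then i / 2 else i)
    (hc : c = if i % 4 = 0 then i else if i % 4 = 2 then i / 2 else 2 * i)
    (A : Module.End K V) (hA : UInv σ A H) (hAr : A ^ r = 1)
    (W : Submodule K V) (hWinv : ∀ v ∈ W, A v ∈ W) (hWnd : NdOn H W) :
    ∃ e t, finrank K W = e + c * t ∧ e ≤ kdim A (X - 1) ∧ (t = 0 → ∀ w ∈ W, A w = w) := by
  have hA' := uinv_restrict hA W hWnd hWinv
  have hAr' := Cfsg.Agent.Helper13.SpTi.restrict_pow_eq_one A hAr W hWinv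
  obtain ⟨t, hfin, -⟩ := struct_r hK hσ hσ2 hσ1 hr hr2 hrp i b c hi hb hc _ hA' hAr'
  refine ⟨kdim (A.restrict hWinv) (X - 1), t, hfin,
    Cfsg.Agent.Helper13.OrthNd.kdim_restrict_le A W hWinv _, ?_⟩
  intro ht0 w hw
  rw [ht0, mul_zero, add_zero] at hfin
  have htop : LinearMap.ker (aeval (A.restrict hWinv) (X - 1 : K[X])) = ⊤ :=
    Submodule.eq_top_of_finrank_eq hfin.symm
  have h1 : (⟨w, hw⟩ : W) ∈ LinearMap.ker (aeval (A.restrict hWinv) (X - 1 : K[X])) := by
    rw [htop]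
    trivial
  rw [mem_fix] at h1
  exact congrArg Subtype.val h1

end struct

end Cfsg.Agent.Helper13.SuNd
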