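import Mathlib
import Cfsg.Agent.Lib.Helper13.SuNd4
import Cfsg.Agent.Lib.Helper13.SpDec7

set_option autoImplicit false
set_option linter.unusedSectionVars false

/-!
# Semisimple unitary matrices of odd prime order: existence and the counting argument
-/

namespace Cfsg.Agent.Helper13.SuNd

open Polynomial Module Cfsg.Agent.Helper13.Uni Cfsg.Agent.Helper13.SS
  Cfsg.Agent.Helper13.HermSS Cfsg.Agent.Helper13.Dual Cfsg.Agent.Helper13.SympSS
open scoped Classical

universe u

section mat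
variable {K : Type*} [Field K] {n : ℕ}

theorem toLin'_pow_eq (g : Matrix (Fin n) (Fin n) K) (k : ℕ) :
    (Matrix.toLin' g) ^ k = Matrix.toLin' (g ^ k) := by
  induction k with
  | zero => rw [pow_zero, pow_zero, Matrix.toLin'_one]; rfl
  | succ k ih => rw [pow_succ, pow_succ, Matrix.toLin'_mul, ih]; rfl

theorem toLin'_pow_eq_one (g : Matrix (Fin n) (Fin n) K) (k : ℕ) (hg : g ^ k = 1) :
    (Matrix.toLin' g) ^ k = 1 := by
  rw [toLin'_pow_eq, hg, Matrix.toLin'_one]
  rfl

variable {F : Type*} [Field F] [Algebra F K] {q : ℕ} {σ : K →ₐ[F] K}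

theorem uinv_toLin' (hσ : ∀ x, σ x = x ^ q) (hσ2 : ∀ x, σ (σ x) = x)
    (g : Matrix (Fin n) (Fin n) K) (hg : Pres q g) :
    UInv σ (Matrix.toLin' g) (Cfsg.hermForm n K q) :=
  ⟨hermForm_isSesq σ hσ hσ2 n, fun u v => by
    rw [Matrix.toLin'_apply, Matrix.toLin'_apply]
    exact hg u v⟩

theorem hermForm_single (hq : q ≠ 0) (i : Fin n) :
    Cfsg.hermForm n K q (Pi.single i 1) (Pi.single i 1) = 1 := by
  unfold Cfsg.hermForm
  rw [Finset.sum_eq_single i]
  · simp
  · intro j _ hji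
    rw [Pi.single_eq_of_ne hji, zero_mul]
  · intro h
    exact absurd (Finset.mem_univ i) h

/-- a unitary scalar has norm one -/
theorem scalar_norm (hq : q ≠ 0) (hn : 0 < n) (z : K) (hz : Pres q (z • (1 : Matrix (Fin n) (Fin n) K))) :
    z * z ^ q = 1 := by
  have h1 := hz (Pi.single ⟨0, hn⟩ 1) (Pi.single ⟨0, hn⟩ 1)
  rw [Matrix.smul_mulVec, Matrix.one_mulVec, hermForm_single hq] at h1
  unfold Cfsg.hermForm at h1
  rw [Finset.sum_eq_single ⟨0, hn⟩] at h1
  · simpa using h1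
  · intro j _ hji
    rw [Pi.smul_apply, Pi.single_eq_of_ne hji, smul_zero, zero_mul]
  · intro h
    exact absurd (Finset.mem_univ _) h

end mat

section root
variable {K : Type*} [Field K] [Fintype K] {p : ℕ} [Fact p.Prime] [CharP K p] {r : ℕ}
variable {V : Type*} [AddCommGroup V] [Module K V] [FiniteDimensional K V]

theorem rootMult_aux (e : ℕ) (R : K[X]) (hR : R.eval 1 ≠ 0) :
    ((X - 1 : K[X]) ^ e * R).rootMultiplicity 1 = e := by
  have e1 : (X - 1 : K[X]) = X - C 1 := by rw [map_one]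
  have hR0 : R ≠ 0 := by
    rintro rfl
    simp at hR
  have hne : (X - 1 : K[X]) ^ e * R ≠ 0 := by
    apply mul_ne_zero _ hR0
    apply pow_ne_zero
    rw [e1]
    exact X_sub_C_ne_zero 1
  rw [Polynomial.rootMultiplicity_mul hne, e1, Polynomial.rootMultiplicity_X_sub_C_pow,
    Polynomial.rootMultiplicity_eq_zero hR, add_zero]

/-- the dimension of the fixed space through the characteristic polynomial -/
theorem kdim_eq_rootMultiplicity (hr : r.Prime) (hrp : r ≠ p) (A : Module.End K V)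
    (hAr : A ^ r = 1) : kdim A (X - 1) = A.charpoly.rootMultiplicity 1 := by
  set S := insert (X - 1 : K[X]) (cycFactors K r) with hS
  have hkill : aeval A (∏ f ∈ S, f) = 0 := by
    rw [hS, X_sub_one_mul_prod hr hrp, map_sub, map_pow, aeval_X, map_one, hAr, sub_self]
  have hirr : ∀ f ∈ S, Irreducible f := fun f hf => insert_irreducible hf
  have e1 : (X - 1 : K[X]) = X - C 1 := by rw [map_one]
  have hmon : ∀ f ∈ S, f.Monic := by
    intro f hf
    rcases Finset.mem_insert.1 hf with rfl | hf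
    · rw [e1]
      exact monic_X_sub_C 1
    · exact cycFactors_monic hf
  have h1 := charpoly_eq_prod S hirr hmon A hkill
  rw [hS, Finset.prod_insert (X_sub_one_notMem hr hrp)] at h1
  have h2 : (X - 1 : K[X]).natDegree = 1 := by
    rw [e1]
    exact natDegree_X_sub_C 1
  rw [h2, Nat.div_one] at h1
  rw [h1, rootMult_aux]
  rw [eval_prod, Finset.prod_ne_zero_iff]
  intro f hf
  rw [eval_pow]
  exact pow_ne_zero _ (cycFactors_eval_one_ne_zero hr hrp hf)

end root

section exist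
variable {F : Type*} {K : Type u} [Field F] [Field K] [Fintype K] [Algebra F K]
  [FiniteDimensional F K] {p : ℕ} [Fact p.Prime] [CharP K p] {r q : ℕ} {σ : K →ₐ[F] K}

theorem ureal_cblock (hσ2 : ∀ x, σ (σ x) = x) (hσ1 : ∃ c, σ c ≠ c) (hr : r.Prime)
    {f : K[X]} (hf : f ∈ cycFactors K r) : UReal σ r (cblockPoly r (σ : K →+* K) f) := by
  have hr1 : 1 ≤ r := hr.one_lt.le
  unfold cblockPoly
  split_ifs with h
  · exact ureal_selfdual hσ2 hσ1 hr1 (cycFactors_irreducible hf) (cycFactors_monic hf)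
      (cycFactors_dvd_X_pow hf) h
  · exact ureal_pair hσ2 hr1 (cycFactors_irreducible hf) (cycFactors_monic hf)
      (cycFactors_dvd_X_pow hf)

theorem cblock_eval_one_ne_zero (hσ2 : ∀ x, σ (σ x) = x) (hr : r.Prime) (hr2 : r ≠ 2)
    (hrp : r ≠ p) {f : K[X]} (hf : f ∈ cycFactors K r) :
    (cblockPoly r (σ : K →+* K) f).eval 1 ≠ 0 := by
  have hσ2' : ∀ x, (σ : K →+* K) ((σ : K →+* K) x) = x := hσ2
  unfold cblockPoly
  split_ifs with h
  · exact cycFactors_eval_one_ne_zero hr hrp hf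
  · rw [eval_mul]
    exact mul_ne_zero (cycFactors_eval_one_ne_zero hr hrp hf)
      (cycFactors_eval_one_ne_zero hr hrp (cdual_mem_cycFactors hσ2' hr hr2 hrp hf))

/-- unitary matrices of order dividing `r` with a prescribed number of blocks -/
theorem exists_unit_elt_u (hK : Fintype.card K = q ^ 2) (hσ : ∀ x, σ x = x ^ q)
    (hσ2 : ∀ x, σ (σ x) = x) (hσ1 : ∃ c, σ c ≠ c) (hr : r.Prime) (hr2 : r ≠ 2) (hrp : r ≠ p)
    (i b c : ℕ) (hi : i = orderOf (q : ZMod r)) (hb : b = if Even i then i / 2 else i)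
    (hc : c = if i % 4 = 0 then i else if i % 4 = 2 then i / 2 else 2 * i)
    (n t : ℕ) (ht : c * t ≤ n) :
    ∃ g : Matrix (Fin n) (Fin n) K, Pres q g ∧ g ^ r = 1 ∧
      kdim (Matrix.toLin' g) (X - 1) = n - c * t := by
  obtain ⟨a₀, ha₀⟩ := Cfsg.Agent.Helper13.SpDec.cycFactors_nonempty_aux (F := K) hK hr hrp
  have hr1 : 1 ≤ r := hr.one_lt.le
  set Q := cblockPoly r (σ : K →+* K) a₀ with hQ
  have hQdeg : Q.natDegree = c := natDegree_cblock_cyc hK hσ hσ2 hr hr2 hrp i b c hi hb hc ha₀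
  have hQmon : Q.Monic := cblockPoly_monic (mem_irrFactors_of_cyc hr ha₀)
  set P : K[X] := (X - 1) ^ (n - c * t) * Q ^ t with hP
  have hU : UReal σ r P :=
    ureal_mul (ureal_pow (ureal_X_sub_one hσ2 hσ1 hr1) _) (ureal_pow (ureal_cblock hσ2 hσ1 hr ha₀) _)
  have e1 : (X - 1 : K[X]) = X - C 1 := by rw [map_one]
  have hPdeg : P.natDegree = n := by
    have h1 : ((X - 1 : K[X]) ^ (n - c * t)).Monic := by
      rw [e1]
      exact (monic_X_sub_C 1).pow _
    rw [hP, h1.natDegree_mul (hQmon.pow t), hQmon.natDegree_pow, hQdeg, e1,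
      (monic_X_sub_C 1).natDegree_pow, natDegree_X_sub_C]
    have : t * c = c * t := mul_comm _ _
    omega
  obtain ⟨g, hgP, hgr, hgc⟩ := hU.exists_matrix σ hσ hσ2 hσ1 n hPdeg
  refine ⟨g, hgP, hgr, ?_⟩
  rw [kdim_eq_rootMultiplicity hr hrp _ (toLin'_pow_eq_one g r hgr), Matrix.charpoly_toLin', hgc,
    hP, rootMult_aux]
  rw [eval_pow]
  exact pow_ne_zero _ (cblock_eval_one_ne_zero hσ2 hr hr2 hrp ha₀)

end exist

section count
variable {F : Type*} {K : Type u} [Field F] [Field K] [Fintype K] [Algebra F K]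
  [FiniteDimensional F K] {p : ℕ} [Fact p.Prime] [CharP K p] {r q : ℕ} {σ : K →ₐ[F] K}
variable {V : Type u} [AddCommGroup V] [Module F V] [Module K V] [IsScalarTower F K V]
  [FiniteDimensional K V] {H : V → V → K}

/-- the isometry group of a small space has no element of order `r` -/
theorem no_order_of_small (hK : Fintype.card K = q ^ 2) (hσ : ∀ x, σ x = x ^ q)
    (hσ2 : ∀ x, σ (σ x) = x) (hσ1 : ∃ c, σ c ≠ c) (hr : r.Prime) (hr2 : r ≠ 2) (hrp : r ≠ p)
    (i b c : ℕ) (hi : i = orderOf (q : ZMod r)) (hb : b = if Even i then i / 2 else i)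
    (hc : c = if i % 4 = 0 then i else if i % 4 = 2 then i / 2 else 2 * i)
    (h : IsSesq σ H) (hlt : finrank K V < c) (g : isoU H) (hg : orderOf g = r) : False := by
  have hr1 : 1 ≤ r := hr.one_lt.le
  set A : Module.End K V := ((g : V ≃ₗ[K] V) : V →ₗ[K] V) with hA
  have hgr : (g : V ≃ₗ[K] V) ^ r = 1 := by
    have := pow_orderOf_eq_one g
    rw [hg] at this
    have h3 := congrArg (Subtype.val) this
    rwa [SubmonoidClass.coe_pow] at h3
  have hAr : A ^ r = 1 := by
    apply LinearMap.ext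
    intro v
    rw [hA, ← Cfsg.Agent.Helper13.OrthNd.linearEquiv_pow_apply, hgr]
    rfl
  have hAU : UInv σ A H := ⟨h, fun u v => g.2 u v⟩
  obtain ⟨u₀, hu, -⟩ := struct_r hK hσ hσ2 hσ1 hr hr2 hrp i b c hi hb hc A hAU hAr
  have hu0 : u₀ = 0 := by
    rcases Nat.eq_zero_or_pos u₀ with h | h
    · exact h
    · have : c ≤ c * u₀ := Nat.le_mul_of_pos_right _ h
      omega
  rw [hu0, mul_zero, add_zero] at hu
  have htop : LinearMap.ker (aeval A (X - 1 : K[X])) = ⊤ :=
    Submodule.eq_top_of_finrank_eq hu.symm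
  have hg1 : g = 1 := by
    apply Subtype.ext
    apply LinearEquiv.ext
    intro v
    have h1 : v ∈ LinearMap.ker (aeval A (X - 1 : K[X])) := by
      rw [htop]
      trivial
    rw [mem_fix] at h1
    exact h1
  rw [hg1, orderOf_one] at hg
  have := hr.one_lt
  omega

/-- in a small space the number of nondegenerate subspaces is prime to `r` -/
theorem not_dvd_card_small (hK : Fintype.card K = q ^ 2) (hσ : ∀ x, σ x = x ^ q)
    (hσ2 : ∀ x, σ (σ x) = x) (hσ1 : ∃ c, σ c ≠ c) (hr : r.Prime) (hr2 : r ≠ 2) (hrp : r ≠ p)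
    (i b c : ℕ) (hi : i = orderOf (q : ZMod r)) (hb : b = if Even i then i / 2 else i)
    (hc : c = if i % 4 = 0 then i else if i % 4 = 2 then i / 2 else 2 * i)
    (h : IsSesq σ H) (hlt : finrank K V < c) (m : ℕ) (W₀ : NdSubS H m) :
    ¬ r ∣ Nat.card (NdSubS H m) := by
  intro hdvd
  have : Finite (V ≃ₗ[K] V) := Cfsg.Agent.Helper13.OrthNd.finite_linearEquiv
  have : Fact r.Prime := ⟨hr⟩
  have h1 := dvd_trans hdvd (card_ndsubS_dvd hσ2 hσ1 h m W₀)
  obtain ⟨g, hg⟩ := exists_prime_orderOf_dvd_card' r h1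
  exact no_order_of_small hK hσ hσ2 hσ1 hr hr2 hrp i b c hi hb hc h hlt g hg

/-- the counting lemma -/
theorem not_dvd_of_lt (hK : Fintype.card K = q ^ 2) (hσ : ∀ x, σ x = x ^ q)
    (hσ2 : ∀ x, σ (σ x) = x) (hσ1 : ∃ c, σ c ≠ c) (hr : r.Prime) (hr2 : r ≠ 2) (hrp : r ≠ p)
    (i b c : ℕ) (hi : i = orderOf (q : ZMod r)) (hb : b = if Even i then i / 2 else i)
    (hc : c = if i % 4 = 0 then i else if i % 4 = 2 then i / 2 else 2 * i)
    (A : Module.End K V) (hA : UInv σ A H) (hAr : A ^ r = 1)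
    (he₀ : kdim A (X - 1) < c) (m : ℕ) (hmc : m < c) (hm : m ≤ kdim A (X - 1)) :
    ¬ r ∣ Nat.card (NdSubS H m) := by
  have hr1 : 1 ≤ r := hr.one_lt.le
  have hrK : (r : K) ≠ 0 := cast_ne_zero_of_prime_ne hr hrp
  set V₁ : Submodule K V := LinearMap.ker (aeval A (X - 1 : K[X])) with hV₁
  have hV₁nd : NdOn H V₁ := ndOn_fixed hA r hAr hrK
  have hV₁inv : ∀ v ∈ V₁, A v ∈ V₁ := ker_invariant A _
  have hA₁ := uinv_restrict hA V₁ hV₁nd hV₁inv
  have hsub : ∀ W : NdSubS H m, (∀ v ∈ W.1, A v ∈ W.1) → W.1 ≤ V₁ := by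
    intro W hWinv
    obtain ⟨e, t, h1, -, hfix⟩ := units_of_nd hK hσ hσ2 hσ1 hr hr2 hrp i b c hi hb hc A hA hAr
      W.1 hWinv W.2.2
    rw [W.2.1] at h1
    have ht0 : t = 0 := by
      rcases Nat.eq_zero_or_pos t with h | h
      · exact h
      · have : c ≤ c * t := Nat.le_mul_of_pos_right _ h
        omega
    intro w hw
    rw [hV₁, mem_fix]
    exact hfix ht0 w hw
  have hiff : ∀ W : NdSubS H m, W.1.map A = W.1 ↔ W.1 ≤ V₁ := by
    intro W
    constructor
    · intro hWA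
      apply hsub W
      intro v hv
      rw [← hWA]
      exact Submodule.mem_map_of_mem hv
    · intro hle
      apply le_antisymm
      · rintro _ ⟨w, hw, rfl⟩
        have : A w = w := (mem_fix A w).1 (hle hw)
        rw [this]
        exact hw
      · intro w hw
        have : A w = w := (mem_fix A w).1 (hle hw)
        exact ⟨w, hw, this⟩
  obtain ⟨W₀, -, hW₀m, hW₀nd⟩ := exists_nd_sub hσ2 hσ1 hA₁.sesq ⊤ (ndOn_top hA₁.sesq) m (by
    rw [finrank_top]
    exact hm)
  have hnd := not_dvd_card_small hK hσ hσ2 hσ1 hr hr2 hrp i b c hi hb hc hA₁.sesq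
    (by
      show finrank K V₁ < c
      exact he₀) m ⟨W₀, hW₀m, hW₀nd⟩
  have hmod := card_ndsubS_modEq A hA r hr hAr m
  have hcard : Nat.card {W : NdSubS H m // W.1.map A = W.1} =
      Nat.card (NdSubS (resH H V₁) m) := by
    apply Nat.card_congr
    exact (Equiv.subtypeEquivRight hiff).trans (ndsubSEquiv H V₁ m)
  intro hdvd
  apply hnd
  rw [← hcard]
  exact (Nat.ModEq.dvd_iff hmod (dvd_refl r)).1 hdvd

end count

end Cfsg.Agent.Helper13.SuNd
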