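import Mathlib
import Cfsg.Agent.Lib.Helper13.SuNd5
import Cfsg.Agent.Lib.Helper13.ProjUnitary

set_option autoImplicit false
set_option linter.unusedSectionVars false

/-!
# Tools: linear factors, characteristic polynomials and roots in the field with `q ^ 2` elements
-/

namespace Cfsg.Agent.Helper13.SuNd

open Polynomial Module Cfsg.Agent.Helper13.Uni Cfsg.Agent.Helper13.SS
  Cfsg.Agent.Helper13.HermSS Cfsg.Agent.Helper13.Dual Cfsg.Agent.Helper13.SympSS
open scoped Classical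

universe u

section lin
variable {K : Type*} [Field K] {σ : K →+* K}

/-- the conjugate dual of a linear polynomial -/
theorem cdual_X_sub_C (hσ2 : ∀ x, σ (σ x) = x) {M : ℕ} (a : K) :
    cdual M σ (X - C a) = X - C (σ (a ^ (M - 1))) := by
  have hirr : Irreducible (X - C a) := irreducible_X_sub_C a
  apply Polynomial.eq_of_monic_of_associated (cdual_monic hirr) (monic_X_sub_C _)
  apply (cdual_irreducible hσ2 hirr).associated_of_dvd (irreducible_X_sub_C _)
  rw [← dvd_comp_map_iff hσ2 hirr, dvd_iff_isRoot]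
  simp [IsRoot, hσ2]

variable {V : Type*} [AddCommGroup V] [Module K V]

/-- an irreducible polynomial with nonzero kernel divides every annihilating polynomial -/
theorem dvd_of_kdim_ne_zero (A : Module.End K V) (P f : K[X]) (hP : aeval A P = 0)
    (hf : Irreducible f) (hk : kdim A f ≠ 0) : f ∣ P := by
  by_contra hnd
  have hcop : IsCoprime f P := hf.coprime_iff_not_dvd.2 hnd
  have h1 := disjoint_ker_aeval_of_isCoprime A hcop
  rw [hP, LinearMap.ker_zero, disjoint_top] at h1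
  apply hk
  unfold kdim
  rw [h1, finrank_bot]

end lin

section cp
variable {K : Type*} [Field K] {n : ℕ}

/-- a matrix of order prime to the characteristic whose characteristic polynomial is a power of
`P` is killed by `P` -/
theorem aeval_eq_zero_of_charpoly_pow' (g : Matrix (Fin n) (Fin n) K) (M : ℕ) (hMK : (M : K) ≠ 0)
    (hgM : g ^ M = 1) (P : K[X]) (k : ℕ) (hk : k ≠ 0) (hc : g.charpoly = P ^ k) :
    aeval g P = 0 := by
  have h1 : minpoly K g ∣ X ^ M - 1 := by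
    apply minpoly.dvd
    rw [map_sub, map_pow, aeval_X, map_one, hgM, sub_self]
  have hsq : Squarefree (minpoly K g) :=
    ((X_pow_sub_one_separable_iff.2 hMK).squarefree).squarefree_of_dvd h1
  have h2 : minpoly K g ∣ P ^ k := by
    rw [← hc]
    exact Matrix.minpoly_dvd_charpoly g
  obtain ⟨w, hw⟩ := (hsq.dvd_pow_iff_dvd hk).1 h2
  rw [hw, map_mul, minpoly.aeval, zero_mul]

theorem det_of_charpoly (g : Matrix (Fin n) (Fin n) K) :
    g.det = (-1) ^ n * g.charpoly.coeff 0 := by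
  have := Matrix.det_eq_sign_charpoly_coeff g
  rwa [Fintype.card_fin] at this

end cp

section gen
variable {K : Type*} [Field K] [Fintype K] {q : ℕ}

/-- a generator of the multiplicative group -/
theorem exists_gen (hK : Fintype.card K = q ^ 2) :
    ∃ γ : K, γ ≠ 0 ∧ orderOf γ = q ^ 2 - 1 ∧ ∀ x : K, x ≠ 0 → ∃ k : ℕ, γ ^ k = x := by
  obtain ⟨ζ, hζ⟩ := IsCyclic.exists_generator (α := Kˣ)
  have hord : orderOf ζ = q ^ 2 - 1 := by
    rw [orderOf_eq_card_of_forall_mem_zpowers hζ, Cfsg.Agent.Helper11.Herm.card_units_eq hK]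
  refine ⟨(ζ : K), ζ.ne_zero, ?_, ?_⟩
  · rw [orderOf_units]
    exact hord
  · intro x hx
    have h1 := hζ (Units.mk0 x hx)
    rw [← mem_powers_iff_mem_zpowers] at h1
    obtain ⟨k, hk⟩ := h1
    refine ⟨k, ?_⟩
    have h2 := congrArg Units.val hk
    simpa using h2

theorem q_pos (hK : Fintype.card K = q ^ 2) : 2 ≤ q := Cfsg.Agent.Helper11.Herm.two_le_q hK

theorem sq_sub_one_eq (hq : 1 ≤ q) : q ^ 2 - 1 = (q + 1) * (q - 1) :=
  Cfsg.Agent.Helper11.Herm.sq_sub_one q hq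

theorem pow_card_sub_one (hK : Fintype.card K = q ^ 2) (x : K) (hx : x ≠ 0) :
    x ^ (q ^ 2 - 1) = 1 := by
  rw [← hK]
  exact FiniteField.pow_card_sub_one_eq_one x hx

/-- an element whose `(N / r)`-th power is `1` is an `r`-th power -/
theorem exists_root_of_pow_div (hK : Fintype.card K = q ^ 2) (r : ℕ) (hr : 0 < r)
    (hrq : r ∣ q + 1) (z : K) (hz0 : z ≠ 0) (hz : z ^ ((q + 1) / r) = 1) : ∃ w : K, w ^ r = z := by
  have hq := q_pos hK
  obtain ⟨γ, hγ0, hγ, hgen⟩ := exists_gen hK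
  obtain ⟨k, rfl⟩ := hgen z hz0
  obtain ⟨s, hs⟩ := hrq
  have hs0 : 0 < s := by
    rcases Nat.eq_zero_or_pos s with h | h
    · rw [h, mul_zero] at hs
      omega
    · exact h
  have hdiv : (q + 1) / r = s := by
    rw [hs, Nat.mul_div_cancel_left s hr]
  rw [hdiv, ← pow_mul, ← orderOf_dvd_iff_pow_eq_one, hγ, sq_sub_one_eq (by omega), hs] at hz
  -- `r * s * (q - 1) ∣ k * s`
  have h1 : r ∣ k := by
    obtain ⟨c, hc⟩ := hz
    have h2 : s * k = s * (r * ((q - 1) * c)) := by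
      rw [mul_comm s k, hc]
      ring
    have h3 := Nat.eq_of_mul_eq_mul_left hs0 h2
    exact ⟨_, h3⟩
  obtain ⟨j, rfl⟩ := h1
  exact ⟨γ ^ j, by rw [← pow_mul, mul_comm]⟩

/-- elements of norm one are squares -/
theorem exists_sqrt (hK : Fintype.card K = q ^ 2) (hq2 : Odd q) (z : K) (hz : z ^ (q + 1) = 1) :
    ∃ l : K, l * l = z := by
  have hq := q_pos hK
  have hz0 : z ≠ 0 := by
    rintro rfl
    rw [zero_pow (by omega)] at hz
    exact zero_ne_one hz
  obtain ⟨γ, hγ0, hγ, hgen⟩ := exists_gen hK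
  obtain ⟨k, rfl⟩ := hgen z hz0
  rw [← pow_mul, ← orderOf_dvd_iff_pow_eq_one, hγ, sq_sub_one_eq (by omega)] at hz
  obtain ⟨c, hc⟩ := hz
  have h1 : k = (q - 1) * c := by
    have h2 : (q + 1) * k = (q + 1) * ((q - 1) * c) := by
      rw [mul_comm (q + 1) k, hc]
      ring
    exact Nat.eq_of_mul_eq_mul_left (by omega) h2
  obtain ⟨t, ht⟩ := hq2
  have h2 : k = 2 * (t * c) := by
    rw [h1, ht]
    have : 2 * t + 1 - 1 = 2 * t := by omega
    rw [this]
    ring
  refine ⟨γ ^ (t * c), ?_⟩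
  rw [← pow_add, h2]
  congr 1
  ring

/-- roots prime to the order of the norm-one group -/
theorem exists_root_coprime (r : ℕ) (hrq : Nat.Coprime r (q + 1)) (hq : 1 ≤ q) (z : K)
    (hz : z ^ (q + 1) = 1) : ∃ w : K, w ^ r = z ∧ w ^ (q + 1) = 1 := by
  obtain ⟨e, -, he⟩ := Nat.exists_mul_mod_eq_one_of_coprime hrq (by omega)
  refine ⟨z ^ e, ?_, ?_⟩
  · rw [← pow_mul, mul_comm e r]
    have h1 := Nat.div_add_mod (r * e) (q + 1)
    rw [he] at h1
    rw [← h1, pow_succ, pow_mul, hz, one_pow, one_mul]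
  · rw [← pow_mul, mul_comm, pow_mul, hz, one_pow]

/-- roots of elements of norm one have norm one, for odd primes dividing `q + 1` -/
theorem norm_root (hK : Fintype.card K = q ^ 2) (r : ℕ) (hr : r.Prime) (hr2 : r ≠ 2)
    (hrq : r ∣ q + 1) (b z : K) (hb : b ^ r = z) (hz : z ^ (q + 1) = 1) : b ^ (q + 1) = 1 := by
  have hq := q_pos hK
  have hb0 : b ≠ 0 := by
    rintro rfl
    rw [zero_pow hr.ne_zero] at hb
    rw [← hb, zero_pow (by omega)] at hz
    exact zero_ne_one hz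
  have h1 : (b ^ (q + 1)) ^ r = 1 := by
    rw [← pow_mul, mul_comm, pow_mul, hb, hz]
  have h2 : (b ^ (q + 1)) ^ (q - 1) = 1 := by
    rw [← pow_mul, ← sq_sub_one_eq (by omega)]
    exact pow_card_sub_one hK b hb0
  have hcop : Nat.gcd r (q - 1) = 1 := by
    rw [← Nat.coprime_iff_gcd_eq_one]
    rw [Nat.Prime.coprime_iff_not_dvd hr]
    intro h3
    have h4 : r ∣ (q + 1) - (q - 1) := Nat.dvd_sub hrq h3
    have h5 : (q + 1) - (q - 1) = 2 := by omega
    rw [h5] at h4
    have := (Nat.prime_dvd_prime_iff_eq hr Nat.prime_two).1 h4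
    exact hr2 this
  have h3 := (pow_gcd_eq_one (a := b ^ (q + 1)) (m := r) (n := q - 1)).2 ⟨h1, h2⟩
  rwa [hcop, pow_one] at h3

/-- `p`-th roots in characteristic `p` -/
theorem exists_root_char (hK : Fintype.card K = q ^ 2) (p : ℕ) [Fact p.Prime] [CharP K p]
    (z : K) (hz : z ^ (q + 1) = 1) : ∃ w : K, w ^ p = z ∧ w ^ (q + 1) = 1 := by
  obtain ⟨k, hk, hk2⟩ := exists_card_pow (F := K) (p := p) hK
  obtain ⟨k', rfl⟩ : ∃ k', k = k' + 1 := ⟨k - 1, by omega⟩
  refine ⟨z ^ (p ^ k'), ?_, ?_⟩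
  · rw [← pow_mul, ← pow_succ, ← hk2, ← hK, FiniteField.pow_card]
  · have h1 : ((z ^ (p ^ k')) ^ (q + 1)) = 1 := by
      rw [← pow_mul, mul_comm, pow_mul, hz, one_pow]
    exact h1

/-- an element of multiplicative order `p` in characteristic `p` is trivial -/
theorem eq_one_of_pow_char (p : ℕ) [Fact p.Prime] [CharP K p] (x : K) (hx : x ^ p = 1) :
    x = 1 := by
  have h1 : (x - 1) ^ p = 0 := by
    rw [sub_pow_char, hx, one_pow, sub_self]
  exact sub_eq_zero.1 (pow_eq_zero_iff (Fact.out : p.Prime).ne_zero |>.1 h1)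

end gen

section arith

/-- the arithmetic lemma on prime parts -/
theorem pow_div_eq_one {M : Type*} [Monoid M] (r : ℕ) (hr : r.Prime) (N n : ℕ) (hN : 0 < N)
    (hn : 0 < n) (hrN : r ∣ N) (hrn : r ∣ n) (hv : padicValNat r n ≤ padicValNat r N) (y : M)
    (hyN : y ^ N = 1) (hyn : y ^ (n / r) = 1) : y ^ (N / r) = 1 := by
  haveI : Fact r.Prime := ⟨hr⟩
  obtain ⟨b, hb⟩ : ∃ b, b = padicValNat r n := ⟨_, rfl⟩
  rw [← hb] at hv
  have hb1 : 1 ≤ b := by
    rw [hb]
    exact one_le_padicValNat_of_dvd hn.ne' hrn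
  obtain ⟨t, ht⟩ : r ^ b ∣ n := by
    rw [hb]
    exact pow_padicValNat_dvd
  have hrt : ¬ r ∣ t := by
    intro ⟨t', ht'⟩
    have : r ^ (b + 1) ∣ n := ⟨t', by rw [ht, ht', pow_succ]; ring⟩
    rw [hb] at this
    exact pow_succ_padicValNat_not_dvd hn.ne' this
  obtain ⟨s, hs⟩ : r ^ b ∣ N := dvd_trans (pow_dvd_pow r hv) pow_padicValNat_dvd
  obtain ⟨b', rfl⟩ : ∃ b', b = b' + 1 := ⟨b - 1, by omega⟩
  have hr0 : 0 < r := hr.pos
  have hNr : N / r = r ^ b' * s := by
    rw [hs, pow_succ, mul_assoc, mul_comm r s, ← mul_assoc, Nat.mul_div_cancel _ hr0]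
  have hnr : n / r = r ^ b' * t := by
    rw [ht, pow_succ, mul_assoc, mul_comm r t, ← mul_assoc, Nat.mul_div_cancel _ hr0]
  set ω := y ^ (N / r) with hω
  have h1 : ω ^ t = 1 := by
    rw [hω, hNr, ← pow_mul]
    have : r ^ b' * s * t = (r ^ b' * t) * s := by ring
    rw [this, pow_mul, ← hnr, hyn, one_pow]
  have h2 : ω ^ r = 1 := by
    rw [hω, ← pow_mul, Nat.div_mul_cancel hrN, hyN]
  have hcop : Nat.gcd t r = 1 := by
    rw [← Nat.coprime_iff_gcd_eq_one]
    exact (Nat.Prime.coprime_iff_not_dvd hr).2 hrt |>.symm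
  have h3 := (pow_gcd_eq_one (a := ω) (m := t) (n := r)).2 ⟨h1, h2⟩
  rwa [hcop, pow_one] at h3

end arith

end Cfsg.Agent.Helper13.SuNd
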