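import Mathlib
import Cfsg.Agent.Lib.Helper13.SuNd6

set_option autoImplicit false
set_option linter.unusedSectionVars false

/-!
# Scaling, single block types, and the case of odd primes not dividing `q + 1`
-/

namespace Cfsg.Agent.Helper13.SuNd

open Polynomial Module Cfsg.Agent.Helper13.Uni Cfsg.Agent.Helper13.SS
  Cfsg.Agent.Helper13.HermSS Cfsg.Agent.Helper13.Dual Cfsg.Agent.Helper13.SympSS
open scoped Classical

universe u

section scale
variable {F K : Type*} [Field F] [Field K] [Algebra F K]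
variable {V : Type*} [AddCommGroup V] [Module F V] [Module K V] [IsScalarTower F K V]
variable {σ : K →ₐ[F] K} {H : V → V → K}

theorem fixN_of_smul (A : Module.End K V) (w : K) (m : ℕ) (h : FixN H A m) :
    FixN H (w • A) m := by
  obtain ⟨W, hWm, hWnd, hWinv⟩ := h
  refine ⟨W, hWm, hWnd, fun v hv => ?_⟩
  rw [LinearMap.smul_apply]
  exact W.smul_mem w (hWinv v hv)

theorem fixN_smul_iff (A : Module.End K V) (w : K) (hw : w ≠ 0) (m : ℕ) :
    FixN H (w • A) m ↔ FixN H A m := by
  constructor
  · intro h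
    have := fixN_of_smul (w • A) w⁻¹ m h
    rwa [smul_smul, inv_mul_cancel₀ hw, one_smul] at this
  · exact fixN_of_smul A w m

theorem uinv_smul {A : Module.End K V} (hA : UInv σ A H) (w : K) (hw : w * σ w = 1) :
    UInv σ (w • A) H := by
  refine ⟨hA.sesq, fun u v => ?_⟩
  rw [LinearMap.smul_apply, LinearMap.smul_apply, hA.sesq.smul_left, hA.sesq.smul_right, hA.inv,
    ← mul_assoc, hw, one_mul]

theorem smul_pow_end (A : Module.End K V) (w : K) (k : ℕ) : (w • A) ^ k = w ^ k • A ^ k :=
  smul_pow w A k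

end scale

section single
variable {F K : Type*} [Field F] [Field K] [Algebra F K] [FiniteDimensional F K] [Finite K]
variable {V : Type u} [AddCommGroup V] [Module F V] [Module K V] [IsScalarTower F K V]
  [FiniteDimensional K V]
variable {σ : K →ₐ[F] K} {H : V → V → K}

/-- isometries killed by a polynomial all of whose blocks have dimension `d` -/
theorem thmU_of_kill (hσ2 : ∀ x, σ (σ x) = x) (hσ1 : ∃ c, σ c ≠ c) {M : ℕ} (hM : 1 ≤ M)
    (hMK : (M : K) ≠ 0) (d : ℕ) (A : Module.End K V) (hA : UInv σ A H) (hAM : A ^ M = 1)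
    (P : K[X]) (hkill : aeval A P = 0)
    (hP : ∀ f ∈ irrFactors (X ^ M - 1 : K[X]), f ∣ P →
      (cblockPoly M (σ : K →+* K) f).natDegree = d) :
    d ∣ finrank K V ∧ ∀ t, d * t ≤ finrank K V → FixN H A (d * t) := by
  apply thmU hσ2 hσ1 hM hMK d _ H A rfl hA hAM
  intro f hf hfk
  exact hP f hf (dvd_of_kdim_ne_zero A P f hkill (irrFactors_irreducible hf) hfk)

/-- invariant nondegenerate subspaces have dimension divisible by `d` -/
theorem dvd_finrank_of_kill (hσ2 : ∀ x, σ (σ x) = x) (hσ1 : ∃ c, σ c ≠ c) {M : ℕ} (hM : 1 ≤ M)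
    (hMK : (M : K) ≠ 0) (d : ℕ) (A : Module.End K V) (hA : UInv σ A H) (hAM : A ^ M = 1)
    (P : K[X]) (hkill : aeval A P = 0)
    (hP : ∀ f ∈ irrFactors (X ^ M - 1 : K[X]), f ∣ P →
      (cblockPoly M (σ : K →+* K) f).natDegree = d)
    (W : Submodule K V) (hWnd : NdOn H W) (hWinv : ∀ v ∈ W, A v ∈ W) : d ∣ finrank K W := by
  have hA' := uinv_restrict hA W hWnd hWinv
  have hAM' := Cfsg.Agent.Helper13.SpTi.restrict_pow_eq_one A hAM W hWinv
  have hkill' : aeval (A.restrict hWinv) P = 0 := by
    apply LinearMap.ext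
    intro x
    apply Subtype.ext
    rw [aeval_restrict_apply, hkill]
    rfl
  exact (thmU_of_kill hσ2 hσ1 hM hMK d _ hA' hAM' P hkill' hP).1

end single

section order
variable {r q : ℕ}

/-- the order of `q` modulo an odd prime `r` is `2` exactly when `r` divides `q + 1` -/
theorem orderOf_eq_two_iff (hr : r.Prime) (hr2 : r ≠ 2) :
    orderOf (q : ZMod r) = 2 ↔ r ∣ q + 1 := by
  haveI : Fact r.Prime := ⟨hr⟩
  have hne : (-1 : ZMod r) ≠ 1 := by
    intro h
    have h2 : (2 : ZMod r) = 0 := by linear_combination -h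
    have h3 : ((2 : ℕ) : ZMod r) = 0 := by exact_mod_cast h2
    rw [ZMod.natCast_eq_zero_iff] at h3
    have := (Nat.prime_dvd_prime_iff_eq hr Nat.prime_two).1 h3
    exact hr2 this
  constructor
  · intro h
    have h1 : (q : ZMod r) ^ 2 = 1 := by
      rw [← h]
      exact pow_orderOf_eq_one _
    have h2 : (q : ZMod r) ≠ 1 := by
      intro h1'
      rw [h1', orderOf_one] at h
      omega
    have h3 : ((q : ZMod r) - 1) * ((q : ZMod r) + 1) = 0 := by linear_combination h1
    rcases mul_eq_zero.1 h3 with h4 | h4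
    · exact absurd (sub_eq_zero.1 h4) h2
    · rw [← ZMod.natCast_eq_zero_iff]
      push_cast
      exact h4
  · intro h
    rw [← ZMod.natCast_eq_zero_iff] at h
    push_cast at h
    have hq : (q : ZMod r) = -1 := by linear_combination h
    apply orderOf_eq_prime
    · rw [hq]
      norm_num
    · rw [hq]
      exact hne

end order

end Cfsg.Agent.Helper13.SuNd
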