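import Mathlib
import Cfsg.Agent.Lib.Helper13.SuNd7

set_option autoImplicit false
set_option linter.unusedSectionVars false

/-!
# Unitary matrices whose `r`-th power is scalar, `r` an odd prime different from the
characteristic: the case where the scalar is an `r`-th power, and the criterion when `r` does
not divide `q + 1`
-/

namespace Cfsg.Agent.Helper13.SuNd

open Polynomial Module Cfsg.Agent.Helper13.Uni Cfsg.Agent.Helper13.SS
  Cfsg.Agent.Helper13.HermSS Cfsg.Agent.Helper13.Dual Cfsg.Agent.Helper13.SympSS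
open scoped Classical

universe u

section pres
variable {K : Type*} [Field K] {n q : ℕ}

theorem pres_one : Pres q (1 : Matrix (Fin n) (Fin n) K) := by
  intro u v
  rw [Matrix.one_mulVec, Matrix.one_mulVec]

theorem pres_mul {g h : Matrix (Fin n) (Fin n) K} (hg : Pres q g) (hh : Pres q h) :
    Pres q (g * h) := by
  intro u v
  rw [← Matrix.mulVec_mulVec, ← Matrix.mulVec_mulVec, hg, hh]

theorem pres_pow {g : Matrix (Fin n) (Fin n) K} (hg : Pres q g) (k : ℕ) : Pres q (g ^ k) := by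
  induction k with
  | zero => rw [pow_zero]; exact pres_one
  | succ k ih => rw [pow_succ]; exact pres_mul ih hg

/-- the scalar `z` with `g ^ r = z` has norm one -/
theorem norm_of_pow_scalar (hq : q ≠ 0) (hn : 0 < n) {g : Matrix (Fin n) (Fin n) K}
    (hg : Pres q g) (r : ℕ) (z : K) (hgz : g ^ r = z • 1) : z ^ (q + 1) = 1 := by
  have h1 := scalar_norm hq hn z (hgz ▸ pres_pow hg r)
  rw [pow_succ, mul_comm]
  exact h1

theorem toLin'_pow_scalar (g : Matrix (Fin n) (Fin n) K) (r : ℕ) (z : K) (hgz : g ^ r = z • 1) :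
    (Matrix.toLin' g) ^ r = z • (1 : Module.End K (Fin n → K)) := by
  rw [toLin'_pow_eq, hgz, map_smul, Matrix.toLin'_one]
  rfl

theorem toLin'_scalar (z : K) :
    Matrix.toLin' (z • (1 : Matrix (Fin n) (Fin n) K)) = z • (1 : Module.End K (Fin n → K)) := by
  rw [map_smul, Matrix.toLin'_one]
  rfl

end pres

section root
variable {F : Type*} {K : Type*} [Field F] [Field K] [Fintype K] [Algebra F K]
  [FiniteDimensional F K] {p : ℕ} [Fact p.Prime] [CharP K p] {r q : ℕ} {σ : K →ₐ[F] K}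
variable {V : Type u} [AddCommGroup V] [Module F V] [Module K V] [IsScalarTower F K V]
  [FiniteDimensional K V] {H : V → V → K}

/-- if the scalar is an `r`-th power of an element of norm one, the element is a scalar multiple
of an isometry of order `r` -/
theorem fixN_of_root (hK : Fintype.card K = q ^ 2) (hσ : ∀ x, σ x = x ^ q)
    (hσ2 : ∀ x, σ (σ x) = x) (hσ1 : ∃ c, σ c ≠ c) (hr : r.Prime) (hr2 : r ≠ 2) (hrp : r ≠ p)
    (i b c : ℕ) (hi : i = orderOf (q : ZMod r)) (hb : b = if Even i then i / 2 else i)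
    (hc : c = if i % 4 = 0 then i else if i % 4 = 2 then i / 2 else 2 * i)
    (A : Module.End K V) (hA : UInv σ A H) (z w : K) (hAr : A ^ r = z • 1) (hw : w ^ r = z)
    (hwn : w ^ (q + 1) = 1) (m : ℕ) (hm : m ≤ finrank K V)
    (hcond : m % c ≤ finrank K V % c) : FixN H A m := by
  have hq := q_pos hK
  have hw0 : w ≠ 0 := by
    rintro rfl
    rw [zero_pow (by omega)] at hwn
    exact zero_ne_one hwn
  have hwσ : w⁻¹ * σ w⁻¹ = 1 := by
    rw [hσ, inv_pow, ← mul_inv, ← pow_succ', hwn, inv_one]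
  have hA' : UInv σ (w⁻¹ • A) H := uinv_smul hA w⁻¹ hwσ
  have hAr' : (w⁻¹ • A) ^ r = 1 := by
    rw [smul_pow_end, hAr, smul_smul, inv_pow, hw, inv_mul_cancel₀, one_smul]
    rw [← hw]
    exact pow_ne_zero _ hw0
  have := ss_suff hK hσ hσ2 hσ1 hr hr2 hrp i b c hi hb hc _ hA' hAr' m hm hcond
  exact (fixN_smul_iff A w⁻¹ (inv_ne_zero hw0) m).1 this

end root

section coprime
variable {F : Type*} {K : Type u} [Field F] [Field K] [Fintype K] [Algebra F K]
  [FiniteDimensional F K] {p : ℕ} [Fact p.Prime] [CharP K p] {r q : ℕ} {σ : K →ₐ[F] K}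

theorem finrank_fin_fun' (n : ℕ) : finrank K (Fin n → K) = n := Module.finrank_fin_fun K

/-- sufficiency when `r` does not divide `q + 1` -/
theorem odd_suff_coprime (hK : Fintype.card K = q ^ 2) (hσ : ∀ x, σ x = x ^ q)
    (hσ2 : ∀ x, σ (σ x) = x) (hσ1 : ∃ c, σ c ≠ c) (hr : r.Prime) (hr2 : r ≠ 2) (hrp : r ≠ p)
    (i b c : ℕ) (hi : i = orderOf (q : ZMod r)) (hb : b = if Even i then i / 2 else i)
    (hc : c = if i % 4 = 0 then i else if i % 4 = 2 then i / 2 else 2 * i)
    (hcop : ¬ r ∣ q + 1) (n m : ℕ) (hn : 0 < n) (hmn : m ≤ n) (hcond : m % c ≤ n % c)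
    (g : Matrix (Fin n) (Fin n) K) (hg : Pres q g) (z : K) (hgz : g ^ r = z • 1) :
    FixN (Cfsg.hermForm n K q) (Matrix.toLin' g) m := by
  have hq := q_pos hK
  have hz := norm_of_pow_scalar (by omega) hn hg r z hgz
  obtain ⟨w, hw, hwn⟩ := exists_root_coprime r ((Nat.Prime.coprime_iff_not_dvd hr).2 hcop)
    (by omega) z hz
  apply fixN_of_root hK hσ hσ2 hσ1 hr hr2 hrp i b c hi hb hc _ (uinv_toLin' hσ hσ2 g hg) z w
    (toLin'_pow_scalar g r z hgz) hw hwn m
  · rw [finrank_fin_fun']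
    exact hmn
  · rw [finrank_fin_fun']
    exact hcond

/-- unitary matrices of order `r` have determinant one when `r` does not divide `q + 1` -/
theorem det_eq_one_of_coprime (hK : Fintype.card K = q ^ 2) (hr : r.Prime) (hcop : ¬ r ∣ q + 1)
    {n : ℕ} (g : Matrix (Fin n) (Fin n) K) (hg : Pres q g) (hgr : g ^ r = 1) : g.det = 1 := by
  have h1 : g.det ^ r = 1 := by
    rw [← Matrix.det_pow, hgr, Matrix.det_one]
  have h2 : g.det ^ (q + 1) = 1 := by
    rw [pow_succ, mul_comm]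
    exact hg.det_norm hK
  have hc : Nat.gcd r (q + 1) = 1 :=
    Nat.coprime_iff_gcd_eq_one.1 ((Nat.Prime.coprime_iff_not_dvd hr).2 hcop)
  have h3 := (pow_gcd_eq_one (a := g.det) (m := r) (n := q + 1)).2 ⟨h1, h2⟩
  rwa [hc, pow_one] at h3

theorem kdim_one (n : ℕ) :
    kdim (Matrix.toLin' (1 : Matrix (Fin n) (Fin n) K)) (X - 1) = n := by
  unfold kdim
  rw [Matrix.toLin'_one]
  have : aeval (LinearMap.id : Module.End K (Fin n → K)) (X - 1 : K[X]) = 0 := by
    rw [map_sub, aeval_X, map_one]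
    exact sub_self _
  rw [this, LinearMap.ker_zero, finrank_top, finrank_fin_fun']

/-- necessity when `r` does not divide `q + 1` -/
theorem odd_nec_coprime (hK : Fintype.card K = q ^ 2) (hσ : ∀ x, σ x = x ^ q)
    (hσ2 : ∀ x, σ (σ x) = x) (hσ1 : ∃ c, σ c ≠ c) (hr : r.Prime) (hr2 : r ≠ 2) (hrp : r ≠ p)
    (i b c : ℕ) (hi : i = orderOf (q : ZMod r)) (hb : b = if Even i then i / 2 else i)
    (hc : c = if i % 4 = 0 then i else if i % 4 = 2 then i / 2 else 2 * i)
    (hcop : ¬ r ∣ q + 1) (n m : ℕ) (hn : 0 < n) (hmn : m < n)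
    (hrΩ : r ∣ Nat.card (NdSubS (Cfsg.hermForm n K q) m))
    (hall : ∀ g : Matrix (Fin n) (Fin n) K, Pres q g → g.det = 1 → g ^ r = 1 →
      (∀ z : K, g ≠ z • 1) → FixN (Cfsg.hermForm n K q) (Matrix.toLin' g) m) :
    c ≤ m ∧ m % c ≤ n % c := by
  have hq := q_pos hK
  have hc0 := c_pos hK hr hrp i c hi hc
  obtain ⟨y, hyP, hyr, hyk⟩ := exists_unit_elt_u hK hσ hσ2 hσ1 hr hr2 hrp i b c hi hb hc n (n / c)
    (Nat.mul_div_le _ _)
  have hfix : kdim (Matrix.toLin' y) (X - 1) = n % c := by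
    rw [hyk]
    have := Nat.div_add_mod n c
    omega
  have hfixlt : kdim (Matrix.toLin' y) (X - 1) < c := by
    rw [hfix]
    exact Nat.mod_lt _ hc0
  have hA := uinv_toLin' hσ hσ2 y hyP
  have hAr : Matrix.toLin' y ^ r = 1 := toLin'_pow_eq_one y r hyr
  have hdet := det_eq_one_of_coprime hK hr hcop y hyP hyr
  have h1 : m % c ≤ n % c := by
    by_contra hcon
    push Not at hcon
    have hcn : c ≤ n := by
      by_contra hlt
      push Not at hlt
      rw [Nat.mod_eq_of_lt hlt] at hcon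
      have := Nat.mod_le m c
      omega
    have hns : ∀ z : K, y ≠ z • 1 := by
      intro z hyz
      have hz := norm_of_pow_scalar (by omega) hn hyP 1 z (by
        rw [pow_one]
        exact hyz)
      have hzr : z ^ r = 1 := by
        have h2 := hyr
        rw [hyz, _root_.smul_pow, one_pow] at h2
        have h3 := congrFun (congrFun h2 ⟨0, hn⟩) ⟨0, hn⟩
        simpa using h3
      have hcg : Nat.gcd r (q + 1) = 1 :=
        Nat.coprime_iff_gcd_eq_one.1 ((Nat.Prime.coprime_iff_not_dvd hr).2 hcop)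
      have h3 := (pow_gcd_eq_one (a := z) (m := r) (n := q + 1)).2 ⟨hzr, hz⟩
      rw [hcg, pow_one] at h3
      rw [h3, one_smul] at hyz
      rw [hyz, kdim_one] at hfix
      have := Nat.mod_lt n hc0
      omega
    obtain ⟨W, hWm, hWnd, hWinv⟩ := hall y hyP hdet hyr hns
    obtain ⟨e, t, h1, h2, -⟩ := units_of_nd hK hσ hσ2 hσ1 hr hr2 hrp i b c hi hb hc _ hA hAr W
      hWinv hWnd
    rw [hWm] at h1
    have h3 : m % c = e := by
      rw [h1, Nat.add_mul_mod_self_left]
      exact Nat.mod_eq_of_lt (by omega)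
    omega
  refine ⟨?_, h1⟩
  by_contra hlt
  push Not at hlt
  rw [Nat.mod_eq_of_lt hlt] at h1
  exact not_dvd_of_lt hK hσ hσ2 hσ1 hr hr2 hrp i b c hi hb hc _ hA hAr hfixlt m hlt
    (by omega) hrΩ

end coprime

end Cfsg.Agent.Helper13.SuNd
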