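import Mathlib
import Cfsg.Agent.Lib.Helper13.SuNd8

set_option autoImplicit false
set_option linter.unusedSectionVars false

/-!
# Odd primes dividing `q + 1`: unitary matrices whose `r`-th power is a scalar that is not an
`r`-th power
-/

namespace Cfsg.Agent.Helper13.SuNd

open Polynomial Module Cfsg.Agent.Helper13.Uni Cfsg.Agent.Helper13.SS
  Cfsg.Agent.Helper13.HermSS Cfsg.Agent.Helper13.Dual Cfsg.Agent.Helper13.SympSS
open scoped Classical

universe u

section field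
variable {K : Type*} [Field K] [Fintype K] {p : ℕ} [Fact p.Prime] [CharP K p] {r q : ℕ}

theorem cast_q_eq_zero (p : ℕ) [Fact p.Prime] [CharP K p] (hK : Fintype.card K = q ^ 2) :
    (q : K) = 0 := by
  obtain ⟨k, hk, hk2⟩ := exists_card_pow (F := K) (p := p) hK
  have hp : p.Prime := Fact.out
  have h1 : p ∣ q ^ 2 := by
    rw [hk2]
    exact dvd_pow_self p (by omega)
  have h2 : p ∣ q := hp.dvd_of_dvd_pow h1
  exact (CharP.cast_eq_zero_iff K p q).2 h2

theorem cast_mul_ne_zero (hK : Fintype.card K = q ^ 2) (hr : r.Prime) (hrp : r ≠ p) :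
    ((r * (q + 1) : ℕ) : K) ≠ 0 := by
  push_cast
  rw [cast_q_eq_zero p hK, zero_add, mul_one]
  exact cast_ne_zero_of_prime_ne hr hrp

theorem not_dvd_sub_one (hr : r.Prime) (hr2 : r ≠ 2) (hq : 1 ≤ q) (hrq : r ∣ q + 1) :
    ¬ r ∣ q - 1 := by
  intro h3
  have h4 : r ∣ (q + 1) - (q - 1) := Nat.dvd_sub hrq h3
  have h5 : (q + 1) - (q - 1) = 2 := by omega
  rw [h5] at h4
  exact hr2 ((Nat.prime_dvd_prime_iff_eq hr Nat.prime_two).1 h4)

/-- a scalar of norm one which is not an `r`-th power, of `r`-power order -/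
theorem exists_nonpower (hK : Fintype.card K = q ^ 2) (hr : r.Prime) (hr2 : r ≠ 2)
    (hrq : r ∣ q + 1) (k : ℕ) (hk : r ^ padicValNat r (q + 1) ∣ k) :
    ∃ z : K, z ^ (q + 1) = 1 ∧ Irreducible (X ^ r - C z : K[X]) ∧ z ^ k = 1 := by
  haveI : Fact r.Prime := ⟨hr⟩
  have hq := q_pos hK
  obtain ⟨a, ha⟩ : ∃ a, a = padicValNat r (q + 1) := ⟨_, rfl⟩
  rw [← ha] at hk
  obtain ⟨s, hs⟩ : r ^ a ∣ q + 1 := by
    rw [ha]
    exact pow_padicValNat_dvd
  have hrs : ¬ r ∣ s := by
    intro ⟨s', hs'⟩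
    have : r ^ (a + 1) ∣ q + 1 := ⟨s', by rw [hs, hs', pow_succ]; ring⟩
    rw [ha] at this
    exact pow_succ_padicValNat_not_dvd (by omega) this
  have hra0 : 0 < r ^ a := pow_pos hr.pos a
  obtain ⟨γ, hγ0, hγ, hgen⟩ := exists_gen hK
  have hN : q ^ 2 - 1 = r ^ a * (s * (q - 1)) := by
    rw [sq_sub_one_eq (by omega), hs]
    ring
  set z : K := γ ^ (s * (q - 1)) with hz
  have hzra : z ^ (r ^ a) = 1 := by
    rw [hz, ← pow_mul, mul_comm, ← hN, ← hγ]
    exact pow_orderOf_eq_one γ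
  refine ⟨z, ?_, ?_, ?_⟩
  · rw [hs, pow_mul, hzra, one_pow]
  · rw [X_pow_sub_C_irreducible_iff_of_prime hr]
    intro b hb
    have hb0 : b ≠ 0 := by
      rintro rfl
      rw [zero_pow hr.ne_zero] at hb
      exact pow_ne_zero _ hγ0 hb.symm
    obtain ⟨j, rfl⟩ := hgen b hb0
    have hfo : IsOfFinOrder γ := by
      rw [← orderOf_pos_iff, hγ]
      have : 2 ^ 2 ≤ q ^ 2 := Nat.pow_le_pow_left hq 2
      omega
    rw [hz, ← pow_mul, hfo.pow_eq_pow_iff_modEq, hγ] at hb
    have hrN : r ∣ q ^ 2 - 1 := by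
      rw [sq_sub_one_eq (by omega)]
      exact dvd_mul_of_dvd_left hrq _
    have h1 : r ∣ s * (q - 1) := (Nat.ModEq.dvd_iff hb hrN).1 (dvd_mul_left r j)
    rcases (Nat.Prime.dvd_mul hr).1 h1 with h2 | h2
    · exact hrs h2
    · exact not_dvd_sub_one hr hr2 (by omega) hrq h2
  · obtain ⟨k', rfl⟩ := hk
    rw [pow_mul, hzra, one_pow]

end field

section irr
variable {F : Type*} {K : Type*} [Field F] [Field K] [Fintype K] [Algebra F K]
  [FiniteDimensional F K] {p : ℕ} [Fact p.Prime] [CharP K p] {r q : ℕ} {σ : K →ₐ[F] K}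

theorem f_dvd (r : ℕ) (z : K) (hz : z ^ (q + 1) = 1) :
    (X ^ r - C z : K[X]) ∣ X ^ (r * (q + 1)) - 1 := by
  have h1 := sub_dvd_pow_sub_pow (X ^ r : K[X]) (C z) (q + 1)
  rwa [← pow_mul, ← C_pow, hz, C_1] at h1

theorem f_monic (hr : r.Prime) (z : K) : (X ^ r - C z : K[X]).Monic :=
  monic_X_pow_sub_C z hr.ne_zero

theorem f_mem (hr : r.Prime) (z : K) (hz : z ^ (q + 1) = 1)
    (hirr : Irreducible (X ^ r - C z : K[X])) :
    (X ^ r - C z : K[X]) ∈ irrFactors (X ^ (r * (q + 1)) - 1 : K[X]) :=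
  mem_irrFactors_of_dvd (X_pow_sub_one_monic (Nat.mul_pos hr.pos (by omega))).ne_zero hirr
    (f_monic hr z) (f_dvd r z hz)

theorem cdual_f (hσ : ∀ x, σ x = x ^ q) (hσ2 : ∀ x, σ (σ x) = x) (hr : r.Prime) (z : K)
    (hz : z ^ (q + 1) = 1) (hirr : Irreducible (X ^ r - C z : K[X])) :
    cdual (r * (q + 1)) (σ : K →+* K) (X ^ r - C z) = X ^ r - C z := by
  have hσ2' : ∀ x, (σ : K →+* K) ((σ : K →+* K) x) = x := hσ2
  have hzσ : z * (σ : K →+* K) z = 1 := by
    show z * σ z = 1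
    rw [hσ, ← pow_succ']
    exact hz
  have hP := Cfsg.Agent.Helper13.ProjP.cpal_X_pow_sub_C hr.ne_zero z hzσ
  have hM : 1 ≤ r * (q + 1) := Nat.mul_pos hr.pos (by omega)
  have h1 := cdual_dvd_of_cpal hσ2' hM hirr (f_dvd r z hz) hP dvd_rfl
  exact Polynomial.eq_of_monic_of_associated (cdual_monic hirr) (f_monic hr z)
    ((cdual_irreducible hσ2' hirr).associated_of_dvd hirr h1)

theorem natDegree_cblock_f (hσ : ∀ x, σ x = x ^ q) (hσ2 : ∀ x, σ (σ x) = x) (hr : r.Prime)
    (z : K) (hz : z ^ (q + 1) = 1) (hirr : Irreducible (X ^ r - C z : K[X])) :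
    (cblockPoly (r * (q + 1)) (σ : K →+* K) (X ^ r - C z)).natDegree = r := by
  unfold cblockPoly
  rw [if_pos (cdual_f hσ hσ2 hr z hz hirr)]
  exact natDegree_X_pow_sub_C

variable {V : Type u} [AddCommGroup V] [Module F V] [Module K V] [IsScalarTower F K V]
  [FiniteDimensional K V] {H : V → V → K}

theorem aeval_f (A : Module.End K V) (z : K) (hAr : A ^ r = z • 1) :
    aeval A (X ^ r - C z : K[X]) = 0 := by
  rw [map_sub, map_pow, aeval_X, aeval_C, hAr, Algebra.algebraMap_eq_smul_one, sub_self]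

theorem pow_M_eq_one (A : Module.End K V) (z : K) (hz : z ^ (q + 1) = 1) (hAr : A ^ r = z • 1) :
    A ^ (r * (q + 1)) = 1 := by
  rw [pow_mul, hAr, _root_.smul_pow, one_pow, hz, one_smul]

/-- the structure of an isometry with `A ^ r = z`, `X ^ r - z` irreducible -/
theorem irr_struct (hK : Fintype.card K = q ^ 2) (hσ : ∀ x, σ x = x ^ q)
    (hσ2 : ∀ x, σ (σ x) = x) (hσ1 : ∃ c, σ c ≠ c) (hr : r.Prime) (hrp : r ≠ p)
    (A : Module.End K V) (hA : UInv σ A H) (z : K) (hz : z ^ (q + 1) = 1)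
    (hirr : Irreducible (X ^ r - C z : K[X])) (hAr : A ^ r = z • 1) :
    r ∣ finrank K V ∧ ∀ t, r * t ≤ finrank K V → FixN H A (r * t) := by
  have hM : 1 ≤ r * (q + 1) := Nat.mul_pos hr.pos (by omega)
  apply thmU_of_kill hσ2 hσ1 hM (cast_mul_ne_zero hK hr hrp) r A hA (pow_M_eq_one A z hz hAr)
    (X ^ r - C z) (aeval_f A z hAr)
  intro f hf hfd
  have : f = X ^ r - C z := Polynomial.eq_of_monic_of_associated (irrFactors_monic hf)
    (f_monic hr z) ((irrFactors_irreducible hf).associated_of_dvd hirr hfd)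
  rw [this]
  exact natDegree_cblock_f hσ hσ2 hr z hz hirr

/-- invariant subspaces have dimension divisible by `r` -/
theorem dvd_finrank_of_irr (hr : r.Prime) (A : Module.End K V) (z : K)
    (hirr : Irreducible (X ^ r - C z : K[X])) (hAr : A ^ r = z • 1) (W : Submodule K V)
    (hWinv : ∀ v ∈ W, A v ∈ W) : r ∣ finrank K W := by
  have h1 := dvd_kdim (A.restrict hWinv) _ hirr
  rw [natDegree_X_pow_sub_C] at h1
  have h2 : kdim (A.restrict hWinv) (X ^ r - C z) = finrank K W := by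
    unfold kdim
    have : aeval (A.restrict hWinv) (X ^ r - C z : K[X]) = 0 := by
      apply LinearMap.ext
      intro x
      apply Subtype.ext
      rw [aeval_restrict_apply, aeval_f A z hAr]
      rfl
    rw [this, LinearMap.ker_zero, finrank_top]
  rwa [h2] at h1

end irr

section det
variable {K : Type*} [Field K] [Fintype K] {r n : ℕ}

/-- the characteristic polynomial of a matrix with `g ^ r = z`, `X ^ r - z` irreducible -/
theorem charpoly_of_irr (hr : r.Prime) (g : Matrix (Fin n) (Fin n) K) (z : K)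
    (hirr : Irreducible (X ^ r - C z : K[X])) (hgz : g ^ r = z • 1) :
    g.charpoly = (X ^ r - C z) ^ (n / r) := by
  set A := Matrix.toLin' g with hA
  have hAr := toLin'_pow_scalar g r z hgz
  have hkill : aeval A (∏ f ∈ ({X ^ r - C z} : Finset K[X]), f) = 0 := by
    rw [Finset.prod_singleton]
    exact aeval_f A z hAr
  have h1 := charpoly_eq_prod ({X ^ r - C z} : Finset K[X])
    (fun f hf => by rw [Finset.mem_singleton.1 hf]; exact hirr)
    (fun f hf => by rw [Finset.mem_singleton.1 hf]; exact f_monic hr z) A hkill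
  rw [Finset.prod_singleton, natDegree_X_pow_sub_C] at h1
  have h2 : kdim A (X ^ r - C z) = n := by
    unfold kdim
    rw [aeval_f A z hAr, LinearMap.ker_zero, finrank_top, Module.finrank_fin_fun]
  rw [h2, hA, Matrix.charpoly_toLin'] at h1
  exact h1

theorem det_of_irr (hr : r.Prime) (hr2 : r ≠ 2) (g : Matrix (Fin n) (Fin n) K) (z : K)
    (hrn : r ∣ n) (hc : g.charpoly = (X ^ r - C z) ^ (n / r)) : g.det = z ^ (n / r) := by
  obtain ⟨k, rfl⟩ := hrn
  rw [Nat.mul_div_cancel_left k hr.pos] at hc ⊢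
  rw [det_of_charpoly, hc, coeff_zero_eq_eval_zero, eval_pow, eval_sub, eval_pow, eval_X, eval_C,
    zero_pow hr.ne_zero, zero_sub, neg_pow z, ← mul_assoc, ← pow_add]
  have hodd : Odd r := hr.eq_two_or_odd'.resolve_left hr2
  obtain ⟨j, hj⟩ := hodd
  have : Even (r * k + k) := by
    rw [hj]
    exact ⟨(j + 1) * k, by ring⟩
  rw [this.neg_one_pow, one_mul]

end det

end Cfsg.Agent.Helper13.SuNd
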