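import Mathlib
import Cfsg.Agent.Lib.Helper13.SuNd9

set_option autoImplicit false
set_option linter.unusedSectionVars false

/-!
# Odd primes dividing `q + 1`: the criterion
-/

namespace Cfsg.Agent.Helper13.SuNd

open Polynomial Module Cfsg.Agent.Helper13.Uni Cfsg.Agent.Helper13.SS
  Cfsg.Agent.Helper13.HermSS Cfsg.Agent.Helper13.Dual Cfsg.Agent.Helper13.SympSS
open scoped Classical

universe u

section main
variable {F : Type*} {K : Type u} [Field F] [Field K] [Fintype K] [Algebra F K]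
  [FiniteDimensional F K] {p : ℕ} [Fact p.Prime] [CharP K p] {r q : ℕ} {σ : K →ₐ[F] K}

theorem scalar_pow_eq {n : ℕ} (hn : 0 < n) (w z : K) (k : ℕ)
    (h : (w • (1 : Matrix (Fin n) (Fin n) K)) ^ k = z • 1) : w ^ k = z := by
  rw [_root_.smul_pow, one_pow] at h
  have h3 := congrFun (congrFun h ⟨0, hn⟩) ⟨0, hn⟩
  simpa using h3

/-- sufficiency when `r` divides `q + 1` -/
theorem odd_suff_dvd (hK : Fintype.card K = q ^ 2) (hσ : ∀ x, σ x = x ^ q)
    (hσ2 : ∀ x, σ (σ x) = x) (hσ1 : ∃ c, σ c ≠ c) (hr : r.Prime) (hr2 : r ≠ 2) (hrp : r ≠ p)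
    (hrq : r ∣ q + 1) (n m : ℕ) (hn : 0 < n) (hmn : m ≤ n)
    (hcond : r ∣ m ∨ padicValNat r n ≤ padicValNat r (q + 1))
    (g : Matrix (Fin n) (Fin n) K) (hg : Pres q g) (hdet : g.det = 1) (z : K)
    (hgz : g ^ r = z • 1) : FixN (Cfsg.hermForm n K q) (Matrix.toLin' g) m := by
  have hq := q_pos hK
  have hz := norm_of_pow_scalar (by omega) hn hg r z hgz
  have hA := uinv_toLin' hσ hσ2 g hg
  have hAr := toLin'_pow_scalar g r z hgz
  have hz0 : z ≠ 0 := by
    rintro rfl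
    rw [zero_pow (by omega)] at hz
    exact zero_ne_one hz
  by_cases hirr : Irreducible (X ^ r - C z : K[X])
  · obtain ⟨hrn, hfix⟩ := irr_struct hK hσ hσ2 hσ1 hr hrp _ hA z hz hirr hAr
    rw [finrank_fin_fun'] at hrn hfix
    rcases hcond with hrm | hv
    · obtain ⟨t, rfl⟩ := hrm
      exact hfix t hmn
    · exfalso
      have hdet' := det_of_irr hr hr2 g z hrn (charpoly_of_irr hr g z hirr hgz)
      rw [hdet] at hdet'
      have h1 := pow_div_eq_one r hr (q + 1) n (by omega) hn hrq hrn hv z hz hdet'.symm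
      obtain ⟨w, hw⟩ := exists_root_of_pow_div hK r hr.pos hrq z hz0 h1
      exact (X_pow_sub_C_irreducible_iff_of_prime hr).1 hirr w hw
  · rw [X_pow_sub_C_irreducible_iff_of_prime hr] at hirr
    push Not at hirr
    obtain ⟨b, hb⟩ := hirr
    have hbn := norm_root hK r hr hr2 hrq b z hb hz
    have hi2 : orderOf (q : ZMod r) = 2 := (orderOf_eq_two_iff hr hr2).2 hrq
    apply fixN_of_root hK hσ hσ2 hσ1 hr hr2 hrp (orderOf (q : ZMod r)) 1 1 rfl
      (by rw [hi2]; norm_num) (by rw [hi2]; norm_num) _ hA z b hAr hb hbn m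
    · rw [finrank_fin_fun']
      exact hmn
    · rw [Nat.mod_one, Nat.mod_one]

/-- necessity when `r` divides `q + 1` -/
theorem odd_nec_dvd (hK : Fintype.card K = q ^ 2) (hσ : ∀ x, σ x = x ^ q)
    (hσ2 : ∀ x, σ (σ x) = x) (hσ1 : ∃ c, σ c ≠ c) (hr : r.Prime) (hr2 : r ≠ 2) (hrp : r ≠ p)
    (hrq : r ∣ q + 1) (n m : ℕ) (hn : 0 < n)
    (hall : ∀ g : Matrix (Fin n) (Fin n) K, Pres q g → g.det = 1 → (∃ z : K, g ^ r = z • 1) →
      (∀ z : K, g ≠ z • 1) → FixN (Cfsg.hermForm n K q) (Matrix.toLin' g) m) :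
    r ∣ m ∨ padicValNat r n ≤ padicValNat r (q + 1) := by
  haveI : Fact r.Prime := ⟨hr⟩
  have hq := q_pos hK
  by_contra hcon
  push Not at hcon
  obtain ⟨hrm, hv⟩ := hcon
  obtain ⟨a, ha⟩ : ∃ a, a = padicValNat r (q + 1) := ⟨_, rfl⟩
  rw [← ha] at hv
  have h1 : r ^ (a + 1) ∣ n := dvd_trans (pow_dvd_pow r hv) pow_padicValNat_dvd
  have hrn : r ∣ n := dvd_trans (dvd_pow_self r (by omega)) h1
  obtain ⟨k, hk⟩ := hrn
  have hk0 : 0 < k := by
    rcases Nat.eq_zero_or_pos k with h | h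
    · rw [h, mul_zero] at hk
      omega
    · exact h
  have hnr : n / r = k := by rw [hk, Nat.mul_div_cancel_left k hr.pos]
  have hak : r ^ a ∣ k := by
    rw [hk, pow_succ, mul_comm] at h1
    exact Nat.dvd_of_mul_dvd_mul_left hr.pos h1
  obtain ⟨z, hz, hirr, hzk⟩ := exists_nonpower hK hr hr2 hrq k (by rw [← ha]; exact hak)
  have hM : 1 ≤ r * (q + 1) := Nat.mul_pos hr.pos (by omega)
  have hU : UReal σ (r * (q + 1)) ((X ^ r - C z : K[X]) ^ k) :=
    ureal_pow (ureal_selfdual hσ2 hσ1 hM hirr (f_monic hr z) (f_dvd r z hz)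
      (cdual_f hσ hσ2 hr z hz hirr)) k
  have hdeg : ((X ^ r - C z : K[X]) ^ k).natDegree = n := by
    rw [(f_monic hr z).natDegree_pow, natDegree_X_pow_sub_C, hk, mul_comm]
  obtain ⟨g, hgP, hgM, hgc⟩ := hU.exists_matrix σ hσ hσ2 hσ1 n hdeg
  have hkill := aeval_eq_zero_of_charpoly_pow' g (r * (q + 1)) (cast_mul_ne_zero hK hr hrp) hgM
    (X ^ r - C z) k (by omega) hgc
  have hgz : g ^ r = z • 1 := by
    rw [map_sub, map_pow, aeval_X, aeval_C, sub_eq_zero, Algebra.algebraMap_eq_smul_one] at hkill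
    exact hkill
  have hdet : g.det = 1 := by
    rw [det_of_irr hr hr2 g z ⟨k, hk⟩ (by rw [hnr]; exact hgc), hnr, hzk]
  have hns : ∀ w : K, g ≠ w • 1 := by
    intro w hw
    rw [hw] at hgz
    exact (X_pow_sub_C_irreducible_iff_of_prime hr).1 hirr w (scalar_pow_eq hn w z r hgz)
  obtain ⟨W, hWm, -, hWinv⟩ := hall g hgP hdet ⟨z, hgz⟩ hns
  have := dvd_finrank_of_irr hr _ z hirr (toLin'_pow_scalar g r z hgz) W hWinv
  rw [hWm] at this
  exact hrm this

end main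

end Cfsg.Agent.Helper13.SuNd
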