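import Mathlib
import Cfsg.Agent.Lib.Helper13.SuNd10

set_option autoImplicit false
set_option linter.unusedSectionVars false

/-!
# Unitary matrices with scalar square in odd characteristic
-/

namespace Cfsg.Agent.Helper13.SuNd

open Polynomial Module Cfsg.Agent.Helper13.Uni Cfsg.Agent.Helper13.SS
  Cfsg.Agent.Helper13.HermSS Cfsg.Agent.Helper13.Dual Cfsg.Agent.Helper13.SympSS
open scoped Classical

universe u

section field
variable {K : Type*} [Field K] [Fintype K] {q : ℕ}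

/-- an element of norm `-1` with prescribed power -/
theorem exists_lambda (hK : Fintype.card K = q ^ 2) (hq2 : Odd q) (n : ℕ)
    (h : q % 4 = 1 ∨ padicValNat 2 (q + 1) < padicValNat 2 n) :
    ∃ l : K, l ^ (q + 1) = -1 ∧ (-(l * l)) ^ (n / 2) = 1 := by
  haveI : Fact (Nat.Prime 2) := ⟨Nat.prime_two⟩
  have hq := q_pos hK
  rcases h with h | h
  · have h1 : IsSquare (-1 : K) := by
      rw [FiniteField.isSquare_neg_one_iff, hK]
      have : q ^ 2 % 4 = 1 := by
        rw [Nat.pow_mod, h]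
      omega
    obtain ⟨l, hl⟩ := h1
    refine ⟨l, ?_, ?_⟩
    · obtain ⟨j, hj⟩ : ∃ j, q = 4 * j + 1 := ⟨q / 4, by omega⟩
      have e : q + 1 = 2 * (2 * j + 1) := by omega
      rw [e, pow_mul, pow_two, ← hl, Odd.neg_one_pow ⟨j, rfl⟩]
    · rw [← hl, neg_neg, one_pow]
  · obtain ⟨a, ha⟩ : ∃ a, a = padicValNat 2 (q + 1) := ⟨_, rfl⟩
    rw [← ha] at h
    have h2q : 2 ∣ q + 1 := by
      obtain ⟨j, hj⟩ := hq2
      exact ⟨j + 1, by omega⟩
    have ha1 : 1 ≤ a := by
      rw [ha]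
      exact one_le_padicValNat_of_dvd (by omega) h2q
    obtain ⟨s, hs⟩ : 2 ^ a ∣ q + 1 := by
      rw [ha]
      exact pow_padicValNat_dvd
    have hs2 : ¬ 2 ∣ s := by
      intro ⟨s', hs'⟩
      have : 2 ^ (a + 1) ∣ q + 1 := ⟨s', by rw [hs, hs', pow_succ]; ring⟩
      rw [ha] at this
      exact pow_succ_padicValNat_not_dvd (by omega) this
    obtain ⟨n', hn'⟩ : 2 ^ (a + 1) ∣ n := dvd_trans (pow_dvd_pow 2 h) pow_padicValNat_dvd
    obtain ⟨t, ht⟩ : ∃ t, q - 1 = 2 * t := by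
      obtain ⟨j, hj⟩ := hq2
      exact ⟨j, by omega⟩
    obtain ⟨γ, hγ0, hγ, hgen⟩ := exists_gen hK
    have hN : q ^ 2 - 1 = 2 ^ (a + 1) * (s * t) := by
      rw [sq_sub_one_eq (by omega), hs, ht, pow_succ]
      ring
    set l : K := γ ^ (s * t) with hl
    have hl1 : l ^ (2 ^ (a + 1)) = 1 := by
      rw [hl, ← pow_mul, mul_comm, ← hN, ← hγ]
      exact pow_orderOf_eq_one γ
    refine ⟨l, ?_, ?_⟩
    · have h1 : l ^ (q + 1) * l ^ (q + 1) = 1 := by
        rw [← pow_add, hs]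
        have : 2 ^ a * s + 2 ^ a * s = 2 ^ (a + 1) * s := by
          rw [pow_succ]
          ring
        rw [this, pow_mul, hl1, one_pow]
      rcases mul_self_eq_one_iff.1 h1 with h3 | h3
      · exfalso
        rw [hl, ← pow_mul, ← orderOf_dvd_iff_pow_eq_one, hγ, hN, hs] at h3
        have e1 : 2 ^ (a + 1) * (s * t) = (2 ^ a * (s * t)) * 2 := by
          rw [pow_succ]
          ring
        have e2 : s * t * (2 ^ a * s) = (2 ^ a * (s * t)) * s := by ring
        rw [e1, e2] at h3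
        have hpos : 0 < 2 ^ a * (s * t) := by
          apply Nat.mul_pos (pow_pos (by norm_num) a)
          apply Nat.mul_pos
          · rcases Nat.eq_zero_or_pos s with h0 | h0
            · rw [h0, mul_zero] at hs
              omega
            · exact h0
          · omega
        exact hs2 (Nat.dvd_of_mul_dvd_mul_left hpos h3)
      · exact h3
    · have e1 : n / 2 = 2 ^ a * n' := by
        rw [hn', pow_succ, mul_assoc, mul_comm 2 n', ← mul_assoc, Nat.mul_div_cancel _ (by norm_num)]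
      have e3 : (-(l * l)) ^ (2 ^ a) = 1 := by
        obtain ⟨a', rfl⟩ : ∃ a', a = a' + 1 := ⟨a - 1, by omega⟩
        have hev : Even (2 ^ (a' + 1)) := ⟨2 ^ a', by rw [pow_succ]; ring⟩
        rw [hev.neg_pow, ← pow_two, ← pow_mul, ← pow_succ']
        exact hl1
      rw [e1, pow_mul, e3, one_pow]

end field

section lin2
variable {F : Type*} {K : Type*} [Field F] [Field K] [Fintype K] [Algebra F K]
  [FiniteDimensional F K] {p : ℕ} [Fact p.Prime] [CharP K p] {q : ℕ} {σ : K →ₐ[F] K}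

theorem two_ne_zero_of_char (hp2 : p ≠ 2) : (2 : K) ≠ 0 := by
  have := cast_ne_zero_of_prime_ne (F := K) (p := p) Nat.prime_two (Ne.symm hp2)
  exact_mod_cast this

theorem odd_q (hK : Fintype.card K = q ^ 2) (hp2 : p ≠ 2) : Odd q := by
  obtain ⟨k, hk, hk2⟩ := exists_card_pow (F := K) (p := p) hK
  have hp : p.Prime := Fact.out
  have hpodd : Odd p := hp.eq_two_or_odd'.resolve_left hp2
  have h1 : Odd (q ^ 2) := by
    rw [hk2]
    exact hpodd.pow
  rcases Nat.even_or_odd q with he | ho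
  · exfalso
    have : Even (q ^ 2) := he.pow_of_ne_zero (by norm_num)
    exact (Nat.not_even_iff_odd.2 h1) this
  · exact ho

/-- the conjugate dual of `X - a` when `a` has norm `ε = ± 1` -/
theorem cdual_lin (hσ : ∀ x, σ x = x ^ q) (hσ2 : ∀ x, σ (σ x) = x) (a ε : K) (hε : ε * ε = 1)
    (ha : a ^ (q + 1) = ε) :
    cdual (2 * (q + 1)) (σ : K →+* K) (X - C a) = X - C (ε * a) := by
  have hσ2' : ∀ x, (σ : K →+* K) ((σ : K →+* K) x) = x := hσ2
  rw [cdual_X_sub_C hσ2']
  congr 2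
  show σ (a ^ (2 * (q + 1) - 1)) = ε * a
  have ha0 : a ≠ 0 := by
    rintro rfl
    rw [zero_pow (by omega)] at ha
    rw [← ha, mul_zero] at hε
    exact zero_ne_one hε
  have haq : a ^ q ≠ 0 := pow_ne_zero _ ha0
  have e1 : 2 * (q + 1) - 1 = q + (q + 1) := by omega
  have h4 : a ^ q = ε * a⁻¹ := by
    rw [eq_mul_inv_iff_mul_eq₀ ha0, ← pow_succ]
    exact ha
  have hεinv : ε⁻¹ = ε := inv_eq_of_mul_eq_one_right hε
  have h5 : ε * a⁻¹ * ε = a⁻¹ := by
    rw [mul_comm (ε * a⁻¹) ε, ← mul_assoc, hε, one_mul]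
  rw [hσ, e1, pow_add, ha, h4, h5, inv_pow, h4, mul_inv, inv_inv, hεinv]

end lin2

end Cfsg.Agent.Helper13.SuNd
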