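import Mathlib
import Cfsg.Agent.Lib.Helper13.SuNd11

set_option autoImplicit false
set_option linter.unusedSectionVars false

/-!
# Unitary matrices with scalar square in odd characteristic: structure
-/

namespace Cfsg.Agent.Helper13.SuNd

open Polynomial Module Cfsg.Agent.Helper13.Uni Cfsg.Agent.Helper13.SS
  Cfsg.Agent.Helper13.HermSS Cfsg.Agent.Helper13.Dual Cfsg.Agent.Helper13.SympSS
open scoped Classical

universe u

section two
variable {F : Type*} {K : Type*} [Field F] [Field K] [Fintype K] [Algebra F K]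
  [FiniteDimensional F K] {p : ℕ} [Fact p.Prime] [CharP K p] {q : ℕ} {σ : K →ₐ[F] K}
variable {V : Type u} [AddCommGroup V] [Module F V] [Module K V] [IsScalarTower F K V]
  [FiniteDimensional K V] {H : V → V → K}

theorem two_kill (A : Module.End K V) (l : K) (hA2 : A ^ 2 = (l * l) • 1) :
    aeval A ((X - C l) * (X - C (-l)) : K[X]) = 0 := by
  have e : ((X - C l) * (X - C (-l)) : K[X]) = X ^ 2 - C (l * l) := by
    rw [C_neg, C_mul]
    ring
  rw [e, map_sub, map_pow, aeval_X, aeval_C, hA2, Algebra.algebraMap_eq_smul_one, sub_self]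

theorem two_factor (l : K) (f : K[X]) (hf : Irreducible f) (hmon : f.Monic)
    (hd : f ∣ (X - C l) * (X - C (-l))) : f = X - C l ∨ f = X - C (-l) := by
  rcases hf.prime.dvd_or_dvd hd with h | h
  · left
    exact Polynomial.eq_of_monic_of_associated hmon (monic_X_sub_C l)
      (hf.associated_of_dvd (irreducible_X_sub_C l) h)
  · right
    exact Polynomial.eq_of_monic_of_associated hmon (monic_X_sub_C (-l))
      (hf.associated_of_dvd (irreducible_X_sub_C (-l)) h)

theorem pow_M2 (A : Module.End K V) (l : K) (hl : (l * l) ^ (q + 1) = 1)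
    (hA2 : A ^ 2 = (l * l) • 1) : A ^ (2 * (q + 1)) = 1 := by
  rw [pow_mul, hA2, _root_.smul_pow, one_pow, hl, one_smul]

theorem neg_pow_even (hq2 : Odd q) (l : K) : (-l) ^ (q + 1) = l ^ (q + 1) := by
  have : Even (q + 1) := by
    obtain ⟨j, hj⟩ := hq2
    exact ⟨j + 1, by omega⟩
  exact this.neg_pow l

theorem lin_dvd (a : K) (M : ℕ) (ha : a ^ M = 1) : (X - C a : K[X]) ∣ X ^ M - 1 := by
  rw [dvd_iff_isRoot]
  simp [IsRoot, ha]

theorem lin_mem (a : K) (M : ℕ) (hM : 1 ≤ M) (ha : a ^ M = 1) :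
    (X - C a : K[X]) ∈ irrFactors (X ^ M - 1 : K[X]) :=
  mem_irrFactors_of_dvd (X_pow_sub_one_monic hM).ne_zero (irreducible_X_sub_C a)
    (monic_X_sub_C a) (lin_dvd a M ha)

/-- the split case: invariant nondegenerate subspaces of all dimensions -/
theorem two_struct_split (hK : Fintype.card K = q ^ 2) (hσ : ∀ x, σ x = x ^ q)
    (hσ2 : ∀ x, σ (σ x) = x) (hσ1 : ∃ c, σ c ≠ c) (hp2 : p ≠ 2)
    (A : Module.End K V) (hA : UInv σ A H) (l : K) (hl : l ^ (q + 1) = 1)
    (hA2 : A ^ 2 = (l * l) • 1) (t : ℕ) (ht : t ≤ finrank K V) : FixN H A t := by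
  have hσ2' : ∀ x, (σ : K →+* K) ((σ : K →+* K) x) = x := hσ2
  have hq2 := odd_q hK hp2
  have hM : 1 ≤ 2 * (q + 1) := by omega
  have hll : (l * l) ^ (q + 1) = 1 := by rw [mul_pow, hl, one_mul]
  have h := thmU_of_kill hσ2 hσ1 hM (cast_mul_ne_zero hK Nat.prime_two (Ne.symm hp2)) 1 A hA
    (pow_M2 A l hll hA2) _ (two_kill A l hA2) (by
      intro f hf hfd
      have hcase := two_factor l f (irrFactors_irreducible hf) (irrFactors_monic hf) hfd
      have key : ∀ a : K, a ^ (q + 1) = 1 →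
          (cblockPoly (2 * (q + 1)) (σ : K →+* K) (X - C a)).natDegree = 1 := by
        intro a ha
        have h1 := cdual_lin hσ hσ2 a 1 (one_mul 1) ha
        rw [one_mul] at h1
        unfold cblockPoly
        rw [if_pos h1]
        exact natDegree_X_sub_C a
      rcases hcase with rfl | rfl
      · exact key l hl
      · exact key (-l) (by rw [neg_pow_even hq2]; exact hl))
  have := h.2 t (by rw [one_mul]; exact ht)
  rwa [one_mul] at this

/-- the nonsplit case: the blocks have dimension two -/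
theorem two_pair_hyp (hK : Fintype.card K = q ^ 2) (hσ : ∀ x, σ x = x ^ q)
    (hσ2 : ∀ x, σ (σ x) = x) (hp2 : p ≠ 2) (l : K) (hl : l ^ (q + 1) = -1) :
    ∀ f ∈ irrFactors (X ^ (2 * (q + 1)) - 1 : K[X]), f ∣ (X - C l) * (X - C (-l)) →
      (cblockPoly (2 * (q + 1)) (σ : K →+* K) f).natDegree = 2 := by
  have hq2 := odd_q hK hp2
  have h2 : (2 : K) ≠ 0 := two_ne_zero_of_char (p := p) hp2
  intro f hf hfd
  have hcase := two_factor l f (irrFactors_irreducible hf) (irrFactors_monic hf) hfd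
  have key : ∀ a : K, a ^ (q + 1) = -1 →
      (cblockPoly (2 * (q + 1)) (σ : K →+* K) (X - C a)).natDegree = 2 := by
    intro a ha
    have ha0 : a ≠ 0 := by
      rintro rfl
      rw [zero_pow (by omega)] at ha
      have : (1 : K) = 0 := by linear_combination ha
      exact one_ne_zero this
    have h1 := cdual_lin hσ hσ2 a (-1) (by ring) ha
    rw [neg_one_mul] at h1
    have hne : cdual (2 * (q + 1)) (σ : K →+* K) (X - C a) ≠ X - C a := by
      rw [h1]
      intro h3
      have h4 : C (-a) = C a := by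
        have := congrArg (fun P : K[X] => X - P) h3
        simpa using this
      have h5 : -a = a := C_injective h4
      have h6 : 2 * a = 0 := by linear_combination -h5
      rcases mul_eq_zero.1 h6 with h7 | h7
      · exact h2 h7
      · exact ha0 h7
    unfold cblockPoly
    rw [if_neg hne, h1, (monic_X_sub_C a).natDegree_mul (monic_X_sub_C (-a)), natDegree_X_sub_C,
      natDegree_X_sub_C]
  rcases hcase with rfl | rfl
  · exact key l hl
  · exact key (-l) (by rw [neg_pow_even hq2]; exact hl)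

theorem two_struct_pair (hK : Fintype.card K = q ^ 2) (hσ : ∀ x, σ x = x ^ q)
    (hσ2 : ∀ x, σ (σ x) = x) (hσ1 : ∃ c, σ c ≠ c) (hp2 : p ≠ 2)
    (A : Module.End K V) (hA : UInv σ A H) (l : K) (hl : l ^ (q + 1) = -1)
    (hA2 : A ^ 2 = (l * l) • 1) :
    2 ∣ finrank K V ∧ ∀ t, 2 * t ≤ finrank K V → FixN H A (2 * t) := by
  have hM : 1 ≤ 2 * (q + 1) := by omega
  have hll : (l * l) ^ (q + 1) = 1 := by
    rw [mul_pow, hl]
    ring
  exact thmU_of_kill hσ2 hσ1 hM (cast_mul_ne_zero hK Nat.prime_two (Ne.symm hp2)) 2 A hA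
    (pow_M2 A l hll hA2) _ (two_kill A l hA2) (two_pair_hyp hK hσ hσ2 hp2 l hl)

theorem two_even_sub (hK : Fintype.card K = q ^ 2) (hσ : ∀ x, σ x = x ^ q)
    (hσ2 : ∀ x, σ (σ x) = x) (hσ1 : ∃ c, σ c ≠ c) (hp2 : p ≠ 2)
    (A : Module.End K V) (hA : UInv σ A H) (l : K) (hl : l ^ (q + 1) = -1)
    (hA2 : A ^ 2 = (l * l) • 1) (W : Submodule K V) (hWnd : NdOn H W)
    (hWinv : ∀ v ∈ W, A v ∈ W) : 2 ∣ finrank K W := by
  have hM : 1 ≤ 2 * (q + 1) := by omega
  have hll : (l * l) ^ (q + 1) = 1 := by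
    rw [mul_pow, hl]
    ring
  exact dvd_finrank_of_kill hσ2 hσ1 hM (cast_mul_ne_zero hK Nat.prime_two (Ne.symm hp2)) 2 A hA
    (pow_M2 A l hll hA2) _ (two_kill A l hA2) (two_pair_hyp hK hσ hσ2 hp2 l hl) W hWnd hWinv

/-- the multiplicities of the two eigenvalues agree in the nonsplit case -/
theorem two_kdim (hK : Fintype.card K = q ^ 2) (hσ : ∀ x, σ x = x ^ q)
    (hσ2 : ∀ x, σ (σ x) = x) (hσ1 : ∃ c, σ c ≠ c) (hp2 : p ≠ 2)
    (A : Module.End K V) (hA : UInv σ A H) (l : K) (hl : l ^ (q + 1) = -1)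
    (hA2 : A ^ 2 = (l * l) • 1) :
    kdim A (X - C (-l)) = kdim A (X - C l) ∧ finrank K V = 2 * kdim A (X - C l) := by
  have hM : 1 ≤ 2 * (q + 1) := by omega
  have hll : (l * l) ^ (q + 1) = 1 := by
    rw [mul_pow, hl]
    ring
  have hlM : l ^ (2 * (q + 1)) = 1 := by
    rw [mul_comm, pow_mul, hl]
    ring
  have h1 := kdim_cdual_H hσ2 hσ1 hM (cast_mul_ne_zero hK Nat.prime_two (Ne.symm hp2))
    (pow_M2 A l hll hA2) hA (lin_mem l _ hM hlM)
  rw [cdual_lin hσ hσ2 l (-1) (by ring) hl, neg_one_mul] at h1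
  refine ⟨h1, ?_⟩
  have h2 : (2 : K) ≠ 0 := two_ne_zero_of_char (p := p) hp2
  have hl0 : l ≠ 0 := by
    rintro rfl
    rw [zero_pow (by omega)] at hl
    have : (1 : K) = 0 := by linear_combination hl
    exact one_ne_zero this
  have hcop : IsCoprime (X - C l : K[X]) (X - C (-l)) := by
    apply coprime_of_monic_irreducible' (irreducible_X_sub_C l) (irreducible_X_sub_C (-l))
      (monic_X_sub_C l) (monic_X_sub_C (-l))
    intro h3
    have h4 : C l = C (-l) := by
      have := congrArg (fun P : K[X] => X - P) h3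
      simpa using this
    have h5 : l = -l := C_injective h4
    have h6 : 2 * l = 0 := by linear_combination h5
    rcases mul_eq_zero.1 h6 with h7 | h7
    · exact h2 h7
    · exact hl0 h7
  have h3 := kdim_mul A hcop
  have h4 : kdim A ((X - C l) * (X - C (-l))) = finrank K V := by
    unfold kdim
    rw [two_kill A l hA2, LinearMap.ker_zero, finrank_top]
  omega

end two

end Cfsg.Agent.Helper13.SuNd
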