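import Mathlib
import Cfsg.Agent.Lib.Helper13.SuNd12

set_option autoImplicit false
set_option linter.unusedSectionVars false

/-!
# Unitary matrices with scalar square in odd characteristic: the criterion
-/

namespace Cfsg.Agent.Helper13.SuNd

open Polynomial Module Cfsg.Agent.Helper13.Uni Cfsg.Agent.Helper13.SS
  Cfsg.Agent.Helper13.HermSS Cfsg.Agent.Helper13.Dual Cfsg.Agent.Helper13.SympSS
open scoped Classical

universe u

section main
variable {F : Type*} {K : Type u} [Field F] [Field K] [Fintype K] [Algebra F K]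
  [FiniteDimensional F K] {p : ℕ} [Fact p.Prime] [CharP K p] {q : ℕ} {σ : K →ₐ[F] K}

/-- the determinant in the nonsplit case -/
theorem two_det (hK : Fintype.card K = q ^ 2) (hσ : ∀ x, σ x = x ^ q)
    (hσ2 : ∀ x, σ (σ x) = x) (hσ1 : ∃ c, σ c ≠ c) (hp2 : p ≠ 2) {n : ℕ}
    (g : Matrix (Fin n) (Fin n) K) (hg : Pres q g) (l : K) (hl : l ^ (q + 1) = -1)
    (hgz : g ^ 2 = (l * l) • 1) : g.det = (-(l * l)) ^ (n / 2) := by
  set A := Matrix.toLin' g with hA
  have hAU := uinv_toLin' hσ hσ2 g hg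
  have hA2 := toLin'_pow_scalar g 2 (l * l) hgz
  obtain ⟨hk1, hk2⟩ := two_kdim hK hσ hσ2 hσ1 hp2 A hAU l hl hA2
  rw [finrank_fin_fun'] at hk2
  have h2 : (2 : K) ≠ 0 := two_ne_zero_of_char (p := p) hp2
  have hl0 : l ≠ 0 := by
    rintro rfl
    rw [zero_pow (by omega)] at hl
    have : (1 : K) = 0 := by linear_combination hl
    exact one_ne_zero this
  have hne : (X - C l : K[X]) ≠ X - C (-l) := by
    intro h3
    have h4 : C l = C (-l) := by
      have := congrArg (fun P : K[X] => X - P) h3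
      simpa using this
    have h5 : l = -l := C_injective h4
    have h6 : 2 * l = 0 := by linear_combination h5
    rcases mul_eq_zero.1 h6 with h7 | h7
    · exact h2 h7
    · exact hl0 h7
  have hkill : aeval A (∏ f ∈ ({X - C l, X - C (-l)} : Finset K[X]), f) = 0 := by
    rw [Finset.prod_pair hne]
    exact two_kill A l hA2
  have h1 := charpoly_eq_prod ({X - C l, X - C (-l)} : Finset K[X])
    (fun f hf => by
      rcases Finset.mem_insert.1 hf with rfl | hf
      · exact irreducible_X_sub_C l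
      · rw [Finset.mem_singleton.1 hf]
        exact irreducible_X_sub_C (-l))
    (fun f hf => by
      rcases Finset.mem_insert.1 hf with rfl | hf
      · exact monic_X_sub_C l
      · rw [Finset.mem_singleton.1 hf]
        exact monic_X_sub_C (-l)) A hkill
  rw [Finset.prod_pair hne, natDegree_X_sub_C, natDegree_X_sub_C, Nat.div_one, Nat.div_one, hk1,
    hA, Matrix.charpoly_toLin'] at h1
  have hn2 : n / 2 = kdim (Matrix.toLin' g) (X - C l) := by
    rw [hA] at hk2
    omega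
  rw [det_of_charpoly, h1, coeff_zero_eq_eval_zero, eval_mul, eval_pow, eval_pow, eval_sub,
    eval_sub, eval_X, eval_C, eval_C, zero_sub, zero_sub, neg_neg, ← mul_pow, hn2]
  have hev : Even n := ⟨kdim (Matrix.toLin' g) (X - C l), by rw [hA] at hk2; omega⟩
  rw [hev.neg_one_pow, one_mul, neg_mul]

/-- sufficiency -/
theorem two_suff (hK : Fintype.card K = q ^ 2) (hσ : ∀ x, σ x = x ^ q)
    (hσ2 : ∀ x, σ (σ x) = x) (hσ1 : ∃ c, σ c ≠ c) (hp2 : p ≠ 2) (n m : ℕ) (hn : 0 < n)
    (hmn : m ≤ n)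
    (hcond : Odd n ∨ Even m ∨ (padicValNat 2 n ≤ padicValNat 2 (q + 1) ∧ q % 4 = 3))
    (g : Matrix (Fin n) (Fin n) K) (hg : Pres q g) (hdet : g.det = 1) (z : K)
    (hgz : g ^ 2 = z • 1) : FixN (Cfsg.hermForm n K q) (Matrix.toLin' g) m := by
  have hq := q_pos hK
  have hq2 := odd_q hK hp2
  have hz := norm_of_pow_scalar (by omega) hn hg 2 z hgz
  obtain ⟨l, hl⟩ := exists_sqrt hK hq2 z hz
  rw [← hl] at hgz hz
  have hA := uinv_toLin' hσ hσ2 g hg
  have hA2 := toLin'_pow_scalar g 2 (l * l) hgz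
  have hsq : l ^ (q + 1) * l ^ (q + 1) = 1 := by
    rw [← mul_pow]
    exact hz
  rcases mul_self_eq_one_iff.1 hsq with h1 | h1
  · apply two_struct_split hK hσ hσ2 hσ1 hp2 _ hA l h1 hA2 m
    rw [finrank_fin_fun']
    exact hmn
  · obtain ⟨h2n, hfix⟩ := two_struct_pair hK hσ hσ2 hσ1 hp2 _ hA l h1 hA2
    rw [finrank_fin_fun'] at h2n hfix
    rcases hcond with hodd | heven | ⟨hv, hq4⟩
    · exfalso
      obtain ⟨j, hj⟩ := hodd
      omega
    · obtain ⟨t, ht⟩ := heven
      have : m = 2 * t := by omega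
      rw [this]
      exact hfix t (by omega)
    · exfalso
      have hdet' := two_det hK hσ hσ2 hσ1 hp2 g hg l h1 hgz
      rw [hdet] at hdet'
      have h2q : 2 ∣ q + 1 := by
        obtain ⟨j, hj⟩ := hq2
        exact ⟨j + 1, by omega⟩
      have hy : (-(l * l)) ^ (q + 1) = 1 := by
        have hev : Even (q + 1) := (even_iff_two_dvd).2 h2q
        rw [hev.neg_pow]
        exact hz
      have h3 := pow_div_eq_one 2 Nat.prime_two (q + 1) n (by omega) hn h2q h2n hv
        (-(l * l)) hy hdet'.symm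
      obtain ⟨j, hj⟩ : ∃ j, q = 4 * j + 3 := ⟨q / 4, by omega⟩
      have e1 : (q + 1) / 2 = 2 * (j + 1) := by omega
      have e2 : q + 1 = 2 * (2 * (j + 1)) := by omega
      rw [e1, pow_mul, neg_pow_two, ← pow_two, ← pow_mul, ← pow_mul] at h3
      have e3 : 2 * (2 * (j + 1)) = q + 1 := by omega
      rw [e3, h1] at h3
      have h2 : (2 : K) ≠ 0 := two_ne_zero_of_char (p := p) hp2
      apply h2
      linear_combination -h3

/-- necessity -/
theorem two_nec (hK : Fintype.card K = q ^ 2) (hσ : ∀ x, σ x = x ^ q)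
    (hσ2 : ∀ x, σ (σ x) = x) (hσ1 : ∃ c, σ c ≠ c) (hp2 : p ≠ 2) (n m : ℕ) (hn : 0 < n)
    (hall : ∀ g : Matrix (Fin n) (Fin n) K, Pres q g → g.det = 1 → (∃ z : K, g ^ 2 = z • 1) →
      (∀ z : K, g ≠ z • 1) → FixN (Cfsg.hermForm n K q) (Matrix.toLin' g) m) :
    Odd n ∨ Even m ∨ (padicValNat 2 n ≤ padicValNat 2 (q + 1) ∧ q % 4 = 3) := by
  have hq := q_pos hK
  have hq2 := odd_q hK hp2
  by_contra hcon
  push Not at hcon
  obtain ⟨hn2, hm2, hv⟩ := hcon
  have hne : Even n := Nat.not_odd_iff_even.1 hn2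
  have hmo : Odd m := Nat.not_even_iff_odd.1 hm2
  have hcase : q % 4 = 1 ∨ padicValNat 2 (q + 1) < padicValNat 2 n := by
    obtain ⟨j, hj⟩ := hq2
    by_cases h3 : q % 4 = 3
    · right
      by_contra h4
      push Not at h4
      exact hv h4 h3
    · left
      omega
  obtain ⟨l, hl, hln⟩ := exists_lambda hK hq2 n hcase
  obtain ⟨k, hk⟩ := hne
  have hk0 : 0 < k := by omega
  have hn2' : n / 2 = k := by omega
  have hM : 1 ≤ 2 * (q + 1) := by omega
  have hlM : l ^ (2 * (q + 1)) = 1 := by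
    rw [mul_comm, pow_mul, hl]
    ring
  have hcd := cdual_lin hσ hσ2 l (-1) (by ring) hl
  rw [neg_one_mul] at hcd
  have hU : UReal σ (2 * (q + 1)) (((X - C l) * (X - C (-l)) : K[X]) ^ k) := by
    apply ureal_pow
    have := ureal_pair (σ := σ) hσ2 hM (irreducible_X_sub_C l) (monic_X_sub_C l)
      (lin_dvd l _ hlM)
    rwa [hcd] at this
  have hdeg : (((X - C l) * (X - C (-l)) : K[X]) ^ k).natDegree = n := by
    rw [((monic_X_sub_C l).mul (monic_X_sub_C (-l))).natDegree_pow,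
      (monic_X_sub_C l).natDegree_mul (monic_X_sub_C (-l)), natDegree_X_sub_C, natDegree_X_sub_C]
    omega
  obtain ⟨g, hgP, hgM, hgc⟩ := hU.exists_matrix σ hσ hσ2 hσ1 n hdeg
  have hkill := aeval_eq_zero_of_charpoly_pow' g (2 * (q + 1))
    (cast_mul_ne_zero hK Nat.prime_two (Ne.symm hp2)) hgM _ k (by omega) hgc
  have hgz : g ^ 2 = (l * l) • 1 := by
    have e : ((X - C l) * (X - C (-l)) : K[X]) = X ^ 2 - C (l * l) := by
      rw [C_neg, C_mul]
      ring
    rw [e, map_sub, map_pow, aeval_X, aeval_C, sub_eq_zero, Algebra.algebraMap_eq_smul_one]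
      at hkill
    exact hkill
  have hdet : g.det = 1 := by
    rw [two_det hK hσ hσ2 hσ1 hp2 g hgP l hl hgz, hln]
  have hA := uinv_toLin' hσ hσ2 g hgP
  have hA2 := toLin'_pow_scalar g 2 (l * l) hgz
  have hns : ∀ w : K, g ≠ w • 1 := by
    intro w hw
    obtain ⟨W, -, hW1, hWnd⟩ := exists_nd_sub hσ2 hσ1 hA.sesq ⊤ (ndOn_top hA.sesq) 1 (by
      rw [finrank_top, finrank_fin_fun']
      exact hn)
    have hWinv : ∀ v ∈ W, Matrix.toLin' g v ∈ W := by
      intro v hv
      rw [hw, toLin'_scalar, LinearMap.smul_apply, Module.End.one_apply]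
      exact W.smul_mem w hv
    have := two_even_sub hK hσ hσ2 hσ1 hp2 _ hA l hl hA2 W hWnd hWinv
    rw [hW1] at this
    omega
  obtain ⟨W, hWm, hWnd, hWinv⟩ := hall g hgP hdet ⟨_, hgz⟩ hns
  have := two_even_sub hK hσ hσ2 hσ1 hp2 _ hA l hl hA2 W hWnd hWinv
  rw [hWm] at this
  obtain ⟨j, hj⟩ := hmo
  omega

end main

end Cfsg.Agent.Helper13.SuNd
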