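import Mathlib
import Cfsg.Agent.Lib.Helper13.SuNd2
import Cfsg.Agent.Lib.Helper13.SpNd11

set_option autoImplicit false
set_option linter.unusedSectionVars false

/-!
# Unipotent isometries of hermitian spaces: adjoint identities and Jordan atoms
-/

namespace Cfsg.Agent.Helper13.SuNd

open Polynomial Module Cfsg.Agent.Helper13.Uni Cfsg.Agent.Helper13.OrthJp
open scoped Classical

universe u

section adj
variable {F K : Type*} [Field F] [Field K] [Algebra F K]
variable {V : Type*} [AddCommGroup V] [Module F V] [Module K V] [IsScalarTower F K V]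
variable {σ : K →ₐ[F] K} {H : V → V → K} (h : IsSesq σ H) (X : Module.End K V)
include h

/-- the adjoint identity for `N = X - 1` -/
theorem adj_one (hX : ∀ u v, H (X u) (X v) = H u v) (u w : V) :
    H ((X - 1) u) w = - H u ((X - 1) w) - H ((X - 1) u) ((X - 1) w) := by
  have h1 := hX u w
  have hu : X u = u + (X - 1) u := by
    rw [LinearMap.sub_apply, Module.End.one_apply]
    abel
  have hw : X w = w + (X - 1) w := by
    rw [LinearMap.sub_apply, Module.End.one_apply]
    abel
  rw [hu, hw, h.add_left, h.add_right, h.add_right] at h1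
  linear_combination h1

/-- products of powers of `N` of total degree at least the nilpotency index pair to zero -/
theorem pair_pow_zero (hX : ∀ u v, H (X u) (X v) = H u v) (a : ℕ) (hNa : (X - 1) ^ a = 0) :
    ∀ (i j : ℕ) (u w : V), a ≤ i + j → H (((X - 1) ^ i) u) (((X - 1) ^ j) w) = 0 := by
  have hzero : ∀ (j : ℕ) (w : V), a ≤ j → ((X - 1) ^ j) w = 0 := by
    intro j w hj
    rw [pow_eq_zero_of_le hj hNa]
    rfl
  intro i
  induction i with
  | zero =>
    intro j u w hij
    rw [hzero j w (by omega), h.zero_right]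
  | succ i ih =>
    have key : ∀ (t j : ℕ) (u w : V), a ≤ i + 1 + j → a ≤ j + t →
        H (((X - 1) ^ (i + 1)) u) (((X - 1) ^ j) w) = 0 := by
      intro t
      induction t with
      | zero =>
        intro j u w _ hj
        rw [hzero j w (by omega), h.zero_right]
      | succ t iht =>
        intro j u w hij hjt
        rw [pow_succ', Module.End.mul_apply, adj_one h X hX]
        have h1 : H (((X - 1) ^ i) u) ((X - 1) (((X - 1) ^ j) w)) = 0 := by
          rw [← Module.End.mul_apply, ← pow_succ']
          exact ih (j + 1) u w (by omega)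
        have h2 : H ((X - 1) (((X - 1) ^ i) u)) ((X - 1) (((X - 1) ^ j) w)) = 0 := by
          rw [← Module.End.mul_apply, ← pow_succ', ← Module.End.mul_apply, ← pow_succ']
          exact iht (j + 1) u w (by omega) (by omega)
        rw [h1, h2]
        ring
    intro j u w hij
    exact key a j u w hij (by omega)

/-- on the antidiagonal the pairing is the top form up to sign -/
theorem pair_pow_anti (hX : ∀ u v, H (X u) (X v) = H u v) (a : ℕ) (hNa : (X - 1) ^ a = 0) :
    ∀ (i j : ℕ) (u w : V), i + j + 1 = a →
      H (((X - 1) ^ i) u) (((X - 1) ^ j) w) = (-1) ^ i * H u (((X - 1) ^ (a - 1)) w) := by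
  intro i
  induction i with
  | zero =>
    intro j u w hij
    have : j = a - 1 := by omega
    rw [this, pow_zero, Module.End.one_apply, pow_zero, one_mul]
  | succ i ih =>
    intro j u w hij
    rw [pow_succ', Module.End.mul_apply, adj_one h X hX]
    have h1 : H (((X - 1) ^ i) u) ((X - 1) (((X - 1) ^ j) w)) =
        (-1) ^ i * H u (((X - 1) ^ (a - 1)) w) := by
      rw [← Module.End.mul_apply, ← pow_succ']
      exact ih (j + 1) u w (by omega)
    have h2 : H ((X - 1) (((X - 1) ^ i) u)) ((X - 1) (((X - 1) ^ j) w)) = 0 := by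
      rw [← Module.End.mul_apply, ← pow_succ', ← Module.End.mul_apply, ← pow_succ']
      exact pair_pow_zero h X hX a hNa (i + 1) (j + 1) u w (by omega)
    rw [h1, h2, pow_succ]
    ring

end adj

section tri
variable {F K : Type*} [Field F] [Field K] [Algebra F K]
variable {V : Type*} [AddCommGroup V] [Module F V] [Module K V] [IsScalarTower F K V]
variable {σ : K →ₐ[F] K} {H : V → V → K} (h : IsSesq σ H)
include h

/-- the coefficients of a vector orthogonal to a triangular dual family vanish -/
theorem tri_coeff {n : ℕ} (x y : Fin n → V) (htri : ∀ k l, l < k → H (x k) (y l) = 0)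
    (hdiag : ∀ k, H (x k) (y k) ≠ 0) (α : Fin n → K)
    (hall : ∀ l, H (∑ k, α k • x k) (y l) = 0) : ∀ l, α l = 0 := by
  have key : ∀ (m : ℕ) (l : Fin n), l.val = m → α l = 0 := by
    intro m
    induction m using Nat.strong_induction_on with
    | _ m ih =>
    intro l hl
    have h1 := hall l
    rw [h.sum_left] at h1
    rw [Finset.sum_eq_single l] at h1
    · rw [h.smul_left] at h1
      rcases mul_eq_zero.1 h1 with h3 | h3
      · exact h3
      · exact absurd h3 (hdiag l)
    · intro k _ hkl
      rw [h.smul_left]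
      rcases lt_or_gt_of_ne hkl with hlt | hgt
      · rw [ih k.val (by rw [← hl]; exact hlt) k rfl, zero_mul]
      · rw [htri k l hgt, mul_zero]
    · intro hl'
      exact absurd (Finset.mem_univ l) hl'
  intro l
  exact key l.val l rfl

theorem tri_linearIndependent {n : ℕ} (x y : Fin n → V)
    (htri : ∀ k l, l < k → H (x k) (y l) = 0) (hdiag : ∀ k, H (x k) (y k) ≠ 0) :
    LinearIndependent K x := by
  rw [Fintype.linearIndependent_iff]
  intro α hα l
  apply tri_coeff h x y htri hdiag α _ l
  intro l'
  rw [hα, h.zero_left]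

theorem tri_ndOn {n : ℕ} (x y : Fin n → V) (htri : ∀ k l, l < k → H (x k) (y l) = 0)
    (hdiag : ∀ k, H (x k) (y k) ≠ 0) (hy : ∀ l, y l ∈ Submodule.span K (Set.range x)) :
    finrank K (Submodule.span K (Set.range x)) = n ∧ NdOn H (Submodule.span K (Set.range x)) := by
  refine ⟨?_, ?_⟩
  · rw [finrank_span_eq_card (tri_linearIndependent h x y htri hdiag), Fintype.card_fin]
  · intro w hw hall
    obtain ⟨α, rfl⟩ := (Submodule.mem_span_range_iff_exists_fun K).1 hw
    have := tri_coeff h x y htri hdiag α (fun l => hall (y l) (hy l))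
    apply Finset.sum_eq_zero
    intro k _
    rw [this k, zero_smul]

end tri

section atoms
variable {F K : Type*} [Field F] [Field K] [Algebra F K]
variable {V : Type*} [AddCommGroup V] [Module F V] [Module K V] [IsScalarTower F K V]
variable {σ : K →ₐ[F] K} {H : V → V → K} (h : IsSesq σ H) (X : Module.End K V)
include h

/-- the cyclic subspace of a vector with nonzero top form -/
theorem atom_single (hX : ∀ u v, H (X u) (X v) = H u v) (a : ℕ) (ha : 1 ≤ a)
    (hNa : (X - 1) ^ a = 0) (v : V) (hv : H v (((X - 1) ^ (a - 1)) v) ≠ 0) :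
    ∃ Q : Submodule K V, finrank K Q = a ∧ NdOn H Q ∧ (∀ z ∈ Q, X z ∈ Q) ∧ v ∈ Q := by
  set x : Fin a → V := fun k => ((X - 1) ^ k.val) v with hx
  set y : Fin a → V := fun l => ((X - 1) ^ (a - 1 - l.val)) v with hy
  have htri : ∀ k l : Fin a, l < k → H (x k) (y l) = 0 := by
    intro k l hlk
    have h1 : l.val < k.val := hlk
    have h2 := k.2
    exact pair_pow_zero h X hX a hNa k.val (a - 1 - l.val) v v (by omega)
  have hdiag : ∀ k : Fin a, H (x k) (y k) ≠ 0 := by
    intro k
    have h2 := k.2
    show H (((X - 1) ^ k.val) v) (((X - 1) ^ (a - 1 - k.val)) v) ≠ 0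
    rw [pair_pow_anti h X hX a hNa k.val (a - 1 - k.val) v v (by omega)]
    exact mul_ne_zero (pow_ne_zero _ (neg_ne_zero.2 one_ne_zero)) hv
  have hyx : ∀ l : Fin a, y l ∈ Submodule.span K (Set.range x) := by
    intro l
    have h2 := l.2
    exact Submodule.subset_span ⟨⟨a - 1 - l.val, by omega⟩, rfl⟩
  obtain ⟨hfin, hnd⟩ := tri_ndOn h x y htri hdiag hyx
  refine ⟨Submodule.span K (Set.range x), hfin, hnd, ?_, ?_⟩
  · apply Cfsg.Agent.Helper13.SpNd.span_invariant X x
    intro k
    show (X - 1) (((X - 1) ^ k.val) v) ∈ _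
    rw [← Module.End.mul_apply, ← pow_succ']
    by_cases hk : k.val + 1 < a
    · exact Submodule.subset_span ⟨⟨k.val + 1, hk⟩, rfl⟩
    · have h2 := k.2
      have : k.val + 1 = a := by omega
      rw [this, hNa]
      exact Submodule.zero_mem _
  · have h0 : x ⟨0, by omega⟩ = v := by
      show ((X - 1 : Module.End K V) ^ 0) v = v
      rw [pow_zero, Module.End.one_apply]
    rw [← h0]
    exact Submodule.subset_span ⟨_, rfl⟩

/-- a nonzero sesquilinear top form has an anisotropic vector -/
theorem exists_top_aniso (hσ1 : ∃ c, σ c ≠ c) (N : Module.End K V)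
    (hex : ∃ u w : V, H u (N w) ≠ 0) : ∃ v : V, H v (N v) ≠ 0 := by
  by_contra hcon
  push Not at hcon
  obtain ⟨u, w, huw⟩ := hex
  obtain ⟨c, hc⟩ := hσ1
  have h1 : ∀ x y : V, H x (N y) + H y (N x) = 0 := by
    intro x y
    have := hcon (x + y)
    rw [map_add, h.add_left, h.add_right, h.add_right, hcon x, hcon y] at this
    linear_combination this
  have h2 := h1 u w
  have h3 := h1 (c • u) w
  rw [h.smul_left, map_smul, h.smul_right] at h3
  have h4 : (c - σ c) * H u (N w) = 0 := by linear_combination h3 - σ c * h2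
  rcases mul_eq_zero.1 h4 with h5 | h5
  · exact hc (sub_eq_zero.1 h5).symm
  · exact huw h5

end atoms

end Cfsg.Agent.Helper13.SuNd
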