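import Mathlib
import Cfsg.Agent.Lib.Helper13.SuNd14

set_option autoImplicit false
set_option linter.unusedSectionVars false

/-!
# Unipotent isometries of hermitian spaces: invariant nondegenerate subspaces
-/

namespace Cfsg.Agent.Helper13.SuNd

open Polynomial Module Cfsg.Agent.Helper13.Uni Cfsg.Agent.Helper13.OrthJp
open scoped Classical

universe u

section atom
variable {F : Type*} {K : Type u} [Field F] [Field K] [Algebra F K]
variable {V : Type u} [AddCommGroup V] [Module F V] [Module K V] [IsScalarTower F K V]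
  [FiniteDimensional K V]
variable {σ : K →ₐ[F] K} {H : V → V → K}

/-- a nondegenerate invariant subspace consisting of one Jordan block of maximal size -/
theorem exists_atom_u (hσ1 : ∃ c, σ c ≠ c) (X : Module.End K V) (hA : UInv σ X H)
    (μ : Multiset ℕ) (hμ : HasType (X - 1) μ) (a : ℕ) (ha : a ∈ μ) (hmax : ∀ b ∈ μ, b ≤ a) :
    ∃ Q : Submodule K V, NdOn H Q ∧ ∃ hQ : ∀ z ∈ Q, X z ∈ Q, finrank K Q = a ∧
      HasType (X.restrict hQ - 1) (Multiset.replicate 1 a) := by
  have ha1 : 1 ≤ a := hμ.1 a ha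
  have hNa : (X - 1) ^ a = 0 := hμ.pow_eq_zero a hmax
  have hX := hA.inv
  have hrk : 0 < finrank K (LinearMap.range ((X - 1) ^ (a - 1))) := by
    rw [hμ.2 (a - 1)]
    have h3 : a - (a - 1) ≤ (μ.map (fun b => b - (a - 1))).sum :=
      Multiset.single_le_sum (fun _ _ => Nat.zero_le _) _ (Multiset.mem_map.2 ⟨a, ha, rfl⟩)
    omega
  have hex : ∃ u₀ w₀ : V, H u₀ (((X - 1) ^ (a - 1)) w₀) ≠ 0 := by
    by_contra hcon
    push Not at hcon
    have h0 : (X - 1) ^ (a - 1) = 0 := by
      apply LinearMap.ext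
      intro w
      exact IsSesq.nondeg_right' hA.sesq _ (fun u => hcon u w)
    rw [h0, LinearMap.range_zero, finrank_bot] at hrk
    omega
  obtain ⟨v, hv⟩ := exists_top_aniso hA.sesq hσ1 ((X - 1) ^ (a - 1)) hex
  obtain ⟨Q, hQfin, hQnd, hQinv, hvQ⟩ := atom_single hA.sesq X hX a ha1 hNa v hv
  refine ⟨Q, hQnd, hQinv, hQfin, ?_⟩
  have hN := Cfsg.Agent.Helper13.SpNd.sub_one_mem X Q hQinv
  have hnil : IsNilpotent ((X - 1).restrict hN) :=
    isNilpotent_restrict ⟨a, hNa⟩ hN
  obtain ⟨ν, hν⟩ := exists_hasType _ hnil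
  have hNa' : ((X - 1).restrict hN) ^ a = 0 := by
    ext w
    rw [restrict_pow_apply, hNa]
    rfl
  have hcnt := Cfsg.Agent.Helper13.SpNd.hasType_count_top hν a ha1 hNa'
  have hz : ((X - 1) ^ (a - 1)) v ≠ 0 := by
    intro h0
    rw [h0, hA.sesq.zero_right] at hv
    exact hv rfl
  have hpos : 0 < finrank K (LinearMap.range (((X - 1).restrict hN) ^ (a - 1))) := by
    rw [Nat.pos_iff_ne_zero]
    intro h0
    have h3 : LinearMap.range (((X - 1).restrict hN) ^ (a - 1)) = ⊥ :=
      Submodule.finrank_eq_zero.1 h0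
    have h4 := LinearMap.range_eq_bot.1 h3
    have h5 := congrArg (fun f => ((f (⟨v, hvQ⟩ : Q) : Q) : V)) h4
    simp only [restrict_pow_apply] at h5
    exact hz h5
  have hν' : HasType (X.restrict hQinv - 1) ν := by
    rw [← Cfsg.Agent.Helper13.SpNd.restrict_sub_one X Q hQinv hN]
    exact hν
  have hcount : 1 ≤ ν.count a := by omega
  have hsum : ν.sum = 1 * a := by
    rw [hν.sum, hQfin, one_mul]
  rw [← Cfsg.Agent.Helper13.SpNd.type_eq_replicate ν a 1 (by omega) hν.1 hsum hcount]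
  exact hν'

end atom

section suff
variable {F : Type*} {K : Type u} [Field F] [Field K] [Algebra F K] [FiniteDimensional F K]
variable {σ : K →ₐ[F] K}

/-- sufficiency: every sub-type is realised by an invariant nondegenerate subspace -/
theorem unip_suff_u (hσ2 : ∀ x, σ (σ x) = x) (hσ1 : ∃ c, σ c ≠ c) :
    ∀ (n : ℕ) {V : Type u} [AddCommGroup V] [Module F V] [Module K V] [IsScalarTower F K V]
      [FiniteDimensional K V] (H : V → V → K) (X : Module.End K V), finrank K V = n →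
      UInv σ X H → ∀ μ : Multiset ℕ, HasType (X - 1) μ → ∀ ν : Multiset ℕ, ν ≤ μ →
      FixN H X ν.sum := by
  intro n
  induction n using Nat.strong_induction_on with
  | _ n ih =>
  intro V _ _ _ _ _ H X hn hA μ hμ ν hνμ
  by_cases hμ0 : μ = 0
  · rw [hμ0] at hνμ
    rw [Multiset.le_zero.1 hνμ, Multiset.sum_zero]
    exact FixN.zero X
  have hne : μ.toFinset.Nonempty := by
    rw [Multiset.toFinset_nonempty]
    exact hμ0
  obtain ⟨a, ha, hmax⟩ := Finset.exists_max_image μ.toFinset id hne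
  rw [Multiset.mem_toFinset] at ha
  have hmax' : ∀ b ∈ μ, b ≤ a := fun b hb => hmax b (Multiset.mem_toFinset.2 hb)
  have ha1 : 1 ≤ a := hμ.1 a ha
  obtain ⟨Q, hQnd, hQinv, hQfin, hQtype⟩ := exists_atom_u hσ1 X hA μ hμ a ha hmax'
  have hCinv := orth_inv hA Q hQinv
  have hCnd := ndOn_orth hσ2 hσ1 hA.sesq Q hQnd
  have hfin := finrank_orth hσ2 hσ1 hA.sesq Q hQnd
  have hc := isCompl_orth' hσ2 hσ1 hA.sesq Q hQnd
  have hA' := uinv_restrict hA _ hCnd hCinv
  have hNQ := Cfsg.Agent.Helper13.SpNd.sub_one_mem X Q hQinv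
  have hNC := Cfsg.Agent.Helper13.SpNd.sub_one_mem X _ hCinv
  have hnil : IsNilpotent (X - 1) := hμ.isNilpotent
  obtain ⟨μ', hμ'⟩ := exists_hasType _ (isNilpotent_restrict hnil hNC)
  have hQtype' : HasType ((X - 1).restrict hNQ) (Multiset.replicate 1 a) := by
    rw [Cfsg.Agent.Helper13.SpNd.restrict_sub_one X Q hQinv hNQ]
    exact hQtype
  have hsum := HasType.add hc hNQ hNC hQtype' hμ'
  have hμeq : μ = Multiset.replicate 1 a + μ' := hμ.unique hsum
  have hμ'' : HasType (X.restrict hCinv - 1) μ' := by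
    rw [← Cfsg.Agent.Helper13.SpNd.restrict_sub_one X _ hCinv hNC]
    exact hμ'
  have hn' : finrank K ↥(orth hA.sesq Q) < n := by omega
  by_cases haν : a ∈ ν
  · have hcount : 1 ≤ ν.count a := Multiset.one_le_count_iff_mem.2 haν
    have hrep : Multiset.replicate 1 a ≤ ν := Multiset.le_count_iff_replicate_le.1 hcount
    set ν' := ν - Multiset.replicate 1 a with hν'
    have hνeq : ν = Multiset.replicate 1 a + ν' := by
      rw [hν', add_comm]
      exact (tsub_add_cancel_of_le hrep).symm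
    have hν'μ' : ν' ≤ μ' := by
      rw [hνeq, hμeq] at hνμ
      exact (Multiset.add_le_add_iff_left).1 hνμ
    have h3 := ih _ hn' (resH H _) (X.restrict hCinv) rfl hA' μ' hμ'' ν' hν'μ'
    have h4 := FixN.add_block X hA Q hQnd hQinv _ h3
    have e : ν.sum = finrank K Q + ν'.sum := by
      conv_lhs => rw [hνeq]
      rw [Multiset.sum_add, Multiset.sum_replicate, smul_eq_mul, hQfin, one_mul]
    rw [e]
    exact h4
  · have hνμ' : ν ≤ μ' :=
      Cfsg.Agent.Helper13.SpNd.le_of_le_add_of_notMem ν μ' 1 a (hμeq ▸ hνμ) haν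
    have h3 := ih _ hn' (resH H _) (X.restrict hCinv) rfl hA' μ' hμ'' ν hνμ'
    exact FixN.of_sub X _ hCinv _ h3

end suff

section sub
variable {F : Type*} {K : Type u} [Field F] [Field K] [Algebra F K] [FiniteDimensional F K]
variable {V : Type u} [AddCommGroup V] [Module F V] [Module K V] [IsScalarTower F K V]
  [FiniteDimensional K V]
variable {σ : K →ₐ[F] K} {H : V → V → K}

/-- the type of an invariant nondegenerate subspace -/
theorem sub_type_u (hσ2 : ∀ x, σ (σ x) = x) (hσ1 : ∃ c, σ c ≠ c) (X : Module.End K V)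
    (hA : UInv σ X H) {μ : Multiset ℕ} (hμ : HasType (X - 1) μ) (W : Submodule K V)
    (hWnd : NdOn H W) (hWinv : ∀ w ∈ W, X w ∈ W) :
    ∃ ν : Multiset ℕ, ν ≤ μ ∧ ν.sum = finrank K W := by
  have hCinv := orth_inv hA W hWinv
  have hc := isCompl_orth' hσ2 hσ1 hA.sesq W hWnd
  have hNW := Cfsg.Agent.Helper13.SpNd.sub_one_mem X W hWinv
  have hNC := Cfsg.Agent.Helper13.SpNd.sub_one_mem X _ hCinv
  have hnil : IsNilpotent (X - 1) := hμ.isNilpotent
  obtain ⟨ν, hν⟩ := exists_hasType _ (isNilpotent_restrict hnil hNW)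
  obtain ⟨ν', hν'⟩ := exists_hasType _ (isNilpotent_restrict hnil hNC)
  have hsum := HasType.add hc hNW hNC hν hν'
  have hμeq : μ = ν + ν' := hμ.unique hsum
  refine ⟨ν, ?_, hν.sum⟩
  rw [hμeq]
  exact Multiset.le_add_right _ _

end sub

end Cfsg.Agent.Helper13.SuNd
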