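import Mathlib
import Cfsg.Agent.Lib.Helper13.WallMain
import Cfsg.Agent.Lib.Helper13.UnitaryConj

set_option autoImplicit false
set_option linter.style.haveILetI false
set_option linter.unusedSectionVars false
set_option linter.unusedVariables false

/-!
# Conjugacy in the unitary group is controlled by the general linear group
-/

namespace Cfsg.Agent.Helper13.Wall

open Polynomial Module Cfsg.Agent.Helper13.HermSS Cfsg.Agent.Helper13.Uni
  Cfsg.Agent.Helper11.Herm

universe u

section sesq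
variable {F K : Type*} [Field F] [Field K] [Algebra F K] [FiniteDimensional F K] [Finite K]

/-- two invariant hermitian forms of an endomorphism of finite order are isometric by an
equivalence commuting with the endomorphism -/
theorem exists_commuting_isometry_sesq_W {σ : K →ₐ[F] K} (hσ2 : ∀ x, σ (σ x) = x)
    (hσ1 : ∃ c, σ c ≠ c) (tr : K →ₗ[F] F) (htr : tr ≠ 0) (htrσ : ∀ x, tr (σ x) = tr x)
    (M : ℕ) (hM : 1 ≤ M)
    {V : Type u} [AddCommGroup V] [Module F V] [Module K V] [IsScalarTower F K V]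
    [FiniteDimensional K V] (A : Module.End K V) (hAM : A ^ M = 1) (H H' : V → V → K)
    (hH : IsSesq σ H) (hH' : IsSesq σ H') (hinv : ∀ u v, H (A u) (A v) = H u v)
    (hinv' : ∀ u v, H' (A u) (A v) = H' u v) :
    ∃ Z : V ≃ₗ[K] V, (∀ v, Z (A v) = A (Z v)) ∧ ∀ u v, H (Z u) (Z v) = H' u v := by
  obtain ⟨Z, hZc, hZ⟩ := exists_commuting_isometry_W hσ2 hσ1 (ε := (1 : F)) (by rw [one_mul]) M hM
    _ V A (trForm tr H hH) (trForm tr H' hH') rfl hAM
    (trForm_hinv tr htr htrσ hσ2 hH A hinv) (trForm_hinv tr htr htrσ hσ2 hH' A hinv')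
  exact ⟨Z, hZc, eq_of_trForm_eq tr htr hH hH' (Z : V →ₗ[K] V) hZ⟩

end sesq

section general
variable {F K : Type*} [Field F] [Field K] [Algebra F K] {q : ℕ} [Finite K]

/-- a linear intertwiner between unitary matrices can be replaced by a unitary one -/
theorem exists_unitary_conj_aux_W (σ : K →ₐ[F] K) (hσ : ∀ x, σ x = x ^ q)
    (hσ2 : ∀ x, σ (σ x) = x) (hσ1 : ∃ c, σ c ≠ c) (n : ℕ) (a b : Matrix (Fin n) (Fin n) K)
    (ha : Pres q a) (hb : Pres q b) (M : ℕ) (hM : 1 ≤ M) (haM : a ^ M = 1)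
    (T : (Fin n → K) ≃ₗ[K] (Fin n → K)) (hT : ∀ v, T (a.mulVec v) = b.mulVec (T v)) :
    ∃ y : Matrix (Fin n) (Fin n) K, Pres q y ∧ y * a = b * y := by
  haveI : FiniteDimensional F K := Module.Finite.of_finite
  obtain ⟨tr, htr, htrσ⟩ := exists_tr σ hσ2 hσ1
  set H := Cfsg.hermForm n K q with hHdef
  have hH : IsSesq σ H := hermForm_isSesq σ hσ hσ2 n
  set A : Module.End K (Fin n → K) := Matrix.toLinAlgEquiv' a with hAdef
  have hA : ∀ v, A v = a.mulVec v := fun v => Matrix.toLinAlgEquiv'_apply _ _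
  have hAM : A ^ M = 1 := by
    rw [hAdef, ← map_pow, haM, map_one]
  set H' : (Fin n → K) → (Fin n → K) → K := fun u v => H (T u) (T v) with hH'def
  have hH' : IsSesq σ H' := by
    refine ⟨fun u u' v => ?_, fun c u v => ?_, fun u v => ?_, fun u hu => ?_⟩
    · show H (T (u + u')) (T v) = H (T u) (T v) + H (T u') (T v)
      rw [map_add, hH.add_left]
    · show H (T (c • u)) (T v) = c * H (T u) (T v)
      rw [map_smul, hH.smul_left]
    · exact hH.conj _ _
    · apply T.injective
      rw [map_zero]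
      apply hH.nondeg
      intro w
      have := hu (T.symm w)
      simp only [hH'def, T.apply_symm_apply] at this
      exact this
  have hinv : ∀ u v, H (A u) (A v) = H u v := by
    intro u v
    rw [hA, hA]
    exact ha u v
  have hinv' : ∀ u v, H' (A u) (A v) = H' u v := by
    intro u v
    show H (T (A u)) (T (A v)) = H (T u) (T v)
    rw [hA, hA, hT, hT]
    exact hb _ _
  obtain ⟨Z, hZc, hZ⟩ := exists_commuting_isometry_sesq_W hσ2 hσ1 tr htr htrσ M hM A hAM H H'
    hH hH' hinv hinv'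
  set Y : (Fin n → K) →ₗ[K] (Fin n → K) :=
    (T : (Fin n → K) →ₗ[K] (Fin n → K)) ∘ₗ (Z.symm : (Fin n → K) →ₗ[K] (Fin n → K)) with hY
  set y := LinearMap.toMatrix' Y with hydef
  have hy : ∀ v, y.mulVec v = T (Z.symm v) := by
    intro v
    rw [hydef, LinearMap.toMatrix'_mulVec]
    rfl
  have hZs : ∀ v, Z.symm (A v) = A (Z.symm v) := by
    intro v
    apply Z.injective
    rw [Z.apply_symm_apply, hZc, Z.apply_symm_apply]
  refine ⟨y, ?_, ?_⟩
  · intro u v
    rw [hy, hy]
    have := hZ (Z.symm u) (Z.symm v)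
    rw [Z.apply_symm_apply, Z.apply_symm_apply] at this
    exact this.symm
  · apply Matrix.toLin'.injective
    apply LinearMap.ext
    intro v
    rw [Matrix.toLin'_mul, Matrix.toLin'_mul, LinearMap.comp_apply, LinearMap.comp_apply,
      Matrix.toLin'_apply, Matrix.toLin'_apply, Matrix.toLin'_apply, Matrix.toLin'_apply,
      hy, hy, ← hA, hZs, hA, hT]

end general

section concrete
variable {K : Type*} [Field K] [Fintype K] {q : ℕ}

theorem exists_unitary_conj_W (hK : Fintype.card K = q ^ 2) (p : ℕ) [Fact p.Prime] [CharP K p]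
    (n : ℕ) (a b : Matrix (Fin n) (Fin n) K)
    (ha : Pres q a) (hb : Pres q b) (M : ℕ) (hM : 1 ≤ M) (haM : a ^ M = 1)
    (T : (Fin n → K) ≃ₗ[K] (Fin n → K)) (hT : ∀ v, T (a.mulVec v) = b.mulVec (T v)) :
    ∃ y : Matrix (Fin n) (Fin n) K, Pres q y ∧ y * a = b * y := by
  letI := ZMod.algebra K p
  obtain ⟨σ, hσ, hσ2, hσ1⟩ := exists_frobAlg hK p
  exact exists_unitary_conj_aux_W σ hσ hσ2 hσ1 n a b ha hb M hM haM T hT

end concrete

end Cfsg.Agent.Helper13.Wall
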