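import Mathlib
import Cfsg.Agent.S2588
import Cfsg.Agent.S2587
import Cfsg.Agent.Lib.Helper13.NilpotentGL

set_option autoImplicit false
set_option linter.style.haveILetI false
set_option linter.unusedSectionVars false
set_option linter.unusedVariables false

/-!
# Unipotent elements of `GL_n(q²)` are conjugate to elements of `GU_n(q)`
-/

namespace Cfsg.Agent.Helper13.UniU

open Cfsg.Agent.Helper13.Nilp Cfsg.Agent.S2588 Matrix Module

section rank
variable {K : Type*} [Field K] [Finite K] {n : ℕ}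

theorem rank_le_rank_map (φ : K →+* K) (Y : Matrix (Fin n) (Fin n) K) :
    Y.rank ≤ (Y.map φ).rank := by
  classical
  have hmem : ∀ w : LinearMap.range Y.mulVecLin,
      (φ ∘ (w : Fin n → K)) ∈ LinearMap.range (Y.map φ).mulVecLin := by
    rintro ⟨w, v, rfl⟩
    refine ⟨φ ∘ v, ?_⟩
    funext i
    exact (RingHom.map_mulVec φ Y v i).symm
  let Φ : LinearMap.range Y.mulVecLin → LinearMap.range (Y.map φ).mulVecLin :=
    fun w => ⟨φ ∘ (w : Fin n → K), hmem w⟩
  have hinj : Function.Injective Φ := by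
    intro w w' h
    apply Subtype.ext
    have h1 : φ ∘ (w : Fin n → K) = φ ∘ (w' : Fin n → K) := congrArg Subtype.val h
    funext i
    exact φ.injective (congrFun h1 i)
  have hcard := Nat.card_le_card_of_injective Φ hinj
  have e1 : Nat.card (LinearMap.range Y.mulVecLin) = Nat.card K ^ Y.rank :=
    Module.natCard_eq_pow_finrank (K := K)
  have e2 : Nat.card (LinearMap.range (Y.map φ).mulVecLin) = Nat.card K ^ (Y.map φ).rank :=
    Module.natCard_eq_pow_finrank (K := K)
  rw [e1, e2] at hcard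
  have h2 : 1 < Nat.card K := Finite.one_lt_card
  exact (Nat.pow_le_pow_iff_right h2).1 hcard

theorem rank_map_eq (φ : K →+* K) (hφ2 : ∀ x, φ (φ x) = x) (Y : Matrix (Fin n) (Fin n) K) :
    (Y.map φ).rank = Y.rank := by
  apply le_antisymm
  · have h1 := rank_le_rank_map φ (Y.map φ)
    have h2 : (Y.map φ).map φ = Y := by
      ext i j
      simp [hφ2]
    rwa [h2] at h1
  · exact rank_le_rank_map φ Y

theorem rank_cstar (φ : K →+* K) (hφ2 : ∀ x, φ (φ x) = x) (Y : Matrix (Fin n) (Fin n) K) :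
    (cstar φ Y).rank = Y.rank := by
  unfold cstar
  rw [Matrix.rank_transpose, rank_map_eq φ hφ2]

end rank

section conj
variable {K : Type*} [Field K] {n : ℕ}

/-- unipotent elements with the same ranks of powers of `g - 1` are conjugate -/
theorem isConj_of_rank_eq {g g' : GL (Fin n) K} (hg : IsNilpotent (nilMat g))
    (hg' : IsNilpotent (nilMat g'))
    (h : ∀ m, (nilMat g ^ m).rank = (nilMat g' ^ m).rank) : IsConj g g' := by
  have hnil : IsNilpotent (nilOf g) := by
    obtain ⟨k, hk⟩ := hg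
    exact ⟨k, (nilOf_pow_eq_zero_iff g k).2 hk⟩
  have hnil' : IsNilpotent (nilOf g') := by
    obtain ⟨k, hk⟩ := hg'
    exact ⟨k, (nilOf_pow_eq_zero_iff g' k).2 hk⟩
  obtain ⟨cb⟩ := exists_chainBasis (nilOf g) hnil
  obtain ⟨cb'⟩ := exists_chainBasis (nilOf g') hnil'
  apply isConj_of_type_eq cb cb'
  apply multiset_eq_of_sub_sums _ _ cb.type_pos cb'.type_pos
  intro m
  rw [← cb.finrank_range_pow, ← cb'.finrank_range_pow, finrank_range_nilOf_pow,
    finrank_range_nilOf_pow, h]

theorem cstar_one (φ : K →+* K) : cstar φ (1 : Matrix (Fin n) (Fin n) K) = 1 := by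
  unfold cstar
  rw [Matrix.map_one φ (map_zero φ) (map_one φ), Matrix.transpose_one]

theorem cstar_sub (φ : K →+* K) (X Y : Matrix (Fin n) (Fin n) K) :
    cstar φ (X - Y) = cstar φ X - cstar φ Y := by
  unfold cstar
  ext i j
  simp

theorem cstar_pow (φ : K →+* K) (X : Matrix (Fin n) (Fin n) K) (m : ℕ) :
    cstar φ (X ^ m) = cstar φ X ^ m := by
  induction m with
  | zero => rw [pow_zero, pow_zero, cstar_one]
  | succ m ih => rw [pow_succ, cstar_mul, ih, pow_succ']

/-- the conjugate transpose as an element of the general linear group -/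
def cstarGL (φ : K →+* K) (A : GL (Fin n) K) : GL (Fin n) K :=
  ⟨cstar φ (A : Matrix (Fin n) (Fin n) K),
    cstar φ ((A⁻¹ : GL (Fin n) K) : Matrix (Fin n) (Fin n) K),
    by rw [← cstar_mul, gln_inv_mul, cstar_one],
    by rw [← cstar_mul, gln_mul_inv, cstar_one]⟩

theorem coe_cstarGL (φ : K →+* K) (A : GL (Fin n) K) :
    ((cstarGL φ A : GL (Fin n) K) : Matrix (Fin n) (Fin n) K) =
      cstar φ (A : Matrix (Fin n) (Fin n) K) := rfl

theorem nilMat_cstarGL_inv_pow (φ : K →+* K) (A : GL (Fin n) K) (m : ℕ) :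
    nilMat (cstarGL φ A)⁻¹ ^ m =
      (-(((cstarGL φ A)⁻¹ : GL (Fin n) K) : Matrix (Fin n) (Fin n) K)) ^ m *
        cstar φ (nilMat A ^ m) := by
  set a : Matrix (Fin n) (Fin n) K := (A : Matrix (Fin n) (Fin n) K) with ha
  set Bi : Matrix (Fin n) (Fin n) K :=
    (((cstarGL φ A)⁻¹ : GL (Fin n) K) : Matrix (Fin n) (Fin n) K) with hBi
  have h1 : Bi * cstar φ a = 1 := by
    rw [hBi, ← coe_cstarGL, gln_inv_mul]
  have h1' : cstar φ a * Bi = 1 := by
    rw [hBi, ← coe_cstarGL, gln_mul_inv]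
  have h2 : nilMat (cstarGL φ A)⁻¹ = (-Bi) * cstar φ (nilMat A) := by
    unfold nilMat
    rw [cstar_sub, cstar_one, ← hBi, ← ha, Matrix.mul_sub, Matrix.mul_one, neg_mul, h1]
    abel
  have hcomm : Commute (-Bi) (cstar φ (nilMat A)) := by
    unfold nilMat
    rw [cstar_sub, cstar_one, ← ha]
    apply Commute.neg_left
    apply Commute.sub_right _ (Commute.one_right _)
    show Bi * cstar φ a = cstar φ a * Bi
    rw [h1, h1']
  rw [h2, hcomm.mul_pow, ← cstar_pow]

variable [Finite K]

theorem rank_nilMat_pow_cstarGL_inv (φ : K →+* K) (hφ2 : ∀ x, φ (φ x) = x) (A : GL (Fin n) K)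
    (m : ℕ) : (nilMat (cstarGL φ A)⁻¹ ^ m).rank = (nilMat A ^ m).rank := by
  set Bi : Matrix (Fin n) (Fin n) K :=
    (((cstarGL φ A)⁻¹ : GL (Fin n) K) : Matrix (Fin n) (Fin n) K) with hBi
  have hdet : IsUnit ((-Bi) ^ m).det := by
    rw [Matrix.det_pow]
    apply IsUnit.pow
    rw [Matrix.det_neg]
    apply IsUnit.mul
    · exact (isUnit_neg_one (α := K)).pow _
    · rw [hBi]
      exact Matrix.isUnits_det_units _
  rw [nilMat_cstarGL_inv_pow, Matrix.rank_mul_eq_right_of_isUnit_det _ _ hdet, rank_cstar φ hφ2]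

end conj

section main
variable {K : Type*} [Field K] [Fintype K] {q n : ℕ}

/-- every unipotent element of `GL_n(q²)` is conjugate to an element of `GU_n(q)` -/
theorem exists_unitary_conj_of_unipotent (hK : Fintype.card K = q ^ 2) (A : GL (Fin n) K)
    (hA : IsNilpotent (nilMat A)) : ∃ B : ↥(Cfsg.GU n K q), IsConj A (B : GL (Fin n) K) := by
  classical
  obtain ⟨φ, hφ⟩ := Cfsg.Agent.Helper11.Herm.exists_frob hK
  have hφ2 : ∀ x, φ (φ x) = x := Cfsg.Agent.Helper11.Herm.frob_frob hK φ hφ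
  rw [Cfsg.Agent.S2588.result hK A]
  set a : Matrix (Fin n) (Fin n) K := (A : Matrix (Fin n) (Fin n) K) with ha
  have hmap : ((a.map (fun x : K => x ^ q)).transpose) = cstar φ a := by
    unfold cstar
    congr 1
    ext i j
    simp [hφ]
  rw [hmap]
  -- the inverse conjugate transpose as a group element
  set A' : GL (Fin n) K := (cstarGL φ A)⁻¹ with hA'
  have hA'coe : ((A' : GL (Fin n) K) : Matrix (Fin n) (Fin n) K) = (cstar φ a)⁻¹ := by
    rw [hA', Matrix.coe_units_inv, coe_cstarGL]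
  have hnil' : IsNilpotent (nilMat A') := by
    obtain ⟨k, hk⟩ := hA
    refine ⟨k, ?_⟩
    rw [hA', nilMat_cstarGL_inv_pow, hk]
    unfold cstar
    simp
  have hconj : IsConj A A' :=
    isConj_of_rank_eq hA hnil' (fun m => (rank_nilMat_pow_cstarGL_inv φ hφ2 A m).symm)
  have := (Units.coeHom (Matrix (Fin n) (Fin n) K)).map_isConj hconj
  rw [Units.coeHom_apply, Units.coeHom_apply, hA'coe] at this
  exact this

end main

end Cfsg.Agent.Helper13.UniU
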