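import Mathlib
import Cfsg.Agent.Lib.Helper13.SuNd15
import Cfsg.Agent.Lib.Helper13.SuNd8
import Cfsg.Agent.Lib.Helper13.UnipotentUnitary
import Cfsg.Agent.Lib.Helper13.OrthJp4
import Cfsg.Agent.Lib.Helper17.JordanOrthFinish

set_option autoImplicit false
set_option linter.unusedSectionVars false

/-!
# Unipotent elements of unitary groups fixing nondegenerate subspaces: the criterion
-/

namespace Cfsg.Agent.Helper13.SuNd

open Polynomial Module Cfsg.Agent.Helper13.Uni Cfsg.Agent.Helper13.OrthJp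
  Cfsg.Agent.Helper13.Nilp
open scoped Classical

universe u

section exist
variable {K : Type*} [Field K] [Fintype K] {q : ℕ}

/-- existence of a unipotent unitary matrix of each type -/
theorem exists_unip_u (hK : Fintype.card K = q ^ 2) (μ : Multiset ℕ) (hpos : ∀ a ∈ μ, 0 < a)
    (n : ℕ) (hsum : μ.sum = n) :
    ∃ g : Matrix (Fin n) (Fin n) K, Pres q g ∧
      HasType (Matrix.toLin' g - 1 : Module.End K (Fin n → K)) μ := by
  obtain ⟨l, rfl⟩ := Quot.exists_rep μ
  let k : Fin l.length → ℕ := fun i => l.get i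
  have hk : Finset.univ.val.map k = (l : Multiset ℕ) := by
    rw [Fin.univ_val_map, List.ofFn_get]
  have hkpos : ∀ i, 1 ≤ k i := fun i => hpos _ (by
    show l.get i ∈ (l : Multiset ℕ)
    exact Multiset.mem_coe.2 (List.get_mem l i))
  have hksum : ∑ i, k i = n := by
    rw [← hsum]
    change (Finset.univ.val.map k).sum = _
    rw [hk]
    rfl
  have hcard : Fintype.card ((i : Fin l.length) × Fin (k i)) = n := by
    rw [Fintype.card_sigma]
    simp only [Fintype.card_fin]
    exact hksum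
  let e := Fintype.equivFinOfCardEq hcard
  have hJ : IsUnit (Cfsg.jordanTypeMatrix k K) :=
    Cfsg.Agent.Helper17.JordanOrthFinish.isUnit_jordanTypeMatrix k
  have hA0 : IsUnit (Matrix.reindex e e (Cfsg.jordanTypeMatrix k K)) := by
    rw [Matrix.isUnit_iff_isUnit_det, Matrix.det_reindex_self]
    exact (Matrix.isUnit_iff_isUnit_det _).1 hJ
  obtain ⟨A, hA⟩ := hA0
  have hnil : IsNilpotent (nilMat (A : GL (Fin n) K)) := by
    refine ⟨∑ i, k i, ?_⟩
    unfold nilMat
    rw [hA, Matrix.reindex_apply, Cfsg.Agent.Helper17.JordanForms.submatrix_sub_one_pow,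
      Cfsg.Agent.Helper17.JordanOrthFinish.jordanTypeMatrix_sub_one_pow_sum]
    ext a b
    rfl
  obtain ⟨B, hB⟩ := Cfsg.Agent.Helper13.UniU.exists_unitary_conj_of_unipotent hK A hnil
  have hconj := (Units.coeHom (Matrix (Fin n) (Fin n) K)).map_isConj hB
  rw [Units.coeHom_apply, Units.coeHom_apply, hA] at hconj
  refine ⟨((B : GL (Fin n) K) : Matrix (Fin n) (Fin n) K), ?_, ?_⟩
  · exact B.2
  · have := hasType_of_isConj k hkpos e _ hconj
    rw [hk] at this
    exact this

end exist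

section main
variable {F : Type*} {K : Type u} [Field F] [Field K] [Fintype K] [Algebra F K]
  [FiniteDimensional F K] {p : ℕ} [Fact p.Prime] [CharP K p] {q : ℕ} {σ : K →ₐ[F] K}

/-- sufficiency for elements whose `p`-th power is scalar -/
theorem unip_suff_main (hK : Fintype.card K = q ^ 2) (hσ : ∀ x, σ x = x ^ q)
    (hσ2 : ∀ x, σ (σ x) = x) (hσ1 : ∃ c, σ c ≠ c) (n m : ℕ) (hn : 0 < n)
    (hcond : ∀ μ : Multiset ℕ, (∀ a ∈ μ, 0 < a ∧ a ≤ p) → μ.sum = n →
      ∃ ν : Multiset ℕ, ν ≤ μ ∧ ν.sum = m)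
    (g : Matrix (Fin n) (Fin n) K) (hg : Pres q g) (z : K) (hgz : g ^ p = z • 1) :
    FixN (Cfsg.hermForm n K q) (Matrix.toLin' g) m := by
  have hq := q_pos hK
  have hz := norm_of_pow_scalar (by omega) hn hg p z hgz
  obtain ⟨w, hw, hwn⟩ := exists_root_char hK p z hz
  have hw0 : w ≠ 0 := by
    rintro rfl
    rw [zero_pow (by omega)] at hwn
    exact zero_ne_one hwn
  have hwσ : w⁻¹ * σ w⁻¹ = 1 := by
    rw [hσ, inv_pow, ← mul_inv, ← pow_succ', hwn, inv_one]
  have hA := uinv_toLin' hσ hσ2 g hg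
  have hA' : UInv σ (w⁻¹ • Matrix.toLin' g) (Cfsg.hermForm n K q) := uinv_smul hA w⁻¹ hwσ
  have hAr' : (w⁻¹ • Matrix.toLin' g) ^ p = 1 := by
    rw [smul_pow_end, toLin'_pow_scalar g p z hgz, smul_smul, inv_pow, hw, inv_mul_cancel₀,
      one_smul]
    rw [← hw]
    exact pow_ne_zero _ hw0
  have hfin : finrank K (Fin n → K) = n := finrank_fin_fun' n
  have hNp : (w⁻¹ • Matrix.toLin' g - 1) ^ p = 0 := by
    haveI : CharP (Module.End K (Fin n → K)) p := by
      haveI : Nontrivial (Fin n → K) := by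
        apply Module.nontrivial_of_finrank_pos (R := K)
        rw [hfin]
        exact hn
      exact charP_of_injective_algebraMap
        (algebraMap K (Module.End K (Fin n → K))).injective p
    have h1 := sub_pow_char_of_commute p (Commute.one_right (w⁻¹ • Matrix.toLin' g))
    rw [h1, hAr', one_pow, sub_self]
  obtain ⟨μ, hμ⟩ := exists_hasType (w⁻¹ • Matrix.toLin' g - 1) ⟨p, hNp⟩
  have hle := Cfsg.Agent.Helper13.SpNd.hasType_le_of_pow_eq_zero hμ p hNp
  have hsum : μ.sum = n := by rw [hμ.sum, hfin]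
  obtain ⟨ν, h1, h3⟩ := hcond μ (fun a ha => ⟨hμ.1 a ha, hle a ha⟩) hsum
  have := unip_suff_u hσ2 hσ1 n (Cfsg.hermForm n K q) (w⁻¹ • Matrix.toLin' g) hfin hA' μ hμ ν h1
  rw [h3] at this
  exact (fixN_smul_iff (Matrix.toLin' g) w⁻¹ (inv_ne_zero hw0) m).1 this

/-- necessity -/
theorem unip_nec_main (hK : Fintype.card K = q ^ 2) (hσ : ∀ x, σ x = x ^ q)
    (hσ2 : ∀ x, σ (σ x) = x) (hσ1 : ∃ c, σ c ≠ c) (n m : ℕ) (hmn : m ≤ n)
    (hall : ∀ g : Matrix (Fin n) (Fin n) K, Pres q g → g.det = 1 → g ^ p = 1 →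
      (∀ z : K, g ≠ z • 1) → FixN (Cfsg.hermForm n K q) (Matrix.toLin' g) m) :
    ∀ μ : Multiset ℕ, (∀ a ∈ μ, 0 < a ∧ a ≤ p) → μ.sum = n →
      ∃ ν : Multiset ℕ, ν ≤ μ ∧ ν.sum = m := by
  intro μ hμ hsum
  by_cases hones : ∀ a ∈ μ, a = 1
  · obtain ⟨ν, h1, h2, -⟩ := all_ones_case μ hones m (by rw [hsum]; exact hmn)
    exact ⟨ν, h1, h2⟩
  push Not at hones
  obtain ⟨a, ha, ha1⟩ := hones
  have ha2 : 2 ≤ a := by
    have := (hμ a ha).1
    omega
  obtain ⟨g, hgP, hg⟩ := exists_unip_u hK μ (fun a ha => (hμ a ha).1) n hsum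
  have hgp : Matrix.toLin' g ^ p = 1 := pow_char_eq_one p hg (fun a ha => (hμ a ha).2)
  have hgp' : g ^ p = 1 := by
    apply (Matrix.toLin' (R := K) (m := Fin n) (n := Fin n)).injective
    rw [← toLin'_pow_eq, hgp, Matrix.toLin'_one]
    rfl
  have hdet : g.det = 1 :=
    eq_one_of_pow_char p g.det (by rw [← Matrix.det_pow, hgp', Matrix.det_one])
  have hns : ∀ z : K, g ≠ z • 1 := by
    intro z hz
    apply not_smul_of_hasType hg a ha ha2 (z - 1)
    rw [hz, toLin'_scalar, sub_smul (z : K) 1 (1 : Module.End K (Fin n → K)), one_smul]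
  obtain ⟨W, hWm, hWnd, hWinv⟩ := hall g hgP hdet hgp' hns
  obtain ⟨ν, h1, h3⟩ := sub_type_u hσ2 hσ1 (Matrix.toLin' g) (uinv_toLin' hσ hσ2 g hgP) hg W
    hWnd hWinv
  exact ⟨ν, h1, by rw [h3, hWm]⟩

end main

section two

/-- partitions into parts of size at most two -/
theorem two_parts_iff (n m : ℕ) (hmn : m ≤ n) :
    (∀ μ : Multiset ℕ, (∀ a ∈ μ, 0 < a ∧ a ≤ 2) → μ.sum = n →
      ∃ ν : Multiset ℕ, ν ≤ μ ∧ ν.sum = m) ↔ (Odd n ∨ Even m) := by
  constructor
  · intro h
    by_contra hcon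
    push Not at hcon
    obtain ⟨hn, hm⟩ := hcon
    rw [Nat.not_odd_iff_even] at hn
    rw [Nat.not_even_iff_odd] at hm
    obtain ⟨t, ht⟩ := hn
    obtain ⟨ν, hν, hνs⟩ := h (Multiset.replicate t 2) (by
      intro a ha
      rw [Multiset.eq_of_mem_replicate ha]
      omega) (by rw [Multiset.sum_replicate, smul_eq_mul]; omega)
    obtain ⟨k, -, rfl⟩ := Multiset.le_replicate_iff.1 hν
    rw [Multiset.sum_replicate, smul_eq_mul] at hνs
    obtain ⟨s, hs⟩ := hm
    omega
  · intro h μ hμ hsum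
    set a := μ.count 1 with ha
    set b := μ.count 2 with hb
    have hμeq : μ = Multiset.replicate a 1 + Multiset.replicate b 2 := by
      ext x
      rw [Multiset.count_add, Multiset.count_replicate, Multiset.count_replicate]
      by_cases h1 : x = 1
      · subst h1
        simp [ha]
      · by_cases h2 : x = 2
        · subst h2
          simp [hb]
        · rw [if_neg (Ne.symm h1), if_neg (Ne.symm h2)]
          apply Multiset.count_eq_zero_of_notMem
          intro hx
          have := hμ x hx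
          omega
    have hn : a + 2 * b = n := by
      rw [← hsum]
      conv_rhs => rw [hμeq]
      rw [Multiset.sum_add, Multiset.sum_replicate, Multiset.sum_replicate, smul_eq_mul,
        smul_eq_mul]
      ring
    have hpar : n % 2 = 1 ∨ m % 2 = 0 := by
      rcases h with h | h
      · exact Or.inl (Nat.odd_iff.1 h)
      · exact Or.inr (Nat.even_iff.1 h)
    rcases le_total b (m / 2) with hbm | hbm
    · refine ⟨Multiset.replicate (m - 2 * b) 1 + Multiset.replicate b 2, ?_, ?_⟩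
      · rw [hμeq]
        exact add_le_add ((Multiset.replicate_le_replicate _).2 (by omega)) le_rfl
      · rw [Multiset.sum_add, Multiset.sum_replicate, Multiset.sum_replicate, smul_eq_mul,
          smul_eq_mul]
        omega
    · refine ⟨Multiset.replicate (m % 2) 1 + Multiset.replicate (m / 2) 2, ?_, ?_⟩
      · rw [hμeq]
        exact add_le_add ((Multiset.replicate_le_replicate _).2 (by omega))
          ((Multiset.replicate_le_replicate _).2 hbm)
      · rw [Multiset.sum_add, Multiset.sum_replicate, Multiset.sum_replicate, smul_eq_mul,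
          smul_eq_mul]
        omega

end two

end Cfsg.Agent.Helper13.SuNd
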