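import Mathlib
import Cfsg.Agent.Lib.Helper13.SuNd16
import Cfsg.Agent.Lib.Helper13.SuNd13
import Cfsg.Agent.Lib.Helper13.SuNd10

set_option autoImplicit false
set_option linter.unusedSectionVars false

/-!
# Elements of prime order of unitary groups fixing nondegenerate subspaces: assembly
-/

namespace Cfsg.Agent.Helper13.SuNd

open Polynomial Module Cfsg.Agent.Helper13.Uni Cfsg.Agent.Helper13.OrthJp
open scoped Classical

universe u

section conv
variable {F : Type u} [Field F] [Fintype F] {q : ℕ}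

theorem fixn_iff_u {n : ℕ} (g : Matrix (Fin n) (Fin n) F) (m : ℕ) :
    (∃ W : Submodule F (Fin n → F), Module.finrank F ↥W = m ∧
      (∀ u ∈ W, u ≠ 0 → ∃ v ∈ W, Cfsg.hermForm n F q u v ≠ 0) ∧
      W.map (Matrix.toLin' g) ≤ W) ↔ FixN (Cfsg.hermForm n F q) (Matrix.toLin' g) m := by
  unfold FixN
  constructor
  · rintro ⟨W, h1, h2, h3⟩
    refine ⟨W, h1, (ndOn_iff _ W).1 h2, ?_⟩
    rw [Submodule.map_le_iff_le_comap] at h3
    exact fun v hv => h3 hv
  · rintro ⟨W, h1, h2, h3⟩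
    refine ⟨W, h1, (ndOn_iff _ W).2 h2, ?_⟩
    rw [Submodule.map_le_iff_le_comap]
    exact fun v hv => h3 v hv

/-- reformulation of the quantification over `SU` -/
theorem forall_su_iff (n m r : ℕ) :
    (∀ x : Matrix.SpecialLinearGroup (Fin n) F, x ∈ Cfsg.SU n F q →
      (∃ z : F, ((x ^ r : Matrix.SpecialLinearGroup (Fin n) F) : Matrix (Fin n) (Fin n) F) =
        z • (1 : Matrix (Fin n) (Fin n) F)) →
      (∀ z : F, (x : Matrix (Fin n) (Fin n) F) ≠ z • (1 : Matrix (Fin n) (Fin n) F)) →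
      ∃ W : Submodule F (Fin n → F), Module.finrank F ↥W = m ∧
        (∀ u ∈ W, u ≠ 0 → ∃ v ∈ W, Cfsg.hermForm n F q u v ≠ 0) ∧
        W.map (Matrix.toLin' (x : Matrix (Fin n) (Fin n) F)) ≤ W) ↔
    (∀ g : Matrix (Fin n) (Fin n) F, Pres q g → g.det = 1 → (∃ z : F, g ^ r = z • 1) →
      (∀ z : F, g ≠ z • 1) → FixN (Cfsg.hermForm n F q) (Matrix.toLin' g) m) := by
  constructor
  · intro h g hg hdet hz hns
    set x : Matrix.SpecialLinearGroup (Fin n) F := ⟨g, hdet⟩ with hx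
    have hxg : (x : Matrix (Fin n) (Fin n) F) = g := rfl
    have := h x hg (by
      obtain ⟨z, hz⟩ := hz
      refine ⟨z, ?_⟩
      rw [Matrix.SpecialLinearGroup.coe_pow, hxg]
      exact hz) hns
    exact (fixn_iff_u g m).1 this
  · intro h x hx hz hns
    apply (fixn_iff_u (x : Matrix (Fin n) (Fin n) F) m).2
    have hP : Pres q (x : Matrix (Fin n) (Fin n) F) := hx
    refine h (x : Matrix (Fin n) (Fin n) F) hP x.2 ?_ hns
    obtain ⟨z, hz⟩ := hz
    refine ⟨z, ?_⟩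
    rw [← Matrix.SpecialLinearGroup.coe_pow]
    exact hz

end conv

section main
variable {F : Type u} [Field F] [Fintype F] {p : ℕ} [Fact p.Prime] [CharP F p] {q : ℕ}

theorem nd_main_u (hq : Fintype.card F = q ^ 2)
    (n m : ℕ) (hn : 3 ≤ n) (_hT : (n, q) ≠ (3, 2)) (hm : 1 ≤ m) (hmn : 2 * m < n)
    (r : ℕ) [Fact r.Prime]
    (hrΩ : r ∣ Nat.card {W : Submodule F (Fin n → F) // Module.finrank F ↥W = m ∧
      (∀ u ∈ W, u ≠ 0 → ∃ v ∈ W, Cfsg.hermForm n F q u v ≠ 0)})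
    (i b c : ℕ) (hi : i = orderOf (q : ZMod r)) (hb : b = if Even i then i / 2 else i)
    (hc : c = if i % 4 = 0 then i else if i % 4 = 2 then i / 2 else 2 * i) :
    (∀ x : Matrix.SpecialLinearGroup (Fin n) F, x ∈ Cfsg.SU n F q →
      (∃ z : F, ((x ^ r : Matrix.SpecialLinearGroup (Fin n) F) : Matrix (Fin n) (Fin n) F) =
        z • (1 : Matrix (Fin n) (Fin n) F)) →
      (∀ z : F, (x : Matrix (Fin n) (Fin n) F) ≠ z • (1 : Matrix (Fin n) (Fin n) F)) →
      ∃ W : Submodule F (Fin n → F), Module.finrank F ↥W = m ∧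
        (∀ u ∈ W, u ≠ 0 → ∃ v ∈ W, Cfsg.hermForm n F q u v ≠ 0) ∧
        W.map (Matrix.toLin' (x : Matrix (Fin n) (Fin n) F)) ≤ W) ↔
    ((r = p ∧ 2 < p ∧ (∀ μ : Multiset ℕ, (∀ a ∈ μ, 0 < a ∧ a ≤ p) → μ.sum = n →
        ∃ ν : Multiset ℕ, ν ≤ μ ∧ ν.sum = m)) ∨
     (r = p ∧ p = 2 ∧ (Odd n ∨ Even m)) ∨
     (r = 2 ∧ p ≠ 2 ∧ (Odd n ∨ Even m ∨
        (padicValNat 2 n ≤ padicValNat 2 (q + 1) ∧ q % 4 = 3))) ∨
     (r ≠ p ∧ 2 < r ∧ ((i ≠ 2 ∧ c ≤ m ∧ m % c ≤ n % c) ∨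
        (i = 2 ∧ (r ∣ m ∨ padicValNat r n ≤ padicValNat r (q + 1)))))) := by
  have hr : r.Prime := Fact.out
  have hp : p.Prime := Fact.out
  let _ := ZMod.algebra F p
  obtain ⟨σ, hσ, hσ2, hσ1⟩ := exists_frobAlg hq p
  have hn0 : 0 < n := by omega
  have hmn' : m ≤ n := by omega
  have hmlt : m < n := by omega
  rw [forall_su_iff]
  by_cases hrp : r = p
  · subst hrp
    have hmain : (∀ g : Matrix (Fin n) (Fin n) F, Pres q g → g.det = 1 →
        (∃ z : F, g ^ r = z • 1) → (∀ z : F, g ≠ z • 1) →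
        FixN (Cfsg.hermForm n F q) (Matrix.toLin' g) m) ↔
        (∀ μ : Multiset ℕ, (∀ a ∈ μ, 0 < a ∧ a ≤ r) → μ.sum = n →
          ∃ ν : Multiset ℕ, ν ≤ μ ∧ ν.sum = m) := by
      constructor
      · intro hall
        apply unip_nec_main hq hσ hσ2 hσ1 n m hmn'
        intro g hg hdet hgr hns
        exact hall g hg hdet ⟨1, by rw [hgr, one_smul]⟩ hns
      · intro hcond g hg _ ⟨z, hgz⟩ _
        exact unip_suff_main hq hσ hσ2 hσ1 n m hn0 hcond g hg z hgz
    rw [hmain]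
    by_cases hr2 : r = 2
    · subst hr2
      rw [two_parts_iff n m hmn']
      constructor
      · intro h
        exact Or.inr (Or.inl ⟨rfl, rfl, h⟩)
      · rintro (⟨-, h, -⟩ | ⟨-, -, h⟩ | ⟨-, h, -⟩ | ⟨h, -⟩)
        · omega
        · exact h
        · exact absurd rfl h
        · exact absurd rfl h
    · have hr3 : 2 < r := by
        have := hr.two_le
        omega
      constructor
      · intro h
        exact Or.inl ⟨rfl, hr3, h⟩
      · rintro (⟨-, -, h⟩ | ⟨-, h, -⟩ | ⟨h, -⟩ | ⟨h, -⟩)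
        · exact h
        · exact absurd h hr2
        · exact absurd h hr2
        · exact absurd rfl h
  by_cases hr2 : r = 2
  · subst hr2
    have hp2 : p ≠ 2 := fun h => hrp h.symm
    constructor
    · intro hall
      exact Or.inr (Or.inr (Or.inl ⟨rfl, hp2, two_nec hq hσ hσ2 hσ1 hp2 n m hn0 hall⟩))
    · rintro (⟨h, -⟩ | ⟨h, -⟩ | ⟨-, -, hcond⟩ | ⟨-, h, -⟩)
      · exact absurd h hrp
      · exact absurd h hrp
      · intro g hg hdet ⟨z, hgz⟩ _
        exact two_suff hq hσ hσ2 hσ1 hp2 n m hn0 hmn' hcond g hg hdet z hgz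
      · omega
  · have hr3 : 2 < r := by
      have := hr.two_le
      omega
    have hrΩ' : r ∣ Nat.card (NdSubS (Cfsg.hermForm n F q) m) := by
      have : Nat.card (NdSubS (Cfsg.hermForm n F q) m) =
          Nat.card {W : Submodule F (Fin n → F) // Module.finrank F ↥W = m ∧
            (∀ u ∈ W, u ≠ 0 → ∃ v ∈ W, Cfsg.hermForm n F q u v ≠ 0)} := by
        apply Nat.card_congr
        apply Equiv.subtypeEquivRight
        intro W
        rw [ndOn_iff]
      rw [this]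
      exact hrΩ
    have hi2 : i = 2 ↔ r ∣ q + 1 := by
      rw [hi]
      exact orderOf_eq_two_iff hr hr2
    by_cases hdvd : r ∣ q + 1
    · have hi2' : i = 2 := hi2.2 hdvd
      constructor
      · intro hall
        refine Or.inr (Or.inr (Or.inr ⟨hrp, hr3, Or.inr ⟨hi2', ?_⟩⟩))
        exact odd_nec_dvd hq hσ hσ2 hσ1 hr hr2 hrp hdvd n m hn0 hall
      · rintro (⟨h, -⟩ | ⟨h, -⟩ | ⟨h, -⟩ | ⟨-, -, ⟨h, -⟩ | ⟨-, hcond⟩⟩)
        · exact absurd h hrp
        · exact absurd h hrp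
        · exact absurd h hr2
        · exact absurd hi2' h
        · intro g hg hdet ⟨z, hgz⟩ _
          exact odd_suff_dvd hq hσ hσ2 hσ1 hr hr2 hrp hdvd n m hn0 hmn' hcond g hg hdet z hgz
    · have hi2' : i ≠ 2 := fun h => hdvd (hi2.1 h)
      constructor
      · intro hall
        refine Or.inr (Or.inr (Or.inr ⟨hrp, hr3, Or.inl ⟨hi2', ?_⟩⟩))
        apply odd_nec_coprime hq hσ hσ2 hσ1 hr hr2 hrp i b c hi hb hc hdvd n m hn0 hmlt hrΩ'
        intro g hg hdet hgr hns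
        exact hall g hg hdet ⟨1, by rw [hgr, one_smul]⟩ hns
      · rintro (⟨h, -⟩ | ⟨h, -⟩ | ⟨h, -⟩ | ⟨-, -, ⟨-, -, hcond⟩ | ⟨h, -⟩⟩)
        · exact absurd h hrp
        · exact absurd h hrp
        · exact absurd h hr2
        · intro g hg _ ⟨z, hgz⟩ _
          exact odd_suff_coprime hq hσ hσ2 hσ1 hr hr2 hrp i b c hi hb hc hdvd n m hn0 hmn' hcond
            g hg z hgz
        · exact absurd h hi2'

end main

end Cfsg.Agent.Helper13.SuNd
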