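import Mathlib
import Cfsg.Agent.Lib.Helper13.SuNd7

set_option autoImplicit false
set_option linter.unusedSectionVars false

/-!
# Invariant totally isotropic subspaces of hermitian spaces: general constructions
-/

namespace Cfsg.Agent.Helper13.SuTi

open Polynomial Module Cfsg.Agent.Helper13.Uni Cfsg.Agent.Helper13.SuNd
open scoped Classical

universe u

section basic
variable {F K : Type*} [Field F] [Field K] [Algebra F K]
variable {V : Type*} [AddCommGroup V] [Module F V] [Module K V] [IsScalarTower F K V]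
variable {σ : K →ₐ[F] K}

/-- the form vanishes on a submodule -/
def TiOn (H : V → V → K) (W : Submodule K V) : Prop :=
  ∀ u ∈ W, ∀ v ∈ W, H u v = 0

/-- the endomorphism `A` leaves invariant a totally isotropic subspace of dimension `m` -/
def FixT (H : V → V → K) (A : Module.End K V) (m : ℕ) : Prop :=
  ∃ W : Submodule K V, finrank K W = m ∧ TiOn H W ∧ ∀ v ∈ W, A v ∈ W

variable {H : V → V → K} (A : Module.End K V)

theorem FixT.zero (h : IsSesq σ H) : FixT H A 0 :=
  ⟨⊥, finrank_bot K V, fun u hu v _ => by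
    rw [(Submodule.mem_bot K).1 hu]
    exact h.zero_left v, fun v hv => by
    rw [(Submodule.mem_bot K).1 hv, map_zero]
    exact Submodule.zero_mem _⟩

/-- subspaces of an invariant subspace -/
theorem FixT.of_sub (V₁ : Submodule K V) (hV₁ : ∀ v ∈ V₁, A v ∈ V₁) (m : ℕ)
    (h : FixT (resH H V₁) (A.restrict hV₁) m) : FixT H A m := by
  obtain ⟨W, hWm, hWti, hWinv⟩ := h
  refine ⟨W.map V₁.subtype, ?_, ?_, ?_⟩
  · rw [Submodule.finrank_map_subtype_eq, hWm]
  · rintro _ ⟨u, hu, rfl⟩ _ ⟨v, hv, rfl⟩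
    exact hWti u hu v hv
  · rintro _ ⟨u, hu, rfl⟩
    exact ⟨A.restrict hV₁ u, hWinv u hu, rfl⟩

/-- a version of `FixT.of_sub` producing the subspace -/
theorem exists_sub_of_fixT (V₁ : Submodule K V) (hV₁ : ∀ v ∈ V₁, A v ∈ V₁) (m : ℕ)
    (h : FixT (resH H V₁) (A.restrict hV₁) m) :
    ∃ W : Submodule K V, W ≤ V₁ ∧ finrank K W = m ∧ TiOn H W ∧ ∀ v ∈ W, A v ∈ W := by
  obtain ⟨W, hWm, hWti, hWinv⟩ := h
  refine ⟨W.map V₁.subtype, Submodule.map_subtype_le V₁ W, ?_, ?_, ?_⟩
  · rw [Submodule.finrank_map_subtype_eq, hWm]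
  · rintro _ ⟨u, hu, rfl⟩ _ ⟨v, hv, rfl⟩
    exact hWti u hu v hv
  · rintro _ ⟨u, hu, rfl⟩
    exact ⟨A.restrict hV₁ u, hWinv u hu, rfl⟩

/-- sums of mutually orthogonal totally isotropic subspaces -/
theorem FixT.sup [FiniteDimensional K V] (h : IsSesq σ H) (W₁ W₂ : Submodule K V)
    (h₁ : TiOn H W₁) (h₂ : TiOn H W₂) (horth : ∀ u ∈ W₁, ∀ v ∈ W₂, H u v = 0)
    (hdisj : W₁ ⊓ W₂ = ⊥) (hinv₁ : ∀ v ∈ W₁, A v ∈ W₁) (hinv₂ : ∀ v ∈ W₂, A v ∈ W₂) :
    FixT H A (finrank K W₁ + finrank K W₂) := by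
  have horth' : ∀ u ∈ W₂, ∀ v ∈ W₁, H u v = 0 := by
    intro u hu v hv
    rw [h.conj, horth v hv u hu, map_zero]
  refine ⟨W₁ ⊔ W₂, ?_, ?_, ?_⟩
  · have := Submodule.finrank_sup_add_finrank_inf_eq W₁ W₂
    rw [hdisj, finrank_bot, add_zero] at this
    exact this
  · intro u hu v hv
    obtain ⟨a, ha, b, hb, rfl⟩ := Submodule.mem_sup.1 hu
    obtain ⟨c, hc, d, hd, rfl⟩ := Submodule.mem_sup.1 hv
    rw [h.add_left, h.add_right, h.add_right, h₁ a ha c hc, horth a ha d hd, horth' b hb c hc,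
      h₂ b hb d hd]
    ring
  · intro v hv
    obtain ⟨a, ha, b, hb, rfl⟩ := Submodule.mem_sup.1 hv
    rw [map_add]
    exact Submodule.add_mem _ (Submodule.mem_sup_left (hinv₁ a ha))
      (Submodule.mem_sup_right (hinv₂ b hb))

/-- a totally isotropic subspace of a nondegenerate invariant block together with one of its
orthogonal -/
theorem FixT.add_block [FiniteDimensional K V] (hA : UInv σ A H) (Q : Submodule K V)
    (hQnd : NdOn H Q) (hQinv : ∀ v ∈ Q, A v ∈ Q) (a b : ℕ)
    (h₁ : FixT (resH H Q) (A.restrict hQinv) a)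
    (h₂ : FixT (resH H (orth hA.sesq Q)) (A.restrict (orth_inv hA Q hQinv)) b) :
    FixT H A (a + b) := by
  obtain ⟨W₁, hW₁Q, hW₁m, hW₁ti, hW₁inv⟩ := exists_sub_of_fixT A Q hQinv a h₁
  obtain ⟨W₂, hW₂Q, hW₂m, hW₂ti, hW₂inv⟩ :=
    exists_sub_of_fixT A (orth hA.sesq Q) (orth_inv hA Q hQinv) b h₂
  have horth : ∀ u ∈ W₁, ∀ v ∈ W₂, H u v = 0 := by
    intro u hu v hv
    exact hW₂Q hv u (hW₁Q hu)
  have hdisj : W₁ ⊓ W₂ = ⊥ := by
    rw [eq_bot_iff]
    rintro x ⟨hx1, hx2⟩
    rw [Submodule.mem_bot]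
    apply hQnd x (hW₁Q hx1)
    intro v hv
    rw [hA.sesq.conj, hW₂Q hx2 v hv, map_zero]
  have := FixT.sup A hA.sesq W₁ W₂ hW₁ti hW₂ti horth hdisj hW₁inv hW₂inv
  rwa [hW₁m, hW₂m] at this

theorem fixT_of_smul (w : K) (m : ℕ) (h : FixT H A m) : FixT H (w • A) m := by
  obtain ⟨W, hWm, hWti, hWinv⟩ := h
  refine ⟨W, hWm, hWti, fun v hv => ?_⟩
  rw [LinearMap.smul_apply]
  exact W.smul_mem w (hWinv v hv)

theorem fixT_smul_iff (w : K) (hw : w ≠ 0) (m : ℕ) : FixT H (w • A) m ↔ FixT H A m := by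
  constructor
  · intro h
    have := fixT_of_smul (w • A) w⁻¹ m h
    rwa [smul_smul, inv_mul_cancel₀ hw, one_smul] at this
  · exact fixT_of_smul A w m

/-- transport along an isometry commuting with the endomorphism -/
theorem FixT.of_iso {H' : V → V → K} (Z : V ≃ₗ[K] V) (hZc : ∀ v, Z (A v) = A (Z v))
    (hZ : ∀ u v, H (Z u) (Z v) = H' u v) (m : ℕ) (h : FixT H' A m) : FixT H A m := by
  obtain ⟨W, hWm, hWti, hWinv⟩ := h
  refine ⟨W.map (Z : V →ₗ[K] V), ?_, ?_, ?_⟩
  · rw [LinearEquiv.finrank_map_eq Z W, hWm]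
  · rintro _ ⟨u, hu, rfl⟩ _ ⟨v, hv, rfl⟩
    show H (Z u) (Z v) = 0
    rw [hZ]
    exact hWti u hu v hv
  · rintro _ ⟨u, hu, rfl⟩
    refine ⟨A u, hWinv u hu, ?_⟩
    show Z (A u) = A (Z u)
    exact hZc u

theorem exists_sub_finrank_eq [FiniteDimensional K V] (U : Submodule K V) (m : ℕ)
    (hm : m ≤ finrank K U) : ∃ W : Submodule K V, W ≤ U ∧ finrank K W = m := by
  set b := Module.finBasis K U with hb
  set s : Fin m → V := fun j => (b (Fin.castLE hm j) : V) with hs
  have hli : LinearIndependent K s := by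
    have h1 : LinearIndependent K (fun j : Fin m => b (Fin.castLE hm j)) :=
      b.linearIndependent.comp _ (Fin.castLE_injective hm)
    exact h1.map' U.subtype (Submodule.ker_subtype U)
  refine ⟨Submodule.span K (Set.range s), ?_, ?_⟩
  · rw [Submodule.span_le]
    rintro _ ⟨j, rfl⟩
    exact (b (Fin.castLE hm j)).2
  · rw [finrank_span_eq_card hli, Fintype.card_fin]

/-- smaller totally isotropic subspaces when the endomorphism is a scalar -/
theorem FixT.mono_of_scalar [FiniteDimensional K V] (w : K) (hA : A = w • 1) (m m' : ℕ)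
    (hm : m' ≤ m) (h : FixT H A m) : FixT H A m' := by
  obtain ⟨W, hWm, hWti, -⟩ := h
  obtain ⟨W', hW'W, hW'm⟩ := exists_sub_finrank_eq W m' (by rw [hWm]; exact hm)
  refine ⟨W', hW'm, fun u hu v hv => hWti u (hW'W hu) v (hW'W hv), fun v hv => ?_⟩
  rw [hA, LinearMap.smul_apply, Module.End.one_apply]
  exact W'.smul_mem w hv

end basic

section dims
variable {F K : Type*} [Field F] [Field K] [Algebra F K] [FiniteDimensional F K]
variable {V : Type*} [AddCommGroup V] [Module F V] [Module K V] [IsScalarTower F K V]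
  [FiniteDimensional K V]
variable {σ : K →ₐ[F] K} {H : V → V → K}

/-- totally isotropic subspaces have at most half the dimension -/
theorem ti_finrank_le (hσ2 : ∀ x, σ (σ x) = x) (hσ1 : ∃ c, σ c ≠ c) (h : IsSesq σ H)
    (W : Submodule K V) (hW : TiOn H W) : 2 * finrank K W ≤ finrank K V := by
  obtain ⟨tr, htr, htrσ⟩ := exists_tr σ hσ2 hσ1
  haveI : Module.Finite F V := Module.Finite.trans K V
  set B := trForm tr H h with hB
  have hnd : B.Nondegenerate := by
    have hl : ∀ u, (∀ v, B u v = 0) → u = 0 := by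
      intro u hu
      apply h.nondeg
      intro v
      apply eq_zero_of_tr tr htr
      intro c
      have := hu (σ c • v)
      rwa [hB, trForm_apply, h.smul_right, hσ2] at this
    refine ⟨hl, ?_⟩
    intro v hv
    apply hl
    intro u
    have := hv u
    rw [hB, trForm_apply] at this ⊢
    rw [h.conj, htrσ]
    exact this
  set WF : Submodule F V := W.restrictScalars F with hWF
  have hle : WF ≤ B.orthogonal WF := by
    intro v hv
    rw [LinearMap.BilinForm.mem_orthogonal_iff]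
    intro u hu
    show B u v = 0
    rw [hB, trForm_apply, hW u hu v hv, map_zero]
  have h1 := LinearMap.BilinForm.finrank_orthogonal hnd WF
  have h2 := Submodule.finrank_mono hle
  have h3 : finrank F WF ≤ finrank F V := Submodule.finrank_le WF
  have h4 : finrank F K * finrank K V = finrank F V := Module.finrank_mul_finrank F K V
  have h5 : finrank F K * finrank K W = finrank F WF := by
    rw [Module.finrank_mul_finrank F K W]
    exact LinearEquiv.finrank_eq ((Submodule.restrictScalarsEquiv F K V W).restrictScalars F).symm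
  have hd : 0 < finrank F K := Module.finrank_pos
  have h6 : finrank F K * (2 * finrank K W) ≤ finrank F K * finrank K V := by
    rw [h4]
    have : finrank F K * (2 * finrank K W) = 2 * (finrank F K * finrank K W) := by ring
    rw [this, h5]
    omega
  exact Nat.le_of_mul_le_mul_left h6 hd

end dims

end Cfsg.Agent.Helper13.SuTi
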