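import Mathlib
import Cfsg.Agent.Lib.Helper13.SuTi1
import Cfsg.Agent.Lib.Helper13.SuNd3

set_option autoImplicit false
set_option linter.unusedSectionVars false

/-!
# Totally isotropic invariant subspaces inside minimal blocks of semisimple isometries
-/

namespace Cfsg.Agent.Helper13.SuTi

open Polynomial Module Cfsg.Agent.Helper13.Uni Cfsg.Agent.Helper13.SS
  Cfsg.Agent.Helper13.HermSS Cfsg.Agent.Helper13.Dual Cfsg.Agent.Helper13.SympSS
  Cfsg.Agent.Helper13.SuNd
open scoped Classical

universe u

section kd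
variable {K : Type*} [Field K] {V : Type*} [AddCommGroup V] [Module K V] [FiniteDimensional K V]

/-- the kernel dimension of a restriction as the dimension of an intersection -/
theorem kdim_restrict_eq (A : Module.End K V) (W : Submodule K V) (hW : ∀ x ∈ W, A x ∈ W)
    (P : K[X]) : kdim (A.restrict hW) P = finrank K ↥(W ⊓ LinearMap.ker (aeval A P)) := by
  unfold kdim
  rw [ker_aeval_restrict, ← Submodule.map_comap_subtype, Submodule.finrank_map_subtype_eq]

/-- if the kernel misses a complement of `L`, its dimension is at most that of `L` -/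
theorem kdim_le_of_restrict_eq_zero (A : Module.End K V) (L C : Submodule K V)
    (hC : ∀ x ∈ C, A x ∈ C) (hLC : finrank K L + finrank K C = finrank K V) (P : K[X])
    (h0 : kdim (A.restrict hC) P = 0) : kdim A P ≤ finrank K L := by
  rw [kdim_restrict_eq] at h0
  have h1 : C ⊓ LinearMap.ker (aeval A P) = ⊥ := Submodule.finrank_eq_zero.1 h0
  have h2 := Submodule.finrank_sup_add_finrank_inf_eq C (LinearMap.ker (aeval A P))
  rw [h1, finrank_bot, add_zero] at h2
  have h3 : finrank K ↥(C ⊔ LinearMap.ker (aeval A P)) ≤ finrank K V := Submodule.finrank_le _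
  unfold kdim
  omega

/-- an endomorphism of a space of dimension `deg f` killed by `f` has characteristic polynomial
`f` -/
theorem charpoly_of_killed (A : Module.End K V) (f : K[X]) (hf : Irreducible f) (hmon : f.Monic)
    (hkill : aeval A f = 0) (hdim : finrank K V = f.natDegree) : A.charpoly = f := by
  have h1 := charpoly_eq_prod ({f} : Finset K[X])
    (fun g hg => by rw [Finset.mem_singleton.1 hg]; exact hf)
    (fun g hg => by rw [Finset.mem_singleton.1 hg]; exact hmon) A (by
      rw [Finset.prod_singleton]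
      exact hkill)
  rw [Finset.prod_singleton] at h1
  have h2 : kdim A f = finrank K V := by
    unfold kdim
    rw [hkill, LinearMap.ker_zero, finrank_top]
  have hpos : 0 < f.natDegree :=
    Polynomial.natDegree_pos_iff_degree_pos.2 (Polynomial.degree_pos_of_irreducible hf)
  rw [h2, hdim, Nat.div_self hpos, pow_one] at h1
  exact h1

end kd

section blocks
variable {F K : Type*} [Field F] [Field K] [Algebra F K] [FiniteDimensional F K] [Finite K]
variable {V : Type u} [AddCommGroup V] [Module F V] [Module K V] [IsScalarTower F K V]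
  [FiniteDimensional K V]
variable {σ : K →ₐ[F] K} {H : V → V → K}

/-- peeling a minimal block, remembering that it is killed by the block polynomial -/
theorem peel' (hσ2 : ∀ x, σ (σ x) = x) (hσ1 : ∃ c, σ c ≠ c) {M : ℕ} (hM : 1 ≤ M)
    (hMK : (M : K) ≠ 0) {A : Module.End K V} (hAM : A ^ M = 1) (hA : UInv σ A H) {f : K[X]}
    (hf : f ∈ irrFactors (X ^ M - 1 : K[X])) (hfk : kdim A f ≠ 0) :
    ∃ L : Submodule K V, (∀ v ∈ L, A v ∈ L) ∧ NdOn H L ∧
      finrank K L = (cblockPoly M (σ : K →+* K) f).natDegree ∧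
      L ≤ LinearMap.ker (aeval A (cblockPoly M (σ : K →+* K) f)) := by
  set P := cblockPoly M (σ : K →+* K) f with hP
  set U := LinearMap.ker (aeval A P) with hU
  have hUinv : ∀ v ∈ U, A v ∈ U := ker_invariant A P
  have hUnd : NdOn H U := ndOn_ker_cblock hσ2 hσ1 hM hMK hAM hA hf
  have hA' := uinv_restrict hA U hUnd hUinv
  have hAM' := Cfsg.Agent.Helper13.SpTi.restrict_pow_eq_one A hAM U hUinv
  have hkill' : aeval (A.restrict hUinv) P = 0 := by
    apply LinearMap.ext
    intro x
    apply Subtype.ext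
    rw [aeval_restrict_apply]
    exact LinearMap.mem_ker.1 x.2
  have hpos : 0 < finrank K U := by
    have h1 : LinearMap.ker (aeval A f) ≤ U := ker_aeval_le_of_dvd A dvd_cblockPoly
    have h2 := Submodule.finrank_mono h1
    have h3 : 0 < finrank K (LinearMap.ker (aeval A f)) := Nat.pos_of_ne_zero hfk
    omega
  obtain ⟨L, hLinv, hLnd, hLfin⟩ := exists_block hσ2 hσ1 hM hMK hAM' hA' hf hkill' hpos
  refine ⟨L.map U.subtype, ?_, ?_, ?_, Submodule.map_subtype_le U L⟩
  · rintro _ ⟨u, hu, rfl⟩
    exact ⟨A.restrict hUinv u, hLinv u hu, rfl⟩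
  · rintro _ ⟨u, hu, rfl⟩ h
    have : u = 0 := by
      apply hLnd u hu
      intro v hv
      rw [SuNd.resH_apply]
      exact h _ ⟨v, hv, rfl⟩
    rw [this, map_zero]
  · rw [Submodule.finrank_map_subtype_eq, hLfin]

/-- the eigenspace of a factor different from its conjugate dual is totally isotropic -/
theorem fixT_ker_of_ne (hσ2 : ∀ x, σ (σ x) = x) (hσ1 : ∃ c, σ c ≠ c) {M : ℕ} (hM : 1 ≤ M)
    {A : Module.End K V} (hAM : A ^ M = 1) (hA : UInv σ A H) {f : K[X]}
    (hf : f ∈ irrFactors (X ^ M - 1 : K[X])) (hne : cdual M (σ : K →+* K) f ≠ f) :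
    FixT H A (kdim A f) := by
  have hσ2' : ∀ x, (σ : K →+* K) ((σ : K →+* K) x) = x := hσ2
  refine ⟨LinearMap.ker (aeval A f), rfl, ?_, ker_invariant A f⟩
  intro u hu v hv
  exact orth_of_coprime_H hσ2 hσ1 hM hAM hA f f (coprime_self_ccomp hσ2' hf hne) u v
    (LinearMap.mem_ker.1 hu) (LinearMap.mem_ker.1 hv)

/-- a space killed by `f f*` of dimension `2 deg f` has a totally isotropic invariant subspace of
dimension `deg f` -/
theorem fixT_pair_block (hσ2 : ∀ x, σ (σ x) = x) (hσ1 : ∃ c, σ c ≠ c) {M : ℕ} (hM : 1 ≤ M)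
    (hMK : (M : K) ≠ 0) {A : Module.End K V} (hAM : A ^ M = 1) (hA : UInv σ A H) {f : K[X]}
    (hf : f ∈ irrFactors (X ^ M - 1 : K[X])) (hne : cdual M (σ : K →+* K) f ≠ f)
    (hkill : aeval A (f * cdual M (σ : K →+* K) f) = 0)
    (hdim : finrank K V = 2 * f.natDegree) : FixT H A f.natDegree := by
  have hσ2' : ∀ x, (σ : K →+* K) ((σ : K →+* K) x) = x := hσ2
  have h1 : kdim A (f * cdual M (σ : K →+* K) f) = finrank K V := by
    unfold kdim
    rw [hkill, LinearMap.ker_zero, finrank_top]
  rw [kdim_mul A (coprime_self_cdual hσ2' hf hne), kdim_cdual_H hσ2 hσ1 hM hMK hAM hA hf] at h1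
  have h2 : kdim A f = f.natDegree := by omega
  rw [← h2]
  exact fixT_ker_of_ne hσ2 hσ1 hM hAM hA hf hne

end blocks

end Cfsg.Agent.Helper13.SuTi
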