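import Mathlib
import Cfsg.Agent.Lib.Helper13.SuTi2
import Cfsg.Agent.Lib.Helper13.SympReal

set_option autoImplicit false
set_option linter.unusedSectionVars false

/-!
# Two orthogonal isomorphic self-dual blocks contain a totally isotropic invariant subspace
-/

namespace Cfsg.Agent.Helper13.SuTi

open Polynomial Module Cfsg.Agent.Helper13.Uni Cfsg.Agent.Helper13.SS
  Cfsg.Agent.Helper13.HermSS Cfsg.Agent.Helper13.SuNd
open scoped Classical

universe u

section two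
variable {F K : Type*} [Field F] [Field K] [Algebra F K] [FiniteDimensional F K] [Finite K]
variable {V : Type u} [AddCommGroup V] [Module F V] [Module K V] [IsScalarTower F K V]
  [FiniteDimensional K V]
variable {σ : K →ₐ[F] K} {H : V → V → K}

theorem ti_two_blocks (hσ2 : ∀ x, σ (σ x) = x) (hσ1 : ∃ c, σ c ≠ c) {M : ℕ} (hM : 1 ≤ M)
    (hMK : (M : K) ≠ 0) {A : Module.End K V} (hAM : A ^ M = 1) (hA : UInv σ A H) {f : K[X]}
    (hfirr : Irreducible f) (hfmon : f.Monic)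
    (L₁ L₂ : Submodule K V) (h₁ : ∀ v ∈ L₁, A v ∈ L₁) (h₂ : ∀ v ∈ L₂, A v ∈ L₂)
    (hnd₁ : NdOn H L₁) (hnd₂ : NdOn H L₂) (horth : ∀ u ∈ L₁, ∀ v ∈ L₂, H u v = 0)
    (hk₁ : L₁ ≤ LinearMap.ker (aeval A f)) (hk₂ : L₂ ≤ LinearMap.ker (aeval A f))
    (hd₁ : finrank K L₁ = f.natDegree) (hd₂ : finrank K L₂ = f.natDegree) :
    ∃ W : Submodule K V, W ≤ L₁ ⊔ L₂ ∧ finrank K W = f.natDegree ∧ TiOn H W ∧
      ∀ v ∈ W, A v ∈ W := by
  have h := hA.sesq
  obtain ⟨tr, htr, htrσ⟩ := exists_tr σ hσ2 hσ1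
  -- the intertwining isomorphism
  have hc₁ := charpoly_of_killed (A.restrict h₁) f hfirr hfmon
    (aeval_restrict_eq_zero A L₁ h₁ f hk₁) hd₁
  have hc₂ := charpoly_of_killed (A.restrict h₂) f hfirr hfmon
    (aeval_restrict_eq_zero A L₂ h₂ f hk₂) hd₂
  obtain ⟨T, hT⟩ := exists_equiv_of_charpoly_eq ({f} : Finset K[X])
    (fun g hg => by rw [Finset.mem_singleton.1 hg]; exact hfirr)
    (fun g hg => by rw [Finset.mem_singleton.1 hg]; exact hfmon)
    (A.restrict h₁) (A.restrict h₂)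
    (by rw [Finset.prod_singleton]; exact aeval_restrict_eq_zero A L₁ h₁ f hk₁)
    (by rw [Finset.prod_singleton]; exact aeval_restrict_eq_zero A L₂ h₂ f hk₂)
    (by rw [hc₁, hc₂])
  have hdisj : ∀ x, x ∈ L₁ → x ∈ L₂ → x = 0 := by
    intro x hx1 hx2
    apply hnd₁ x hx1
    intro v hv
    rw [h.conj, horth v hv x hx2, map_zero]
  obtain ⟨hndP, -⟩ := ndOn_sup h L₁ L₂ hnd₁ hnd₂ horth
  -- the parametrisation of the sum of the two blocks
  set Φ : (↥L₁ × ↥L₁) →ₗ[K] V :=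
    L₁.subtype.coprod (L₂.subtype ∘ₗ (T : ↥L₁ →ₗ[K] ↥L₂)) with hΦ
  have hΦa : ∀ x : ↥L₁ × ↥L₁, Φ x = (x.1 : V) + (T x.2 : V) := fun x => rfl
  have hΦmem : ∀ x, Φ x ∈ L₁ ⊔ L₂ := by
    intro x
    rw [hΦa]
    exact Submodule.add_mem _ (Submodule.mem_sup_left x.1.2) (Submodule.mem_sup_right (T x.2).2)
  have hΦinj : Function.Injective Φ := by
    rw [injective_iff_map_eq_zero]
    rintro ⟨a, b⟩ hab
    rw [hΦa] at hab
    have h3 : (a : V) = -(T b : V) := eq_neg_of_add_eq_zero_left hab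
    have h4 : (a : V) ∈ L₂ := by
      rw [h3]
      exact L₂.neg_mem (T b).2
    have ha0 : (a : V) = 0 := hdisj _ a.2 h4
    have hb0 : (T b : V) = 0 := by
      rw [ha0, zero_add] at hab
      exact hab
    have ha : a = 0 := Subtype.ext ha0
    have hb : b = 0 := by
      apply T.injective
      rw [map_zero]
      exact Subtype.ext hb0
    rw [ha, hb]
    rfl
  have hΦsurj : ∀ z ∈ L₁ ⊔ L₂, ∃ x, Φ x = z := by
    intro z hz
    obtain ⟨a, ha, b, hb, rfl⟩ := Submodule.mem_sup.1 hz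
    refine ⟨(⟨a, ha⟩, T.symm ⟨b, hb⟩), ?_⟩
    rw [hΦa]
    simp
  set AP : Module.End K (↥L₁ × ↥L₁) := (A.restrict h₁).prodMap (A.restrict h₁) with hAP
  have hAPa : ∀ x : ↥L₁ × ↥L₁, AP x = (A.restrict h₁ x.1, A.restrict h₁ x.2) := fun x => rfl
  have hΦA : ∀ x, Φ (AP x) = A (Φ x) := by
    intro x
    rw [hΦa, hΦa, hAPa, map_add]
    simp only
    rw [hT]
    rfl
  have hAPM : AP ^ M = 1 := by
    rw [hAP, Cfsg.Agent.Helper13.SympSS.prodMap_pow,
      Cfsg.Agent.Helper13.SpTi.restrict_pow_eq_one A hAM L₁ h₁]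
    apply LinearMap.ext
    rintro ⟨a, b⟩
    rfl
  -- the two forms
  set H₁ : (↥L₁ × ↥L₁) → (↥L₁ × ↥L₁) → K := fun x y => H (Φ x) (Φ y) with hH₁
  set H₂ : (↥L₁ × ↥L₁) → (↥L₁ × ↥L₁) → K :=
    fun x y => H (x.1 : V) (y.2 : V) + H (x.2 : V) (y.1 : V) with hH₂
  have hS₁ : IsSesq σ H₁ := by
    refine ⟨fun x x' y => ?_, fun c x y => ?_, fun x y => ?_, fun x hx => ?_⟩
    · show H (Φ (x + x')) (Φ y) = _
      rw [map_add, h.add_left]
    · show H (Φ (c • x)) (Φ y) = _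
      rw [map_smul, h.smul_left]
    · exact h.conj _ _
    · apply hΦinj
      rw [map_zero]
      apply hndP _ (hΦmem x)
      intro z hz
      obtain ⟨y, rfl⟩ := hΦsurj z hz
      exact hx y
  have hS₂ : IsSesq σ H₂ := by
    refine ⟨fun x x' y => ?_, fun c x y => ?_, fun x y => ?_, fun x hx => ?_⟩
    · show H ((x + x').1 : V) (y.2 : V) + H ((x + x').2 : V) (y.1 : V) = _
      rw [Prod.fst_add, Prod.snd_add, Submodule.coe_add, Submodule.coe_add, h.add_left,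
        h.add_left]
      simp only [hH₂]
      ring
    · show H ((c • x).1 : V) (y.2 : V) + H ((c • x).2 : V) (y.1 : V) = _
      rw [Prod.smul_fst, Prod.smul_snd, Submodule.coe_smul, Submodule.coe_smul, h.smul_left,
        h.smul_left]
      simp only [hH₂]
      ring
    · show H (y.1 : V) (x.2 : V) + H (y.2 : V) (x.1 : V) = σ _
      simp only [hH₂]
      rw [map_add, ← h.conj, ← h.conj]
      ring
    · have hx2 : x.2 = 0 := by
        apply Subtype.ext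
        apply hnd₁ _ x.2.2
        intro v hv
        have := hx (⟨v, hv⟩, 0)
        simp only [hH₂] at this
        rw [Submodule.coe_zero, h.zero_right, zero_add] at this
        exact this
      have hx1 : x.1 = 0 := by
        apply Subtype.ext
        apply hnd₁ _ x.1.2
        intro v hv
        have := hx (0, ⟨v, hv⟩)
        simp only [hH₂] at this
        rw [Submodule.coe_zero, h.zero_right, add_zero] at this
        exact this
      exact Prod.ext hx1 hx2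
  have hinv₁ : ∀ x y, H₁ (AP x) (AP y) = H₁ x y := by
    intro x y
    show H (Φ (AP x)) (Φ (AP y)) = H (Φ x) (Φ y)
    rw [hΦA, hΦA, hA.inv]
  have hinv₂ : ∀ x y, H₂ (AP x) (AP y) = H₂ x y := by
    intro x y
    show H ((AP x).1 : V) ((AP y).2 : V) + H ((AP x).2 : V) ((AP y).1 : V) = _
    rw [hAPa, hAPa]
    simp only [hH₂]
    show H (A (x.1 : V)) (A (y.2 : V)) + H (A (x.2 : V)) (A (y.1 : V)) = _
    rw [hA.inv, hA.inv]
  obtain ⟨Z, hZc, hZ⟩ := exists_commuting_isometry_sesq hσ2 hσ1 tr htr htrσ M hM hMK AP hAPM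
    H₁ H₂ hS₁ hS₂ hinv₁ hinv₂
  set Ψ : ↥L₁ →ₗ[K] V := Φ ∘ₗ (Z : (↥L₁ × ↥L₁) →ₗ[K] (↥L₁ × ↥L₁)) ∘ₗ LinearMap.inl K ↥L₁ ↥L₁
    with hΨ
  have hΨa : ∀ a, Ψ a = Φ (Z (a, 0)) := fun a => rfl
  have hΨinj : Function.Injective Ψ := by
    intro a b hab
    rw [hΨa, hΨa] at hab
    have := Z.injective (hΦinj hab)
    exact congrArg Prod.fst this
  refine ⟨LinearMap.range Ψ, ?_, ?_, ?_, ?_⟩
  · rintro _ ⟨a, rfl⟩
    exact hΦmem _
  · rw [LinearMap.finrank_range_of_inj hΨinj, hd₁]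
  · rintro _ ⟨a, rfl⟩ _ ⟨b, rfl⟩
    rw [hΨa, hΨa]
    have := hZ (a, 0) (b, 0)
    simp only [hH₁, hH₂] at this
    rw [this, Submodule.coe_zero, h.zero_right, h.zero_left, add_zero]
  · rintro _ ⟨a, rfl⟩
    refine ⟨A.restrict h₁ a, ?_⟩
    rw [hΨa, hΨa, ← hΦA, ← hZc]
    congr 2
    rw [hAPa]
    simp

end two

end Cfsg.Agent.Helper13.SuTi
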