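import Mathlib
import Cfsg.Agent.Lib.Helper13.SuTi3

set_option autoImplicit false
set_option linter.unusedSectionVars false

/-!
# Totally isotropic invariant subspaces of semisimple isometries: the two structure theorems
-/

namespace Cfsg.Agent.Helper13.SuTi

open Polynomial Module Cfsg.Agent.Helper13.Uni Cfsg.Agent.Helper13.SS
  Cfsg.Agent.Helper13.HermSS Cfsg.Agent.Helper13.SuNd Cfsg.Agent.Helper13.SympSS
  Cfsg.Agent.Helper13.Dual
open scoped Classical

universe u

section aux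
variable {F K : Type*} [Field F] [Field K] [Algebra F K]
variable {V : Type*} [AddCommGroup V] [Module F V] [Module K V] [IsScalarTower F K V]
  [FiniteDimensional K V]
variable {σ : K →ₐ[F] K} {H : V → V → K}

/-- a totally isotropic subspace of a nondegenerate invariant block together with one of its
orthogonal -/
theorem FixT.add_block_sub (A : Module.End K V) (hA : UInv σ A H) (Q : Submodule K V)
    (hQnd : NdOn H Q) (hQinv : ∀ v ∈ Q, A v ∈ Q) (W₁ : Submodule K V) (hW₁Q : W₁ ≤ Q)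
    (hW₁ti : TiOn H W₁) (hW₁inv : ∀ v ∈ W₁, A v ∈ W₁) (b : ℕ)
    (h₂ : FixT (resH H (orth hA.sesq Q)) (A.restrict (orth_inv hA Q hQinv)) b) :
    FixT H A (finrank K W₁ + b) := by
  obtain ⟨W₂, hW₂Q, hW₂m, hW₂ti, hW₂inv⟩ :=
    exists_sub_of_fixT A (orth hA.sesq Q) (orth_inv hA Q hQinv) b h₂
  have horth : ∀ u ∈ W₁, ∀ v ∈ W₂, H u v = 0 := by
    intro u hu v hv
    exact hW₂Q hv u (hW₁Q hu)
  have hdisj : W₁ ⊓ W₂ = ⊥ := by
    rw [eq_bot_iff]
    rintro x ⟨hx1, hx2⟩
    rw [Submodule.mem_bot]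
    apply hQnd x (hW₁Q hx1)
    intro v hv
    rw [hA.sesq.conj, hW₂Q hx2 v hv, map_zero]
  have := FixT.sup A hA.sesq W₁ W₂ hW₁ti hW₂ti horth hdisj hW₁inv hW₂inv
  rwa [hW₂m] at this

end aux

section thms
variable {F K : Type*} [Field F] [Field K] [Algebra F K] [FiniteDimensional F K] [Finite K]
variable {σ : K →ₐ[F] K}

/-- a semisimple isometry all of whose factors differ from their conjugate duals -/
theorem thmPair (hσ2 : ∀ x, σ (σ x) = x) (hσ1 : ∃ c, σ c ≠ c) {M : ℕ} (hM : 1 ≤ M)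
    (hMK : (M : K) ≠ 0) (b : ℕ) :
    ∀ (n : ℕ) {V : Type u} [AddCommGroup V] [Module F V] [Module K V] [IsScalarTower F K V]
      [FiniteDimensional K V] (H : V → V → K) (A : Module.End K V), finrank K V = n →
      UInv σ A H → A ^ M = 1 →
      (∀ f ∈ irrFactors (X ^ M - 1 : K[X]), kdim A f ≠ 0 →
        cdual M (σ : K →+* K) f ≠ f ∧ f.natDegree = b) →
      ∀ J, 2 * b * J ≤ n → FixT H A (b * J) := by
  intro n
  induction n using Nat.strong_induction_on with
  | _ n ih =>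
  intro V _ _ _ _ _ H A hn hA hAM hd J hJ
  rcases Nat.eq_zero_or_pos J with hJ0 | hJ0
  · rw [hJ0, mul_zero]
    exact FixT.zero A hA.sesq
  by_cases hn0 : n = 0
  · have : b * J = 0 := by
      have : 2 * b * J = 2 * (b * J) := by ring
      omega
    rw [this]
    exact FixT.zero A hA.sesq
  have hXM : aeval A (X ^ M - 1 : K[X]) = 0 := by
    rw [map_sub, map_pow, aeval_X, map_one, hAM, sub_self]
  set S := irrFactors (X ^ M - 1 : K[X]) with hS
  have hprod : aeval A (∏ f ∈ S, f) = 0 := by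
    rw [hS, irrFactors_prod (X_pow_sub_one_monic hM) (X_pow_sub_one_squarefree hMK)]
    exact hXM
  obtain ⟨f, hfS, hfk⟩ : ∃ f ∈ S, kdim A f ≠ 0 := by
    by_contra hcon
    push Not at hcon
    have := finrank_eq_sum_kdim A S (irrFactors_pairwise_coprime _) hprod
    rw [Finset.sum_eq_zero hcon] at this
    omega
  obtain ⟨hne, hdeg⟩ := hd f hfS hfk
  have hfirr := irrFactors_irreducible hfS
  have hfmon := irrFactors_monic hfS
  have hb0 : 0 < b := by
    rw [← hdeg]
    exact Polynomial.natDegree_pos_iff_degree_pos.2 (Polynomial.degree_pos_of_irreducible hfirr)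
  have hcb : cblockPoly M (σ : K →+* K) f = f * cdual M (σ : K →+* K) f := by
    unfold cblockPoly
    rw [if_neg hne]
  obtain ⟨L, hLinv, hLnd, hLfin, hLk⟩ := peel' hσ2 hσ1 hM hMK hAM hA hfS hfk
  rw [hcb] at hLk
  rw [hcb, hfmon.natDegree_mul (cdual_monic hfirr),
    natDegree_cdual hM hfirr hfmon (irrFactors_dvd hfS), hdeg] at hLfin
  have hAL := uinv_restrict hA L hLnd hLinv
  have hAML := Cfsg.Agent.Helper13.SpTi.restrict_pow_eq_one A hAM L hLinv
  have hT := fixT_pair_block hσ2 hσ1 hM hMK hAML hAL hfS hne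
    (aeval_restrict_eq_zero A L hLinv _ hLk) (by rw [hLfin, hdeg]; ring)
  rw [hdeg] at hT
  have hCinv := orth_inv hA L hLinv
  have hCnd := ndOn_orth hσ2 hσ1 hA.sesq L hLnd
  have hfin := finrank_orth hσ2 hσ1 hA.sesq L hLnd
  have hA' := uinv_restrict hA _ hCnd hCinv
  have hAM' := Cfsg.Agent.Helper13.SpTi.restrict_pow_eq_one A hAM _ hCinv
  have hn' : finrank K ↥(orth hA.sesq L) = n - 2 * b := by omega
  have hd' : ∀ g ∈ irrFactors (X ^ M - 1 : K[X]), kdim (A.restrict hCinv) g ≠ 0 →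
      cdual M (σ : K →+* K) g ≠ g ∧ g.natDegree = b := by
    intro g hg hgk
    apply hd g hg
    intro h0
    have := Cfsg.Agent.Helper13.OrthNd.kdim_restrict_le A _ hCinv g
    omega
  have h2bn : 2 * b ≤ n := by
    have : 2 * b * J = 2 * b + 2 * b * (J - 1) := by
      conv_lhs => rw [← Nat.sub_add_cancel hJ0]
      ring
    omega
  have h3 := ih (n - 2 * b) (by omega) (resH H _) (A.restrict hCinv) hn' hA' hAM' hd' (J - 1) (by
    have : 2 * b * J = 2 * b + 2 * b * (J - 1) := by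
      conv_lhs => rw [← Nat.sub_add_cancel hJ0]
      ring
    omega)
  have h4 := FixT.add_block A hA L hLnd hLinv _ _ hT h3
  have e : b + b * (J - 1) = b * J := by
    conv_rhs => rw [← Nat.sub_add_cancel hJ0]
    ring
  rwa [e] at h4

/-- a semisimple isometry all of whose factors are conjugate self-dual of degree `b`, among a
given set of `s` factors -/
theorem thmSD (hσ2 : ∀ x, σ (σ x) = x) (hσ1 : ∃ c, σ c ≠ c) {M : ℕ} (hM : 1 ≤ M)
    (hMK : (M : K) ≠ 0) (b : ℕ) (S₀ : Finset K[X])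
    (hS₀ : ∀ f ∈ S₀, f ∈ irrFactors (X ^ M - 1 : K[X]) ∧ cdual M (σ : K →+* K) f = f ∧
      f.natDegree = b) :
    ∀ (n : ℕ) {V : Type u} [AddCommGroup V] [Module F V] [Module K V] [IsScalarTower F K V]
      [FiniteDimensional K V] (H : V → V → K) (A : Module.End K V), finrank K V = n →
      UInv σ A H → A ^ M = 1 →
      (∀ f ∈ irrFactors (X ^ M - 1 : K[X]), kdim A f ≠ 0 → f ∈ S₀) →
      ∃ J₁, n ≤ b * (2 * J₁ + S₀.card) ∧ ∀ J ≤ J₁, FixT H A (b * J) := by
  intro n
  induction n using Nat.strong_induction_on with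
  | _ n ih =>
  intro V _ _ _ _ _ H A hn hA hAM hact
  have hXM : aeval A (X ^ M - 1 : K[X]) = 0 := by
    rw [map_sub, map_pow, aeval_X, map_one, hAM, sub_self]
  set S := irrFactors (X ^ M - 1 : K[X]) with hS
  have hprod : aeval A (∏ f ∈ S, f) = 0 := by
    rw [hS, irrFactors_prod (X_pow_sub_one_monic hM) (X_pow_sub_one_squarefree hMK)]
    exact hXM
  by_cases hcase : ∃ f ∈ S₀, b < kdim A f
  · obtain ⟨f, hf0, hfb⟩ := hcase
    obtain ⟨hfS, hfd, hdeg⟩ := hS₀ f hf0
    have hfk : kdim A f ≠ 0 := by omega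
    have hfirr := irrFactors_irreducible hfS
    have hfmon := irrFactors_monic hfS
    have hb0 : 0 < b := by
      rw [← hdeg]
      exact Polynomial.natDegree_pos_iff_degree_pos.2
        (Polynomial.degree_pos_of_irreducible hfirr)
    have hcb : cblockPoly M (σ : K →+* K) f = f := by
      unfold cblockPoly
      rw [if_pos hfd]
    -- the first block
    obtain ⟨L₁, hL₁inv, hL₁nd, hL₁fin, hL₁k⟩ := peel' hσ2 hσ1 hM hMK hAM hA hfS hfk
    rw [hcb] at hL₁k
    rw [hcb, hdeg] at hL₁fin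
    have hC₁inv := orth_inv hA L₁ hL₁inv
    have hC₁nd := ndOn_orth hσ2 hσ1 hA.sesq L₁ hL₁nd
    have hfin₁ := finrank_orth hσ2 hσ1 hA.sesq L₁ hL₁nd
    have hA₁ := uinv_restrict hA _ hC₁nd hC₁inv
    have hAM₁ := Cfsg.Agent.Helper13.SpTi.restrict_pow_eq_one A hAM _ hC₁inv
    have hk' : kdim (A.restrict hC₁inv) f ≠ 0 := by
      intro h0
      have := kdim_le_of_restrict_eq_zero A L₁ _ hC₁inv hfin₁ f h0
      omega
    -- the second block
    obtain ⟨L₂, hL₂inv, hL₂nd, hL₂fin, hL₂k⟩ := peel' hσ2 hσ1 hM hMK hAM₁ hA₁ hfS hk'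
    rw [hcb] at hL₂k
    rw [hcb, hdeg] at hL₂fin
    set L₂' : Submodule K V := L₂.map (orth hA.sesq L₁).subtype with hL₂'
    have hL₂'inv : ∀ v ∈ L₂', A v ∈ L₂' := by
      rintro _ ⟨u, hu, rfl⟩
      exact ⟨A.restrict hC₁inv u, hL₂inv u hu, rfl⟩
    have hL₂'nd : NdOn H L₂' := by
      rintro _ ⟨u, hu, rfl⟩ h
      have : u = 0 := by
        apply hL₂nd u hu
        intro v hv
        rw [SuNd.resH_apply]
        exact h _ ⟨v, hv, rfl⟩
      rw [this, map_zero]
    have hL₂'fin : finrank K L₂' = b := by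
      rw [hL₂', Submodule.finrank_map_subtype_eq, hL₂fin]
    have horth : ∀ u ∈ L₁, ∀ v ∈ L₂', H u v = 0 := by
      rintro u hu _ ⟨v, -, rfl⟩
      exact v.2 u hu
    have hL₂'k : L₂' ≤ LinearMap.ker (aeval A f) := by
      rintro _ ⟨u, hu, rfl⟩
      rw [LinearMap.mem_ker]
      have h1 := LinearMap.mem_ker.1 (hL₂k hu)
      have h2 := aeval_restrict_apply A _ hC₁inv f u
      rw [h1] at h2
      exact h2.symm
    obtain ⟨W, hWP, hWfin, hWti, hWinv⟩ := ti_two_blocks hσ2 hσ1 hM hMK hAM hA hfirr hfmon L₁ L₂'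
      hL₁inv hL₂'inv hL₁nd hL₂'nd horth hL₁k hL₂'k (by rw [hL₁fin, hdeg]) (by rw [hL₂'fin, hdeg])
    rw [hdeg] at hWfin
    -- the sum of the two blocks and its complement
    obtain ⟨hPnd, hPfin⟩ := ndOn_sup hA.sesq L₁ L₂' hL₁nd hL₂'nd horth
    rw [hL₁fin, hL₂'fin] at hPfin
    have hPinv : ∀ v ∈ L₁ ⊔ L₂', A v ∈ L₁ ⊔ L₂' := by
      intro v hv
      obtain ⟨a, ha, c, hc, rfl⟩ := Submodule.mem_sup.1 hv
      rw [map_add]
      exact Submodule.add_mem _ (Submodule.mem_sup_left (hL₁inv a ha))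
        (Submodule.mem_sup_right (hL₂'inv c hc))
    have hCinv := orth_inv hA _ hPinv
    have hCnd := ndOn_orth hσ2 hσ1 hA.sesq _ hPnd
    have hfin := finrank_orth hσ2 hσ1 hA.sesq _ hPnd
    have hA' := uinv_restrict hA _ hCnd hCinv
    have hAM' := Cfsg.Agent.Helper13.SpTi.restrict_pow_eq_one A hAM _ hCinv
    have hn' : finrank K ↥(orth hA.sesq (L₁ ⊔ L₂')) = n - 2 * b := by omega
    have hact' : ∀ g ∈ irrFactors (X ^ M - 1 : K[X]), kdim (A.restrict hCinv) g ≠ 0 →
        g ∈ S₀ := by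
      intro g hg hgk
      apply hact g hg
      intro h0
      have := Cfsg.Agent.Helper13.OrthNd.kdim_restrict_le A _ hCinv g
      omega
    obtain ⟨J₁', hJ₁', hfix'⟩ := ih (n - 2 * b) (by omega) (resH H _) (A.restrict hCinv) hn'
      hA' hAM' hact'
    refine ⟨J₁' + 1, ?_, ?_⟩
    · have e : b * (2 * (J₁' + 1) + S₀.card) = 2 * b + b * (2 * J₁' + S₀.card) := by ring
      omega
    · intro J hJ
      rcases Nat.eq_zero_or_pos J with hJ0 | hJ0
      · rw [hJ0, mul_zero]
        exact FixT.zero A hA.sesq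
      · have h3 := hfix' (J - 1) (by omega)
        have h4 := FixT.add_block_sub A hA _ hPnd hPinv W hWP hWti hWinv _ h3
        have e : finrank K W + b * (J - 1) = b * J := by
          rw [hWfin]
          conv_rhs => rw [← Nat.sub_add_cancel hJ0]
          ring
        rwa [e] at h4
  · push Not at hcase
    refine ⟨0, ?_, ?_⟩
    · have h1 := finrank_eq_sum_kdim A S (irrFactors_pairwise_coprime _) hprod
      rw [hn] at h1
      have hsub : S₀ ⊆ S := fun f hf => (hS₀ f hf).1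
      have h2 : ∑ f ∈ S, kdim A f = ∑ f ∈ S₀, kdim A f := by
        symm
        apply Finset.sum_subset hsub
        intro f hfS hf0
        by_contra hne
        exact hf0 (hact f hfS hne)
      have h3 : ∑ f ∈ S₀, kdim A f ≤ ∑ _f ∈ S₀, b := Finset.sum_le_sum hcase
      rw [Finset.sum_const, smul_eq_mul] at h3
      rw [h1, h2, mul_zero, zero_add, mul_comm]
      exact h3
    · intro J hJ
      have : J = 0 := by omega
      rw [this, mul_zero]
      exact FixT.zero A hA.sesq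

end thms

end Cfsg.Agent.Helper13.SuTi
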