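import Mathlib
import Cfsg.Agent.Lib.Helper13.SuTi4
import Cfsg.Agent.Lib.Helper13.SuNd5

set_option autoImplicit false
set_option linter.unusedSectionVars false

/-!
# Totally isotropic invariant subspaces of semisimple isometries: necessary conditions
-/

namespace Cfsg.Agent.Helper13.SuTi

open Polynomial Module Cfsg.Agent.Helper13.Uni Cfsg.Agent.Helper13.SS
  Cfsg.Agent.Helper13.HermSS Cfsg.Agent.Helper13.SuNd Cfsg.Agent.Helper13.SympSS
  Cfsg.Agent.Helper13.Dual
open scoped Classical

universe u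

section nec
variable {F K : Type*} [Field F] [Field K] [Algebra F K] [FiniteDimensional F K] [Finite K]
variable {V : Type u} [AddCommGroup V] [Module F V] [Module K V] [IsScalarTower F K V]
  [FiniteDimensional K V]
variable {σ : K →ₐ[F] K} {H : V → V → K}

/-- a totally isotropic invariant subspace meets a nondegenerate kernel in at most half of its
dimension -/
theorem ti_ker_le (hσ2 : ∀ x, σ (σ x) = x) (hσ1 : ∃ c, σ c ≠ c) (A : Module.End K V)
    (hA : UInv σ A H) (P₀ : K[X]) (hnd : NdOn H (LinearMap.ker (aeval A P₀)))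
    (W : Submodule K V) (hWinv : ∀ v ∈ W, A v ∈ W) (hWti : TiOn H W) :
    2 * kdim (A.restrict hWinv) P₀ ≤ kdim A P₀ := by
  set P := LinearMap.ker (aeval A P₀) with hP
  have hS := isSesq_res hA.sesq P hnd
  set WP : Submodule K ↥P := W.comap P.subtype with hWP
  have hti : TiOn (resH H P) WP := fun u hu v hv => hWti _ hu _ hv
  have h1 := ti_finrank_le hσ2 hσ1 hS WP hti
  have h2 : finrank K WP = finrank K ↥(P ⊓ W) := by
    rw [← Submodule.map_comap_subtype, Submodule.finrank_map_subtype_eq]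
  rw [kdim_restrict_eq, inf_comm, ← h2]
  exact h1

theorem ti_fix_le (hσ2 : ∀ x, σ (σ x) = x) (hσ1 : ∃ c, σ c ≠ c) (A : Module.End K V)
    (hA : UInv σ A H) (r : ℕ) (hAr : A ^ r = 1) (hrK : (r : K) ≠ 0)
    (W : Submodule K V) (hWinv : ∀ v ∈ W, A v ∈ W) (hWti : TiOn H W) :
    2 * kdim (A.restrict hWinv) (X - 1) ≤ kdim A (X - 1) :=
  ti_ker_le hσ2 hσ1 A hA (X - 1) (ndOn_fixed hA r hAr hrK) W hWinv hWti

theorem ti_selfdual_le (hσ2 : ∀ x, σ (σ x) = x) (hσ1 : ∃ c, σ c ≠ c) {M : ℕ} (hM : 1 ≤ M)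
    (hMK : (M : K) ≠ 0) (A : Module.End K V) (hA : UInv σ A H) (hAM : A ^ M = 1) {f : K[X]}
    (hf : f ∈ irrFactors (X ^ M - 1 : K[X])) (hfd : cdual M (σ : K →+* K) f = f)
    (W : Submodule K V) (hWinv : ∀ v ∈ W, A v ∈ W) (hWti : TiOn H W) :
    2 * kdim (A.restrict hWinv) f ≤ kdim A f := by
  apply ti_ker_le hσ2 hσ1 A hA f _ W hWinv hWti
  have := ndOn_ker_cblock hσ2 hσ1 hM hMK hAM hA hf
  unfold cblockPoly at this
  rwa [if_pos hfd] at this

end nec

section decomp
variable {K : Type*} [Field K] [Fintype K] {p : ℕ} [Fact p.Prime] [CharP K p] {r : ℕ}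
variable {V : Type*} [AddCommGroup V] [Module K V] [FiniteDimensional K V]

/-- the dimension of an invariant subspace of an endomorphism of order `r` -/
theorem finrank_inv_decomp (hr : r.Prime) (hrp : r ≠ p) (A : Module.End K V) (hAr : A ^ r = 1)
    (W : Submodule K V) (hWinv : ∀ v ∈ W, A v ∈ W) :
    finrank K W = kdim (A.restrict hWinv) (X - 1) +
      ∑ f ∈ cycFactors K r, kdim (A.restrict hWinv) f := by
  set S := insert (X - 1 : K[X]) (cycFactors K r) with hS
  have hAr' := Cfsg.Agent.Helper13.SpTi.restrict_pow_eq_one A hAr W hWinv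
  have hkill : aeval (A.restrict hWinv) (∏ f ∈ S, f) = 0 := by
    rw [hS, X_sub_one_mul_prod hr hrp, map_sub, map_pow, aeval_X, map_one, hAr', sub_self]
  have hirr : ∀ f ∈ S, Irreducible f := fun f hf => insert_irreducible hf
  have e1 : (X - 1 : K[X]) = X - C 1 := by rw [map_one]
  have hmon : ∀ f ∈ S, f.Monic := by
    intro f hf
    rcases Finset.mem_insert.1 hf with rfl | hf
    · rw [e1]
      exact monic_X_sub_C 1
    · exact cycFactors_monic hf
  have h1 := finrank_eq_sum_kdim (A.restrict hWinv) S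
    (pairwise_coprime_of_monic_irreducible S hirr hmon) hkill
  rw [hS, Finset.sum_insert (X_sub_one_notMem hr hrp)] at h1
  exact h1

/-- kernel dimensions from a factorisation of the characteristic polynomial -/
theorem kdim_of_charpoly_eq (hr : r.Prime) (hrp : r ≠ p) (A : Module.End K V) (hAr : A ^ r = 1)
    (e : K[X] → ℕ)
    (hc : A.charpoly = ∏ f ∈ insert (X - 1 : K[X]) (cycFactors K r), f ^ e f) :
    ∀ f ∈ insert (X - 1 : K[X]) (cycFactors K r), kdim A f = f.natDegree * e f := by
  set S := insert (X - 1 : K[X]) (cycFactors K r) with hS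
  have hkill : aeval A (∏ f ∈ S, f) = 0 := by
    rw [hS, X_sub_one_mul_prod hr hrp, map_sub, map_pow, aeval_X, map_one, hAr, sub_self]
  have hirr : ∀ f ∈ S, Irreducible f := fun f hf => insert_irreducible hf
  have e1 : (X - 1 : K[X]) = X - C 1 := by rw [map_one]
  have hmon : ∀ f ∈ S, f.Monic := by
    intro f hf
    rcases Finset.mem_insert.1 hf with rfl | hf
    · rw [e1]
      exact monic_X_sub_C 1
    · exact cycFactors_monic hf
  have h1 := charpoly_eq_prod S hirr hmon A hkill
  rw [hc] at h1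
  have h2 := exponents_unique S hirr (pairwise_coprime_of_monic_irreducible S hirr hmon) _ _ h1
  intro f hf
  have h3 := h2 f hf
  have h4 := dvd_kdim A f (hirr f hf)
  rw [h3, Nat.mul_div_cancel' h4]

end decomp

end Cfsg.Agent.Helper13.SuTi
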