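import Mathlib
import Cfsg.Agent.Lib.Helper13.SuTi5
import Cfsg.Agent.Lib.Helper13.SuNd10

set_option autoImplicit false
set_option linter.unusedSectionVars false

/-!
# Totally isotropic invariant subspaces of unitary isometries of odd prime order: sufficiency
-/

namespace Cfsg.Agent.Helper13.SuTi

open Polynomial Module Cfsg.Agent.Helper13.Uni Cfsg.Agent.Helper13.SS
  Cfsg.Agent.Helper13.HermSS Cfsg.Agent.Helper13.SuNd Cfsg.Agent.Helper13.SympSS
  Cfsg.Agent.Helper13.Dual
open scoped Classical

universe u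

section triv
variable {F K : Type*} [Field F] [Field K] [Algebra F K] [FiniteDimensional F K] [Fintype K]
variable {V : Type u} [AddCommGroup V] [Module F V] [Module K V] [IsScalarTower F K V]
  [FiniteDimensional K V]
variable {σ : K →ₐ[F] K} {H : V → V → K}

/-- totally isotropic subspaces of a space on which the endomorphism is the identity -/
theorem fixT_of_id (hσ2 : ∀ x, σ (σ x) = x) (hσ1 : ∃ c, σ c ≠ c) (A : Module.End K V)
    (hA : UInv σ A H) (hid : ∀ v, A v = v) (w : ℕ) (hw : 2 * w ≤ finrank K V) :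
    FixT H A w := by
  have hA1 : A ^ 1 = 1 := by
    rw [pow_one]
    exact LinearMap.ext hid
  have e1 : (X ^ 1 - 1 : K[X]) = X - C 1 := by rw [pow_one, map_one]
  have hmem : (X - C 1 : K[X]) ∈ irrFactors (X ^ 1 - 1 : K[X]) := by
    apply mem_irrFactors_of_dvd (X_pow_sub_one_monic le_rfl).ne_zero (irreducible_X_sub_C 1)
      (monic_X_sub_C 1)
    rw [e1]
  obtain ⟨J₁, hJ₁, hfix⟩ := thmSD hσ2 hσ1 (M := 1) le_rfl
    (by rw [Nat.cast_one]; exact one_ne_zero) 1 {X - C 1} (by
      intro f hf
      rw [Finset.mem_singleton.1 hf]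
      exact ⟨hmem, cdual_X_sub_one hσ2, natDegree_X_sub_C 1⟩) (finrank K V) H A rfl hA hA1 (by
      intro f hf _
      rw [Finset.mem_singleton]
      have hd := irrFactors_dvd hf
      rw [e1] at hd
      exact Polynomial.eq_of_monic_of_associated (irrFactors_monic hf) (monic_X_sub_C 1)
        ((irrFactors_irreducible hf).associated_of_dvd (irreducible_X_sub_C 1) hd))
  rw [Finset.card_singleton] at hJ₁
  have := hfix w (by omega)
  rwa [one_mul] at this

end triv

section main
variable {F : Type*} {K : Type*} [Field F] [Field K] [Fintype K] [Algebra F K]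
  [FiniteDimensional F K] {p : ℕ} [Fact p.Prime] [CharP K p] {r q : ℕ} {σ : K →ₐ[F] K}
variable {V : Type u} [AddCommGroup V] [Module F V] [Module K V] [IsScalarTower F K V]
  [FiniteDimensional K V] {H : V → V → K}

theorem card_cyc_mul (hK : Fintype.card K = q ^ 2) (hr : r.Prime) (hrp : r ≠ p) (i b : ℕ)
    (hi : i = orderOf (q : ZMod r)) (hb : b = if Even i then i / 2 else i) :
    (cycFactors K r).card * b = r - 1 := by
  obtain ⟨f, hf⟩ := Cfsg.Agent.Helper13.SpDec.cycFactors_nonempty_aux (F := K) hK hr hrp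
  have h1 := cycFactors_card (F := K) hK hr hrp
  have h2 := cycFactors_natDegree hK hr hrp hf
  have h3 := natDegree_cyc hK hr hrp i b hi hb hf
  rw [← h2, h3] at h1
  exact h1

theorem b_pos (hK : Fintype.card K = q ^ 2) (hr : r.Prime) (hrp : r ≠ p) (i b : ℕ)
    (hi : i = orderOf (q : ZMod r)) (hb : b = if Even i then i / 2 else i) : 0 < b := by
  have hi0 : 0 < i := by
    rw [hi]
    exact pos_orderOf_q hK hr hrp
  rw [hb]
  split_ifs with he
  · obtain ⟨k, hk⟩ := he
    omega
  · exact hi0

/-- sufficiency of the arithmetic conditions for isometries of order `r` -/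
theorem ss_suff_T (hK : Fintype.card K = q ^ 2) (hσ : ∀ x, σ x = x ^ q)
    (hσ2 : ∀ x, σ (σ x) = x) (hσ1 : ∃ c, σ c ≠ c) (hr : r.Prime) (hr2 : r ≠ 2) (hrp : r ≠ p)
    (i b c : ℕ) (hi : i = orderOf (q : ZMod r)) (hb : b = if Even i then i / 2 else i)
    (hc : c = if i % 4 = 0 then i else if i % 4 = 2 then i / 2 else 2 * i)
    (A : Module.End K V) (hA : UInv σ A H) (hAr : A ^ r = 1) (m : ℕ)
    (hmn : 2 * m ≤ finrank K V) (hcond : 2 * (m % b) ≤ finrank K V % c)
    (hsd : i % 4 = 2 → (r - 1) / b + 2 * (m / b) ≤ finrank K V / b) : FixT H A m := by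
  have hrK : (r : K) ≠ 0 := cast_ne_zero_of_prime_ne hr hrp
  have hr1 : 1 ≤ r := hr.one_lt.le
  have hb0 : 0 < b := b_pos hK hr hrp i b hi hb
  have hσ' : ∀ x, (σ : K →+* K) x = x ^ q := hσ
  have hσ2' : ∀ x, (σ : K →+* K) ((σ : K →+* K) x) = x := hσ2
  obtain ⟨u₀, hfin, -⟩ := struct_r hK hσ hσ2 hσ1 hr hr2 hrp i b c hi hb hc A hA hAr
  set V₁ := LinearMap.ker (aeval A (X - 1 : K[X])) with hV₁
  have hV₁nd : NdOn H V₁ := ndOn_fixed hA r hAr hrK
  have hV₁inv : ∀ v ∈ V₁, A v ∈ V₁ := ker_invariant A _
  have he₀ : finrank K V₁ = kdim A (X - 1) := rfl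
  have hCinv := orth_inv hA V₁ hV₁inv
  have hCnd := ndOn_orth hσ2 hσ1 hA.sesq V₁ hV₁nd
  have hfinC := finrank_orth hσ2 hσ1 hA.sesq V₁ hV₁nd
  have hc' := isCompl_orth' hσ2 hσ1 hA.sesq V₁ hV₁nd
  have hA' := uinv_restrict hA _ hCnd hCinv
  have hAr' := Cfsg.Agent.Helper13.SpTi.restrict_pow_eq_one A hAr _ hCinv
  have hA₁ := uinv_restrict hA V₁ hV₁nd hV₁inv
  have hnofix : kdim (A.restrict hCinv) (X - 1) = 0 := by
    unfold kdim
    rw [Submodule.finrank_eq_zero, eq_bot_iff]
    intro x hx
    rw [mem_fix] at hx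
    have h1 : A (x : V) = x := congrArg Subtype.val hx
    have h2 : (x : V) ∈ V₁ := (mem_fix A _).2 h1
    have h3 : (x : V) ∈ V₁ ⊓ orth hA.sesq V₁ := ⟨h2, x.2⟩
    rw [hc'.inf_eq_bot, Submodule.mem_bot] at h3
    rw [Submodule.mem_bot]
    exact Subtype.ext h3
  have hCfin : finrank K ↥(orth hA.sesq V₁) = c * u₀ := by omega
  -- the fixed part
  have hfixed : ∀ w, 2 * w ≤ kdim A (X - 1) → FixT (resH H V₁) (A.restrict hV₁inv) w := by
    intro w hw
    apply fixT_of_id hσ2 hσ1 _ hA₁ _ w (by rw [he₀]; exact hw)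
    intro v
    apply Subtype.ext
    exact (mem_fix A v).1 v.2
  have hdm := Nat.div_add_mod m b
  have hmodc : finrank K V % c = kdim A (X - 1) % c := by
    rw [hfin, Nat.add_mul_mod_self_left]
  have hmodle := Nat.mod_le (kdim A (X - 1)) c
  obtain ⟨J, hJ1, hJ2, hJ3⟩ : ∃ J, b * J ≤ m ∧ 2 * (m - b * J) ≤ kdim A (X - 1) ∧
      FixT (resH H (orth hA.sesq V₁)) (A.restrict hCinv) (b * J) := by
    by_cases h4 : i % 4 = 2
    · have hbc : c = b := by
        have he : Even i := ⟨i / 2, by omega⟩
        rw [hb, hc, if_pos he, if_neg (by omega), if_pos h4]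
      obtain ⟨J₁, hJ₁, hfix⟩ := thmSD hσ2 hσ1 hr1 hrK b (cycFactors K r) (by
          intro f hf
          exact ⟨mem_irrFactors_of_cyc hr hf,
            cdual_eq_self_of_mod4 hK hσ' hσ2' hr hrp (by rw [← hi]; exact h4) hf,
            natDegree_cyc hK hr hrp i b hi hb hf⟩)
        (finrank K ↥(orth hA.sesq V₁)) (resH H _) (A.restrict hCinv) rfl hA' hAr' (by
          intro f hf hfk
          rcases cyc_of_mem_irrFactors hr hrp hf with h | h
          · rw [h] at hfk
            exact absurd hnofix hfk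
          · exact h)
      have hcard := card_cyc_mul hK hr hrp i b hi hb
      have hs : (r - 1) / b = (cycFactors K r).card := by
        rw [← hcard, Nat.mul_div_cancel _ hb0]
      have hsd' := hsd h4
      rw [hs] at hsd'
      have hkey : b * (cycFactors K r).card + 2 * m ≤ finrank K V := by
        have h1 := Nat.mul_le_mul_left b hsd'
        have h3 := Nat.div_add_mod (finrank K V) b
        rw [hbc] at hcond
        rw [mul_add] at h1
        have h5 : b * (2 * (m / b)) = 2 * (b * (m / b)) := by ring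
        omega
      rcases le_total (m / b) J₁ with hle | hle
      · refine ⟨m / b, Nat.mul_div_le m b, ?_, hfix _ hle⟩
        have : m - b * (m / b) = m % b := by omega
        rw [this]
        omega
      · refine ⟨J₁, ?_, ?_, hfix _ le_rfl⟩
        · have := Nat.mul_le_mul_left b hle
          omega
        · have e : b * (2 * J₁ + (cycFactors K r).card) =
              2 * (b * J₁) + b * (cycFactors K r).card := by ring
          rw [e] at hJ₁
          omega
    · have hbc : c = 2 * b := by
        rw [hb, hc]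
        by_cases h0 : i % 4 = 0
        · have he : Even i := ⟨i / 2, by omega⟩
          rw [if_pos he, if_pos h0]
          omega
        · have he : ¬ Even i := by
            rintro ⟨k, hk⟩
            omega
          rw [if_neg he, if_neg h0, if_neg h4]
      have hpair := thmPair hσ2 hσ1 hr1 hrK b (finrank K ↥(orth hA.sesq V₁)) (resH H _)
        (A.restrict hCinv) rfl hA' hAr' (by
          intro f hf hfk
          rcases cyc_of_mem_irrFactors hr hrp hf with h | h
          · rw [h] at hfk
            exact absurd hnofix hfk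
          · exact ⟨cdual_ne_self_of_not_mod4 hK hσ' hσ2' hr hr2 hrp (by rw [← hi]; exact h4) h,
              natDegree_cyc hK hr hrp i b hi hb h⟩)
      have hcu : c * u₀ = 2 * (b * u₀) := by rw [hbc]; ring
      rcases le_total (m / b) u₀ with hle | hle
      · refine ⟨m / b, Nat.mul_div_le m b, ?_, hpair (m / b) ?_⟩
        · have : m - b * (m / b) = m % b := by omega
          rw [this]
          omega
        · rw [hCfin, hbc]
          exact Nat.mul_le_mul_left _ hle
      · refine ⟨u₀, ?_, ?_, hpair u₀ ?_⟩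
        · have := Nat.mul_le_mul_left b hle
          omega
        · omega
        · rw [hCfin, hbc]
  have := FixT.add_block A hA V₁ hV₁nd hV₁inv _ _ (hfixed _ hJ2) hJ3
  have e : m - b * J + b * J = m := by omega
  rwa [e] at this

end main

end Cfsg.Agent.Helper13.SuTi
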