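import Mathlib
import Cfsg.Agent.Lib.Helper13.SuTi6

set_option autoImplicit false
set_option linter.unusedSectionVars false

/-!
# Totally isotropic invariant subspaces of unitary isometries of odd prime order: necessity
-/

namespace Cfsg.Agent.Helper13.SuTi

open Polynomial Module Cfsg.Agent.Helper13.Uni Cfsg.Agent.Helper13.SS
  Cfsg.Agent.Helper13.HermSS Cfsg.Agent.Helper13.SuNd Cfsg.Agent.Helper13.SympSS
  Cfsg.Agent.Helper13.Dual
open scoped Classical

universe u

section scal
variable {K : Type*} [Field K] {V : Type*} [AddCommGroup V] [Module K V]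

/-- an irreducible monic polynomial with nonzero kernel on a scalar endomorphism is linear -/
theorem eq_lin_of_scalar (z : K) (f : K[X]) (hf : Irreducible f) (hmon : f.Monic)
    (hk : kdim (z • (1 : Module.End K V)) f ≠ 0) : f = X - C z := by
  have h1 : aeval (z • (1 : Module.End K V)) f = (f.eval z) • (1 : Module.End K V) := by
    have : z • (1 : Module.End K V) = algebraMap K (Module.End K V) z := by
      rw [Algebra.algebraMap_eq_smul_one]
    rw [this, aeval_algebraMap_apply_eq_algebraMap_eval, Algebra.algebraMap_eq_smul_one]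
  have h2 : f.eval z = 0 := by
    by_contra hne
    apply hk
    have hker : LinearMap.ker ((f.eval z) • (1 : Module.End K V)) = ⊥ := by
      rw [eq_bot_iff]
      intro v hv
      rw [LinearMap.mem_ker, LinearMap.smul_apply, Module.End.one_apply] at hv
      rw [Submodule.mem_bot]
      exact (smul_eq_zero.1 hv).resolve_left hne
    unfold kdim
    rw [h1, hker, finrank_bot]
  have h3 : (X - C z : K[X]) ∣ f := dvd_iff_isRoot.2 h2
  exact (Polynomial.eq_of_monic_of_associated (monic_X_sub_C z) hmon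
    ((irreducible_X_sub_C z).associated_of_dvd hf h3)).symm

end scal

section nec
variable {F : Type*} {K : Type u} [Field F] [Field K] [Fintype K] [Algebra F K]
  [FiniteDimensional F K] {p : ℕ} [Fact p.Prime] [CharP K p] {r q : ℕ} {σ : K →ₐ[F] K}

/-- necessity of the condition on the fixed space when `r` does not divide `q + 1` -/
theorem nec_fix_T (hK : Fintype.card K = q ^ 2) (hσ : ∀ x, σ x = x ^ q)
    (hσ2 : ∀ x, σ (σ x) = x) (hσ1 : ∃ c, σ c ≠ c) (hr : r.Prime) (hr2 : r ≠ 2) (hrp : r ≠ p)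
    (i b c : ℕ) (hi : i = orderOf (q : ZMod r)) (hb : b = if Even i then i / 2 else i)
    (hc : c = if i % 4 = 0 then i else if i % 4 = 2 then i / 2 else 2 * i)
    (hcop : ¬ r ∣ q + 1) (n m : ℕ) (hn : 0 < n) (hcn : c ≤ n)
    (hall : ∀ g : Matrix (Fin n) (Fin n) K, Pres q g → g.det = 1 → g ^ r = 1 →
      (∀ z : K, g ≠ z • 1) → FixT (Cfsg.hermForm n K q) (Matrix.toLin' g) m) :
    2 * (m % b) ≤ n % c := by
  have hq := q_pos hK
  have hc0 := c_pos hK hr hrp i c hi hc
  have hb0 := b_pos hK hr hrp i b hi hb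
  have hrK : (r : K) ≠ 0 := cast_ne_zero_of_prime_ne hr hrp
  obtain ⟨y, hyP, hyr, hyk⟩ := exists_unit_elt_u hK hσ hσ2 hσ1 hr hr2 hrp i b c hi hb hc n (n / c)
    (Nat.mul_div_le _ _)
  have hfix : kdim (Matrix.toLin' y) (X - 1) = n % c := by
    rw [hyk]
    have := Nat.div_add_mod n c
    omega
  have hA := uinv_toLin' hσ hσ2 y hyP
  have hAr : Matrix.toLin' y ^ r = 1 := toLin'_pow_eq_one y r hyr
  have hdet := det_eq_one_of_coprime hK hr hcop y hyP hyr
  have hns : ∀ z : K, y ≠ z • 1 := by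
    intro z hyz
    have hz := norm_of_pow_scalar (by omega) hn hyP 1 z (by
      rw [pow_one]
      exact hyz)
    have hzr : z ^ r = 1 := by
      have h2 := hyr
      rw [hyz, _root_.smul_pow, one_pow] at h2
      have h3 := congrFun (congrFun h2 ⟨0, hn⟩) ⟨0, hn⟩
      simpa using h3
    have hcg : Nat.gcd r (q + 1) = 1 :=
      Nat.coprime_iff_gcd_eq_one.1 ((Nat.Prime.coprime_iff_not_dvd hr).2 hcop)
    have h3 := (pow_gcd_eq_one (a := z) (m := r) (n := q + 1)).2 ⟨hzr, hz⟩
    rw [hcg, pow_one] at h3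
    rw [h3, one_smul] at hyz
    rw [hyz, kdim_one] at hfix
    have := Nat.mod_lt n hc0
    omega
  obtain ⟨W, hWm, hWti, hWinv⟩ := hall y hyP hdet hyr hns
  have h1 := finrank_inv_decomp hr hrp _ hAr W hWinv
  have h2 := ti_fix_le hσ2 hσ1 _ hA r hAr hrK W hWinv hWti
  have h3 : b ∣ ∑ f ∈ cycFactors K r, kdim ((Matrix.toLin' y).restrict hWinv) f := by
    apply Finset.dvd_sum
    intro f hf
    have := dvd_kdim ((Matrix.toLin' y).restrict hWinv) f (cycFactors_irreducible hf)
    rwa [natDegree_cyc hK hr hrp i b hi hb hf] at this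
  obtain ⟨k, hk⟩ := h3
  rw [hWm, hk] at h1
  have h4 : m % b = kdim ((Matrix.toLin' y).restrict hWinv) (X - 1) % b := by
    rw [h1, Nat.add_mul_mod_self_left]
  have := Nat.mod_le (kdim ((Matrix.toLin' y).restrict hWinv) (X - 1)) b
  omega

/-- unitary matrices of order `r` with prescribed conjugate-self-dual factors of multiplicity
one -/
theorem exists_T_elt (hK : Fintype.card K = q ^ 2) (hσ : ∀ x, σ x = x ^ q)
    (hσ2 : ∀ x, σ (σ x) = x) (hσ1 : ∃ c, σ c ≠ c) (hr : r.Prime) (hrp : r ≠ p)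
    (i b : ℕ) (hi : i = orderOf (q : ZMod r)) (hb : b = if Even i then i / 2 else i)
    (h4 : i % 4 = 2) (n : ℕ) (T : Finset K[X]) (hT : T ⊆ cycFactors K r)
    (hTn : b * T.card ≤ n) :
    ∃ g : Matrix (Fin n) (Fin n) K, Pres q g ∧ g ^ r = 1 ∧
      g.charpoly = (X - 1) ^ (n - b * T.card) * ∏ f ∈ T, f ∧
      kdim (Matrix.toLin' g) (X - 1) = n - b * T.card ∧
      (∀ f ∈ T, kdim (Matrix.toLin' g) f = b) ∧
      ∀ W : Submodule K (Fin n → K), (∀ v ∈ W, Matrix.toLin' g v ∈ W) →
        TiOn (Cfsg.hermForm n K q) W → 2 * finrank K W ≤ n - b * T.card := by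
  have hr1 : 1 ≤ r := hr.one_lt.le
  have hb0 := b_pos hK hr hrp i b hi hb
  have hrK : (r : K) ≠ 0 := cast_ne_zero_of_prime_ne hr hrp
  have hσ' : ∀ x, (σ : K →+* K) x = x ^ q := hσ
  have hσ2' : ∀ x, (σ : K →+* K) ((σ : K →+* K) x) = x := hσ2
  have hsd : ∀ f ∈ cycFactors K r, cdual r (σ : K →+* K) f = f := fun f hf =>
    cdual_eq_self_of_mod4 hK hσ' hσ2' hr hrp (by rw [← hi]; exact h4) hf
  have e1 : (X - 1 : K[X]) = X - C 1 := by rw [map_one]
  set P : K[X] := (X - 1) ^ (n - b * T.card) * ∏ f ∈ T, f with hP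
  have hU : UReal σ r P :=
    ureal_mul (ureal_pow (ureal_X_sub_one hσ2 hσ1 hr1) _) (ureal_prod T (fun f => f)
      (fun f hf => ureal_selfdual hσ2 hσ1 hr1 (cycFactors_irreducible (hT hf))
        (cycFactors_monic (hT hf)) (cycFactors_dvd_X_pow (hT hf)) (hsd f (hT hf))))
  have hTmon : (∏ f ∈ T, f).Monic := monic_prod_of_monic T _ (fun f hf => cycFactors_monic (hT hf))
  have hPdeg : P.natDegree = n := by
    have h1 : ((X - 1 : K[X]) ^ (n - b * T.card)).Monic := by
      rw [e1]
      exact (monic_X_sub_C 1).pow _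
    rw [hP, h1.natDegree_mul hTmon, e1, (monic_X_sub_C 1).natDegree_pow, natDegree_X_sub_C,
      natDegree_prod_of_monic T _ (fun f hf => cycFactors_monic (hT hf)),
      Finset.sum_congr rfl (fun f hf => natDegree_cyc hK hr hrp i b hi hb (hT hf)),
      Finset.sum_const, smul_eq_mul]
    have : T.card * b = b * T.card := mul_comm _ _
    omega
  obtain ⟨g, hgP, hgr, hgc⟩ := hU.exists_matrix σ hσ hσ2 hσ1 n hPdeg
  set A := Matrix.toLin' g with hAdef
  have hA := uinv_toLin' hσ hσ2 g hgP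
  have hAr : A ^ r = 1 := toLin'_pow_eq_one g r hgr
  set e : K[X] → ℕ := fun f => if f = X - 1 then n - b * T.card else if f ∈ T then 1 else 0
    with he
  have hne1 : ∀ f ∈ cycFactors K r, f ≠ X - 1 := by
    intro f hf h
    rw [h] at hf
    exact X_sub_one_notMem hr hrp hf
  have hc : A.charpoly = ∏ f ∈ insert (X - 1 : K[X]) (cycFactors K r), f ^ e f := by
    rw [hAdef, Matrix.charpoly_toLin', hgc, hP, Finset.prod_insert (X_sub_one_notMem hr hrp)]
    congr 1
    · rw [he]
      simp only [if_true]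
    · rw [← Finset.prod_subset hT (f := fun f => f ^ e f)]
      · apply Finset.prod_congr rfl
        intro f hf
        rw [he]
        simp only
        rw [if_neg (hne1 f (hT hf)), if_pos hf, pow_one]
      · intro f hf hfT
        rw [he]
        simp only
        rw [if_neg (hne1 f hf), if_neg hfT, pow_zero]
  have hkd := kdim_of_charpoly_eq hr hrp A hAr e hc
  have hk1 : kdim A (X - 1) = n - b * T.card := by
    rw [hkd _ (Finset.mem_insert_self _ _), he]
    simp only [if_true]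
    rw [e1, natDegree_X_sub_C, one_mul]
  have hkT : ∀ f ∈ T, kdim A f = b := by
    intro f hf
    rw [hkd f (Finset.mem_insert_of_mem (hT hf)), he]
    simp only
    rw [if_neg (hne1 f (hT hf)), if_pos hf, mul_one]
    exact natDegree_cyc hK hr hrp i b hi hb (hT hf)
  have hkle : ∀ f ∈ cycFactors K r, kdim A f ≤ b := by
    intro f hf
    by_cases hfT : f ∈ T
    · rw [hkT f hfT]
    · rw [hkd f (Finset.mem_insert_of_mem hf), he]
      simp only
      rw [if_neg (hne1 f hf), if_neg hfT, mul_zero]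
      exact Nat.zero_le _
  refine ⟨g, hgP, hgr, hgc, hk1, hkT, ?_⟩
  intro W hWinv hWti
  have h1 := finrank_inv_decomp hr hrp A hAr W hWinv
  have h2 := ti_fix_le hσ2 hσ1 A hA r hAr hrK W hWinv hWti
  have h3 : ∑ f ∈ cycFactors K r, kdim (A.restrict hWinv) f = 0 := by
    apply Finset.sum_eq_zero
    intro f hf
    have h5 := ti_selfdual_le hσ2 hσ1 hr1 hrK A hA hAr (mem_irrFactors_of_cyc hr hf) (hsd f hf)
      W hWinv hWti
    have h6 := dvd_kdim (A.restrict hWinv) f (cycFactors_irreducible hf)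
    rw [natDegree_cyc hK hr hrp i b hi hb hf] at h6
    obtain ⟨k, hk⟩ := h6
    have h7 := hkle f hf
    rcases Nat.eq_zero_or_pos k with h | h
    · rw [hk, h, mul_zero]
    · have : b ≤ b * k := Nat.le_mul_of_pos_right _ h
      omega
  rw [h3, add_zero] at h1
  rw [h1, ← hk1]
  exact h2

/-- necessity of the condition on the number of self-dual blocks, `r` not dividing `q + 1` -/
theorem nec_sd_T (hK : Fintype.card K = q ^ 2) (hσ : ∀ x, σ x = x ^ q)
    (hσ2 : ∀ x, σ (σ x) = x) (hσ1 : ∃ c, σ c ≠ c) (hr : r.Prime) (hrp : r ≠ p)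
    (i b : ℕ) (hi : i = orderOf (q : ZMod r)) (hb : b = if Even i then i / 2 else i)
    (h4 : i % 4 = 2) (hcop : ¬ r ∣ q + 1) (n m : ℕ) (hn : 0 < n) (hbm : b ≤ m)
    (hmn : 2 * m ≤ n)
    (hall : ∀ g : Matrix (Fin n) (Fin n) K, Pres q g → g.det = 1 → g ^ r = 1 →
      (∀ z : K, g ≠ z • 1) → FixT (Cfsg.hermForm n K q) (Matrix.toLin' g) m) :
    (r - 1) / b + 2 * (m / b) ≤ n / b := by
  have hq := q_pos hK
  have hb0 := b_pos hK hr hrp i b hi hb
  by_contra hcon
  push Not at hcon
  have hcard := card_cyc_mul hK hr hrp i b hi hb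
  have hs : (r - 1) / b = (cycFactors K r).card := by
    rw [← hcard, Nat.mul_div_cancel _ hb0]
  rw [hs] at hcon
  have h1 : 2 * (m / b) ≤ n / b := by
    rw [Nat.le_div_iff_mul_le hb0]
    have := Nat.div_mul_le_self m b
    have e : 2 * (m / b) * b = 2 * (m / b * b) := by ring
    omega
  have h2 : 1 ≤ m / b := Nat.div_pos hbm hb0
  obtain ⟨t, ht⟩ : ∃ t, t = n / b - 2 * (m / b) + 1 := ⟨_, rfl⟩
  have htc : t ≤ (cycFactors K r).card := by omega
  obtain ⟨T, hTsub, hTcard⟩ := Finset.exists_subset_card_eq htc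
  have hbt : b * t + 2 * (b * (m / b)) = b * (n / b) + b := by
    have h3 : t + 2 * (m / b) = n / b + 1 := by omega
    calc b * t + 2 * (b * (m / b)) = b * (t + 2 * (m / b)) := by ring
      _ = b * (n / b + 1) := by rw [h3]
      _ = b * (n / b) + b := by ring
  have hdn := Nat.div_add_mod n b
  have hdm := Nat.div_add_mod m b
  have hbm' : b ≤ b * (m / b) := Nat.le_mul_of_pos_right _ h2
  have hTn : b * T.card ≤ n := by
    rw [hTcard]
    omega
  obtain ⟨g, hgP, hgr, -, hk1, -, hW⟩ := exists_T_elt hK hσ hσ2 hσ1 hr hrp i b hi hb h4 n T hTsub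
    hTn
  rw [hTcard] at hk1 hW
  have hbt1 : b ≤ b * t := Nat.le_mul_of_pos_right _ (by omega)
  have hdet := det_eq_one_of_coprime hK hr hcop g hgP hgr
  have hns : ∀ z : K, g ≠ z • 1 := by
    intro z hyz
    have hz := norm_of_pow_scalar (by omega) hn hgP 1 z (by
      rw [pow_one]
      exact hyz)
    have hzr : z ^ r = 1 := by
      have h2 := hgr
      rw [hyz, _root_.smul_pow, one_pow] at h2
      have h3 := congrFun (congrFun h2 ⟨0, hn⟩) ⟨0, hn⟩
      simpa using h3
    have hcg : Nat.gcd r (q + 1) = 1 :=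
      Nat.coprime_iff_gcd_eq_one.1 ((Nat.Prime.coprime_iff_not_dvd hr).2 hcop)
    have h3 := (pow_gcd_eq_one (a := z) (m := r) (n := q + 1)).2 ⟨hzr, hz⟩
    rw [hcg, pow_one] at h3
    rw [h3, one_smul] at hyz
    rw [hyz, kdim_one] at hk1
    omega
  obtain ⟨W, hWm, hWti, hWinv⟩ := hall g hgP hdet hgr hns
  have h5 := hW W hWinv hWti
  rw [hWm] at h5
  have := Nat.mod_lt n hb0
  omega

end nec

end Cfsg.Agent.Helper13.SuTi
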