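import Mathlib
import Cfsg.Agent.Lib.Helper13.SuTi7

set_option autoImplicit false
set_option linter.unusedSectionVars false

/-!
# Totally isotropic invariant subspaces: odd primes dividing `q + 1`
-/

namespace Cfsg.Agent.Helper13.SuTi

open Polynomial Module Cfsg.Agent.Helper13.Uni Cfsg.Agent.Helper13.SS
  Cfsg.Agent.Helper13.HermSS Cfsg.Agent.Helper13.SuNd Cfsg.Agent.Helper13.SympSS
  Cfsg.Agent.Helper13.Dual
open scoped Classical

universe u

section zeta
variable {K : Type*} [Field K] [Fintype K] {p : ℕ} [Fact p.Prime] [CharP K p] {r q : ℕ}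

/-- a primitive `r`-th root of unity of norm one -/
theorem exists_zeta (hK : Fintype.card K = q ^ 2) (hr : r.Prime) (hrq : r ∣ q + 1) :
    ∃ ζ : K, orderOf ζ = r ∧ ζ ^ (q + 1) = 1 := by
  haveI : Fact r.Prime := ⟨hr⟩
  have hq := q_pos hK
  obtain ⟨γ, hγ0, hγ, -⟩ := exists_gen hK
  obtain ⟨s, hs⟩ := hrq
  have hN : q ^ 2 - 1 = r * (s * (q - 1)) := by
    rw [sq_sub_one_eq (by omega), hs]
    ring
  have hs0 : 0 < s := by
    rcases Nat.eq_zero_or_pos s with h | h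
    · rw [h, mul_zero] at hs
      omega
    · exact h
  have hpos : 0 < s * (q - 1) := Nat.mul_pos hs0 (by omega)
  refine ⟨γ ^ (s * (q - 1)), ?_, ?_⟩
  · apply orderOf_eq_prime
    · rw [← pow_mul, mul_comm, ← hN, ← hγ]
      exact pow_orderOf_eq_one γ
    · apply pow_ne_one_of_lt_orderOf (by omega)
      rw [hγ, hN]
      have := hr.two_le
      nlinarith
  · have e : s * (q - 1) * (q + 1) = (q ^ 2 - 1) * s := by
      rw [hN, hs]
      ring
    rw [← pow_mul, e, pow_mul, ← hγ, pow_orderOf_eq_one, one_pow]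

theorem lin_mem_cyc (hr : r.Prime) (hrp : r ≠ p) (ζ : K) (hζ : orderOf ζ = r) (a : ℕ)
    (ha : ¬ r ∣ a) : (X - C (ζ ^ a) : K[X]) ∈ cycFactors K r := by
  haveI : Fact r.Prime := ⟨hr⟩
  haveI : NeZero (r : K) := ⟨cast_ne_zero_of_prime_ne hr hrp⟩
  have hne : cyclotomic r K ≠ 0 := cyclotomic_ne_zero r K
  have ho : orderOf (ζ ^ a) = r := by
    apply orderOf_eq_prime
    · rw [← pow_mul, mul_comm, pow_mul, ← hζ, pow_orderOf_eq_one, one_pow]
    · intro h
      rw [← orderOf_dvd_iff_pow_eq_one, hζ] at h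
      exact ha h
  have hprim : IsPrimitiveRoot (ζ ^ a) r := by
    rw [← ho]
    exact IsPrimitiveRoot.orderOf _
  apply mem_irrFactors_of_dvd hne (irreducible_X_sub_C _) (monic_X_sub_C _)
  exact dvd_iff_isRoot.2 (hprim.isRoot_cyclotomic hr.pos)

end zeta

section nec
variable {F : Type*} {K : Type u} [Field F] [Field K] [Fintype K] [Algebra F K]
  [FiniteDimensional F K] {p : ℕ} [Fact p.Prime] [CharP K p] {r q : ℕ} {σ : K →ₐ[F] K}

/-- necessity of the condition on the number of eigenvalues, `r` dividing `q + 1` -/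
theorem nec_sd2_T (hK : Fintype.card K = q ^ 2) (hσ : ∀ x, σ x = x ^ q)
    (hσ2 : ∀ x, σ (σ x) = x) (hσ1 : ∃ c, σ c ≠ c) (hr : r.Prime) (hr2 : r ≠ 2) (hrp : r ≠ p)
    (hrq : r ∣ q + 1) (n m : ℕ) (hn : 3 ≤ n) (hm : 1 ≤ m) (hmn : 2 * m ≤ n)
    (hall : ∀ g : Matrix (Fin n) (Fin n) K, Pres q g → g.det = 1 → g ^ r = 1 →
      (∀ z : K, g ≠ z • 1) → FixT (Cfsg.hermForm n K q) (Matrix.toLin' g) m) :
    r - 1 + 2 * m ≤ n := by
  by_contra hcon
  push Not at hcon
  have hi2 : orderOf (q : ZMod r) = 2 := (orderOf_eq_two_iff hr hr2).2 hrq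
  obtain ⟨ζ, hζ, hζn⟩ := exists_zeta hK hr hrq
  obtain ⟨k, hk⟩ : Odd r := hr.eq_two_or_odd'.resolve_left hr2
  obtain ⟨h, hh⟩ : ∃ h, h = n / 2 - m + 1 := ⟨_, rfl⟩
  have hh1 : 1 ≤ h := by omega
  have hh2 : 2 * h ≤ r - 1 := by omega
  have hh3 : 2 * h ≤ n := by omega
  set φ : ℕ → K[X] := fun a => X - C (ζ ^ a) with hφ
  set I₁ := Finset.Icc 1 h with hI₁def
  set I₂ := I₁.image (fun a => r - a) with hI₂def
  have hI₁ : ∀ a ∈ I₁, 1 ≤ a ∧ a ≤ h := fun a ha => Finset.mem_Icc.1 ha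
  have hI₂ : ∀ a ∈ I₂, r - h ≤ a ∧ a ≤ r - 1 := by
    intro a ha
    obtain ⟨a', ha', rfl⟩ := Finset.mem_image.1 ha
    have := hI₁ a' ha'
    omega
  have hdisj : Disjoint I₁ I₂ := by
    rw [Finset.disjoint_left]
    intro a h1 h2
    have := hI₁ a h1
    have := hI₂ a h2
    omega
  have hinj₂ : Set.InjOn (fun a => r - a) (I₁ : Set ℕ) := by
    intro a ha a' ha' h
    have := hI₁ a (Finset.mem_coe.1 ha)
    have := hI₁ a' (Finset.mem_coe.1 ha')
    simp only at h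
    omega
  have hcardI : (I₁ ∪ I₂).card = 2 * h := by
    rw [Finset.card_union_of_disjoint hdisj, Finset.card_image_of_injOn hinj₂, Nat.card_Icc]
    omega
  have hIlt : ∀ a ∈ I₁ ∪ I₂, 1 ≤ a ∧ a < r := by
    intro a ha
    rcases Finset.mem_union.1 ha with h1 | h1
    · have := hI₁ a h1
      omega
    · have := hI₂ a h1
      omega
  have hφinj : Set.InjOn φ ((I₁ ∪ I₂ : Finset ℕ) : Set ℕ) := by
    intro a ha a' ha' h
    have h1 : ζ ^ a = ζ ^ a' := by
      have := congrArg (fun P : K[X] => -(P.eval 0)) h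
      simpa [hφ] using this
    exact pow_injOn_Iio_orderOf (by rw [hζ]; exact (hIlt a (Finset.mem_coe.1 ha)).2)
      (by rw [hζ]; exact (hIlt a' (Finset.mem_coe.1 ha')).2) h1
  set T := (I₁ ∪ I₂).image φ with hTdef
  have hTcard : T.card = 2 * h := by
    rw [Finset.card_image_of_injOn hφinj, hcardI]
  have hTsub : T ⊆ cycFactors K r := by
    intro f hf
    obtain ⟨a, ha, rfl⟩ := Finset.mem_image.1 hf
    apply lin_mem_cyc hr hrp ζ hζ a
    intro hd
    have h1 := hIlt a ha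
    have := Nat.le_of_dvd (by omega) hd
    omega
  obtain ⟨g, hgP, hgr, hgc, hk1, hkT, hW⟩ := exists_T_elt hK hσ hσ2 hσ1 hr hrp
    (orderOf (q : ZMod r)) 1 rfl (by rw [hi2]; norm_num) (by rw [hi2]) n T hTsub
    (by rw [hTcard]; omega)
  rw [hTcard, one_mul] at hgc hk1 hW
  have hdet : g.det = 1 := by
    rw [det_of_charpoly, hgc, coeff_zero_eq_eval_zero, eval_mul, eval_pow, eval_sub, eval_X,
      eval_one, eval_prod, Finset.prod_image hφinj, Finset.prod_union hdisj,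
      Finset.prod_image hinj₂, ← Finset.prod_mul_distrib]
    have h1 : ∀ a ∈ I₁, (φ a).eval 0 * (φ (r - a)).eval 0 = 1 := by
      intro a ha
      simp only [hφ, eval_sub, eval_X, eval_C]
      have := hI₁ a ha
      rw [zero_sub, zero_sub, neg_mul_neg, ← pow_add, show a + (r - a) = r by omega, ← hζ,
        pow_orderOf_eq_one]
    rw [Finset.prod_congr rfl h1, Finset.prod_const_one, mul_one, zero_sub, ← pow_add]
    exact Even.neg_one_pow ⟨n - h, by omega⟩
  have hns : ∀ z : K, g ≠ z • 1 := by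
    intro z hz
    have hA : Matrix.toLin' g = z • (1 : Module.End K (Fin n → K)) := by
      rw [hz]
      exact toLin'_scalar z
    have m1 : 1 ∈ I₁ ∪ I₂ := Finset.mem_union_left _ (Finset.mem_Icc.2 ⟨le_rfl, hh1⟩)
    have m2 : r - 1 ∈ I₁ ∪ I₂ := Finset.mem_union_right _
      (Finset.mem_image.2 ⟨1, Finset.mem_Icc.2 ⟨le_rfl, hh1⟩, rfl⟩)
    have e1 := eq_lin_of_scalar (V := Fin n → K) z (φ 1) (irreducible_X_sub_C _)
      (monic_X_sub_C _) (by
        rw [← hA, hkT _ (Finset.mem_image_of_mem φ m1)]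
        exact one_ne_zero)
    have e2 := eq_lin_of_scalar (V := Fin n → K) z (φ (r - 1)) (irreducible_X_sub_C _)
      (monic_X_sub_C _) (by
        rw [← hA, hkT _ (Finset.mem_image_of_mem φ m2)]
        exact one_ne_zero)
    have e3 : φ 1 = φ (r - 1) := e1.trans e2.symm
    have := hφinj (Finset.mem_coe.2 m1) (Finset.mem_coe.2 m2) e3
    omega
  obtain ⟨W, hWm, hWti, hWinv⟩ := hall g hgP hdet hgr hns
  have := hW W hWinv hWti
  rw [hWm] at this
  omega

/-- necessity of the condition on the `r`-parts, `r` dividing `q + 1` -/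
theorem odd_nec_dvd_T (hK : Fintype.card K = q ^ 2) (hσ : ∀ x, σ x = x ^ q)
    (hσ2 : ∀ x, σ (σ x) = x) (hσ1 : ∃ c, σ c ≠ c) (hr : r.Prime) (hr2 : r ≠ 2) (hrp : r ≠ p)
    (hrq : r ∣ q + 1) (n m : ℕ) (hn : 0 < n)
    (hall : ∀ g : Matrix (Fin n) (Fin n) K, Pres q g → g.det = 1 → (∃ z : K, g ^ r = z • 1) →
      (∀ z : K, g ≠ z • 1) → FixT (Cfsg.hermForm n K q) (Matrix.toLin' g) m) :
    r ∣ m ∨ padicValNat r n ≤ padicValNat r (q + 1) := by
  haveI : Fact r.Prime := ⟨hr⟩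
  have hq := q_pos hK
  by_contra hcon
  push Not at hcon
  obtain ⟨hrm, hv⟩ := hcon
  obtain ⟨a, ha⟩ : ∃ a, a = padicValNat r (q + 1) := ⟨_, rfl⟩
  rw [← ha] at hv
  have h1 : r ^ (a + 1) ∣ n := dvd_trans (pow_dvd_pow r hv) pow_padicValNat_dvd
  have hrn : r ∣ n := dvd_trans (dvd_pow_self r (by omega)) h1
  obtain ⟨k, hk⟩ := hrn
  have hk0 : 0 < k := by
    rcases Nat.eq_zero_or_pos k with h | h
    · rw [h, mul_zero] at hk
      omega
    · exact h
  have hnr : n / r = k := by rw [hk, Nat.mul_div_cancel_left k hr.pos]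
  have hak : r ^ a ∣ k := by
    rw [hk, pow_succ, mul_comm] at h1
    exact Nat.dvd_of_mul_dvd_mul_left hr.pos h1
  obtain ⟨z, hz, hirr, hzk⟩ := exists_nonpower hK hr hr2 hrq k (by rw [← ha]; exact hak)
  have hM : 1 ≤ r * (q + 1) := Nat.mul_pos hr.pos (by omega)
  have hU : UReal σ (r * (q + 1)) ((X ^ r - C z : K[X]) ^ k) :=
    ureal_pow (ureal_selfdual hσ2 hσ1 hM hirr (f_monic hr z) (f_dvd r z hz)
      (cdual_f hσ hσ2 hr z hz hirr)) k
  have hdeg : ((X ^ r - C z : K[X]) ^ k).natDegree = n := by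
    rw [(f_monic hr z).natDegree_pow, natDegree_X_pow_sub_C, hk, mul_comm]
  obtain ⟨g, hgP, hgM, hgc⟩ := hU.exists_matrix σ hσ hσ2 hσ1 n hdeg
  have hkill := aeval_eq_zero_of_charpoly_pow' g (r * (q + 1)) (cast_mul_ne_zero hK hr hrp) hgM
    (X ^ r - C z) k (by omega) hgc
  have hgz : g ^ r = z • 1 := by
    rw [map_sub, map_pow, aeval_X, aeval_C, sub_eq_zero, Algebra.algebraMap_eq_smul_one] at hkill
    exact hkill
  have hdet : g.det = 1 := by
    rw [det_of_irr hr hr2 g z ⟨k, hk⟩ (by rw [hnr]; exact hgc), hnr, hzk]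
  have hns : ∀ w : K, g ≠ w • 1 := by
    intro w hw
    rw [hw] at hgz
    exact (X_pow_sub_C_irreducible_iff_of_prime hr).1 hirr w (scalar_pow_eq hn w z r hgz)
  obtain ⟨W, hWm, -, hWinv⟩ := hall g hgP hdet ⟨z, hgz⟩ hns
  have := dvd_finrank_of_irr hr _ z hirr (toLin'_pow_scalar g r z hgz) W hWinv
  rw [hWm] at this
  exact hrm this

end nec

section suff
variable {F : Type*} {K : Type*} [Field F] [Field K] [Fintype K] [Algebra F K]
  [FiniteDimensional F K] {p : ℕ} [Fact p.Prime] [CharP K p] {r q : ℕ} {σ : K →ₐ[F] K}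
variable {V : Type u} [AddCommGroup V] [Module F V] [Module K V] [IsScalarTower F K V]
  [FiniteDimensional K V] {H : V → V → K}

/-- if the scalar is an `r`-th power of an element of norm one, the element is a scalar multiple
of an isometry of order `r` -/
theorem fixT_of_root (hK : Fintype.card K = q ^ 2) (hσ : ∀ x, σ x = x ^ q)
    (hσ2 : ∀ x, σ (σ x) = x) (hσ1 : ∃ c, σ c ≠ c) (hr : r.Prime) (hr2 : r ≠ 2) (hrp : r ≠ p)
    (i b c : ℕ) (hi : i = orderOf (q : ZMod r)) (hb : b = if Even i then i / 2 else i)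
    (hc : c = if i % 4 = 0 then i else if i % 4 = 2 then i / 2 else 2 * i)
    (A : Module.End K V) (hA : UInv σ A H) (z w : K) (hAr : A ^ r = z • 1) (hw : w ^ r = z)
    (hwn : w ^ (q + 1) = 1) (m : ℕ) (hmn : 2 * m ≤ finrank K V)
    (hcond : 2 * (m % b) ≤ finrank K V % c)
    (hsd : i % 4 = 2 → (r - 1) / b + 2 * (m / b) ≤ finrank K V / b) : FixT H A m := by
  have hq := q_pos hK
  have hw0 : w ≠ 0 := by
    rintro rfl
    rw [zero_pow (by omega)] at hwn
    exact zero_ne_one hwn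
  have hwσ : w⁻¹ * σ w⁻¹ = 1 := by
    rw [hσ, inv_pow, ← mul_inv, ← pow_succ', hwn, inv_one]
  have hA' : UInv σ (w⁻¹ • A) H := uinv_smul hA w⁻¹ hwσ
  have hAr' : (w⁻¹ • A) ^ r = 1 := by
    rw [smul_pow_end, hAr, smul_smul, inv_pow, hw, inv_mul_cancel₀, one_smul]
    rw [← hw]
    exact pow_ne_zero _ hw0
  have := ss_suff_T hK hσ hσ2 hσ1 hr hr2 hrp i b c hi hb hc _ hA' hAr' m hmn hcond hsd
  exact (fixT_smul_iff A w⁻¹ (inv_ne_zero hw0) m).1 this

/-- the structure of an isometry with `A ^ r = z`, `X ^ r - z` irreducible -/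
theorem irr_struct_T (hK : Fintype.card K = q ^ 2) (hσ : ∀ x, σ x = x ^ q)
    (hσ2 : ∀ x, σ (σ x) = x) (hσ1 : ∃ c, σ c ≠ c) (hr : r.Prime) (hrp : r ≠ p)
    (A : Module.End K V) (hA : UInv σ A H) (z : K) (hz : z ^ (q + 1) = 1)
    (hirr : Irreducible (X ^ r - C z : K[X])) (hAr : A ^ r = z • 1) (t : ℕ)
    (ht : 2 * (r * t) ≤ finrank K V) : FixT H A (r * t) := by
  have hM : 1 ≤ r * (q + 1) := Nat.mul_pos hr.pos (by omega)
  obtain ⟨J₁, hJ₁, hfix⟩ := thmSD hσ2 hσ1 hM (cast_mul_ne_zero hK hr hrp) r {X ^ r - C z} (by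
      intro f hf
      rw [Finset.mem_singleton.1 hf]
      exact ⟨f_mem hr z hz hirr, cdual_f hσ hσ2 hr z hz hirr, natDegree_X_pow_sub_C⟩)
    (finrank K V) H A rfl hA (pow_M_eq_one A z hz hAr) (by
      intro f hf hfk
      rw [Finset.mem_singleton]
      have hd := dvd_of_kdim_ne_zero A (X ^ r - C z) f (aeval_f A z hAr)
        (irrFactors_irreducible hf) hfk
      exact Polynomial.eq_of_monic_of_associated (irrFactors_monic hf) (f_monic hr z)
        ((irrFactors_irreducible hf).associated_of_dvd hirr hd))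
  rw [Finset.card_singleton] at hJ₁
  apply hfix t
  have e : r * (2 * J₁ + 1) = 2 * (r * J₁) + r := by ring
  rw [e] at hJ₁
  by_contra hlt
  push Not at hlt
  have h1 : r * (J₁ + 1) ≤ r * t := Nat.mul_le_mul_left r hlt
  have e2 : r * (J₁ + 1) = r * J₁ + r := by ring
  have := hr.pos
  omega

end suff

section main
variable {F : Type*} {K : Type u} [Field F] [Field K] [Fintype K] [Algebra F K]
  [FiniteDimensional F K] {p : ℕ} [Fact p.Prime] [CharP K p] {r q : ℕ} {σ : K →ₐ[F] K}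

/-- sufficiency when `r` does not divide `q + 1` -/
theorem odd_suff_coprime_T (hK : Fintype.card K = q ^ 2) (hσ : ∀ x, σ x = x ^ q)
    (hσ2 : ∀ x, σ (σ x) = x) (hσ1 : ∃ c, σ c ≠ c) (hr : r.Prime) (hr2 : r ≠ 2) (hrp : r ≠ p)
    (i b c : ℕ) (hi : i = orderOf (q : ZMod r)) (hb : b = if Even i then i / 2 else i)
    (hc : c = if i % 4 = 0 then i else if i % 4 = 2 then i / 2 else 2 * i)
    (hcop : ¬ r ∣ q + 1) (n m : ℕ) (hn : 0 < n) (hmn : 2 * m ≤ n)
    (hcond : 2 * (m % b) ≤ n % c)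
    (hsd : i % 4 = 2 → (r - 1) / b + 2 * (m / b) ≤ n / b)
    (g : Matrix (Fin n) (Fin n) K) (hg : Pres q g) (z : K) (hgz : g ^ r = z • 1) :
    FixT (Cfsg.hermForm n K q) (Matrix.toLin' g) m := by
  have hq := q_pos hK
  have hz := norm_of_pow_scalar (by omega) hn hg r z hgz
  obtain ⟨w, hw, hwn⟩ := exists_root_coprime r ((Nat.Prime.coprime_iff_not_dvd hr).2 hcop)
    (by omega) z hz
  apply fixT_of_root hK hσ hσ2 hσ1 hr hr2 hrp i b c hi hb hc _ (uinv_toLin' hσ hσ2 g hg) z w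
    (toLin'_pow_scalar g r z hgz) hw hwn m
  · rw [finrank_fin_fun']
    exact hmn
  · rw [finrank_fin_fun']
    exact hcond
  · rw [finrank_fin_fun']
    exact hsd

/-- sufficiency when `r` divides `q + 1` -/
theorem odd_suff_dvd_T (hK : Fintype.card K = q ^ 2) (hσ : ∀ x, σ x = x ^ q)
    (hσ2 : ∀ x, σ (σ x) = x) (hσ1 : ∃ c, σ c ≠ c) (hr : r.Prime) (hr2 : r ≠ 2) (hrp : r ≠ p)
    (hrq : r ∣ q + 1) (n m : ℕ) (hn : 0 < n) (hmn : 2 * m ≤ n)
    (hcond1 : r - 1 + 2 * m ≤ n)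
    (hcond : r ∣ m ∨ padicValNat r n ≤ padicValNat r (q + 1))
    (g : Matrix (Fin n) (Fin n) K) (hg : Pres q g) (hdet : g.det = 1) (z : K)
    (hgz : g ^ r = z • 1) : FixT (Cfsg.hermForm n K q) (Matrix.toLin' g) m := by
  have hq := q_pos hK
  have hz := norm_of_pow_scalar (by omega) hn hg r z hgz
  have hA := uinv_toLin' hσ hσ2 g hg
  have hAr := toLin'_pow_scalar g r z hgz
  have hz0 : z ≠ 0 := by
    rintro rfl
    rw [zero_pow (by omega)] at hz
    exact zero_ne_one hz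
  by_cases hirr : Irreducible (X ^ r - C z : K[X])
  · obtain ⟨hrn, -⟩ := irr_struct hK hσ hσ2 hσ1 hr hrp _ hA z hz hirr hAr
    rw [finrank_fin_fun'] at hrn
    rcases hcond with hrm | hv
    · obtain ⟨t, rfl⟩ := hrm
      apply irr_struct_T hK hσ hσ2 hσ1 hr hrp _ hA z hz hirr hAr t
      rw [finrank_fin_fun']
      exact hmn
    · exfalso
      have hdet' := det_of_irr hr hr2 g z hrn (charpoly_of_irr hr g z hirr hgz)
      rw [hdet] at hdet'
      have h1 := pow_div_eq_one r hr (q + 1) n (by omega) hn hrq hrn hv z hz hdet'.symm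
      obtain ⟨w, hw⟩ := exists_root_of_pow_div hK r hr.pos hrq z hz0 h1
      exact (X_pow_sub_C_irreducible_iff_of_prime hr).1 hirr w hw
  · rw [X_pow_sub_C_irreducible_iff_of_prime hr] at hirr
    push Not at hirr
    obtain ⟨b, hb⟩ := hirr
    have hbn := norm_root hK r hr hr2 hrq b z hb hz
    have hi2 : orderOf (q : ZMod r) = 2 := (orderOf_eq_two_iff hr hr2).2 hrq
    apply fixT_of_root hK hσ hσ2 hσ1 hr hr2 hrp (orderOf (q : ZMod r)) 1 1 rfl
      (by rw [hi2]; norm_num) (by rw [hi2]; norm_num) _ hA z b hAr hb hbn m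
    · rw [finrank_fin_fun']
      exact hmn
    · rw [Nat.mod_one, Nat.mod_one]
    · intro _
      rw [finrank_fin_fun', Nat.div_one, Nat.div_one, Nat.div_one]
      exact hcond1

/-- the criterion for odd primes different from the characteristic -/
theorem odd_main_T (hK : Fintype.card K = q ^ 2) (hσ : ∀ x, σ x = x ^ q)
    (hσ2 : ∀ x, σ (σ x) = x) (hσ1 : ∃ c, σ c ≠ c) (hr : r.Prime) (hr2 : r ≠ 2) (hrp : r ≠ p)
    (i b c : ℕ) (hi : i = orderOf (q : ZMod r)) (hb : b = if Even i then i / 2 else i)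
    (hc : c = if i % 4 = 0 then i else if i % 4 = 2 then i / 2 else 2 * i)
    (n m : ℕ) (hn : 3 ≤ n) (hm : 1 ≤ m) (hmn : 2 * m ≤ n) (hcn : c ≤ n) (hcm : n % c < 2 * m) :
    (∀ g : Matrix (Fin n) (Fin n) K, Pres q g → g.det = 1 → (∃ z : K, g ^ r = z • 1) →
      (∀ z : K, g ≠ z • 1) → FixT (Cfsg.hermForm n K q) (Matrix.toLin' g) m) ↔
    (b ≤ m ∧ 2 * (m % b) ≤ n % c ∧
       (i % 4 ≠ 2 ∨ (i % 4 = 2 ∧ (r - 1) / b + 2 * (m / b) ≤ n / b ∧
         (2 < i ∨ (i = 2 ∧ (r ∣ m ∨ padicValNat r n ≤ padicValNat r (q + 1))))))) := by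
  have hn0 : 0 < n := by omega
  have hb0 := b_pos hK hr hrp i b hi hb
  have hi2 : i = 2 ↔ r ∣ q + 1 := by
    rw [hi]
    exact orderOf_eq_two_iff hr hr2
  by_cases hdvd : r ∣ q + 1
  · have hi2' : i = 2 := hi2.2 hdvd
    have hb1 : b = 1 := by
      rw [hb, hi2']
      norm_num
    have hc1 : c = 1 := by
      rw [hc, hi2']
      norm_num
    constructor
    · intro hall
      refine ⟨by omega, by rw [hb1, hc1, Nat.mod_one, Nat.mod_one], Or.inr ⟨by omega, ?_, Or.inr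
        ⟨hi2', odd_nec_dvd_T hK hσ hσ2 hσ1 hr hr2 hrp hdvd n m hn0 hall⟩⟩⟩
      rw [hb1, Nat.div_one, Nat.div_one, Nat.div_one]
      apply nec_sd2_T hK hσ hσ2 hσ1 hr hr2 hrp hdvd n m hn hm hmn
      intro g hg hdet hgr hns
      exact hall g hg hdet ⟨1, by rw [hgr, one_smul]⟩ hns
    · rintro ⟨-, -, h | ⟨-, h1, h2⟩⟩
      · omega
      · rcases h2 with h2 | ⟨-, h2⟩
        · omega
        · rw [hb1, Nat.div_one, Nat.div_one, Nat.div_one] at h1
          intro g hg hdet ⟨z, hgz⟩ _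
          exact odd_suff_dvd_T hK hσ hσ2 hσ1 hr hr2 hrp hdvd n m hn0 hmn h1 h2 g hg hdet z hgz
  · have hi2' : i ≠ 2 := fun h => hdvd (hi2.1 h)
    constructor
    · intro hall
      have hall' : ∀ g : Matrix (Fin n) (Fin n) K, Pres q g → g.det = 1 → g ^ r = 1 →
          (∀ z : K, g ≠ z • 1) → FixT (Cfsg.hermForm n K q) (Matrix.toLin' g) m := by
        intro g hg hdet hgr hns
        exact hall g hg hdet ⟨1, by rw [hgr, one_smul]⟩ hns
      have h1 := nec_fix_T hK hσ hσ2 hσ1 hr hr2 hrp i b c hi hb hc hdvd n m hn0 hcn hall'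
      have hbm : b ≤ m := by
        by_contra hlt
        push Not at hlt
        rw [Nat.mod_eq_of_lt hlt] at h1
        omega
      refine ⟨hbm, h1, ?_⟩
      by_cases h4 : i % 4 = 2
      · refine Or.inr ⟨h4, ?_, Or.inl (by omega)⟩
        exact nec_sd_T hK hσ hσ2 hσ1 hr hrp i b hi hb h4 hdvd n m hn0 hbm hmn hall'
      · exact Or.inl h4
    · rintro ⟨-, h1, h2⟩ g hg _ ⟨z, hgz⟩ _
      apply odd_suff_coprime_T hK hσ hσ2 hσ1 hr hr2 hrp i b c hi hb hc hdvd n m hn0 hmn h1 _ g hg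
        z hgz
      intro h4
      rcases h2 with h2 | ⟨-, h2, -⟩
      · exact absurd h4 h2
      · exact h2

end main

end Cfsg.Agent.Helper13.SuTi
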