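import Mathlib
import Cfsg.Agent.Lib.Helper13.SuTi8
import Cfsg.Agent.Lib.Helper13.SuNd13

set_option autoImplicit false
set_option linter.unusedSectionVars false

/-!
# Totally isotropic invariant subspaces: unitary matrices with scalar square, odd characteristic
-/

namespace Cfsg.Agent.Helper13.SuTi

open Polynomial Module Cfsg.Agent.Helper13.Uni Cfsg.Agent.Helper13.SS
  Cfsg.Agent.Helper13.HermSS Cfsg.Agent.Helper13.SuNd Cfsg.Agent.Helper13.SympSS
  Cfsg.Agent.Helper13.Dual
open scoped Classical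

universe u

section scalar
variable {F K : Type*} [Field F] [Field K] [Algebra F K] [FiniteDimensional F K] [Fintype K]
variable {V : Type u} [AddCommGroup V] [Module F V] [Module K V] [IsScalarTower F K V]
  [FiniteDimensional K V]
variable {σ : K →ₐ[F] K} {H : V → V → K}

/-- totally isotropic subspaces of a space on which the isometry is a scalar -/
theorem fixT_of_scalar (hσ2 : ∀ x, σ (σ x) = x) (hσ1 : ∃ c, σ c ≠ c) (A : Module.End K V)
    (hA : UInv σ A H) (w : K) (hw : w * σ w = 1) (hAw : ∀ v, A v = w • v) (k : ℕ)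
    (hk : 2 * k ≤ finrank K V) : FixT H A k := by
  have hw0 : w ≠ 0 := by
    rintro rfl
    rw [zero_mul] at hw
    exact zero_ne_one hw
  have hwσ : w⁻¹ * σ w⁻¹ = 1 := by
    rw [map_inv₀, ← mul_inv, hw, inv_one]
  have hA' : UInv σ (w⁻¹ • A) H := uinv_smul hA w⁻¹ hwσ
  have hid : ∀ v, (w⁻¹ • A) v = v := by
    intro v
    rw [LinearMap.smul_apply, hAw, smul_smul, inv_mul_cancel₀ hw0, one_smul]
  have := fixT_of_id hσ2 hσ1 _ hA' hid k hk
  exact (fixT_smul_iff A w⁻¹ (inv_ne_zero hw0) k).1 this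

end scalar

section kd
variable {K : Type*} [Field K] {V : Type*} [AddCommGroup V] [Module K V] [FiniteDimensional K V]

/-- kernel dimensions from a factorisation of the characteristic polynomial -/
theorem kdim_of_charpoly_eq' (S : Finset K[X]) (hirr : ∀ f ∈ S, Irreducible f)
    (hmon : ∀ f ∈ S, f.Monic) (A : Module.End K V) (hkill : aeval A (∏ f ∈ S, f) = 0)
    (e : K[X] → ℕ) (hc : A.charpoly = ∏ f ∈ S, f ^ e f) :
    ∀ f ∈ S, kdim A f = f.natDegree * e f := by
  have h1 := charpoly_eq_prod S hirr hmon A hkill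
  rw [hc] at h1
  have h2 := exponents_unique S hirr (pairwise_coprime_of_monic_irreducible S hirr hmon) _ _ h1
  intro f hf
  have h3 := h2 f hf
  have h4 := dvd_kdim A f (hirr f hf)
  rw [h3, Nat.mul_div_cancel' h4]

end kd

section two
variable {F : Type*} {K : Type*} [Field F] [Field K] [Fintype K] [Algebra F K]
  [FiniteDimensional F K] {p : ℕ} [Fact p.Prime] [CharP K p] {q : ℕ} {σ : K →ₐ[F] K}
variable {V : Type u} [AddCommGroup V] [Module F V] [Module K V] [IsScalarTower F K V]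
  [FiniteDimensional K V] {H : V → V → K}

theorem lin_ne (hp2 : p ≠ 2) (l : K) (hl0 : l ≠ 0) : (X - C l : K[X]) ≠ X - C (-l) := by
  have h2 : (2 : K) ≠ 0 := two_ne_zero_of_char (p := p) hp2
  intro h3
  have h4 : C l = C (-l) := by
    have := congrArg (fun P : K[X] => X - P) h3
    simpa using this
  have h5 : l = -l := C_injective h4
  have h6 : 2 * l = 0 := by linear_combination h5
  rcases mul_eq_zero.1 h6 with h7 | h7
  · exact h2 h7
  · exact hl0 h7

/-- the nonsplit case -/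
theorem two_pair_T (hK : Fintype.card K = q ^ 2) (hσ : ∀ x, σ x = x ^ q)
    (hσ2 : ∀ x, σ (σ x) = x) (hσ1 : ∃ c, σ c ≠ c) (hp2 : p ≠ 2)
    (A : Module.End K V) (hA : UInv σ A H) (l : K) (hl : l ^ (q + 1) = -1)
    (hA2 : A ^ 2 = (l * l) • 1) (m : ℕ) (hm : 2 * m ≤ finrank K V) : FixT H A m := by
  have hq2 := odd_q hK hp2
  have hM : 1 ≤ 2 * (q + 1) := by omega
  have hll : (l * l) ^ (q + 1) = 1 := by
    rw [mul_pow, hl]
    ring
  have key : ∀ a : K, a ^ (q + 1) = -1 →
      cdual (2 * (q + 1)) (σ : K →+* K) (X - C a) ≠ X - C a ∧ (X - C a : K[X]).natDegree = 1 := by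
    intro a ha
    have ha0 : a ≠ 0 := by
      rintro rfl
      rw [zero_pow (by omega)] at ha
      have : (1 : K) = 0 := by linear_combination ha
      exact one_ne_zero this
    have h1 := cdual_lin hσ hσ2 a (-1) (by ring) ha
    rw [neg_one_mul] at h1
    refine ⟨?_, natDegree_X_sub_C a⟩
    rw [h1]
    exact (lin_ne hp2 a ha0).symm
  have h := thmPair hσ2 hσ1 hM (cast_mul_ne_zero hK Nat.prime_two (Ne.symm hp2)) 1
    (finrank K V) H A rfl hA (pow_M2 A l hll hA2) (by
      intro f hf hfk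
      have hd := dvd_of_kdim_ne_zero A _ f (two_kill A l hA2) (irrFactors_irreducible hf) hfk
      rcases two_factor l f (irrFactors_irreducible hf) (irrFactors_monic hf) hd with rfl | rfl
      · exact key l hl
      · exact key (-l) (by rw [neg_pow_even hq2]; exact hl)) m (by omega)
  rwa [one_mul] at h

/-- the split case -/
theorem two_split_T (hK : Fintype.card K = q ^ 2) (hσ : ∀ x, σ x = x ^ q)
    (hσ2 : ∀ x, σ (σ x) = x) (hσ1 : ∃ c, σ c ≠ c) (hp2 : p ≠ 2)
    (A : Module.End K V) (hA : UInv σ A H) (l : K) (hl : l ^ (q + 1) = 1)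
    (hA2 : A ^ 2 = (l * l) • 1) (m : ℕ)
    (hm : m ≤ kdim A (X - C l) / 2 + (finrank K V - kdim A (X - C l)) / 2) : FixT H A m := by
  have hM : 1 ≤ 2 * (q + 1) := by omega
  have hMK := cast_mul_ne_zero (K := K) hK Nat.prime_two (Ne.symm hp2)
  have hll : (l * l) ^ (q + 1) = 1 := by rw [mul_pow, hl, one_mul]
  have hAM := pow_M2 A l hll hA2
  have hlM : l ^ (2 * (q + 1)) = 1 := by
    rw [mul_comm, pow_mul, hl, one_pow]
  have hmem := lin_mem l _ hM hlM
  have hcd : cdual (2 * (q + 1)) (σ : K →+* K) (X - C l) = X - C l := by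
    have := cdual_lin hσ hσ2 l 1 (one_mul 1) hl
    rwa [one_mul] at this
  set V₁ := LinearMap.ker (aeval A (X - C l : K[X])) with hV₁
  have hV₁nd : NdOn H V₁ := by
    have := ndOn_ker_cblock hσ2 hσ1 hM hMK hAM hA hmem
    unfold cblockPoly at this
    rwa [if_pos hcd] at this
  have hV₁inv : ∀ v ∈ V₁, A v ∈ V₁ := ker_invariant A _
  have hCinv := orth_inv hA V₁ hV₁inv
  have hCnd := ndOn_orth hσ2 hσ1 hA.sesq V₁ hV₁nd
  have hfinC := finrank_orth hσ2 hσ1 hA.sesq V₁ hV₁nd
  have hc' := isCompl_orth' hσ2 hσ1 hA.sesq V₁ hV₁nd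
  have hA₁ := uinv_restrict hA V₁ hV₁nd hV₁inv
  have hA' := uinv_restrict hA _ hCnd hCinv
  have hlσ : l * σ l = 1 := by
    rw [hσ, ← pow_succ']
    exact hl
  have hnlσ : (-l) * σ (-l) = 1 := by
    rw [map_neg, neg_mul_neg]
    exact hlσ
  have hmemV₁ : ∀ v : V, v ∈ V₁ ↔ A v = l • v := by
    intro v
    rw [hV₁, LinearMap.mem_ker, map_sub, aeval_X, aeval_C, LinearMap.sub_apply,
      Algebra.algebraMap_eq_smul_one, LinearMap.smul_apply, Module.End.one_apply, sub_eq_zero]
  have hact₁ : ∀ v : V₁, A.restrict hV₁inv v = l • v := by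
    intro v
    apply Subtype.ext
    exact (hmemV₁ v).1 v.2
  have hact₂ : ∀ v : ↥(orth hA.sesq V₁), A.restrict hCinv v = (-l) • v := by
    intro v
    apply Subtype.ext
    show A (v : V) = (-l) • (v : V)
    have h2 : A (A (v : V)) = (l * l) • (v : V) := by
      have := congrArg (fun B : Module.End K V => B (v : V)) hA2
      simpa [pow_two] using this
    have h1 : A (v : V) + l • (v : V) ∈ V₁ := by
      rw [hmemV₁, map_add, map_smul, h2, smul_add, smul_smul]
      abel
    have h3 : A (v : V) + l • (v : V) ∈ orth hA.sesq V₁ :=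
      Submodule.add_mem _ (hCinv v v.2) (Submodule.smul_mem _ l v.2)
    have h4 : A (v : V) + l • (v : V) ∈ V₁ ⊓ orth hA.sesq V₁ := ⟨h1, h3⟩
    rw [hc'.inf_eq_bot, Submodule.mem_bot] at h4
    rw [neg_smul]
    exact eq_neg_of_add_eq_zero_left h4
  have he₀ : finrank K V₁ = kdim A (X - C l) := rfl
  obtain ⟨k₁, hk₁⟩ : ∃ k₁, k₁ = min m (kdim A (X - C l) / 2) := ⟨_, rfl⟩
  have h₁ : FixT (resH H V₁) (A.restrict hV₁inv) k₁ :=
    fixT_of_scalar hσ2 hσ1 _ hA₁ l hlσ hact₁ k₁ (by
      rw [he₀]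
      have := min_le_right m (kdim A (X - C l) / 2)
      omega)
  have h₂ : FixT (resH H (orth hA.sesq V₁)) (A.restrict hCinv) (m - k₁) :=
    fixT_of_scalar hσ2 hσ1 _ hA' (-l) hnlσ hact₂ (m - k₁) (by
      rcases le_total m (kdim A (X - C l) / 2) with h | h
      · rw [hk₁, min_eq_left h]
        omega
      · rw [hk₁, min_eq_right h]
        omega)
  have := FixT.add_block A hA V₁ hV₁nd hV₁inv _ _ h₁ h₂
  have e : k₁ + (m - k₁) = m := by
    have := min_le_left m (kdim A (X - C l) / 2)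
    omega
  rwa [e] at this

end two

end Cfsg.Agent.Helper13.SuTi
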