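import Mathlib
import Cfsg.Agent.Lib.Helper13.SuTi9
import Cfsg.Agent.Lib.Helper13.FieldNorm6

set_option autoImplicit false
set_option linter.unusedSectionVars false

/-!
# Totally isotropic invariant subspaces: the criterion for the prime two
-/

namespace Cfsg.Agent.Helper13.SuTi

open Polynomial Module Cfsg.Agent.Helper13.Uni Cfsg.Agent.Helper13.SS
  Cfsg.Agent.Helper13.HermSS Cfsg.Agent.Helper13.SuNd Cfsg.Agent.Helper13.SympSS
  Cfsg.Agent.Helper13.Dual
open scoped Classical

universe u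

section diag
variable {K : Type*} [Field K] {q n : ℕ}

theorem pres_diagonal (d : Fin n → K) (hd : ∀ i, d i ^ (q + 1) = 1) :
    Pres q (Matrix.diagonal d) := by
  intro u v
  unfold Cfsg.hermForm
  apply Finset.sum_congr rfl
  intro i _
  rw [Matrix.mulVec_diagonal, Matrix.mulVec_diagonal, mul_pow]
  have : d i * u i * (d i ^ q * v i ^ q) = d i ^ (q + 1) * (u i * v i ^ q) := by
    rw [pow_succ]
    ring
  rw [this, hd, one_mul]

end diag

section field
variable {K : Type*} [Field K] [Fintype K] {q : ℕ}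

/-- an element of norm one whose `n`-th power is `-1` -/
theorem exists_l_neg (hK : Fintype.card K = q ^ 2) (n : ℕ) (hn : 0 < n)
    (hv : padicValNat 2 n < padicValNat 2 (q + 1)) :
    ∃ l : K, l ^ (q + 1) = 1 ∧ l ^ n = -1 := by
  haveI : Fact (Nat.Prime 2) := ⟨Nat.prime_two⟩
  have hq := q_pos hK
  obtain ⟨d, hd⟩ : ∃ d, d = padicValNat 2 n := ⟨_, rfl⟩
  rw [← hd] at hv
  obtain ⟨n', hn'odd, hn'⟩ := Cfsg.Agent.Helper13.FN.two_pow_odd_of_pos n hn
  rw [← hd] at hn'
  obtain ⟨s, hs⟩ : 2 ^ (d + 1) ∣ q + 1 := dvd_trans (pow_dvd_pow 2 hv) pow_padicValNat_dvd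
  have hs0 : 0 < s := by
    rcases Nat.eq_zero_or_pos s with h | h
    · rw [h, mul_zero] at hs
      omega
    · exact h
  obtain ⟨γ, hγ0, hγ, -⟩ := exists_gen hK
  have hN : q ^ 2 - 1 = 2 ^ (d + 1) * (s * (q - 1)) := by
    rw [sq_sub_one_eq (by omega), hs]
    ring
  have hpos : 0 < s * (q - 1) := Nat.mul_pos hs0 (by omega)
  set l : K := γ ^ (s * (q - 1)) with hl
  have hl1 : l ^ (2 ^ (d + 1)) = 1 := by
    rw [hl, ← pow_mul, mul_comm, ← hN, ← hγ]
    exact pow_orderOf_eq_one γ
  have hl2 : l ^ (2 ^ d) = -1 := by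
    have h1 : l ^ (2 ^ d) * l ^ (2 ^ d) = 1 := by
      rw [← pow_add, ← two_mul, ← pow_succ']
      exact hl1
    rcases mul_self_eq_one_iff.1 h1 with h3 | h3
    · exfalso
      rw [hl, ← pow_mul] at h3
      have hlt : s * (q - 1) * 2 ^ d < orderOf γ := by
        rw [hγ, hN, pow_succ]
        have : 0 < 2 ^ d := pow_pos (by norm_num) d
        nlinarith
      exact pow_ne_one_of_lt_orderOf (Nat.mul_pos hpos (pow_pos (by norm_num) d)).ne' hlt h3
    · exact h3
  refine ⟨l, ?_, ?_⟩
  · rw [hs, pow_mul, hl1, one_pow]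
  · rw [hn', pow_mul, hl2, hn'odd.neg_one_pow]

end field

section main
variable {F : Type*} {K : Type u} [Field F] [Field K] [Fintype K] [Algebra F K]
  [FiniteDimensional F K] {p : ℕ} [Fact p.Prime] [CharP K p] {q : ℕ} {σ : K →ₐ[F] K}

/-- the determinant in the split case -/
theorem two_det_split (hp2 : p ≠ 2) {n : ℕ} (g : Matrix (Fin n) (Fin n) K) (l : K) (hl0 : l ≠ 0)
    (hgz : g ^ 2 = (l * l) • 1) :
    g.det = (-1) ^ (n + kdim (Matrix.toLin' g) (X - C l)) * l ^ n := by
  set A := Matrix.toLin' g with hA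
  have hA2 := toLin'_pow_scalar g 2 (l * l) hgz
  have hne := lin_ne hp2 l hl0
  have hcop : IsCoprime (X - C l : K[X]) (X - C (-l)) :=
    coprime_of_monic_irreducible' (irreducible_X_sub_C l) (irreducible_X_sub_C (-l))
      (monic_X_sub_C l) (monic_X_sub_C (-l)) hne
  have h3 := kdim_mul A hcop
  have h4 : kdim A ((X - C l) * (X - C (-l))) = n := by
    unfold kdim
    rw [two_kill A l hA2, LinearMap.ker_zero, finrank_top, finrank_fin_fun']
  have hkill : aeval A (∏ f ∈ ({X - C l, X - C (-l)} : Finset K[X]), f) = 0 := by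
    rw [Finset.prod_pair hne]
    exact two_kill A l hA2
  have h1 := charpoly_eq_prod ({X - C l, X - C (-l)} : Finset K[X])
    (fun f hf => by
      rcases Finset.mem_insert.1 hf with rfl | hf
      · exact irreducible_X_sub_C l
      · rw [Finset.mem_singleton.1 hf]
        exact irreducible_X_sub_C (-l))
    (fun f hf => by
      rcases Finset.mem_insert.1 hf with rfl | hf
      · exact monic_X_sub_C l
      · rw [Finset.mem_singleton.1 hf]
        exact monic_X_sub_C (-l)) A hkill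
  rw [Finset.prod_pair hne, natDegree_X_sub_C, natDegree_X_sub_C, Nat.div_one, Nat.div_one,
    hA, Matrix.charpoly_toLin'] at h1
  rw [det_of_charpoly, h1, coeff_zero_eq_eval_zero, eval_mul, eval_pow, eval_pow, eval_sub,
    eval_sub, eval_X, eval_C, eval_C, zero_sub, zero_sub, neg_neg, neg_pow l, pow_add]
  have e : kdim (Matrix.toLin' g) (X - C l) + kdim (Matrix.toLin' g) (X - C (-l)) = n :=
    h3.symm.trans h4
  obtain ⟨a, ha⟩ : ∃ a, a = kdim (Matrix.toLin' g) (X - C l) := ⟨_, rfl⟩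
  obtain ⟨a', ha'⟩ : ∃ a', a' = kdim (Matrix.toLin' g) (X - C (-l)) := ⟨_, rfl⟩
  rw [← ha, ← ha'] at e
  rw [← ha, ← ha']
  have hln : l ^ n = l ^ a * l ^ a' := by rw [← pow_add, e]
  rw [hln]
  ring

/-- sufficiency -/
theorem two_suff_T (hK : Fintype.card K = q ^ 2) (hσ : ∀ x, σ x = x ^ q)
    (hσ2 : ∀ x, σ (σ x) = x) (hσ1 : ∃ c, σ c ≠ c) (hp2 : p ≠ 2) (n m : ℕ) (hn : 0 < n)
    (hmn : 2 * m ≤ n)
    (hcond : 2 * m < n ∨ padicValNat 2 (q + 1) ≤ padicValNat 2 n)
    (g : Matrix (Fin n) (Fin n) K) (hg : Pres q g) (hdet : g.det = 1) (z : K)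
    (hgz : g ^ 2 = z • 1) : FixT (Cfsg.hermForm n K q) (Matrix.toLin' g) m := by
  haveI : Fact (Nat.Prime 2) := ⟨Nat.prime_two⟩
  have hq := q_pos hK
  have hq2 := odd_q hK hp2
  have h2 : (2 : K) ≠ 0 := two_ne_zero_of_char (p := p) hp2
  have hz := norm_of_pow_scalar (by omega) hn hg 2 z hgz
  obtain ⟨l, hl⟩ := exists_sqrt hK hq2 z hz
  rw [← hl] at hgz hz
  have hA := uinv_toLin' hσ hσ2 g hg
  have hA2 := toLin'_pow_scalar g 2 (l * l) hgz
  have hsq : l ^ (q + 1) * l ^ (q + 1) = 1 := by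
    rw [← mul_pow]
    exact hz
  rcases mul_self_eq_one_iff.1 hsq with h1 | h1
  · have hl0 : l ≠ 0 := by
      rintro rfl
      rw [zero_pow (by omega)] at h1
      exact zero_ne_one h1
    apply two_split_T hK hσ hσ2 hσ1 hp2 _ hA l h1 hA2 m
    rw [finrank_fin_fun']
    have ha : kdim (Matrix.toLin' g) (X - C l) ≤ n := by
      have := Submodule.finrank_le (LinearMap.ker (aeval (Matrix.toLin' g) (X - C l : K[X])))
      rw [finrank_fin_fun'] at this
      exact this
    by_cases hlt : 2 * m < n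
    · omega
    · have hv : padicValNat 2 (q + 1) ≤ padicValNat 2 n := by
        rcases hcond with h | h
        · exact absurd h hlt
        · exact h
      have hn2 : n = 2 * m := by omega
      have hae : Even (kdim (Matrix.toLin' g) (X - C l)) := by
        by_contra hodd
        rw [Nat.not_even_iff_odd] at hodd
        have hd := two_det_split hp2 g l hl0 hgz
        rw [hdet] at hd
        have hodd' : Odd (n + kdim (Matrix.toLin' g) (X - C l)) := by
          obtain ⟨j, hj⟩ := hodd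
          exact ⟨m + j, by omega⟩
        rw [hodd'.neg_one_pow] at hd
        have hln : l ^ n = -1 := by linear_combination hd
        obtain ⟨s, hsodd, hs⟩ := Cfsg.Agent.Helper13.FN.two_pow_odd_of_pos (q + 1)
          (by omega)
        obtain ⟨n', hn'⟩ : 2 ^ padicValNat 2 (q + 1) ∣ n :=
          dvd_trans (pow_dvd_pow 2 hv) pow_padicValNat_dvd
        have h5 : (l ^ n) ^ s = 1 := by
          rw [hn', ← pow_mul]
          have : 2 ^ padicValNat 2 (q + 1) * n' * s = (q + 1) * n' := by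
            conv_rhs => rw [hs]
            ring
          rw [this, pow_mul, h1, one_pow]
        rw [hln, hsodd.neg_one_pow] at h5
        apply h2
        linear_combination -h5
      obtain ⟨j, hj⟩ := hae
      omega
  · apply two_pair_T hK hσ hσ2 hσ1 hp2 _ hA l h1 hA2 m
    rw [finrank_fin_fun']
    exact hmn

/-- necessity -/
theorem two_nec_T (hK : Fintype.card K = q ^ 2) (hσ : ∀ x, σ x = x ^ q)
    (hσ2 : ∀ x, σ (σ x) = x) (hσ1 : ∃ c, σ c ≠ c) (hp2 : p ≠ 2) (n m : ℕ) (hn : 3 ≤ n)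
    (hm : 1 ≤ m) (hmn : 2 * m ≤ n)
    (hall : ∀ g : Matrix (Fin n) (Fin n) K, Pres q g → g.det = 1 → (∃ z : K, g ^ 2 = z • 1) →
      (∀ z : K, g ≠ z • 1) → FixT (Cfsg.hermForm n K q) (Matrix.toLin' g) m) :
    2 * m < n ∨ padicValNat 2 (q + 1) ≤ padicValNat 2 n := by
  have hq := q_pos hK
  have hq2 := odd_q hK hp2
  have h2 : (2 : K) ≠ 0 := two_ne_zero_of_char (p := p) hp2
  by_contra hcon
  push Not at hcon
  obtain ⟨hn2, hv⟩ := hcon
  have hn2' : n = 2 * m := by omega
  obtain ⟨l, hl, hln⟩ := exists_l_neg hK n (by omega) hv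
  have hl0 : l ≠ 0 := by
    rintro rfl
    rw [zero_pow (by omega)] at hl
    exact zero_ne_one hl
  obtain ⟨n', rfl⟩ : ∃ n', n = n' + 1 := ⟨n - 1, by omega⟩
  have hn'odd : Odd n' := ⟨m - 1, by omega⟩
  set d : Fin (n' + 1) → K := Fin.cons l (fun _ => -l) with hd
  have hd0 : d 0 = l := Fin.cons_zero _ _
  have hds : ∀ i : Fin n', d i.succ = -l := fun i => Fin.cons_succ _ _ i
  have hnl : (-l) ^ (q + 1) = 1 := by rw [neg_pow_even hq2]; exact hl
  have hdn : ∀ i, d i ^ (q + 1) = 1 := by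
    intro i
    refine Fin.cases ?_ (fun j => ?_) i
    · rw [hd0]
      exact hl
    · rw [hds]
      exact hnl
  have hdd : ∀ i, d i * d i = l * l := by
    intro i
    refine Fin.cases ?_ (fun j => ?_) i
    · rw [hd0]
    · rw [hds, neg_mul_neg]
  set g : Matrix (Fin (n' + 1)) (Fin (n' + 1)) K := Matrix.diagonal d with hg
  have hgP : Pres q g := pres_diagonal d hdn
  have hgz : g ^ 2 = (l * l) • 1 := by
    rw [hg, pow_two, Matrix.diagonal_mul_diagonal, Matrix.smul_one_eq_diagonal]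
    congr 1
    funext i
    exact hdd i
  have hdet : g.det = 1 := by
    rw [hg, Matrix.det_diagonal, Fin.prod_univ_succ, hd0, Finset.prod_congr rfl (fun i _ => hds i),
      Finset.prod_const, Finset.card_univ, Fintype.card_fin, neg_pow l, hn'odd.neg_one_pow]
    have : l * (-1 * l ^ n') = -(l ^ (n' + 1)) := by
      rw [pow_succ]
      ring
    rw [this, hln, neg_neg]
  have hns : ∀ z : K, g ≠ z • 1 := by
    intro z hz
    have h0 := congrFun (congrFun hz 0) 0
    have h1 := congrFun (congrFun hz (Fin.succ ⟨0, by omega⟩)) (Fin.succ ⟨0, by omega⟩)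
    rw [hg, Matrix.diagonal_apply_eq, Matrix.smul_apply, Matrix.one_apply_eq, smul_eq_mul,
      mul_one] at h0 h1
    rw [hd0] at h0
    rw [hds] at h1
    have : 2 * l = 0 := by linear_combination h0 - h1
    rcases mul_eq_zero.1 this with h | h
    · exact h2 h
    · exact hl0 h
  obtain ⟨W, hWm, hWti, hWinv⟩ := hall g hgP hdet ⟨_, hgz⟩ hns
  set A := Matrix.toLin' g with hAdef
  have hA := uinv_toLin' hσ hσ2 g hgP
  have hA2 := toLin'_pow_scalar g 2 (l * l) hgz
  have hM : 1 ≤ 2 * (q + 1) := by omega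
  have hMK := cast_mul_ne_zero (K := K) hK Nat.prime_two (Ne.symm hp2)
  have hll : (l * l) ^ (q + 1) = 1 := by rw [mul_pow, hl, one_mul]
  have hAM := pow_M2 A l hll hA2
  have hlM : l ^ (2 * (q + 1)) = 1 := by
    rw [mul_comm, pow_mul, hl, one_pow]
  have hnlM : (-l) ^ (2 * (q + 1)) = 1 := by
    rw [mul_comm, pow_mul, hnl, one_pow]
  have hcd : cdual (2 * (q + 1)) (σ : K →+* K) (X - C l) = X - C l := by
    have := cdual_lin hσ hσ2 l 1 (one_mul 1) hl
    rwa [one_mul] at this
  have hcd' : cdual (2 * (q + 1)) (σ : K →+* K) (X - C (-l)) = X - C (-l) := by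
    have := cdual_lin hσ hσ2 (-l) 1 (one_mul 1) hnl
    rwa [one_mul] at this
  have hne := lin_ne hp2 l hl0
  set S : Finset K[X] := {X - C l, X - C (-l)} with hS
  have hirr : ∀ f ∈ S, Irreducible f := by
    intro f hf
    rcases Finset.mem_insert.1 hf with rfl | hf
    · exact irreducible_X_sub_C l
    · rw [Finset.mem_singleton.1 hf]
      exact irreducible_X_sub_C (-l)
  have hmon : ∀ f ∈ S, f.Monic := by
    intro f hf
    rcases Finset.mem_insert.1 hf with rfl | hf
    · exact monic_X_sub_C l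
    · rw [Finset.mem_singleton.1 hf]
      exact monic_X_sub_C (-l)
  have hkill : aeval A (∏ f ∈ S, f) = 0 := by
    rw [hS, Finset.prod_pair hne]
    exact two_kill A l hA2
  set e : K[X] → ℕ := fun f => if f = X - C l then 1 else n' with he
  have hc : A.charpoly = ∏ f ∈ S, f ^ e f := by
    rw [hAdef, Matrix.charpoly_toLin', hg, Matrix.charpoly_diagonal, Fin.prod_univ_succ, hd0,
      Finset.prod_congr rfl (fun i _ => by rw [hds i]), Finset.prod_const, Finset.card_univ,
      Fintype.card_fin, hS, Finset.prod_pair hne, he]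
    simp only [if_true]
    rw [if_neg hne.symm, pow_one]
  have hkd := kdim_of_charpoly_eq' S hirr hmon A hkill e hc
  have hk1 : kdim A (X - C l) = 1 := by
    rw [hkd _ (Finset.mem_insert_self _ _), he]
    simp only [if_true]
    rw [natDegree_X_sub_C]
  have hk2 : kdim A (X - C (-l)) = n' := by
    rw [hkd _ (Finset.mem_insert_of_mem (Finset.mem_singleton_self _)), he]
    simp only
    rw [if_neg hne.symm, natDegree_X_sub_C, one_mul]
  have hkill' : aeval (A.restrict hWinv) (∏ f ∈ S, f) = 0 :=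
    aeval_restrict_eq_zero A W hWinv _ (by rw [hkill, LinearMap.ker_zero]; exact le_top)
  have h5 := finrank_eq_sum_kdim (A.restrict hWinv) S
    (pairwise_coprime_of_monic_irreducible S hirr hmon) hkill'
  rw [hS, Finset.sum_pair hne, hWm] at h5
  have h6 := ti_selfdual_le hσ2 hσ1 hM hMK A hA hAM (lin_mem l _ hM hlM) hcd W hWinv hWti
  have h7 := ti_selfdual_le hσ2 hσ1 hM hMK A hA hAM (lin_mem (-l) _ hM hnlM) hcd' W hWinv hWti
  omega

end main

end Cfsg.Agent.Helper13.SuTi
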