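import Mathlib
import Cfsg.Agent.Lib.Helper11.UnitaryParabolic

set_option autoImplicit false
set_option linter.unusedSectionVars false

/-!
# The number of totally isotropic subspaces of a hermitian space: divisibility
-/

namespace Cfsg.Agent.Helper13.SuTi

open Cfsg.Agent.Helper11.Herm

section count
variable {F : Type*} [Field F] [Fintype F] {ι : Type*} [Fintype ι] [DecidableEq ι]
  (φ : F →+* F)

/-- totally isotropic subspaces of dimension `k` -/
def TIh (ι : Type*) [Fintype ι] [DecidableEq ι] (φ : F →+* F) (k : ℕ) : Type _ :=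
  {W : Submodule F (ι → F) // Module.finrank F W = k ∧ ∀ u ∈ W, ∀ v ∈ W, hdot φ u v = 0}

instance instFiniteTIh (k : ℕ) : Finite (TIh ι φ k) := by
  unfold TIh
  infer_instance

/-- the span of a frame -/
noncomputable def spanH (k : ℕ) (x : {x : Fin k → ι → F // IsFr φ k x}) : TIh ι φ k :=
  ⟨Submodule.span F (Set.range x.1), by rw [finrank_span_eq_card x.2.1, Fintype.card_fin],
    hdot_span_fr x.2⟩

/-- frames spanning a given subspace are its ordered bases -/
def spanHFiberEquiv (k : ℕ) (W : TIh ι φ k) :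
    {x : {x : Fin k → ι → F // IsFr φ k x} // spanH φ k x = W} ≃
      {y : Fin k → ι → F // LinearIndependent F y ∧ Submodule.span F (Set.range y) = W.1} where
  toFun x := ⟨x.1.1, x.1.2.1, congrArg Subtype.val x.2⟩
  invFun y := ⟨⟨y.1, y.2.1, fun i j => by
      obtain ⟨y, hy1, hy2⟩ := y
      have hi : y i ∈ Submodule.span F (Set.range y) := Submodule.subset_span ⟨i, rfl⟩
      have hj : y j ∈ Submodule.span F (Set.range y) := Submodule.subset_span ⟨j, rfl⟩
      rw [hy2] at hi hj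
      exact W.2.2 _ hi _ hj⟩, Subtype.ext y.2.2⟩
  left_inv x := rfl
  right_inv y := rfl

theorem card_frames_eq_h (k : ℕ) :
    Nat.card {x : Fin k → ι → F // IsFr φ k x} =
      Nat.card (TIh ι φ k) * ∏ i : Fin k, (Fintype.card F ^ k - Fintype.card F ^ (i : ℕ)) := by
  classical
  have : Fintype (TIh ι φ k) := Fintype.ofFinite _
  rw [Nat.card_congr (Equiv.sigmaFiberEquiv (spanH φ k)).symm, Nat.card_sigma]
  have h1 : ∀ W : TIh ι φ k, Nat.card {x : {x : Fin k → ι → F // IsFr φ k x} //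
      spanH φ k x = W} = ∏ i : Fin k, (Fintype.card F ^ k - Fintype.card F ^ (i : ℕ)) := by
    intro W
    rw [Nat.card_congr (spanHFiberEquiv φ k W), card_bases W.1 W.2.1]
  rw [Finset.sum_congr rfl (fun W _ => h1 W), Finset.sum_const, smul_eq_mul, Finset.card_univ,
    Nat.card_eq_fintype_card (α := TIh ι φ k)]

/-- the number of totally isotropic subspaces divides the product of the numbers of isotropic
vectors -/
theorem card_ti_dvd (hφ : φ ≠ RingHom.id F) (hφφ : ∀ x, φ (φ x) = x)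
    (hN1 : ∀ c : F, c ≠ 0 → φ c = c → ∃ l : F, l ≠ 0 ∧ l * φ l = c) (n : ℕ)
    (hn : Fintype.card ι = n) (k : ℕ) (hk : 2 * k ≤ n) :
    Nat.card (TIh ι φ k) ∣ ∏ i ∈ Finset.range k, Nat.card (IsoV φ (n - 2 * i)) := by
  have h1 := card_frames φ hφ hφφ hN1 n hn k hk
  rw [card_frames_eq_h φ k, Fin.prod_univ_eq_prod_range
    (fun i => Fintype.card F ^ k - Fintype.card F ^ i) k, Finset.prod_mul_distrib] at h1
  have h2 : ∏ i ∈ Finset.range k, (Fintype.card F ^ k - Fintype.card F ^ i) =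
      (∏ i ∈ Finset.range k, Fintype.card F ^ i) *
        ∏ i ∈ Finset.range k, (Fintype.card F ^ (k - i) - 1) := by
    rw [← Finset.prod_mul_distrib]
    apply Finset.prod_congr rfl
    intro i hi
    have hik : i < k := Finset.mem_range.1 hi
    rw [Nat.mul_sub, mul_one, ← pow_add]
    congr 2
    omega
  rw [h2] at h1
  have hpos : 0 < ∏ i ∈ Finset.range k, Fintype.card F ^ i :=
    Finset.prod_pos (fun i _ => pow_pos Fintype.card_pos i)
  have h3 : (∏ i ∈ Finset.range k, Fintype.card F ^ i) *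
      (Nat.card (TIh ι φ k) * ∏ i ∈ Finset.range k, (Fintype.card F ^ (k - i) - 1)) =
      (∏ i ∈ Finset.range k, Fintype.card F ^ i) *
        ∏ i ∈ Finset.range k, Nat.card (IsoV φ (n - 2 * i)) := by
    rw [← h1]
    ring
  exact ⟨_, (Nat.eq_of_mul_eq_mul_left hpos h3).symm⟩

end count

section arith
variable {F : Type*} [Field F] [Fintype F] {q : ℕ}

/-- a prime dividing the number of totally isotropic `m`-spaces divides `q ^ j - (-1) ^ j` for
some `j` between `n - 2 m + 1` and `n` -/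
theorem prime_dvd_card_ti (hF : Fintype.card F = q ^ 2) (n m : ℕ) (hm : 1 ≤ m)
    (hmn : 2 * m ≤ n) (r : ℕ) (hr : r.Prime)
    (hrΩ : r ∣ Nat.card {W : Submodule F (Fin n → F) // Module.finrank F ↥W = m ∧
      (∀ u ∈ W, ∀ v ∈ W, Cfsg.hermForm n F q u v = 0)}) :
    ∃ j, n + 1 ≤ j + 2 * m ∧ j ≤ n ∧ 1 ≤ j ∧ (r : ℤ) ∣ (q : ℤ) ^ j - (-1) ^ j := by
  obtain ⟨φ, hφ⟩ := exists_frob hF
  have hcard : Nat.card {W : Submodule F (Fin n → F) // Module.finrank F ↥W = m ∧
      (∀ u ∈ W, ∀ v ∈ W, Cfsg.hermForm n F q u v = 0)} = Nat.card (TIh (Fin n) φ m) := by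
    unfold TIh
    simp only [hermForm_eq_hdot φ hφ]
  rw [hcard] at hrΩ
  have h1 := dvd_trans hrΩ (card_ti_dvd φ (frob_ne_id hF φ hφ) (frob_frob hF φ hφ)
    (frob_norm_surj hF φ hφ) n (Fintype.card_fin n) m hmn)
  obtain ⟨i, hi, h2⟩ := (Prime.dvd_finset_prod_iff (Nat.prime_iff.1 hr) _).1 h1
  have him : i < m := Finset.mem_range.1 hi
  obtain ⟨j', hj'⟩ : ∃ j', n - 2 * i = j' + 1 := ⟨n - 2 * i - 1, by omega⟩
  rw [hj'] at h2
  have h3 : (r : ℤ) ∣ (Nat.card (IsoV φ (j' + 1)) : ℤ) := Int.natCast_dvd_natCast.2 h2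
  rw [card_IsoV_int hF φ hφ j'] at h3
  rcases (Int.prime_iff_natAbs_prime.2 (by simpa using hr)).dvd_or_dvd h3 with h4 | h4
  · exact ⟨j' + 1, by omega, by omega, by omega, h4⟩
  · refine ⟨j', by omega, by omega, by omega, ?_⟩
    have e : (q : ℤ) ^ j' + (-1) ^ (j' + 1) = (q : ℤ) ^ j' - (-1) ^ j' := by
      rw [pow_succ]
      ring
    rw [e] at h4
    exact h4

end arith

end Cfsg.Agent.Helper13.SuTi
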