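import Mathlib
import Cfsg.Agent.Lib.Helper13.SuTi10
import Cfsg.Agent.Lib.Helper13.SuTi11
import Cfsg.Agent.Lib.Helper13.SuNd17

set_option autoImplicit false
set_option linter.unusedSectionVars false

/-!
# Elements of prime order of unitary groups fixing totally isotropic subspaces: assembly
-/

namespace Cfsg.Agent.Helper13.SuTi

open Polynomial Module Cfsg.Agent.Helper13.Uni Cfsg.Agent.Helper13.SuNd
open scoped Classical

universe u

section arith
variable {r q : ℕ}

/-- the block size divides the exponents `j` with `q ^ j = (-1) ^ j` modulo `r` -/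
theorem c_dvd_of_pow (hr : r.Prime) (hr2 : r ≠ 2) (i c : ℕ) (hi : i = orderOf (q : ZMod r))
    (hc : c = if i % 4 = 0 then i else if i % 4 = 2 then i / 2 else 2 * i) (j : ℕ)
    (h : (q : ZMod r) ^ j = (-1) ^ j) : c ∣ j := by
  haveI : Fact r.Prime := ⟨hr⟩
  haveI : Fact (2 < r) := ⟨by have := hr.two_le; omega⟩
  have hne : (-1 : ZMod r) ≠ 1 := ZMod.neg_one_ne_one
  rcases Nat.even_or_odd j with hj | hj
  · rw [hj.neg_one_pow, ← orderOf_dvd_iff_pow_eq_one, ← hi] at h
    rw [hc]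
    split_ifs with h0 h2
    · exact h
    · exact dvd_trans ⟨2, by omega⟩ h
    · have hio : Nat.Coprime 2 i := by
        rw [Nat.coprime_two_left]
        exact Nat.odd_iff.2 (by omega)
      exact Nat.Coprime.mul_dvd_of_dvd_of_dvd hio (even_iff_two_dvd.1 hj) h
  · rw [hj.neg_one_pow] at h
    have h1 : (q : ZMod r) ^ (2 * j) = 1 := by
      rw [mul_comm, pow_mul, h]
      ring
    rw [← orderOf_dvd_iff_pow_eq_one, ← hi] at h1
    have h2 : ¬ i ∣ j := by
      intro hd
      rw [hi, orderOf_dvd_iff_pow_eq_one, h] at hd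
      exact hne hd
    have hie : Even i := by
      by_contra hodd
      rw [Nat.not_even_iff_odd] at hodd
      have hio : Nat.Coprime i 2 := by
        rw [Nat.coprime_two_right]
        exact hodd
      exact h2 (hio.dvd_of_dvd_mul_left h1)
    obtain ⟨i', hi'⟩ := hie
    have hi'j : i' ∣ j := by
      rw [hi', ← two_mul] at h1
      rcases Nat.eq_zero_or_pos i' with h0 | h0
      · exfalso
        rw [h0, mul_zero] at h1
        have := Nat.eq_zero_of_zero_dvd h1
        obtain ⟨t, ht⟩ := hj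
        omega
      · exact Nat.dvd_of_mul_dvd_mul_left (by norm_num : 0 < 2) h1
    have hi'odd : Odd i' := by
      by_contra hev
      rw [Nat.not_odd_iff_even] at hev
      have : Even j := by
        obtain ⟨t, ht⟩ := hi'j
        rw [ht]
        exact hev.mul_right t
      exact (Nat.not_even_iff_odd.2 hj) this
    obtain ⟨t, ht⟩ := hi'odd
    rw [hc, if_neg (by omega), if_pos (by omega)]
    have : i / 2 = i' := by omega
    rw [this]
    exact hi'j

end arith

section conv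
variable {F : Type u} [Field F] [Fintype F] {q : ℕ}

theorem fixT_iff_u {n : ℕ} (g : Matrix (Fin n) (Fin n) F) (m : ℕ) :
    (∃ W : Submodule F (Fin n → F), Module.finrank F ↥W = m ∧
      (∀ u ∈ W, ∀ v ∈ W, Cfsg.hermForm n F q u v = 0) ∧
      W.map (Matrix.toLin' g) ≤ W) ↔ FixT (Cfsg.hermForm n F q) (Matrix.toLin' g) m := by
  unfold FixT TiOn
  constructor
  · rintro ⟨W, h1, h2, h3⟩
    refine ⟨W, h1, h2, ?_⟩
    rw [Submodule.map_le_iff_le_comap] at h3
    exact fun v hv => h3 hv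
  · rintro ⟨W, h1, h2, h3⟩
    refine ⟨W, h1, h2, ?_⟩
    rw [Submodule.map_le_iff_le_comap]
    exact fun v hv => h3 v hv

/-- reformulation of the quantification over `SU` -/
theorem forall_su_iff_T (n m r : ℕ) :
    (∀ x : Matrix.SpecialLinearGroup (Fin n) F, x ∈ Cfsg.SU n F q →
      (∃ z : F, ((x ^ r : Matrix.SpecialLinearGroup (Fin n) F) : Matrix (Fin n) (Fin n) F) =
        z • (1 : Matrix (Fin n) (Fin n) F)) →
      (∀ z : F, (x : Matrix (Fin n) (Fin n) F) ≠ z • (1 : Matrix (Fin n) (Fin n) F)) →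
      ∃ W : Submodule F (Fin n → F), Module.finrank F ↥W = m ∧
        (∀ u ∈ W, ∀ v ∈ W, Cfsg.hermForm n F q u v = 0) ∧
        W.map (Matrix.toLin' (x : Matrix (Fin n) (Fin n) F)) ≤ W) ↔
    (∀ g : Matrix (Fin n) (Fin n) F, Pres q g → g.det = 1 → (∃ z : F, g ^ r = z • 1) →
      (∀ z : F, g ≠ z • 1) → FixT (Cfsg.hermForm n F q) (Matrix.toLin' g) m) := by
  constructor
  · intro h g hg hdet hz hns
    set x : Matrix.SpecialLinearGroup (Fin n) F := ⟨g, hdet⟩ with hx
    have hxg : (x : Matrix (Fin n) (Fin n) F) = g := rfl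
    have := h x hg (by
      obtain ⟨z, hz⟩ := hz
      refine ⟨z, ?_⟩
      rw [Matrix.SpecialLinearGroup.coe_pow, hxg]
      exact hz) hns
    exact (fixT_iff_u g m).1 this
  · intro h x hx hz hns
    apply (fixT_iff_u (x : Matrix (Fin n) (Fin n) F) m).2
    have hP : Pres q (x : Matrix (Fin n) (Fin n) F) := hx
    refine h (x : Matrix (Fin n) (Fin n) F) hP x.2 ?_ hns
    obtain ⟨z, hz⟩ := hz
    refine ⟨z, ?_⟩
    rw [← Matrix.SpecialLinearGroup.coe_pow]
    exact hz

end conv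

section main
variable {F : Type u} [Field F] [Fintype F] {p : ℕ} [Fact p.Prime] [CharP F p] {q : ℕ}

theorem ti_main_u (hq : Fintype.card F = q ^ 2)
    (n m : ℕ) (hn : 3 ≤ n) (_hT : (n, q) ≠ (3, 2)) (hm : 1 ≤ m) (hmn : 2 * m ≤ n)
    (r : ℕ) [Fact r.Prime]
    (hrΩ : r ∣ Nat.card {W : Submodule F (Fin n → F) // Module.finrank F ↥W = m ∧
      (∀ u ∈ W, ∀ v ∈ W, Cfsg.hermForm n F q u v = 0)})
    (i b c : ℕ) (hi : i = orderOf (q : ZMod r)) (hb : b = if Even i then i / 2 else i)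
    (hc : c = if i % 4 = 0 then i else if i % 4 = 2 then i / 2 else 2 * i) :
    (∀ x : Matrix.SpecialLinearGroup (Fin n) F, x ∈ Cfsg.SU n F q →
      (∃ z : F, ((x ^ r : Matrix.SpecialLinearGroup (Fin n) F) : Matrix (Fin n) (Fin n) F) =
        z • (1 : Matrix (Fin n) (Fin n) F)) →
      (∀ z : F, (x : Matrix (Fin n) (Fin n) F) ≠ z • (1 : Matrix (Fin n) (Fin n) F)) →
      ∃ W : Submodule F (Fin n → F), Module.finrank F ↥W = m ∧
        (∀ u ∈ W, ∀ v ∈ W, Cfsg.hermForm n F q u v = 0) ∧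
        W.map (Matrix.toLin' (x : Matrix (Fin n) (Fin n) F)) ≤ W) ↔
    ((r = 2 ∧ p ≠ 2 ∧ (2 * m < n ∨ padicValNat 2 (q + 1) ≤ padicValNat 2 n)) ∨
     (r ≠ p ∧ 2 < r ∧ b ≤ m ∧ 2 * (m % b) ≤ n % c ∧
       (i % 4 ≠ 2 ∨ (i % 4 = 2 ∧ (r - 1) / b + 2 * (m / b) ≤ n / b ∧
         (2 < i ∨ (i = 2 ∧ (r ∣ m ∨ padicValNat r n ≤ padicValNat r (q + 1)))))))) := by
  have hr : r.Prime := Fact.out
  have hp : p.Prime := Fact.out
  let _ := ZMod.algebra F p
  obtain ⟨σ, hσ, hσ2, hσ1⟩ := exists_frobAlg hq p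
  have hn0 : 0 < n := by omega
  rw [forall_su_iff_T]
  obtain ⟨j, hj1, hj2, hj3, hj4⟩ := prime_dvd_card_ti hq n m hm hmn r hr hrΩ
  by_cases hrp : r = p
  · exfalso
    subst hrp
    have h1 : r ∣ q := (CharP.cast_eq_zero_iff F r q).1 (cast_q_eq_zero r hq)
    have h2 : (r : ℤ) ∣ (q : ℤ) ^ j :=
      dvd_trans (Int.natCast_dvd_natCast.2 h1) (dvd_pow_self _ (by omega))
    have h3 : (r : ℤ) ∣ (-1) ^ j := by
      have := dvd_sub h2 hj4
      rwa [sub_sub_cancel] at this
    have h4 : (r : ℤ) ∣ 1 := by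
      rcases neg_one_pow_eq_or ℤ j with h | h
      · rwa [h] at h3
      · rw [h] at h3
        exact (dvd_neg.1 h3)
    have h5 : r ∣ 1 := Int.natCast_dvd_natCast.1 (by simpa using h4)
    exact hr.one_lt.ne' (Nat.dvd_one.1 h5)
  by_cases hr2 : r = 2
  · subst hr2
    have hp2 : p ≠ 2 := fun h => hrp h.symm
    constructor
    · intro hall
      exact Or.inl ⟨rfl, hp2, two_nec_T hq hσ hσ2 hσ1 hp2 n m hn hm hmn hall⟩
    · rintro (⟨-, -, hcond⟩ | ⟨-, h, -⟩)
      · intro g hg hdet ⟨z, hgz⟩ _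
        exact two_suff_T hq hσ hσ2 hσ1 hp2 n m hn0 hmn hcond g hg hdet z hgz
      · omega
  · have hr3 : 2 < r := by
      have := hr.two_le
      omega
    have hzm : (q : ZMod r) ^ j = (-1) ^ j := by
      have := (ZMod.intCast_zmod_eq_zero_iff_dvd ((q : ℤ) ^ j - (-1) ^ j) r).2 hj4
      push_cast at this
      exact sub_eq_zero.1 this
    have hcj := c_dvd_of_pow hr hr2 i c hi hc j hzm
    have hcn : c ≤ n := le_trans (Nat.le_of_dvd (by omega) hcj) hj2
    have hcm : n % c < 2 * m := by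
      obtain ⟨t, ht⟩ := hcj
      have e : n = c * t + (n - j) := by omega
      have h1 : n % c = (n - j) % c := by
        conv_lhs => rw [e]
        exact Nat.mul_add_mod c t (n - j)
      have := Nat.mod_le (n - j) c
      omega
    rw [odd_main_T hq hσ hσ2 hσ1 hr hr2 hrp i b c hi hb hc n m hn hm hmn hcn hcm]
    constructor
    · intro h
      exact Or.inr ⟨hrp, hr3, h⟩
    · rintro (⟨h, -⟩ | ⟨-, -, h⟩)
      · exact absurd h hr2
      · exact h

end main

end Cfsg.Agent.Helper13.SuTi
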