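import Mathlib
import Cfsg.Prelude.Def_GeometricClasses
import Cfsg.Agent.Lib.Helper13.JordanModel

/-!
# Conjugating scalar multiples of unipotent elements into subfield subgroups (helper13)
-/

set_option autoImplicit false

namespace Cfsg.Agent.Helper13.SubF

open Matrix Module Cfsg.Agent.Helper13.Nilp Cfsg.Agent.Helper13.JM

section membership

variable {F : Type*} [Field F] {n : ℕ} (F₀ : Subfield F)

/-- the subfield subgroup of determinant one -/
abbrev subH (n : ℕ) (F₀ : Subfield F) : Subgroup (SpecialLinearGroup (Fin n) F) :=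
  (Cfsg.Geo.subfieldSubgroup F₀ (1 : GL (Fin n) F)).comap
    (SpecialLinearGroup.toGL : SpecialLinearGroup (Fin n) F →* GL (Fin n) F)

theorem subfieldSubgroup_one :
    Cfsg.Geo.subfieldSubgroup F₀ (1 : GL (Fin n) F) =
      (Matrix.GeneralLinearGroup.map (F₀.subtype : F₀ →+* F)).range ⊔ Cfsg.Geo.scalars (Fin n) F := by
  unfold Cfsg.Geo.subfieldSubgroup
  have h : (MulAut.conj (1 : GL (Fin n) F)).toMonoidHom = MonoidHom.id _ := by
    ext g
    simp
  rw [h, Subgroup.map_id]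

theorem mem_subH_of (y : SpecialLinearGroup (Fin n) F) (c : F) (hc : c ≠ 0) (A : GL (Fin n) F₀)
    (h : y.1 = c • (A.1.map (F₀.subtype : F₀ →+* F))) : y ∈ subH n F₀ := by
  rw [Subgroup.mem_comap, subfieldSubgroup_one]
  set a : GL (Fin n) F := Matrix.GeneralLinearGroup.map (F₀.subtype : F₀ →+* F) A with ha
  have h1 : SpecialLinearGroup.toGL y = a * (a⁻¹ * SpecialLinearGroup.toGL y) := by group
  rw [h1]
  apply Subgroup.mul_mem_sup (MonoidHom.mem_range.2 ⟨A, rfl⟩)
  rw [Cfsg.Geo.mem_scalars_iff]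
  refine ⟨Units.mk0 c hc, ?_⟩
  have h2 : ((a⁻¹ * SpecialLinearGroup.toGL y : GL (Fin n) F) : Matrix (Fin n) (Fin n) F) =
      ((a⁻¹ : GL (Fin n) F) : Matrix (Fin n) (Fin n) F) * y.1 := rfl
  have h3 : (a : Matrix (Fin n) (Fin n) F) = A.1.map (F₀.subtype : F₀ →+* F) := rfl
  rw [h2, h, ← h3, Matrix.mul_smul, gln_inv_mul]
  rfl

theorem exists_of_mem_subH (y : SpecialLinearGroup (Fin n) F) (hy : y ∈ subH n F₀) :
    ∃ (A : GL (Fin n) F₀) (c : F), c ≠ 0 ∧ y.1 = c • (A.1.map (F₀.subtype : F₀ →+* F)) := by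
  rw [Subgroup.mem_comap, subfieldSubgroup_one] at hy
  have h1 : (SpecialLinearGroup.toGL y : GL (Fin n) F) ∈
      ((((Matrix.GeneralLinearGroup.map (F₀.subtype : F₀ →+* F)).range ⊔
        Cfsg.Geo.scalars (Fin n) F : Subgroup (GL (Fin n) F)) : Set (GL (Fin n) F))) := hy
  rw [Subgroup.mul_normal] at h1
  obtain ⟨a, ⟨A, rfl⟩, b, hb, hab⟩ := Set.mem_mul.1 h1
  rw [SetLike.mem_coe, Cfsg.Geo.mem_scalars_iff] at hb
  obtain ⟨c, hc⟩ := hb
  refine ⟨A, (c : F), c.ne_zero, ?_⟩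
  have h2 := congrArg (fun g : GL (Fin n) F => (g : Matrix (Fin n) (Fin n) F)) hab
  simp only [Units.val_mul] at h2
  rw [hc, Matrix.mul_smul, Matrix.mul_one] at h2
  exact h2.symm

end membership

section conj

variable {F : Type*} [Field F] {n : ℕ}

/-- a diagonal matrix with one entry different from one -/
def dg (K : Type*) [Field K] (n : ℕ) (hn : 0 < n) (β : K) : Matrix (Fin n) (Fin n) K :=
  Matrix.diagonal (Function.update (fun _ => (1 : K)) ⟨0, hn⟩ β)

theorem det_dg (K : Type*) [Field K] (hn : 0 < n) (β : K) : (dg K n hn β).det = β := by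
  unfold dg
  rw [Matrix.det_diagonal, Finset.prod_update_of_mem (Finset.mem_univ _)]
  simp

theorem dg_mul_dg (K : Type*) [Field K] (hn : 0 < n) (β γ : K) :
    dg K n hn β * dg K n hn γ = dg K n hn (β * γ) := by
  unfold dg
  rw [Matrix.diagonal_mul_diagonal]
  congr 1
  funext i
  by_cases h : i = ⟨0, hn⟩
  · subst h
    simp
  · simp [Function.update_of_ne h]

theorem dg_one (K : Type*) [Field K] (hn : 0 < n) : dg K n hn 1 = 1 := by
  unfold dg
  rw [← Matrix.diagonal_one]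
  congr 1
  funext i
  by_cases h : i = ⟨0, hn⟩
  · subst h
    simp
  · simp [Function.update_of_ne h]

theorem dg_map {K L : Type*} [Field K] [Field L] (φ : K →+* L) (hn : 0 < n) (β : K) :
    (dg K n hn β).map φ = dg L n hn (φ β) := by
  unfold dg
  rw [Matrix.diagonal_map (map_zero φ)]
  congr 1
  funext i
  by_cases h : i = ⟨0, hn⟩
  · subst h
    simp
  · simp [Function.update_of_ne h]

theorem conj_aux (C D E E' J G : Matrix (Fin n) (Fin n) F) (c : F) (hEE' : E * E' = 1)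
    (hDJ : D * J = J * D) (hcm : C * J = G * C) :
    C * D * E * (c • (E' * J * E)) = (c • G) * (C * D * E) := by
  calc C * D * E * (c • (E' * J * E)) = c • (C * D * (E * E') * J * E) := by
        rw [Matrix.mul_smul]
        simp only [Matrix.mul_assoc]
    _ = c • (C * (D * J) * E) := by rw [hEE', Matrix.mul_one, Matrix.mul_assoc C D J]
    _ = c • ((C * J) * D * E) := by rw [hDJ, ← Matrix.mul_assoc C J D]
    _ = (c • G) * (C * D * E) := by
        rw [hcm, Matrix.smul_mul]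
        simp only [Matrix.mul_assoc]

/-- a scalar multiple of a unipotent element is conjugate in `SL_n` into the subfield group, if
the determinants of the obvious centralising elements cover everything -/
theorem conj_unip_into (F₀ : Subfield F) (hn : 0 < n) (x : SpecialLinearGroup (Fin n) F) (c : F)
    (hc : c ≠ 0) (g : GL (Fin n) F) (hxg : x.1 = c • (g : Matrix (Fin n) (Fin n) F))
    (l : List ℕ) (hsum : l.sum = n) (hpos : ∀ a ∈ l, 0 < a)
    (hconj : IsConj g (jG l hsum hpos F))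
    (hdet : ∀ δ : F, δ ≠ 0 → ∃ (i₀ : Fin l.length) (α : F) (β : F₀), α ≠ 0 ∧ β ≠ 0 ∧
      α ^ (l.get i₀) * (β : F) = δ) :
    ∃ P : SpecialLinearGroup (Fin n) F, P⁻¹ * x * P ∈ subH n F₀ := by
  classical
  obtain ⟨c₀, hc₀⟩ := isConj_iff.1 hconj
  set J : Matrix (Fin n) (Fin n) F := 1 + jN l hsum F with hJ
  set C : Matrix (Fin n) (Fin n) F := ((c₀⁻¹ : GL (Fin n) F) : Matrix (Fin n) (Fin n) F) with hC
  have hcm : C * J = (g : Matrix (Fin n) (Fin n) F) * C := by
    have h3 : g * c₀⁻¹ = c₀⁻¹ * jG l hsum hpos F := by rw [← hc₀]; group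
    have h4 := congrArg (fun u : GL (Fin n) F => (u : Matrix (Fin n) (Fin n) F)) h3
    exact h4.symm
  set δ : F := (c₀ : Matrix (Fin n) (Fin n) F).det with hδ
  have hCδ : C.det * δ = 1 := by
    rw [hδ, hC, ← Matrix.det_mul, gln_inv_mul, Matrix.det_one]
  have hδ0 : δ ≠ 0 := by
    intro h
    rw [h, mul_zero] at hCδ
    exact zero_ne_one hCδ
  obtain ⟨i₀, α, β, hα, hβ, hαβ⟩ := hdet δ hδ0
  set D := jD l hsum F i₀ α with hD
  have hDJ : D * J = J * D := by
    rw [hJ, Matrix.mul_add, Matrix.add_mul, Matrix.mul_one, Matrix.one_mul, hD, jD_comm]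
  have hβF : (β : F) ≠ 0 := fun h => hβ (Subtype.ext h)
  set E := dg F n hn (β : F) with hE
  set E' := dg F n hn ((β : F)⁻¹) with hE'
  have hEE' : E * E' = 1 := by rw [hE, hE', dg_mul_dg, mul_inv_cancel₀ hβF, dg_one]
  have hPdet : (C * D * E).det = 1 := by
    rw [Matrix.det_mul, Matrix.det_mul, hD, det_jD, hE, det_dg, mul_assoc, hαβ, hCδ]
  obtain ⟨P, hP⟩ : ∃ P : SpecialLinearGroup (Fin n) F, P.1 = C * D * E := ⟨⟨_, hPdet⟩, rfl⟩
  have hkey : (P⁻¹ * x * P).1 = c • (E' * J * E) := by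
    have h5 : P.1 * (P⁻¹ * x * P).1 = P.1 * (c • (E' * J * E)) := by
      rw [← Matrix.SpecialLinearGroup.coe_mul]
      have h6 : P * (P⁻¹ * x * P) = x * P := by group
      rw [h6, Matrix.SpecialLinearGroup.coe_mul, hP, hxg]
      exact (conj_aux C D E E' J _ c hEE' hDJ hcm).symm
    have h7 := congrArg (fun M => (P⁻¹).1 * M) h5
    simp only [← Matrix.mul_assoc] at h7
    rw [← Matrix.SpecialLinearGroup.coe_mul, inv_mul_cancel, Matrix.SpecialLinearGroup.coe_one,
      Matrix.one_mul, Matrix.one_mul] at h7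
    exact h7
  refine ⟨P, ?_⟩
  have hβ' : β⁻¹ ≠ 0 := inv_ne_zero hβ
  set E₀ : GL (Fin n) F₀ := ⟨dg F₀ n hn β, dg F₀ n hn β⁻¹,
    by rw [dg_mul_dg, mul_inv_cancel₀ hβ, dg_one],
    by rw [dg_mul_dg, inv_mul_cancel₀ hβ, dg_one]⟩ with hE₀
  apply mem_subH_of F₀ _ c hc (E₀⁻¹ * jG l hsum hpos F₀ * E₀)
  rw [hkey]
  congr 1
  have h8 : ((E₀⁻¹ * jG l hsum hpos F₀ * E₀ : GL (Fin n) F₀) : Matrix (Fin n) (Fin n) F₀) =
      dg F₀ n hn β⁻¹ * (1 + jN l hsum F₀) * dg F₀ n hn β := rfl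
  rw [h8, Matrix.map_mul, Matrix.map_mul, dg_map, dg_map, Matrix.map_add _ (map_add _), jN_map,
    Matrix.map_one _ (map_zero _) (map_one _)]
  simp only [Subfield.coe_subtype, Subfield.coe_inv]
  rfl

end conj

end Cfsg.Agent.Helper13.SubF
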