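import Mathlib
import Cfsg.Agent.Lib.Helper13.JordanModel

/-!
# Square-zero nilpotents of maximal rank: centralisers have square determinants (helper13)
-/

set_option autoImplicit false

namespace Cfsg.Agent.Helper13.SubF

open Matrix Module Cfsg.Agent.Helper13.Nilp Cfsg.Agent.Helper13.JM

section ranks

variable {K : Type*} [Field K] {n : ℕ}

/-- unipotent elements with the same ranks of the powers of the nilpotent part are conjugate -/
theorem isConj_of_ranks (g g' : GL (Fin n) K) (hg : IsNilpotent (nilMat g))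
    (hg' : IsNilpotent (nilMat g'))
    (h : ∀ k, (nilMat g ^ k).rank = (nilMat g' ^ k).rank) : IsConj g g' := by
  have h1 : IsNilpotent (nilOf g) := by
    obtain ⟨k, hk⟩ := hg
    exact ⟨k, (nilOf_pow_eq_zero_iff g k).2 hk⟩
  have h2 : IsNilpotent (nilOf g') := by
    obtain ⟨k, hk⟩ := hg'
    exact ⟨k, (nilOf_pow_eq_zero_iff g' k).2 hk⟩
  obtain ⟨cb⟩ := exists_chainBasis (nilOf g) h1
  obtain ⟨cb'⟩ := exists_chainBasis (nilOf g') h2
  apply isConj_of_type_eq cb cb'
  apply multiset_eq_of_sub_sums _ _ cb.type_pos cb'.type_pos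
  intro k
  rw [← cb.finrank_range_pow, ← cb'.finrank_range_pow, finrank_range_nilOf_pow,
    finrank_range_nilOf_pow, h]

end ranks

section blk

variable {n m : ℕ}

/-- the index bijection `Fin m ⊕ Fin m ≃ Fin n` for `n = 2 m` -/
def eNM (hn : n = 2 * m) : Fin m ⊕ Fin m ≃ Fin n :=
  finSumFinEquiv.trans (finCongr (by omega))

/-- the block nilpotent matrix `[[0, 1], [0, 0]]` on `Fin n` -/
def Nblk (K : Type*) [Zero K] [One K] (hn : n = 2 * m) : Matrix (Fin n) (Fin n) K :=
  (Matrix.fromBlocks 0 1 0 0 : Matrix (Fin m ⊕ Fin m) (Fin m ⊕ Fin m) K).submatrix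
    (eNM hn).symm (eNM hn).symm

theorem Nblk_map {K L : Type*} [Semiring K] [Semiring L] (φ : K →+* L) (hn : n = 2 * m) :
    (Nblk K hn).map φ = Nblk L hn := by
  unfold Nblk
  rw [← Matrix.submatrix_map, Matrix.fromBlocks_map]
  congr 2
  · ext i j
    simp
  · exact Matrix.map_one _ (map_zero φ) (map_one φ)
  · ext i j
    simp
  · ext i j
    simp

theorem Nblk_sq (K : Type*) [Field K] (hn : n = 2 * m) : Nblk K hn * Nblk K hn = 0 := by
  unfold Nblk
  rw [Matrix.submatrix_mul_equiv, Matrix.fromBlocks_multiply]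
  simp

theorem rank_Nblk (K : Type*) [Field K] (hn : n = 2 * m) : (Nblk K hn).rank = m := by
  classical
  unfold Nblk
  rw [Matrix.rank_submatrix]
  have h1 : (Matrix.fromBlocks 0 1 0 0 : Matrix (Fin m ⊕ Fin m) (Fin m ⊕ Fin m) K) =
      (Matrix.diagonal (Sum.elim (fun _ => (1 : K)) (fun _ => 0))).submatrix
        (Equiv.refl (Fin m ⊕ Fin m)) (Equiv.sumComm (Fin m) (Fin m)) := by
    ext a b
    rcases a with i | i <;> rcases b with j | j <;>
      simp [Matrix.diagonal_apply, Matrix.fromBlocks, Matrix.one_apply]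
  rw [h1, Matrix.rank_submatrix, Matrix.rank_diagonal]
  have e : {a : Fin m ⊕ Fin m // Sum.elim (fun _ => (1 : K)) (fun _ => 0) a ≠ 0} ≃ Fin m :=
    { toFun := fun a => match a with
        | ⟨Sum.inl j, _⟩ => j
        | ⟨Sum.inr _, h⟩ => (h rfl).elim
      invFun := fun j => ⟨Sum.inl j, by simp⟩
      left_inv := by
        rintro ⟨a | a, h⟩
        · rfl
        · exact (h rfl).elim
      right_inv := by
        intro j
        rfl }
  rw [Fintype.card_congr e, Fintype.card_fin]

/-- a matrix commuting with the block nilpotent matrix has square determinant -/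
theorem isSquare_det_of_comm_blk (K : Type*) [Field K] (hn : n = 2 * m)
    (T : Matrix (Fin n) (Fin n) K) (hT : T * Nblk K hn = Nblk K hn * T) :
    ∃ a : K, T.det = a * a := by
  classical
  set e := eNM (n := n) (m := m) hn with he
  set T' : Matrix (Fin m ⊕ Fin m) (Fin m ⊕ Fin m) K := T.submatrix e e with hT'
  set N₀ : Matrix (Fin m ⊕ Fin m) (Fin m ⊕ Fin m) K := Matrix.fromBlocks 0 1 0 0 with hN₀
  have hdet : T'.det = T.det := Matrix.det_submatrix_equiv_self e T
  have hNe : (Nblk K hn).submatrix e e = N₀ := by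
    ext a b
    simp only [Nblk, Matrix.submatrix_apply, he, Equiv.symm_apply_apply, hN₀]
  have hcomm : T' * N₀ = N₀ * T' := by
    rw [← hNe, hT', Matrix.submatrix_mul_equiv, Matrix.submatrix_mul_equiv, hT]
  rw [← Matrix.fromBlocks_toBlocks T'] at hcomm hdet
  set A := T'.toBlocks₁₁
  set B := T'.toBlocks₁₂
  set C := T'.toBlocks₂₁
  set D := T'.toBlocks₂₂
  rw [hN₀, Matrix.fromBlocks_multiply, Matrix.fromBlocks_multiply] at hcomm
  simp only [Matrix.mul_zero, Matrix.zero_mul, Matrix.mul_one, Matrix.one_mul, add_zero,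
    zero_add] at hcomm
  rw [Matrix.fromBlocks_inj] at hcomm
  obtain ⟨h1, h2, -, h4⟩ := hcomm
  refine ⟨A.det, ?_⟩
  rw [← hdet, ← h1, Matrix.det_fromBlocks_zero₂₁, ← h2]

end blk

section general

variable {K : Type*} [Field K] {n m : ℕ}

theorem pow_succ_succ_eq_zero (N : Matrix (Fin n) (Fin n) K) (hN : N * N = 0) (k : ℕ) :
    N ^ (k + 2) = 0 := by
  rw [pow_add, pow_two, hN, mul_zero]

/-- a matrix commuting with a square-zero matrix of rank `n / 2` has square determinant -/
theorem isSquare_det_of_comm (hn : n = 2 * m) (N T : Matrix (Fin n) (Fin n) K)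
    (hN2 : N * N = 0) (hrank : N.rank = m) (hT : T * N = N * T) : ∃ a : K, T.det = a * a := by
  classical
  have hu1 : (1 + N) * (1 - N) = 1 := by
    rw [Matrix.mul_sub, Matrix.add_mul, Matrix.add_mul, Matrix.one_mul, Matrix.mul_one,
      Matrix.one_mul, hN2]
    abel
  have hu2 : (1 - N) * (1 + N) = 1 := by
    rw [Matrix.mul_add, Matrix.sub_mul, Matrix.sub_mul, Matrix.one_mul, Matrix.mul_one,
      Matrix.one_mul, hN2]
    abel
  set Nb := Nblk K hn with hNb
  have hb2 : Nb * Nb = 0 := Nblk_sq K hn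
  have hv1 : (1 + Nb) * (1 - Nb) = 1 := by
    rw [Matrix.mul_sub, Matrix.add_mul, Matrix.add_mul, Matrix.one_mul, Matrix.mul_one,
      Matrix.one_mul, hb2]
    abel
  have hv2 : (1 - Nb) * (1 + Nb) = 1 := by
    rw [Matrix.mul_add, Matrix.sub_mul, Matrix.sub_mul, Matrix.one_mul, Matrix.mul_one,
      Matrix.one_mul, hb2]
    abel
  let g : GL (Fin n) K := ⟨1 + N, 1 - N, hu1, hu2⟩
  let g' : GL (Fin n) K := ⟨1 + Nb, 1 - Nb, hv1, hv2⟩
  have hg : nilMat g = N := by
    show (1 + N) - 1 = N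
    rw [add_sub_cancel_left]
  have hg' : nilMat g' = Nb := by
    show (1 + Nb) - 1 = Nb
    rw [add_sub_cancel_left]
  have hconj : IsConj g g' := by
    apply isConj_of_ranks
    · exact ⟨2, by rw [hg, pow_two, hN2]⟩
    · exact ⟨2, by rw [hg', pow_two, hb2]⟩
    · intro k
      rw [hg, hg']
      rcases k with _ | _ | k
      · rw [pow_zero, pow_zero]
      · rw [zero_add, pow_one, pow_one, hrank, hNb, rank_Nblk]
      · rw [pow_succ_succ_eq_zero N hN2, pow_succ_succ_eq_zero Nb hb2]
  obtain ⟨S, hS⟩ := isConj_iff.1 hconj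
  have hSN : (S : Matrix (Fin n) (Fin n) K) * N = Nb * (S : Matrix (Fin n) (Fin n) K) := by
    have h3 : S * g = g' * S := by rw [← hS]; group
    have h4 := congrArg (fun u : GL (Fin n) K => (u : Matrix (Fin n) (Fin n) K)) h3
    have h5 : (S : Matrix (Fin n) (Fin n) K) * (1 + N) =
        (1 + Nb) * (S : Matrix (Fin n) (Fin n) K) := h4
    rw [Matrix.mul_add, Matrix.add_mul, Matrix.mul_one, Matrix.one_mul] at h5
    exact add_left_cancel h5
  set Sm : Matrix (Fin n) (Fin n) K := (S : Matrix (Fin n) (Fin n) K) with hSm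
  set Si : Matrix (Fin n) (Fin n) K := ((S⁻¹ : GL (Fin n) K) : Matrix (Fin n) (Fin n) K) with hSi
  have hSS : Si * Sm = 1 := gln_inv_mul S
  have hSS' : Sm * Si = 1 := gln_mul_inv S
  have hcomm : (Sm * T * Si) * Nb = Nb * (Sm * T * Si) := by
    have h6 : Si * Nb = N * Si := by
      calc Si * Nb = Si * Nb * (Sm * Si) := by rw [hSS', Matrix.mul_one]
        _ = Si * (Nb * Sm) * Si := by simp only [Matrix.mul_assoc]
        _ = Si * (Sm * N) * Si := by rw [hSN]
        _ = (Si * Sm) * N * Si := by simp only [Matrix.mul_assoc]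
        _ = N * Si := by rw [hSS, Matrix.one_mul]
    calc Sm * T * Si * Nb = Sm * T * (Si * Nb) := by rw [Matrix.mul_assoc]
      _ = Sm * (T * N) * Si := by rw [h6]; simp only [Matrix.mul_assoc]
      _ = Sm * (N * T) * Si := by rw [hT]
      _ = (Sm * N) * T * Si := by simp only [Matrix.mul_assoc]
      _ = Nb * (Sm * T * Si) := by rw [hSN]; simp only [Matrix.mul_assoc]
  obtain ⟨a, ha⟩ := isSquare_det_of_comm_blk K hn _ hcomm
  refine ⟨a, ?_⟩
  rw [← ha, Matrix.det_mul, Matrix.det_mul, mul_comm Sm.det, mul_assoc, ← Matrix.det_mul, hSS',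
    Matrix.det_one, mul_one]

end general

end Cfsg.Agent.Helper13.SubF
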