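import Mathlib
import Cfsg.Agent.Lib.Helper13.SubF1
import Cfsg.Agent.Lib.Helper13.SubF2

/-!
# Elements of order three in characteristic three and subfield subgroups (helper13)
-/

set_option autoImplicit false

namespace Cfsg.Agent.Helper13.SubF

open Matrix Module Cfsg.Agent.Helper13.Nilp Cfsg.Agent.Helper13.JM

section glmap

variable {F : Type*} [Field F] {n : ℕ} (F₀ : Subfield F)

/-- extension of scalars on `GL_n` -/
abbrev gm (n : ℕ) (F₀ : Subfield F) : GL (Fin n) F₀ →* GL (Fin n) F :=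
  Matrix.GeneralLinearGroup.map (F₀.subtype : F₀ →+* F)

theorem gm_val (g : GL (Fin n) F₀) :
    ((gm n F₀ g : GL (Fin n) F) : Matrix (Fin n) (Fin n) F) =
      g.1.map (F₀.subtype : F₀ →+* F) := rfl

theorem gm_jG (l : List ℕ) (hsum : l.sum = n) (hpos : ∀ a ∈ l, 0 < a) :
    gm n F₀ (jG l hsum hpos F₀) = jG l hsum hpos F := by
  apply Units.ext
  rw [gm_val, jG_val, jG_val, Matrix.map_add _ (map_add _), jN_map,
    Matrix.map_one _ (map_zero _) (map_one _)]

theorem nilMat_gm (g : GL (Fin n) F₀) :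
    nilMat (gm n F₀ g) = (nilMat g).map (F₀.subtype : F₀ →+* F) := by
  unfold nilMat
  rw [gm_val, Matrix.map_sub _ (map_sub _), Matrix.map_one _ (map_zero _) (map_one _)]

theorem rank_jG_pow (K : Type*) [Field K] (l : List ℕ) (hsum : l.sum = n)
    (hpos : ∀ a ∈ l, 0 < a) (k : ℕ) :
    (nilMat (jG l hsum hpos K) ^ k).rank = ((l : Multiset ℕ).map (fun a => a - k)).sum := by
  rw [← finrank_range_nilOf_pow, (jGcb l hsum hpos K).finrank_range_pow, jGcb_type]

/-- the ranks of the powers of the nilpotent part of a unipotent element do not change under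
extension of scalars -/
theorem rank_nilMat_gm (g : GL (Fin n) F₀) (hnil : IsNilpotent (nilMat g)) (k : ℕ) :
    (nilMat (gm n F₀ g) ^ k).rank = (nilMat g ^ k).rank := by
  obtain ⟨l, hsum, hpos, hconj, -⟩ := exists_conj_model g hnil
  have h1 : IsConj (gm n F₀ g) (jG l hsum hpos F) := by
    rw [← gm_jG]
    exact (gm n F₀).map_isConj hconj
  obtain ⟨y, hy⟩ := isConj_iff.1 hconj
  obtain ⟨y', hy'⟩ := isConj_iff.1 h1
  rw [← rank_nilMat_pow_conj g y k, hy, ← rank_nilMat_pow_conj (gm n F₀ g) y' k, hy',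
    rank_jG_pow, rank_jG_pow]

end glmap

section orderp

variable {F : Type*} [Field F] [Finite F] {n : ℕ}

/-- an element of `SL_n` whose `p`-th power is scalar, in characteristic `p`, is conjugate into the
subfield group when the determinant condition of `conj_unip_into` holds for partitions with
parts at most `p` -/
theorem conj_order_p (p : ℕ) [Fact p.Prime] [CharP F p] (F₀ : Subfield F) (hn : 0 < n)
    (x : SpecialLinearGroup (Fin n) F) (z : F)
    (hx : x.1 ^ p = z • (1 : Matrix (Fin n) (Fin n) F))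
    (hdet : ∀ (l : List ℕ) (_ : l.sum = n), (∀ a ∈ l, 0 < a) → (∀ a ∈ l, a ≤ p) →
      ∀ δ : F, δ ≠ 0 → ∃ (i₀ : Fin l.length) (α : F) (β : F₀), α ≠ 0 ∧ β ≠ 0 ∧
      α ^ (l.get i₀) * (β : F) = δ) :
    ∃ P : SpecialLinearGroup (Fin n) F, P⁻¹ * x * P ∈ subH n F₀ := by
  have : Nonempty (Fin n) := ⟨⟨0, hn⟩⟩
  have hp : p.Prime := Fact.out
  obtain ⟨c, hc⟩ := (bijective_frobenius F p).surjective z
  have hc' : c ^ p = z := hc
  have hz : z ≠ 0 := by
    intro h
    rw [h, zero_smul] at hx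
    have h1 := congrArg Matrix.det hx
    rw [Matrix.det_pow, x.2, one_pow, Matrix.det_zero] at h1
    exact one_ne_zero h1
  have hc0 : c ≠ 0 := by
    intro h
    rw [h, zero_pow hp.ne_zero] at hc'
    exact hz hc'.symm
  set g₀ : Matrix (Fin n) (Fin n) F := c⁻¹ • x.1 with hg₀
  have hg3 : g₀ ^ p = 1 := by
    rw [hg₀, smul_pow, hx, smul_smul, inv_pow, hc', inv_mul_cancel₀ hz, one_smul]
  have hp1 : p = (p - 1) + 1 := by have := hp.pos; omega
  let g : GL (Fin n) F := ⟨g₀, g₀ ^ (p - 1), by rw [← pow_succ', ← hp1, hg3],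
    by rw [← pow_succ, ← hp1, hg3]⟩
  have hxg : x.1 = c • (g : Matrix (Fin n) (Fin n) F) := by
    show x.1 = c • g₀
    rw [hg₀, smul_smul, mul_inv_cancel₀ hc0, one_smul]
  have hnil : nilMat g ^ p = 0 := by
    show (g₀ - 1) ^ p = 0
    rw [sub_pow_char_of_commute p (Commute.one_right g₀), hg3, one_pow, sub_self]
  obtain ⟨l, hsum, hpos, hconj, hle⟩ := exists_conj_model g ⟨p, hnil⟩
  exact conj_unip_into F₀ hn x c hc0 g hxg l hsum hpos hconj (hdet l hsum hpos (hle p hnil))

end orderp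

section squares

variable {F : Type*} [Field F]

theorem isSquare_div_of_not [Finite F] (hF : ringChar F ≠ 2) (a b : F) (ha : ¬ IsSquare a)
    (hb : ¬ IsSquare b) : IsSquare (a / b) := by
  let _ := Fintype.ofFinite F
  have ha0 : a ≠ 0 := by
    rintro rfl
    exact ha (IsSquare.zero)
  have hb0 : b ≠ 0 := by
    rintro rfl
    exact hb (IsSquare.zero)
  have h1 : a ^ (Fintype.card F / 2) = -1 := by
    rcases FiniteField.pow_dichotomy hF ha0 with h | h
    · exact (ha ((FiniteField.isSquare_iff hF ha0).2 h)).elim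
    · exact h
  have h2 : b ^ (Fintype.card F / 2) = -1 := by
    rcases FiniteField.pow_dichotomy hF hb0 with h | h
    · exact (hb ((FiniteField.isSquare_iff hF hb0).2 h)).elim
    · exact h
  rw [FiniteField.isSquare_iff hF (div_ne_zero ha0 hb0), div_pow, h1, h2]
  norm_num

theorem ringChar_subfield (F₀ : Subfield F) : ringChar F₀ = ringChar F :=
  ringChar.eq F₀ (ringChar F)

theorem pow_eq_pred_mul_geom (t k : ℕ) :
    (t + 1) ^ k = t * (∑ j ∈ Finset.range k, (t + 1) ^ j) + 1 := by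
  induction k with
  | zero => simp
  | succ k ih =>
    rw [Finset.sum_range_succ, mul_add, pow_succ]
    nlinarith [ih]

/-- for an extension of odd degree of finite fields of odd order, a non-square of the small field
stays a non-square -/
theorem exists_nonsquare_sub [Fintype F] (hF : ringChar F ≠ 2) (F₀ : Subfield F) (k : ℕ)
    (hk : Odd k) (hcard : Fintype.card F = (Nat.card F₀) ^ k) :
    ∃ β₀ : F₀, ¬ IsSquare ((β₀ : F₀) : F) := by
  let _ : Fintype F₀ := Fintype.ofFinite F₀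
  have hF₀ : ringChar F₀ ≠ 2 := by rw [ringChar_subfield]; exact hF
  obtain ⟨b, hb⟩ := FiniteField.exists_nonsquare hF₀
  have hb0 : b ≠ 0 := by
    rintro rfl
    exact hb (IsSquare.zero)
  have h1 : b ^ (Fintype.card F₀ / 2) = -1 := by
    rcases FiniteField.pow_dichotomy hF₀ hb0 with h | h
    · exact (hb ((FiniteField.isSquare_iff hF₀ hb0).2 h)).elim
    · exact h
  have hodd := FiniteField.odd_card_of_char_ne_two hF₀
  rw [Nat.card_eq_fintype_card] at hcard
  obtain ⟨t, ht⟩ : ∃ t, Fintype.card F₀ = 2 * t + 1 := ⟨Fintype.card F₀ / 2, by omega⟩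
  have ht2 : Fintype.card F₀ / 2 = t := by omega
  set M := ∑ j ∈ Finset.range k, (2 * t + 1) ^ j with hM
  have hq : Fintype.card F = 2 * t * M + 1 := by
    rw [hcard, ht, pow_eq_pred_mul_geom]
  have hq2 : Fintype.card F / 2 = t * M := by
    rw [hq, mul_assoc]
    omega
  have hMo : Odd M := by
    rw [hM, Finset.odd_sum_iff_odd_card_odd]
    have : (Finset.range k).filter (fun x => Odd ((2 * t + 1) ^ x)) = Finset.range k := by
      apply Finset.filter_true_of_mem
      intro x _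
      exact Odd.pow ⟨t, rfl⟩
    rw [this, Finset.card_range]
    exact hk
  refine ⟨b, ?_⟩
  intro hsq
  have hbF : ((b : F₀) : F) ≠ 0 := fun h => hb0 (Subtype.ext h)
  have h2 := (FiniteField.isSquare_iff hF hbF).1 hsq
  rw [hq2, pow_mul] at h2
  have h3 : ((b : F₀) : F) ^ t = -1 := by
    rw [ht2] at h1
    have := congrArg (fun u : F₀ => (u : F)) h1
    simpa using this
  rw [h3, hMo.neg_one_pow] at h2
  exact Ring.neg_one_ne_one_of_char_ne_two hF h2

/-- in a quadratic extension of finite fields of odd order, the small field consists of squares -/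
theorem isSquare_sub_of_two [Fintype F] (hF : ringChar F ≠ 2) (F₀ : Subfield F)
    (hcard : Fintype.card F = (Nat.card F₀) ^ 2) (a : F₀) : IsSquare ((a : F₀) : F) := by
  let _ : Fintype F₀ := Fintype.ofFinite F₀
  have hF₀ : ringChar F₀ ≠ 2 := by rw [ringChar_subfield]; exact hF
  by_cases ha : a = 0
  · rw [ha]
    exact IsSquare.zero
  have haF : ((a : F₀) : F) ≠ 0 := fun h => ha (Subtype.ext h)
  have hodd := FiniteField.odd_card_of_char_ne_two hF₀
  rw [Nat.card_eq_fintype_card] at hcard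
  obtain ⟨t, ht⟩ : ∃ t, Fintype.card F₀ = 2 * t + 1 := ⟨Fintype.card F₀ / 2, by omega⟩
  have h1 := FiniteField.pow_card_sub_one_eq_one a ha
  have h1' : ((a : F₀) : F) ^ (2 * t) = 1 := by
    rw [ht] at h1
    have := congrArg (fun u : F₀ => (u : F)) h1
    simpa using this
  have hq2 : Fintype.card F / 2 = 2 * t * (t + 1) := by
    rw [hcard, ht]
    have : (2 * t + 1) ^ 2 = 2 * (2 * t * (t + 1)) + 1 := by ring
    omega
  rw [FiniteField.isSquare_iff hF haF, hq2, pow_mul, h1', one_pow]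

end squares

section hdet

variable {F : Type*} [Field F] [Finite F] {n : ℕ}

theorem sum_of_all_two (l : List ℕ) (h : ∀ a ∈ l, a = 2) : l.sum = 2 * l.length := by
  rw [List.sum_eq_card_nsmul l 2 h, smul_eq_mul, mul_comm]

/-- the determinant condition in characteristic three -/
theorem hdet_three [CharP F 3] (F₀ : Subfield F) (hn : 0 < n)
    (hcond : Odd n ∨ ∃ β₀ : F₀, ¬ IsSquare ((β₀ : F₀) : F))
    (l : List ℕ) (hsum : l.sum = n) (hpos : ∀ a ∈ l, 0 < a) (hle : ∀ a ∈ l, a ≤ 3)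
    (δ : F) (hδ : δ ≠ 0) :
    ∃ (i₀ : Fin l.length) (α : F) (β : F₀), α ≠ 0 ∧ β ≠ 0 ∧
      α ^ (l.get i₀) * ((β : F₀) : F) = δ := by
  by_cases h : ∃ a ∈ l, Odd a
  · obtain ⟨a, ha, hodd⟩ := h
    obtain ⟨i₀, hi₀⟩ := List.mem_iff_get.1 ha
    have h1 := hpos a ha
    have h2 := hle a ha
    have h3 : a = 1 ∨ a = 3 := by
      rcases hodd with ⟨t, ht⟩
      omega
    rcases h3 with rfl | rfl
    · refine ⟨i₀, δ, 1, hδ, one_ne_zero, ?_⟩
      rw [hi₀]
      simp
    · obtain ⟨c, hc⟩ := (bijective_frobenius F 3).surjective δ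
      have hc' : c ^ 3 = δ := hc
      refine ⟨i₀, c, 1, ?_, one_ne_zero, ?_⟩
      · rintro rfl
        apply hδ
        rw [← hc']
        simp
      · rw [hi₀, hc']
        simp
  · push Not at h
    have hall : ∀ a ∈ l, a = 2 := by
      intro a ha
      have h1 := hpos a ha
      have h2 := hle a ha
      have h3 := h a ha
      rw [Nat.not_odd_iff_even] at h3
      rcases h3 with ⟨t, ht⟩
      omega
    have hn2 : n = 2 * l.length := by rw [← hsum, sum_of_all_two l hall]
    have hlen : 0 < l.length := by omega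
    have hget : l.get ⟨0, hlen⟩ = 2 := hall _ (List.get_mem l _)
    have hF : ringChar F ≠ 2 := by
      rw [ringChar.eq F 3]
      norm_num
    rcases hcond with hodd | ⟨β₀, hβ₀⟩
    · exfalso
      rw [hn2] at hodd
      exact (Nat.not_odd_iff_even.2 (even_two_mul _)) hodd
    · by_cases hsq : IsSquare δ
      · obtain ⟨s, hs⟩ := hsq
        refine ⟨⟨0, hlen⟩, s, 1, ?_, one_ne_zero, ?_⟩
        · rintro rfl
          apply hδ
          rw [hs]
          simp
        · rw [hget, hs]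
          simp [pow_two]
      · obtain ⟨s, hs⟩ := isSquare_div_of_not hF δ β₀ hsq hβ₀
        have hβF : ((β₀ : F₀) : F) ≠ 0 := by
          intro h0
          apply hβ₀
          rw [h0]
          exact IsSquare.zero
        refine ⟨⟨0, hlen⟩, s, β₀, ?_, ?_, ?_⟩
        · rintro rfl
          rw [mul_zero] at hs
          exact (div_ne_zero hδ hβF) hs
        · rintro rfl
          exact hβF rfl
        · rw [hget, pow_two, ← hs, div_mul_cancel₀ _ hβF]

/-- the determinant condition in characteristic two -/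
theorem hdet_two [CharP F 2] (F₀ : Subfield F) (hn : 0 < n)
    (l : List ℕ) (hsum : l.sum = n) (hpos : ∀ a ∈ l, 0 < a) (hle : ∀ a ∈ l, a ≤ 2)
    (δ : F) (hδ : δ ≠ 0) :
    ∃ (i₀ : Fin l.length) (α : F) (β : F₀), α ≠ 0 ∧ β ≠ 0 ∧
      α ^ (l.get i₀) * ((β : F₀) : F) = δ := by
  have hlen : 0 < l.length := by
    rcases l with _ | ⟨a, l⟩
    · simp at hsum
      omega
    · simp
  have h1 := hpos _ (List.get_mem l ⟨0, hlen⟩)
  have h2 := hle _ (List.get_mem l ⟨0, hlen⟩)
  have h3 : l.get ⟨0, hlen⟩ = 1 ∨ l.get ⟨0, hlen⟩ = 2 := by omega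
  rcases h3 with h3 | h3
  · refine ⟨⟨0, hlen⟩, δ, 1, hδ, one_ne_zero, ?_⟩
    rw [h3]
    simp
  · obtain ⟨c, hc⟩ := (bijective_frobenius F 2).surjective δ
    have hc' : c ^ 2 = δ := hc
    refine ⟨⟨0, hlen⟩, c, 1, ?_, one_ne_zero, ?_⟩
    · rintro rfl
      apply hδ
      rw [← hc']
      simp
    · rw [h3, hc']
      simp

end hdet

section bad

variable {F : Type*} [Field F] {n m : ℕ}

theorem det_one_add_Nblk (K : Type*) [Field K] (hn : n = 2 * m) : (1 + Nblk K hn).det = 1 := by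
  have h1 : (1 + Nblk K hn) =
      (Matrix.fromBlocks 1 1 0 1 : Matrix (Fin m ⊕ Fin m) (Fin m ⊕ Fin m) K).submatrix
        (eNM hn).symm (eNM hn).symm := by
    have h2 : (Matrix.fromBlocks 1 1 0 1 : Matrix (Fin m ⊕ Fin m) (Fin m ⊕ Fin m) K) =
        1 + Matrix.fromBlocks 0 1 0 0 := by
      rw [← Matrix.fromBlocks_one, Matrix.fromBlocks_add]
      simp
    rw [h2]
    ext i j
    simp [Nblk, Matrix.add_apply, Matrix.one_apply]
  rw [h1, Matrix.det_submatrix_equiv_self, Matrix.det_fromBlocks_zero₂₁, Matrix.det_one, mul_one]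

/-- the nilpotent part of the bad element -/
noncomputable def NX (hn : n = 2 * m) (hn0 : 0 < n) (ν : F) : Matrix (Fin n) (Fin n) F :=
  dg F n hn0 ν * Nblk F hn * dg F n hn0 ν⁻¹

theorem NX_sq (hn : n = 2 * m) (hn0 : 0 < n) (ν : F) (hν : ν ≠ 0) :
    NX hn hn0 ν * NX hn hn0 ν = 0 := by
  unfold NX
  have h1 : dg F n hn0 ν⁻¹ * dg F n hn0 ν = 1 := by
    rw [dg_mul_dg, inv_mul_cancel₀ hν, dg_one]
  calc dg F n hn0 ν * Nblk F hn * dg F n hn0 ν⁻¹ * (dg F n hn0 ν * Nblk F hn * dg F n hn0 ν⁻¹)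
      = dg F n hn0 ν * Nblk F hn * (dg F n hn0 ν⁻¹ * dg F n hn0 ν) * Nblk F hn *
          dg F n hn0 ν⁻¹ := by simp only [Matrix.mul_assoc]
    _ = dg F n hn0 ν * (Nblk F hn * Nblk F hn) * dg F n hn0 ν⁻¹ := by
        rw [h1, Matrix.mul_one]
        simp only [Matrix.mul_assoc]
    _ = 0 := by rw [Nblk_sq, Matrix.mul_zero, Matrix.zero_mul]

theorem rank_NX (hn : n = 2 * m) (hn0 : 0 < n) (ν : F) (hν : ν ≠ 0) :
    (NX hn hn0 ν).rank = m := by
  unfold NX
  rw [Matrix.rank_mul_eq_left_of_isUnit_det, Matrix.rank_mul_eq_right_of_isUnit_det, rank_Nblk]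
  · rw [det_dg]
    exact (isUnit_iff_ne_zero.2 hν)
  · rw [det_dg]
    exact (isUnit_iff_ne_zero.2 (inv_ne_zero hν))

theorem one_add_NX (hn : n = 2 * m) (hn0 : 0 < n) (ν : F) (hν : ν ≠ 0) :
    1 + NX hn hn0 ν = dg F n hn0 ν * (1 + Nblk F hn) * dg F n hn0 ν⁻¹ := by
  unfold NX
  rw [Matrix.mul_add, Matrix.add_mul, Matrix.mul_one, dg_mul_dg, mul_inv_cancel₀ hν, dg_one]

theorem det_one_add_NX (hn : n = 2 * m) (hn0 : 0 < n) (ν : F) (hν : ν ≠ 0) :
    (1 + NX hn hn0 ν).det = 1 := by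
  rw [one_add_NX hn hn0 ν hν, Matrix.det_mul, Matrix.det_mul, det_dg, det_dg, det_one_add_Nblk,
    mul_one, mul_inv_cancel₀ hν]

theorem comm_aux (Q Pi Pm D D' U : Matrix (Fin n) (Fin n) F) (hP : Pm * Pi = 1)
    (hD : D' * D = 1) (h : Q * (Pi * (D * U * D') * Pm) = U * Q) :
    (Q * Pi * D) * U = U * (Q * Pi * D) := by
  calc (Q * Pi * D) * U = Q * (Pi * (D * U)) := by simp only [Matrix.mul_assoc]
    _ = Q * (Pi * (D * (U * (D' * (Pm * (Pi * D)))))) := by
        rw [← Matrix.mul_assoc Pm Pi D, hP, Matrix.one_mul, hD, Matrix.mul_one]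
    _ = Q * (Pi * (D * U * D') * Pm) * (Pi * D) := by simp only [Matrix.mul_assoc]
    _ = U * (Q * Pi * D) := by
        rw [h]
        simp only [Matrix.mul_assoc]

end bad

end Cfsg.Agent.Helper13.SubF
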