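import Mathlib
import Cfsg.Agent.Lib.Helper13.SubF3

/-!
# The bad unipotent element of order three and the subfield subgroup (helper13)
-/

set_option autoImplicit false

namespace Cfsg.Agent.Helper13.SubF

open Matrix Module Cfsg.Agent.Helper13.Nilp Cfsg.Agent.Helper13.JM

section notconj

variable {F : Type*} [Field F] {n m : ℕ}

theorem not_conj_bad [Finite F] [CharP F 3] (F₀ : Subfield F) (hn : n = 2 * m)
    (hn0 : 0 < n) (hsq : ∀ a : F₀, IsSquare ((a : F₀) : F)) (ν : F) (hν : ¬ IsSquare ν)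
    (x : SpecialLinearGroup (Fin n) F) (hx : x.1 = 1 + NX hn hn0 ν)
    (P : SpecialLinearGroup (Fin n) F) (hP : P⁻¹ * x * P ∈ subH n F₀) : False := by
  classical
  have : Nonempty (Fin n) := ⟨⟨0, hn0⟩⟩
  have hν0 : ν ≠ 0 := by
    rintro rfl
    exact hν IsSquare.zero
  set y := P⁻¹ * x * P with hy
  obtain ⟨A, c, hc, hyA⟩ := exists_of_mem_subH F₀ y hP
  set N := NX hn hn0 ν with hN
  have hNN : N * N = 0 := NX_sq hn hn0 ν hν0
  set Pm : Matrix (Fin n) (Fin n) F := P.1 with hPm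
  set Pi : Matrix (Fin n) (Fin n) F := (P⁻¹).1 with hPi
  have hPiPm : Pi * Pm = 1 := by
    rw [hPi, hPm, ← Matrix.SpecialLinearGroup.coe_mul, inv_mul_cancel,
      Matrix.SpecialLinearGroup.coe_one]
  have hPmPi : Pm * Pi = 1 := by
    rw [hPi, hPm, ← Matrix.SpecialLinearGroup.coe_mul, mul_inv_cancel,
      Matrix.SpecialLinearGroup.coe_one]
  have hy0 : y.1 = Pi * x.1 * Pm := by
    rw [hy, Matrix.SpecialLinearGroup.coe_mul, Matrix.SpecialLinearGroup.coe_mul]
  have hy1 : y.1 = 1 + Pi * N * Pm := by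
    rw [hy0, hx, Matrix.mul_add, Matrix.add_mul, Matrix.mul_one, hPiPm]
  set Ny := Pi * N * Pm with hNy
  have hNy2 : Ny * Ny = 0 := by
    calc Ny * Ny = Pi * N * (Pm * Pi) * N * Pm := by
          rw [hNy]
          simp only [Matrix.mul_assoc]
      _ = Pi * (N * N) * Pm := by
          rw [hPmPi, Matrix.mul_one]
          simp only [Matrix.mul_assoc]
      _ = 0 := by rw [hNN, Matrix.mul_zero, Matrix.zero_mul]
  have hy3 : y.1 ^ 3 = 1 := by
    rw [hy1, add_pow_char_of_commute 3 (Commute.one_left _), one_pow, pow_succ, pow_two, hNy2,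
      Matrix.zero_mul, add_zero]
  set ι : F₀ →+* F := F₀.subtype with hι
  have h3 : c ^ 3 • (A.1 ^ 3).map ι = 1 := by
    rw [Matrix.map_pow, ← smul_pow, ← hyA, hy3]
  set e : F₀ := (A.1 ^ 3) ⟨0, hn0⟩ ⟨0, hn0⟩ with he
  have hce : c ^ 3 * ((e : F₀) : F) = 1 := by
    have h4 := congrFun (congrFun h3 ⟨0, hn0⟩) ⟨0, hn0⟩
    simp only [Matrix.smul_apply, Matrix.map_apply, Matrix.one_apply_eq, smul_eq_mul] at h4
    exact h4
  obtain ⟨d, hd⟩ := (bijective_frobenius F₀ 3).surjective e⁻¹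
  have hd' : d ^ 3 = e⁻¹ := hd
  have hcd : c = ((d : F₀) : F) := by
    apply frobenius_inj F 3
    show c ^ 3 = ((d : F₀) : F) ^ 3
    have h5 : ((d : F₀) : F) ^ 3 = ((e : F₀) : F)⁻¹ := by
      have h6 : ((d : F₀) : F) ^ 3 = ι (d ^ 3) := (map_pow ι d 3).symm
      rw [h6, hd', map_inv₀]
      rfl
    rw [h5]
    exact eq_inv_of_mul_eq_one_left hce
  set A' : Matrix (Fin n) (Fin n) F₀ := d • A.1 with hA'
  have hA'map : A'.map ι = y.1 := by
    rw [hyA, hcd]
    ext i j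
    simp [hA', Matrix.map_apply, Matrix.smul_apply, hι]
  have hinj : Function.Injective (fun M : Matrix (Fin n) (Fin n) F₀ => M.map ι) :=
    Matrix.map_injective F₀.subtype_injective
  have hA'3 : A' ^ 3 = 1 := by
    apply hinj
    show (A' ^ 3).map ι = (1 : Matrix (Fin n) (Fin n) F₀).map ι
    rw [Matrix.map_pow, hA'map, hy3, Matrix.map_one _ (map_zero _) (map_one _)]
  let A'' : GL (Fin n) F₀ := ⟨A', A' ^ 2, by rw [← pow_succ', hA'3], by rw [← pow_succ, hA'3]⟩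
  have hgm : ((gm n F₀ A'' : GL (Fin n) F) : Matrix (Fin n) (Fin n) F) = y.1 := hA'map
  have hnil_gm : nilMat (gm n F₀ A'') = Ny := by
    unfold nilMat
    rw [hgm, hy1, add_sub_cancel_left]
  have hnilA : (nilMat A'').map ι = Ny := by rw [← nilMat_gm, hnil_gm]
  have hnilA2 : nilMat A'' * nilMat A'' = 0 := by
    apply hinj
    show (nilMat A'' * nilMat A'').map ι = (0 : Matrix (Fin n) (Fin n) F₀).map ι
    rw [Matrix.map_mul, hnilA, hNy2, Matrix.map_zero _ (map_zero _)]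
  have hrankNy : Ny.rank = m := by
    rw [hNy, Matrix.rank_mul_eq_left_of_isUnit_det, Matrix.rank_mul_eq_right_of_isUnit_det,
      hN, rank_NX hn hn0 ν hν0]
    · rw [hPi, (P⁻¹).2]
      exact isUnit_one
    · rw [hPm, P.2]
      exact isUnit_one
  have hrank : (nilMat A'').rank = m := by
    have h6 := rank_nilMat_gm F₀ A'' ⟨2, by rw [pow_two, hnilA2]⟩ 1
    rw [pow_one, pow_one, hnil_gm, hrankNy] at h6
    exact h6.symm
  -- the model over the small field
  have hb2 : Nblk F₀ hn * Nblk F₀ hn = 0 := Nblk_sq F₀ hn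
  have hv1 : (1 + Nblk F₀ hn) * (1 - Nblk F₀ hn) = 1 := by
    rw [Matrix.mul_sub, Matrix.add_mul, Matrix.add_mul, Matrix.one_mul, Matrix.mul_one,
      Matrix.one_mul, hb2]
    abel
  have hv2 : (1 - Nblk F₀ hn) * (1 + Nblk F₀ hn) = 1 := by
    rw [Matrix.mul_add, Matrix.sub_mul, Matrix.sub_mul, Matrix.one_mul, Matrix.mul_one,
      Matrix.one_mul, hb2]
    abel
  let g' : GL (Fin n) F₀ := ⟨1 + Nblk F₀ hn, 1 - Nblk F₀ hn, hv1, hv2⟩
  have hg' : nilMat g' = Nblk F₀ hn := by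
    show (1 + Nblk F₀ hn) - 1 = Nblk F₀ hn
    rw [add_sub_cancel_left]
  have hconj : IsConj A'' g' := by
    apply isConj_of_ranks
    · exact ⟨2, by rw [pow_two, hnilA2]⟩
    · exact ⟨2, by rw [hg', pow_two, hb2]⟩
    · intro k
      rw [hg']
      rcases k with _ | _ | k
      · rw [pow_zero, pow_zero]
      · rw [zero_add, pow_one, pow_one, hrank, rank_Nblk]
      · rw [pow_succ_succ_eq_zero _ hnilA2, pow_succ_succ_eq_zero _ hb2]
  obtain ⟨Q, hQ⟩ := isConj_iff.1 hconj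
  have hQ1 : (Q : Matrix (Fin n) (Fin n) F₀) * A' =
      (1 + Nblk F₀ hn) * (Q : Matrix (Fin n) (Fin n) F₀) := by
    have h7 : Q * A'' = g' * Q := by rw [← hQ]; group
    exact congrArg (fun u : GL (Fin n) F₀ => (u : Matrix (Fin n) (Fin n) F₀)) h7
  set Qm : Matrix (Fin n) (Fin n) F := (Q : Matrix (Fin n) (Fin n) F₀).map ι with hQm
  have hQ2 : Qm * y.1 = (1 + Nblk F hn) * Qm := by
    have h8 := congrArg (fun M : Matrix (Fin n) (Fin n) F₀ => M.map ι) hQ1
    simp only [Matrix.map_mul] at h8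
    rw [hA'map, Matrix.map_add _ (map_add _), Matrix.map_one _ (map_zero _) (map_one _),
      Nblk_map] at h8
    exact h8
  have hD : dg F n hn0 ν⁻¹ * dg F n hn0 ν = 1 := by
    rw [dg_mul_dg, inv_mul_cancel₀ hν0, dg_one]
  have hT := comm_aux Qm Pi Pm (dg F n hn0 ν) (dg F n hn0 ν⁻¹) (1 + Nblk F hn) hPmPi hD (by
    rw [← one_add_NX hn hn0 ν hν0, ← hx, ← hy0]
    exact hQ2)
  have hT' : (Qm * Pi * dg F n hn0 ν) * Nblk F hn = Nblk F hn * (Qm * Pi * dg F n hn0 ν) := by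
    rw [Matrix.mul_add, Matrix.add_mul, Matrix.mul_one, Matrix.one_mul] at hT
    exact add_left_cancel hT
  obtain ⟨a, ha⟩ := isSquare_det_of_comm_blk F hn _ hT'
  rw [Matrix.det_mul, Matrix.det_mul, det_dg, hPi, (P⁻¹).2, mul_one] at ha
  have hQdet : Qm.det = ((((Q : Matrix (Fin n) (Fin n) F₀).det : F₀)) : F) := by
    rw [hQm]
    exact (RingHom.map_det ι _).symm
  obtain ⟨s, hs⟩ := hsq (Q : Matrix (Fin n) (Fin n) F₀).det
  have hQ0 : (Q : Matrix (Fin n) (Fin n) F₀).det ≠ 0 := by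
    have h9 : (Q : Matrix (Fin n) (Fin n) F₀).det *
        ((Q⁻¹ : GL (Fin n) F₀) : Matrix (Fin n) (Fin n) F₀).det = 1 := by
      rw [← Matrix.det_mul, gln_mul_inv, Matrix.det_one]
    intro h0
    rw [h0, zero_mul] at h9
    exact zero_ne_one h9
  have hs0 : s ≠ 0 := by
    rintro rfl
    apply hQ0
    apply Subtype.ext
    rw [hs]
    simp
  apply hν
  refine ⟨a / s, ?_⟩
  rw [hQdet, hs] at ha
  field_simp
  linear_combination ha

theorem NX_ne_smul_one (hn : n = 2 * m) (hm : 0 < m) (hn0 : 0 < n) (ν : F) (hν : ν ≠ 0) (z : F) :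
    (1 : Matrix (Fin n) (Fin n) F) + NX hn hn0 ν ≠ z • (1 : Matrix (Fin n) (Fin n) F) := by
  intro h
  have h1 : NX hn hn0 ν = (z - 1) • (1 : Matrix (Fin n) (Fin n) F) := by
    rw [sub_smul, one_smul, ← h, add_sub_cancel_left]
  have h2 := NX_sq hn hn0 ν hν
  rw [h1, Matrix.smul_mul, Matrix.mul_smul, Matrix.one_mul, smul_smul] at h2
  have h3 := congrFun (congrFun h2 ⟨0, hn0⟩) ⟨0, hn0⟩
  simp only [Matrix.smul_apply, Matrix.one_apply_eq, smul_eq_mul, mul_one, Matrix.zero_apply,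
    mul_self_eq_zero] at h3
  rw [h3, zero_smul] at h1
  have h4 := rank_NX hn hn0 ν hν
  rw [h1, Matrix.rank_zero] at h4
  omega

/-- the criterion for elements of order three in characteristic three -/
theorem order_three_iff [Fintype F] [CharP F 3] (F₀ : Subfield F) (n : ℕ) (hn : 2 ≤ n) (k : ℕ)
    (hk : k.Prime) (hcard : Fintype.card F = Nat.card F₀ ^ k) :
    (∀ x : SpecialLinearGroup (Fin n) F,
      (∃ z : F, ((x ^ 3 : SpecialLinearGroup (Fin n) F) : Matrix (Fin n) (Fin n) F) =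
        z • (1 : Matrix (Fin n) (Fin n) F)) →
      (∀ z : F, (x : Matrix (Fin n) (Fin n) F) ≠ z • (1 : Matrix (Fin n) (Fin n) F)) →
      ∃ P : SpecialLinearGroup (Fin n) F, P⁻¹ * x * P ∈ subH n F₀) ↔
    (Odd n ∨ (Even n ∧ 2 < k)) := by
  have hn0 : 0 < n := by omega
  have hF : ringChar F ≠ 2 := by
    rw [ringChar.eq F 3]
    norm_num
  have : Nonempty (Fin n) := ⟨⟨0, hn0⟩⟩
  constructor
  · intro h
    by_contra hne
    push Not at hne
    obtain ⟨hodd, hev⟩ := hne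
    rw [Nat.not_odd_iff_even] at hodd
    have hk2 : k = 2 := by
      have h1 := hev hodd
      have h2 := hk.two_le
      omega
    obtain ⟨m, hm⟩ := hodd
    have hn2 : n = 2 * m := by omega
    have hm0 : 0 < m := by omega
    rw [hk2] at hcard
    obtain ⟨ν, hν⟩ := FiniteField.exists_nonsquare hF
    have hν0 : ν ≠ 0 := by
      rintro rfl
      exact hν IsSquare.zero
    obtain ⟨x, hx⟩ : ∃ x : SpecialLinearGroup (Fin n) F, x.1 = 1 + NX hn2 hn0 ν :=
      ⟨⟨_, det_one_add_NX hn2 hn0 ν hν0⟩, rfl⟩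
    have hx3 : ((x ^ 3 : SpecialLinearGroup (Fin n) F) : Matrix (Fin n) (Fin n) F) =
        (1 : F) • (1 : Matrix (Fin n) (Fin n) F) := by
      rw [Matrix.SpecialLinearGroup.coe_pow, hx, add_pow_char_of_commute 3 (Commute.one_left _),
        one_pow, pow_succ, pow_two, NX_sq hn2 hn0 ν hν0, Matrix.zero_mul, add_zero, one_smul]
    obtain ⟨P, hP⟩ := h x ⟨1, hx3⟩ (fun z => by
      rw [hx]
      exact NX_ne_smul_one hn2 hm0 hn0 ν hν0 z)
    exact not_conj_bad F₀ hn2 hn0 (isSquare_sub_of_two hF F₀ hcard) ν hν x hx P hP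
  · rintro hcond x ⟨z, hz⟩ -
    have hcond' : Odd n ∨ ∃ β₀ : F₀, ¬ IsSquare ((β₀ : F₀) : F) := by
      rcases hcond with h | ⟨-, h⟩
      · exact Or.inl h
      · right
        exact exists_nonsquare_sub hF F₀ k (hk.odd_of_ne_two (by omega)) hcard
    apply conj_order_p 3 F₀ hn0 x z (by rw [← Matrix.SpecialLinearGroup.coe_pow]; exact hz)
    intro l hsum hpos hle δ hδ
    exact hdet_three F₀ hn0 hcond' l hsum hpos hle δ hδ

end notconj

end Cfsg.Agent.Helper13.SubF
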