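import Mathlib
import Cfsg.Agent.Lib.Helper13.SubF4
import Cfsg.Agent.Lib.Helper13.SpSim2
import Cfsg.Agent.Lib.Helper2.CardSL

/-!
# Involutions of `PSL_n(q)` and subfield subgroups (helper13)
-/

set_option autoImplicit false

namespace Cfsg.Agent.Helper13.SubF

open Matrix Module Polynomial Cfsg.Agent.Helper13.Nilp Cfsg.Agent.Helper13.JM

section arith

theorem pow_sub_pow_factor (q₀ k n i : ℕ) (hq₀ : 1 ≤ q₀) (hk : 1 ≤ k) (hi : i ≤ n) :
    (q₀ ^ k) ^ n - (q₀ ^ k) ^ i = (q₀ ^ n - q₀ ^ i) *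
      (q₀ ^ (i * (k - 1)) * ∑ l ∈ Finset.range k, (q₀ ^ (n - i)) ^ l) := by
  obtain ⟨t, ht⟩ : ∃ t, q₀ ^ (n - i) = t + 1 := ⟨q₀ ^ (n - i) - 1, by
    have : 1 ≤ q₀ ^ (n - i) := Nat.one_le_pow _ _ hq₀
    omega⟩
  rw [ht]
  have h1 : (q₀ ^ k) ^ n = q₀ ^ (i * k) * (t + 1) ^ k := by
    rw [← ht, ← pow_mul, ← pow_mul, ← pow_add]
    congr 1
    have : n = i + (n - i) := by omega
    nth_rewrite 1 [this]
    ring
  have h2 : (q₀ ^ k) ^ i = q₀ ^ (i * k) := by rw [← pow_mul, mul_comm]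
  have h3 : q₀ ^ n = q₀ ^ i * (t + 1) := by
    rw [← ht, ← pow_add]
    congr 1
    omega
  have h4 : q₀ ^ (i * k) = q₀ ^ i * q₀ ^ (i * (k - 1)) := by
    rw [← pow_add]
    congr 1
    obtain ⟨k', rfl⟩ : ∃ k', k = k' + 1 := ⟨k - 1, by omega⟩
    rw [Nat.add_sub_cancel]
    ring
  rw [h1, h2, h3, pow_eq_pred_mul_geom t k]
  have h5 : q₀ ^ (i * k) * (t * ∑ j ∈ Finset.range k, (t + 1) ^ j + 1) - q₀ ^ (i * k) =
      q₀ ^ (i * k) * (t * ∑ j ∈ Finset.range k, (t + 1) ^ j) := by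
    rw [mul_add, mul_one, Nat.add_sub_cancel]
  have h6 : q₀ ^ i * (t + 1) - q₀ ^ i = q₀ ^ i * t := by
    rw [mul_add, mul_one, Nat.add_sub_cancel]
  rw [h5, h6, h4]
  ring

theorem odd_geom_sum (a k : ℕ) (ha : Odd a) (hk : Odd k) :
    Odd (∑ l ∈ Finset.range k, a ^ l) := by
  rw [Finset.odd_sum_iff_odd_card_odd]
  have : (Finset.range k).filter (fun x => Odd (a ^ x)) = Finset.range k := by
    apply Finset.filter_true_of_mem
    intro x _
    exact ha.pow
  rw [this, Finset.card_range]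
  exact hk

theorem odd_finprod {ι : Type*} (s : Finset ι) (f : ι → ℕ) (h : ∀ i ∈ s, Odd (f i)) :
    Odd (∏ i ∈ s, f i) := by
  classical
  induction s using Finset.induction_on with
  | empty => simp
  | insert a s ha ih =>
    rw [Finset.prod_insert ha]
    exact (h a (Finset.mem_insert_self a s)).mul (ih (fun i hi => h i (Finset.mem_insert_of_mem hi)))

/-- the orders of `SL_n(q₀ ^ k)` and `SL_n(q₀)` have the same 2-part for `q₀`, `k` odd -/
theorem card_SL_two_part (q₀ k n A A₀ : ℕ) (hq₀ : Odd q₀) (hq1 : 1 < q₀) (hk : Odd k)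
    (hA₀ : 0 < A₀)
    (h1 : (q₀ ^ k - 1) * A = ∏ i : Fin n, ((q₀ ^ k) ^ n - (q₀ ^ k) ^ (i : ℕ)))
    (h2 : (q₀ - 1) * A₀ = ∏ i : Fin n, (q₀ ^ n - q₀ ^ (i : ℕ))) : ¬ 2 * A₀ ∣ A := by
  have hk1 : 1 ≤ k := by
    rcases hk with ⟨t, ht⟩
    omega
  rintro ⟨s, hs⟩
  have h3 : ∏ i : Fin n, ((q₀ ^ k) ^ n - (q₀ ^ k) ^ (i : ℕ)) =
      (∏ i : Fin n, (q₀ ^ n - q₀ ^ (i : ℕ))) *
      ∏ i : Fin n, (q₀ ^ ((i : ℕ) * (k - 1)) * ∑ l ∈ Finset.range k, (q₀ ^ (n - (i : ℕ))) ^ l) := by
    rw [← Finset.prod_mul_distrib]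
    apply Finset.prod_congr rfl
    intro i _
    exact pow_sub_pow_factor q₀ k n i (by omega) hk1 (le_of_lt i.2)
  set O := ∏ i : Fin n, (q₀ ^ ((i : ℕ) * (k - 1)) *
    ∑ l ∈ Finset.range k, (q₀ ^ (n - (i : ℕ))) ^ l) with hO
  have hOodd : Odd O := by
    apply odd_finprod
    intro i _
    exact (hq₀.pow).mul (odd_geom_sum _ k hq₀.pow hk)
  obtain ⟨t, ht⟩ : ∃ t, q₀ = t + 1 := ⟨q₀ - 1, by omega⟩
  have h4 : q₀ ^ k - 1 = (q₀ - 1) * ∑ j ∈ Finset.range k, q₀ ^ j := by
    rw [ht, pow_eq_pred_mul_geom t k, Nat.add_sub_cancel, Nat.add_sub_cancel]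
  set M := ∑ j ∈ Finset.range k, q₀ ^ j with hM
  rw [h3, ← h2, h4, hs] at h1
  have h5 : (q₀ - 1) * A₀ * (2 * (M * s)) = (q₀ - 1) * A₀ * O := by
    rw [← h1]
    ring
  have h6 : 0 < (q₀ - 1) * A₀ := Nat.mul_pos (by omega) hA₀
  have h7 := Nat.eq_of_mul_eq_mul_left h6 h5
  rw [← h7] at hOodd
  exact (Nat.not_odd_iff_even.2 (even_two_mul _)) hOodd

end arith

section index

variable {F : Type*} [Field F] {n : ℕ}

/-- extension of scalars on `SL_n` -/
noncomputable def slMap (n : ℕ) (F₀ : Subfield F) :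
    SpecialLinearGroup (Fin n) F₀ →* SpecialLinearGroup (Fin n) F :=
  Matrix.SpecialLinearGroup.map (F₀.subtype : F₀ →+* F)

theorem slMap_val (F₀ : Subfield F) (A : SpecialLinearGroup (Fin n) F₀) :
    (slMap n F₀ A).1 = A.1.map (F₀.subtype : F₀ →+* F) := rfl

theorem slMap_injective (F₀ : Subfield F) : Function.Injective (slMap n F₀) := by
  intro A B h
  apply Subtype.ext
  have h1 := congrArg Subtype.val h
  rw [slMap_val, slMap_val] at h1
  exact Matrix.map_injective F₀.subtype_injective h1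

theorem slMap_range_le (F₀ : Subfield F) : (slMap n F₀).range ≤ subH n F₀ := by
  rintro _ ⟨A, rfl⟩
  apply mem_subH_of F₀ _ 1 one_ne_zero (SpecialLinearGroup.toGL A)
  rw [one_smul, slMap_val]
  rfl

/-- for `q` odd and `k` odd the subfield subgroup has odd index -/
theorem index_odd [Fintype F] (F₀ : Subfield F) (k : ℕ) (hk : Odd k)
    (hodd : Odd (Fintype.card F)) (hcard : Fintype.card F = Nat.card F₀ ^ k) (hn : 1 ≤ n) :
    ¬ 2 ∣ (subH n F₀).index := by
  classical
  let _ : Fintype F₀ := Fintype.ofFinite F₀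
  rw [Nat.card_eq_fintype_card] at hcard
  intro h2
  have hk0 : k ≠ 0 := by
    rintro rfl
    exact (Nat.not_odd_iff_even.2 (by decide : Even 0)) hk
  have hq₀odd : Odd (Fintype.card F₀) := by
    rw [hcard] at hodd
    exact (Nat.odd_pow_iff hk0).1 hodd
  have hq1 : 1 < Fintype.card F₀ := Fintype.one_lt_card
  have h3 : Nat.card (slMap n F₀).range = Nat.card (SpecialLinearGroup (Fin n) F₀) :=
    Nat.card_range_of_injective (slMap_injective F₀)
  have h4 : Nat.card (slMap n F₀).range ∣ Nat.card (subH n F₀) :=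
    Subgroup.card_dvd_of_le (slMap_range_le F₀)
  have h5 : 2 * Nat.card (SpecialLinearGroup (Fin n) F₀) ∣
      Nat.card (SpecialLinearGroup (Fin n) F) := by
    rw [← h3, ← Subgroup.index_mul_card (subH n F₀)]
    exact Nat.mul_dvd_mul h2 h4
  have h6 := Cfsg.Agent.Helper2.card_SL_mul (F := F) n hn
  have h7 := Cfsg.Agent.Helper2.card_SL_mul (F := F₀) n hn
  rw [hcard] at h6
  exact card_SL_two_part (Fintype.card F₀) k n _ _ hq₀odd hq1 hk Nat.card_pos h6 h7 h5

end index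

section split

open Cfsg.Agent.Helper13.SpSim Cfsg.Agent.Helper13.FN

variable {F : Type*} [Field F] {n : ℕ}

theorem prod_sgn (a : F) (t : ℕ) (ht : t ≤ n) :
    ∏ j : Fin n, (X - C (a * sgn n t j) : F[X]) = (X - C a) ^ (n - t) * (X + C a) ^ t := by
  have h3 : ∀ j : Fin n, (X - C (a * sgn n t j) : F[X]) =
      if (j : ℕ) < t then X + C a else X - C a := by
    intro j
    unfold sgn
    split_ifs
    · rw [mul_neg, mul_one, C_neg, sub_neg_eq_add]
    · rw [mul_one]
  simp only [h3]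
  rw [Finset.prod_ite, Finset.prod_const, Finset.prod_const, mul_comm]
  congr 2
  · have h4 := Finset.card_filter_add_card_filter_not (s := (Finset.univ : Finset (Fin n)))
      (fun j : Fin n => (j : ℕ) < t)
    have h5 : (Finset.univ.filter (fun j : Fin n => (j : ℕ) < t)).card = t := by
      rw [Fin.card_filter_val_lt, min_eq_right ht]
    rw [Finset.card_univ, Fintype.card_fin] at h4
    omega
  · rw [Fin.card_filter_val_lt, min_eq_right ht]

theorem sgn_map (F₀ : Subfield F) (t : ℕ) (j : Fin n) :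
    ((sgn (F := F₀) n t j : F₀) : F) = sgn n t j := by
  unfold sgn
  split_ifs <;> simp

/-- odd characteristic: an element of `SL_n` whose square is a scalar which is a square is conjugate
into the subfield group -/
theorem conj_invol_split [Fintype F] {p : ℕ} [Fact p.Prime] [CharP F p] (hp2 : p ≠ 2)
    (F₀ : Subfield F) (x : SpecialLinearGroup (Fin n) F) (a : F) (ha : a ≠ 0)
    (hx : (x ^ 2 : SpecialLinearGroup (Fin n) F).1 = (a * a) • (1 : Matrix (Fin n) (Fin n) F)) :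
    ∃ P : SpecialLinearGroup (Fin n) F, P⁻¹ * x * P ∈ subH n F₀ := by
  have h2 : (2 : F) ≠ 0 := two_ne_zero_of_char_ne (p := p) hp2
  have hz0 : a * a ≠ 0 := mul_ne_zero ha ha
  have hxM : x.1 * x.1 = (a * a) • (1 : Matrix (Fin n) (Fin n) F) := by
    rw [← pow_two, ← Matrix.SpecialLinearGroup.coe_pow]
    exact hx
  set j := finrank F (LinearMap.ker (Matrix.toLin' (x.1 + a • (1 : Matrix (Fin n) (Fin n) F))))
    with hj
  have hcx := charpoly_of_sq_split h2 a ha x.1 hxM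
  rw [← hj] at hcx
  have hjn : j ≤ n := by
    have := Submodule.finrank_le
      (LinearMap.ker (Matrix.toLin' (x.1 + a • (1 : Matrix (Fin n) (Fin n) F))))
    rwa [Module.finrank_fin_fun] at this
  have hY : (a • Matrix.diagonal (sgn (F := F) n j)) * (a • Matrix.diagonal (sgn (F := F) n j)) =
      (a * a) • (1 : Matrix (Fin n) (Fin n) F) := by
    rw [Matrix.smul_mul, Matrix.mul_smul, smul_smul, diag_sgn_sq]
  apply SpSim.conj_into_of_charpoly hp2 x (a * a) hz0 hx
    (Cfsg.Geo.subfieldSubgroup F₀ (1 : GL (Fin n) F)) (a • Matrix.diagonal (sgn (F := F) n j)) hY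
  · intro y hy
    have hd : Matrix.diagonal (sgn (F := F₀) n j) * Matrix.diagonal (sgn (F := F₀) n j) = 1 :=
      diag_sgn_sq j
    let A : GL (Fin n) F₀ := ⟨Matrix.diagonal (sgn (F := F₀) n j),
      Matrix.diagonal (sgn (F := F₀) n j), hd, hd⟩
    have hmem : y ∈ subH n F₀ := by
      apply mem_subH_of F₀ y a ha A
      rw [hy]
      congr 1
      show Matrix.diagonal (sgn (F := F) n j) =
        (Matrix.diagonal (sgn (F := F₀) n j)).map (F₀.subtype : F₀ →+* F)
      rw [Matrix.diagonal_map (map_zero _)]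
      congr 1
      funext i
      exact (sgn_map F₀ j i).symm
    exact hmem
  · have h1 : a • Matrix.diagonal (sgn (F := F) n j) =
        Matrix.diagonal (fun i => a * sgn n j i) := by
      ext i k
      by_cases hik : i = k
      · subst hik
        simp
      · simp [hik]
    rw [h1, Matrix.charpoly_diagonal, prod_sgn a j hjn, hcx]

end split

section nonsplit

open Cfsg.Agent.Helper13.SpSim Cfsg.Agent.Helper13.FN

variable {F : Type*} [Field F] {n m : ℕ}

theorem pow_contra (h2 : (2 : F) ≠ 0) (a : F) (m N : ℕ) (hm : 0 < m) (hN : 0 < N)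
    (hv : padicValNat 2 m ≤ padicValNat 2 N) (h1 : a ^ m = 1) (hN1 : a ^ N = -1) : False := by
  obtain ⟨m', hm', hmm⟩ := two_pow_odd_of_pos m hm
  obtain ⟨N', -, hNN⟩ := two_pow_odd_of_pos N hN
  set e := padicValNat 2 m with he
  set f := padicValNat 2 N with hf
  have h3 : m' * N = m * (2 ^ (f - e) * N') := by
    have : 2 ^ f = 2 ^ e * 2 ^ (f - e) := by
      rw [← pow_add]
      congr 1
      omega
    rw [hNN, hmm, this]
    ring
  have h4 : a ^ (m' * N) = 1 := by rw [h3, pow_mul, h1, one_pow]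
  have h5 : a ^ (m' * N) = -1 := by rw [mul_comm, pow_mul, hN1, hm'.neg_one_pow]
  rw [h4] at h5
  apply h2
  have : (2 : F) = 1 - (-1) := by ring
  rw [this, ← h5, sub_self]

theorem det_of_sq_nonsplit (z : F) (hz : ¬ IsSquare z) (M : Matrix (Fin n) (Fin n) F)
    (hM : M * M = z • (1 : Matrix (Fin n) (Fin n) F)) :
    n = 2 * (n / 2) ∧ M.det = (-z) ^ (n / 2) := by
  have hc := charpoly_of_sq_nonsplit z hz M hM
  have hdeg : n = 2 * (n / 2) := by
    have h1 := Matrix.charpoly_natDegree_eq_dim M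
    rw [hc, natDegree_pow, natDegree_X_pow_sub_C, Fintype.card_fin] at h1
    omega
  refine ⟨hdeg, ?_⟩
  have hev : Even n := ⟨n / 2, by omega⟩
  rw [Matrix.det_eq_sign_charpoly_coeff, Fintype.card_fin, hev.neg_one_pow, one_mul, hc,
    coeff_zero_eq_eval_zero, eval_pow, eval_sub, eval_pow, eval_X, eval_C]
  congr 1
  ring

/-- if `q ≡ 1 (mod 4)` and `(n)_2 ≤ (q - 1)_2`, no element of `SL_n(q)` has a non-square scalar
as its square -/
theorem no_nonsplit [Fintype F] (hF : ringChar F ≠ 2) (hq4 : Fintype.card F % 4 = 1)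
    (hn0 : 0 < n) (hv : padicValNat 2 n ≤ padicValNat 2 (Fintype.card F - 1))
    (x : SpecialLinearGroup (Fin n) F) (z : F) (hz : ¬ IsSquare z)
    (hx : x.1 * x.1 = z • (1 : Matrix (Fin n) (Fin n) F)) : False := by
  have h2 : (2 : F) ≠ 0 := Ring.two_ne_zero hF
  obtain ⟨hn2, hdet⟩ := det_of_sq_nonsplit z hz x.1 hx
  rw [x.2] at hdet
  set m := n / 2 with hm
  have hm0 : 0 < m := by omega
  obtain ⟨w, hw⟩ : IsSquare (-1 : F) := by
    rw [FiniteField.isSquare_neg_one_iff]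
    omega
  have hw0 : w ≠ 0 := by
    rintro rfl
    rw [mul_zero] at hw
    exact one_ne_zero (neg_eq_zero.1 hw)
  have hnz : ¬ IsSquare (-z) := by
    rintro ⟨s, hs⟩
    apply hz
    refine ⟨s * w, ?_⟩
    linear_combination (-1 : F) * hs + (s * s) * hw
  have hz0 : -z ≠ 0 := by
    intro h0
    apply hnz
    rw [h0]
    exact IsSquare.zero
  have hpow : (-z) ^ (Fintype.card F / 2) = -1 := by
    rcases FiniteField.pow_dichotomy hF hz0 with h | h
    · exact (hnz ((FiniteField.isSquare_iff hF hz0).2 h)).elim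
    · exact h
  have hc1 : 1 < Fintype.card F := Fintype.one_lt_card
  have hq2 : Fintype.card F - 1 = 2 * (Fintype.card F / 2) := by omega
  have hN0 : 0 < Fintype.card F / 2 := by omega
  apply pow_contra h2 (-z) m (Fintype.card F / 2) hm0 hN0 _ hdet.symm hpow
  rw [hq2, hn2, padicValNat.mul (by norm_num) (by omega),
    padicValNat.mul (by norm_num) (by omega)] at hv
  omega

end nonsplit

section badinv

open Cfsg.Agent.Helper13.SpSim Cfsg.Agent.Helper13.FN

variable {F : Type*} [Field F] {n m : ℕ}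

/-- the model with square the scalar `z`, on `Fin n` -/
def Yn (hn : n = 2 * m) (z : F) : Matrix (Fin n) (Fin n) F :=
  (Ynon m z).submatrix (eNM hn).symm (eNM hn).symm

theorem Yn_sq (hn : n = 2 * m) (z : F) :
    Yn hn z * Yn hn z = z • (1 : Matrix (Fin n) (Fin n) F) := by
  unfold Yn
  rw [Matrix.submatrix_mul_equiv, Ynon_sq]
  ext i j
  simp [Matrix.one_apply]

theorem exists_nonsquare_pow [Fintype F] (hF : ringChar F ≠ 2) (m : ℕ) (hm : 0 < m)
    (hv : padicValNat 2 (Fintype.card F - 1) ≤ padicValNat 2 m) :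
    ∃ z : F, ¬ IsSquare z ∧ (-z) ^ m = 1 := by
  have hc1 : 1 < Fintype.card F := Fintype.one_lt_card
  have hodd := FiniteField.odd_card_of_char_ne_two hF
  have hq2 : Fintype.card F - 1 = 2 * (Fintype.card F / 2) := by omega
  obtain ⟨u, hu, hqu⟩ := two_pow_odd_of_pos (Fintype.card F - 1) (by omega)
  set e := padicValNat 2 (Fintype.card F - 1) with he
  have he1 : 1 ≤ e := by
    have : Fact (Nat.Prime 2) := ⟨Nat.prime_two⟩
    exact one_le_padicValNat_of_dvd (by omega) ⟨_, hq2⟩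
  obtain ⟨ν, hν⟩ := FiniteField.exists_nonsquare hF
  have hν0 : ν ≠ 0 := by
    rintro rfl
    exact hν IsSquare.zero
  have hνpow : ν ^ (Fintype.card F / 2) = -1 := by
    rcases FiniteField.pow_dichotomy hF hν0 with h | h
    · exact (hν ((FiniteField.isSquare_iff hF hν0).2 h)).elim
    · exact h
  have hz0 : ν ^ u ≠ 0 := pow_ne_zero _ hν0
  have hzpow : (ν ^ u) ^ (Fintype.card F / 2) = -1 := by
    rw [← pow_mul, mul_comm, pow_mul, hνpow, hu.neg_one_pow]
  have h2e : (ν ^ u) ^ (2 ^ e) = 1 := by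
    rw [← pow_mul, mul_comm, ← hqu]
    exact FiniteField.pow_card_sub_one_eq_one ν hν0
  have hdvd : 2 ^ e ∣ m := by
    have : Fact (Nat.Prime 2) := ⟨Nat.prime_two⟩
    exact (padicValNat_dvd_iff_le (by omega)).2 hv
  have hmeven : Even m := by
    obtain ⟨t, ht⟩ := hdvd
    obtain ⟨e', he'⟩ : ∃ e', e = e' + 1 := ⟨e - 1, by omega⟩
    exact ⟨2 ^ e' * t, by rw [ht, he', pow_succ]; ring⟩
  refine ⟨ν ^ u, ?_, ?_⟩
  · intro hsq
    rw [FiniteField.isSquare_iff hF hz0, hzpow] at hsq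
    exact Ring.neg_one_ne_one_of_char_ne_two hF hsq
  · obtain ⟨t, ht⟩ := hdvd
    rw [neg_pow, hmeven.neg_one_pow, one_mul, ht, pow_mul, h2e, one_pow]

/-- for `k = 2` and `(n)_2 > (q - 1)_2` there is a bad involution -/
theorem exists_bad_invol [Fintype F] (hF : ringChar F ≠ 2) (F₀ : Subfield F)
    (hsq : ∀ a : F₀, IsSquare ((a : F₀) : F)) (hn : n = 2 * m) (hm : 0 < m)
    (hv : padicValNat 2 (Fintype.card F - 1) < padicValNat 2 n) :
    ∃ x : SpecialLinearGroup (Fin n) F,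
      (∃ z : F, ((x ^ 2 : SpecialLinearGroup (Fin n) F) : Matrix (Fin n) (Fin n) F) =
        z • (1 : Matrix (Fin n) (Fin n) F)) ∧
      (∀ z : F, (x : Matrix (Fin n) (Fin n) F) ≠ z • (1 : Matrix (Fin n) (Fin n) F)) ∧
      ∀ P : SpecialLinearGroup (Fin n) F, P⁻¹ * x * P ∉ subH n F₀ := by
  have hn0 : 0 < n := by omega
  have hv' : padicValNat 2 (Fintype.card F - 1) ≤ padicValNat 2 m := by
    rw [hn, padicValNat.mul (by norm_num) (by omega)] at hv
    have : padicValNat 2 2 = 1 := by norm_num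
    omega
  obtain ⟨z, hz, hzm⟩ := exists_nonsquare_pow hF m hm hv'
  have hdet : (Yn hn z).det = 1 := by
    have h1 := (det_of_sq_nonsplit z hz (Yn hn z) (Yn_sq hn z)).2
    have h2 : n / 2 = m := by omega
    rw [h1, h2, hzm]
  obtain ⟨x, hx⟩ : ∃ x : SpecialLinearGroup (Fin n) F, x.1 = Yn hn z := ⟨⟨_, hdet⟩, rfl⟩
  have hxx : x.1 * x.1 = z • (1 : Matrix (Fin n) (Fin n) F) := by rw [hx, Yn_sq]
  refine ⟨x, ⟨z, ?_⟩, ?_, ?_⟩
  · rw [Matrix.SpecialLinearGroup.coe_pow, pow_two, hxx]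
  · intro c hc
    rw [hc, Matrix.smul_mul, Matrix.mul_smul, Matrix.one_mul, smul_smul] at hxx
    have h3 := congrFun (congrFun hxx ⟨0, hn0⟩) ⟨0, hn0⟩
    simp only [Matrix.smul_apply, Matrix.one_apply_eq, smul_eq_mul, mul_one] at h3
    exact hz ⟨c, h3.symm⟩
  · intro P hP
    obtain ⟨A, c, hc, hyA⟩ := exists_of_mem_subH F₀ _ hP
    have hyy : (P⁻¹ * x * P).1 * (P⁻¹ * x * P).1 = z • (1 : Matrix (Fin n) (Fin n) F) := by
      rw [← Matrix.SpecialLinearGroup.coe_mul]
      have h4 : P⁻¹ * x * P * (P⁻¹ * x * P) = P⁻¹ * (x * x) * P := by group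
      rw [h4, Matrix.SpecialLinearGroup.coe_mul, Matrix.SpecialLinearGroup.coe_mul,
        Matrix.SpecialLinearGroup.coe_mul, hxx, Matrix.mul_smul, Matrix.smul_mul, Matrix.mul_one,
        ← Matrix.SpecialLinearGroup.coe_mul, inv_mul_cancel, Matrix.SpecialLinearGroup.coe_one]
    rw [hyA, Matrix.smul_mul, Matrix.mul_smul, smul_smul, ← Matrix.map_mul] at hyy
    have h5 := congrFun (congrFun hyy ⟨0, hn0⟩) ⟨0, hn0⟩
    simp only [Matrix.smul_apply, Matrix.map_apply, Matrix.one_apply_eq, smul_eq_mul,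
      mul_one] at h5
    obtain ⟨s, hs⟩ := hsq ((A.1 * A.1) ⟨0, hn0⟩ ⟨0, hn0⟩)
    apply hz
    refine ⟨c * s, ?_⟩
    rw [← h5]
    have h6 : (F₀.subtype : F₀ →+* F) ((A.1 * A.1) ⟨0, hn0⟩ ⟨0, hn0⟩) = s * s := hs
    rw [h6]
    ring

end badinv

section main

open Cfsg.Agent.Helper13.SpSim Cfsg.Agent.Helper13.FN

variable {F : Type*} [Field F]

/-- the criterion for involutions and subfield subgroups -/
theorem invol_iff [Fintype F] {p : ℕ} [Fact p.Prime] [CharP F p] (F₀ : Subfield F) (n : ℕ)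
    (hn : 2 ≤ n) (k : ℕ) (hk : k.Prime) (hcard : Fintype.card F = Nat.card F₀ ^ k)
    (hΩ : 2 ∣ (subH n F₀).index) :
    (∀ x : SpecialLinearGroup (Fin n) F,
      (∃ z : F, ((x ^ 2 : SpecialLinearGroup (Fin n) F) : Matrix (Fin n) (Fin n) F) =
        z • (1 : Matrix (Fin n) (Fin n) F)) →
      (∀ z : F, (x : Matrix (Fin n) (Fin n) F) ≠ z • (1 : Matrix (Fin n) (Fin n) F)) →
      ∃ P : SpecialLinearGroup (Fin n) F, P⁻¹ * x * P ∈ subH n F₀) ↔
    (Odd (Fintype.card F) →
      (k = 2 ∧ padicValNat 2 n ≤ padicValNat 2 (Fintype.card F - 1))) := by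
  have hn0 : 0 < n := by omega
  have : Nonempty (Fin n) := ⟨⟨0, hn0⟩⟩
  have hpr : ringChar F = p := ringChar.eq F p
  by_cases hodd : Odd (Fintype.card F)
  · have hF : ringChar F ≠ 2 := by
      intro h
      rw [FiniteField.even_card_iff_char_two] at h
      rw [Nat.odd_iff] at hodd
      omega
    have hp2 : p ≠ 2 := by rw [← hpr]; exact hF
    have hk2 : k = 2 := by
      by_contra hne
      exact index_odd F₀ k (hk.odd_of_ne_two hne) hodd hcard (by omega) hΩ
    subst hk2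
    have hsq := isSquare_sub_of_two hF F₀ hcard
    have hq4 : Fintype.card F % 4 = 1 := by
      rw [hcard] at hodd ⊢
      have h1 : Odd (Nat.card F₀) := (Nat.odd_pow_iff (by norm_num)).1 hodd
      obtain ⟨t, ht⟩ := h1
      rw [ht]
      have : (2 * t + 1) ^ 2 = 4 * (t * t + t) + 1 := by ring
      omega
    constructor
    · intro h _
      refine ⟨rfl, ?_⟩
      by_contra hlt
      push Not at hlt
      have h2n : 2 ∣ n := by
        have : Fact (Nat.Prime 2) := ⟨Nat.prime_two⟩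
        exact dvd_of_one_le_padicValNat (by omega)
      obtain ⟨m, hm⟩ := h2n
      obtain ⟨x, hx1, hx2, hx3⟩ := exists_bad_invol hF F₀ hsq hm (by omega) hlt
      obtain ⟨P, hP⟩ := h x hx1 hx2
      exact hx3 P hP
    · rintro h x ⟨z, hz⟩ -
      obtain ⟨-, hv⟩ := h hodd
      have hz0 : z ≠ 0 := by
        rintro rfl
        have h1 := congrArg Matrix.det hz
        rw [(x ^ 2).2, zero_smul, Matrix.det_zero] at h1
        exact one_ne_zero h1
      by_cases hsqz : IsSquare z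
      · obtain ⟨a, rfl⟩ := hsqz
        have ha : a ≠ 0 := fun h0 => hz0 (by rw [h0, mul_zero])
        exact conj_invol_split hp2 F₀ x a ha hz
      · exfalso
        refine no_nonsplit hF hq4 hn0 hv x z hsqz ?_
        rw [← pow_two, ← Matrix.SpecialLinearGroup.coe_pow]
        exact hz
  · constructor
    · intro _ h
      exact (hodd h).elim
    · rintro - x ⟨z, hz⟩ -
      have h2 : ringChar F = 2 := by
        rw [FiniteField.even_card_iff_char_two]
        rw [Nat.not_odd_iff_even, Nat.even_iff] at hodd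
        exact hodd
      have : CharP F 2 := ringChar.of_eq h2
      apply conj_order_p 2 F₀ hn0 x z (by rw [← Matrix.SpecialLinearGroup.coe_pow]; exact hz)
      intro l hsum hpos hle δ hδ
      exact hdet_two F₀ hn0 l hsum hpos hle δ hδ

end main

end Cfsg.Agent.Helper13.SubF
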