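import Mathlib
import Cfsg.Agent.Lib.Helper13.SubF5
import Cfsg.Agent.Lib.Helper13.SemisimpleCharpolyGL

/-!
# Descent of characteristic polynomials to a subfield and conjugation into the subfield group
(helper13)
-/

set_option autoImplicit false

namespace Cfsg.Agent.Helper13.SubF

open Matrix Module Polynomial Cfsg.Agent.Helper13.Nilp Cfsg.Agent.Helper13.JM

section frob

variable {F : Type*} [Field F] [Fintype F]

/-- the elements of a subfield of a finite field are the fixed points of its Frobenius -/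
theorem mem_subfield_iff_pow (F₀ : Subfield F) (x : F) : x ∈ F₀ ↔ x ^ Nat.card F₀ = x := by
  classical
  let _ : Fintype F₀ := Fintype.ofFinite F₀
  rw [Nat.card_eq_fintype_card]
  constructor
  · intro hx
    have h1 := FiniteField.pow_card (⟨x, hx⟩ : F₀)
    exact congrArg (fun u : F₀ => (u : F)) h1
  · intro hx
    have hq1 : 1 < Fintype.card F₀ := Fintype.one_lt_card
    set P : F[X] := X ^ Fintype.card F₀ - X with hP
    have hP0 : P ≠ 0 := FiniteField.X_pow_card_sub_X_ne_zero F hq1
    have hdeg : P.natDegree = Fintype.card F₀ := FiniteField.X_pow_card_sub_X_natDegree_eq F hq1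
    set R : Finset F := P.roots.toFinset with hR
    have hRcard : R.card ≤ Fintype.card F₀ := by
      calc R.card ≤ Multiset.card P.roots := Multiset.toFinset_card_le _
        _ ≤ P.natDegree := Polynomial.card_roots' P
        _ = Fintype.card F₀ := hdeg
    set S : Finset F := Finset.univ.image (fun u : F₀ => (u : F)) with hS
    have hScard : S.card = Fintype.card F₀ := by
      rw [hS, Finset.card_image_of_injective _ Subtype.val_injective, Finset.card_univ]
    have hSR : S ⊆ R := by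
      intro y hy
      obtain ⟨u, -, rfl⟩ := Finset.mem_image.1 hy
      rw [hR, Multiset.mem_toFinset, Polynomial.mem_roots hP0, Polynomial.IsRoot.def, hP,
        Polynomial.eval_sub, Polynomial.eval_pow, Polynomial.eval_X, sub_eq_zero]
      have h1 := FiniteField.pow_card u
      exact congrArg (fun u : F₀ => (u : F)) h1
    have hEq : S = R := Finset.eq_of_subset_of_card_le hSR (by rw [hScard]; exact hRcard)
    have hxR : x ∈ R := by
      rw [hR, Multiset.mem_toFinset, Polynomial.mem_roots hP0, Polynomial.IsRoot.def, hP,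
        Polynomial.eval_sub, Polynomial.eval_pow, Polynomial.eval_X, sub_eq_zero]
      exact hx
    rw [← hEq] at hxR
    obtain ⟨u, -, rfl⟩ := Finset.mem_image.1 hxR
    exact u.2

variable {p : ℕ} [Fact p.Prime] [CharP F p]

theorem frob_comp_subtype (F₀ : Subfield F) (a₀ : ℕ) (ha₀ : Nat.card F₀ = p ^ a₀) :
    (iterateFrobenius F p a₀).comp (F₀.subtype : F₀ →+* F) = (F₀.subtype : F₀ →+* F) := by
  ext u
  rw [RingHom.comp_apply, iterateFrobenius_def, ← ha₀]
  exact (mem_subfield_iff_pow F₀ _).1 u.2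

/-- a polynomial fixed by the Frobenius of the subfield has coefficients in the subfield -/
theorem exists_descent (F₀ : Subfield F) (a₀ : ℕ) (ha₀ : Nat.card F₀ = p ^ a₀) (h : F[X])
    (hh : h.map (iterateFrobenius F p a₀) = h) :
    ∃ h₀ : F₀[X], h₀.map (F₀.subtype : F₀ →+* F) = h := by
  rw [← Polynomial.mem_lifts, Polynomial.lifts_iff_coeff_lifts]
  intro m
  have h1 : (h.map (iterateFrobenius F p a₀)).coeff m = h.coeff m := by rw [hh]
  rw [Polynomial.coeff_map, iterateFrobenius_def, ← ha₀] at h1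
  exact ⟨⟨h.coeff m, (mem_subfield_iff_pow F₀ _).2 h1⟩, rfl⟩

/-- the characteristic polynomial of a matrix over the subfield is fixed by the Frobenius -/
theorem charpoly_map_frob {n : ℕ} (F₀ : Subfield F) (a₀ : ℕ) (ha₀ : Nat.card F₀ = p ^ a₀)
    (A : Matrix (Fin n) (Fin n) F₀) :
    ((A.map (F₀.subtype : F₀ →+* F)).charpoly).map (iterateFrobenius F p a₀) =
      (A.map (F₀.subtype : F₀ →+* F)).charpoly := by
  rw [Matrix.charpoly_map, Polynomial.map_map, frob_comp_subtype F₀ a₀ ha₀]

end frob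

section conjdesc

open Cfsg.Agent.Helper13.SS

variable {F : Type*} [Field F] [Fintype F] {p : ℕ} [Fact p.Prime] [CharP F p] {n : ℕ}

/-- an element of `SL_n(F)` of order prime to `p`, a scalar multiple of which has characteristic
polynomial over the subfield, is conjugate in `SL_n(F)` into the subfield group -/
theorem conj_into_of_descent (F₀ : Subfield F) (x : SpecialLinearGroup (Fin n) F)
    (hx : (orderOf x).Coprime p) (c : F) (hc : c ≠ 0) (f₀ : F₀[X])
    (hf₀ : f₀.map (F₀.subtype : F₀ →+* F) = (c⁻¹ • x.1).charpoly) :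
    ∃ P : SpecialLinearGroup (Fin n) F, P⁻¹ * x * P ∈ subH n F₀ := by
  classical
  let _ : Fintype F₀ := Fintype.ofFinite F₀
  set ι : F₀ →+* F := F₀.subtype with hι
  have hinj : Function.Injective ι := F₀.subtype_injective
  have hmon : f₀.Monic := by
    apply Polynomial.monic_of_injective hinj
    rw [hf₀]
    exact Matrix.charpoly_monic _
  have hdeg : f₀.natDegree = n := by
    rw [← Polynomial.natDegree_map_eq_of_injective hinj, hf₀, Matrix.charpoly_natDegree_eq_dim,
      Fintype.card_fin]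
  have hdetx' : (c⁻¹ • x.1).det ≠ 0 := by
    rw [Matrix.det_smul, x.2, mul_one, Fintype.card_fin]
    exact pow_ne_zero _ (inv_ne_zero hc)
  have h0 : f₀.coeff 0 ≠ 0 := by
    intro h
    have h1 : (f₀.map ι).coeff 0 = 0 := by rw [Polynomial.coeff_map, h, map_zero]
    rw [hf₀] at h1
    apply hdetx'
    rw [Matrix.det_eq_sign_charpoly_coeff, h1, mul_zero]
  obtain ⟨A, hA, hAord⟩ := exists_gl_of_charpoly (p := p) f₀ hmon hdeg h0
  set g₁ : GL (Fin n) F := gm n F₀ A with hg₁
  have hg₁c : (g₁ : Matrix (Fin n) (Fin n) F).charpoly = (c⁻¹ • x.1).charpoly := by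
    rw [hg₁, gm_val, Matrix.charpoly_map, hA, hf₀]
  have hu1 : (c⁻¹ • x.1) * (c • (x⁻¹).1) = 1 := by
    rw [Matrix.smul_mul, Matrix.mul_smul, smul_smul, inv_mul_cancel₀ hc, one_smul,
      ← Matrix.SpecialLinearGroup.coe_mul, mul_inv_cancel, Matrix.SpecialLinearGroup.coe_one]
  have hu2 : (c • (x⁻¹).1) * (c⁻¹ • x.1) = 1 := by
    rw [Matrix.smul_mul, Matrix.mul_smul, smul_smul, mul_inv_cancel₀ hc, one_smul,
      ← Matrix.SpecialLinearGroup.coe_mul, inv_mul_cancel, Matrix.SpecialLinearGroup.coe_one]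
  let g₂ : GL (Fin n) F := ⟨c⁻¹ • x.1, c • (x⁻¹).1, hu1, hu2⟩
  have hg₁ord : (orderOf g₁).Coprime p :=
    Nat.Coprime.coprime_dvd_left (orderOf_map_dvd (gm n F₀) A) hAord
  have hg₂ord : (orderOf g₂).Coprime p := by
    have h1 : g₂ ^ ((Fintype.card F - 1) * orderOf x) = 1 := by
      apply Units.ext
      rw [Units.val_pow_eq_pow_val, Units.val_one]
      show (c⁻¹ • x.1) ^ ((Fintype.card F - 1) * orderOf x) = 1
      rw [_root_.smul_pow, pow_mul, FiniteField.pow_card_sub_one_eq_one _ (inv_ne_zero hc), one_pow,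
        one_smul, mul_comm, pow_mul, ← Matrix.SpecialLinearGroup.coe_pow, pow_orderOf_eq_one,
        Matrix.SpecialLinearGroup.coe_one, one_pow]
    apply Nat.Coprime.coprime_dvd_left (orderOf_dvd_of_pow_eq_one h1)
    apply Nat.Coprime.mul_left _ hx
    have h2 := coprime_card_pow_sub_one (F := F) (p := p) rfl 1 one_pos
    rwa [pow_one] at h2
  have hconj := isConj_of_charpoly_eq (p := p) g₁ g₂ hg₁ord hg₂ord hg₁c
  obtain ⟨u, hu⟩ := isConj_iff.1 hconj
  set um : Matrix (Fin n) (Fin n) F := (u : Matrix (Fin n) (Fin n) F) with hum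
  set ui : Matrix (Fin n) (Fin n) F := ((u⁻¹ : GL (Fin n) F) : Matrix (Fin n) (Fin n) F) with hui
  have huu : um * ui = 1 := gln_mul_inv u
  have huu' : ui * um = 1 := gln_inv_mul u
  have hy₀x : um * (c • (g₁ : Matrix (Fin n) (Fin n) F)) * ui = x.1 := by
    have h3 := congrArg (fun g : GL (Fin n) F => (g : Matrix (Fin n) (Fin n) F)) hu
    have h4 : um * (g₁ : Matrix (Fin n) (Fin n) F) * ui = c⁻¹ • x.1 := h3
    rw [Matrix.mul_smul, Matrix.smul_mul, h4, smul_smul, mul_inv_cancel₀ hc, one_smul]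
  have hdet : (c • (g₁ : Matrix (Fin n) (Fin n) F)).det = 1 := by
    have h5 := congrArg Matrix.det hy₀x
    rw [Matrix.det_mul, Matrix.det_mul, mul_right_comm, ← Matrix.det_mul, huu, Matrix.det_one,
      one_mul, x.2] at h5
    exact h5
  obtain ⟨y₀, hy₀⟩ : ∃ y₀ : SpecialLinearGroup (Fin n) F,
      y₀.1 = c • (g₁ : Matrix (Fin n) (Fin n) F) := ⟨⟨_, hdet⟩, rfl⟩
  have hy₀H : y₀ ∈ subH n F₀ := mem_subH_of F₀ y₀ c hc A (by rw [hy₀]; rfl)
  have hchar : y₀.1.charpoly = x.1.charpoly := by
    rw [← hy₀x, hy₀, Matrix.charpoly_mul_comm, ← Matrix.mul_assoc, huu', Matrix.one_mul]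
  have hy₀ord : (orderOf y₀).Coprime p := by
    apply Nat.Coprime.coprime_dvd_left _ hx
    apply orderOf_dvd_of_pow_eq_one
    apply Subtype.ext
    rw [Matrix.SpecialLinearGroup.coe_pow, Matrix.SpecialLinearGroup.coe_one, hy₀]
    have h6 : x.1 ^ orderOf x = 1 := by
      rw [← Matrix.SpecialLinearGroup.coe_pow, pow_orderOf_eq_one,
        Matrix.SpecialLinearGroup.coe_one]
    have h7 := conj_pow_mat um ui (c • (g₁ : Matrix (Fin n) (Fin n) F)) huu' (orderOf x)
    rw [hy₀x, h6, Matrix.one_mul] at h7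
    have h8 := congrArg (fun M => ui * M) h7
    simp only [← Matrix.mul_assoc] at h8
    rw [huu', Matrix.one_mul] at h8
    exact h8.symm
  obtain ⟨s, hs⟩ := isConj_iff.1 (sl_isConj_of_charpoly_eq (p := p) y₀ x hy₀ord hx hchar)
  refine ⟨s, ?_⟩
  have h9 : s⁻¹ * x * s = y₀ := by rw [← hs]; group
  rw [h9]
  exact hy₀H

/-- elements of `SL_n(F)` whose `r`-th power is scalar have order prime to `p` -/
theorem orderOf_coprime_of_pow (r : ℕ) (hr : r.Coprime p) (x : SpecialLinearGroup (Fin n) F)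
    (z : F) (hz : z ≠ 0) (hx : x.1 ^ r = z • (1 : Matrix (Fin n) (Fin n) F)) :
    (orderOf x).Coprime p := by
  have h1 : x ^ (r * (Fintype.card F - 1)) = 1 := by
    apply Subtype.ext
    rw [pow_mul, Matrix.SpecialLinearGroup.coe_pow, Matrix.SpecialLinearGroup.coe_pow, hx,
      _root_.smul_pow, one_pow, FiniteField.pow_card_sub_one_eq_one z hz, one_smul,
      Matrix.SpecialLinearGroup.coe_one]
  apply Nat.Coprime.coprime_dvd_left (orderOf_dvd_of_pow_eq_one h1)
  apply Nat.Coprime.mul_left hr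
  have h2 := coprime_card_pow_sub_one (F := F) (p := p) rfl 1 one_pos
  rwa [pow_one] at h2

end conjdesc

end Cfsg.Agent.Helper13.SubF
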