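import Mathlib
import Cfsg.Agent.Lib.Helper13.SubF6

/-!
# Elements of order `r = k`: conjugation into the subfield group (helper13)
-/

set_option autoImplicit false

namespace Cfsg.Agent.Helper13.SubF

open Matrix Module Polynomial Cfsg.Agent.Helper13.Nilp Cfsg.Agent.Helper13.JM

section closure

variable {F : Type*} [Field F] [Fintype F] {p : ℕ} [Fact p.Prime] [CharP F p] {n : ℕ}

theorem pow_eq_pow_of_modEq {E : Type*} [Monoid E] (lam : E) (r a b : ℕ) (h : lam ^ r = 1)
    (hab : a ≡ b [MOD r]) : lam ^ a = lam ^ b := by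
  rw [← Nat.mod_add_div a r, ← Nat.mod_add_div b r, pow_add, pow_add, pow_mul, pow_mul, h,
    one_pow, one_pow, mul_one, mul_one]
  exact congrArg _ hab

/-- the characteristic polynomial of a matrix with `M ^ r = 1` is fixed by the Frobenius of a
subfield with `q₀` elements, `q₀ ≡ q (mod r)` -/
theorem charpoly_frob_of_pow (hn : 0 < n) (a a₀ r : ℕ) (ha : Fintype.card F = p ^ a)
    (hmod : p ^ a ≡ p ^ a₀ [MOD r]) (M : Matrix (Fin n) (Fin n) F) (hM : M ^ r = 1) :
    M.charpoly.map (iterateFrobenius F p a₀) = M.charpoly := by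
  classical
  have : Nonempty (Fin n) := ⟨⟨0, hn⟩⟩
  set E := AlgebraicClosure F with hE
  set alg : F →+* E := algebraMap F E with halg
  have hinj : Function.Injective alg := (algebraMap F E).injective
  have : CharP E p := charP_of_injective_algebraMap hinj p
  set ME : Matrix (Fin n) (Fin n) E := M.map alg with hME
  have hMEr : ME ^ r = 1 := by
    rw [hME, ← Matrix.map_pow, hM, Matrix.map_one _ (map_zero _) (map_one _)]
  set hE' : E[X] := M.charpoly.map alg with hhE
  have hcE : ME.charpoly = hE' := Matrix.charpoly_map M alg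
  have hroots : ∀ lam ∈ hE'.roots, lam ^ r = 1 := by
    intro lam hlam
    have h1 : IsRoot ME.charpoly lam := by
      rw [hcE]
      exact (Polynomial.mem_roots'.1 hlam).2
    have h2 : lam ∈ spectrum E ME := Matrix.mem_spectrum_iff_isRoot_charpoly.2 h1
    have h3 := spectrum.subset_polynomial_aeval ME (X ^ r - 1 : E[X]) ⟨lam, h2, rfl⟩
    simp only [map_sub, map_pow, aeval_X, map_one, hMEr, sub_self, spectrum.zero_eq,
      Set.mem_singleton_iff, eval_sub, eval_pow, eval_X, eval_one] at h3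
    exact sub_eq_zero.1 h3
  have hsplit : hE'.Splits := IsAlgClosed.splits hE'
  have hmonic : hE'.Monic := (Matrix.charpoly_monic M).map alg
  have hprod := hsplit.eq_prod_roots_of_monic hmonic
  have hmapE : ∀ b : ℕ, hE'.map (iterateFrobenius E p b) =
      (hE'.roots.map (fun lam => X - C (lam ^ p ^ b))).prod := by
    intro b
    conv_lhs => rw [hprod]
    rw [Polynomial.map_multiset_prod, Multiset.map_map]
    congr 1
    apply Multiset.map_congr rfl
    intro lam _
    simp only [Function.comp_apply, Polynomial.map_sub, Polynomial.map_X, Polynomial.map_C,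
      iterateFrobenius_def]
  have hEq : hE'.map (iterateFrobenius E p a₀) = hE'.map (iterateFrobenius E p a) := by
    rw [hmapE, hmapE]
    congr 1
    apply Multiset.map_congr rfl
    intro lam hlam
    rw [pow_eq_pow_of_modEq lam r _ _ (hroots lam hlam) hmod]
  have hcomm : ∀ b : ℕ, (iterateFrobenius E p b).comp alg = alg.comp (iterateFrobenius F p b) := by
    intro b
    ext u
    simp only [RingHom.comp_apply, iterateFrobenius_def, map_pow]
  have hid : iterateFrobenius F p a = RingHom.id F := by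
    ext u
    rw [iterateFrobenius_def, ← ha, FiniteField.pow_card, RingHom.id_apply]
  apply Polynomial.map_injective alg hinj
  have h4 : (M.charpoly.map (iterateFrobenius F p a₀)).map alg =
      hE'.map (iterateFrobenius E p a₀) := by
    rw [hhE, Polynomial.map_map, Polynomial.map_map, hcomm]
  have h5 : hE'.map (iterateFrobenius E p a) = M.charpoly.map alg := by
    rw [hhE, Polynomial.map_map, hcomm, hid, RingHom.comp_id]
  rw [h4, hEq, h5]

end closure

section rk

open Cfsg.Agent.Helper13.SS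

variable {F : Type*} [Field F] [Fintype F] {p : ℕ} [Fact p.Prime] [CharP F p] {n : ℕ}

/-- `r = k`: an element whose `r`-th power is the `r`-th power of a scalar is conjugate into the
subfield group -/
theorem conj_rk_of_rpow (F₀ : Subfield F) (hn : 0 < n) (a a₀ r : ℕ) (hr : r.Prime) (hrp : r ≠ p)
    (ha : Fintype.card F = p ^ a) (ha₀ : Nat.card F₀ = p ^ a₀) (hmod : p ^ a ≡ p ^ a₀ [MOD r])
    (x : SpecialLinearGroup (Fin n) F) (c : F) (hc : c ≠ 0)
    (hx : x.1 ^ r = (c ^ r) • (1 : Matrix (Fin n) (Fin n) F)) :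
    ∃ P : SpecialLinearGroup (Fin n) F, P⁻¹ * x * P ∈ subH n F₀ := by
  have hp : p.Prime := Fact.out
  have hM : (c⁻¹ • x.1) ^ r = 1 := by
    rw [_root_.smul_pow, hx, smul_smul, inv_pow, inv_mul_cancel₀ (pow_ne_zero _ hc), one_smul]
  have h1 := charpoly_frob_of_pow hn a a₀ r ha hmod (c⁻¹ • x.1) hM
  obtain ⟨f₀, hf₀⟩ := exists_descent F₀ a₀ ha₀ _ h1
  have hcop : r.Coprime p := (Nat.coprime_primes hr hp).2 hrp
  exact conj_into_of_descent F₀ x
    (orderOf_coprime_of_pow r hcop x (c ^ r) (pow_ne_zero _ hc) hx) c hc f₀ hf₀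

/-- if `r` does not divide `q - 1` every nonzero element is an `r`-th power -/
theorem exists_rpow_of_not_dvd (r : ℕ) (hr : r.Prime) (hrq : ¬ r ∣ Fintype.card F - 1) (z : F)
    (hz : z ≠ 0) : ∃ c : F, c ≠ 0 ∧ c ^ r = z := by
  classical
  have hcop : (Nat.card Fˣ).Coprime r := by
    rw [Nat.card_eq_fintype_card, Fintype.card_units]
    exact (Nat.Coprime.symm ((Nat.Prime.coprime_iff_not_dvd hr).2 hrq))
  obtain ⟨u, hu⟩ := (powCoprime hcop).surjective (Units.mk0 z hz)
  refine ⟨(u : F), u.ne_zero, ?_⟩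
  have h1 : u ^ r = Units.mk0 z hz := hu
  have h2 := congrArg (fun v : Fˣ => (v : F)) h1
  simpa using h2

/-- the determinant of a matrix whose `r`-th power is a scalar which is not an `r`-th power -/
theorem det_of_rpow_nonsplit (r : ℕ) (hr : r.Prime) (hr2 : r ≠ 2) (z : F)
    (hz : ∀ b : F, b ^ r ≠ z) (M : Matrix (Fin n) (Fin n) F)
    (hM : M ^ r = z • (1 : Matrix (Fin n) (Fin n) F)) :
    n = r * (n / r) ∧ M.det = z ^ (n / r) := by
  classical
  set g : Module.End F (Fin n → F) := Matrix.toLin' M with hg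
  set f : F[X] := X ^ r - C z with hf
  have hfdeg : f.natDegree = r := natDegree_X_pow_sub_C
  have hfmon : f.Monic := monic_X_pow_sub_C z hr.ne_zero
  have hfirr : Irreducible f := X_pow_sub_C_irreducible_of_prime hr hz
  set S : Finset F[X] := {f} with hS
  have hkill : aeval g (∏ f ∈ S, f) = 0 := by
    rw [hS, Finset.prod_singleton, hf, map_sub, map_pow, aeval_X, aeval_C, hg]
    have h1 : (Matrix.toLin' M) ^ r = Matrix.toLin' (M ^ r) := by
      exact (map_pow (Matrix.toLinAlgEquiv' (R := F) (n := Fin n)) M r).symm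
    rw [h1, hM, map_smul, Matrix.toLin'_one, Algebra.algebraMap_eq_smul_one]
    exact sub_self _
  have hcp := charpoly_eq_prod S (fun x hx => by rw [Finset.mem_singleton.1 hx]; exact hfirr)
    (fun x hx => by rw [Finset.mem_singleton.1 hx]; exact hfmon) g hkill
  rw [hS, Finset.prod_singleton, hfdeg] at hcp
  have hk : kdim g f = n := by
    unfold kdim
    rw [hS, Finset.prod_singleton] at hkill
    rw [hkill, LinearMap.ker_zero, finrank_top, Module.finrank_fin_fun]
  rw [hk, hg, Matrix.charpoly_toLin'] at hcp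
  have hdeg : n = r * (n / r) := by
    have h1 := Matrix.charpoly_natDegree_eq_dim M
    rw [hcp, natDegree_pow, hfdeg, Fintype.card_fin] at h1
    rw [mul_comm]
    exact h1.symm
  refine ⟨hdeg, ?_⟩
  set t := n / r with ht
  have hrodd : Odd r := hr.odd_of_ne_two hr2
  rw [Matrix.det_eq_sign_charpoly_coeff, Fintype.card_fin, hcp, coeff_zero_eq_eval_zero, eval_pow,
    hf, eval_sub, eval_pow, eval_X, eval_C, zero_pow hr.ne_zero, zero_sub, neg_pow z t,
    ← mul_assoc, ← pow_add]
  have h2 : Even (n + t) := by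
    rw [hdeg]
    have : r * t + t = t * (r + 1) := by ring
    rw [this]
    exact (hrodd.add_one).mul_left t
  rw [h2.neg_one_pow, one_mul]

/-- if `(n)_r ≤ (q - 1)_r`, the `r`-th power of an element of `SL_n(q)`, if scalar, is the `r`-th
power of a scalar -/
theorem exists_rpow_of_val_le (r : ℕ) (hr : r.Prime) (hr2 : r ≠ 2) (hn : 0 < n)
    (hv : padicValNat r n ≤ padicValNat r (Fintype.card F - 1))
    (x : SpecialLinearGroup (Fin n) F) (z : F)
    (hx : x.1 ^ r = z • (1 : Matrix (Fin n) (Fin n) F)) : ∃ c : F, c ≠ 0 ∧ c ^ r = z := by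
  classical
  have : Nonempty (Fin n) := ⟨⟨0, hn⟩⟩
  have : Fact r.Prime := ⟨hr⟩
  have hz0 : z ≠ 0 := by
    rintro rfl
    have h1 := congrArg Matrix.det hx
    rw [Matrix.det_pow, x.2, one_pow, zero_smul, Matrix.det_zero] at h1
    exact one_ne_zero h1
  by_contra hcon
  have hz : ∀ b : F, b ^ r ≠ z := by
    intro b hb
    apply hcon
    refine ⟨b, ?_, hb⟩
    rintro rfl
    rw [zero_pow hr.ne_zero] at hb
    exact hz0 hb.symm
  obtain ⟨hnr, hdet⟩ := det_of_rpow_nonsplit r hr hr2 z hz x.1 hx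
  rw [x.2] at hdet
  set t := n / r with ht
  obtain ⟨γ, hγ⟩ := IsCyclic.exists_generator (α := Fˣ)
  have hord : orderOf γ = Fintype.card F - 1 := by
    rw [orderOf_eq_card_of_forall_mem_zpowers hγ, Nat.card_eq_fintype_card, Fintype.card_units]
  obtain ⟨s, hs⟩ : ∃ s : ℕ, γ ^ s = Units.mk0 z hz0 := by
    have h1 := hγ (Units.mk0 z hz0)
    rw [← mem_powers_iff_mem_zpowers] at h1
    exact (Submonoid.mem_powers_iff _ _).1 h1
  have hrs : ¬ r ∣ s := by
    rintro ⟨s', rfl⟩
    apply hz ((γ ^ s' : Fˣ) : F)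
    have h2 := congrArg (fun v : Fˣ => (v : F)) hs
    simp only [Units.val_mk0] at h2
    rw [← h2, mul_comm, pow_mul]
    simp
  have hst : Fintype.card F - 1 ∣ s * t := by
    rw [← hord]
    apply orderOf_dvd_of_pow_eq_one
    rw [pow_mul, hs]
    apply Units.ext
    rw [Units.val_pow_eq_pow_val, Units.val_mk0, ← hdet, Units.val_one]
  set e := padicValNat r (Fintype.card F - 1) with he
  have h3 : r ^ e ∣ s * t := dvd_trans pow_padicValNat_dvd hst
  have hcop : (r ^ e).Coprime s := Nat.Coprime.pow_left e ((Nat.Prime.coprime_iff_not_dvd hr).2 hrs)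
  have h4 : r ^ e ∣ t := by
    rw [mul_comm] at h3
    exact hcop.dvd_of_dvd_mul_right h3
  have h5 : r ^ (e + 1) ∣ n := by
    rw [hnr, pow_succ, mul_comm]
    exact Nat.mul_dvd_mul_left r h4
  have h6 := (padicValNat_dvd_iff_le (by omega : n ≠ 0)).1 h5
  omega

/-- `r = k`: every element of `SL_n(q)` whose `r`-th power is scalar is conjugate into the subfield
group, under the valuation condition when `r` divides `q - 1` -/
theorem conj_rk (F₀ : Subfield F) (hn : 0 < n) (a a₀ r : ℕ) (hr : r.Prime) (hr2 : r ≠ 2)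
    (hrp : r ≠ p) (ha : Fintype.card F = p ^ a) (ha₀ : Nat.card F₀ = p ^ a₀)
    (hmod : p ^ a ≡ p ^ a₀ [MOD r])
    (hgap : r ∣ Fintype.card F - 1 → padicValNat r n ≤ padicValNat r (Fintype.card F - 1))
    (x : SpecialLinearGroup (Fin n) F) (z : F)
    (hx : x.1 ^ r = z • (1 : Matrix (Fin n) (Fin n) F)) :
    ∃ P : SpecialLinearGroup (Fin n) F, P⁻¹ * x * P ∈ subH n F₀ := by
  have : Nonempty (Fin n) := ⟨⟨0, hn⟩⟩
  have hz0 : z ≠ 0 := by
    rintro rfl
    have h1 := congrArg Matrix.det hx
    rw [Matrix.det_pow, x.2, one_pow, zero_smul, Matrix.det_zero] at h1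
    exact one_ne_zero h1
  obtain ⟨c, hc, hcz⟩ : ∃ c : F, c ≠ 0 ∧ c ^ r = z := by
    by_cases hrq : r ∣ Fintype.card F - 1
    · exact exists_rpow_of_val_le r hr hr2 hn (hgap hrq) x z hx
    · exact exists_rpow_of_not_dvd r hr hrq z hz0
  rw [← hcz] at hx
  exact conj_rk_of_rpow F₀ hn a a₀ r hr hrp ha ha₀ hmod x c hc hx

end rk

end Cfsg.Agent.Helper13.SubF
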