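import Mathlib
import Cfsg.Agent.Lib.Helper13.SubF7

/-!
# The index of the subfield subgroup and odd primes (helper13)
-/

set_option autoImplicit false

namespace Cfsg.Agent.Helper13.SubF

open Matrix Module Polynomial Cfsg.Agent.Helper13.Nilp Cfsg.Agent.Helper13.JM

section arith2

/-- the index of `SL_n(q₀)` in `SL_n(q₀ ^ k)` is prime to `r` if no geometric sum
`∑_{l<k} (q₀ ^ j) ^ l`, `2 ≤ j ≤ n`, is divisible by `r` -/
theorem card_SL_r_part (q₀ k n A A₀ r : ℕ) (hr : r.Prime) (hq1 : 1 < q₀) (hk : 1 ≤ k)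
    (hn : 1 ≤ n) (hrq : ¬ r ∣ q₀)
    (hS : ∀ j, 2 ≤ j → j ≤ n → ¬ r ∣ ∑ l ∈ Finset.range k, (q₀ ^ j) ^ l)
    (hA₀ : 0 < A₀)
    (h1 : (q₀ ^ k - 1) * A = ∏ i : Fin n, ((q₀ ^ k) ^ n - (q₀ ^ k) ^ (i : ℕ)))
    (h2 : (q₀ - 1) * A₀ = ∏ i : Fin n, (q₀ ^ n - q₀ ^ (i : ℕ))) : ¬ r * A₀ ∣ A := by
  rintro ⟨s, hs⟩
  obtain ⟨n', rfl⟩ : ∃ n', n = n' + 1 := ⟨n - 1, by omega⟩
  have h3 : ∏ i : Fin (n' + 1), ((q₀ ^ k) ^ (n' + 1) - (q₀ ^ k) ^ (i : ℕ)) =
      (∏ i : Fin (n' + 1), (q₀ ^ (n' + 1) - q₀ ^ (i : ℕ))) *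
      ∏ i : Fin (n' + 1), (q₀ ^ ((i : ℕ) * (k - 1)) *
        ∑ l ∈ Finset.range k, (q₀ ^ (n' + 1 - (i : ℕ))) ^ l) := by
    rw [← Finset.prod_mul_distrib]
    apply Finset.prod_congr rfl
    intro i _
    exact pow_sub_pow_factor q₀ k (n' + 1) i (by omega) hk (le_of_lt i.2)
  rw [Fin.prod_univ_castSucc (fun i : Fin (n' + 1) => (q₀ ^ ((i : ℕ) * (k - 1)) *
        ∑ l ∈ Finset.range k, (q₀ ^ (n' + 1 - (i : ℕ))) ^ l))] at h3
  simp only [Fin.val_castSucc, Fin.val_last, Nat.add_sub_cancel_left, pow_one] at h3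
  set O' := ∏ i : Fin n', (q₀ ^ ((i : ℕ) * (k - 1)) *
    ∑ l ∈ Finset.range k, (q₀ ^ (n' + 1 - (i : ℕ))) ^ l) with hO'
  obtain ⟨t, ht⟩ : ∃ t, q₀ = t + 1 := ⟨q₀ - 1, by omega⟩
  have h4 : q₀ ^ k - 1 = (q₀ - 1) * ∑ j ∈ Finset.range k, q₀ ^ j := by
    rw [ht, pow_eq_pred_mul_geom t k, Nat.add_sub_cancel, Nat.add_sub_cancel]
  set M := ∑ j ∈ Finset.range k, q₀ ^ j with hM
  have hMpos : 0 < M := by
    rw [hM]
    apply Finset.sum_pos
    · intro j _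
      exact pow_pos (by omega) j
    · exact ⟨0, Finset.mem_range.2 (by omega)⟩
  rw [h3, ← h2, h4, hs] at h1
  have h5 : (q₀ - 1) * M * (A₀ * (r * s)) = (q₀ - 1) * M * (A₀ * (O' * q₀ ^ (n' * (k - 1)))) := by
    calc (q₀ - 1) * M * (A₀ * (r * s)) = (q₀ - 1) * M * (r * A₀ * s) := by ring
      _ = (q₀ - 1) * A₀ * (O' * (q₀ ^ (n' * (k - 1)) * M)) := h1
      _ = (q₀ - 1) * M * (A₀ * (O' * q₀ ^ (n' * (k - 1)))) := by ring
  have h6 : 0 < (q₀ - 1) * M := Nat.mul_pos (by omega) hMpos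
  have h7 := Nat.eq_of_mul_eq_mul_left hA₀ (Nat.eq_of_mul_eq_mul_left h6 h5)
  have h8 : r ∣ O' * q₀ ^ (n' * (k - 1)) := ⟨s, h7.symm⟩
  rcases (Nat.Prime.dvd_mul hr).1 h8 with h9 | h9
  · rw [hO', Prime.dvd_finsetProd_iff hr.prime] at h9
    obtain ⟨i, -, hi⟩ := h9
    rcases (Nat.Prime.dvd_mul hr).1 hi with h10 | h10
    · exact hrq (hr.dvd_of_dvd_pow h10)
    · exact hS (n' + 1 - (i : ℕ)) (by have := i.2; omega) (by omega) h10
  · exact hrq (hr.dvd_of_dvd_pow h9)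

/-- geometric sums `∑_{l<k} (q₀ ^ j) ^ l` are prime to `r` if `r ≠ k` and `k` does not divide the
order of `q₀` modulo `r` -/
theorem not_dvd_geom_sum (q₀ k r j : ℕ) (hr : r.Prime) (hk : k.Prime) (hrk : r ≠ k)
    (hord : ¬ k ∣ orderOf ((q₀ : ℕ) : ZMod r)) :
    ¬ r ∣ ∑ l ∈ Finset.range k, (q₀ ^ j) ^ l := by
  have : Fact r.Prime := ⟨hr⟩
  intro h
  rw [← ZMod.natCast_eq_zero_iff] at h
  push_cast at h
  set a : ZMod r := ((q₀ : ℕ) : ZMod r) ^ j with ha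
  by_cases ha1 : a = 1
  · rw [ha1] at h
    simp only [one_pow, Finset.sum_const, Finset.card_range, nsmul_eq_mul, mul_one] at h
    rw [ZMod.natCast_eq_zero_iff] at h
    exact hrk ((Nat.prime_dvd_prime_iff_eq hr hk).1 h)
  · have h1 : (a - 1) * ∑ l ∈ Finset.range k, a ^ l = a ^ k - 1 := mul_geom_sum a k
    rw [h, mul_zero] at h1
    have h2 : ((q₀ : ℕ) : ZMod r) ^ (j * k) = 1 := by
      rw [pow_mul, ← ha]
      exact (sub_eq_zero.1 h1.symm)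
    have h3 := orderOf_dvd_of_pow_eq_one h2
    have hcop : (orderOf ((q₀ : ℕ) : ZMod r)).Coprime k :=
      (Nat.Coprime.symm ((Nat.Prime.coprime_iff_not_dvd hk).2 hord))
    have h4 : orderOf ((q₀ : ℕ) : ZMod r) ∣ j := hcop.dvd_of_dvd_mul_right h3
    apply ha1
    rw [ha]
    exact orderOf_dvd_iff_pow_eq_one.1 h4

end arith2

section index2

variable {F : Type*} [Field F] [Fintype F] {n : ℕ}

/-- an odd prime `r ≠ k` dividing the index of the subfield subgroup: `k` divides the order of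
`q₀` modulo `r` -/
theorem dvd_orderOf_of_dvd_index (F₀ : Subfield F) (k r : ℕ) (hk : k.Prime) (hr : r.Prime)
    (hrk : r ≠ k) (hrq : ¬ r ∣ Nat.card F₀) (hcard : Fintype.card F = Nat.card F₀ ^ k)
    (hn : 1 ≤ n) (hΩ : r ∣ (subH n F₀).index) :
    k ∣ orderOf ((Nat.card F₀ : ℕ) : ZMod r) := by
  classical
  let _ : Fintype F₀ := Fintype.ofFinite F₀
  by_contra hord
  have hq1 : 1 < Nat.card F₀ := Finite.one_lt_card
  have h3 : Nat.card (slMap n F₀).range = Nat.card (SpecialLinearGroup (Fin n) F₀) :=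
    Nat.card_range_of_injective (slMap_injective F₀)
  have h4 : Nat.card (slMap n F₀).range ∣ Nat.card (subH n F₀) :=
    Subgroup.card_dvd_of_le (slMap_range_le F₀)
  have h5 : r * Nat.card (SpecialLinearGroup (Fin n) F₀) ∣
      Nat.card (SpecialLinearGroup (Fin n) F) := by
    rw [← h3, ← Subgroup.index_mul_card (subH n F₀)]
    exact Nat.mul_dvd_mul hΩ h4
  have h6 := Cfsg.Agent.Helper2.card_SL_mul (F := F) n hn
  have h7 := Cfsg.Agent.Helper2.card_SL_mul (F := F₀) n hn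
  rw [hcard] at h6
  rw [← Nat.card_eq_fintype_card] at h7
  exact card_SL_r_part (Nat.card F₀) k n _ _ r hr hq1 hk.one_le hn hrq
    (fun j _ _ => not_dvd_geom_sum (Nat.card F₀) k r j hr hk hrk hord) Nat.card_pos h6 h7 h5

/-- a prime not dividing `q` and dividing the order of `SL_n(q)` has `ord_r(q) ≤ n` -/
theorem orderOf_le_of_dvd_card_SL (r : ℕ) (hr : r.Prime) (hrq : ¬ r ∣ Fintype.card F)
    (hn : 1 ≤ n) (h : r ∣ Nat.card (SpecialLinearGroup (Fin n) F)) :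
    orderOf ((Fintype.card F : ℕ) : ZMod r) ≤ n := by
  have h6 := Cfsg.Agent.Helper2.card_SL_mul (F := F) n hn
  have h1 : r ∣ ∏ i : Fin n, (Fintype.card F ^ n - Fintype.card F ^ (i : ℕ)) := by
    rw [← h6]
    exact Dvd.dvd.mul_left h _
  rw [Prime.dvd_finsetProd_iff hr.prime] at h1
  obtain ⟨i, -, hi⟩ := h1
  have hq1 : 1 ≤ Fintype.card F := Fintype.card_pos
  have h2 : Fintype.card F ^ n - Fintype.card F ^ (i : ℕ) =
      Fintype.card F ^ (i : ℕ) * (Fintype.card F ^ (n - (i : ℕ)) - 1) := by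
    rw [Nat.mul_sub, mul_one, ← pow_add]
    congr 2
    have := i.2
    omega
  rw [h2] at hi
  rcases (Nat.Prime.dvd_mul hr).1 hi with h3 | h3
  · exact absurd (hr.dvd_of_dvd_pow h3) hrq
  · have h4 : ((Fintype.card F : ℕ) : ZMod r) ^ (n - (i : ℕ)) = 1 := by
      rw [← ZMod.natCast_eq_zero_iff, Nat.cast_sub (Nat.one_le_pow _ _ hq1), Nat.cast_pow,
        Nat.cast_one, sub_eq_zero] at h3
      exact h3
    have h5 := orderOf_dvd_of_pow_eq_one h4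
    have h6 : 0 < n - (i : ℕ) := by
      have := i.2
      omega
    exact le_trans (Nat.le_of_dvd h6 h5) (Nat.sub_le _ _)

end index2

end Cfsg.Agent.Helper13.SubF
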