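import Mathlib
import Cfsg.Agent.Lib.Helper13.SubF8
import Cfsg.Agent.Lib.Helper18.RobinsonLinAlg

/-!
# Bad elements of odd prime order `r` not dividing `q - 1` for the subfield subgroup (helper13)
-/

set_option autoImplicit false

namespace Cfsg.Agent.Helper13.SubF

open Matrix Module Polynomial Cfsg.Agent.Helper13.Nilp Cfsg.Agent.Helper13.JM
open Cfsg.Agent.Helper13.SS

section kdimrank

variable {K : Type*} [Field K] {n : ℕ}

theorem kdim_X_sub_one_add_rank (g : GL (Fin n) K) :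
    kdim (L g) (X - 1 : K[X]) + ((g : Matrix (Fin n) (Fin n) K) - 1).rank = n := by
  unfold kdim
  have h1 : aeval (L g) (X - 1 : K[X]) =
      Matrix.toLin' ((g : Matrix (Fin n) (Fin n) K) - 1) := by
    rw [map_sub, aeval_X, map_one, map_sub, Matrix.toLin'_one]
    rfl
  rw [h1, Matrix.rank, ← Matrix.toLin'_apply', add_comm,
    LinearMap.finrank_range_add_finrank_ker, Module.finrank_fin_fun]

theorem eq_one_of_pow_of_coprime {G : Type*} [Monoid G] (u : G) (r m : ℕ) (h1 : u ^ r = 1)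
    (h2 : u ^ m = 1) (hcop : r.Coprime m) : u = 1 := by
  have h3 := (pow_gcd_eq_one (a := u) (m := r) (n := m)).2 ⟨h1, h2⟩
  rw [hcop, pow_one] at h3
  exact h3

end kdimrank

section caseA

variable {F : Type*} [Field F] [Fintype F] {p : ℕ} [Fact p.Prime] [CharP F p] {n : ℕ}

theorem field_eq_one_of_pow (r : ℕ) (hr : r.Prime) (hrq : ¬ r ∣ Fintype.card F - 1) (u : F)
    (h1 : u ^ r = 1) : u = 1 := by
  have hu0 : u ≠ 0 := by
    rintro rfl
    rw [zero_pow hr.ne_zero] at h1
    exact zero_ne_one h1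
  exact eq_one_of_pow_of_coprime u r (Fintype.card F - 1) h1
    (FiniteField.pow_card_sub_one_eq_one u hu0) ((Nat.Prime.coprime_iff_not_dvd hr).2 hrq)

/-- if `r` does not divide `q - 1` and `i = ord_r(q) ≤ n`, there is an element of order `r` of
`SL_n(q)` with `rank (x - 1) = i` -/
theorem exists_small_rank (r : ℕ) (hr : r.Prime) (hrp : r ≠ p)
    (hrq : ¬ r ∣ Fintype.card F - 1)
    (hin : orderOf ((Fintype.card F : ℕ) : ZMod r) ≤ n) :
    ∃ x : SpecialLinearGroup (Fin n) F, x.1 ^ r = 1 ∧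
      (x.1 - 1).rank = orderOf ((Fintype.card F : ℕ) : ZMod r) ∧
      0 < orderOf ((Fintype.card F : ℕ) : ZMod r) := by
  classical
  set i := orderOf ((Fintype.card F : ℕ) : ZMod r) with hi
  have hcard := cycFactors_card (F := F) (p := p) (q := Fintype.card F) rfl hr hrp
  have hr1 : 0 < r - 1 := by have := hr.two_le; omega
  have hipos : 0 < i := by
    rcases Nat.eq_zero_or_pos i with h | h
    · rw [← hi, h, mul_zero] at hcard
      omega
    · exact h
  have hne : (cycFactors F r).Nonempty := by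
    rw [Finset.nonempty_iff_ne_empty]
    intro h
    rw [h, Finset.card_empty, zero_mul] at hcard
    omega
  obtain ⟨f₁, hf₁⟩ := hne
  set b : F[X] → ℕ := fun f => if f = f₁ then 1 else 0 with hb
  have hsum : ∑ f ∈ cycFactors F r, b f = 1 := by
    rw [hb, Finset.sum_ite_eq' (cycFactors F r) f₁ (fun _ => 1), if_pos hf₁]
  obtain ⟨g, hg, hk⟩ := exists_gl_of_mult (F := F) (p := p) (n := n) (q := Fintype.card F) rfl
    hr hrp b (by rw [hsum, one_mul]; exact hin)
  have hfin := finrank_eq hr hrp g hg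
  have hsum2 : ∑ f ∈ cycFactors F r, kdim (L g) f = i := by
    rw [Finset.sum_congr rfl hk, ← Finset.sum_mul, hsum, one_mul]
  have hrank : ((g : Matrix (Fin n) (Fin n) F) - 1).rank = i := by
    have := kdim_X_sub_one_add_rank g
    omega
  have hgr : (g : Matrix (Fin n) (Fin n) F) ^ r = 1 := by
    rw [← Units.val_pow_eq_pow_val, hg, Units.val_one]
  have hdet : (g : Matrix (Fin n) (Fin n) F).det = 1 := by
    apply field_eq_one_of_pow r hr hrq
    rw [← Matrix.det_pow, hgr, Matrix.det_one]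
  exact ⟨⟨_, hdet⟩, hgr, hrank, hipos⟩

/-- elements of order `r` of `GL_n(q₀)`: the rank of `y - 1` is a multiple of `ord_r(q₀)` -/
theorem orderOf_dvd_rank (r : ℕ) (hr : r.Prime) (hrp : r ≠ p) (g : GL (Fin n) F)
    (hg : g ^ r = 1) :
    orderOf ((Fintype.card F : ℕ) : ZMod r) ∣ ((g : Matrix (Fin n) (Fin n) F) - 1).rank := by
  classical
  have hfin := finrank_eq hr hrp g hg
  have h1 := kdim_X_sub_one_add_rank g
  have h2 : ((g : Matrix (Fin n) (Fin n) F) - 1).rank = ∑ f ∈ cycFactors F r, kdim (L g) f := by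
    omega
  rw [h2]
  apply Finset.dvd_sum
  intro f hf
  rw [← cycFactors_natDegree (F := F) (p := p) (q := Fintype.card F) rfl hr hrp hf]
  exact dvd_kdim (L g) f (cycFactors_irreducible hf)

/-- an element `x` of order `r` of `SL_n(q)` such that `ord_r(q₀)` does not divide
`rank (x - 1)` is not conjugate into the subfield group, if `r` divides neither `q - 1` nor
`q₀ - 1` -/
theorem not_conj_caseA (F₀ : Subfield F) (r : ℕ) (hr : r.Prime) (hrp : r ≠ p)
    (hrq : ¬ r ∣ Fintype.card F - 1) (hrq₀ : ¬ r ∣ Nat.card F₀ - 1) (hn : 0 < n)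
    (x : SpecialLinearGroup (Fin n) F) (hxr : x.1 ^ r = 1)
    (hrank : ¬ orderOf ((Nat.card F₀ : ℕ) : ZMod r) ∣ (x.1 - 1).rank)
    (P : SpecialLinearGroup (Fin n) F) (hP : P⁻¹ * x * P ∈ subH n F₀) : False := by
  classical
  let _ : Fintype F₀ := Fintype.ofFinite F₀
  have hcardF₀ : Nat.card F₀ = Fintype.card F₀ := Nat.card_eq_fintype_card
  set y := P⁻¹ * x * P with hy
  obtain ⟨A, c, hc, hyA⟩ := exists_of_mem_subH F₀ y hP
  set Pm : Matrix (Fin n) (Fin n) F := P.1 with hPm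
  set Pi : Matrix (Fin n) (Fin n) F := (P⁻¹).1 with hPi
  have hPiPm : Pi * Pm = 1 := by
    rw [hPi, hPm, ← Matrix.SpecialLinearGroup.coe_mul, inv_mul_cancel,
      Matrix.SpecialLinearGroup.coe_one]
  have hPmPi : Pm * Pi = 1 := by
    rw [hPi, hPm, ← Matrix.SpecialLinearGroup.coe_mul, mul_inv_cancel,
      Matrix.SpecialLinearGroup.coe_one]
  have hy0 : y.1 = Pi * x.1 * Pm := by
    rw [hy, Matrix.SpecialLinearGroup.coe_mul, Matrix.SpecialLinearGroup.coe_mul]
  have hyr : y.1 ^ r = 1 := by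
    have h1 := conj_pow_mat Pi Pm x.1 hPmPi r
    rw [← hy0, hxr, Matrix.mul_one] at h1
    have h2 := congrArg (fun M => M * Pm) h1
    simp only [Matrix.mul_assoc] at h2
    rw [hPiPm, Matrix.mul_one] at h2
    exact h2
  set ι : F₀ →+* F := F₀.subtype with hι
  have h3 : c ^ r • (A.1 ^ r).map ι = 1 := by
    rw [Matrix.map_pow, ← _root_.smul_pow, ← hyA, hyr]
  set e : F₀ := (A.1 ^ r) ⟨0, hn⟩ ⟨0, hn⟩ with he
  have hce : c ^ r * ((e : F₀) : F) = 1 := by
    have h4 := congrFun (congrFun h3 ⟨0, hn⟩) ⟨0, hn⟩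
    simp only [Matrix.smul_apply, Matrix.map_apply, Matrix.one_apply_eq, smul_eq_mul] at h4
    exact h4
  have he0 : e ≠ 0 := by
    rintro h0
    rw [h0] at hce
    simp at hce
  have hrq₀' : ¬ r ∣ Fintype.card F₀ - 1 := by rwa [← hcardF₀]
  obtain ⟨d, hd0, hd⟩ := exists_rpow_of_not_dvd (F := F₀) r hr hrq₀' e⁻¹ (inv_ne_zero he0)
  have hdF : ((d : F₀) : F) ≠ 0 := fun h => hd0 (Subtype.ext h)
  have hcd : c = ((d : F₀) : F) := by
    have h5 : ((d : F₀) : F) ^ r = ((e : F₀) : F)⁻¹ := by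
      have h6 : ((d : F₀) : F) ^ r = ι (d ^ r) := (map_pow ι d r).symm
      rw [h6, hd, map_inv₀]
      rfl
    have h7 : (c / ((d : F₀) : F)) ^ r = 1 := by
      rw [div_pow, h5, div_eq_mul_inv, inv_inv]
      exact hce
    have h8 := field_eq_one_of_pow r hr hrq _ h7
    field_simp at h8
    exact h8
  set A' : Matrix (Fin n) (Fin n) F₀ := d • A.1 with hA'
  have hA'map : A'.map ι = y.1 := by
    rw [hyA, hcd]
    ext i j
    simp [hA', Matrix.map_apply, Matrix.smul_apply, hι]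
  have hinj : Function.Injective (fun M : Matrix (Fin n) (Fin n) F₀ => M.map ι) :=
    Matrix.map_injective F₀.subtype_injective
  have hA'r : A' ^ r = 1 := by
    apply hinj
    show (A' ^ r).map ι = (1 : Matrix (Fin n) (Fin n) F₀).map ι
    rw [Matrix.map_pow, hA'map, hyr, Matrix.map_one _ (map_zero _) (map_one _)]
  have hr1 : r = (r - 1) + 1 := by have := hr.one_lt; omega
  let Y₀ : GL (Fin n) F₀ := ⟨A', A' ^ (r - 1), by rw [← pow_succ', ← hr1, hA'r],
    by rw [← pow_succ, ← hr1, hA'r]⟩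
  have hY₀r : Y₀ ^ r = 1 := by
    apply Units.ext
    rw [Units.val_pow_eq_pow_val, Units.val_one]
    exact hA'r
  have hdvd := orderOf_dvd_rank (F := F₀) (p := p) r hr hrp Y₀ hY₀r
  rw [← hcardF₀] at hdvd
  apply hrank
  have h9 : ((Y₀ : Matrix (Fin n) (Fin n) F₀) - 1).rank = (x.1 - 1).rank := by
    rw [← Cfsg.Agent.Helper18.Robinson.rank_map_eq ι]
    have h10 : ((Y₀ : Matrix (Fin n) (Fin n) F₀) - 1).map ι = Pi * (x.1 - 1) * Pm := by
      rw [Matrix.map_sub _ (map_sub _), Matrix.map_one _ (map_zero _) (map_one _)]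
      show A'.map ι - 1 = _
      rw [hA'map, hy0, Matrix.mul_sub, Matrix.sub_mul, Matrix.mul_one, hPiPm]
    rw [h10, Matrix.rank_mul_eq_left_of_isUnit_det, Matrix.rank_mul_eq_right_of_isUnit_det]
    · rw [hPi, (P⁻¹).2]
      exact isUnit_one
    · rw [hPm, P.2]
      exact isUnit_one
  rw [← h9]
  exact hdvd

end caseA

end Cfsg.Agent.Helper13.SubF
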