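import Mathlib
import Cfsg.Agent.Lib.Helper13.SubF9
import Cfsg.Agent.Lib.Helper13.SpSim8

/-!
# Bad diagonal elements of odd prime order `r` dividing `q - 1` for the subfield subgroup
(helper13)
-/

set_option autoImplicit false

namespace Cfsg.Agent.Helper13.SubF

open Matrix Module Polynomial Cfsg.Agent.Helper13.Nilp Cfsg.Agent.Helper13.JM

section units

variable {F : Type*} [Field F] [Fintype F]

theorem exists_unit_orderOf (d : ℕ) (hd : d ∣ Fintype.card F - 1) :
    ∃ u : Fˣ, orderOf u = d := by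
  classical
  obtain ⟨g, hg⟩ := IsCyclic.exists_ofOrder_eq_natCard (α := Fˣ)
  rw [Nat.card_eq_fintype_card, Fintype.card_units] at hg
  have hq : 0 < Fintype.card F - 1 := by
    have : 1 < Fintype.card F := Fintype.one_lt_card
    omega
  obtain ⟨e, he⟩ := hd
  have hd0 : d ≠ 0 := by
    rintro rfl
    rw [zero_mul] at he
    omega
  have he0 : e ≠ 0 := by
    rintro rfl
    rw [mul_zero] at he
    omega
  refine ⟨g ^ e, ?_⟩
  rw [orderOf_pow_of_dvd he0 (by rw [hg, he]; exact dvd_mul_left e d), hg, he,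
    Nat.mul_div_cancel _ (Nat.pos_of_ne_zero he0)]

end units

section roots

variable {F : Type*} [Field F] [Fintype F] {p : ℕ} [Fact p.Prime] [CharP F p] {n : ℕ}

/-- if a scalar multiple of a diagonal matrix is conjugate into the subfield group then, up to a
scalar, the multiset of its eigenvalues is stable under the Frobenius of the subfield -/
theorem roots_stable_of_conj (F₀ : Subfield F) (a₀ : ℕ) (ha₀ : Nat.card F₀ = p ^ a₀)
    (x : SpecialLinearGroup (Fin n) F) (c : F) (hc : c ≠ 0) (d : Fin n → F)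
    (hx : x.1 = c • Matrix.diagonal d)
    (P : SpecialLinearGroup (Fin n) F) (hP : P⁻¹ * x * P ∈ subH n F₀) :
    ∃ μ : F, μ ≠ 0 ∧
      Multiset.map (fun t => (μ * d t) ^ p ^ a₀) (Finset.univ : Finset (Fin n)).val =
      Multiset.map (fun t => μ * d t) (Finset.univ : Finset (Fin n)).val := by
  classical
  set y := P⁻¹ * x * P with hy
  obtain ⟨A, c', hc', hyA⟩ := exists_of_mem_subH F₀ y hP
  set Pm : Matrix (Fin n) (Fin n) F := P.1 with hPm
  set Pi : Matrix (Fin n) (Fin n) F := (P⁻¹).1 with hPi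
  have hPmPi : Pm * Pi = 1 := by
    rw [hPi, hPm, ← Matrix.SpecialLinearGroup.coe_mul, mul_inv_cancel,
      Matrix.SpecialLinearGroup.coe_one]
  have hy0 : y.1 = Pi * x.1 * Pm := by
    rw [hy, Matrix.SpecialLinearGroup.coe_mul, Matrix.SpecialLinearGroup.coe_mul]
  set ι : F₀ →+* F := F₀.subtype with hι
  set μ : F := c'⁻¹ * c with hμ
  refine ⟨μ, mul_ne_zero (inv_ne_zero hc') hc, ?_⟩
  have h1 : A.1.map ι = Pi * Matrix.diagonal (fun t => μ * d t) * Pm := by
    have h2 : A.1.map ι = c'⁻¹ • y.1 := by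
      rw [hyA, smul_smul, inv_mul_cancel₀ hc', one_smul]
    have h3 : Matrix.diagonal (fun t => μ * d t) = μ • Matrix.diagonal d := by
      ext i j
      by_cases hij : i = j
      · subst hij
        simp
      · simp [hij]
    rw [h2, hy0, hx, h3, hμ, Matrix.mul_smul, Matrix.smul_mul, smul_smul, Matrix.mul_smul,
      Matrix.smul_mul]
  have h4 : (A.1.map ι).charpoly = ∏ t : Fin n, (X - C (μ * d t)) := by
    rw [h1, Matrix.charpoly_mul_comm, ← Matrix.mul_assoc, hPmPi, Matrix.one_mul,
      Matrix.charpoly_diagonal]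
  have h5 := charpoly_map_frob F₀ a₀ ha₀ A.1
  rw [h4, Polynomial.map_prod] at h5
  have h6 : ∀ f : Fin n → F, (∏ t : Fin n, (X - C (f t)) : F[X]) =
      (Multiset.map (fun b => X - C b)
        (Multiset.map f (Finset.univ : Finset (Fin n)).val)).prod := by
    intro f
    rw [Multiset.map_map]
    rfl
  have h7 : ∀ t : Fin n, (X - C (μ * d t) : F[X]).map (iterateFrobenius F p a₀) =
      X - C ((μ * d t) ^ p ^ a₀) := by
    intro t
    rw [Polynomial.map_sub, Polynomial.map_X, Polynomial.map_C, iterateFrobenius_def]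
  simp only [h7] at h5
  rw [h6 (fun t => (μ * d t) ^ p ^ a₀), h6 (fun t => μ * d t)] at h5
  have h8 := congrArg Polynomial.roots h5
  rw [Polynomial.roots_multiset_prod_X_sub_C, Polynomial.roots_multiset_prod_X_sub_C] at h8
  exact h8

/-- the multiplicity of an eigenvalue of a diagonal matrix -/
def cnt (d : Fin n → F) [DecidableEq F] (b : F) : ℕ :=
  (Finset.univ.filter (fun t => d t = b)).card

/-- an eigenvalue with a multiplicity not shared by the others is fixed, up to the scalar, by the
Frobenius -/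
theorem fixed_of_unique_cnt [DecidableEq F] (a₀ : ℕ) (d : Fin n → F) (μ : F) (hμ : μ ≠ 0)
    (hM : Multiset.map (fun t => (μ * d t) ^ p ^ a₀) (Finset.univ : Finset (Fin n)).val =
      Multiset.map (fun t => μ * d t) (Finset.univ : Finset (Fin n)).val)
    (t₀ : Fin n) (huniq : ∀ t, cnt d (d t) = cnt d (d t₀) → d t = d t₀) :
    (μ * d t₀) ^ p ^ a₀ = μ * d t₀ := by
  set φ' : F → F := fun u => u ^ p ^ a₀ with hφ'
  have hinj : Function.Injective φ' := by
    intro u v huv
    have h1 : iterateFrobenius F p a₀ u = iterateFrobenius F p a₀ v := by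
      rw [iterateFrobenius_def, iterateFrobenius_def]
      exact huv
    exact (iterateFrobenius F p a₀).injective h1
  set f : Fin n → F := fun t => μ * d t with hf
  set D := Multiset.map f (Finset.univ : Finset (Fin n)).val with hD
  have hM' : Multiset.map φ' D = D := by
    rw [hD, Multiset.map_map]
    exact hM
  have hcount : ∀ t : Fin n, Multiset.count (f t) D = cnt d (d t) := by
    intro t
    rw [hD, Multiset.count_map]
    unfold cnt
    rw [← Finset.filter_val, Finset.card_def]
    congr 2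
    ext s
    simp only [Finset.mem_filter, Finset.mem_univ, true_and, hf]
    constructor
    · intro h
      exact (mul_left_cancel₀ hμ h).symm
    · intro h
      rw [h]
  have h2 : Multiset.count (φ' (f t₀)) D = cnt d (d t₀) := by
    conv_lhs => rw [← hM']
    rw [Multiset.count_map_eq_count' φ' D hinj, hcount]
  have hpos : 0 < cnt d (d t₀) := by
    unfold cnt
    exact Finset.card_pos.2 ⟨t₀, by simp⟩
  have h3 : φ' (f t₀) ∈ D := by
    rw [← Multiset.count_pos, h2]
    exact hpos
  obtain ⟨t, -, ht⟩ := Multiset.mem_map.1 h3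
  have h4 : cnt d (d t) = cnt d (d t₀) := by rw [← hcount t, ht, h2]
  have h5 := huniq t h4
  show φ' (f t₀) = f t₀
  rw [← ht, hf]
  simp only
  rw [h5]

/-- a diagonal element with two eigenvalues of unshared multiplicities whose ratio is not in the
subfield is not conjugate into the subfield group -/
theorem not_conj_of_unique_cnt [DecidableEq F] (F₀ : Subfield F) (a₀ : ℕ)
    (ha₀ : Nat.card F₀ = p ^ a₀)
    (x : SpecialLinearGroup (Fin n) F) (c : F) (hc : c ≠ 0) (d : Fin n → F)
    (hx : x.1 = c • Matrix.diagonal d) (t₁ t₂ : Fin n)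
    (hu₁ : ∀ t, cnt d (d t) = cnt d (d t₁) → d t = d t₁)
    (hu₂ : ∀ t, cnt d (d t) = cnt d (d t₂) → d t = d t₂) (h2 : d t₂ ≠ 0)
    (hratio : (d t₁ / d t₂) ^ p ^ a₀ ≠ d t₁ / d t₂)
    (P : SpecialLinearGroup (Fin n) F) (hP : P⁻¹ * x * P ∈ subH n F₀) : False := by
  obtain ⟨μ, hμ, hM⟩ := roots_stable_of_conj F₀ a₀ ha₀ x c hc d hx P hP
  have h3 := fixed_of_unique_cnt a₀ d μ hμ hM t₁ hu₁
  have h4 := fixed_of_unique_cnt a₀ d μ hμ hM t₂ hu₂
  apply hratio
  have h5 : d t₁ / d t₂ = (μ * d t₁) / (μ * d t₂) := by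
    field_simp
  rw [h5, div_pow, h3, h4]

end roots

end Cfsg.Agent.Helper13.SubF
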