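import Mathlib
import Cfsg.Agent.Lib.Helper13.SubF10

/-!
# The two bad diagonal elements (helper13)
-/

set_option autoImplicit false

namespace Cfsg.Agent.Helper13.SubF

open Matrix Module Polynomial Cfsg.Agent.Helper13.Nilp Cfsg.Agent.Helper13.JM
open Cfsg.Agent.Helper13.SpSim

section dvec1

variable {F : Type*} [Field F] {m : ℕ}

/-- the eigenvalue vector `(ω, 1, …, 1)` -/
def dvec1 (m : ℕ) (ω : F) : Fin (1 + m) → F := Fin.append ![ω] (fun _ => 1)

theorem cnt_dvec1 [DecidableEq F] (ω b : F) :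
    cnt (dvec1 m ω) b = (if ω = b then 1 else 0) + m * (if 1 = b then 1 else 0) := by
  unfold cnt
  rw [Finset.card_filter, Fin.sum_univ_add, Fin.sum_univ_one]
  simp only [dvec1, Fin.append_left, Fin.append_right]
  simp

theorem prod_dvec1 (ω : F) : ∏ i, dvec1 m ω i = ω := by
  rw [Fin.prod_univ_add, Fin.prod_univ_one]
  simp only [dvec1, Fin.append_left, Fin.append_right, Finset.prod_const_one, mul_one]
  simp

theorem dvec1_pow (ω : F) (r : ℕ) (hω : ω ^ r = 1) (i : Fin (1 + m)) : dvec1 m ω i ^ r = 1 := by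
  refine Fin.addCases (fun j => ?_) (fun j => ?_) i
  · simp only [dvec1, Fin.append_left]
    fin_cases j
    simpa using hω
  · simp only [dvec1, Fin.append_right, one_pow]

theorem dvec1_zero (ω : F) : dvec1 m ω (Fin.castAdd m 0) = ω := by
  simp [dvec1, Fin.append_left]

theorem dvec1_succ (ω : F) (j : Fin m) : dvec1 m ω (Fin.natAdd 1 j) = 1 := by
  simp [dvec1, Fin.append_right]

end dvec1

section bad1

variable {F : Type*} [Field F] [Fintype F] {p : ℕ} [Fact p.Prime] [CharP F p]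

theorem frob_ne_of_order (a₀ r : ℕ) (hr : r.Prime) (hrq₀ : ¬ r ∣ p ^ a₀ - 1) (ω : F)
    (hω0 : ω ≠ 0) (hωr : ω ^ r = 1) (hω1 : ω ≠ 1) : ω ^ p ^ a₀ ≠ ω := by
  intro h
  have hp : p.Prime := Fact.out
  have hpos : 1 ≤ p ^ a₀ := Nat.one_le_pow _ _ hp.pos
  have h1 : ω ^ (p ^ a₀ - 1) = 1 := by
    have h2 : ω * ω ^ (p ^ a₀ - 1) = ω * 1 := by
      rw [← pow_succ', Nat.sub_add_cancel hpos, h, mul_one]
    exact mul_left_cancel₀ hω0 h2
  exact hω1 (eq_one_of_pow_of_coprime ω r (p ^ a₀ - 1) hωr h1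
    ((Nat.Prime.coprime_iff_not_dvd hr).2 hrq₀))

/-- the bad element `η (ω, 1, …, 1)` when `(n)_r < (q - 1)_r` -/
theorem exists_bad_B1 (F₀ : Subfield F) (a₀ : ℕ) (ha₀ : Nat.card F₀ = p ^ a₀) (r : ℕ)
    (hr : r.Prime) (hrq₀ : ¬ r ∣ p ^ a₀ - 1) (m : ℕ) (hm : 1 ≤ m)
    (h2 : m = 1 → ¬ r ∣ p ^ a₀ + 1)
    (hv : padicValNat r (1 + m) < padicValNat r (Fintype.card F - 1)) :
    ∃ x : SpecialLinearGroup (Fin (1 + m)) F,
      (∃ z : F, ((x ^ r : SpecialLinearGroup (Fin (1 + m)) F) :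
        Matrix (Fin (1 + m)) (Fin (1 + m)) F) = z • (1 : Matrix (Fin (1 + m)) (Fin (1 + m)) F)) ∧
      (∀ z : F, (x : Matrix (Fin (1 + m)) (Fin (1 + m)) F) ≠
        z • (1 : Matrix (Fin (1 + m)) (Fin (1 + m)) F)) ∧
      ∀ P : SpecialLinearGroup (Fin (1 + m)) F, P⁻¹ * x * P ∉ subH (1 + m) F₀ := by
  classical
  have : Fact r.Prime := ⟨hr⟩
  set n := 1 + m with hn
  set a := padicValNat r n with ha
  have hq1 : Fintype.card F - 1 ≠ 0 := by
    have : 1 < Fintype.card F := Fintype.one_lt_card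
    omega
  have hdvd : r ^ (a + 1) ∣ Fintype.card F - 1 := (padicValNat_dvd_iff_le hq1).2 (by omega)
  obtain ⟨η, hη⟩ := exists_unit_orderOf (F := F) (r ^ (a + 1)) hdvd
  have hη0 : (η : F) ≠ 0 := η.ne_zero
  have hnr : η ^ (n * r) = 1 := by
    apply orderOf_dvd_iff_pow_eq_one.1
    rw [hη, pow_succ]
    exact Nat.mul_dvd_mul_right pow_padicValNat_dvd r
  have hηn : η ^ n ≠ 1 := by
    intro h
    have h1 := orderOf_dvd_of_pow_eq_one h
    rw [hη] at h1
    have h3 := (padicValNat_dvd_iff_le (by omega : n ≠ 0)).1 h1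
    omega
  set ω' : F := ((η : F) ^ n)⁻¹ with hω'
  have hηnF : (η : F) ^ n ≠ 1 := by
    intro h
    apply hηn
    apply Units.ext
    rw [Units.val_pow_eq_pow_val, h, Units.val_one]
  have hω'0 : ω' ≠ 0 := inv_ne_zero (pow_ne_zero _ hη0)
  have hω'1 : ω' ≠ 1 := by
    intro h
    apply hηnF
    rw [hω'] at h
    exact inv_eq_one.1 h
  have hω'r : ω' ^ r = 1 := by
    rw [hω', inv_pow, ← pow_mul, ← Units.val_pow_eq_pow_val, hnr, Units.val_one, inv_one]
  have hfrob := frob_ne_of_order a₀ r hr hrq₀ ω' hω'0 hω'r hω'1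
  set d := dvec1 m ω' with hd
  have hdet : ((η : F) • Matrix.diagonal d).det = 1 := by
    rw [Matrix.det_smul, Fintype.card_fin, Matrix.det_diagonal, hd, prod_dvec1, hω',
      mul_inv_cancel₀ (pow_ne_zero _ hη0)]
  obtain ⟨x, hx⟩ : ∃ x : SpecialLinearGroup (Fin n) F, x.1 = (η : F) • Matrix.diagonal d :=
    ⟨⟨_, hdet⟩, rfl⟩
  have hm0 : 0 < m := by omega
  refine ⟨x, ⟨(η : F) ^ r, ?_⟩, ?_, ?_⟩
  · rw [Matrix.SpecialLinearGroup.coe_pow, hx, _root_.smul_pow, Matrix.diagonal_pow]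
    congr 1
    rw [← Matrix.diagonal_one]
    congr 1
    funext i
    exact dvec1_pow ω' r hω'r i
  · intro z hz
    rw [hx] at hz
    have h3 := congrFun (congrFun hz (Fin.castAdd m 0)) (Fin.castAdd m 0)
    have h4 := congrFun (congrFun hz (Fin.natAdd 1 ⟨0, hm0⟩)) (Fin.natAdd 1 ⟨0, hm0⟩)
    simp only [Matrix.smul_apply, Matrix.diagonal_apply_eq, Matrix.one_apply_eq, smul_eq_mul,
      mul_one, hd, dvec1_zero, dvec1_succ] at h3 h4
    apply hω'1
    rw [← h4] at h3
    have h5 : (η : F) * ω' = (η : F) * 1 := by rw [h3, mul_one]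
    exact mul_left_cancel₀ hη0 h5
  · intro P hP
    by_cases hm1 : m = 1
    · -- two eigenvalues
      obtain ⟨μ, hμ, hM⟩ := roots_stable_of_conj F₀ a₀ ha₀ x (η : F) hη0 d hx P hP
      have hsum := congrArg Multiset.sum hM
      have hprod := congrArg Multiset.prod hM
      change ∑ t : Fin n, (μ * d t) ^ p ^ a₀ = ∑ t : Fin n, μ * d t at hsum
      change ∏ t : Fin n, (μ * d t) ^ p ^ a₀ = ∏ t : Fin n, μ * d t at hprod
      rw [Fin.sum_univ_add, Fin.sum_univ_add] at hsum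
      rw [Fin.prod_univ_add, Fin.prod_univ_add] at hprod
      subst hm1
      simp only [Fin.sum_univ_one, Fin.prod_univ_one, Fin.isValue, hd, dvec1_zero, dvec1_succ,
        mul_one] at hsum hprod
      set A := μ ^ p ^ a₀ with hA
      have hB : (μ * ω') ^ p ^ a₀ = A * ω' ^ p ^ a₀ := mul_pow _ _ _
      rw [hB] at hsum hprod
      have hfac : (A - μ) * (A - μ * ω') = 0 := by
        linear_combination A * hsum - hprod
      have hA0 : A ≠ 0 := pow_ne_zero _ hμ
      rcases mul_eq_zero.1 hfac with h5 | h5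
      · have h6 : A = μ := sub_eq_zero.1 h5
        apply hfrob
        rw [h6] at hsum
        have h7 : μ * ω' ^ p ^ a₀ = μ * ω' := by linear_combination hsum
        exact mul_left_cancel₀ hμ h7
      · have h6 : A = μ * ω' := sub_eq_zero.1 h5
        rw [h6] at hsum
        have h7 : μ * ω' * ω' ^ p ^ a₀ = μ * 1 := by linear_combination hsum
        rw [mul_assoc] at h7
        have h8 : ω' * ω' ^ p ^ a₀ = 1 := mul_left_cancel₀ hμ h7
        rw [← pow_succ'] at h8
        exact hω'1 (eq_one_of_pow_of_coprime ω' r (p ^ a₀ + 1) hω'r h8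
          ((Nat.Prime.coprime_iff_not_dvd hr).2 (h2 rfl)))
    · have hm2 : 2 ≤ m := by omega
      refine not_conj_of_unique_cnt F₀ a₀ ha₀ x (η : F) hη0 d hx (Fin.castAdd m 0)
        (Fin.natAdd 1 ⟨0, hm0⟩) ?_ ?_ ?_ ?_ P hP
      · intro t
        refine Fin.addCases (fun j => ?_) (fun j => ?_) t
        · intro _
          fin_cases j
          rfl
        · intro h
          exfalso
          rw [hd, dvec1_succ, dvec1_zero, cnt_dvec1, cnt_dvec1] at h
          simp only [hω'1, (Ne.symm hω'1), if_true, if_false] at h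
          omega
      · intro t
        refine Fin.addCases (fun j => ?_) (fun j => ?_) t
        · intro h
          exfalso
          fin_cases j
          rw [hd, dvec1_succ] at h
          have h9 : dvec1 m ω' (Fin.castAdd m ((fun i : Fin 1 => i) ⟨0, by omega⟩)) = ω' :=
            dvec1_zero ω'
          simp only [Fin.isValue, Fin.zero_eta] at h h9
          rw [h9, cnt_dvec1, cnt_dvec1] at h
          simp only [hω'1, (Ne.symm hω'1), if_true, if_false] at h
          omega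
        · intro _
          rw [hd, dvec1_succ, dvec1_succ]
      · rw [hd, dvec1_succ]
        exact one_ne_zero
      · rw [hd, dvec1_succ, dvec1_zero, div_one]
        exact hfrob

end bad1

section bad2

variable {F : Type*} [Field F] [Fintype F] {p : ℕ} [Fact p.Prime] [CharP F p]

theorem cnt_dvec [DecidableEq F] (m : ℕ) (ω b : F) : cnt (dvec m ω) b = cntv m ω b := rfl

theorem dvec_zero (m : ℕ) (ω : F) : dvec m ω (Fin.castAdd m 0) = ω := by
  simp [dvec, Fin.append_left]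

theorem dvec_one (m : ℕ) (ω : F) : dvec m ω (Fin.castAdd m 1) = ω := by
  simp [dvec, Fin.append_left]

theorem dvec_two (m : ℕ) (ω : F) : dvec m ω (Fin.castAdd m 2) = ω⁻¹ * ω⁻¹ := by
  simp [dvec, Fin.append_left]

theorem dvec_succ (m : ℕ) (ω : F) (j : Fin m) : dvec m ω (Fin.natAdd 3 j) = 1 := by
  simp [dvec, Fin.append_right]

/-- the bad element `(ω, ω, ω⁻², 1, …, 1)` for `n ≥ 7` -/
theorem exists_bad_B2 (F₀ : Subfield F) (a₀ : ℕ) (ha₀ : Nat.card F₀ = p ^ a₀) (r : ℕ)
    (hr : r.Prime) (hr2 : r ≠ 2) (hrq : r ∣ Fintype.card F - 1) (hrq₀ : ¬ r ∣ p ^ a₀ - 1)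
    (m : ℕ) (hm : 4 ≤ m) :
    ∃ x : SpecialLinearGroup (Fin (3 + m)) F,
      (∃ z : F, ((x ^ r : SpecialLinearGroup (Fin (3 + m)) F) :
        Matrix (Fin (3 + m)) (Fin (3 + m)) F) = z • (1 : Matrix (Fin (3 + m)) (Fin (3 + m)) F)) ∧
      (∀ z : F, (x : Matrix (Fin (3 + m)) (Fin (3 + m)) F) ≠
        z • (1 : Matrix (Fin (3 + m)) (Fin (3 + m)) F)) ∧
      ∀ P : SpecialLinearGroup (Fin (3 + m)) F, P⁻¹ * x * P ∉ subH (3 + m) F₀ := by
  classical
  have : Fact r.Prime := ⟨hr⟩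
  obtain ⟨ωu, hωu⟩ := exists_unit_orderOf (F := F) r hrq
  set ω : F := (ωu : F) with hω
  have hω0 : ω ≠ 0 := ωu.ne_zero
  have hωr : ω ^ r = 1 := by
    rw [hω, ← Units.val_pow_eq_pow_val, ← hωu, pow_orderOf_eq_one, Units.val_one]
  have hω1 : ω ≠ 1 := by
    intro h
    have h1 : ωu = 1 := Units.ext h
    rw [h1, orderOf_one] at hωu
    exact hr.one_lt.ne' hωu.symm
  have hω2 : ω⁻¹ * ω⁻¹ ≠ 1 := by
    intro h
    have h1 : ω ^ 2 = 1 := by
      have h2 : (ω⁻¹ * ω⁻¹) * (ω * ω) = 1 := by field_simp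
      rw [h, one_mul] at h2
      rw [pow_two, h2]
    exact hω1 (eq_one_of_pow_of_coprime ω r 2 hωr h1
      ((Nat.coprime_primes hr Nat.prime_two).2 hr2))
  have hfrob := frob_ne_of_order a₀ r hr hrq₀ ω hω0 hωr hω1
  set d := dvec m ω with hd
  have hdet : (Matrix.diagonal d).det = 1 := by
    rw [Matrix.det_diagonal, hd, prod_dvec ω hω0]
  obtain ⟨x, hx⟩ : ∃ x : SpecialLinearGroup (Fin (3 + m)) F, x.1 = Matrix.diagonal d :=
    ⟨⟨_, hdet⟩, rfl⟩
  have hx' : x.1 = (1 : F) • Matrix.diagonal d := by rw [hx, one_smul]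
  have hm0 : 0 < m := by omega
  refine ⟨x, ⟨1, ?_⟩, ?_, ?_⟩
  · rw [Matrix.SpecialLinearGroup.coe_pow, hx, Matrix.diagonal_pow, one_smul,
      ← Matrix.diagonal_one]
    congr 1
    funext i
    exact dvec_pow ω r hωr i
  · intro z hz
    rw [hx] at hz
    have h3 := congrFun (congrFun hz (Fin.castAdd m 0)) (Fin.castAdd m 0)
    have h4 := congrFun (congrFun hz (Fin.natAdd 3 ⟨0, hm0⟩)) (Fin.natAdd 3 ⟨0, hm0⟩)
    simp only [Matrix.smul_apply, Matrix.diagonal_apply_eq, Matrix.one_apply_eq, smul_eq_mul,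
      mul_one, hd, dvec_zero, dvec_succ] at h3 h4
    apply hω1
    rw [h3, h4]
  · intro P hP
    have hcω : cntv m ω ω = 2 + (if ω⁻¹ * ω⁻¹ = ω then 1 else 0) := by
      rw [cntv_eq]
      simp only [if_true, (Ne.symm hω1), if_false, mul_zero, add_zero]
    have hc1 : cntv m ω 1 = m := by
      rw [cntv_eq]
      simp only [hω1, hω2, if_true, if_false, mul_one, zero_add, add_zero]
    have hc2 : ω⁻¹ * ω⁻¹ ≠ ω → cntv m ω (ω⁻¹ * ω⁻¹) = 1 := by
      intro hne
      rw [cntv_eq]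
      simp only [(Ne.symm hne), (Ne.symm hω2), if_true, if_false, mul_zero, add_zero, zero_add]
    refine not_conj_of_unique_cnt F₀ a₀ ha₀ x 1 one_ne_zero d hx' (Fin.castAdd m 0)
      (Fin.natAdd 3 ⟨0, hm0⟩) ?_ ?_ ?_ ?_ P hP
    · intro t
      refine Fin.addCases (fun j => ?_) (fun j => ?_) t
      · intro h
        fin_cases j
        · rfl
        · show dvec m ω (Fin.castAdd m 1) = dvec m ω (Fin.castAdd m 0)
          rw [dvec_one, dvec_zero]
        · show dvec m ω (Fin.castAdd m 2) = dvec m ω (Fin.castAdd m 0)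
          rw [dvec_two, dvec_zero]
          by_contra hne
          have h5 : cnt d (dvec m ω (Fin.castAdd m 2)) = cnt d (dvec m ω (Fin.castAdd m 0)) := h
          rw [hd, dvec_two, dvec_zero, cnt_dvec, cnt_dvec, hc2 hne, hcω, if_neg hne] at h5
          omega
      · intro h
        exfalso
        rw [hd, dvec_succ, dvec_zero, cnt_dvec, cnt_dvec, hc1, hcω] at h
        split_ifs at h <;> omega
    · intro t
      refine Fin.addCases (fun j => ?_) (fun j => ?_) t
      · intro h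
        exfalso
        fin_cases j
        · have h5 : cnt d (dvec m ω (Fin.castAdd m 0)) =
              cnt d (dvec m ω (Fin.natAdd 3 ⟨0, hm0⟩)) := h
          rw [hd, dvec_succ, dvec_zero, cnt_dvec, cnt_dvec, hc1, hcω] at h5
          split_ifs at h5 <;> omega
        · have h5 : cnt d (dvec m ω (Fin.castAdd m 1)) =
              cnt d (dvec m ω (Fin.natAdd 3 ⟨0, hm0⟩)) := h
          rw [hd, dvec_succ, dvec_one, cnt_dvec, cnt_dvec, hc1, hcω] at h5
          split_ifs at h5 <;> omega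
        · have h5 : cnt d (dvec m ω (Fin.castAdd m 2)) =
              cnt d (dvec m ω (Fin.natAdd 3 ⟨0, hm0⟩)) := h
          rw [hd, dvec_succ, dvec_two, cnt_dvec, cnt_dvec, hc1] at h5
          by_cases hne : ω⁻¹ * ω⁻¹ = ω
          · rw [hne, hcω, if_pos hne] at h5
            omega
          · rw [hc2 hne] at h5
            omega
      · intro _
        rw [hd, dvec_succ, dvec_succ]
    · rw [hd, dvec_succ]
      exact one_ne_zero
    · rw [hd, dvec_succ, dvec_zero, div_one]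
      exact hfrob

end bad2

end Cfsg.Agent.Helper13.SubF
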