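import Mathlib
import Cfsg.Agent.Lib.Helper13.SubF11

/-!
# The special case `k = 2`, `r = n ∈ {3, 5}` for subfield subgroups (helper13)
-/

set_option autoImplicit false

namespace Cfsg.Agent.Helper13.SubF

open Matrix Module Polynomial Cfsg.Agent.Helper13.Nilp Cfsg.Agent.Helper13.JM
open Cfsg.Agent.Helper13.SS

section split

variable {F : Type*} [Field F] {n : ℕ}

/-- the multiplicity of the eigenvalue `ω ^ i` -/
noncomputable def emul (M : Matrix (Fin n) (Fin n) F) (ω : F) (i : ℕ) : ℕ :=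
  kdim (Matrix.toLin' M) (X - C (ω ^ i) : F[X])

theorem kdim_smul_eq (M : Matrix (Fin n) (Fin n) F) (α b : F) (hα : α ≠ 0) :
    kdim (Matrix.toLin' (α • M)) (X - C (b * α) : F[X]) =
      kdim (Matrix.toLin' M) (X - C b : F[X]) := by
  unfold kdim
  have h1 : aeval (Matrix.toLin' (α • M)) (X - C (b * α) : F[X]) =
      α • aeval (Matrix.toLin' M) (X - C b : F[X]) := by
    rw [map_sub, map_sub, aeval_X, aeval_X, aeval_C, aeval_C, map_smul, smul_sub,
      Algebra.algebraMap_eq_smul_one, Algebra.algebraMap_eq_smul_one, smul_smul, mul_comm α b]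
  rw [h1, LinearMap.ker_smul _ _ hα]

/-- the characteristic polynomial of a scalar multiple of a matrix with `M ^ r = 1`, in the
presence of a primitive `r`-th root of unity -/
theorem charpoly_smul_of_pow (r : ℕ) (hr : 0 < r) (ω : F) (hω : IsPrimitiveRoot ω r) (α : F)
    (hα : α ≠ 0) (M : Matrix (Fin n) (Fin n) F) (hM : M ^ r = 1) :
    (α • M).charpoly = ∏ i ∈ Finset.range r, (X - C (ω ^ i * α)) ^ emul M ω i := by
  classical
  set g : Module.End F (Fin n → F) := Matrix.toLin' (α • M) with hg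
  set S : Finset F[X] := (Finset.range r).image (fun i => (X - C (ω ^ i * α) : F[X])) with hS
  have hinj : Set.InjOn (fun i => (X - C (ω ^ i * α) : F[X])) (Finset.range r : Set ℕ) := by
    intro i hi j hj hij
    have h1 : ω ^ i * α = ω ^ j * α := by
      have h2 := congrArg (fun P : F[X] => P.coeff 0) hij
      simp only [coeff_sub, coeff_X_zero, coeff_C_zero, zero_sub, neg_inj] at h2
      exact h2
    have h3 : ω ^ i = ω ^ j := mul_right_cancel₀ hα h1
    exact hω.pow_inj (Finset.mem_range.1 hi) (Finset.mem_range.1 hj) h3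
  have hirr : ∀ f ∈ S, Irreducible f := by
    intro f hf
    obtain ⟨i, -, rfl⟩ := Finset.mem_image.1 hf
    exact irreducible_X_sub_C _
  have hmon : ∀ f ∈ S, f.Monic := by
    intro f hf
    obtain ⟨i, -, rfl⟩ := Finset.mem_image.1 hf
    exact monic_X_sub_C _
  have hprod : ∏ f ∈ S, f = X ^ r - C (α ^ r) := by
    rw [hS, Finset.prod_image hinj]
    exact (X_pow_sub_C_eq_prod hω hr rfl).symm
  have hkill : aeval g (∏ f ∈ S, f) = 0 := by
    rw [hprod, map_sub, map_pow, aeval_X, aeval_C, hg]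
    have h1 : (Matrix.toLin' (α • M)) ^ r = Matrix.toLin' ((α • M) ^ r) :=
      (map_pow (Matrix.toLinAlgEquiv' (R := F) (n := Fin n)) (α • M) r).symm
    rw [h1, _root_.smul_pow, hM, map_smul, Matrix.toLin'_one, Algebra.algebraMap_eq_smul_one]
    exact sub_self _
  have hcp := charpoly_eq_prod S hirr hmon g hkill
  rw [hg, Matrix.charpoly_toLin'] at hcp
  rw [hcp, hS, Finset.prod_image hinj]
  apply Finset.prod_congr rfl
  intro i _
  rw [natDegree_X_sub_C, Nat.div_one, kdim_smul_eq M α (ω ^ i) hα]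
  rfl

theorem sum_emul (r : ℕ) (hr : 0 < r) (ω : F) (hω : IsPrimitiveRoot ω r)
    (M : Matrix (Fin n) (Fin n) F) (hM : M ^ r = 1) :
    ∑ i ∈ Finset.range r, emul M ω i = n := by
  have h1 := charpoly_smul_of_pow r hr ω hω 1 one_ne_zero M hM
  have h2 := congrArg Polynomial.natDegree h1
  rw [one_smul, Matrix.charpoly_natDegree_eq_dim, Fintype.card_fin,
    Polynomial.natDegree_prod_of_monic _ _ (fun i _ => (monic_X_sub_C _).pow _)] at h2
  refine Eq.trans ?_ h2.symm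
  apply Finset.sum_congr rfl
  intro i _
  rw [natDegree_pow, natDegree_X_sub_C, mul_one]

theorem det_smul_of_pow (r : ℕ) (hr : 0 < r) (ω : F) (hω : IsPrimitiveRoot ω r) (α : F)
    (hα : α ≠ 0) (M : Matrix (Fin n) (Fin n) F) (hM : M ^ r = 1) :
    (α • M).det = α ^ n * ω ^ (∑ i ∈ Finset.range r, i * emul M ω i) := by
  have h1 := charpoly_smul_of_pow r hr ω hω α hα M hM
  have hsum := sum_emul r hr ω hω M hM
  rw [Matrix.det_eq_sign_charpoly_coeff, h1, Fintype.card_fin, coeff_zero_eq_eval_zero,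
    eval_prod]
  simp only [eval_pow, eval_sub, eval_X, eval_C, zero_sub]
  have h2 : ∀ i ∈ Finset.range r, (-(ω ^ i * α)) ^ emul M ω i =
      ((-1) ^ emul M ω i * α ^ emul M ω i) * ω ^ (i * emul M ω i) := by
    intro i _
    rw [neg_pow, mul_pow, ← pow_mul]
    ring
  rw [Finset.prod_congr rfl h2, Finset.prod_mul_distrib, Finset.prod_mul_distrib,
    Finset.prod_pow_eq_pow_sum, Finset.prod_pow_eq_pow_sum, Finset.prod_pow_eq_pow_sum, hsum,
    ← mul_assoc, ← mul_assoc, ← pow_add, Even.neg_one_pow ⟨n, rfl⟩, one_mul]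

end split

section comb

theorem comb3 (m : ℕ → ℕ) (h1 : ∑ i ∈ Finset.range 3, m i = 3)
    (h2 : 3 ∣ ∑ i ∈ Finset.range 3, i * m i) :
    ∃ s < 3, ∀ i < 3, m ((s + 3 - i) % 3) = m i := by
  simp only [Finset.sum_range_succ, Finset.sum_range_zero, zero_add, zero_mul, one_mul] at h1 h2
  have h3 : m 1 = m 2 ∨ m 0 = m 1 ∨ m 0 = m 2 := by omega
  rcases h3 with h | h | h
  · refine ⟨0, by norm_num, ?_⟩
    intro i hi
    interval_cases i <;> simp [h]
  · refine ⟨1, by norm_num, ?_⟩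
    intro i hi
    interval_cases i <;> simp [h]
  · refine ⟨2, by norm_num, ?_⟩
    intro i hi
    interval_cases i <;> simp [h]

set_option maxRecDepth 100000 in
theorem comb5_aux : ∀ a b c d : Fin 6, a.val + b.val + c.val + d.val ≤ 5 →
    (b.val + 2 * c.val + 3 * d.val + 4 * (5 - (a.val + b.val + c.val + d.val))) % 5 = 0 →
    (b.val = 5 - (a.val + b.val + c.val + d.val) ∧ c = d) ∨
    (a = b ∧ c.val = 5 - (a.val + b.val + c.val + d.val)) ∨
    (a = c ∧ d.val = 5 - (a.val + b.val + c.val + d.val)) ∨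
    (a = d ∧ b = c) ∨ (a.val = 5 - (a.val + b.val + c.val + d.val) ∧ b = d) := by
  decide

theorem comb5' (a b c d e : ℕ) (h1 : a + b + c + d + e = 5)
    (h2 : 5 ∣ b + 2 * c + 3 * d + 4 * e) :
    (b = e ∧ c = d) ∨ (a = b ∧ c = e) ∨ (a = c ∧ d = e) ∨
      (a = d ∧ b = c) ∨ (a = e ∧ b = d) := by
  have he : e = 5 - (a + b + c + d) := by omega
  have ha : a < 6 := by omega
  have hb : b < 6 := by omega
  have hc : c < 6 := by omega
  have hd : d < 6 := by omega
  have h4 := comb5_aux ⟨a, ha⟩ ⟨b, hb⟩ ⟨c, hc⟩ ⟨d, hd⟩ ?_ ?_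
  · simp only [Fin.mk.injEq] at h4
    rw [← he] at h4
    exact h4
  · show a + b + c + d ≤ 5
    omega
  · show (b + 2 * c + 3 * d + 4 * (5 - (a + b + c + d))) % 5 = 0
    rw [← he]
    omega

theorem comb5 (m : ℕ → ℕ) (h1 : ∑ i ∈ Finset.range 5, m i = 5)
    (h2 : 5 ∣ ∑ i ∈ Finset.range 5, i * m i) :
    ∃ s < 5, ∀ i < 5, m ((s + 5 - i) % 5) = m i := by
  simp only [Finset.sum_range_succ, Finset.sum_range_zero, zero_add, zero_mul, one_mul] at h1 h2
  have h3 := comb5' (m 0) (m 1) (m 2) (m 3) (m 4) h1 h2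
  rcases h3 with ⟨h, h'⟩ | ⟨h, h'⟩ | ⟨h, h'⟩ | ⟨h, h'⟩ | ⟨h, h'⟩
  · refine ⟨0, by norm_num, ?_⟩
    intro i hi
    interval_cases i <;> simp [h, h']
  · refine ⟨1, by norm_num, ?_⟩
    intro i hi
    interval_cases i <;> simp [h, h']
  · refine ⟨2, by norm_num, ?_⟩
    intro i hi
    interval_cases i <;> simp [h, h']
  · refine ⟨3, by norm_num, ?_⟩
    intro i hi
    interval_cases i <;> simp [h, h']
  · refine ⟨4, by norm_num, ?_⟩
    intro i hi
    interval_cases i <;> simp [h, h']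

theorem refl_refl (r s i : ℕ) (hs : s < r) (hi : i < r) :
    (s + r - (s + r - i) % r) % r = i := by
  by_cases h : i ≤ s
  · have h1 : s + r - i = (s - i) + r := by omega
    rw [h1, Nat.add_mod_right, Nat.mod_eq_of_lt (by omega : s - i < r)]
    have h2 : s + r - (s - i) = i + r := by omega
    rw [h2, Nat.add_mod_right, Nat.mod_eq_of_lt hi]
  · rw [Nat.mod_eq_of_lt (by omega : s + r - i < r)]
    have h2 : s + r - (s + r - i) = i := by omega
    rw [h2, Nat.mod_eq_of_lt hi]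

end comb

section special

variable {F : Type*} [Field F] [Fintype F] {p : ℕ} [Fact p.Prime] [CharP F p]

theorem frob_eigen (Q r s i : ℕ) (ω α : F) (hωr : ω ^ r = 1) (hωQ : ω ^ Q * ω = 1)
    (hα : α ^ Q = ω ^ s * α) (hi : i < r) :
    (ω ^ i * α) ^ Q = ω ^ ((s + r - i) % r) * α := by
  have hω0 : ω ≠ 0 := by
    rintro rfl
    rw [mul_zero] at hωQ
    exact zero_ne_one hωQ
  have h1 : (ω ^ Q) ^ i * ω ^ i = 1 := by rw [← mul_pow, hωQ, one_pow]
  have h2 : ω ^ ((s + r - i) % r) = ω ^ (s + r - i) :=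
    pow_eq_pow_of_modEq ω r _ _ hωr (Nat.mod_modEq _ _)
  have h3 : ω ^ (s + r - i) * ω ^ i = ω ^ s := by
    rw [← pow_add, Nat.sub_add_cancel (by omega), pow_add, hωr, mul_one]
  have h4 : ω ^ i ≠ 0 := pow_ne_zero _ hω0
  rw [mul_pow, hα, h2, ← pow_mul, mul_comm i Q, pow_mul]
  have h5 : (ω ^ Q) ^ i * ω ^ s = ω ^ (s + r - i) := by
    apply mul_right_cancel₀ h4
    rw [h3, mul_assoc, mul_comm (ω ^ s), ← mul_assoc, h1, one_mul]
  rw [← mul_assoc, h5]

/-- the symmetric products are stable under the Frobenius -/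
theorem stable_of_symm (a₀ r s : ℕ) (hs : s < r) (ω α : F) (hωr : ω ^ r = 1)
    (hωQ : ω ^ p ^ a₀ * ω = 1) (hα : α ^ p ^ a₀ = ω ^ s * α) (m : ℕ → ℕ)
    (hm : ∀ i < r, m ((s + r - i) % r) = m i) :
    (∏ i ∈ Finset.range r, (X - C (ω ^ i * α)) ^ m i : F[X]).map (iterateFrobenius F p a₀) =
      ∏ i ∈ Finset.range r, (X - C (ω ^ i * α)) ^ m i := by
  have hr : 0 < r := by omega
  rw [Polynomial.map_prod]
  apply Finset.prod_nbij' (fun i => (s + r - i) % r) (fun i => (s + r - i) % r)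
  · intro i _
    exact Finset.mem_range.2 (Nat.mod_lt _ hr)
  · intro i _
    exact Finset.mem_range.2 (Nat.mod_lt _ hr)
  · intro i hi
    exact refl_refl r s i hs (Finset.mem_range.1 hi)
  · intro i hi
    exact refl_refl r s i hs (Finset.mem_range.1 hi)
  · intro i hi
    have hi' := Finset.mem_range.1 hi
    rw [Polynomial.map_pow, Polynomial.map_sub, Polynomial.map_X, Polynomial.map_C,
      iterateFrobenius_def, frob_eigen (p ^ a₀) r s i ω α hωr hωQ hα hi', hm i hi']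

theorem exists_alpha (Q : ℕ) (hQ : 1 < Q) (hcard : Fintype.card F = Q ^ 2) (ζ : F)
    (hζ : ζ ^ (Q + 1) = 1) : ∃ α : F, α ≠ 0 ∧ α ^ Q = ζ * α := by
  classical
  have hζ0 : ζ ≠ 0 := by
    rintro rfl
    rw [zero_pow (by omega)] at hζ
    exact zero_ne_one hζ
  obtain ⟨γ, hγ⟩ := IsCyclic.exists_generator (α := Fˣ)
  have hord : orderOf γ = (Q - 1) * (Q + 1) := by
    rw [orderOf_eq_card_of_forall_mem_zpowers hγ, Nat.card_eq_fintype_card, Fintype.card_units,
      hcard]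
    obtain ⟨t, rfl⟩ : ∃ t, Q = t + 1 := ⟨Q - 1, by omega⟩
    rw [Nat.add_sub_cancel]
    have : (t + 1) ^ 2 = t * (t + 1 + 1) + 1 := by ring
    rw [this, Nat.add_sub_cancel]
  obtain ⟨t, ht⟩ : ∃ t : ℕ, γ ^ t = Units.mk0 ζ hζ0 := by
    have h1 := hγ (Units.mk0 ζ hζ0)
    rw [← mem_powers_iff_mem_zpowers] at h1
    exact (Submonoid.mem_powers_iff _ _).1 h1
  have h2 : (Q - 1) * (Q + 1) ∣ t * (Q + 1) := by
    rw [← hord]
    apply orderOf_dvd_of_pow_eq_one
    rw [pow_mul, ht]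
    apply Units.ext
    rw [Units.val_pow_eq_pow_val, Units.val_mk0, hζ, Units.val_one]
  have h3 : Q - 1 ∣ t := Nat.dvd_of_mul_dvd_mul_right (by omega) h2
  obtain ⟨t', rfl⟩ := h3
  refine ⟨((γ ^ t' : Fˣ) : F), Units.ne_zero _, ?_⟩
  have h4 : (γ ^ t') ^ (Q - 1) = Units.mk0 ζ hζ0 := by
    rw [← pow_mul, mul_comm]
    exact ht
  have h5 : ((γ ^ t' : Fˣ) : F) ^ (Q - 1) = ζ := by
    rw [← Units.val_pow_eq_pow_val, h4, Units.val_mk0]
  have h6 : Q = (Q - 1) + 1 := by omega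
  conv_lhs => rw [h6, pow_succ]
  rw [h5]

/-- the special case: `k = 2`, `r = n`, `(q₀ + 1)_r = r`, and the combinatorial condition on
multiplicities (valid for `r ∈ {3, 5}`) -/
theorem conj_special (F₀ : Subfield F) (a₀ : ℕ) (ha₀ : Nat.card F₀ = p ^ a₀)
    (hcard : Fintype.card F = (p ^ a₀) ^ 2) (r : ℕ) (hr : r.Prime) (hr2 : r ≠ 2) (hrp : r ≠ p)
    (hcomb : ∀ m : ℕ → ℕ, ∑ i ∈ Finset.range r, m i = r → r ∣ ∑ i ∈ Finset.range r, i * m i →
      ∃ s < r, ∀ i < r, m ((s + r - i) % r) = m i)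
    (hv : padicValNat r (p ^ a₀ + 1) = 1)
    (x : SpecialLinearGroup (Fin r) F) (z : F)
    (hx : x.1 ^ r = z • (1 : Matrix (Fin r) (Fin r) F)) :
    ∃ P : SpecialLinearGroup (Fin r) F, P⁻¹ * x * P ∈ subH r F₀ := by
  classical
  have hp : p.Prime := Fact.out
  have : Fact r.Prime := ⟨hr⟩
  have hr0 : 0 < r := hr.pos
  set Q := p ^ a₀ with hQ
  have hQ1 : 1 < Q := by
    rw [← ha₀]
    exact Finite.one_lt_card
  have hrQ1 : r ∣ Q + 1 := dvd_of_one_le_padicValNat (by omega)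
  have hrQ0 : ¬ r ∣ Q - 1 := by
    intro h
    have h1 : r ∣ (Q + 1) - (Q - 1) := Nat.dvd_sub hrQ1 h
    have h2 : (Q + 1) - (Q - 1) = 2 := by omega
    rw [h2] at h1
    exact hr2 ((Nat.prime_dvd_prime_iff_eq hr Nat.prime_two).1 h1)
  have hq1 : Fintype.card F - 1 = (Q - 1) * (Q + 1) := by
    rw [hcard]
    obtain ⟨t, ht⟩ : ∃ t, Q = t + 1 := ⟨Q - 1, by omega⟩
    rw [ht, Nat.add_sub_cancel]
    have : (t + 1) ^ 2 = t * (t + 1 + 1) + 1 := by ring
    rw [this, Nat.add_sub_cancel]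
  have hvq : padicValNat r (Fintype.card F - 1) = 1 := by
    rw [hq1, padicValNat.mul (by omega) (by omega), padicValNat.eq_zero_of_not_dvd hrQ0, zero_add,
      hv]
  have hrq : r ∣ Fintype.card F - 1 := by
    rw [hq1]
    exact Dvd.dvd.mul_left hrQ1 _
  -- the scalar is an `r`-th power
  obtain ⟨c, hc, hcz⟩ := exists_rpow_of_val_le r hr hr2 hr0
    (by rw [padicValNat_self, hvq]) x z hx
  set M : Matrix (Fin r) (Fin r) F := c⁻¹ • x.1 with hM
  have hMr : M ^ r = 1 := by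
    rw [hM, _root_.smul_pow, hx, ← hcz, smul_smul, inv_pow, inv_mul_cancel₀ (pow_ne_zero _ hc),
      one_smul]
  -- a primitive root of unity
  obtain ⟨ωu, hωu⟩ := exists_unit_orderOf (F := F) r hrq
  set ω : F := (ωu : F) with hω
  have hωprim : IsPrimitiveRoot ω r := by
    rw [hω, IsPrimitiveRoot.coe_units_iff, ← hωu]
    exact IsPrimitiveRoot.orderOf ωu
  have hωr : ω ^ r = 1 := hωprim.pow_eq_one
  set m := emul M ω with hm
  have hsum := sum_emul r hr0 ω hωprim M hMr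
  have hdet : (c⁻¹) ^ r = ω ^ (∑ i ∈ Finset.range r, i * m i) := by
    have h := det_smul_of_pow r hr0 ω hωprim 1 one_ne_zero M hMr
    rw [one_smul, one_pow, one_mul] at h
    rw [← h, hM, Matrix.det_smul, x.2, mul_one, Fintype.card_fin]
  -- the sum condition
  have hSig : r ∣ ∑ i ∈ Finset.range r, i * m i := by
    rw [← hωprim.pow_eq_one_iff_dvd, ← hdet]
    set u := c⁻¹ with hu
    have hu0 : u ≠ 0 := inv_ne_zero hc
    have h1 : u ^ (r * r) = 1 := by
      rw [pow_mul, hdet, ← pow_mul, mul_comm, pow_mul, hωr, one_pow]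
    have h2 : u ^ (Fintype.card F - 1) = 1 := FiniteField.pow_card_sub_one_eq_one u hu0
    have h3 := (pow_gcd_eq_one (a := u) (m := r * r) (n := Fintype.card F - 1)).2 ⟨h1, h2⟩
    have h4 : Nat.gcd (r * r) (Fintype.card F - 1) ∣ r := by
      have h5 : Nat.gcd (r * r) (Fintype.card F - 1) ∣ r ^ 2 := by
        rw [pow_two]
        exact Nat.gcd_dvd_left _ _
      obtain ⟨j, hj, hj2⟩ := (Nat.dvd_prime_pow hr).1 h5
      have h6 : r ^ j ∣ Fintype.card F - 1 := by
        rw [← hj2]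
        exact Nat.gcd_dvd_right _ _
      have h7 := (padicValNat_dvd_iff_le (by rw [hq1]; exact Nat.mul_ne_zero (by omega) (by omega))).1 h6
      rw [hvq] at h7
      rw [hj2]
      calc r ^ j ∣ r ^ 1 := pow_dvd_pow r h7
        _ = r := pow_one r
    obtain ⟨w, hw⟩ := h4
    rw [hw, pow_mul, h3, one_pow]
  obtain ⟨s, hs, hsym⟩ := hcomb m hsum hSig
  -- the scalar
  have hζ : (ω ^ s) ^ (Q + 1) = 1 := by
    obtain ⟨w, hw⟩ := hrQ1
    rw [← pow_mul, mul_comm, hw, pow_mul, pow_mul, hωr, one_pow, one_pow]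
  obtain ⟨α, hα0, hα⟩ := exists_alpha Q hQ1 hcard (ω ^ s) hζ
  have hωQ : ω ^ Q * ω = 1 := by
    obtain ⟨w, hw⟩ := hrQ1
    rw [← pow_succ, hw, pow_mul, hωr, one_pow]
  have hcp := charpoly_smul_of_pow r hr0 ω hωprim α hα0 M hMr
  have hstab := stable_of_symm a₀ r s hs ω α hωr hωQ hα m hsym
  rw [← hcp] at hstab
  obtain ⟨f₀, hf₀⟩ := exists_descent F₀ a₀ ha₀ _ hstab
  have hcop : r.Coprime p := (Nat.coprime_primes hr hp).2 hrp
  have hz0 : z ≠ 0 := by
    rw [← hcz]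
    exact pow_ne_zero _ hc
  refine conj_into_of_descent F₀ x (orderOf_coprime_of_pow r hcop x z hz0 hx) (c * α⁻¹)
    (mul_ne_zero hc (inv_ne_zero hα0)) f₀ ?_
  rw [hf₀, hM, smul_smul, _root_.mul_inv_rev, inv_inv]

end special

end Cfsg.Agent.Helper13.SubF
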