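import Mathlib
import Cfsg.Agent.Lib.Helper13.SubF12

/-!
# Elements of odd prime order `r ≠ p` and subfield subgroups: the final criterion (helper13)
-/

set_option autoImplicit false

namespace Cfsg.Agent.Helper13.SubF

open Matrix Module Polynomial

section final

variable {F : Type*} [Field F] [Fintype F] {p : ℕ} [Fact p.Prime] [CharP F p] {n : ℕ}

theorem exists_card_subfield (F₀ : Subfield F) : ∃ a₀ : ℕ, Nat.card F₀ = p ^ a₀ := by
  let _ : Fintype F₀ := Fintype.ofFinite F₀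
  have : CharP F₀ p := inferInstance
  obtain ⟨m, -, hm⟩ := FiniteField.card F₀ p
  exact ⟨m, by rw [Nat.card_eq_fintype_card, hm]⟩

omit [Fact p.Prime] in
theorem exists_card_field : ∃ a : ℕ, Fintype.card F = p ^ a := by
  obtain ⟨m, -, hm⟩ := FiniteField.card F p
  exact ⟨m, hm⟩

theorem dvd_sub_one_iff (r q : ℕ) (hq : 1 ≤ q) : r ∣ q - 1 ↔ ((q : ℕ) : ZMod r) = 1 := by
  rw [← ZMod.natCast_eq_zero_iff, Nat.cast_sub hq, Nat.cast_one, sub_eq_zero]

/-- the direction `r = k` -/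
theorem conj_of_r_eq_k (F₀ : Subfield F) (r : ℕ) (hr : r.Prime) (hr2 : r ≠ 2) (hrp : r ≠ p)
    (hn : 0 < n) (hcard : Fintype.card F = Nat.card F₀ ^ r)
    (hgapk : r ∣ Nat.card F₀ - 1 → padicValNat r n ≤ padicValNat r (Fintype.card F - 1))
    (x : SpecialLinearGroup (Fin n) F) (z : F)
    (hx : x.1 ^ r = z • (1 : Matrix (Fin n) (Fin n) F)) :
    ∃ P : SpecialLinearGroup (Fin n) F, P⁻¹ * x * P ∈ subH n F₀ := by
  have : Fact r.Prime := ⟨hr⟩
  obtain ⟨a₀, ha₀⟩ := exists_card_subfield (p := p) F₀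
  obtain ⟨a, ha⟩ := exists_card_field (F := F) (p := p)
  have hq₀1 : 1 ≤ Nat.card F₀ := Nat.card_pos
  have hcast : ((Fintype.card F : ℕ) : ZMod r) = ((Nat.card F₀ : ℕ) : ZMod r) := by
    rw [hcard, Nat.cast_pow, ZMod.pow_card]
  have hmod : p ^ a ≡ p ^ a₀ [MOD r] := by
    rw [← ZMod.natCast_eq_natCast_iff, ← ha, ← ha₀]
    exact hcast
  refine conj_rk F₀ hn a a₀ r hr hr2 hrp ha ha₀ hmod ?_ x z hx
  intro h
  apply hgapk
  rw [dvd_sub_one_iff r _ hq₀1, ← hcast, ← dvd_sub_one_iff r _ Fintype.card_pos]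
  exact h

/-- index criterion -/
theorem not_dvd_index_of_geom (F₀ : Subfield F) (k r : ℕ) (hk : 1 ≤ k) (hr : r.Prime)
    (hrq : ¬ r ∣ Nat.card F₀) (hcard : Fintype.card F = Nat.card F₀ ^ k) (hn : 1 ≤ n)
    (hS : ∀ j, 2 ≤ j → j ≤ n → ¬ r ∣ ∑ l ∈ Finset.range k, (Nat.card F₀ ^ j) ^ l) :
    ¬ r ∣ (subH n F₀).index := by
  classical
  let _ : Fintype F₀ := Fintype.ofFinite F₀
  intro hΩ
  have hq1 : 1 < Nat.card F₀ := Finite.one_lt_card
  have h3 : Nat.card (slMap n F₀).range = Nat.card (SpecialLinearGroup (Fin n) F₀) :=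
    Nat.card_range_of_injective (slMap_injective F₀)
  have h4 : Nat.card (slMap n F₀).range ∣ Nat.card (subH n F₀) :=
    Subgroup.card_dvd_of_le (slMap_range_le F₀)
  have h5 : r * Nat.card (SpecialLinearGroup (Fin n) F₀) ∣
      Nat.card (SpecialLinearGroup (Fin n) F) := by
    rw [← h3, ← Subgroup.index_mul_card (subH n F₀)]
    exact Nat.mul_dvd_mul hΩ h4
  have h6 := Cfsg.Agent.Helper2.card_SL_mul (F := F) n hn
  have h7 := Cfsg.Agent.Helper2.card_SL_mul (F := F₀) n hn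
  rw [hcard] at h6
  rw [← Nat.card_eq_fintype_card] at h7
  exact card_SL_r_part (Nat.card F₀) k n _ _ r hr hq1 hk hn hrq hS Nat.card_pos h6 h7 h5

/-- Case A: `r` does not divide `q - 1` -/
theorem caseA_false (F₀ : Subfield F) (k r : ℕ) (hk : k.Prime) (hr : r.Prime) (hrp : r ≠ p)
    (hn : 1 ≤ n) (hcard : Fintype.card F = Nat.card F₀ ^ k)
    (hki₀ : k ∣ orderOf ((Nat.card F₀ : ℕ) : ZMod r))
    (hrq₀n : ¬ r ∣ Nat.card F₀)
    (hrq : ¬ r ∣ Fintype.card F - 1) (hrq₀ : ¬ r ∣ Nat.card F₀ - 1)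
    (hΩ : r ∣ (subH n F₀).index)
    (hall : ∀ x : SpecialLinearGroup (Fin n) F,
      (∃ z : F, ((x ^ r : SpecialLinearGroup (Fin n) F) : Matrix (Fin n) (Fin n) F) =
        z • (1 : Matrix (Fin n) (Fin n) F)) →
      (∀ z : F, (x : Matrix (Fin n) (Fin n) F) ≠ z • (1 : Matrix (Fin n) (Fin n) F)) →
      ∃ P : SpecialLinearGroup (Fin n) F, P⁻¹ * x * P ∈ subH n F₀) : False := by
  have : Fact r.Prime := ⟨hr⟩
  have hrqn : ¬ r ∣ Fintype.card F := by
    rw [hcard]
    intro h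
    exact hrq₀n (hr.dvd_of_dvd_pow h)
  have hSL : r ∣ Nat.card (SpecialLinearGroup (Fin n) F) :=
    dvd_trans hΩ (Subgroup.index_dvd_card _)
  have hin := orderOf_le_of_dvd_card_SL r hr hrqn hn hSL
  obtain ⟨x, hxr, hrank, hipos⟩ := exists_small_rank (n := n) r hr hrp hrq hin
  have hq₀ne : ((Nat.card F₀ : ℕ) : ZMod r) ≠ 0 := by
    rw [Ne, ZMod.natCast_eq_zero_iff]
    exact hrq₀n
  have hi₀pos : 0 < orderOf ((Nat.card F₀ : ℕ) : ZMod r) := by
    rw [orderOf_pos_iff, isOfFinOrder_iff_pow_eq_one]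
    exact ⟨r - 1, by have := hr.two_le; omega, ZMod.pow_card_sub_one_eq_one hq₀ne⟩
  obtain ⟨m, hm⟩ := hki₀
  have hm0 : 0 < m := by
    rcases Nat.eq_zero_or_pos m with h | h
    · rw [h, mul_zero] at hm
      omega
    · exact h
  have h1 : ((Fintype.card F : ℕ) : ZMod r) ^ m = 1 := by
    rw [hcard, Nat.cast_pow, ← pow_mul, ← hm]
    exact pow_orderOf_eq_one _
  have h2 : orderOf ((Fintype.card F : ℕ) : ZMod r) ∣ m := orderOf_dvd_of_pow_eq_one h1
  have h3 : orderOf ((Fintype.card F : ℕ) : ZMod r) ≤ m := Nat.le_of_dvd hm0 h2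
  have h4 : orderOf ((Fintype.card F : ℕ) : ZMod r) < orderOf ((Nat.card F₀ : ℕ) : ZMod r) := by
    rw [hm]
    have := hk.two_le
    nlinarith
  have hnd : ¬ orderOf ((Nat.card F₀ : ℕ) : ZMod r) ∣ orderOf ((Fintype.card F : ℕ) : ZMod r) :=
    fun h => absurd (Nat.le_of_dvd hipos h) (by omega)
  have hx1 : ∃ z : F, ((x ^ r : SpecialLinearGroup (Fin n) F) : Matrix (Fin n) (Fin n) F) =
      z • (1 : Matrix (Fin n) (Fin n) F) := by
    refine ⟨1, ?_⟩
    rw [Matrix.SpecialLinearGroup.coe_pow, hxr, one_smul]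
  have hx2 : ∀ z : F, (x : Matrix (Fin n) (Fin n) F) ≠ z • (1 : Matrix (Fin n) (Fin n) F) := by
    intro z hz
    have h5 : z ^ r = 1 := by
      have h6 := hxr
      rw [hz, _root_.smul_pow, one_pow] at h6
      have h7 := congrFun (congrFun h6 ⟨0, hn⟩) ⟨0, hn⟩
      simpa using h7
    have h8 := field_eq_one_of_pow r hr hrq z h5
    rw [hz, h8, one_smul, sub_self, Matrix.rank_zero] at hrank
    omega
  obtain ⟨P, hP⟩ := hall x hx1 hx2
  exact not_conj_caseA F₀ r hr hrp hrq hrq₀ hn x hxr (by rw [hrank]; exact hnd) P hP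

/-- Case B: `r` divides `q - 1` -/
theorem caseB (F₀ : Subfield F) (k r : ℕ) (hk : k.Prime) (hr : r.Prime) (hr2 : r ≠ 2)
    (_hrp : r ≠ p) (hn : 2 ≤ n) (hcard : Fintype.card F = Nat.card F₀ ^ k)
    (hki₀ : k ∣ orderOf ((Nat.card F₀ : ℕ) : ZMod r))
    (hrq₀n : ¬ r ∣ Nat.card F₀)
    (hrq : r ∣ Fintype.card F - 1) (hrq₀ : ¬ r ∣ Nat.card F₀ - 1)
    (hgap : ¬ (n = 6 ∧ r = 3))
    (hΩ : r ∣ (subH n F₀).index)
    (hall : ∀ x : SpecialLinearGroup (Fin n) F,
      (∃ z : F, ((x ^ r : SpecialLinearGroup (Fin n) F) : Matrix (Fin n) (Fin n) F) =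
        z • (1 : Matrix (Fin n) (Fin n) F)) →
      (∀ z : F, (x : Matrix (Fin n) (Fin n) F) ≠ z • (1 : Matrix (Fin n) (Fin n) F)) →
      ∃ P : SpecialLinearGroup (Fin n) F, P⁻¹ * x * P ∈ subH n F₀) :
    k = 2 ∧ r = n ∧ (n = 3 ∨ n = 5) ∧ padicValNat r (Nat.card F₀ + 1) = 1 := by
  have : Fact r.Prime := ⟨hr⟩
  obtain ⟨a₀, ha₀⟩ := exists_card_subfield (p := p) F₀
  have hq₀1 : 1 < Nat.card F₀ := Finite.one_lt_card
  have hq1 : 1 < Fintype.card F := by
    rw [hcard]
    exact Nat.one_lt_pow hk.ne_zero hq₀1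
  have hqc : ((Fintype.card F : ℕ) : ZMod r) = 1 := (dvd_sub_one_iff r _ hq1.le).1 hrq
  have hi₀k : orderOf ((Nat.card F₀ : ℕ) : ZMod r) = k := by
    apply Nat.dvd_antisymm _ hki₀
    apply orderOf_dvd_of_pow_eq_one
    rw [← Nat.cast_pow, ← hcard]
    exact hqc
  have hq₀ne : ((Nat.card F₀ : ℕ) : ZMod r) ≠ 0 := by
    rw [Ne, ZMod.natCast_eq_zero_iff]
    exact hrq₀n
  have he : 1 ≤ padicValNat r (Fintype.card F - 1) :=
    one_le_padicValNat_of_dvd (by omega) hrq
  have hrq₀' : ¬ r ∣ p ^ a₀ - 1 := by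
    rw [← ha₀]
    exact hrq₀
  by_cases hv : padicValNat r n < padicValNat r (Fintype.card F - 1)
  · -- B1
    exfalso
    obtain ⟨m, rfl⟩ : ∃ m, n = 1 + m := ⟨n - 1, by omega⟩
    have hm : 1 ≤ m := by omega
    by_cases h2 : m = 1 ∧ r ∣ p ^ a₀ + 1
    · obtain ⟨rfl, h2⟩ := h2
      have h5 : ((Nat.card F₀ : ℕ) : ZMod r) = -1 := by
        have h4 : ((Nat.card F₀ : ℕ) : ZMod r) + 1 = 0 := by
          have h3 := (ZMod.natCast_eq_zero_iff (Nat.card F₀ + 1) r).2 (by rw [ha₀]; exact h2)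
          push_cast at h3
          exact h3
        exact eq_neg_of_add_eq_zero_left h4
      have hk2 : k = 2 := by
        have h3 : ((Nat.card F₀ : ℕ) : ZMod r) ^ 2 = 1 := by
          rw [h5]
          ring
        have h6 := orderOf_dvd_of_pow_eq_one h3
        rw [hi₀k] at h6
        exact (Nat.prime_dvd_prime_iff_eq hk Nat.prime_two).1 h6
      subst hk2
      refine not_dvd_index_of_geom F₀ 2 r (by norm_num) hr hrq₀n hcard (by norm_num) ?_ hΩ
      intro j hj1 hj2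
      have hj : j = 2 := by omega
      subst hj
      rw [Finset.sum_range_succ, Finset.sum_range_one, pow_zero, pow_one]
      intro h7
      rw [← ZMod.natCast_eq_zero_iff] at h7
      push_cast at h7
      rw [h5] at h7
      have h8 : (2 : ZMod r) = 0 := by
        rw [← h7]
        ring
      have h9 : ((2 : ℕ) : ZMod r) = 0 := by
        rw [← h8]
        norm_num
      rw [ZMod.natCast_eq_zero_iff] at h9
      exact hr2 ((Nat.prime_dvd_prime_iff_eq hr Nat.prime_two).1 h9)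
    · obtain ⟨x, hx1, hx2, hx3⟩ := exists_bad_B1 F₀ a₀ ha₀ r hr hrq₀' m hm
        (fun hm1 hr1 => h2 ⟨hm1, hr1⟩) hv
      obtain ⟨P, hP⟩ := hall x hx1 hx2
      exact hx3 P hP
  · -- B2
    push Not at hv
    have hrn : r ∣ n := dvd_of_one_le_padicValNat (le_trans he hv)
    have hr3 : 3 ≤ r := by
      have := hr.two_le
      omega
    have hn3 : 3 ≤ n := le_trans hr3 (Nat.le_of_dvd (by omega) hrn)
    by_cases hn7 : 7 ≤ n
    · exfalso
      obtain ⟨m, rfl⟩ : ∃ m, n = 3 + m := ⟨n - 3, by omega⟩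
      obtain ⟨x, hx1, hx2, hx3⟩ := exists_bad_B2 F₀ a₀ ha₀ r hr hr2 hrq hrq₀' m (by omega)
      obtain ⟨P, hP⟩ := hall x hx1 hx2
      exact hx3 P hP
    · have hrn' : r = n ∧ (n = 3 ∨ n = 5) := by
        obtain ⟨w, hw⟩ := hrn
        have hw1 : w = 1 ∨ w = 2 := by
          have hw0 : w ≠ 0 := by
            rintro rfl
            omega
          have hw6 : r * w ≤ 6 := by omega
          by_contra hcon
          have hw3 : 3 ≤ w := by omega
          nlinarith
        rcases hw1 with rfl | rfl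
        · rw [mul_one] at hw
          have hr35 : r = 3 ∨ r = 5 := by
            have hr6 : r ≤ 6 := by omega
            interval_cases r
            · left; rfl
            · exact absurd hr (by norm_num)
            · right; rfl
            · exact absurd hr (by norm_num)
          rcases hr35 with h | h
          · exact ⟨by omega, by omega⟩
          · exact ⟨by omega, by omega⟩
        · exfalso
          apply hgap
          omega
      obtain ⟨hrn1, hn35⟩ := hrn'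
      have hk2 : k = 2 := by
        have h3 : ((Nat.card F₀ : ℕ) : ZMod r) ^ (r - 1) = 1 :=
          ZMod.pow_card_sub_one_eq_one hq₀ne
        have h4 := orderOf_dvd_of_pow_eq_one h3
        rw [hi₀k] at h4
        rcases hn35 with h | h
        · have h5 : r - 1 = 2 := by omega
          rw [h5] at h4
          exact (Nat.prime_dvd_prime_iff_eq hk Nat.prime_two).1 h4
        · have h5 : r - 1 = 2 ^ 2 := by omega
          rw [h5] at h4
          exact (Nat.prime_dvd_prime_iff_eq hk Nat.prime_two).1 (hk.dvd_of_dvd_pow h4)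
      refine ⟨hk2, hrn1, hn35, ?_⟩
      subst hk2
      have hq1' : Fintype.card F - 1 = (Nat.card F₀ - 1) * (Nat.card F₀ + 1) := by
        rw [hcard]
        obtain ⟨t, ht⟩ : ∃ t, Nat.card F₀ = t + 1 := ⟨Nat.card F₀ - 1, by omega⟩
        rw [ht, Nat.add_sub_cancel]
        have h6 : (t + 1) ^ 2 = t * (t + 1 + 1) + 1 := by ring
        rw [h6, Nat.add_sub_cancel]
      have hvn : padicValNat r n = 1 := by
        rw [← hrn1]
        exact padicValNat_self
      have h7 : padicValNat r (Fintype.card F - 1) = padicValNat r (Nat.card F₀ + 1) := by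
        rw [hq1', padicValNat.mul (by omega) (by omega), padicValNat.eq_zero_of_not_dvd hrq₀,
          zero_add]
      omega

/-- the criterion for elements of odd prime order `r ≠ p` -/
theorem rk_iff (F₀ : Subfield F) (k r : ℕ) (hn : 2 ≤ n) (hk : k.Prime) (hr : r.Prime)
    (hr2 : r ≠ 2) (hrp : r ≠ p) (hcard : Fintype.card F = Nat.card F₀ ^ k)
    (hgap : ¬ (n = 6 ∧ r = 3))
    (hgapk : r = k → r ∣ Nat.card F₀ - 1 →
      padicValNat r n ≤ padicValNat r (Fintype.card F - 1))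
    (hΩ : r ∣ (subH n F₀).index) :
    (∀ x : SpecialLinearGroup (Fin n) F,
      (∃ z : F, ((x ^ r : SpecialLinearGroup (Fin n) F) : Matrix (Fin n) (Fin n) F) =
        z • (1 : Matrix (Fin n) (Fin n) F)) →
      (∀ z : F, (x : Matrix (Fin n) (Fin n) F) ≠ z • (1 : Matrix (Fin n) (Fin n) F)) →
      ∃ P : SpecialLinearGroup (Fin n) F, P⁻¹ * x * P ∈ subH n F₀) ↔
    (r = k ∨ (k = 2 ∧ r = n ∧ (n = 3 ∨ n = 5) ∧ padicValNat r (Nat.card F₀ + 1) = 1)) := by
  have hp : p.Prime := Fact.out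
  constructor
  · intro hall
    by_contra hcon
    rw [not_or] at hcon
    obtain ⟨hrk, hsp⟩ := hcon
    apply hsp
    obtain ⟨a₀, ha₀⟩ := exists_card_subfield (p := p) F₀
    have hrq₀n : ¬ r ∣ Nat.card F₀ := by
      rw [ha₀]
      intro h
      exact hrp ((Nat.prime_dvd_prime_iff_eq hr hp).1 (hr.dvd_of_dvd_pow h))
    have hki₀ := dvd_orderOf_of_dvd_index F₀ k r hk hr hrk hrq₀n hcard (by omega) hΩ
    have hrq₀ : ¬ r ∣ Nat.card F₀ - 1 := by
      intro h
      rw [dvd_sub_one_iff r _ Nat.card_pos] at h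
      rw [h, orderOf_one] at hki₀
      exact hk.one_lt.ne' (Nat.dvd_one.1 hki₀)
    by_cases hrq : r ∣ Fintype.card F - 1
    · exact caseB F₀ k r hk hr hr2 hrp hn hcard hki₀ hrq₀n hrq hrq₀ hgap hΩ hall
    · exact (caseA_false F₀ k r hk hr hrp (by omega) hcard hki₀ hrq₀n hrq hrq₀ hΩ hall).elim
  · rintro (hrk | ⟨hk2, hrn, hn35, hv⟩)
    · subst hrk
      rintro x ⟨z, hz⟩ -
      rw [Matrix.SpecialLinearGroup.coe_pow] at hz
      exact conj_of_r_eq_k F₀ r hr hr2 hrp (by omega) hcard (hgapk rfl) x z hz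
    · subst hk2
      subst hrn
      obtain ⟨a₀, ha₀⟩ := exists_card_subfield (p := p) F₀
      have hcomb : ∀ m : ℕ → ℕ, ∑ i ∈ Finset.range r, m i = r →
          r ∣ ∑ i ∈ Finset.range r, i * m i →
          ∃ s < r, ∀ i < r, m ((s + r - i) % r) = m i := by
        rcases hn35 with h | h
        · rw [h]
          exact comb3
        · rw [h]
          exact comb5
      rintro x ⟨z, hz⟩ -
      rw [Matrix.SpecialLinearGroup.coe_pow] at hz
      exact conj_special F₀ a₀ ha₀ (by rw [← ha₀]; exact hcard) r hr hr2 hrp hcomb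
        (by rw [← ha₀]; exact hv) x z hz

end final

end Cfsg.Agent.Helper13.SubF
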