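import Mathlib
import Cfsg.Agent.Lib.Helper13.F2Type

set_option autoImplicit false
set_option linter.unusedSectionVars false

/-! # Symplectic coordinates for nondegenerate quadratic forms over `F_2` -/

namespace Cfsg.Agent.Helper13.SympF2

open QuadraticMap Module Matrix Cfsg.Agent.S2564 Cfsg.Agent.S2562

/-- the standard symplectic form over `F_2` -/
def sform (m : ℕ) (u v : Fin m ⊕ Fin m → ZMod 2) : ZMod 2 :=
  ∑ i : Fin m, (u (Sum.inl i) * v (Sum.inr i) + u (Sum.inr i) * v (Sum.inl i))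

theorem z2_neg (a : ZMod 2) : -a = a := by revert a; decide

theorem z2_two_mul (a : ZMod 2) : 2 * a = 0 := by revert a; decide

theorem sform_eq (m : ℕ) (u v : Fin m ⊕ Fin m → ZMod 2) :
    sform m u v = u ⬝ᵥ (Matrix.J (Fin m) (ZMod 2) *ᵥ v) := by
  unfold sform Matrix.J dotProduct mulVec dotProduct
  rw [Fintype.sum_sum_type, ← Finset.sum_add_distrib]
  refine Finset.sum_congr rfl fun i _ => ?_
  simp only [Fintype.sum_sum_type, Matrix.fromBlocks_apply₁₁, Matrix.fromBlocks_apply₁₂,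
    Matrix.fromBlocks_apply₂₁, Matrix.fromBlocks_apply₂₂, Matrix.zero_apply, zero_mul,
    Finset.sum_const_zero, zero_add, add_zero, Matrix.neg_apply, Matrix.one_apply, neg_mul,
    ite_mul, one_mul, Finset.sum_neg_distrib, Finset.sum_ite_eq, Finset.mem_univ, if_true, z2_neg]

theorem polar_Qp (m : ℕ) (u v : Fin m ⊕ Fin m → ZMod 2) : polar (Qp m) u v = sform m u v := by
  unfold polar sform
  rw [← Qp_eq]
  unfold Cfsg.quadFormPlus
  rw [← Finset.sum_sub_distrib, ← Finset.sum_sub_distrib]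
  refine Finset.sum_congr rfl fun i _ => ?_
  simp only [Pi.add_apply]
  ring

/-- reindexing the minus-type coordinates -/
def reidx (k : ℕ) : (Fin k ⊕ Fin k) ⊕ Fin 2 ≃ Fin (k + 1) ⊕ Fin (k + 1) where
  toFun x := Sum.elim (Sum.elim (fun i => Sum.inl i.castSucc) (fun i => Sum.inr i.castSucc))
    (fun j => if j = 0 then Sum.inl (Fin.last k) else Sum.inr (Fin.last k)) x
  invFun y := Sum.elim
    (fun i => Fin.lastCases (Sum.inr 0) (fun i' => Sum.inl (Sum.inl i')) i)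
    (fun i => Fin.lastCases (Sum.inr 1) (fun i' => Sum.inl (Sum.inr i')) i) y
  left_inv := by
    rintro ((i | i) | j)
    · simp
    · simp
    · fin_cases j <;> simp
  right_inv := by
    rintro (i | i)
    · refine Fin.lastCases ?_ (fun i' => ?_) i <;> simp
    · refine Fin.lastCases ?_ (fun i' => ?_) i <;> simp

/-- the linear reindexing -/
def Lre (k : ℕ) : ((Fin k ⊕ Fin k) ⊕ Fin 2 → ZMod 2) ≃ₗ[ZMod 2] (Fin (k + 1) ⊕ Fin (k + 1) → ZMod 2) :=
  LinearEquiv.funCongrLeft (ZMod 2) (ZMod 2) (reidx k).symm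

theorem Lre_inl_castSucc (k : ℕ) (u : (Fin k ⊕ Fin k) ⊕ Fin 2 → ZMod 2) (i : Fin k) :
    Lre k u (Sum.inl i.castSucc) = u (Sum.inl (Sum.inl i)) := by
  change u ((reidx k).symm (Sum.inl i.castSucc)) = _
  congr 1
  rw [Equiv.symm_apply_eq]
  rfl

theorem Lre_inr_castSucc (k : ℕ) (u : (Fin k ⊕ Fin k) ⊕ Fin 2 → ZMod 2) (i : Fin k) :
    Lre k u (Sum.inr i.castSucc) = u (Sum.inl (Sum.inr i)) := by
  change u ((reidx k).symm (Sum.inr i.castSucc)) = _
  congr 1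
  rw [Equiv.symm_apply_eq]
  rfl

theorem Lre_inl_last (k : ℕ) (u : (Fin k ⊕ Fin k) ⊕ Fin 2 → ZMod 2) :
    Lre k u (Sum.inl (Fin.last k)) = u (Sum.inr 0) := by
  change u ((reidx k).symm (Sum.inl (Fin.last k))) = _
  congr 1
  rw [Equiv.symm_apply_eq]
  rfl

theorem Lre_inr_last (k : ℕ) (u : (Fin k ⊕ Fin k) ⊕ Fin 2 → ZMod 2) :
    Lre k u (Sum.inr (Fin.last k)) = u (Sum.inr 1) := by
  change u ((reidx k).symm (Sum.inr (Fin.last k))) = _
  congr 1
  rw [Equiv.symm_apply_eq]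
  rfl

theorem polar_Qm (k : ℕ) (u v : (Fin k ⊕ Fin k) ⊕ Fin 2 → ZMod 2) :
    polar (Qm k) u v = sform (k + 1) (Lre k u) (Lre k v) := by
  unfold polar sform
  rw [← Qm_eq]
  unfold Cfsg.quadFormMinus
  rw [Fin.sum_univ_castSucc]
  simp only [Lre_inl_castSucc, Lre_inr_castSucc, Lre_inl_last, Lre_inr_last, Pi.add_apply]
  have h : ∀ (s1 s2 s3 a b c d : ZMod 2),
      (s1 + ((a + c) ^ 2 + 1 * (a + c) * (b + d) + 1 * (b + d) ^ 2)) -
      (s2 + (a ^ 2 + 1 * a * b + 1 * b ^ 2)) - (s3 + (c ^ 2 + 1 * c * d + 1 * d ^ 2)) =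
      (s1 - s2 - s3) + (a * d + b * c) := by decide
  rw [h, ← Finset.sum_sub_distrib, ← Finset.sum_sub_distrib]
  congr 1
  refine Finset.sum_congr rfl fun i _ => ?_
  ring

/-- symplectic coordinates for the polar form of a nondegenerate quadratic form over `F_2` -/
theorem exists_symp_coords {V : Type*} [AddCommGroup V] [Module (ZMod 2) V]
    [FiniteDimensional (ZMod 2) V] (m : ℕ) (hm : 1 ≤ m) (hV : finrank (ZMod 2) V = 2 * m)
    (Q : QuadraticForm (ZMod 2) V) (hQ : (polarBilin Q).Nondegenerate) :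
    ∃ g : V ≃ₗ[ZMod 2] (Fin m ⊕ Fin m → ZMod 2), ∀ y y', polar Q y y' = sform m (g y) (g y') := by
  obtain ⟨k, rfl⟩ : ∃ k, m = k + 1 := ⟨m - 1, by omega⟩
  have key := plus_or_minus_gen (k + 1) hm hV Q hQ
  rw [Nat.add_sub_cancel] at key
  rcases key with ⟨g, hg⟩ | ⟨g, hg⟩
  · refine ⟨g, fun y y' => ?_⟩
    rw [← polar_Qp]
    unfold polar
    rw [hg, hg, hg, map_add]
  · refine ⟨g.trans (Lre k), fun y y' => ?_⟩
    rw [LinearEquiv.trans_apply, LinearEquiv.trans_apply, ← polar_Qm]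
    unfold polar
    rw [hg, hg, hg, map_add]

/-- a matrix preserving the standard symplectic form lies in the symplectic group -/
theorem mem_symplecticGroup_of_sform (m : ℕ) (M : Matrix (Fin m ⊕ Fin m) (Fin m ⊕ Fin m) (ZMod 2))
    (h : ∀ u v, sform m (M *ᵥ u) (M *ᵥ v) = sform m u v) :
    M ∈ Matrix.symplecticGroup (Fin m) (ZMod 2) := by
  rw [SymplecticGroup.mem_iff']
  have e : ∀ (A : Matrix (Fin m ⊕ Fin m) (Fin m ⊕ Fin m) (ZMod 2)) (i j : Fin m ⊕ Fin m),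
      (Pi.single i 1 : Fin m ⊕ Fin m → ZMod 2) ⬝ᵥ (A *ᵥ Pi.single j 1) = A i j := by
    intro A i j
    rw [Matrix.mulVec_single_one, single_one_dotProduct]
    rfl
  have c : ∀ u v : Fin m ⊕ Fin m → ZMod 2, (M *ᵥ u) ⬝ᵥ (Matrix.J (Fin m) (ZMod 2) *ᵥ (M *ᵥ v)) =
      u ⬝ᵥ ((Mᵀ * Matrix.J (Fin m) (ZMod 2) * M) *ᵥ v) := by
    intro u v
    calc (M *ᵥ u) ⬝ᵥ (Matrix.J (Fin m) (ZMod 2) *ᵥ (M *ᵥ v))
        = (u ᵥ* Mᵀ) ⬝ᵥ (Matrix.J (Fin m) (ZMod 2) *ᵥ (M *ᵥ v)) := by rw [Matrix.vecMul_transpose]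
      _ = u ⬝ᵥ (Mᵀ *ᵥ (Matrix.J (Fin m) (ZMod 2) *ᵥ (M *ᵥ v))) := by
          rw [← Matrix.dotProduct_mulVec]
      _ = u ⬝ᵥ ((Mᵀ * Matrix.J (Fin m) (ZMod 2) * M) *ᵥ v) := by
          rw [Matrix.mulVec_mulVec, Matrix.mulVec_mulVec, Matrix.mul_assoc]
  ext i j
  have h1 := h (Pi.single i 1) (Pi.single j 1)
  rw [sform_eq, sform_eq, c, e, e] at h1
  exact h1

end Cfsg.Agent.Helper13.SympF2
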