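import Mathlib
import Cfsg.Agent.Lib.Lead.TwFrob

/-!
# Two-generation of `³D₄(q)` (S2407): group-theoretic and field-theoretic lemmas
-/

set_option autoImplicit false

namespace Cfsg.Agent.Helper13.TD4

open scoped commutatorElement

section grp

variable {G : Type*} [Group G]

/-- rearranging a product of three rows into a product of three columns -/
theorem rearr33 (a₁ a₂ a₃ b₁ b₂ b₃ c₁ c₂ c₃ : G)
    (hb₁a₂ : Commute b₁ a₂) (hb₁a₃ : Commute b₁ a₃) (hc₁a₂ : Commute c₁ a₂) (hc₁a₃ : Commute c₁ a₃)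
    (hc₁b₂ : Commute c₁ b₂) (hc₁b₃ : Commute c₁ b₃) (hb₂a₃ : Commute b₂ a₃) (hc₂a₃ : Commute c₂ a₃)
    (hc₂b₃ : Commute c₂ b₃) :
    (a₁ * a₂ * a₃) * (b₁ * b₂ * b₃) * (c₁ * c₂ * c₃) =
      (a₁ * b₁ * c₁) * (a₂ * b₂ * c₂) * (a₃ * b₃ * c₃) := by
  have h1 : (a₂ * a₃) * b₁ = b₁ * (a₂ * a₃) := ((hb₁a₂.mul_right hb₁a₃).eq).symm
  have h2 : (a₂ * a₃ * b₂ * b₃) * c₁ = c₁ * (a₂ * a₃ * b₂ * b₃) :=
    ((((hc₁a₂.mul_right hc₁a₃).mul_right hc₁b₂).mul_right hc₁b₃).eq).symm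
  have h3 : a₃ * b₂ = b₂ * a₃ := hb₂a₃.eq.symm
  have h4 : (a₃ * b₃) * c₂ = c₂ * (a₃ * b₃) := ((hc₂a₃.mul_right hc₂b₃).eq).symm
  calc (a₁ * a₂ * a₃) * (b₁ * b₂ * b₃) * (c₁ * c₂ * c₃)
      = a₁ * ((a₂ * a₃) * b₁) * (b₂ * b₃) * (c₁ * c₂ * c₃) := by group
    _ = a₁ * (b₁ * (a₂ * a₃)) * (b₂ * b₃) * (c₁ * c₂ * c₃) := by rw [h1]
    _ = a₁ * b₁ * ((a₂ * a₃ * b₂ * b₃) * c₁) * (c₂ * c₃) := by group
    _ = a₁ * b₁ * (c₁ * (a₂ * a₃ * b₂ * b₃)) * (c₂ * c₃) := by rw [h2]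
    _ = (a₁ * b₁ * c₁) * (a₂ * (a₃ * b₂) * b₃) * (c₂ * c₃) := by group
    _ = (a₁ * b₁ * c₁) * (a₂ * (b₂ * a₃) * b₃) * (c₂ * c₃) := by rw [h3]
    _ = (a₁ * b₁ * c₁) * (a₂ * b₂ * ((a₃ * b₃) * c₂)) * c₃ := by group
    _ = (a₁ * b₁ * c₁) * (a₂ * b₂ * (c₂ * (a₃ * b₃))) * c₃ := by rw [h4]
    _ = (a₁ * b₁ * c₁) * (a₂ * b₂ * c₂) * (a₃ * b₃ * c₃) := by group

/-- rearranging a product of two rows into a product of three columns -/
theorem rearr23 (a₁ a₂ a₃ b₁ b₂ b₃ : G)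
    (hb₁a₂ : Commute b₁ a₂) (hb₁a₃ : Commute b₁ a₃) (hb₂a₃ : Commute b₂ a₃) :
    (a₁ * a₂ * a₃) * (b₁ * b₂ * b₃) = (a₁ * b₁) * (a₂ * b₂) * (a₃ * b₃) := by
  have h1 : (a₂ * a₃) * b₁ = b₁ * (a₂ * a₃) := ((hb₁a₂.mul_right hb₁a₃).eq).symm
  have h3 : a₃ * b₂ = b₂ * a₃ := hb₂a₃.eq.symm
  calc (a₁ * a₂ * a₃) * (b₁ * b₂ * b₃)
      = a₁ * ((a₂ * a₃) * b₁) * (b₂ * b₃) := by group
    _ = a₁ * (b₁ * (a₂ * a₃)) * (b₂ * b₃) := by rw [h1]
    _ = (a₁ * b₁) * (a₂ * (a₃ * b₂) * b₃) := by group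
    _ = (a₁ * b₁) * (a₂ * (b₂ * a₃) * b₃) := by rw [h3]
    _ = (a₁ * b₁) * (a₂ * b₂) * (a₃ * b₃) := by group

/-- the commutator of two triple products whose factors commute across different columns and whose
column commutators `C_i` are central -/
theorem comm33 (A₁ A₂ A₃ B₁ B₂ B₃ C₁ C₂ C₃ : G)
    (h₁ : ⁅B₁⁻¹, A₁⁻¹⁆ = C₁) (h₂ : ⁅B₂⁻¹, A₂⁻¹⁆ = C₂) (h₃ : ⁅B₃⁻¹, A₃⁻¹⁆ = C₃)
    (hA₁B₂ : Commute A₁ B₂) (hA₁B₃ : Commute A₁ B₃) (hA₂B₁ : Commute A₂ B₁) (hA₂B₃ : Commute A₂ B₃)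
    (hA₃B₁ : Commute A₃ B₁) (hA₃B₂ : Commute A₃ B₂)
    (hC₁A₂ : Commute C₁ A₂) (hC₁A₃ : Commute C₁ A₃) (hC₁B₂ : Commute C₁ B₂) (hC₁B₃ : Commute C₁ B₃)
    (hC₂A₃ : Commute C₂ A₃) (hC₂B₃ : Commute C₂ B₃) :
    ⁅(B₁ * B₂ * B₃)⁻¹, (A₁ * A₂ * A₃)⁻¹⁆ = C₁ * C₂ * C₃ := by
  have e₁ : B₁ * A₁ = A₁ * B₁ * C₁ := by
    rw [← h₁, commutatorElement_def, inv_inv, inv_inv]; group
  have e₂ : B₂ * A₂ = A₂ * B₂ * C₂ := by
    rw [← h₂, commutatorElement_def, inv_inv, inv_inv]; group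
  have e₃ : B₃ * A₃ = A₃ * B₃ * C₃ := by
    rw [← h₃, commutatorElement_def, inv_inv, inv_inv]; group
  -- `B A = (B₁ A₁)(B₂ A₂)(B₃ A₃)`
  have s1 : (B₁ * B₂ * B₃) * (A₁ * A₂ * A₃) = (B₁ * A₁) * (B₂ * A₂) * (B₃ * A₃) :=
    rearr23 B₁ B₂ B₃ A₁ A₂ A₃ hA₁B₂ hA₁B₃ hA₂B₃
  -- `(A₁B₁C₁)(A₂B₂C₂)(A₃B₃C₃) = (A₁A₂A₃)(B₁B₂B₃)(C₁C₂C₃)`
  have s2 : (A₁ * A₂ * A₃) * (B₁ * B₂ * B₃) * (C₁ * C₂ * C₃) =
      (A₁ * B₁ * C₁) * (A₂ * B₂ * C₂) * (A₃ * B₃ * C₃) :=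
    rearr33 A₁ A₂ A₃ B₁ B₂ B₃ C₁ C₂ C₃ hA₂B₁.symm hA₃B₁.symm hC₁A₂ hC₁A₃ hC₁B₂ hC₁B₃ hA₃B₂.symm
      hC₂A₃ hC₂B₃
  have s3 : (B₁ * B₂ * B₃) * (A₁ * A₂ * A₃) = (A₁ * A₂ * A₃) * (B₁ * B₂ * B₃) * (C₁ * C₂ * C₃) := by
    rw [s1, e₁, e₂, e₃, s2]
  rw [commutatorElement_def, inv_inv, inv_inv]
  calc (B₁ * B₂ * B₃)⁻¹ * (A₁ * A₂ * A₃)⁻¹ * (B₁ * B₂ * B₃) * (A₁ * A₂ * A₃)
      = (B₁ * B₂ * B₃)⁻¹ * (A₁ * A₂ * A₃)⁻¹ * ((B₁ * B₂ * B₃) * (A₁ * A₂ * A₃)) := by group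
    _ = (B₁ * B₂ * B₃)⁻¹ * (A₁ * A₂ * A₃)⁻¹ *
          ((A₁ * A₂ * A₃) * (B₁ * B₂ * B₃) * (C₁ * C₂ * C₃)) := by rw [s3]
    _ = C₁ * C₂ * C₃ := by group

theorem comm_mem (K : Subgroup G) (g₁ g₂ : G) (h₁ : g₁ ∈ K) (h₂ : g₂ ∈ K) : ⁅g₁, g₂⁆ ∈ K := by
  rw [commutatorElement_def]
  exact mul_mem (mul_mem (mul_mem h₁ h₂) (inv_mem h₁)) (inv_mem h₂)

/-- two generators of a subgroup `G₁` whose closure (in the big group) contains `G₁` generate `G₁` -/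
theorem closure_subtype_eq_top' (G₁ : Subgroup G) (a b : G) (ha : a ∈ G₁) (hb : b ∈ G₁)
    (h : G₁ ≤ Subgroup.closure {a, b}) :
    Subgroup.closure ({⟨a, ha⟩, ⟨b, hb⟩} : Set ↥G₁) = ⊤ := by
  rw [eq_top_iff]
  intro g _
  have hg : (g : G) ∈ Subgroup.closure {a, b} := h g.2
  have e : (Subgroup.closure ({⟨a, ha⟩, ⟨b, hb⟩} : Set ↥G₁)).map G₁.subtype =
      Subgroup.closure {a, b} := by
    rw [MonoidHom.map_closure]
    congr 1
    ext x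
    simp only [Set.image_insert_eq, Set.image_singleton, Subgroup.coe_subtype]
  rw [← e] at hg
  obtain ⟨g', hg', hgg'⟩ := hg
  have e2 : g' = g := Subtype.ext hgg'
  rw [← e2]
  exact hg'

end grp

/-! ### The field with `q³` elements -/

section fld

variable {K : Type*} [Field K] [Fintype K] {q : ℕ}

theorem frob_add (hq : IsPrimePow q) (hK : Fintype.card K = q ^ 3) (x y : K) :
    (x + y) ^ q = x ^ q + y ^ q := by
  obtain ⟨f, hf⟩ := Cfsg.Agent.Lead.Tw.exists_frob hq hK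
  rw [← hf, ← hf, ← hf, map_add]

theorem frob_neg (hq : IsPrimePow q) (hK : Fintype.card K = q ^ 3) (x : K) :
    (-x) ^ q = -(x ^ q) := by
  obtain ⟨f, hf⟩ := Cfsg.Agent.Lead.Tw.exists_frob hq hK
  rw [← hf, ← hf, map_neg]

theorem frob_inj (hq : IsPrimePow q) (hK : Fintype.card K = q ^ 3) (x y : K) (h : x ^ q = y ^ q) :
    x = y := by
  obtain ⟨f, hf⟩ := Cfsg.Agent.Lead.Tw.exists_frob hq hK
  rw [← hf, ← hf] at h
  exact f.injective h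

theorem frob_sq (t : K) : (t ^ q) ^ q = t ^ (q ^ 2) := by
  rw [← pow_mul, ← pow_two]

theorem frob_cube (hK : Fintype.card K = q ^ 3) (t : K) : (t ^ (q ^ 2)) ^ q = t := by
  rw [← pow_mul, ← pow_succ, ← hK, FiniteField.pow_card]

theorem frob_add_sq (hq : IsPrimePow q) (hK : Fintype.card K = q ^ 3) (x y : K) :
    (x + y) ^ (q ^ 2) = x ^ (q ^ 2) + y ^ (q ^ 2) := by
  rw [← frob_sq, ← frob_sq, ← frob_sq, frob_add hq hK, frob_add hq hK]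

theorem frob_neg_sq (hq : IsPrimePow q) (hK : Fintype.card K = q ^ 3) (x : K) :
    (-x) ^ (q ^ 2) = -(x ^ (q ^ 2)) := by
  rw [← frob_sq, ← frob_sq, frob_neg hq hK, frob_neg hq hK]

theorem frob_inj_sq (hq : IsPrimePow q) (hK : Fintype.card K = q ^ 3) (x y : K)
    (h : x ^ (q ^ 2) = y ^ (q ^ 2)) : x = y := by
  rw [← frob_sq, ← frob_sq] at h
  exact frob_inj hq hK _ _ (frob_inj hq hK _ _ h)

/-- the map `k ↦ k / (k^q k^(q²))` on the non-zero elements is injective -/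
theorem phi_ker (hq : IsPrimePow q) (hK : Fintype.card K = q ^ 3) (x : K) (hx : x ≠ 0)
    (h : x = x ^ q * x ^ (q ^ 2)) : x = 1 := by
  have h1 : x ^ q = x ^ (q ^ 2) * x := by
    have h0 : x ^ q = (x ^ q * x ^ (q ^ 2)) ^ q := congrArg (fun y => y ^ q) h
    rw [mul_pow, frob_sq, frob_cube hK] at h0
    exact h0
  have h2 : x * 1 = x * (x ^ (q ^ 2)) ^ 2 := by
    conv_lhs => rw [mul_one, h, h1]
    ring
  have h3 : (x ^ (q ^ 2)) ^ 2 = 1 := (mul_left_cancel₀ hx h2).symm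
  have h4 : (x ^ 2) ^ (q ^ 2) = (1 : K) ^ (q ^ 2) := by
    rw [one_pow, ← h3, ← pow_mul, ← pow_mul, mul_comm]
  have h5 : x ^ 2 = 1 := frob_inj_sq hq hK _ _ h4
  have h6 : x = 1 ∨ x = -1 := by
    have : (x - 1) * (x + 1) = 0 := by
      have : (x - 1) * (x + 1) = x ^ 2 - 1 := by ring
      rw [this, h5, sub_self]
    rcases mul_eq_zero.1 this with h7 | h7
    · exact Or.inl (sub_eq_zero.1 h7)
    · exact Or.inr (eq_neg_of_add_eq_zero_left h7)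
  rcases h6 with h6 | h6
  · exact h6
  · -- `x = -1`: then `-1 = (-1)(-1) = 1`
    rw [h6] at h
    rw [frob_neg hq hK, frob_neg_sq hq hK, one_pow, one_pow] at h
    rw [h6, h]
    ring

/-- there is a non-zero `k` such that `k / (k^q k^(q²))` generates the multiplicative group -/
theorem exists_good_k (hq : IsPrimePow q) (hK : Fintype.card K = q ^ 3) :
    ∃ k : K, k ≠ 0 ∧ ∀ v : K, v ≠ 0 →
      ∃ m : ℕ, v = (k * (k ^ q)⁻¹ * (k ^ (q ^ 2))⁻¹) ^ m := by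
  classical
  let Φ : Kˣ →* Kˣ :=
    { toFun := fun u => u * (u ^ q)⁻¹ * (u ^ (q ^ 2))⁻¹
      map_one' := by simp
      map_mul' := by
        intro u v
        rw [mul_pow, mul_pow, mul_inv, mul_inv]
        ac_rfl }
  have hΦ : ∀ u : Kˣ, Φ u = u * (u ^ q)⁻¹ * (u ^ (q ^ 2))⁻¹ := fun u => rfl
  have hinj : Function.Injective Φ := by
    rw [injective_iff_map_eq_one]
    intro u hu
    rw [hΦ] at hu
    have h1 : u = u ^ q * u ^ (q ^ 2) := by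
      have := hu
      rw [mul_assoc, ← mul_inv, mul_inv_eq_one] at this
      exact this
    have h2 : (u : K) = (u : K) ^ q * (u : K) ^ (q ^ 2) := by
      have := congrArg (fun w : Kˣ => (w : K)) h1
      simpa using this
    exact Units.ext (phi_ker hq hK _ u.ne_zero h2)
  have hsurj : Function.Surjective Φ := Finite.injective_iff_surjective.1 hinj
  obtain ⟨g, hg⟩ := IsCyclic.exists_generator (α := Kˣ)
  refine ⟨(g : K), g.ne_zero, ?_⟩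
  intro v hv
  obtain ⟨v', hv'⟩ := hsurj (Units.mk0 v hv)
  have h1 : v' ∈ Subgroup.zpowers g := hg _
  have h2 : v' ∈ Submonoid.powers g :=
    (isOfFinOrder_of_finite g).mem_powers_iff_mem_zpowers.2 h1
  obtain ⟨m, hm⟩ := h2
  refine ⟨m, ?_⟩
  have h3 : Units.mk0 v hv = (Φ g) ^ m := by rw [← hv', ← hm, map_pow]
  have h4 := congrArg (fun w : Kˣ => (w : K)) h3
  simp only [Units.val_mk0, Units.val_pow_eq_pow_val] at h4
  rw [h4, hΦ]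
  simp

theorem two_le_q (hq : IsPrimePow q) : 2 ≤ q := hq.two_le

/-- the trace is not identically zero -/
theorem exists_trace_ne_zero (hq : IsPrimePow q) (hK : Fintype.card K = q ^ 3) :
    ∃ t : K, t + t ^ q + t ^ (q ^ 2) ≠ 0 := by
  classical
  have h2 := two_le_q hq
  by_contra hcon
  push Not at hcon
  let P : Polynomial K := Polynomial.X + Polynomial.X ^ q + Polynomial.X ^ (q ^ 2)
  have hdeg : P.natDegree = q ^ 2 := by
    have hlt1 : (Polynomial.X : Polynomial K).natDegree < (Polynomial.X ^ q : Polynomial K).natDegree := by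
      rw [Polynomial.natDegree_X, Polynomial.natDegree_X_pow]
      omega
    have h1 : (Polynomial.X + Polynomial.X ^ q : Polynomial K).natDegree = q := by
      rw [Polynomial.natDegree_add_eq_right_of_natDegree_lt hlt1, Polynomial.natDegree_X_pow]
    have hlt2 : (Polynomial.X + Polynomial.X ^ q : Polynomial K).natDegree <
        (Polynomial.X ^ (q ^ 2) : Polynomial K).natDegree := by
      rw [h1, Polynomial.natDegree_X_pow]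
      nlinarith
    show (Polynomial.X + Polynomial.X ^ q + Polynomial.X ^ (q ^ 2) : Polynomial K).natDegree = q ^ 2
    rw [Polynomial.natDegree_add_eq_right_of_natDegree_lt hlt2, Polynomial.natDegree_X_pow]
  have hP0 : P = 0 := by
    apply Polynomial.eq_zero_of_natDegree_lt_card_of_eval_eq_zero P (f := fun x : K => x)
      Function.injective_id
    · intro t
      show Polynomial.eval t (Polynomial.X + Polynomial.X ^ q + Polynomial.X ^ (q ^ 2)) = 0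
      simp only [Polynomial.eval_add, Polynomial.eval_X, Polynomial.eval_pow]
      exact hcon t
    · rw [hdeg, hK]
      exact Nat.pow_lt_pow_right (by omega) (by norm_num)
  have : P.natDegree = 0 := by rw [hP0]; simp
  rw [hdeg] at this
  have : 0 < q ^ 2 := by positivity
  omega

end fld

end Cfsg.Agent.Helper13.TD4
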