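import Mathlib
import Cfsg.Prelude.Def_LieTwisted
import Cfsg.Agent.Lib.Helper13.TD4A
import Cfsg.Agent.Lib.Helper13.CGF4EVEN

/-!
# Two-generation of `³D₄(q)` (S2407): root elements, the elements `n`, `h` of the twisted group
-/

set_option autoImplicit false
set_option maxRecDepth 100000

namespace Cfsg.Agent.Helper13.TD4

open Cfsg Cfsg.Lie Cfsg.Agent.Lead.Chev Cfsg.Agent.Helper11.CG
open scoped commutatorElement

variable {K : Type*} [Field K]

/-- the facts for `D₄` -/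
theorem hF4 : ChevFacts chevD4 K := chevFacts_of_mem chevD4 (by simp)

/-- a product of three root elements -/
noncomputable def tri (hF : ChevFacts chevD4 K) (r₁ r₂ r₃ : ℕ) (t₁ t₂ t₃ : K) : GL chevD4.Idx K :=
  xGL chevD4 hF.xadd r₁ t₁ * xGL chevD4 hF.xadd r₂ t₂ * xGL chevD4 hF.xadd r₃ t₃

/-- the root subgroups of `r` and `s` commute elementwise -/
def RC (hF : ChevFacts chevD4 K) (r s : ℕ) : Prop :=
  ∀ t u : K, Commute (xGL chevD4 hF.xadd r t) (xGL chevD4 hF.xadd s u)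

theorem RC.symm {hF : ChevFacts chevD4 K} {r s : ℕ} (h : RC hF r s) : RC hF s r :=
  fun t u => (h u t).symm

theorem rc_of_terms (hF : ChevFacts chevD4 K) (r s : ℕ) (hr : r < 24) (hs : s < 24) (h1 : s ≠ r)
    (h2 : s ≠ chevD4.neg r) (hterms : chevD4.commTerms r s = []) : RC hF r s := by
  have hn : chevD4.nroots = 24 := by decide +kernel
  exact fun t u => f4even_commute chevD4 hF r s (by omega) (by omega) h1 h2 hterms t u

/-! ### The products of three root elements -/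

section tri

variable (hF : ChevFacts chevD4 K) {r₁ r₂ r₃ : ℕ}

theorem tri_mul (h12 : RC hF r₁ r₂) (h13 : RC hF r₁ r₃) (h23 : RC hF r₂ r₃) (t₁ t₂ t₃ u₁ u₂ u₃ : K) :
    tri hF r₁ r₂ r₃ t₁ t₂ t₃ * tri hF r₁ r₂ r₃ u₁ u₂ u₃ =
      tri hF r₁ r₂ r₃ (t₁ + u₁) (t₂ + u₂) (t₃ + u₃) := by
  unfold tri
  rw [rearr23 _ _ _ _ _ _ (h12 u₁ t₂) (h13 u₁ t₃) (h23 u₂ t₃), xGL_mul, xGL_mul, xGL_mul]

theorem tri_zero : tri hF r₁ r₂ r₃ 0 0 0 = 1 := by
  unfold tri
  rw [xGL_zero, xGL_zero, xGL_zero, one_mul, one_mul]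

theorem tri_inv (h12 : RC hF r₁ r₂) (h13 : RC hF r₁ r₃) (h23 : RC hF r₂ r₃) (t₁ t₂ t₃ : K) :
    (tri hF r₁ r₂ r₃ t₁ t₂ t₃)⁻¹ = tri hF r₁ r₂ r₃ (-t₁) (-t₂) (-t₃) := by
  rw [inv_eq_iff_mul_eq_one, tri_mul hF h12 h13 h23, add_neg_cancel, add_neg_cancel, add_neg_cancel,
    tri_zero]

/-- conjugation by `n_w` -/
theorem tri_conj (w : List ℕ) (hw : ∀ i ∈ w, i < chevD4.rank) (hr₁ : r₁ < chevD4.nroots)
    (hr₂ : r₂ < chevD4.nroots) (hr₃ : r₃ < chevD4.nroots) (t₁ t₂ t₃ : K) :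
    nWordGL chevD4 hF.xadd w * tri hF r₁ r₂ r₃ t₁ t₂ t₃ * (nWordGL chevD4 hF.xadd w)⁻¹ =
      tri hF (reflWord chevD4 w r₁) (reflWord chevD4 w r₂) (reflWord chevD4 w r₃)
        (((signWord chevD4 (etaOf chevD4) w r₁ : ℤ) : K) * t₁)
        (((signWord chevD4 (etaOf chevD4) w r₂ : ℤ) : K) * t₂)
        (((signWord chevD4 (etaOf chevD4) w r₃ : ℤ) : K) * t₃) := by
  unfold tri
  rw [← nWordGL_conj chevD4 hF.xadd (etaOf chevD4) hF.nsimple w hw r₁ hr₁,
    ← nWordGL_conj chevD4 hF.xadd (etaOf chevD4) hF.nsimple w hw r₂ hr₂,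
    ← nWordGL_conj chevD4 hF.xadd (etaOf chevD4) hF.nsimple w hw r₃ hr₃]
  group

/-- conjugation by an element acting on the three root subgroups by scalars -/
theorem tri_hconj (h : GL chevD4.Idx K) (c₁ c₂ c₃ : K)
    (h₁ : ∀ t, h * xGL chevD4 hF.xadd r₁ t * h⁻¹ = xGL chevD4 hF.xadd r₁ (c₁ * t))
    (h₂ : ∀ t, h * xGL chevD4 hF.xadd r₂ t * h⁻¹ = xGL chevD4 hF.xadd r₂ (c₂ * t))
    (h₃ : ∀ t, h * xGL chevD4 hF.xadd r₃ t * h⁻¹ = xGL chevD4 hF.xadd r₃ (c₃ * t)) (t₁ t₂ t₃ : K) :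
    h * tri hF r₁ r₂ r₃ t₁ t₂ t₃ * h⁻¹ = tri hF r₁ r₂ r₃ (c₁ * t₁) (c₂ * t₂) (c₃ * t₃) := by
  unfold tri
  rw [← h₁, ← h₂, ← h₃]
  group

end tri

/-! ### The data of `D₄` -/

theorem nroots_eq : chevD4.nroots = 24 := by decide +kernel
theorem rank_eq : chevD4.rank = 4 := by decide +kernel
theorem simple0 : chevD4.simple 0 = 18 := by decide +kernel
theorem simple1 : chevD4.simple 1 = 14 := by decide +kernel
theorem simple2 : chevD4.simple 2 = 13 := by decide +kernel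
theorem simple3 : chevD4.simple 3 = 12 := by decide +kernel
theorem neg18 : chevD4.neg 18 = 5 := by decide +kernel
theorem neg14 : chevD4.neg 14 = 9 := by decide +kernel
theorem neg13 : chevD4.neg 13 = 10 := by decide +kernel
theorem neg12 : chevD4.neg 12 = 11 := by decide +kernel

section cols

variable (hF : ChevFacts chevD4 K)

theorem rc_18_13 : RC hF 18 13 := rc_of_terms hF 18 13 (by norm_num) (by norm_num) (by decide +kernel) (by decide +kernel) (by decide +kernel)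
theorem rc_18_12 : RC hF 18 12 := rc_of_terms hF 18 12 (by norm_num) (by norm_num) (by decide +kernel) (by decide +kernel) (by decide +kernel)
theorem rc_18_10 : RC hF 18 10 := rc_of_terms hF 18 10 (by norm_num) (by norm_num) (by decide +kernel) (by decide +kernel) (by decide +kernel)
theorem rc_18_11 : RC hF 18 11 := rc_of_terms hF 18 11 (by norm_num) (by norm_num) (by decide +kernel) (by decide +kernel) (by decide +kernel)
theorem rc_13_12 : RC hF 13 12 := rc_of_terms hF 13 12 (by norm_num) (by norm_num) (by decide +kernel) (by decide +kernel) (by decide +kernel)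
theorem rc_13_5 : RC hF 13 5 := rc_of_terms hF 13 5 (by norm_num) (by norm_num) (by decide +kernel) (by decide +kernel) (by decide +kernel)
theorem rc_13_11 : RC hF 13 11 := rc_of_terms hF 13 11 (by norm_num) (by norm_num) (by decide +kernel) (by decide +kernel) (by decide +kernel)
theorem rc_12_5 : RC hF 12 5 := rc_of_terms hF 12 5 (by norm_num) (by norm_num) (by decide +kernel) (by decide +kernel) (by decide +kernel)
theorem rc_12_10 : RC hF 12 10 := rc_of_terms hF 12 10 (by norm_num) (by norm_num) (by decide +kernel) (by decide +kernel) (by decide +kernel)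
theorem rc_5_10 : RC hF 5 10 := rc_of_terms hF 5 10 (by norm_num) (by norm_num) (by decide +kernel) (by decide +kernel) (by decide +kernel)
theorem rc_5_11 : RC hF 5 11 := rc_of_terms hF 5 11 (by norm_num) (by norm_num) (by decide +kernel) (by decide +kernel) (by decide +kernel)
theorem rc_10_11 : RC hF 10 11 := rc_of_terms hF 10 11 (by norm_num) (by norm_num) (by decide +kernel) (by decide +kernel) (by decide +kernel)

end cols

/-! ### Elements of the twisted group -/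

section mem

variable (hF : ChevFacts chevD4 K) (q : ℕ)

/-- the positive generators of the triple class -/
noncomputable def yP (t : K) : GL chevD4.Idx K := tri hF 18 13 12 t (t ^ q) (t ^ (q ^ 2))

/-- the negative generators of the triple class -/
noncomputable def yM (t : K) : GL chevD4.Idx K := tri hF 5 10 11 t (t ^ q) (t ^ (q ^ 2))

theorem wordGL_mem (w : List (ℕ × K)) (hw : w ∈ d4Words K q) :
    wordGL chevD4 hF.xadd w ∈ twistedD4 K q := by
  unfold twistedD4 ChevalleyDatum.genSubgroup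
  exact Subgroup.subset_closure ⟨w, hw, wordGL_val _ _ _⟩

theorem wordGL_three (a b c : ℕ) (t u v : K) :
    wordGL chevD4 hF.xadd [(a, t), (b, u), (c, v)] = tri hF a b c t u v := by
  unfold tri
  rw [wordGL_cons, wordGL_cons, wordGL_singleton, mul_assoc]

theorem yP_mem (t : K) : yP hF q t ∈ twistedD4 K q := by
  unfold yP
  rw [← wordGL_three]
  apply wordGL_mem hF
  right
  exact ⟨t, (d4p1, d4p3, d4p4), by simp, rfl⟩

theorem yM_mem (t : K) : yM hF q t ∈ twistedD4 K q := by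
  unfold yM
  rw [← wordGL_three]
  apply wordGL_mem hF
  right
  exact ⟨t, (d4m1, d4m3, d4m4), by simp, rfl⟩

theorem x14_mem (s : K) (hs : s ^ q = s) : xGL chevD4 hF.xadd 14 s ∈ twistedD4 K q := by
  rw [← wordGL_singleton chevD4 hF.xadd (14, s)]
  apply wordGL_mem hF
  left
  exact ⟨s, hs, d4p2, by simp, rfl⟩

theorem x9_mem (s : K) (hs : s ^ q = s) : xGL chevD4 hF.xadd 9 s ∈ twistedD4 K q := by
  rw [← wordGL_singleton chevD4 hF.xadd (9, s)]
  apply wordGL_mem hF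
  left
  exact ⟨s, hs, d4m2, by simp, rfl⟩

/-- the twisted group lies in a subgroup containing the generating words -/
theorem twisted_le (L : Subgroup (GL chevD4.Idx K))
    (h14 : ∀ s : K, s ^ q = s → xGL chevD4 hF.xadd 14 s ∈ L)
    (h9 : ∀ s : K, s ^ q = s → xGL chevD4 hF.xadd 9 s ∈ L)
    (hP : ∀ t : K, yP hF q t ∈ L) (hM : ∀ t : K, yM hF q t ∈ L) : twistedD4 K q ≤ L := by
  unfold twistedD4 ChevalleyDatum.genSubgroup
  rw [Subgroup.closure_le]
  rintro g ⟨w, hw, hg⟩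
  have e : g = wordGL chevD4 hF.xadd w := Units.ext (by rw [hg, wordGL_val])
  rw [SetLike.mem_coe, e]
  rcases hw with ⟨t, ht, r, hr, rfl⟩ | ⟨t, rs, hrs, rfl⟩
  · simp only [List.mem_cons, List.not_mem_nil, or_false] at hr
    rcases hr with rfl | rfl
    · rw [wordGL_singleton]
      exact h14 t ht
    · rw [wordGL_singleton]
      exact h9 t ht
  · simp only [List.mem_cons, List.not_mem_nil, or_false] at hrs
    rcases hrs with rfl | rfl
    · rw [wordGL_three]
      exact hP t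
    · rw [wordGL_three]
      exact hM t

end mem

/-! ### The elements `n` and `h` -/

section nh

variable [Fintype K] {q : ℕ} (hq : IsPrimePow q) (hK : Fintype.card K = q ^ 3)
  (hF : ChevFacts chevD4 K)

/-- `n_{p₁}(t) n_{p₃}(t^q) n_{p₄}(t^(q²))` -/
noncomputable def nB (q : ℕ) (t : K) : GL chevD4.Idx K :=
  nGLt chevD4 hF.xadd 18 t * nGLt chevD4 hF.xadd 13 (t ^ q) * nGLt chevD4 hF.xadd 12 (t ^ (q ^ 2))

include hq hK in
theorem nB_eq (t : K) : nB hF q t = yP hF q t * yM hF q (-t⁻¹) * yP hF q t := by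
  unfold nB yP yM tri
  rw [nGLt_eq, nGLt_eq, nGLt_eq, neg18, neg13, neg12]
  rw [rearr33 _ _ _ _ _ _ _ _ _ ((rc_13_5 hF).symm _ _) ((rc_12_5 hF).symm _ _) (rc_18_13 hF _ _)
    (rc_18_12 hF _ _) (rc_18_10 hF _ _) (rc_18_11 hF _ _) ((rc_12_10 hF).symm _ _) (rc_13_12 hF _ _)
    (rc_13_11 hF _ _)]
  rw [frob_neg hq hK, frob_neg_sq hq hK, inv_pow, inv_pow]

include hq hK in
theorem nB_mem (t : K) : nB hF q t ∈ twistedD4 K q := by
  rw [nB_eq hq hK]
  exact mul_mem (mul_mem (yP_mem hF q t) (yM_mem hF q _)) (yP_mem hF q t)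

include hq hK in
theorem nA_mem (s : K) (hs : s ^ q = s) : nGLt chevD4 hF.xadd 14 s ∈ twistedD4 K q := by
  rw [nGLt_eq, neg14]
  refine mul_mem (mul_mem (x14_mem hF q s hs) (x9_mem hF q _ ?_)) (x14_mem hF q s hs)
  rw [frob_neg hq hK, inv_pow, hs]

/-- the Coxeter element -/
noncomputable def nw : GL chevD4.Idx K := nWordGL chevD4 hF.xadd [1, 0, 2, 3]

theorem nw_eq : nw hF = nGLt chevD4 hF.xadd 14 1 * nB hF q 1 := by
  unfold nw nB
  rw [nWordGL_cons, nWordGL_cons, nWordGL_cons, nWordGL_cons, nWordGL_nil, mul_one, simple0, simple1,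
    simple2, simple3, one_pow, one_pow, mul_assoc (nGLt chevD4 hF.xadd 18 1)]
  rfl

include hq hK in
theorem nw_mem : nw hF ∈ twistedD4 K q := by
  rw [nw_eq hF (q := q)]
  exact mul_mem (nA_mem hq hK hF 1 (one_pow q)) (nB_mem hq hK hF 1)

theorem nGLt_commute {r s : ℕ} {r' s' : ℕ} (hr : chevD4.neg r = r') (hs : chevD4.neg s = s')
    (h1 : RC hF r s) (h2 : RC hF r s') (h3 : RC hF r' s) (h4 : RC hF r' s') (t u : K) :
    Commute (nGLt chevD4 hF.xadd r t) (nGLt chevD4 hF.xadd s u) := by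
  rw [nGLt_eq, nGLt_eq, hr, hs]
  have a1 : ∀ v w : K, Commute (xGL chevD4 hF.xadd r v)
      (xGL chevD4 hF.xadd s u * xGL chevD4 hF.xadd s' w * xGL chevD4 hF.xadd s u) :=
    fun v w => ((h1 v u).mul_right (h2 v w)).mul_right (h1 v u)
  have a2 : ∀ v w : K, Commute (xGL chevD4 hF.xadd r' v)
      (xGL chevD4 hF.xadd s u * xGL chevD4 hF.xadd s' w * xGL chevD4 hF.xadd s u) :=
    fun v w => ((h3 v u).mul_right (h4 v w)).mul_right (h3 v u)
  exact ((a1 t _).mul_left (a2 _ _)).mul_left (a1 t _)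

/-- `h_{p₁}(k) h_{p₃}(k^q) h_{p₄}(k^(q²))` -/
noncomputable def hB (q : ℕ) (k : K) : GL chevD4.Idx K :=
  hGLt chevD4 hF.xadd 18 k * hGLt chevD4 hF.xadd 13 (k ^ q) * hGLt chevD4 hF.xadd 12 (k ^ (q ^ 2))

include hq hK in
theorem hB_eq (k : K) : hB hF q k = nB hF q k * nB hF q (-1) := by
  unfold hB nB
  rw [hGLt_eq, hGLt_eq, hGLt_eq, frob_neg hq hK, frob_neg_sq hq hK, one_pow, one_pow]
  rw [rearr23 _ _ _ _ _ _
    (nGLt_commute hF neg18 neg13 (rc_18_13 hF) (rc_18_10 hF) (rc_13_5 hF).symm (rc_5_10 hF) _ _)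
    (nGLt_commute hF neg18 neg12 (rc_18_12 hF) (rc_18_11 hF) (rc_12_5 hF).symm (rc_5_11 hF) _ _)
    (nGLt_commute hF neg13 neg12 (rc_13_12 hF) (rc_13_11 hF) (rc_12_10 hF).symm (rc_10_11 hF) _ _)]

include hq hK in
theorem hB_mem (k : K) : hB hF q k ∈ twistedD4 K q := by
  rw [hB_eq hq hK]
  exact mul_mem (nB_mem hq hK hF k) (nB_mem hq hK hF _)

include hq hK in
theorem hA_mem (s : K) (hs : s ^ q = s) : hGLt chevD4 hF.xadd 14 s ∈ twistedD4 K q := by
  rw [hGLt_eq]
  refine mul_mem (nA_mem hq hK hF s hs) (nA_mem hq hK hF _ ?_)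
  rw [frob_neg hq hK, one_pow]

/-- the norm is fixed by the Frobenius map -/
theorem norm_fixed (hK : Fintype.card K = q ^ 3) (k : K) :
    (k * k ^ q * k ^ (q ^ 2)) ^ q = k * k ^ q * k ^ (q ^ 2) := by
  rw [mul_pow, mul_pow, frob_sq, frob_cube hK]
  ring

/-- the torus element -/
noncomputable def hT (q : ℕ) (k : K) : GL chevD4.Idx K :=
  hGLt chevD4 hF.xadd 14 (k * k ^ q * k ^ (q ^ 2)) * hB hF q k

include hq hK in
theorem hT_mem (k : K) : hT hF q k ∈ twistedD4 K q :=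
  mul_mem (hA_mem hq hK hF _ (norm_fixed hK k)) (hB_mem hq hK hF k)

end nh

end Cfsg.Agent.Helper13.TD4
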