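import Mathlib
import Cfsg.Agent.Lib.Helper13.TD4B

/-!
# Two-generation of `³D₄(q)` (S2407): the action of the torus element, Steinberg's trick
-/

set_option autoImplicit false
set_option maxRecDepth 100000

namespace Cfsg.Agent.Helper13.TD4

open Cfsg Cfsg.Lie Cfsg.Agent.Lead.Chev Cfsg.Agent.Helper11.CG
open scoped commutatorElement

variable {K : Type*} [Field K]

/-! ### Steinberg's trick, abstractly -/

section abstract

variable {G : Type*} [Group G]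

/-- `Y` a homomorphism from the additive group of `K`; `h` and `g = n h n⁻¹` commute and act on `Y` by
the scalars `c`, `c'`; a subgroup containing `h` and `Y 1 * n` contains `Y ((1 - c) (1 - c'))` -/
theorem steinberg_abs (Y : K → G) (hadd : ∀ t u, Y (t + u) = Y t * Y u) (h n : G) (c c' : K)
    (hh : ∀ t, h * Y t * h⁻¹ = Y (c * t)) (hg : ∀ t, (n * h * n⁻¹) * Y t * (n * h * n⁻¹)⁻¹ = Y (c' * t))
    (hcomm : Commute (n * h * n⁻¹) h) (L : Subgroup G) (hL : h ∈ L) (bL : Y 1 * n ∈ L) :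
    Y ((1 - c) * (1 - c')) ∈ L := by
  have h0 : Y 0 = 1 := by
    have := hadd 0 0
    rw [add_zero] at this
    exact (mul_eq_left.1 this.symm)
  have hneg : ∀ t, Y (-t) = (Y t)⁻¹ := by
    intro t
    rw [eq_inv_iff_mul_eq_one, ← hadd, neg_add_cancel, h0]
  -- `y = b h b⁻¹ = Y (1 - c') g`
  have e1 : (Y 1 * n) * h * (Y 1 * n)⁻¹ = Y (1 - c') * (n * h * n⁻¹) := by
    have e2 : (n * h * n⁻¹) * Y (-1) = Y (-c') * (n * h * n⁻¹) := by
      have := hg (-1)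
      rw [mul_neg_one] at this
      rw [← this]
      group
    calc (Y 1 * n) * h * (Y 1 * n)⁻¹ = Y 1 * ((n * h * n⁻¹) * (Y 1)⁻¹) := by group
      _ = Y 1 * ((n * h * n⁻¹) * Y (-1)) := by rw [hneg]
      _ = Y 1 * (Y (-c') * (n * h * n⁻¹)) := by rw [e2]
      _ = Y (1 - c') * (n * h * n⁻¹) := by rw [sub_eq_add_neg, hadd, ← mul_assoc (Y 1)]
  have yL : Y (1 - c') * (n * h * n⁻¹) ∈ L := by
    rw [← e1]
    exact mul_mem (mul_mem bL hL) (inv_mem bL)
  -- `y h y⁻¹ h⁻¹ = Y ((1 - c) (1 - c'))`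
  have e3 : (Y (1 - c') * (n * h * n⁻¹)) * h * (Y (1 - c') * (n * h * n⁻¹))⁻¹ * h⁻¹ =
      Y ((1 - c) * (1 - c')) := by
    have e4 : (n * h * n⁻¹) * h * (n * h * n⁻¹)⁻¹ = h := by
      rw [hcomm.eq, mul_inv_cancel_right]
    have e5 : h * (Y (1 - c'))⁻¹ * h⁻¹ = Y (-(c * (1 - c'))) := by
      rw [← hneg, hh, mul_neg]
    calc (Y (1 - c') * (n * h * n⁻¹)) * h * (Y (1 - c') * (n * h * n⁻¹))⁻¹ * h⁻¹
        = Y (1 - c') * ((n * h * n⁻¹) * h * (n * h * n⁻¹)⁻¹) * (Y (1 - c'))⁻¹ * h⁻¹ := by group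
      _ = Y (1 - c') * (h * (Y (1 - c'))⁻¹ * h⁻¹) := by rw [e4]; group
      _ = Y (1 - c') * Y (-(c * (1 - c'))) := by rw [e5]
      _ = Y ((1 - c) * (1 - c')) := by rw [← hadd]; congr 1; ring
  rw [← e3]
  exact mul_mem (mul_mem (mul_mem yL hL) (inv_mem yL)) (inv_mem hL)

/-- filling the image of `Y` with the powers of `h` -/
theorem fill_abs (Y : K → G) (hadd : ∀ t u, Y (t + u) = Y t * Y u) (h : G) (c : K)
    (hh : ∀ t, h * Y t * h⁻¹ = Y (c * t)) (hgen : ∀ v : K, v ≠ 0 → ∃ m : ℕ, v = c ^ m)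
    (L : Subgroup G) (hL : h ∈ L) (t₀ : K) (ht₀ : t₀ ≠ 0) (h₀ : Y t₀ ∈ L) (v : K) : Y v ∈ L := by
  have h0 : Y 0 = 1 := by
    have := hadd 0 0
    rw [add_zero] at this
    exact (mul_eq_left.1 this.symm)
  have hpow : ∀ m : ℕ, Y (c ^ m * t₀) ∈ L := by
    intro m
    induction m with
    | zero => rw [pow_zero, one_mul]; exact h₀
    | succ m ih =>
      have := mul_mem (mul_mem hL ih) (inv_mem hL)
      rw [hh] at this
      rw [pow_succ, mul_comm (c ^ m), mul_assoc]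
      exact this
  by_cases hv : v = 0
  · rw [hv, h0]
    exact one_mem _
  · obtain ⟨m, hm⟩ := hgen (v / t₀) (div_ne_zero hv ht₀)
    have := hpow m
    rw [← hm, div_mul_cancel₀ v ht₀] at this
    exact this

end abstract

/-! ### The action of the torus element -/

section torus

variable [Fintype K] {q : ℕ} (hF : ChevFacts chevD4 K)

theorem h18_conj (s : ℕ) (hs : s < 24) (c : K) (hc : c ≠ 0) (t : K) :
    hGLt chevD4 hF.xadd 18 c * xGL chevD4 hF.xadd s t * (hGLt chevD4 hF.xadd 18 c)⁻¹ =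
      xGL chevD4 hF.xadd s (c ^ (chevD4.cartan 0 s) * t) := by
  have := hGLt_conj chevD4 hF 0 (by rw [rank_eq]; norm_num) s (by rw [nroots_eq]; exact hs) c hc t
  rw [simple0] at this
  exact this

theorem h14_conj (s : ℕ) (hs : s < 24) (c : K) (hc : c ≠ 0) (t : K) :
    hGLt chevD4 hF.xadd 14 c * xGL chevD4 hF.xadd s t * (hGLt chevD4 hF.xadd 14 c)⁻¹ =
      xGL chevD4 hF.xadd s (c ^ (chevD4.cartan 1 s) * t) := by
  have := hGLt_conj chevD4 hF 1 (by rw [rank_eq]; norm_num) s (by rw [nroots_eq]; exact hs) c hc t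
  rw [simple1] at this
  exact this

theorem h13_conj (s : ℕ) (hs : s < 24) (c : K) (hc : c ≠ 0) (t : K) :
    hGLt chevD4 hF.xadd 13 c * xGL chevD4 hF.xadd s t * (hGLt chevD4 hF.xadd 13 c)⁻¹ =
      xGL chevD4 hF.xadd s (c ^ (chevD4.cartan 2 s) * t) := by
  have := hGLt_conj chevD4 hF 2 (by rw [rank_eq]; norm_num) s (by rw [nroots_eq]; exact hs) c hc t
  rw [simple2] at this
  exact this

theorem h12_conj (s : ℕ) (hs : s < 24) (c : K) (hc : c ≠ 0) (t : K) :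
    hGLt chevD4 hF.xadd 12 c * xGL chevD4 hF.xadd s t * (hGLt chevD4 hF.xadd 12 c)⁻¹ =
      xGL chevD4 hF.xadd s (c ^ (chevD4.cartan 3 s) * t) := by
  have := hGLt_conj chevD4 hF 3 (by rw [rank_eq]; norm_num) s (by rw [nroots_eq]; exact hs) c hc t
  rw [simple3] at this
  exact this

theorem hT_conj (k : K) (hk : k ≠ 0) (s : ℕ) (hs : s < 24) (t : K) :
    hT hF q k * xGL chevD4 hF.xadd s t * (hT hF q k)⁻¹ =
      xGL chevD4 hF.xadd s ((k * k ^ q * k ^ (q ^ 2)) ^ (chevD4.cartan 1 s) *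
        (k ^ (chevD4.cartan 0 s) * ((k ^ q) ^ (chevD4.cartan 2 s) *
          ((k ^ (q ^ 2)) ^ (chevD4.cartan 3 s) * t)))) := by
  have hk1 : k ^ q ≠ 0 := pow_ne_zero _ hk
  have hk2 : k ^ (q ^ 2) ≠ 0 := pow_ne_zero _ hk
  have ha : k * k ^ q * k ^ (q ^ 2) ≠ 0 := mul_ne_zero (mul_ne_zero hk hk1) hk2
  rw [← h14_conj hF s hs _ ha, ← h18_conj hF s hs _ hk, ← h13_conj hF s hs _ hk1,
    ← h12_conj hF s hs _ hk2]
  unfold hT hB
  group

/-- the scalar by which the torus element acts on the root subgroup of `p₁` -/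
def cc (q : ℕ) (k : K) : K := k * (k ^ q)⁻¹ * (k ^ (q ^ 2))⁻¹

theorem cc_ne_zero (k : K) (hk : k ≠ 0) : cc q k ≠ 0 := by
  unfold cc
  exact mul_ne_zero (mul_ne_zero hk (inv_ne_zero (pow_ne_zero _ hk))) (inv_ne_zero (pow_ne_zero _ hk))

theorem cc_frob (hK : Fintype.card K = q ^ 3) (k : K) :
    (cc q k) ^ q = k ^ q * (k ^ (q ^ 2))⁻¹ * k⁻¹ := by
  unfold cc
  rw [mul_pow, mul_pow, inv_pow, inv_pow, frob_sq, frob_cube hK]

theorem cc_frob_sq (hK : Fintype.card K = q ^ 3) (k : K) :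
    (cc q k) ^ (q ^ 2) = k ^ (q ^ 2) * k⁻¹ * (k ^ q)⁻¹ := by
  rw [← frob_sq, cc_frob hK, mul_pow, mul_pow, inv_pow, inv_pow, frob_sq, frob_cube hK]

theorem hT_x18 (k : K) (hk : k ≠ 0) (t : K) :
    hT hF q k * xGL chevD4 hF.xadd 18 t * (hT hF q k)⁻¹ = xGL chevD4 hF.xadd 18 (cc q k * t) := by
  rw [hT_conj hF k hk 18 (by norm_num)]
  have e0 : chevD4.cartan 0 18 = 2 := by decide +kernel
  have e1 : chevD4.cartan 1 18 = -1 := by decide +kernel
  have e2 : chevD4.cartan 2 18 = 0 := by decide +kernel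
  have e3 : chevD4.cartan 3 18 = 0 := by decide +kernel
  rw [e0, e1, e2, e3]
  congr 1
  have hk1 : k ^ q ≠ 0 := pow_ne_zero _ hk
  have hk2 : k ^ (q ^ 2) ≠ 0 := pow_ne_zero _ hk
  unfold cc
  rw [zpow_neg_one, zpow_zero, zpow_zero, zpow_two]
  field_simp

theorem hT_x13 (hK : Fintype.card K = q ^ 3) (k : K) (hk : k ≠ 0) (t : K) :
    hT hF q k * xGL chevD4 hF.xadd 13 t * (hT hF q k)⁻¹ =
      xGL chevD4 hF.xadd 13 ((cc q k) ^ q * t) := by
  rw [hT_conj hF k hk 13 (by norm_num)]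
  have e0 : chevD4.cartan 0 13 = 0 := by decide +kernel
  have e1 : chevD4.cartan 1 13 = -1 := by decide +kernel
  have e2 : chevD4.cartan 2 13 = 2 := by decide +kernel
  have e3 : chevD4.cartan 3 13 = 0 := by decide +kernel
  rw [e0, e1, e2, e3, cc_frob hK]
  congr 1
  have hk1 : k ^ q ≠ 0 := pow_ne_zero _ hk
  have hk2 : k ^ (q ^ 2) ≠ 0 := pow_ne_zero _ hk
  rw [zpow_neg_one, zpow_zero, zpow_zero, zpow_two]
  field_simp

theorem hT_x12 (hK : Fintype.card K = q ^ 3) (k : K) (hk : k ≠ 0) (t : K) :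
    hT hF q k * xGL chevD4 hF.xadd 12 t * (hT hF q k)⁻¹ =
      xGL chevD4 hF.xadd 12 ((cc q k) ^ (q ^ 2) * t) := by
  rw [hT_conj hF k hk 12 (by norm_num)]
  have e0 : chevD4.cartan 0 12 = 0 := by decide +kernel
  have e1 : chevD4.cartan 1 12 = -1 := by decide +kernel
  have e2 : chevD4.cartan 2 12 = 0 := by decide +kernel
  have e3 : chevD4.cartan 3 12 = 2 := by decide +kernel
  rw [e0, e1, e2, e3, cc_frob_sq hK]
  congr 1
  have hk1 : k ^ q ≠ 0 := pow_ne_zero _ hk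
  have hk2 : k ^ (q ^ 2) ≠ 0 := pow_ne_zero _ hk
  rw [zpow_neg_one, zpow_zero, zpow_zero, zpow_two]
  field_simp

theorem hT_x17 (k : K) (hk : k ≠ 0) (t : K) :
    hT hF q k * xGL chevD4 hF.xadd 17 t * (hT hF q k)⁻¹ =
      xGL chevD4 hF.xadd 17 ((cc q k)⁻¹ * t) := by
  rw [hT_conj hF k hk 17 (by norm_num)]
  have e0 : chevD4.cartan 0 17 = -1 := by decide +kernel
  have e1 : chevD4.cartan 1 17 = 0 := by decide +kernel
  have e2 : chevD4.cartan 2 17 = 1 := by decide +kernel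
  have e3 : chevD4.cartan 3 17 = 1 := by decide +kernel
  rw [e0, e1, e2, e3]
  congr 1
  have hk1 : k ^ q ≠ 0 := pow_ne_zero _ hk
  have hk2 : k ^ (q ^ 2) ≠ 0 := pow_ne_zero _ hk
  unfold cc
  rw [zpow_neg_one, zpow_zero, zpow_one, zpow_one]
  field_simp

theorem hT_x20 (hK : Fintype.card K = q ^ 3) (k : K) (hk : k ≠ 0) (t : K) :
    hT hF q k * xGL chevD4 hF.xadd 20 t * (hT hF q k)⁻¹ =
      xGL chevD4 hF.xadd 20 (((cc q k)⁻¹) ^ q * t) := by
  rw [hT_conj hF k hk 20 (by norm_num)]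
  have e0 : chevD4.cartan 0 20 = 1 := by decide +kernel
  have e1 : chevD4.cartan 1 20 = 0 := by decide +kernel
  have e2 : chevD4.cartan 2 20 = -1 := by decide +kernel
  have e3 : chevD4.cartan 3 20 = 1 := by decide +kernel
  rw [e0, e1, e2, e3, inv_pow, cc_frob hK]
  congr 1
  have hk1 : k ^ q ≠ 0 := pow_ne_zero _ hk
  have hk2 : k ^ (q ^ 2) ≠ 0 := pow_ne_zero _ hk
  rw [zpow_neg_one, zpow_zero, zpow_one, zpow_one]
  field_simp

theorem hT_x21 (hK : Fintype.card K = q ^ 3) (k : K) (hk : k ≠ 0) (t : K) :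
    hT hF q k * xGL chevD4 hF.xadd 21 t * (hT hF q k)⁻¹ =
      xGL chevD4 hF.xadd 21 (((cc q k)⁻¹) ^ (q ^ 2) * t) := by
  rw [hT_conj hF k hk 21 (by norm_num)]
  have e0 : chevD4.cartan 0 21 = 1 := by decide +kernel
  have e1 : chevD4.cartan 1 21 = 0 := by decide +kernel
  have e2 : chevD4.cartan 2 21 = 1 := by decide +kernel
  have e3 : chevD4.cartan 3 21 = -1 := by decide +kernel
  rw [e0, e1, e2, e3, inv_pow, cc_frob_sq hK]
  congr 1
  have hk1 : k ^ q ≠ 0 := pow_ne_zero _ hk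
  have hk2 : k ^ (q ^ 2) ≠ 0 := pow_ne_zero _ hk
  rw [zpow_neg_one, zpow_zero, zpow_one, zpow_one]
  field_simp

end torus

end Cfsg.Agent.Helper13.TD4
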