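import Mathlib
import Cfsg.Agent.Lib.Helper13.TD4C

/-!
# Two-generation of `³D₄(q)` (S2407): the two generators
-/

set_option autoImplicit false
set_option maxRecDepth 100000

namespace Cfsg.Agent.Helper13.TD4

open Cfsg Cfsg.Lie Cfsg.Agent.Lead.Chev Cfsg.Agent.Helper11.CG
open scoped commutatorElement

variable {K : Type*} [Field K] [Fintype K] {q : ℕ}

section prep

variable (hq : IsPrimePow q) (hK : Fintype.card K = q ^ 3) (hF : ChevFacts chevD4 K)

include hq hK in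
theorem yP_add (t u : K) : yP hF q (t + u) = yP hF q t * yP hF q u := by
  unfold yP
  rw [tri_mul hF (rc_18_13 hF) (rc_18_12 hF) (rc_13_12 hF), frob_add hq hK, frob_add_sq hq hK]

include hK in
theorem hT_yP (k : K) (hk : k ≠ 0) (t : K) :
    hT hF q k * yP hF q t * (hT hF q k)⁻¹ = yP hF q (cc q k * t) := by
  unfold yP
  rw [tri_hconj hF (hT hF q k) (cc q k) ((cc q k) ^ q) ((cc q k) ^ (q ^ 2)) (hT_x18 hF k hk)
    (hT_x13 hF hK k hk) (hT_x12 hF hK k hk), mul_pow, mul_pow]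

/-- the class which `n_w` maps to the positive triple class -/
noncomputable def zP (q : ℕ) (t : K) : GL chevD4.Idx K := tri hF 17 20 21 t (-(t ^ q)) (-(t ^ (q ^ 2)))

include hK in
theorem hT_zP (k : K) (hk : k ≠ 0) (t : K) :
    hT hF q k * zP hF q t * (hT hF q k)⁻¹ = zP hF q ((cc q k)⁻¹ * t) := by
  unfold zP
  rw [tri_hconj hF (hT hF q k) ((cc q k)⁻¹) (((cc q k)⁻¹) ^ q) (((cc q k)⁻¹) ^ (q ^ 2))
    (hT_x17 hF k hk) (hT_x20 hF hK k hk) (hT_x21 hF hK k hk), mul_pow, mul_pow, mul_neg, mul_neg]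

theorem hw4 : ∀ i ∈ [1, 0, 2, 3], i < chevD4.rank := by decide +kernel

theorem nw_zP (t : K) : nw hF * zP hF q t * (nw hF)⁻¹ = yP hF q t := by
  unfold nw zP yP
  rw [tri_conj hF [1, 0, 2, 3] hw4 (by rw [nroots_eq]; norm_num) (by rw [nroots_eq]; norm_num)
    (by rw [nroots_eq]; norm_num)]
  have r1 : reflWord chevD4 [1, 0, 2, 3] 17 = 18 := by decide +kernel
  have r2 : reflWord chevD4 [1, 0, 2, 3] 20 = 13 := by decide +kernel
  have r3 : reflWord chevD4 [1, 0, 2, 3] 21 = 12 := by decide +kernel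
  have s1 : signWord chevD4 (etaOf chevD4) [1, 0, 2, 3] 17 = 1 := by decide +kernel
  have s2 : signWord chevD4 (etaOf chevD4) [1, 0, 2, 3] 20 = -1 := by decide +kernel
  have s3 : signWord chevD4 (etaOf chevD4) [1, 0, 2, 3] 21 = -1 := by decide +kernel
  rw [r1, r2, r3, s1, s2, s3]
  congr 1 <;> simp

include hK in
theorem g_yP (k : K) (hk : k ≠ 0) (t : K) :
    (nw hF * hT hF q k * (nw hF)⁻¹) * yP hF q t * (nw hF * hT hF q k * (nw hF)⁻¹)⁻¹ =
      yP hF q ((cc q k)⁻¹ * t) := by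
  rw [← nw_zP hF (q := q) ((cc q k)⁻¹ * t), ← hT_zP hK hF k hk, ← nw_zP hF (q := q) t]
  group

omit [Fintype K] in
theorem hT_mem_diag (k : K) (hk : k ≠ 0) : hT hF q k ∈ chevD4.diagonalSubgroup K := by
  have hk1 : k ^ q ≠ 0 := pow_ne_zero _ hk
  have hk2 : k ^ (q ^ 2) ≠ 0 := pow_ne_zero _ hk
  have ha : k * k ^ q * k ^ (q ^ 2) ≠ 0 := mul_ne_zero (mul_ne_zero hk hk1) hk2
  unfold hT hB
  exact mul_mem (hGLt_mem_diagonal _ _ _ (by rw [nroots_eq]; norm_num) _ ha)
    (mul_mem (mul_mem (hGLt_mem_diagonal _ _ _ (by rw [nroots_eq]; norm_num) _ hk)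
      (hGLt_mem_diagonal _ _ _ (by rw [nroots_eq]; norm_num) _ hk1))
      (hGLt_mem_diagonal _ _ _ (by rw [nroots_eq]; norm_num) _ hk2))

theorem g_comm (k : K) (hk : k ≠ 0) :
    Commute (nw hF * hT hF q k * (nw hF)⁻¹) (hT hF q k) := by
  have h1 := hT_mem_diag hF (q := q) k hk
  have h2 : nw hF * hT hF q k * (nw hF)⁻¹ ∈ chevD4.diagonalSubgroup K :=
    nWordGL_conj_mem_diagonal chevD4 hF.xadd (etaOf chevD4) hF.nsimple [1, 0, 2, 3] hw4 _ h1
  exact diagonalSubgroup_comm chevD4 hF.hall _ _ h2 h1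

omit [Fintype K] in
/-- one step of conjugation by `n_w` on a product of three root elements -/
theorem conj_step (L : Subgroup (GL chevD4.Idx K)) (hn : nw hF ∈ L) (r₁ r₂ r₃ s₁ s₂ s₃ : ℕ)
    (e₁ e₂ e₃ : ℤ) (hr₁ : r₁ < 24) (hr₂ : r₂ < 24) (hr₃ : r₃ < 24)
    (hs₁ : reflWord chevD4 [1, 0, 2, 3] r₁ = s₁) (hs₂ : reflWord chevD4 [1, 0, 2, 3] r₂ = s₂)
    (hs₃ : reflWord chevD4 [1, 0, 2, 3] r₃ = s₃)
    (he₁ : signWord chevD4 (etaOf chevD4) [1, 0, 2, 3] r₁ = e₁)
    (he₂ : signWord chevD4 (etaOf chevD4) [1, 0, 2, 3] r₂ = e₂)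
    (he₃ : signWord chevD4 (etaOf chevD4) [1, 0, 2, 3] r₃ = e₃) (t₁ t₂ t₃ : K)
    (hmem : tri hF r₁ r₂ r₃ t₁ t₂ t₃ ∈ L) :
    tri hF s₁ s₂ s₃ ((e₁ : K) * t₁) ((e₂ : K) * t₂) ((e₃ : K) * t₃) ∈ L := by
  have h1 := mul_mem (mul_mem hn hmem) (inv_mem hn)
  unfold nw at h1
  rw [tri_conj hF [1, 0, 2, 3] hw4 (by rw [nroots_eq]; exact hr₁) (by rw [nroots_eq]; exact hr₂)
    (by rw [nroots_eq]; exact hr₃), hs₁, hs₂, hs₃, he₁, he₂, he₃] at h1
  exact h1

end prep

/-! ### The commutator of two triple classes -/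

section comm

variable (hF : ChevFacts chevD4 K)

omit [Fintype K] in
/-- a commutator formula with a single term `(e, c, 1, 1)` -/
theorem comm_one (r s e : ℕ) (c : ℤ) (hr : r < 24) (hs : s < 24) (h1 : s ≠ r)
    (h2 : s ≠ chevD4.neg r) (hterms : chevD4.commTerms r s = [(e, c, 1, 1)]) (t u : K) :
    ⁅(xGL chevD4 hF.xadd s u)⁻¹, (xGL chevD4 hF.xadd r t)⁻¹⁆ =
      xGL chevD4 hF.xadd e ((c : K) * (-t) * u) := by
  have h := comm_GL chevD4 hF.xadd r s
    (hF.comm r (by rw [nroots_eq]; exact hr) s (by rw [nroots_eq]; exact hs) h1 h2) t u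
  have e' : chevD4.commWord K r s t u = [(e, (c : K) * (-t) * u)] := by
    unfold ChevalleyDatum.commWord
    rw [hterms]
    simp
  rw [e', wordGL_singleton] at h
  exact h

theorem ct_19_5 : chevD4.commTerms 19 5 = [(14, 1, 1, 1)] := by decide +kernel
theorem ct_16_10 : chevD4.commTerms 16 10 = [(14, -1, 1, 1)] := by decide +kernel
theorem ct_15_11 : chevD4.commTerms 15 11 = [(14, -1, 1, 1)] := by decide +kernel

omit [Fintype K] in
theorem rc_19_10 : RC hF 19 10 := rc_of_terms hF 19 10 (by norm_num) (by norm_num) (by decide +kernel) (by decide +kernel) (by decide +kernel)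
omit [Fintype K] in
theorem rc_19_11 : RC hF 19 11 := rc_of_terms hF 19 11 (by norm_num) (by norm_num) (by decide +kernel) (by decide +kernel) (by decide +kernel)
omit [Fintype K] in
theorem rc_16_5 : RC hF 16 5 := rc_of_terms hF 16 5 (by norm_num) (by norm_num) (by decide +kernel) (by decide +kernel) (by decide +kernel)
omit [Fintype K] in
theorem rc_16_11 : RC hF 16 11 := rc_of_terms hF 16 11 (by norm_num) (by norm_num) (by decide +kernel) (by decide +kernel) (by decide +kernel)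
omit [Fintype K] in
theorem rc_15_5 : RC hF 15 5 := rc_of_terms hF 15 5 (by norm_num) (by norm_num) (by decide +kernel) (by decide +kernel) (by decide +kernel)
omit [Fintype K] in
theorem rc_15_10 : RC hF 15 10 := rc_of_terms hF 15 10 (by norm_num) (by norm_num) (by decide +kernel) (by decide +kernel) (by decide +kernel)
omit [Fintype K] in
theorem rc_14_16 : RC hF 14 16 := rc_of_terms hF 14 16 (by norm_num) (by norm_num) (by decide +kernel) (by decide +kernel) (by decide +kernel)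
omit [Fintype K] in
theorem rc_14_15 : RC hF 14 15 := rc_of_terms hF 14 15 (by norm_num) (by norm_num) (by decide +kernel) (by decide +kernel) (by decide +kernel)
omit [Fintype K] in
theorem rc_14_10 : RC hF 14 10 := rc_of_terms hF 14 10 (by norm_num) (by norm_num) (by decide +kernel) (by decide +kernel) (by decide +kernel)
omit [Fintype K] in
theorem rc_14_11 : RC hF 14 11 := rc_of_terms hF 14 11 (by norm_num) (by norm_num) (by decide +kernel) (by decide +kernel) (by decide +kernel)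

omit [Fintype K] in
/-- the commutator of the classes of `p₁ + p₂` and `-p₁` -/
theorem comm_classes (t₁ t₂ t₃ u₁ u₂ u₃ : K) :
    ⁅(tri hF 5 10 11 u₁ u₂ u₃)⁻¹, (tri hF 19 16 15 t₁ (-t₂) (-t₃))⁻¹⁆ =
      xGL chevD4 hF.xadd 14 (-(t₁ * u₁ + t₂ * u₂ + t₃ * u₃)) := by
  unfold tri
  rw [comm33 _ _ _ _ _ _ _ _ _
    (comm_one hF 19 5 14 1 (by norm_num) (by norm_num) (by decide +kernel) (by decide +kernel) ct_19_5 t₁ u₁)
    (comm_one hF 16 10 14 (-1) (by norm_num) (by norm_num) (by decide +kernel) (by decide +kernel) ct_16_10 (-t₂) u₂)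
    (comm_one hF 15 11 14 (-1) (by norm_num) (by norm_num) (by decide +kernel) (by decide +kernel) ct_15_11 (-t₃) u₃)
    (rc_19_10 hF _ _) (rc_19_11 hF _ _) (rc_16_5 hF _ _) (rc_16_11 hF _ _) (rc_15_5 hF _ _)
    (rc_15_10 hF _ _) (rc_14_16 hF _ _) (rc_14_15 hF _ _) (rc_14_10 hF _ _) (rc_14_11 hF _ _)
    (rc_14_15 hF _ _) (rc_14_11 hF _ _)]
  rw [xGL_mul, xGL_mul]
  congr 1
  push_cast
  ring

end comm

/-! ### The main theorem -/

/-- `³D₄(q)` is generated by two elements -/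
theorem two_gen (hq : IsPrimePow q) (hK : Fintype.card K = q ^ 3) :
    ∃ a b : ↥(twistedD4 K q), Subgroup.closure ({a, b} : Set ↥(twistedD4 K q)) = ⊤ := by
  classical
  have hF : ChevFacts chevD4 K := hF4
  obtain ⟨k, hk0, hgen⟩ := exists_good_k hq hK
  have hgen' : ∀ v : K, v ≠ 0 → ∃ m : ℕ, v = (cc q k) ^ m := hgen
  have h2q := two_le_q hq
  -- `c ≠ 1`
  have hc1 : cc q k ≠ 1 := by
    intro h1
    have hcard : 2 < Fintype.card K := by
      rw [hK]
      calc 2 < 2 ^ 3 := by norm_num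
        _ ≤ q ^ 3 := Nat.pow_le_pow_left h2q 3
    obtain ⟨v, hv0, hv1⟩ : ∃ v : K, v ≠ 0 ∧ v ≠ 1 := by
      by_contra hcon
      push Not at hcon
      have hsub : (Finset.univ : Finset K) ⊆ {0, 1} := by
        intro v _
        by_cases hv : v = 0
        · simp [hv]
        · simp [hcon v hv]
      have := Finset.card_le_card hsub
      rw [Finset.card_univ] at this
      have h2 : ({0, 1} : Finset K).card ≤ 2 := Finset.card_le_two
      omega
    obtain ⟨m, hm⟩ := hgen' v hv0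
    rw [h1, one_pow] at hm
    exact hv1 hm
  have hc0 : cc q k ≠ 0 := cc_ne_zero k hk0
  have hc1' : (cc q k)⁻¹ ≠ 1 := by
    intro h
    exact hc1 (inv_eq_one.1 h)
  have ha : hT hF q k ∈ twistedD4 K q := hT_mem hq hK hF k
  have hb : yP hF q 1 * nw hF ∈ twistedD4 K q := mul_mem (yP_mem hF q 1) (nw_mem hq hK hF)
  refine ⟨⟨_, ha⟩, ⟨_, hb⟩, closure_subtype_eq_top' _ _ _ ha hb ?_⟩
  generalize hL : Subgroup.closure ({hT hF q k, yP hF q 1 * nw hF} : Set (GL chevD4.Idx K)) = L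
  have haL : hT hF q k ∈ L := by
    rw [← hL]
    exact Subgroup.subset_closure (Set.mem_insert _ _)
  have hbL : yP hF q 1 * nw hF ∈ L := by
    rw [← hL]
    exact Subgroup.subset_closure (Set.mem_insert_of_mem _ rfl)
  -- Steinberg's trick
  have h1 : yP hF q ((1 - cc q k) * (1 - (cc q k)⁻¹)) ∈ L :=
    steinberg_abs (yP hF q) (yP_add hq hK hF) (hT hF q k) (nw hF) (cc q k) ((cc q k)⁻¹)
      (hT_yP hK hF k hk0) (g_yP hK hF k hk0) (g_comm hF k hk0) L haL hbL
  have hne : (1 - cc q k) * (1 - (cc q k)⁻¹) ≠ 0 :=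
    mul_ne_zero (sub_ne_zero.2 (Ne.symm hc1)) (sub_ne_zero.2 (Ne.symm hc1'))
  have hP : ∀ t : K, yP hF q t ∈ L :=
    fill_abs (yP hF q) (yP_add hq hK hF) (hT hF q k) (cc q k) (hT_yP hK hF k hk0) hgen' L haL _ hne h1
  have hn : nw hF ∈ L := by
    have := mul_mem (inv_mem (hP 1)) hbL
    rwa [inv_mul_cancel_left] at this
  -- the other classes of the orbit
  have hneg1 : ((-1 : ℤ) : K) = -1 := by push_cast; ring
  have hone1 : ((1 : ℤ) : K) = 1 := by push_cast; ring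
  have hT1 : ∀ t₁ t₂ t₃ : K, tri hF 18 13 12 t₁ t₂ t₃ ∈ L → tri hF 4 7 8 (-t₁) t₂ t₃ ∈ L := by
    intro t₁ t₂ t₃ h
    have := conj_step hF L hn 18 13 12 4 7 8 (-1) 1 1 (by norm_num) (by norm_num) (by norm_num)
      (by decide +kernel) (by decide +kernel) (by decide +kernel) (by decide +kernel)
      (by decide +kernel) (by decide +kernel) t₁ t₂ t₃ h
    rwa [hneg1, hone1, neg_one_mul, one_mul, one_mul] at this
  have hT2 : ∀ t₁ t₂ t₃ : K, tri hF 4 7 8 t₁ t₂ t₃ ∈ L → tri hF 6 3 2 t₁ t₂ t₃ ∈ L := by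
    intro t₁ t₂ t₃ h
    have := conj_step hF L hn 4 7 8 6 3 2 1 1 1 (by norm_num) (by norm_num) (by norm_num)
      (by decide +kernel) (by decide +kernel) (by decide +kernel) (by decide +kernel)
      (by decide +kernel) (by decide +kernel) t₁ t₂ t₃ h
    rwa [hone1, one_mul, one_mul, one_mul] at this
  have hT3 : ∀ t₁ t₂ t₃ : K, tri hF 6 3 2 t₁ t₂ t₃ ∈ L → tri hF 5 10 11 t₁ (-t₂) (-t₃) ∈ L := by
    intro t₁ t₂ t₃ h
    have := conj_step hF L hn 6 3 2 5 10 11 1 (-1) (-1) (by norm_num) (by norm_num) (by norm_num)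
      (by decide +kernel) (by decide +kernel) (by decide +kernel) (by decide +kernel)
      (by decide +kernel) (by decide +kernel) t₁ t₂ t₃ h
    rwa [hneg1, hone1, neg_one_mul, neg_one_mul, one_mul] at this
  have hT4 : ∀ t₁ t₂ t₃ : K, tri hF 5 10 11 t₁ t₂ t₃ ∈ L → tri hF 19 16 15 (-t₁) t₂ t₃ ∈ L := by
    intro t₁ t₂ t₃ h
    have := conj_step hF L hn 5 10 11 19 16 15 (-1) 1 1 (by norm_num) (by norm_num) (by norm_num)
      (by decide +kernel) (by decide +kernel) (by decide +kernel) (by decide +kernel)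
      (by decide +kernel) (by decide +kernel) t₁ t₂ t₃ h
    rwa [hneg1, hone1, neg_one_mul, one_mul, one_mul] at this
  -- the negative class
  have hM' : ∀ t₁ t₂ t₃ : K, tri hF 18 13 12 t₁ t₂ t₃ ∈ L → tri hF 5 10 11 (-t₁) (-t₂) (-t₃) ∈ L :=
    fun t₁ t₂ t₃ h => hT3 _ _ _ (hT2 _ _ _ (hT1 _ _ _ h))
  have hM : ∀ t : K, yM hF q t ∈ L := by
    intro t
    have := hM' _ _ _ (hP (-t))
    rw [frob_neg hq hK, frob_neg_sq hq hK, neg_neg, neg_neg, neg_neg] at this
    exact this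
  -- the class of `p₁ + p₂`
  have hW : ∀ t : K, tri hF 19 16 15 t (-(t ^ q)) (-(t ^ (q ^ 2))) ∈ L := by
    intro t
    have := hT4 _ _ _ (hM' _ _ _ (hP t))
    rwa [neg_neg] at this
  -- the long root subgroup
  obtain ⟨t₀, ht₀⟩ := exists_trace_ne_zero hq hK (K := K)
  have hT₀ : (t₀ + t₀ ^ q + t₀ ^ (q ^ 2)) ^ q = t₀ + t₀ ^ q + t₀ ^ (q ^ 2) := by
    rw [frob_add hq hK, frob_add hq hK, frob_sq, frob_cube hK]
    ring
  have h14 : ∀ s : K, s ^ q = s → xGL chevD4 hF.xadd 14 s ∈ L := by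
    intro s hs
    set lam : K := -(s / (t₀ + t₀ ^ q + t₀ ^ (q ^ 2))) with hlam
    have hlamq : lam ^ q = lam := by
      rw [hlam, frob_neg hq hK, div_pow, hs, hT₀]
    have hlamq2 : lam ^ (q ^ 2) = lam := by
      rw [← frob_sq, hlamq, hlamq]
    have hc := comm_classes hF (lam * t₀) ((lam * t₀) ^ q) ((lam * t₀) ^ (q ^ 2)) 1 1 1
    have e : -(lam * t₀ * 1 + (lam * t₀) ^ q * 1 + (lam * t₀) ^ (q ^ 2) * 1) = s := by
      rw [mul_pow, mul_pow, hlamq, hlamq2, hlam]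
      field_simp
      ring
    rw [e] at hc
    rw [← hc]
    apply comm_mem L _ _ (inv_mem ?_) (inv_mem (hW (lam * t₀)))
    have := hM 1
    unfold yM at this
    rwa [one_pow, one_pow] at this
  have h9 : ∀ s : K, s ^ q = s → xGL chevD4 hF.xadd 9 s ∈ L := by
    intro s hs
    have hn' : nWordGL chevD4 hF.xadd [1, 0, 2, 3] ∈ L := hn
    obtain ⟨ε, hε, hmem⟩ := one_iter chevD4 hF L [1, 0, 2, 3] hw4 hn' 3 14
      (by rw [nroots_eq]; norm_num) s (h14 s hs)
    have e : iter chevD4 [1, 0, 2, 3] 3 14 = 9 := by decide +kernel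
    rw [e] at hmem
    rcases hε with rfl | rfl
    · rwa [one_mul] at hmem
    · have := inv_mem hmem
      rwa [xGL_inv, neg_one_mul, neg_neg] at this
  exact twisted_le hF q L h14 h9 hP hM

end Cfsg.Agent.Helper13.TD4
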