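import Mathlib
import Cfsg.Agent.Lib.Helper8.TIG5Defs

/-!
# S1786 Part G, step G5, piece TI-G5-3A: `Z(D) ≤ V A`
-/

set_option autoImplicit false

namespace Cfsg.Agent.Helper26.TI

variable {G : Type*} [Group G] {V A P PA U : Subgroup G}

/-- TI-G5-3A.  `Z(D) ≤ V A`. -/
theorem g5_centerD (h : G5Data V A P PA U) :
    ∀ x ∈ g5D A P, (∀ d ∈ g5D A P, x * d = d * x) → ∃ v ∈ V, ∃ a ∈ A, x = v * a := by
  intro x hxD hxc
  obtain ⟨hxP, hxA⟩ := mem_g5D.1 hxD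
  obtain ⟨u1, hu1, hu1ne⟩ := h.U_ne
  have hu1P : u1 ∈ P := h.U_le_P hu1
  have hv1 : cm x u1 ∈ V := h.comm_P x hxP u1 hu1P
  obtain ⟨a, ha, hav⟩ := h.phi_surj u1 hu1 hu1ne (cm x u1) hv1
  have hv1def : cm x u1 = x * u1 * x⁻¹ * u1⁻¹ := rfl
  have havdef : cm a u1 = a * u1 * a⁻¹ * u1⁻¹ := rfl
  generalize cm x u1 = v1 at hv1 hav hv1def
  have haP : a ∈ P := h.A_le_P ha
  have hx1P : x * a⁻¹ ∈ P := P.mul_mem hxP (P.inv_mem haP)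
  -- `v1` commutes with `a`
  have hva : v1 * a = a * v1 := h.VA_comm v1 hv1 a ha
  -- `a⁻¹ u1 a = v1⁻¹ u1`
  have h1 : a⁻¹ * u1 * a = v1⁻¹ * u1 := by
    have e1 : a * u1 * a⁻¹ = v1 * u1 := by
      rw [← hav, havdef]; group
    have e2 : u1 = a⁻¹ * (v1 * u1) * a := by rw [← e1]; group
    have e3 : a⁻¹ * v1 = v1 * a⁻¹ := by
      calc a⁻¹ * v1 = a⁻¹ * (v1 * a) * a⁻¹ := by group
        _ = a⁻¹ * (a * v1) * a⁻¹ := by rw [hva]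
        _ = v1 * a⁻¹ := by group
    calc a⁻¹ * u1 * a = v1⁻¹ * (v1 * a⁻¹) * u1 * a := by group
      _ = v1⁻¹ * (a⁻¹ * v1) * u1 * a := by rw [e3]
      _ = v1⁻¹ * (a⁻¹ * (v1 * u1) * a) := by group
      _ = v1⁻¹ * u1 := by rw [← e2]
  have hv1x : v1⁻¹ * x = x * v1⁻¹ := h.V_central v1⁻¹ (V.inv_mem hv1) x hxP
  -- `x1 = x a⁻¹` commutes with `u1`
  have h2 : (x * a⁻¹) * u1 = u1 * (x * a⁻¹) := by
    have e4 : x * u1 * x⁻¹ = v1 * u1 := by rw [hv1def]; group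
    have : (x * a⁻¹) * u1 * (x * a⁻¹)⁻¹ = u1 := by
      calc (x * a⁻¹) * u1 * (x * a⁻¹)⁻¹ = x * (a⁻¹ * u1 * a) * x⁻¹ := by group
        _ = x * (v1⁻¹ * u1) * x⁻¹ := by rw [h1]
        _ = (x * v1⁻¹) * u1 * x⁻¹ := by group
        _ = (v1⁻¹ * x) * u1 * x⁻¹ := by rw [hv1x]
        _ = v1⁻¹ * (x * u1 * x⁻¹) := by group
        _ = v1⁻¹ * (v1 * u1) := by rw [e4]
        _ = u1 := by group
    calc (x * a⁻¹) * u1 = ((x * a⁻¹) * u1 * (x * a⁻¹)⁻¹) * (x * a⁻¹) := by group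
      _ = u1 * (x * a⁻¹) := by rw [this]
  -- `x1` centralizes `U`
  have h3 : ∀ u' ∈ U, (x * a⁻¹) * u' = u' * (x * a⁻¹) := by
    intro u' hu'
    have hn := h.g0_U u1 hu1 hu1ne (x * a⁻¹) h2 u' hu'
    have hcU : cm (x * a⁻¹) u' ∈ U := U.mul_mem hn (U.inv_mem hu')
    have hcV : cm (x * a⁻¹) u' ∈ V := h.comm_P _ hx1P u' (h.U_le_P hu')
    have h1' : (x * a⁻¹) * u' * (x * a⁻¹)⁻¹ * u'⁻¹ = 1 := h.UV_inf _ hcU hcV
    calc (x * a⁻¹) * u' = ((x * a⁻¹) * u' * (x * a⁻¹)⁻¹ * u'⁻¹) * u' * (x * a⁻¹) := by group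
      _ = u' * (x * a⁻¹) := by rw [h1', one_mul]
  -- `x1` centralizes `D`
  have h4 : ∀ d ∈ P, (∀ a' ∈ A, d * a' = a' * d) → (x * a⁻¹) * d = d * (x * a⁻¹) := by
    intro d hdP hdA
    have hdD : d ∈ g5D A P := mem_g5D.2 ⟨hdP, fun a' ha' => (hdA a' ha').symm⟩
    have e5 : a⁻¹ * d = d * a⁻¹ := by
      calc a⁻¹ * d = a⁻¹ * (d * a) * a⁻¹ := by group
        _ = a⁻¹ * (a * d) * a⁻¹ := by rw [hdA a ha]
        _ = d * a⁻¹ := by group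
    calc (x * a⁻¹) * d = x * (a⁻¹ * d) := by group
      _ = x * (d * a⁻¹) := by rw [e5]
      _ = (x * d) * a⁻¹ := by group
      _ = (d * x) * a⁻¹ := by rw [hxc d hdD]
      _ = d * (x * a⁻¹) := by group
  -- `x1` is central in `P`
  have h5 : ∀ y ∈ P, (x * a⁻¹) * y = y * (x * a⁻¹) := by
    intro y hy
    obtain ⟨u, hu, d, hd, hdA, rfl⟩ := h.P_eq y hy
    calc (x * a⁻¹) * (u * d) = ((x * a⁻¹) * u) * d := by group
      _ = (u * (x * a⁻¹)) * d := by rw [h3 u hu]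
      _ = u * ((x * a⁻¹) * d) := by group
      _ = u * (d * (x * a⁻¹)) := by rw [h4 d hd hdA]
      _ = (u * d) * (x * a⁻¹) := by group
  have h6 : x * a⁻¹ ∈ V := h.center_P _ hx1P h5
  exact ⟨x * a⁻¹, h6, a, ha, by group⟩

end Cfsg.Agent.Helper26.TI
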