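import Mathlib
import Cfsg.Agent.Lib.Helper26.TIDefs2

/-!
# S1786, piece TI-UNIF (G4), cores: the statements of `Cfg.dich`, `Cfg1.surjA`, `Base.cent_le_norm`
are hypotheses.
-/

set_option autoImplicit false

namespace Cfsg.Agent.Helper26.TI

variable {G : Type*} [Group G]

section Unif
variable {V P A PA U : Subgroup G}

/-- conjugating a commutator by an element centralizing the second entry -/
theorem tiunif_conj_comm {y u a : G} (hya : y * a = a * y) :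
    (y * u * y⁻¹) * a * (y * u * y⁻¹)⁻¹ * a⁻¹ = y * (u * a * u⁻¹ * a⁻¹) * y⁻¹ := by
  have e1 : y⁻¹ * a * y = a := by
    rw [mul_assoc, ← hya, ← mul_assoc, inv_mul_cancel, one_mul]
  have e2 : y⁻¹ * a⁻¹ * y = a⁻¹ := by
    have := congrArg (·⁻¹) e1
    simp only [mul_inv_rev, inv_inv] at this
    rw [← mul_assoc] at this
    exact this
  calc (y * u * y⁻¹) * a * (y * u * y⁻¹)⁻¹ * a⁻¹
      = y * u * (y⁻¹ * a * y) * u⁻¹ * (y⁻¹ * a⁻¹ * y) * y⁻¹ := by group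
    _ = y * u * a * u⁻¹ * a⁻¹ * y⁻¹ := by rw [e1, e2]
    _ = y * (u * a * u⁻¹ * a⁻¹) * y⁻¹ := by group

/-- a 2-element normalizing `V ≠ 1` fixes some `v0 ≠ 1` of `V` -/
theorem tiunif_exists_fixed [Finite G] {V : Subgroup G} (hsq : ∀ v ∈ V, v * v = 1)
    (hne : ∃ v ∈ V, v ≠ 1) {y : G} (hy : ∃ k : ℕ, y ^ 2 ^ k = 1) (hn : cj y V = V) :
    ∃ v0 ∈ V, v0 ≠ 1 ∧ y * v0 * y⁻¹ = v0 := by
  classical
  haveI : Fact (Nat.Prime 2) := ⟨Nat.prime_two⟩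
  haveI : Fintype ↥V := Fintype.ofFinite _
  have hmem : ∀ (n : ℕ) (v : G), v ∈ V → y ^ n * v * (y ^ n)⁻¹ ∈ V := by
    intro n
    induction n with
    | zero => intro v hv; simpa using hv
    | succ n ih =>
      intro v hv
      have h1 : y * v * y⁻¹ ∈ V := by
        have := conj_mem_cj (x := y) hv
        rwa [hn] at this
      have := ih _ h1
      have e : y ^ (n + 1) * v * (y ^ (n + 1))⁻¹ = y ^ n * (y * v * y⁻¹) * (y ^ n)⁻¹ := by
        rw [pow_succ]; group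
      rw [e]; exact this
  have hmem' : ∀ v : G, v ∈ V → y⁻¹ * v * y ∈ V := by
    intro v hv
    have : v ∈ cj y V := by rw [hn]; exact hv
    exact mem_cj'.1 this
  let σ : Equiv.Perm ↥V :=
    { toFun := fun v => ⟨y * v * y⁻¹, by simpa using hmem 1 v v.2⟩
      invFun := fun v => ⟨y⁻¹ * v * y, hmem' v v.2⟩
      left_inv := fun v => by apply Subtype.ext; simp [mul_assoc]
      right_inv := fun v => by apply Subtype.ext; simp [mul_assoc] }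
  have hσ : ∀ (n : ℕ) (v : ↥V), ((σ ^ n) v : G) = y ^ n * v * (y ^ n)⁻¹ := by
    intro n
    induction n with
    | zero => intro v; simp
    | succ n ih =>
      intro v
      rw [pow_succ, Equiv.Perm.mul_apply, ih]
      show y ^ n * (y * v * y⁻¹) * (y ^ n)⁻¹ = _
      rw [pow_succ]; group
  obtain ⟨k, hk⟩ := hy
  have hσk : σ ^ 2 ^ k = 1 := by
    ext v
    rw [hσ, hk]
    simp
  obtain ⟨v1, hv1, hv1ne⟩ := hne
  have hdvd : 2 ∣ Fintype.card ↥V := by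
    have ho : orderOf (⟨v1, hv1⟩ : ↥V) = 2 := by
      apply orderOf_eq_prime
      · apply Subtype.ext
        rw [pow_two]
        exact hsq v1 hv1
      · intro h
        exact hv1ne (congrArg Subtype.val h)
    rw [← ho]
    exact orderOf_dvd_card
  have h1 : σ 1 = 1 := by
    apply Subtype.ext
    show y * (1 : G) * y⁻¹ = 1
    group
  obtain ⟨b, hb1, hb2⟩ := Equiv.Perm.exists_fixed_point_of_prime' hdvd hσk h1
  refine ⟨b, b.2, fun h => hb2 (Subtype.ext h), ?_⟩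
  exact congrArg Subtype.val hb1

/-- core of `Cfg1.unif_norm` -/
theorem tiunif_norm_core [Finite G] (h : Cfg1 V P A PA U)
    (hdich : ∀ {x a0 : G}, x ∈ P → a0 ∈ A → a0 ≠ 1 → x * a0 = a0 * x → ∀ a ∈ A, x * a = a * x)
    (hsurjA : ∀ {u v : G}, u ∈ U → u ≠ 1 → v ∈ V → ∃ a ∈ A, u * a * u⁻¹ * a⁻¹ = v)
    {y : G} (hy : y ∈ PA) (hn : cj y V = V) : ∀ v ∈ V, y * v = v * y := by
  -- `V` is not trivial
  have hVne : ∃ v ∈ V, v ≠ 1 := by
    by_contra hcon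
    push_neg at hcon
    have hVbot : V = ⊥ := by
      rw [eq_bot_iff]
      intro v hv
      rw [Subgroup.mem_bot]
      exact hcon v hv
    obtain ⟨g, hA, -⟩ := h.conj
    apply h.ne
    rw [hA, hVbot, cj_bot]
  -- a nontrivial element of `U`
  obtain ⟨u1, hu1, hu1ne⟩ : ∃ u ∈ U, u ≠ 1 := by
    obtain ⟨k, hU⟩ := h.conjU
    obtain ⟨v, hv, hvne⟩ := hVne
    refine ⟨k * v * k⁻¹, by rw [hU]; exact conj_mem_cj hv, fun h1 => hvne ?_⟩
    have : v = k⁻¹ * (k * v * k⁻¹) * k := by group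
    rw [this, h1]; group
  -- `y` is a 2-element
  have hy2 : ∃ k : ℕ, y ^ 2 ^ k = 1 := by
    obtain ⟨k, hk⟩ := h.locA.pgrp ⟨y, hy⟩
    exact ⟨k, by simpa using congrArg Subtype.val hk⟩
  obtain ⟨v0, hv0, hv0ne, hv0y⟩ := tiunif_exists_fixed h.loc.base.sq hVne hy2 hn
  obtain ⟨a0, ha0, ha0v⟩ := hsurjA hu1 hu1ne hv0
  have ha0ne : a0 ≠ 1 := by
    rintro rfl
    apply hv0ne
    rw [← ha0v]; group
  -- `y` centralizes `A`, normalizes `P`
  have hyA : ∀ a ∈ A, y * a = a * y := fun a ha => h.locA.cent y hy a ha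
  have hu1P : u1 ∈ P := h.U_le hu1
  have hu'P : y * u1 * y⁻¹ ∈ P := by
    have := conj_mem_cj (x := y) hu1P
    rwa [h.loc.norm y hn] at this
  -- `x = u1⁻¹ u'` commutes with `a0`
  have hxP : u1⁻¹ * (y * u1 * y⁻¹) ∈ P := P.mul_mem (P.inv_mem hu1P) hu'P
  have hxa0 : (u1⁻¹ * (y * u1 * y⁻¹)) * a0 = a0 * (u1⁻¹ * (y * u1 * y⁻¹)) := by
    have e := tiunif_conj_comm (u := u1) (hyA a0 ha0)
    rw [ha0v, hv0y, ← ha0v] at e
    -- e : u' a0 u'⁻¹ a0⁻¹ = u1 a0 u1⁻¹ a0⁻¹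
    have e' : (y * u1 * y⁻¹) * a0 * (y * u1 * y⁻¹)⁻¹ = u1 * a0 * u1⁻¹ := by
      have := congrArg (· * a0) e
      simpa [mul_assoc] using this
    calc (u1⁻¹ * (y * u1 * y⁻¹)) * a0
        = u1⁻¹ * ((y * u1 * y⁻¹) * a0 * (y * u1 * y⁻¹)⁻¹) * (y * u1 * y⁻¹) := by group
      _ = u1⁻¹ * (u1 * a0 * u1⁻¹) * (y * u1 * y⁻¹) := by rw [e']
      _ = a0 * (u1⁻¹ * (y * u1 * y⁻¹)) := by group
  have hxA := hdich hxP ha0 ha0ne hxa0
  -- conclusion
  intro v hv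
  obtain ⟨a, ha, hav⟩ := hsurjA hu1 hu1ne hv
  have e := tiunif_conj_comm (u := u1) (hyA a ha)
  rw [hav] at e
  -- `u' a u'⁻¹ = u1 a u1⁻¹`
  have e' : (y * u1 * y⁻¹) * a * (y * u1 * y⁻¹)⁻¹ = u1 * a * u1⁻¹ := by
    have hx := hxA a ha
    calc (y * u1 * y⁻¹) * a * (y * u1 * y⁻¹)⁻¹
        = u1 * ((u1⁻¹ * (y * u1 * y⁻¹)) * a) * (y * u1 * y⁻¹)⁻¹ := by group
      _ = u1 * (a * (u1⁻¹ * (y * u1 * y⁻¹))) * (y * u1 * y⁻¹)⁻¹ := by rw [hx]
      _ = u1 * a * u1⁻¹ := by group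
  rw [e', hav] at e
  -- e : v = y * v * y⁻¹
  calc y * v = (y * v * y⁻¹) * y := by group
    _ = v * y := by rw [← e]

/-- core of `Cfg1.unif` -/
theorem tiunif_core [Finite G] (h : Cfg1 V P A PA U)
    (hdich : ∀ {x a0 : G}, x ∈ P → a0 ∈ A → a0 ≠ 1 → x * a0 = a0 * x → ∀ a ∈ A, x * a = a * x)
    (hsurjA : ∀ {u v : G}, u ∈ U → u ≠ 1 → v ∈ V → ∃ a ∈ A, u * a * u⁻¹ * a⁻¹ = v)
    (hcent : ∀ {x b c : G}, b ∈ cj x V → b ≠ 1 → c * b = b * c → cj c (cj x V) = cj x V) :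
    ∀ y ∈ PA, ∀ v ∈ V, v ≠ 1 → y * v = v * y → ∀ v' ∈ V, y * v' = v' * y := by
  intro y hy v hv hvne hyv
  have hn : cj y V = V := by
    have := hcent (x := 1) (b := v) (c := y) (by rw [cj_one]; exact hv) hvne hyv
    rwa [cj_one] at this
  exact tiunif_norm_core h hdich hsurjA hy hn

end Unif

end Cfsg.Agent.Helper26.TI
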