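import Mathlib
import Cfsg.Agent.Lib.Helper26.TIDefs2
import Cfsg.Agent.Lib.Helper13.TIUNIFCore
import Cfsg.Agent.Lib.Helper22.TIPHI1
import Cfsg.Agent.Lib.Helper19.TILEMA
import Cfsg.Agent.Lib.Helper27.TIPHI2

/-!
# S1786, piece TI-UNIF (G4): `Cfg1.unif_norm`, `Cfg1.unif` (exact skeleton statements)
-/

set_option autoImplicit false

namespace Cfsg.Agent.Helper26.TI

variable {G : Type*} [Group G]

section Unif
variable {V P A PA U : Subgroup G}

theorem Cfg1.unif_norm [Finite G] (h : Cfg1 V P A PA U) {y : G} (hy : y ∈ PA) (hn : cj y V = V) :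
    ∀ v ∈ V, y * v = v * y :=
  tiunif_norm_core h (fun hx ha0 h1 hc => h.toCfg.dich hx ha0 h1 hc)
    (fun hu hu1 hv => h.surjA hu hu1 hv) hy hn

theorem Cfg1.unif [Finite G] (h : Cfg1 V P A PA U) :
    ∀ y ∈ PA, ∀ v ∈ V, v ≠ 1 → y * v = v * y → ∀ v' ∈ V, y * v' = v' * y :=
  tiunif_core h (fun hx ha0 h1 hc => h.toCfg.dich hx ha0 h1 hc)
    (fun hu hu1 hv => h.surjA hu hu1 hv)
    (fun hb hb1 hc => h.loc.base.cent_le_norm hb hb1 hc)

end Unif

end Cfsg.Agent.Helper26.TI
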