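import Mathlib
import Cfsg.Agent.Lib.Helper6.UniDefs

/-!
# S2314 (Steinberg's count), piece UNI-SYLCONJ (helper13)
-/

set_option autoImplicit false

namespace Cfsg.Agent.Helper6.Uni

variable {M : Type*} [Group M]

/-- PIECE UNI-SYLCONJ (pure Mathlib): Sylow conjugacy inside an overgroup of `U`. -/
theorem exists_conj_mem_of_isPE [Finite M] (p : ℕ) [Fact p.Prime] (L U : Subgroup M) (hUL : U ≤ L)
    (hU : IsPGroup p U) (hidx : ¬ p ∣ U.index) (g : M) (hg : g ∈ L) (hpe : IsPE p g) :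
    ∃ x ∈ L, x * g * x⁻¹ ∈ U := by
  -- `U.subgroupOf L` is a Sylow subgroup of `L`
  have hU' : IsPGroup p (U.subgroupOf L) := hU.comap_subtype
  have hidx' : ¬ p ∣ (U.subgroupOf L).index := by
    intro h
    apply hidx
    rw [← Subgroup.relIndex_mul_index hUL]
    exact Dvd.dvd.mul_right h _
  let S : Sylow p L := hU'.toSylow hidx'
  have hS : ∀ y : L, y ∈ S ↔ (y : M) ∈ U := fun y => Iff.rfl
  -- `zpowers g` is a `p`-group
  obtain ⟨k, hk⟩ := hpe
  let g' : L := ⟨g, hg⟩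
  have hg' : orderOf g' = p ^ k := by
    rw [← hk]
    exact Subgroup.orderOf_mk g hg
  have hz : IsPGroup p (Subgroup.zpowers g') := by
    apply IsPGroup.of_card (n := k)
    rw [Nat.card_zpowers, hg']
  obtain ⟨Q, hQ⟩ := hz.exists_le_sylow
  obtain ⟨x, hx⟩ := MulAction.exists_smul_eq L Q S
  refine ⟨(x : M), x.2, ?_⟩
  have h1 : g' ∈ Q := hQ (Subgroup.mem_zpowers g')
  have h2 : x * g' * x⁻¹ ∈ ((x • Q : Sylow p L) : Subgroup L) := by
    rw [Sylow.coe_subgroup_smul, Subgroup.mem_pointwise_smul_iff_inv_smul_mem]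
    show (MulAut.conj x)⁻¹ (x * g' * x⁻¹) ∈ (Q : Subgroup L)
    rw [MulAut.conj_inv_apply]
    have : x⁻¹ * (x * g' * x⁻¹) * x = g' := by group
    rw [this]
    exact h1
  rw [hx] at h2
  exact h2

end Cfsg.Agent.Helper6.Uni
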