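import Mathlib

set_option autoImplicit false
set_option linter.style.haveILetI false
set_option linter.unusedSectionVars false
set_option linter.unusedVariables false

/-!
# A Cayley transform valid in every characteristic
-/

namespace Cfsg.Agent.Helper13.Cay

open Matrix

variable {K : Type*} [Field K] {I : Type*} [Fintype I] [DecidableEq I]

theorem comm_inv (X Q : Matrix I I K) (hQ : IsUnit Q.det) (h : X * Q = Q * X) :
    X * Q⁻¹ = Q⁻¹ * X := by
  calc X * Q⁻¹ = Q⁻¹ * (Q * X) * Q⁻¹ := by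
        rw [← Matrix.mul_assoc, Matrix.nonsing_inv_mul Q hQ, Matrix.one_mul]
    _ = Q⁻¹ * (X * Q) * Q⁻¹ := by rw [h]
    _ = Q⁻¹ * X := by
        rw [Matrix.mul_assoc, Matrix.mul_assoc, Matrix.mul_nonsing_inv Q hQ, Matrix.mul_one]

variable (φ : K →+* K) (N : Matrix I I K) (b : K)

/-- numerator -/
def cayP : Matrix I I K := 1 + b • N

/-- denominator -/
def cayQ : Matrix I I K := 1 - φ b • N

/-- the transform `(1 + bN)(1 - φ(b)N)⁻¹` -/
noncomputable def cay : Matrix I I K := cayP N b * (cayQ φ N b)⁻¹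

theorem cayQ_isUnit_det (hN : IsNilpotent N) : IsUnit (cayQ φ N b).det := by
  have h1 : IsNilpotent (φ b • N) := by
    obtain ⟨k, hk⟩ := hN
    exact ⟨k, by rw [_root_.smul_pow, hk, smul_zero]⟩
  have h2 : IsUnit (1 - φ b • N) := h1.isUnit_one_sub
  exact (Matrix.isUnit_iff_isUnit_det _).1 h2

theorem comm_cayP (X : Matrix I I K) (h : X * N = N * X) : X * cayP N b = cayP N b * X := by
  unfold cayP
  rw [Matrix.mul_add, Matrix.add_mul, Matrix.mul_one, Matrix.one_mul, Matrix.mul_smul,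
    Matrix.smul_mul, h]

theorem comm_cayQ (X : Matrix I I K) (h : X * N = N * X) :
    X * cayQ φ N b = cayQ φ N b * X := by
  unfold cayQ
  rw [Matrix.mul_sub, Matrix.sub_mul, Matrix.mul_one, Matrix.one_mul, Matrix.mul_smul,
    Matrix.smul_mul, h]

theorem comm_cay (hN : IsNilpotent N) (X : Matrix I I K) (h : X * N = N * X) :
    X * cay φ N b = cay φ N b * X := by
  unfold cay
  rw [← Matrix.mul_assoc, comm_cayP N b X h, Matrix.mul_assoc,
    comm_inv X _ (cayQ_isUnit_det φ N b hN) (comm_cayQ φ N b X h), Matrix.mul_assoc]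

theorem cay_mul_cayQ (hN : IsNilpotent N) : cay φ N b * cayQ φ N b = cayP N b := by
  unfold cay
  rw [Matrix.mul_assoc, Matrix.nonsing_inv_mul _ (cayQ_isUnit_det φ N b hN), Matrix.mul_one]

theorem cayP_sub_cayQ (hb : b + φ b = 1) : cayP N b - cayQ φ N b = N := by
  unfold cayP cayQ
  have : (1 + b • N) - (1 - φ b • N) = (b + φ b) • N := by
    rw [add_smul]
    abel
  rw [this, hb, one_smul]

theorem cay_sub_one (hN : IsNilpotent N) (hb : b + φ b = 1) :
    cay φ N b - 1 = N * (cayQ φ N b)⁻¹ := by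
  have hQ := cayQ_isUnit_det φ N b hN
  have h1 : (1 : Matrix I I K) = cayQ φ N b * (cayQ φ N b)⁻¹ := (Matrix.mul_nonsing_inv _ hQ).symm
  unfold cay
  nth_rewrite 1 [h1]
  rw [← Matrix.sub_mul, cayP_sub_cayQ φ N b hb]

theorem N_comm_cayQ_inv (hN : IsNilpotent N) :
    N * (cayQ φ N b)⁻¹ = (cayQ φ N b)⁻¹ * N :=
  comm_inv N _ (cayQ_isUnit_det φ N b hN) (comm_cayQ φ N b N rfl)

theorem cay_sub_one_pow (hN : IsNilpotent N) (hb : b + φ b = 1) (m : ℕ) :
    (cay φ N b - 1) ^ m = N ^ m * ((cayQ φ N b)⁻¹) ^ m := by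
  rw [cay_sub_one φ N b hN hb]
  have hc : Commute N (cayQ φ N b)⁻¹ := N_comm_cayQ_inv φ N b hN
  exact hc.mul_pow m

theorem rank_cay_sub_one_pow (hN : IsNilpotent N) (hb : b + φ b = 1) (m : ℕ) :
    ((cay φ N b - 1) ^ m).rank = (N ^ m).rank := by
  rw [cay_sub_one_pow φ N b hN hb]
  apply Matrix.rank_mul_eq_left_of_isUnit_det
  rw [Matrix.det_pow]
  apply IsUnit.pow
  rw [Matrix.det_nonsing_inv]
  exact (cayQ_isUnit_det φ N b hN).ringInverse

theorem cay_sub_one_isNilpotent (hN : IsNilpotent N) (hb : b + φ b = 1) :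
    IsNilpotent (cay φ N b - 1) := by
  obtain ⟨k, hk⟩ := hN
  refine ⟨k, ?_⟩
  rw [cay_sub_one_pow φ N b ⟨k, hk⟩ hb, hk, Matrix.zero_mul]

theorem cay_pow_eq_one (p : ℕ) [Fact p.Prime] [CharP K p] (hN : IsNilpotent N)
    (hb : b + φ b = 1) : ∃ M : ℕ, 1 ≤ M ∧ cay φ N b ^ M = 1 := by
  by_cases hI : Nonempty I
  · obtain ⟨k, hk⟩ := cay_sub_one_isNilpotent φ N b hN hb
    refine ⟨p ^ k, Nat.one_le_pow _ _ (Fact.out : p.Prime).pos, ?_⟩
    haveI : CharP (Matrix I I K) p := Matrix.charP p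
    have h1 : cay φ N b = (cay φ N b - 1) + 1 := by abel
    rw [h1, add_pow_char_pow_of_commute p k (Commute.one_right _), one_pow]
    have hle : k ≤ p ^ k := (Nat.lt_pow_self (Fact.out : p.Prime).one_lt).le
    rw [← Nat.sub_add_cancel hle, pow_add, hk, mul_zero, zero_add]
  · rw [not_nonempty_iff] at hI
    exact ⟨1, le_refl 1, Subsingleton.elim _ _⟩

theorem phi_b_ne_zero (hφ2 : ∀ x, φ (φ x) = x) (hb : b + φ b = 1) : φ b ≠ 0 := by
  intro h
  have h1 : b = 0 := by rw [← hφ2 b, h, map_zero]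
  rw [h1, map_zero, add_zero] at hb
  exact zero_ne_one hb

/-- commuting with the transform is commuting with `N` -/
theorem comm_of_comm_cay (hφ2 : ∀ x, φ (φ x) = x) (hN : IsNilpotent N) (hb : b + φ b = 1)
    (X : Matrix I I K) (h : X * cay φ N b = cay φ N b * X) : X * N = N * X := by
  have hQ := cayQ_isUnit_det φ N b hN
  set Q := cayQ φ N b with hQdef
  set W : Matrix I I K := 1 + φ b • (cay φ N b - 1) with hW
  have hWQ : W * Q = 1 := by
    rw [hW, Matrix.add_mul, Matrix.one_mul, Matrix.smul_mul, cay_sub_one φ N b hN hb,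
      Matrix.mul_assoc, Matrix.nonsing_inv_mul _ hQ, Matrix.mul_one, hQdef]
    unfold cayQ
    abel
  have hWinv : W = Q⁻¹ := by
    calc W = W * (Q * Q⁻¹) := by rw [Matrix.mul_nonsing_inv _ hQ, Matrix.mul_one]
      _ = Q⁻¹ := by rw [← Matrix.mul_assoc, hWQ, Matrix.one_mul]
  have hXW : X * W = W * X := by
    rw [hW, Matrix.mul_add, Matrix.add_mul, Matrix.mul_one, Matrix.one_mul, Matrix.mul_smul,
      Matrix.smul_mul, Matrix.mul_sub, Matrix.sub_mul, h, Matrix.mul_one, Matrix.one_mul]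
  have hXQ : X * Q = Q * X := by
    rw [hWinv] at hXW
    calc X * Q = Q * (Q⁻¹ * X) * Q := by
          rw [← Matrix.mul_assoc, Matrix.mul_nonsing_inv _ hQ, Matrix.one_mul]
      _ = Q * (X * Q⁻¹) * Q := by rw [hXW]
      _ = Q * X := by
          rw [Matrix.mul_assoc, Matrix.mul_assoc, Matrix.nonsing_inv_mul _ hQ, Matrix.mul_one]
  have h3 : φ b • (X * N) = φ b • (N * X) := by
    have h4 : X * (1 - φ b • N) = (1 - φ b • N) * X := hXQ
    rw [Matrix.mul_sub, Matrix.sub_mul, Matrix.mul_one, Matrix.one_mul, Matrix.mul_smul,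
      Matrix.smul_mul] at h4
    exact sub_right_injective h4
  exact smul_right_injective _ (phi_b_ne_zero φ b hφ2 hb) h3

theorem comm_cay_iff (hφ2 : ∀ x, φ (φ x) = x) (hN : IsNilpotent N) (hb : b + φ b = 1)
    (X : Matrix I I K) : X * cay φ N b = cay φ N b * X ↔ X * N = N * X :=
  ⟨comm_of_comm_cay φ N b hφ2 hN hb X, comm_cay φ N b hN X⟩

/-- the key identity behind the transform -/
theorem cay_identity (hφ2 : ∀ x, φ (φ x) = x) (hNφ : N.map φ = N) (hb : b + φ b = 1)
    (H : Matrix I I K) :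
    (cayP N b)ᵀ * H * (cayP N b).map φ - (cayQ φ N b)ᵀ * H * (cayQ φ N b).map φ =
      Nᵀ * H + H * N := by
  have hP : (cayP N b).map φ = 1 + φ b • N := by
    unfold cayP
    ext i j
    simp only [Matrix.map_apply, Matrix.add_apply, Matrix.smul_apply, Matrix.one_apply,
      smul_eq_mul, map_add, map_mul]
    have := congrFun (congrFun hNφ i) j
    rw [Matrix.map_apply] at this
    rw [this]
    split_ifs <;> simp
  have hQm : (cayQ φ N b).map φ = 1 - b • N := by
    unfold cayQ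
    ext i j
    simp only [Matrix.map_apply, Matrix.sub_apply, Matrix.smul_apply, Matrix.one_apply,
      smul_eq_mul, map_sub, map_mul, hφ2]
    have := congrFun (congrFun hNφ i) j
    rw [Matrix.map_apply] at this
    rw [this]
    split_ifs <;> simp
  rw [hP, hQm]
  unfold cayP cayQ
  rw [Matrix.transpose_add, Matrix.transpose_sub, Matrix.transpose_one, Matrix.transpose_smul,
    Matrix.transpose_smul]
  have h1 : (1 + b • Nᵀ) * H * (1 + φ b • N) - (1 - φ b • Nᵀ) * H * (1 - b • N) =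
      (b + φ b) • (Nᵀ * H + H * N) := by
    simp only [Matrix.add_mul, Matrix.mul_add, Matrix.sub_mul, Matrix.mul_sub, Matrix.one_mul,
      Matrix.mul_one, Matrix.smul_mul, Matrix.mul_smul]
    module
  rw [h1, hb, one_smul]

/-- `N` is skew-adjoint for `H` iff the transform preserves `H` -/
theorem skew_iff_cay (hφ2 : ∀ x, φ (φ x) = x) (hN : IsNilpotent N) (hNφ : N.map φ = N)
    (hb : b + φ b = 1) (H : Matrix I I K) :
    Nᵀ * H = -(H * N) ↔ (cay φ N b)ᵀ * H * (cay φ N b).map φ = H := by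
  have hQ := cayQ_isUnit_det φ N b hN
  have hQt : IsUnit ((cayQ φ N b)ᵀ).det := by rw [Matrix.det_transpose]; exact hQ
  have hQm : IsUnit ((cayQ φ N b).map φ).det := by
    have : ((cayQ φ N b).map φ).det = φ (cayQ φ N b).det := (RingHom.map_det φ _).symm
    rw [this]
    exact hQ.map φ
  have hPQ : cayP N b = cay φ N b * cayQ φ N b := (cay_mul_cayQ φ N b hN).symm
  have h1 : (cayP N b)ᵀ * H * (cayP N b).map φ =
      (cayQ φ N b)ᵀ * ((cay φ N b)ᵀ * H * (cay φ N b).map φ) * (cayQ φ N b).map φ := by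
    rw [hPQ, Matrix.transpose_mul, Matrix.map_mul]
    simp only [Matrix.mul_assoc]
  have hid := cay_identity φ N b hφ2 hNφ hb H
  constructor
  · intro h
    have h2 : Nᵀ * H + H * N = 0 := by rw [h, neg_add_cancel]
    rw [h2, sub_eq_zero, h1] at hid
    -- cancel the invertible factors
    have h3 : (cayQ φ N b)ᵀ⁻¹ * ((cayQ φ N b)ᵀ *
        ((cay φ N b)ᵀ * H * (cay φ N b).map φ) * (cayQ φ N b).map φ) *
        ((cayQ φ N b).map φ)⁻¹ = (cayQ φ N b)ᵀ⁻¹ * ((cayQ φ N b)ᵀ * H * (cayQ φ N b).map φ) *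
        ((cayQ φ N b).map φ)⁻¹ := by rw [hid]
    have e : ∀ Y : Matrix I I K, (cayQ φ N b)ᵀ⁻¹ * ((cayQ φ N b)ᵀ * Y * (cayQ φ N b).map φ) *
        ((cayQ φ N b).map φ)⁻¹ = Y := by
      intro Y
      calc (cayQ φ N b)ᵀ⁻¹ * ((cayQ φ N b)ᵀ * Y * (cayQ φ N b).map φ) * ((cayQ φ N b).map φ)⁻¹
          = ((cayQ φ N b)ᵀ⁻¹ * (cayQ φ N b)ᵀ) * Y *
              ((cayQ φ N b).map φ * ((cayQ φ N b).map φ)⁻¹) := by
            simp only [Matrix.mul_assoc]
        _ = Y := by
            rw [Matrix.nonsing_inv_mul _ hQt, Matrix.mul_nonsing_inv _ hQm, Matrix.one_mul,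
              Matrix.mul_one]
    rw [e, e] at h3
    exact h3
  · intro h
    rw [h1, h, sub_self] at hid
    exact eq_neg_of_add_eq_zero_left hid.symm

end Cfsg.Agent.Helper13.Cay
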