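import Mathlib
import Cfsg.Agent.Lib.Helper13.WallUnitary

set_option autoImplicit false
set_option linter.style.haveILetI false
set_option linter.unusedSectionVars false
set_option linter.unusedVariables false

/-!
# Hermitian matrices invariant under a matrix of finite order: transitivity and counting
-/

namespace Cfsg.Agent.Helper13.UCF

open Matrix Cfsg.Agent.Helper13.Uni Cfsg.Agent.Helper13.Wall Cfsg.Agent.Helper11.Herm

universe u v

section form
variable {K : Type*} [Field K] {I : Type*} [Fintype I] [DecidableEq I]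

/-- the sesquilinear form of a matrix -/
def sform (φ : K →+* K) (H : Matrix I I K) (x y : I → K) : K := x ⬝ᵥ (H *ᵥ (φ ∘ y))

theorem sform_single (φ : K →+* K) (H : Matrix I I K) (a b : I) :
    sform φ H (Pi.single a 1) (Pi.single b 1) = H a b := by
  unfold sform
  have h2 : φ ∘ (Pi.single b (1 : K)) = Pi.single b 1 := by
    funext k
    by_cases hk : k = b
    · subst hk; simp
    · simp [Pi.single_eq_of_ne hk]
  rw [h2, Matrix.mulVec_single_one, single_one_dotProduct]
  rfl

theorem map_mulVec' (φ : K →+* K) (X : Matrix I I K) (y : I → K) :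
    φ ∘ (X *ᵥ y) = X.map φ *ᵥ (φ ∘ y) := by
  funext i
  exact RingHom.map_mulVec φ X y i

theorem sform_mulVec (φ : K →+* K) (H X : Matrix I I K) (x y : I → K) :
    sform φ H (X *ᵥ x) (X *ᵥ y) = sform φ (Xᵀ * H * X.map φ) x y := by
  unfold sform
  rw [map_mulVec', ← Matrix.vecMul_transpose, Matrix.dotProduct_mulVec, Matrix.vecMul_vecMul,
    ← Matrix.dotProduct_mulVec, Matrix.mulVec_mulVec]

theorem eq_of_sform_eq (φ : K →+* K) (H H' : Matrix I I K)
    (h : ∀ x y, sform φ H x y = sform φ H' x y) : H = H' := by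
  ext a b
  rw [← sform_single φ H, ← sform_single φ H', h]

end form

section transitive
variable {K : Type u} [Field K] [Fintype K] {q : ℕ} {I : Type v} [Fintype I] [DecidableEq I]

/-- two invertible hermitian matrices invariant under a matrix of finite order are equivalent
under its centraliser -/
theorem exists_commuting_equiv (hK : Fintype.card K = q ^ 2) (φ : K →+* K)
    (hφ : ∀ x, φ x = x ^ q) (g : Matrix I I K) (M : ℕ) (hM : 1 ≤ M) (hgM : g ^ M = 1)
    (H H' : Matrix I I K) (hH : Hᵀ = H.map φ) (hH' : H'ᵀ = H'.map φ)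
    (hHd : IsUnit H.det) (hHd' : IsUnit H'.det)
    (hHg : gᵀ * H * g.map φ = H) (hHg' : gᵀ * H' * g.map φ = H') :
    ∃ Z : Matrix I I K, IsUnit Z.det ∧ Z * g = g * Z ∧ Zᵀ * H * Z.map φ = H' := by
  classical
  obtain ⟨p, hp⟩ := CharP.exists K
  haveI : Fact p.Prime := ⟨CharP.char_is_prime K p⟩
  letI := ZMod.algebra K p
  obtain ⟨σ, hσ, hσ2, hσ1⟩ := exists_frobAlg hK p
  haveI : FiniteDimensional (ZMod p) K := Module.Finite.of_finite
  obtain ⟨tr, htr, htrσ⟩ := exists_tr σ hσ2 hσ1
  have hσφ : ∀ x, σ x = φ x := fun x => by rw [hσ, hφ]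
  have key : ∀ (H : Matrix I I K), Hᵀ = H.map φ → IsUnit H.det → gᵀ * H * g.map φ = H →
      IsSesq σ (sform φ H) ∧ ∀ x y, sform φ H (Matrix.toLin' g x) (Matrix.toLin' g y) =
        sform φ H x y := by
    intro H hH hHd hHg
    refine ⟨⟨?_, ?_, ?_, ?_⟩, ?_⟩
    · intro x x' y
      unfold sform
      rw [add_dotProduct]
    · intro c x y
      unfold sform
      rw [smul_dotProduct, smul_eq_mul]
    · intro x y
      unfold sform
      rw [hσφ]
      simp only [dotProduct, Matrix.mulVec, Function.comp, map_sum, map_mul, Finset.mul_sum]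
      rw [Finset.sum_comm]
      apply Finset.sum_congr rfl
      intro a _
      apply Finset.sum_congr rfl
      intro b _
      have h1 : φ (H a b) = H b a := by
        have := congrFun (congrFun hH a) b
        rw [Matrix.transpose_apply, Matrix.map_apply] at this
        exact this.symm
      have h2 : φ (φ (y b)) = y b := by
        rw [hφ, hφ, pow_q_pow_q hK]
      rw [h1, h2]
      ring
    · intro x hx
      have h1 : Matrix.vecMul x H = 0 := by
        funext b
        have := hx (Pi.single b 1)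
        unfold sform at this
        have h2 : φ ∘ (Pi.single b (1 : K)) = Pi.single b 1 := by
          funext k
          by_cases hk : k = b
          · subst hk; simp
          · simp [Pi.single_eq_of_ne hk]
        rw [h2, Matrix.dotProduct_mulVec, dotProduct_single_one] at this
        exact this
      have h3 : Matrix.vecMul (Matrix.vecMul x H) H⁻¹ = 0 := by rw [h1, Matrix.zero_vecMul]
      rw [Matrix.vecMul_vecMul, Matrix.mul_nonsing_inv H hHd, Matrix.vecMul_one] at h3
      exact h3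
    · intro x y
      rw [Matrix.toLin'_apply, Matrix.toLin'_apply, sform_mulVec, hHg]
  obtain ⟨hS, hinv⟩ := key H hH hHd hHg
  obtain ⟨hS', hinv'⟩ := key H' hH' hHd' hHg'
  have hAM : (Matrix.toLin' g : Module.End K (I → K)) ^ M = 1 := by
    rw [← Matrix.toLin'_pow, hgM, Matrix.toLin'_one]
    rfl
  obtain ⟨Z, hZc, hZ⟩ := exists_commuting_isometry_sesq_W hσ2 hσ1 tr htr htrσ M hM
    (Matrix.toLin' g) hAM (sform φ H) (sform φ H') hS hS' hinv hinv'
  set Zm : Matrix I I K := LinearMap.toMatrix' (Z : (I → K) →ₗ[K] (I → K)) with hZm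
  have hZmv : ∀ x, Zm *ᵥ x = Z x := by
    intro x
    rw [hZm, LinearMap.toMatrix'_mulVec]
    rfl
  refine ⟨Zm, ?_, ?_, ?_⟩
  · have h1 : Zm * LinearMap.toMatrix' (Z.symm : (I → K) →ₗ[K] (I → K)) = 1 := by
      rw [hZm, ← LinearMap.toMatrix'_comp]
      have : (Z : (I → K) →ₗ[K] (I → K)) ∘ₗ (Z.symm : (I → K) →ₗ[K] (I → K)) = LinearMap.id := by
        ext x
        simp
      rw [this, LinearMap.toMatrix'_id]
    exact IsUnit.of_mul_eq_one _ (by rw [← Matrix.det_mul, h1, Matrix.det_one])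
  · apply Matrix.toLin'.injective
    apply LinearMap.ext
    intro x
    rw [Matrix.toLin'_mul, Matrix.toLin'_mul, LinearMap.comp_apply, LinearMap.comp_apply,
      Matrix.toLin'_apply Zm, Matrix.toLin'_apply Zm, hZmv, hZmv, hZc]
  · apply eq_of_sform_eq φ
    intro x y
    rw [← sform_mulVec, hZmv, hZmv, hZ]

end transitive

section counting

/-- counting a group by the fibres of a map whose fibres are the left cosets of a subgroup -/
theorem card_eq_of_fibers {G Y : Type*} [Group G] (S : Subgroup G) (f : G → Y)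
    (hf : Function.Surjective f) (h : ∀ g g', f g = f g' ↔ g⁻¹ * g' ∈ S) :
    Nat.card G = Nat.card Y * Nat.card S := by
  rw [Subgroup.card_eq_card_quotient_mul_card_subgroup S]
  congr 1
  apply Nat.card_eq_of_bijective
    (Quotient.lift f (fun a b hab => (h a b).2 (QuotientGroup.leftRel_apply.1 hab)))
  constructor
  · intro x y
    induction x using Quotient.inductionOn with
    | _ a =>
      induction y using Quotient.inductionOn with
      | _ b =>
        intro hab
        apply Quotient.sound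
        exact QuotientGroup.leftRel_apply.2 ((h a b).1 hab)
  · intro y
    obtain ⟨g, rfl⟩ := hf y
    exact ⟨Quotient.mk _ g, rfl⟩

/-- the fixed points of a semilinear involution -/
theorem card_fixed_sq {K W : Type*} [Field K] [AddCommGroup W] [Module K W] [Finite W]
    (φ : K →+* K) (Θ : W →+ W) (hΘ2 : ∀ w, Θ (Θ w) = w)
    (hΘs : ∀ (a : K) (w : W), Θ (a • w) = φ a • Θ w)
    (b ω : K) (hb : b + φ b = 1) (hω : φ ω = -ω) (hω0 : ω ≠ 0) :
    Nat.card W = Nat.card {w : W // Θ w = w} ^ 2 := by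
  set ψ : W →+ W := AddMonoidHom.id W + Θ with hψ
  have hψa : ∀ w, ψ w = w + Θ w := fun w => rfl
  have h1 := AddSubgroup.card_mul_index ψ.ker
  rw [AddSubgroup.index_ker] at h1
  have hrange : Nat.card ψ.range = Nat.card {w : W // Θ w = w} := by
    apply Nat.card_congr
    apply Equiv.subtypeEquivRight
    intro w
    constructor
    · rintro ⟨x, rfl⟩
      rw [hψa, map_add, hΘ2, add_comm]
    · intro hw
      refine ⟨b • w, ?_⟩
      rw [hψa, hΘs, hw, ← add_smul, hb, one_smul]
  have hker : Nat.card ψ.ker = Nat.card {w : W // Θ w = w} := by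
    symm
    apply Nat.card_eq_of_bijective
      (fun x : {w : W // Θ w = w} => (⟨ω • x.1, by
        rw [AddMonoidHom.mem_ker, hψa, hΘs, x.2, hω, neg_smul, add_neg_cancel]⟩ : ψ.ker))
    constructor
    · intro x y hxy
      have h2 : ω • x.1 = ω • y.1 := congrArg Subtype.val hxy
      apply Subtype.ext
      exact smul_right_injective W hω0 h2
    · rintro ⟨w, hw⟩
      rw [AddMonoidHom.mem_ker, hψa] at hw
      have hw' : Θ w = -w := by
        rw [add_comm] at hw
        exact eq_neg_of_add_eq_zero_left hw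
      refine ⟨⟨ω⁻¹ • w, ?_⟩, ?_⟩
      · rw [hΘs, map_inv₀, hω, hw', smul_neg, inv_neg, neg_smul, neg_neg]
      · apply Subtype.ext
        show ω • ω⁻¹ • w = w
        rw [smul_smul, mul_inv_cancel₀ hω0, one_smul]
  rw [← h1, hrange, hker, sq]

end counting

section orbit
variable {K : Type u} [Field K] [Fintype K] {q : ℕ} {I : Type v} [Fintype I] [DecidableEq I]

/-- the centraliser of a matrix in the general linear group -/
def cent (g : Matrix I I K) : Subgroup (GL I K) where
  carrier := {x | (x : Matrix I I K) * g = g * (x : Matrix I I K)}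
  mul_mem' {a b} ha hb := by
    show ((a * b : GL I K) : Matrix I I K) * g = g * ((a * b : GL I K) : Matrix I I K)
    rw [Units.val_mul, Matrix.mul_assoc, hb, ← Matrix.mul_assoc, ha, Matrix.mul_assoc]
  one_mem' := by
    show ((1 : GL I K) : Matrix I I K) * g = g * ((1 : GL I K) : Matrix I I K)
    rw [Units.val_one, Matrix.one_mul, Matrix.mul_one]
  inv_mem' {a} ha := by
    show ((a⁻¹ : GL I K) : Matrix I I K) * g = g * ((a⁻¹ : GL I K) : Matrix I I K)
    have h1 : ((a⁻¹ : GL I K) : Matrix I I K) * (a : Matrix I I K) = 1 := by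
      rw [← Units.val_mul, inv_mul_cancel, Units.val_one]
    have h2 : (a : Matrix I I K) * ((a⁻¹ : GL I K) : Matrix I I K) = 1 := by
      rw [← Units.val_mul, mul_inv_cancel, Units.val_one]
    calc ((a⁻¹ : GL I K) : Matrix I I K) * g
        = ((a⁻¹ : GL I K) : Matrix I I K) * (g * (a : Matrix I I K)) *
            ((a⁻¹ : GL I K) : Matrix I I K) := by
          rw [Matrix.mul_assoc, Matrix.mul_assoc, h2, Matrix.mul_one]
      _ = ((a⁻¹ : GL I K) : Matrix I I K) * ((a : Matrix I I K) * g) *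
            ((a⁻¹ : GL I K) : Matrix I I K) := by rw [ha]
      _ = g * ((a⁻¹ : GL I K) : Matrix I I K) := by
          rw [← Matrix.mul_assoc, h1, Matrix.one_mul]

theorem mem_cent (g : Matrix I I K) (x : GL I K) :
    x ∈ cent g ↔ (x : Matrix I I K) * g = g * (x : Matrix I I K) := Iff.rfl

/-- the isometries of a form commuting with a matrix -/
def isoS (φ : K →+* K) (H g : Matrix I I K) : Subgroup (GL I K) where
  carrier := {x | (x : Matrix I I K) * g = g * (x : Matrix I I K) ∧
    (x : Matrix I I K)ᵀ * H * (x : Matrix I I K).map φ = H}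
  mul_mem' {a b} ha hb := by
    refine ⟨(cent g).mul_mem ha.1 hb.1, ?_⟩
    show ((a * b : GL I K) : Matrix I I K)ᵀ * H * ((a * b : GL I K) : Matrix I I K).map φ = H
    rw [Units.val_mul, Matrix.transpose_mul, Matrix.map_mul]
    calc (b : Matrix I I K)ᵀ * (a : Matrix I I K)ᵀ * H *
          ((a : Matrix I I K).map φ * (b : Matrix I I K).map φ)
        = (b : Matrix I I K)ᵀ * ((a : Matrix I I K)ᵀ * H * (a : Matrix I I K).map φ) *
            (b : Matrix I I K).map φ := by
          simp only [Matrix.mul_assoc]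
      _ = H := by rw [ha.2, hb.2]
  one_mem' := by
    refine ⟨(cent g).one_mem, ?_⟩
    show ((1 : GL I K) : Matrix I I K)ᵀ * H * ((1 : GL I K) : Matrix I I K).map φ = H
    rw [Units.val_one, Matrix.transpose_one, Matrix.map_one _ (map_zero φ) (map_one φ),
      Matrix.one_mul, Matrix.mul_one]
  inv_mem' {a} ha := by
    refine ⟨(cent g).inv_mem ha.1, ?_⟩
    show ((a⁻¹ : GL I K) : Matrix I I K)ᵀ * H * ((a⁻¹ : GL I K) : Matrix I I K).map φ = H
    have h1 : ((a⁻¹ : GL I K) : Matrix I I K)ᵀ * (a : Matrix I I K)ᵀ = 1 := by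
      rw [← Matrix.transpose_mul, ← Units.val_mul, mul_inv_cancel, Units.val_one,
        Matrix.transpose_one]
    have h2 : (a : Matrix I I K).map φ * ((a⁻¹ : GL I K) : Matrix I I K).map φ = 1 := by
      rw [← Matrix.map_mul, ← Units.val_mul, mul_inv_cancel, Units.val_one,
        Matrix.map_one _ (map_zero φ) (map_one φ)]
    calc ((a⁻¹ : GL I K) : Matrix I I K)ᵀ * H * ((a⁻¹ : GL I K) : Matrix I I K).map φ
        = ((a⁻¹ : GL I K) : Matrix I I K)ᵀ *
            ((a : Matrix I I K)ᵀ * H * (a : Matrix I I K).map φ) *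
            ((a⁻¹ : GL I K) : Matrix I I K).map φ := by rw [ha.2]
      _ = (((a⁻¹ : GL I K) : Matrix I I K)ᵀ * (a : Matrix I I K)ᵀ) * H *
            ((a : Matrix I I K).map φ * ((a⁻¹ : GL I K) : Matrix I I K).map φ) := by
          simp only [Matrix.mul_assoc]
      _ = H := by rw [h1, h2, Matrix.one_mul, Matrix.mul_one]

theorem mem_isoS (φ : K →+* K) (H g : Matrix I I K) (x : GL I K) :
    x ∈ isoS φ H g ↔ (x : Matrix I I K) * g = g * (x : Matrix I I K) ∧
      (x : Matrix I I K)ᵀ * H * (x : Matrix I I K).map φ = H := Iff.rfl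

theorem isoS_le_cent (φ : K →+* K) (H g : Matrix I I K) : isoS φ H g ≤ cent g :=
  fun _ hx => hx.1

/-- the invertible hermitian matrices invariant under `g` -/
def Forms (φ : K →+* K) (g : Matrix I I K) : Type _ :=
  {H : Matrix I I K // Hᵀ = H.map φ ∧ IsUnit H.det ∧ gᵀ * H * g.map φ = H}

/-- orbit-stabiliser for the action of the centraliser on the invariant hermitian forms -/
theorem card_cent (hK : Fintype.card K = q ^ 2) (φ : K →+* K)
    (hφ : ∀ x, φ x = x ^ q) (g : Matrix I I K) (M : ℕ) (hM : 1 ≤ M) (hgM : g ^ M = 1)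
    (H₀ : Matrix I I K) (hH₀ : H₀ᵀ = H₀.map φ) (hH₀d : IsUnit H₀.det)
    (hH₀g : gᵀ * H₀ * g.map φ = H₀) :
    Nat.card (cent g) = Nat.card (Forms φ g) * Nat.card (isoS φ H₀ g) := by
  classical
  have hφ2 : ∀ x, φ (φ x) = x := frob_frob hK φ hφ
  -- the action
  have hact : ∀ x : GL I K, x ∈ cent g → ∀ H : Matrix I I K, Hᵀ = H.map φ → IsUnit H.det →
      gᵀ * H * g.map φ = H →
      ((x : Matrix I I K)ᵀ * H * (x : Matrix I I K).map φ)ᵀ =
        ((x : Matrix I I K)ᵀ * H * (x : Matrix I I K).map φ).map φ ∧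
      IsUnit ((x : Matrix I I K)ᵀ * H * (x : Matrix I I K).map φ).det ∧
      gᵀ * ((x : Matrix I I K)ᵀ * H * (x : Matrix I I K).map φ) * g.map φ =
        (x : Matrix I I K)ᵀ * H * (x : Matrix I I K).map φ := by
    intro x hx H hH hHd hHg
    refine ⟨?_, ?_, ?_⟩
    · rw [Matrix.transpose_mul, Matrix.transpose_mul, Matrix.transpose_transpose, hH,
        Matrix.map_mul, Matrix.map_mul, Matrix.transpose_map]
      have : ((x : Matrix I I K).map φ).map φ = (x : Matrix I I K) := by
        ext i j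
        simp [hφ2]
      rw [this, Matrix.mul_assoc]
    · rw [Matrix.det_mul, Matrix.det_mul, Matrix.det_transpose]
      apply IsUnit.mul (IsUnit.mul (Matrix.isUnits_det_units x) hHd)
      have : ((x : Matrix I I K).map φ).det = φ (x : Matrix I I K).det :=
        (RingHom.map_det φ _).symm
      rw [this]
      exact (Matrix.isUnits_det_units x).map φ
    · have h1 : gᵀ * (x : Matrix I I K)ᵀ = (x : Matrix I I K)ᵀ * gᵀ := by
        rw [← Matrix.transpose_mul, ← Matrix.transpose_mul, hx]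
      have h2 : (x : Matrix I I K).map φ * g.map φ = g.map φ * (x : Matrix I I K).map φ := by
        rw [← Matrix.map_mul, ← Matrix.map_mul, hx]
      calc gᵀ * ((x : Matrix I I K)ᵀ * H * (x : Matrix I I K).map φ) * g.map φ
          = (gᵀ * (x : Matrix I I K)ᵀ) * H * ((x : Matrix I I K).map φ * g.map φ) := by
            simp only [Matrix.mul_assoc]
        _ = (x : Matrix I I K)ᵀ * (gᵀ * H * g.map φ) * (x : Matrix I I K).map φ := by
            rw [h1, h2]
            simp only [Matrix.mul_assoc]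
        _ = _ := by rw [hHg]
  set f : ↥(cent g) → Forms φ g := fun x =>
    ⟨((x⁻¹ : ↥(cent g)) : GL I K).1ᵀ * H₀ * (((x⁻¹ : ↥(cent g)) : GL I K).1).map φ,
      hact _ (x⁻¹).2 H₀ hH₀ hH₀d hH₀g⟩ with hf
  have hcard : Nat.card ((isoS φ H₀ g).subgroupOf (cent g)) = Nat.card (isoS φ H₀ g) :=
    Nat.card_congr (Subgroup.subgroupOfEquivOfLe (isoS_le_cent φ H₀ g)).toEquiv
  rw [← hcard]
  apply card_eq_of_fibers _ f
  · rintro ⟨H, hH, hHd, hHg⟩
    obtain ⟨Z, hZd, hZg, hZ⟩ := exists_commuting_equiv hK φ hφ g M hM hgM H₀ H hH₀ hH hH₀d hHd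
      hH₀g hHg
    set z : GL I K := Matrix.nonsingInvUnit Z hZd with hz
    have hzc : z ∈ cent g := hZg
    refine ⟨(⟨z, hzc⟩ : ↥(cent g))⁻¹, ?_⟩
    apply Subtype.ext
    show (((⟨z, hzc⟩ : ↥(cent g))⁻¹⁻¹ : ↥(cent g)) : GL I K).1ᵀ * H₀ *
      ((((⟨z, hzc⟩ : ↥(cent g))⁻¹⁻¹ : ↥(cent g)) : GL I K).1).map φ = H
    rw [inv_inv]
    exact hZ
  · intro x y
    have hx1 : ((x : GL I K) : Matrix I I K) * (((x⁻¹ : ↥(cent g)) : GL I K) : Matrix I I K) = 1 := by
      rw [Subgroup.coe_inv, ← Units.val_mul, mul_inv_cancel, Units.val_one]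
    have hx2 : (((x⁻¹ : ↥(cent g)) : GL I K) : Matrix I I K) * ((x : GL I K) : Matrix I I K) = 1 := by
      rw [Subgroup.coe_inv, ← Units.val_mul, inv_mul_cancel, Units.val_one]
    have hy1 : ((y : GL I K) : Matrix I I K) * (((y⁻¹ : ↥(cent g)) : GL I K) : Matrix I I K) = 1 := by
      rw [Subgroup.coe_inv, ← Units.val_mul, mul_inv_cancel, Units.val_one]
    have hy2 : (((y⁻¹ : ↥(cent g)) : GL I K) : Matrix I I K) * ((y : GL I K) : Matrix I I K) = 1 := by
      rw [Subgroup.coe_inv, ← Units.val_mul, inv_mul_cancel, Units.val_one]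
    set X : Matrix I I K := ((x : GL I K) : Matrix I I K) with hX
    set Xi : Matrix I I K := (((x⁻¹ : ↥(cent g)) : GL I K) : Matrix I I K) with hXi
    set Y : Matrix I I K := ((y : GL I K) : Matrix I I K) with hY
    set Yi : Matrix I I K := (((y⁻¹ : ↥(cent g)) : GL I K) : Matrix I I K) with hYi
    have hmem : x⁻¹ * y ∈ (isoS φ H₀ g).subgroupOf (cent g) ↔
        (Xi * Y)ᵀ * H₀ * (Xi * Y).map φ = H₀ := by
      rw [Subgroup.mem_subgroupOf, mem_isoS]
      constructor
      · intro h
        have := h.2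
        rw [Subgroup.coe_mul, Units.val_mul] at this
        exact this
      · intro h
        refine ⟨(x⁻¹ * y).2, ?_⟩
        rw [Subgroup.coe_mul, Units.val_mul]
        exact h
    rw [hmem]
    have hfx : (f x).1 = Xiᵀ * H₀ * Xi.map φ := rfl
    have hfy : (f y).1 = Yiᵀ * H₀ * Yi.map φ := rfl
    have hXt : Xᵀ * Xiᵀ = 1 := by rw [← Matrix.transpose_mul, hx2, Matrix.transpose_one]
    have hYt : Yᵀ * Yiᵀ = 1 := by rw [← Matrix.transpose_mul, hy2, Matrix.transpose_one]
    have hYm : Yi.map φ * Y.map φ = 1 := by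
      rw [← Matrix.map_mul, hy2, Matrix.map_one _ (map_zero φ) (map_one φ)]
    have hYit : Yiᵀ * Yᵀ = 1 := by rw [← Matrix.transpose_mul, hy1, Matrix.transpose_one]
    have hYm' : Y.map φ * Yi.map φ = 1 := by
      rw [← Matrix.map_mul, hy1, Matrix.map_one _ (map_zero φ) (map_one φ)]
    constructor
    · intro h
      have h1 : Xiᵀ * H₀ * Xi.map φ = Yiᵀ * H₀ * Yi.map φ := by
        rw [← hfx, ← hfy, h]
      rw [Matrix.transpose_mul, Matrix.map_mul]
      calc Yᵀ * Xiᵀ * H₀ * (Xi.map φ * Y.map φ)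
          = Yᵀ * (Xiᵀ * H₀ * Xi.map φ) * Y.map φ := by simp only [Matrix.mul_assoc]
        _ = (Yᵀ * Yiᵀ) * H₀ * (Yi.map φ * Y.map φ) := by
            rw [h1]
            simp only [Matrix.mul_assoc]
        _ = H₀ := by rw [hYt, hYm, Matrix.one_mul, Matrix.mul_one]
    · intro h
      apply Subtype.ext
      rw [hfx, hfy]
      rw [Matrix.transpose_mul, Matrix.map_mul] at h
      calc Xiᵀ * H₀ * Xi.map φ
          = (Yiᵀ * Yᵀ) * (Xiᵀ * H₀ * Xi.map φ) * (Y.map φ * Yi.map φ) := by
            rw [hYit, hYm', Matrix.one_mul, Matrix.mul_one]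
        _ = Yiᵀ * (Yᵀ * Xiᵀ * H₀ * (Xi.map φ * Y.map φ)) * Yi.map φ := by
            simp only [Matrix.mul_assoc]
        _ = Yiᵀ * H₀ * Yi.map φ := by rw [h]

end orbit

universe w

section transfer
variable {K : Type u} [Field K] [Fintype K] {I : Type v} [Fintype I] [DecidableEq I]
  {I' : Type w} [Fintype I'] [DecidableEq I']

/-- transfer of invertible matrices along a rectangular invertible matrix -/
def transfer (S : Matrix I' I K) (S' : Matrix I I' K) (h1 : S * S' = 1) (h2 : S' * S = 1)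
    (X : GL I K) : GL I' K :=
  ⟨S * (X : Matrix I I K) * S', S * ((X⁻¹ : GL I K) : Matrix I I K) * S', by
    calc S * (X : Matrix I I K) * S' * (S * ((X⁻¹ : GL I K) : Matrix I I K) * S')
        = S * ((X : Matrix I I K) * (S' * S) * ((X⁻¹ : GL I K) : Matrix I I K)) * S' := by
          simp only [Matrix.mul_assoc]
      _ = 1 := by
          rw [h2, Matrix.mul_one, ← Units.val_mul, mul_inv_cancel, Units.val_one, Matrix.mul_one,
            h1], by
    calc S * ((X⁻¹ : GL I K) : Matrix I I K) * S' * (S * (X : Matrix I I K) * S')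
        = S * (((X⁻¹ : GL I K) : Matrix I I K) * (S' * S) * (X : Matrix I I K)) * S' := by
          simp only [Matrix.mul_assoc]
      _ = 1 := by
          rw [h2, Matrix.mul_one, ← Units.val_mul, inv_mul_cancel, Units.val_one, Matrix.mul_one,
            h1]⟩

theorem coe_transfer (S : Matrix I' I K) (S' : Matrix I I' K) (h1 : S * S' = 1)
    (h2 : S' * S = 1) (X : GL I K) :
    ((transfer S S' h1 h2 X : GL I' K) : Matrix I' I' K) = S * (X : Matrix I I K) * S' := rfl

theorem transfer_mem (φ : K →+* K) (S : Matrix I' I K) (S' : Matrix I I' K) (h1 : S * S' = 1)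
    (h2 : S' * S = 1) (g H : Matrix I I K) (g' H' : Matrix I' I' K)
    (hg : S' * g' = g * S') (hg' : S * g = g' * S) (hH : S'ᵀ * H * S'.map φ = H')
    (X : GL I K) (hX : X ∈ isoS φ H g) : transfer S S' h1 h2 X ∈ isoS φ H' g' := by
  rw [mem_isoS] at hX ⊢
  rw [coe_transfer]
  obtain ⟨hX1, hX2⟩ := hX
  constructor
  · calc S * (X : Matrix I I K) * S' * g' = S * (X : Matrix I I K) * (S' * g') := by
          rw [Matrix.mul_assoc]
      _ = S * ((X : Matrix I I K) * g) * S' := by rw [hg]; simp only [Matrix.mul_assoc]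
      _ = (S * g) * (X : Matrix I I K) * S' := by rw [hX1]; simp only [Matrix.mul_assoc]
      _ = g' * (S * (X : Matrix I I K) * S') := by rw [hg']; simp only [Matrix.mul_assoc]
  · have h3 : Sᵀ * S'ᵀ = 1 := by rw [← Matrix.transpose_mul, h2, Matrix.transpose_one]
    have h4 : S'.map φ * S.map φ = 1 := by
      rw [← Matrix.map_mul, h2, Matrix.map_one _ (map_zero φ) (map_one φ)]
    rw [Matrix.transpose_mul, Matrix.transpose_mul, Matrix.map_mul, Matrix.map_mul, ← hH]
    calc S'ᵀ * ((X : Matrix I I K)ᵀ * Sᵀ) * (S'ᵀ * H * S'.map φ) *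
          (S.map φ * (X : Matrix I I K).map φ * S'.map φ)
        = S'ᵀ * ((X : Matrix I I K)ᵀ * ((Sᵀ * S'ᵀ) * H * (S'.map φ * S.map φ)) *
            (X : Matrix I I K).map φ) * S'.map φ := by
          simp only [Matrix.mul_assoc]
      _ = S'ᵀ * H * S'.map φ := by
          rw [h3, h4, Matrix.one_mul, Matrix.mul_one, hX2]

/-- the unitary centralisers of conjugate elements with matching forms have the same order -/
theorem card_isoS_eq_of_transfer (φ : K →+* K) (S : Matrix I' I K) (S' : Matrix I I' K)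
    (h1 : S * S' = 1) (h2 : S' * S = 1) (g H : Matrix I I K) (g' H' : Matrix I' I' K)
    (hg' : S * g = g' * S) (hH : Sᵀ * H' * S.map φ = H) :
    Nat.card (isoS φ H g) = Nat.card (isoS φ H' g') := by
  have hg : S' * g' = g * S' := by
    calc S' * g' = S' * g' * (S * S') := by rw [h1, Matrix.mul_one]
      _ = S' * (g' * S) * S' := by simp only [Matrix.mul_assoc]
      _ = (S' * S) * g * S' := by rw [← hg']; simp only [Matrix.mul_assoc]
      _ = g * S' := by rw [h2, Matrix.one_mul]
  have hH' : S'ᵀ * H * S'.map φ = H' := by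
    have h3 : S'ᵀ * Sᵀ = 1 := by rw [← Matrix.transpose_mul, h1, Matrix.transpose_one]
    have h4 : S.map φ * S'.map φ = 1 := by
      rw [← Matrix.map_mul, h1, Matrix.map_one _ (map_zero φ) (map_one φ)]
    rw [← hH]
    calc S'ᵀ * (Sᵀ * H' * S.map φ) * S'.map φ
        = (S'ᵀ * Sᵀ) * H' * (S.map φ * S'.map φ) := by simp only [Matrix.mul_assoc]
      _ = H' := by rw [h3, h4, Matrix.one_mul, Matrix.mul_one]
  apply Nat.card_eq_of_bijective (fun X : isoS φ H g =>
    (⟨transfer S S' h1 h2 X.1, transfer_mem φ S S' h1 h2 g H g' H' hg hg' hH' X.1 X.2⟩ :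
      isoS φ H' g'))
  constructor
  · intro X Y hXY
    have h3 : S * (X.1 : Matrix I I K) * S' = S * (Y.1 : Matrix I I K) * S' :=
      congrArg (fun Z : isoS φ H' g' => ((Z.1 : GL I' K) : Matrix I' I' K)) hXY
    have h4 : S' * (S * (X.1 : Matrix I I K) * S') * S = S' * (S * (Y.1 : Matrix I I K) * S') * S := by
      rw [h3]
    have e : ∀ Z : Matrix I I K, S' * (S * Z * S') * S = Z := by
      intro Z
      calc S' * (S * Z * S') * S = (S' * S) * Z * (S' * S) := by simp only [Matrix.mul_assoc]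
        _ = Z := by rw [h2, Matrix.one_mul, Matrix.mul_one]
    rw [e, e] at h4
    apply Subtype.ext
    apply Units.ext
    exact h4
  · intro Y
    refine ⟨⟨transfer S' S h2 h1 Y.1, transfer_mem φ S' S h2 h1 g' H' g H hg' hg hH Y.1 Y.2⟩, ?_⟩
    apply Subtype.ext
    apply Units.ext
    show S * (S' * (Y.1 : Matrix I' I' K) * S) * S' = (Y.1 : Matrix I' I' K)
    calc S * (S' * (Y.1 : Matrix I' I' K) * S) * S'
        = (S * S') * (Y.1 : Matrix I' I' K) * (S * S') := by simp only [Matrix.mul_assoc]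
      _ = _ := by rw [h1, Matrix.one_mul, Matrix.mul_one]

end transfer

section transport
variable {K : Type u} [Field K] [Fintype K] {q : ℕ} {I : Type v} [Fintype I] [DecidableEq I]
  {I' : Type w} [Fintype I'] [DecidableEq I']

/-- the order of the unitary centraliser only depends on the linear conjugacy class -/
theorem card_isoS_eq (hK : Fintype.card K = q ^ 2) (φ : K →+* K) (hφ : ∀ x, φ x = x ^ q)
    (g H : Matrix I I K) (g' H' : Matrix I' I' K) (M : ℕ) (hM : 1 ≤ M) (hgM : g ^ M = 1)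
    (hH : Hᵀ = H.map φ) (hHd : IsUnit H.det) (hHg : gᵀ * H * g.map φ = H)
    (hH' : H'ᵀ = H'.map φ) (hHd' : IsUnit H'.det) (hHg' : g'ᵀ * H' * g'.map φ = H')
    (T : Matrix I' I K) (T' : Matrix I I' K) (h1 : T * T' = 1) (h2 : T' * T = 1)
    (hT : T * g = g' * T) :
    Nat.card (isoS φ H g) = Nat.card (isoS φ H' g') := by
  classical
  have hφ2 : ∀ x, φ (φ x) = x := frob_frob hK φ hφ
  set H'' : Matrix I I K := Tᵀ * H' * T.map φ with hH''
  have hherm : H''ᵀ = H''.map φ := by
    rw [hH'', Matrix.transpose_mul, Matrix.transpose_mul, Matrix.transpose_transpose, hH',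
      Matrix.map_mul, Matrix.map_mul, Matrix.transpose_map]
    have : (T.map φ).map φ = T := by
      ext i j
      simp [hφ2]
    rw [this, Matrix.mul_assoc]
  have hdet : IsUnit H''.det := by
    have h3 : H'' * (T'.map φ * H'⁻¹ * T'ᵀ) = 1 := by
      have h4 : T.map φ * T'.map φ = 1 := by
        rw [← Matrix.map_mul, h1, Matrix.map_one _ (map_zero φ) (map_one φ)]
      have h5 : Tᵀ * T'ᵀ = 1 := by rw [← Matrix.transpose_mul, h2, Matrix.transpose_one]
      calc H'' * (T'.map φ * H'⁻¹ * T'ᵀ)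
          = Tᵀ * (H' * ((T.map φ * T'.map φ) * H'⁻¹)) * T'ᵀ := by
            rw [hH'']
            simp only [Matrix.mul_assoc]
        _ = 1 := by
            rw [h4, Matrix.one_mul, Matrix.mul_nonsing_inv _ hHd', Matrix.mul_one, h5]
    exact IsUnit.of_mul_eq_one _ (by rw [← Matrix.det_mul, h3, Matrix.det_one])
  have hinv : gᵀ * H'' * g.map φ = H'' := by
    rw [hH'']
    calc gᵀ * (Tᵀ * H' * T.map φ) * g.map φ = (T * g)ᵀ * H' * (T * g).map φ := by
          rw [Matrix.transpose_mul, Matrix.map_mul]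
          simp only [Matrix.mul_assoc]
      _ = Tᵀ * (g'ᵀ * H' * g'.map φ) * T.map φ := by
          rw [hT, Matrix.transpose_mul, Matrix.map_mul]
          simp only [Matrix.mul_assoc]
      _ = _ := by rw [hHg']
  obtain ⟨Z, hZd, hZg, hZ⟩ := exists_commuting_equiv hK φ hφ g M hM hgM H H'' hH hherm hHd hdet
    hHg hinv
  -- the corrected intertwiner
  set S : Matrix I' I K := T * Z⁻¹ with hS
  set S' : Matrix I I' K := Z * T' with hS'
  have hS1 : S * S' = 1 := by
    rw [hS, hS']
    calc T * Z⁻¹ * (Z * T') = T * (Z⁻¹ * Z) * T' := by simp only [Matrix.mul_assoc]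
      _ = 1 := by rw [Matrix.nonsing_inv_mul _ hZd, Matrix.mul_one, h1]
  have hS2 : S' * S = 1 := by
    rw [hS, hS']
    calc Z * T' * (T * Z⁻¹) = Z * (T' * T) * Z⁻¹ := by simp only [Matrix.mul_assoc]
      _ = 1 := by rw [h2, Matrix.mul_one, Matrix.mul_nonsing_inv _ hZd]
  have hZig : Z⁻¹ * g = g * Z⁻¹ := by
    calc Z⁻¹ * g = Z⁻¹ * (g * Z) * Z⁻¹ := by
          rw [Matrix.mul_assoc, Matrix.mul_assoc, Matrix.mul_nonsing_inv _ hZd, Matrix.mul_one]
      _ = Z⁻¹ * (Z * g) * Z⁻¹ := by rw [hZg]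
      _ = g * Z⁻¹ := by
          rw [← Matrix.mul_assoc, Matrix.nonsing_inv_mul _ hZd, Matrix.one_mul]
  have hSg : S * g = g' * S := by
    rw [hS, Matrix.mul_assoc, hZig, ← Matrix.mul_assoc, hT, Matrix.mul_assoc]
  have hSH : Sᵀ * H' * S.map φ = H := by
    have h6 : (Z⁻¹)ᵀ * Zᵀ = 1 := by
      rw [← Matrix.transpose_mul, Matrix.mul_nonsing_inv _ hZd, Matrix.transpose_one]
    have h7 : Z.map φ * (Z⁻¹).map φ = 1 := by
      rw [← Matrix.map_mul, Matrix.mul_nonsing_inv _ hZd,
        Matrix.map_one _ (map_zero φ) (map_one φ)]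
    rw [hS, Matrix.transpose_mul, Matrix.map_mul]
    calc (Z⁻¹)ᵀ * Tᵀ * H' * (T.map φ * (Z⁻¹).map φ)
        = (Z⁻¹)ᵀ * (Tᵀ * H' * T.map φ) * (Z⁻¹).map φ := by simp only [Matrix.mul_assoc]
      _ = ((Z⁻¹)ᵀ * Zᵀ) * H * (Z.map φ * (Z⁻¹).map φ) := by
          rw [← hH'', ← hZ]
          simp only [Matrix.mul_assoc]
      _ = H := by rw [h6, h7, Matrix.one_mul, Matrix.mul_one]
  exact card_isoS_eq_of_transfer φ S S' hS1 hS2 g H g' H' hSg hSH

end transport

end Cfsg.Agent.Helper13.UCF
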