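import Mathlib
import Cfsg.Agent.Lib.Helper17.UnipCent2

set_option autoImplicit false
set_option linter.style.haveILetI false
set_option linter.unusedSectionVars false
set_option linter.unusedVariables false

/-!
# The hermitian model of a unipotent Jordan type
-/

namespace Cfsg.Agent.Helper13.UCM

open Matrix Finset Cfsg.Agent.Helper17.UnipCent

section signs
variable {K : Type*} [Field K]

theorem neg_one_pow_congr {n n' : ℕ} (h : n % 2 = n' % 2) : (-1 : K) ^ n = (-1) ^ n' := by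
  rw [neg_one_pow_eq_pow_mod_two, h, ← neg_one_pow_eq_pow_mod_two]

theorem neg_one_pow_mul_self (n : ℕ) : (-1 : K) ^ n * (-1) ^ n = 1 := by
  rw [← pow_add, ← two_mul, pow_mul]
  simp

end signs

variable {K : Type*} [Field K] {t : ℕ} (d : Fin t → ℕ) (φ : K →+* K) (ω : K)

/-- the scalar making the block form hermitian -/
def lam (k : Fin t) : K := if Even (d k) then ω else 1

theorem lam_ne_zero (hω0 : ω ≠ 0) (k : Fin t) : lam d ω k ≠ 0 := by
  unfold lam
  split_ifs
  · exact hω0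
  · exact one_ne_zero

theorem phi_lam (hω : φ ω = -ω) (k : Fin t) :
    φ (lam d ω k) = (-1) ^ (d k + 1) * lam d ω k := by
  unfold lam
  by_cases h : Even (d k)
  · rw [if_pos h, hω, Odd.neg_one_pow (Even.add_one h)]
    ring
  · rw [if_neg h, map_one]
    rw [Nat.not_even_iff_odd] at h
    rw [Even.neg_one_pow (Odd.add_one h), one_mul]

theorem lam_congr {k l : Fin t} (h : d k = d l) : lam d ω k = lam d ω l := by
  unfold lam
  rw [h]

/-- the model hermitian form -/
def H0 : Matrix (Idx d) (Idx d) K := Matrix.of fun a b =>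
  if a.1 = b.1 ∧ a.2.val + b.2.val + 1 = d a.1 then lam d ω a.1 * (-1) ^ b.2.val else 0

theorem H0_apply (a b : Idx d) : H0 d ω a b =
    if a.1 = b.1 ∧ a.2.val + b.2.val + 1 = d a.1 then lam d ω a.1 * (-1) ^ b.2.val else 0 := rfl

/-- the model form is hermitian -/
theorem H0_herm (hω : φ ω = -ω) : (H0 d ω)ᵀ = (H0 d ω).map φ := by
  ext a b
  rw [Matrix.transpose_apply, Matrix.map_apply, H0_apply, H0_apply]
  by_cases h : a.1 = b.1 ∧ a.2.val + b.2.val + 1 = d a.1
  · obtain ⟨h1, h2⟩ := h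
    have hd : d a.1 = d b.1 := congrArg d h1
    have h3 : b.1 = a.1 ∧ b.2.val + a.2.val + 1 = d b.1 := ⟨h1.symm, by omega⟩
    have hl : lam d ω b.1 = lam d ω a.1 := congrArg (lam d ω) h1.symm
    rw [if_pos h3, if_pos ⟨h1, h2⟩, map_mul, map_pow, map_neg, map_one, phi_lam d φ ω hω, hl]
    have h4 : (-1 : K) ^ a.2.val = (-1) ^ (d a.1 + 1) * (-1) ^ b.2.val := by
      rw [← pow_add]
      apply neg_one_pow_congr
      omega
    rw [h4]
    ring
  · rw [if_neg h, if_neg, map_zero]
    rintro ⟨h1, h2⟩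
    apply h
    refine ⟨h1.symm, ?_⟩
    have hd : d b.1 = d a.1 := congrArg d h1
    omega

/-- the inverse of the model form -/
def H0i : Matrix (Idx d) (Idx d) K := Matrix.of fun a b =>
  if a.1 = b.1 ∧ a.2.val + b.2.val + 1 = d a.1 then (lam d ω a.1)⁻¹ * (-1) ^ a.2.val else 0

theorem H0_mul_H0i (hω0 : ω ≠ 0) : H0 d ω * H0i d ω = 1 := by
  classical
  ext a c
  rw [Matrix.mul_apply]
  have ha := a.2.2
  have hlt : d a.1 - 1 - a.2.val < d a.1 := by omega
  rw [Finset.sum_eq_single (⟨a.1, ⟨d a.1 - 1 - a.2.val, hlt⟩⟩ : Idx d)]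
  · rw [H0_apply, if_pos ⟨rfl, by show a.2.val + (d a.1 - 1 - a.2.val) + 1 = d a.1; omega⟩]
    show _ * (if a.1 = c.1 ∧ (d a.1 - 1 - a.2.val) + c.2.val + 1 = d a.1 then
      (lam d ω a.1)⁻¹ * (-1) ^ (d a.1 - 1 - a.2.val) else 0) = _
    rw [Matrix.one_apply]
    by_cases hac : a = c
    · subst hac
      rw [if_pos rfl, if_pos ⟨rfl, by omega⟩]
      have := lam_ne_zero d ω hω0 a.1
      have h2 := neg_one_pow_mul_self (K := K) (d a.1 - 1 - a.2.val)
      rw [mul_mul_mul_comm, mul_inv_cancel₀ this, h2, one_mul]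
    · rw [if_neg hac, if_neg, mul_zero]
      rintro ⟨h1, h2⟩
      apply hac
      obtain ⟨k, i⟩ := a
      obtain ⟨l, j⟩ := c
      simp only at h1 h2 ha
      subst h1
      congr 1
      apply Fin.ext
      omega
  · intro b _ hb
    rw [H0_apply, if_neg, zero_mul]
    rintro ⟨h1, h2⟩
    apply hb
    obtain ⟨k, i⟩ := a
    obtain ⟨l, j⟩ := b
    simp only at h1 h2
    subst h1
    congr 1
    apply Fin.ext
    show j.val = d k - 1 - i.val
    omega
  · intro hh
    exact absurd (mem_univ _) hh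

theorem H0_isUnit_det (hω0 : ω ≠ 0) : IsUnit (H0 d ω : Matrix (Idx d) (Idx d) K).det := by
  apply IsUnit.of_mul_eq_one (H0i d ω).det
  rw [← Matrix.det_mul, H0_mul_H0i d ω hω0, Matrix.det_one]

/-- the nilpotent Jordan matrix is skew-adjoint for the model form -/
theorem Nil_skew : (Nil d K)ᵀ * H0 d ω = -(H0 d ω * Nil d K) := by
  ext a b
  rw [Matrix.neg_apply, mul_Nil_apply]
  have h1 : ((Nil d K)ᵀ * H0 d ω) a b = (((H0 d ω)ᵀ * Nil d K) b a) := by
    rw [← Matrix.transpose_apply (((H0 d ω)ᵀ * Nil d K)), Matrix.transpose_mul,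
      Matrix.transpose_transpose]
  rw [h1, mul_Nil_apply]
  have ha := a.2.2
  have hb := b.2.2
  by_cases ha1 : a.2.val + 1 < d a.1
  · rw [ent_of_lt d _ _ _ _ _ hb ha1, Matrix.transpose_apply, H0_apply]
    by_cases hb1 : b.2.val + 1 < d b.1
    · rw [ent_of_lt d _ _ _ _ _ ha hb1, H0_apply]
      by_cases h : a.1 = b.1 ∧ a.2.val + 1 + b.2.val + 1 = d a.1
      · rw [if_pos h, if_pos ⟨h.1, by show a.2.val + (b.2.val + 1) + 1 = d a.1; omega⟩]
        show _ = -(lam d ω a.1 * (-1) ^ (b.2.val + 1))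
        rw [pow_succ]
        ring
      · rw [if_neg h, if_neg, neg_zero]
        rintro ⟨h2, h3⟩
        apply h
        refine ⟨h2, ?_⟩
        have : a.2.val + (b.2.val + 1) + 1 = d a.1 := h3
        omega
    · rw [ent_of_not d _ _ _ _ _ (fun hh => hb1 hh.2), neg_zero, if_neg]
      rintro ⟨h2, h3⟩
      have : a.2.val + 1 + b.2.val + 1 = d a.1 := h3
      have hd : d a.1 = d b.1 := congrArg d h2
      omega
  · rw [ent_of_not d _ _ _ _ _ (fun hh => ha1 hh.2)]
    by_cases hb1 : b.2.val + 1 < d b.1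
    · rw [ent_of_lt d _ _ _ _ _ ha hb1, H0_apply, if_neg, neg_zero]
      rintro ⟨h2, h3⟩
      have : a.2.val + (b.2.val + 1) + 1 = d a.1 := h3
      omega
    · rw [ent_of_not d _ _ _ _ _ (fun hh => hb1 hh.2), neg_zero]

theorem H0_mul_apply (X : Matrix (Idx d) (Idx d) K) (a b : Idx d) :
    (H0 d ω * X) a b = lam d ω a.1 * (-1) ^ (d a.1 - 1 - a.2.val) *
      X ⟨a.1, ⟨d a.1 - 1 - a.2.val, by have := a.2.2; omega⟩⟩ b := by
  classical
  rw [Matrix.mul_apply]
  have ha := a.2.2
  have hlt : d a.1 - 1 - a.2.val < d a.1 := by omega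
  rw [Finset.sum_eq_single (⟨a.1, ⟨d a.1 - 1 - a.2.val, hlt⟩⟩ : Idx d)]
  · rw [H0_apply, if_pos ⟨rfl, by show a.2.val + (d a.1 - 1 - a.2.val) + 1 = d a.1; omega⟩]
  · intro b' _ hb'
    rw [H0_apply, if_neg, zero_mul]
    rintro ⟨h1, h2⟩
    apply hb'
    obtain ⟨k, i⟩ := a
    obtain ⟨l, j⟩ := b'
    simp only at h1 h2
    subst h1
    congr 1
    apply Fin.ext
    show j.val = d k - 1 - i.val
    omega
  · intro hh
    exact absurd (mem_univ _) hh

/-- the entries of the form attached to a parameter family -/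
theorem H0_mul_Xc_apply (c : Par d → K) (a b : Idx d) :
    (H0 d ω * Xc d c) a b = lam d ω a.1 * (-1) ^ (d a.1 - 1 - a.2.val) *
      (if a.2.val + b.2.val + 1 ≤ min (d a.1) (d b.1) then
        cv d c a.1 b.1 (min (d a.1) (d b.1) - 1 - a.2.val - b.2.val) else 0) := by
  rw [H0_mul_apply]
  congr 1
  have ha := a.2.2
  have hb := b.2.2
  show (if b.2.val + (d a.1 - d b.1) ≤ d a.1 - 1 - a.2.val then
    cv d c a.1 b.1 (d a.1 - 1 - a.2.val - b.2.val - (d a.1 - d b.1)) else 0) = _
  by_cases h : a.2.val + b.2.val + 1 ≤ min (d a.1) (d b.1)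
  · rw [if_pos h, if_pos (by omega)]
    congr 1
    omega
  · rw [if_neg h, if_neg (by omega)]

/-- the twist in the self-adjointness condition -/
def eps (k l : Fin t) (m : ℕ) : K :=
  lam d ω k / lam d ω l * (-1) ^ (min (d k) (d l) + m + d l)

/-- self-adjoint parameter families -/
def SelfAdj (c : Par d → K) : Prop :=
  ∀ k l m, cv d c l k m = eps d ω k l m * φ (cv d c k l m)

theorem entry_iff (hω : φ ω = -ω) (hω0 : ω ≠ 0) (k l : Fin t) (i j : ℕ) (hi : i < d k)
    (hj : j < d l) (h : i + j + 1 ≤ min (d k) (d l)) (x y : K) :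
    lam d ω l * (-1) ^ (d l - 1 - j) * x = φ (lam d ω k) * (-1) ^ (d k - 1 - i) * y ↔
      x = eps d ω k l (min (d k) (d l) - 1 - i - j) * y := by
  have hk := lam_ne_zero d ω hω0 k
  have hl := lam_ne_zero d ω hω0 l
  set s1 : K := (-1) ^ (d l - 1 - j) with hs1
  have hs11 : s1 * s1 = 1 := neg_one_pow_mul_self _
  have hs10 : s1 ≠ 0 := by
    intro h0
    rw [h0, zero_mul] at hs11
    exact zero_ne_one hs11
  have hs3 : (-1 : K) ^ (min (d k) (d l) + (min (d k) (d l) - 1 - i - j) + d l) =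
      s1 * ((-1) ^ (d k + 1) * (-1) ^ (d k - 1 - i)) := by
    rw [hs1, ← pow_add, ← pow_add]
    apply neg_one_pow_congr
    omega
  unfold eps
  rw [hs3, phi_lam d φ ω hω]
  have hne : lam d ω l * s1 ≠ 0 := mul_ne_zero hl hs10
  have h2 : lam d ω l * s1 * (lam d ω k / lam d ω l *
      (s1 * ((-1) ^ (d k + 1) * (-1) ^ (d k - 1 - i))) * y) =
      (-1) ^ (d k + 1) * lam d ω k * (-1) ^ (d k - 1 - i) * y * (s1 * s1) := by
    field_simp
  rw [hs11, mul_one] at h2
  constructor
  · intro h3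
    apply mul_left_cancel₀ hne
    rw [h2, h3]
  · intro h3
    rw [h3, h2]

/-- the form of a parameter family is hermitian iff the family is self-adjoint -/
theorem herm_iff (hd : ∀ k, 1 ≤ d k) (hω : φ ω = -ω) (hω0 : ω ≠ 0) (c : Par d → K) :
    (H0 d ω * Xc d c)ᵀ = (H0 d ω * Xc d c).map φ ↔ SelfAdj d φ ω c := by
  constructor
  · intro h k l m
    by_cases hm : m < min (d k) (d l)
    · have hk := hd k
      have hl := hd l
      have hi : min (d k) (d l) - 1 - m < d k := by omega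
      have h1 := congrFun (congrFun h ⟨k, ⟨min (d k) (d l) - 1 - m, hi⟩⟩) ⟨l, ⟨0, hl⟩⟩
      rw [Matrix.transpose_apply, Matrix.map_apply, H0_mul_Xc_apply, H0_mul_Xc_apply] at h1
      simp only at h1
      rw [if_pos (by rw [min_comm]; omega), if_pos (by omega), map_mul, map_mul, map_pow,
        map_neg, map_one] at h1
      have h2 := (entry_iff d φ ω hω hω0 k l (min (d k) (d l) - 1 - m) 0 hi hl (by omega)
        (cv d c l k (min (d l) (d k) - 1 - 0 - (min (d k) (d l) - 1 - m)))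
        (φ (cv d c k l (min (d k) (d l) - 1 - (min (d k) (d l) - 1 - m) - 0)))).1 h1
      have e1 : min (d l) (d k) - 1 - 0 - (min (d k) (d l) - 1 - m) = m := by
        rw [min_comm]; omega
      have e2 : min (d k) (d l) - 1 - (min (d k) (d l) - 1 - m) - 0 = m := by omega
      rw [e1, e2] at h2
      exact h2
    · have h1 : cv d c k l m = 0 := by
        unfold cv
        rw [dif_neg hm]
      have h2 : cv d c l k m = 0 := by
        unfold cv
        rw [dif_neg (by rw [min_comm]; exact hm)]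
      rw [h1, h2, map_zero, mul_zero]
  · intro h
    ext a b
    rw [Matrix.transpose_apply, Matrix.map_apply, H0_mul_Xc_apply, H0_mul_Xc_apply]
    have ha := a.2.2
    have hb := b.2.2
    by_cases hc : a.2.val + b.2.val + 1 ≤ min (d a.1) (d b.1)
    · rw [if_pos hc, if_pos (by rw [min_comm]; omega), map_mul, map_mul, map_pow, map_neg,
        map_one]
      have e1 : min (d b.1) (d a.1) - 1 - b.2.val - a.2.val =
          min (d a.1) (d b.1) - 1 - a.2.val - b.2.val := by
        rw [min_comm]; omega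
      rw [e1]
      exact (entry_iff d φ ω hω hω0 a.1 b.1 a.2.val b.2.val ha hb hc _ _).2 (h _ _ _)
    · rw [if_neg hc, if_neg (by rw [min_comm]; omega), mul_zero, mul_zero, map_zero]

end Cfsg.Agent.Helper13.UCM
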