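import Mathlib
import Cfsg.Agent.Lib.Helper13.UnipCentModel
import Cfsg.Agent.Lib.Helper13.UnipCentForm

set_option autoImplicit false
set_option linter.style.haveILetI false
set_option linter.unusedSectionVars false
set_option linter.unusedVariables false

namespace Cfsg.Agent.Helper13.UCM

open Matrix Finset Cfsg.Agent.Helper17.UnipCent Cfsg.Agent.Helper13.UCF

variable {K : Type*} [Field K] {t : ℕ} (d : Fin t → ℕ) (φ : K →+* K) (ω : K)

/-- swapping the two block indices of a parameter -/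
def swapP (p : Par d) : Par d :=
  ⟨p.2.1, p.1, ⟨p.2.2.val, p.2.2.2.trans_eq (min_comm _ _)⟩⟩

theorem swapP_swapP (p : Par d) : swapP d (swapP d p) = p := by
  obtain ⟨k, l, m⟩ := p
  rfl

theorem PD_swapP (p : Par d) : PD d (swapP d p) ↔ PD d p :=
  ⟨fun h => ⟨h.1.symm, h.2⟩, fun h => ⟨h.1.symm, h.2⟩⟩

/-- the twist attached to a parameter -/
def epsP (p : Par d) : K := eps d ω p.1 p.2.1 p.2.2.val

theorem selfAdj_iff (c : Par d → K) :
    SelfAdj d φ ω c ↔ ∀ p : Par d, c (swapP d p) = epsP d ω p * φ (c p) := by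
  constructor
  · intro h p
    obtain ⟨k, l, m⟩ := p
    have h1 := h k l m.val
    unfold cv at h1
    rw [dif_pos m.2, dif_pos (m.2.trans_eq (min_comm _ _))] at h1
    exact h1
  · intro h k l m
    by_cases hm : m < min (d k) (d l)
    · have h1 := h ⟨k, l, ⟨m, hm⟩⟩
      unfold cv
      rw [dif_pos hm, dif_pos (hm.trans_eq (min_comm _ _))]
      exact h1
    · unfold cv
      rw [dif_neg hm, dif_neg (by rw [min_comm]; exact hm), map_zero, mul_zero]

theorem epsP_mul (hω : φ ω = -ω) (hω0 : ω ≠ 0) (p : Par d) :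
    epsP d ω (swapP d p) * φ (epsP d ω p) = 1 := by
  obtain ⟨k, l, m⟩ := p
  show eps d ω l k m.val * φ (eps d ω k l m.val) = 1
  unfold eps
  have hk := lam_ne_zero d ω hω0 k
  have hl := lam_ne_zero d ω hω0 l
  rw [map_mul, map_div₀, map_pow, map_neg, map_one, phi_lam d φ ω hω, phi_lam d φ ω hω]
  have h1 : (-1 : K) ^ (d l + 1) ≠ 0 := pow_ne_zero _ (by simp)
  have h2 : (-1 : K) ^ (min (d l) (d k) + m.val + d k) * (-1) ^ (d k + 1) *
      (-1) ^ (min (d k) (d l) + m.val + d l) = (-1) ^ (d l + 1) := by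
    rw [← pow_add, ← pow_add]
    apply neg_one_pow_congr
    rw [min_comm]
    omega
  field_simp
  rw [← h2]

theorem epsP_PD (hω0 : ω ≠ 0) (p : Par d) (hp : PD d p) : epsP d ω p = 1 := by
  obtain ⟨k, l, m⟩ := p
  obtain ⟨hkl, hm⟩ := hp
  simp only at hkl hm
  show eps d ω k l m.val = 1
  unfold eps
  rw [lam_congr d ω hkl, div_self (lam_ne_zero d ω hω0 l), one_mul, hm, hkl, min_self]
  have : (-1 : K) ^ (d l + 0 + d l) = (-1) ^ 0 := by
    apply neg_one_pow_congr
    omega
  rw [this, pow_zero]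

/-- the swap on the parameters off the diagonal blocks -/
def swapN (p : {p : Par d // ¬ PD d p}) : {p : Par d // ¬ PD d p} :=
  ⟨swapP d p.1, fun h => p.2 ((PD_swapP d p.1).1 h)⟩

theorem swapN_swapN (p : {p : Par d // ¬ PD d p}) : swapN d (swapN d p) = p :=
  Subtype.ext (swapP_swapP d p.1)

/-- the twisted symmetry condition off the diagonal blocks -/
def TS (f : {p : Par d // ¬ PD d p} → K) : Prop :=
  ∀ p, f (swapN d p) = epsP d ω p.1 * φ (f p)

/-- the semilinear involution whose fixed points are the twisted symmetric families -/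
def Θ : ({p : Par d // ¬ PD d p} → K) →+ ({p : Par d // ¬ PD d p} → K) where
  toFun f := fun p => epsP d ω (swapP d p.1) * φ (f (swapN d p))
  map_zero' := by
    funext p
    simp
  map_add' f g := by
    funext p
    simp [mul_add]

theorem Θ_fixed_iff (hφ2 : ∀ x, φ (φ x) = x) (f : {p : Par d // ¬ PD d p} → K) :
    Θ d φ ω f = f ↔ TS d φ ω f := by
  constructor
  · intro h p
    have h1 := congrFun h (swapN d p)
    show f (swapN d p) = _
    rw [← h1]
    show epsP d ω (swapP d (swapN d p).1) * φ (f (swapN d (swapN d p))) = _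
    rw [swapN_swapN]
    show epsP d ω (swapP d (swapP d p.1)) * _ = _
    rw [swapP_swapP]
  · intro h
    funext p
    show epsP d ω (swapP d p.1) * φ (f (swapN d p)) = f p
    have h1 := h (swapN d p)
    rw [swapN_swapN] at h1
    rw [h1]
    rfl

theorem card_TS [Fintype K] {q : ℕ} (hK : Fintype.card K = q ^ 2) (hφ2 : ∀ x, φ (φ x) = x)
    (hω : φ ω = -ω) (hω0 : ω ≠ 0) (b : K) (hb : b + φ b = 1) :
    Nat.card {f : {p : Par d // ¬ PD d p} → K // TS d φ ω f} =
      q ^ Nat.card {p : Par d // ¬ PD d p} := by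
  classical
  have h1 := card_fixed_sq φ (Θ d φ ω) (by
      intro f
      funext p
      show epsP d ω (swapP d p.1) * φ (epsP d ω (swapP d (swapN d p).1) *
        φ (f (swapN d (swapN d p)))) = f p
      rw [swapN_swapN, map_mul, hφ2]
      show epsP d ω (swapP d p.1) * (φ (epsP d ω (swapP d (swapP d p.1))) * f p) = f p
      rw [swapP_swapP, ← mul_assoc, epsP_mul d φ ω hω hω0, one_mul])
    (by
      intro a f
      funext p
      show epsP d ω (swapP d p.1) * φ (a * f (swapN d p)) =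
        φ a * (epsP d ω (swapP d p.1) * φ (f (swapN d p)))
      rw [map_mul]
      ring) b ω hb hω hω0
  have h2 : Nat.card {f : {p : Par d // ¬ PD d p} → K // Θ d φ ω f = f} =
      Nat.card {f : {p : Par d // ¬ PD d p} → K // TS d φ ω f} :=
    Nat.card_congr (Equiv.subtypeEquivRight (fun f => Θ_fixed_iff d φ ω hφ2 f))
  rw [h2, Nat.card_fun, Nat.card_eq_fintype_card (α := K), hK, ← pow_mul, mul_comm, pow_mul]
    at h1
  exact (Nat.pow_left_injective (n := 2) (by norm_num) h1).symm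

section sa
variable {K : Type*} [Field K] [Fintype K] {t : ℕ} (d : Fin t → ℕ) (φ : K →+* K) (ω : K)

/-- the invertible hermitian matrices on the blocks of a given size -/
def HermInv (s : ℕ) : Type _ :=
  {M : Matrix {k : Fin t // d k = s} {k : Fin t // d k = s} K // M.det ≠ 0 ∧ Mᵀ = M.map φ}

/-- the self-adjoint parameter families with invertible diagonal blocks -/
def SA : Type _ := {c : Par d → K // (∀ s : ℕ, (Cs d c s).det ≠ 0) ∧ SelfAdj d φ ω c}

theorem selfAdj_split (hd : ∀ k, 1 ≤ d k) (hω0 : ω ≠ 0) (N : ℕ) (hN : ∀ k, d k ≤ N)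
    (c : Par d → K) :
    SelfAdj d φ ω c ↔ (∀ s : Fin (N + 1), (Cs d c s.val)ᵀ = (Cs d c s.val).map φ) ∧
      TS d φ ω (fun p => c p.1) := by
  rw [selfAdj_iff]
  constructor
  · intro h
    refine ⟨?_, ?_⟩
    · intro s
      ext k l
      rw [Matrix.transpose_apply, Matrix.map_apply]
      show cv d c l.1 k.1 0 = φ (cv d c k.1 l.1 0)
      rw [cv_zero d hd, cv_zero d hd]
      have hP : PD d ⟨k.1, l.1, ⟨0, by have := hd k.1; have := hd l.1; omega⟩⟩ :=
        ⟨k.2.trans l.2.symm, rfl⟩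
      have h1 := h ⟨k.1, l.1, ⟨0, by have := hd k.1; have := hd l.1; omega⟩⟩
      rw [epsP_PD d ω hω0 _ hP, one_mul] at h1
      exact h1
    · intro p
      exact h p.1
  · rintro ⟨h1, h2⟩ p
    by_cases hp : PD d p
    · obtain ⟨k, l, ⟨m, hmlt⟩⟩ := p
      have hkl : d k = d l := hp.1
      have hm : m = 0 := hp.2
      subst hm
      have h3 := congrFun (congrFun (h1 ⟨d k, Nat.lt_succ_of_le (hN k)⟩) ⟨k, rfl⟩) ⟨l, hkl.symm⟩
      rw [Matrix.transpose_apply, Matrix.map_apply] at h3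
      have h4 : cv d c l k 0 = φ (cv d c k l 0) := h3
      rw [cv_zero d hd, cv_zero d hd] at h4
      rw [epsP_PD d ω hω0 _ hp, one_mul]
      exact h4
    · exact h2 ⟨p, hp⟩

theorem card_SA {q : ℕ} (hK : Fintype.card K = q ^ 2) (hφ2 : ∀ x, φ (φ x) = x)
    (hd : ∀ k, 1 ≤ d k) (hω : φ ω = -ω) (hω0 : ω ≠ 0) (b : K) (hb : b + φ b = 1)
    (N : ℕ) (hN : ∀ k, d k ≤ N) :
    Nat.card (SA d φ ω) = (∏ s ∈ Finset.range (N + 1), Nat.card (HermInv d φ s)) *
      q ^ Nat.card {p : Par d // ¬ PD d p} := by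
  classical
  have e1 : SA d φ ω ≃ {a : {c : Par d → K // ∀ s : ℕ, (Cs d c s).det ≠ 0} //
      SelfAdj d φ ω a.1} :=
    (Equiv.subtypeSubtypeEquivSubtypeInter (fun c : Par d → K => ∀ s : ℕ, (Cs d c s).det ≠ 0)
      (fun c => SelfAdj d φ ω c)).symm
  have e2 : {a : {c : Par d → K // ∀ s : ℕ, (Cs d c s).det ≠ 0} // SelfAdj d φ ω a.1} ≃
      {x : (∀ s : Fin (N + 1),
        {M : Matrix {k : Fin t // d k = s.val} {k : Fin t // d k = s.val} K // M.det ≠ 0}) ×
        ({p : Par d // ¬ PD d p} → K) //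
        (∀ s : Fin (N + 1), ((x.1 s).1)ᵀ = ((x.1 s).1).map φ) ∧ TS d φ ω x.2} :=
    Equiv.subtypeEquiv (Equiv.ofBijective _ (split_bijective (F := K) d hd N hN))
      (fun a => selfAdj_split d φ ω hd hω0 N hN a.1)
  have e3 := Equiv.subtypeProdEquivProd
    (p := fun f : (∀ s : Fin (N + 1),
        {M : Matrix {k : Fin t // d k = s.val} {k : Fin t // d k = s.val} K // M.det ≠ 0}) =>
      ∀ s : Fin (N + 1), ((f s).1)ᵀ = ((f s).1).map φ)
    (q := fun g : {p : Par d // ¬ PD d p} → K => TS d φ ω g)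
  have e4 := Equiv.subtypePiEquivPi
    (β := fun s : Fin (N + 1) =>
      {M : Matrix {k : Fin t // d k = s.val} {k : Fin t // d k = s.val} K // M.det ≠ 0})
    (p := fun s M => (M.1)ᵀ = (M.1).map φ)
  rw [Nat.card_congr (e1.trans (e2.trans e3)), Nat.card_prod, Nat.card_congr e4, Nat.card_pi,
    card_TS d φ ω hK hφ2 hω hω0 b hb]
  congr 1
  rw [← Fin.prod_univ_eq_prod_range (fun s => Nat.card (HermInv d φ s)) (N + 1)]
  apply Finset.prod_congr rfl
  intro s _
  exact Nat.card_congr (Equiv.subtypeSubtypeEquivSubtypeInter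
    (fun M : Matrix {k : Fin t // d k = s.val} {k : Fin t // d k = s.val} K => M.det ≠ 0)
    (fun M => Mᵀ = M.map φ))

end sa

end Cfsg.Agent.Helper13.UCM
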