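import Mathlib
import Cfsg.Agent.Lib.Helper13.UnipCentCount
import Cfsg.Agent.Lib.Helper13.UnipCentCayley

set_option autoImplicit false
set_option linter.style.haveILetI false
set_option linter.unusedSectionVars false
set_option linter.unusedVariables false

namespace Cfsg.Agent.Helper13.UCM

open Matrix Finset Cfsg.Agent.Helper17.UnipCent Cfsg.Agent.Helper13.UCF Cfsg.Agent.Helper13.Cay
  Cfsg.Agent.Helper17 Cfsg.Agent.Helper11.Herm

variable {K : Type*} [Field K] {t : ℕ} (d : Fin t → ℕ) (φ : K →+* K) (ω : K)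

theorem Nil_isNilpotent : IsNilpotent (Nil d K) := by
  refine ⟨Finset.univ.sup d, ?_⟩
  unfold Nil
  rw [JordanRank.jordanTypeMatrix_sub_one_pow]
  have h : ∀ k, (Cfsg.jordanBlock (d k) K - 1) ^ (Finset.univ.sup d) = 0 := by
    intro k
    have hk : d k ≤ Finset.univ.sup d := Finset.le_sup (f := d) (Finset.mem_univ k)
    rw [← Nat.sub_add_cancel hk, pow_add, JordanRank.jordanBlock_sub_one_pow_self, mul_zero]
  rw [funext h]
  exact Matrix.blockDiagonal'_zero

theorem Nil_map : (Nil d K).map φ = Nil d K := by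
  ext a b
  rw [Matrix.map_apply, Nil_apply]
  split_ifs <;> simp

theorem H0i_mul_H0 (hω0 : ω ≠ 0) : H0i d ω * H0 d ω = (1 : Matrix (Idx d) (Idx d) K) :=
  mul_eq_one_comm.1 (H0_mul_H0i d ω hω0)

/-- the invariant hermitian forms of the model are parametrised by the self-adjoint families -/
theorem card_forms (hφ2 : ∀ x, φ (φ x) = x) (hd : ∀ k, 1 ≤ d k) (hω : φ ω = -ω) (hω0 : ω ≠ 0)
    (b : K) (hb : b + φ b = 1) :
    Nat.card (Forms φ (cay φ (Nil d K) b)) = Nat.card (SA d φ ω) := by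
  classical
  symm
  have hNil := Nil_isNilpotent (K := K) d
  have hNφ := Nil_map (K := K) d φ
  have hskew : ∀ c : Par d → K, (Nil d K)ᵀ * (H0 d ω * Xc d c) = -(H0 d ω * Xc d c * Nil d K) := by
    intro c
    rw [← Matrix.mul_assoc, Nil_skew, Matrix.neg_mul, Matrix.mul_assoc, Matrix.mul_assoc,
      Xc_comm]
  apply Nat.card_eq_of_bijective (fun c : SA d φ ω =>
    (⟨H0 d ω * Xc d c.1, (herm_iff d φ ω hd hω hω0 c.1).2 c.2.2, by
      rw [Matrix.det_mul]
      exact (H0_isUnit_det d ω hω0).mul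
        (isUnit_iff_ne_zero.2 ((det_Xc_ne_zero_iff d hd c.1).2 c.2.1)),
      (skew_iff_cay φ (Nil d K) b hφ2 hNil hNφ hb _).1 (hskew c.1)⟩ :
        Forms φ (cay φ (Nil d K) b)))
  constructor
  · intro c c' h
    have h1 : H0 d ω * Xc d c.1 = H0 d ω * Xc d c'.1 := congrArg Subtype.val h
    have h2 : Xc d c.1 = Xc d c'.1 := by
      have := congrArg (fun Y => H0i d ω * Y) h1
      simp only [← Matrix.mul_assoc, H0i_mul_H0 d ω hω0, Matrix.one_mul] at this
      exact this
    apply Subtype.ext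
    rw [← cOf_Xc d hd c.1, h2, cOf_Xc d hd]
  · rintro ⟨H, hH, hHd, hHg⟩
    have hHskew := (skew_iff_cay φ (Nil d K) b hφ2 hNil hNφ hb H).2 hHg
    set X : Matrix (Idx d) (Idx d) K := H0i d ω * H with hX
    have hH0X : H0 d ω * X = H := by
      rw [hX, ← Matrix.mul_assoc, H0_mul_H0i d ω hω0, Matrix.one_mul]
    have h1 : Nil d K * H0i d ω = -(H0i d ω * (Nil d K)ᵀ) := by
      have h2 := congrArg (fun Y => H0i d ω * Y * H0i d ω) (Nil_skew (K := K) d ω)
      simp only [Matrix.mul_neg, Matrix.neg_mul] at h2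
      rw [Matrix.mul_assoc (H0i d ω) ((Nil d K)ᵀ * H0 d ω), Matrix.mul_assoc ((Nil d K)ᵀ),
        H0_mul_H0i d ω hω0, Matrix.mul_one, ← Matrix.mul_assoc (H0i d ω) (H0 d ω),
        H0i_mul_H0 d ω hω0, Matrix.one_mul] at h2
      rw [h2, neg_neg]
    have hXN : X * Nil d K = Nil d K * X := by
      symm
      calc Nil d K * X = (Nil d K * H0i d ω) * H := by rw [hX, Matrix.mul_assoc]
        _ = -(H0i d ω * ((Nil d K)ᵀ * H)) := by rw [h1, Matrix.neg_mul, Matrix.mul_assoc]
        _ = X * Nil d K := by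
            rw [hHskew, Matrix.mul_neg, neg_neg, hX, Matrix.mul_assoc]
    have hXc : Xc d (cOf d X) = X := Xc_cOf d hd X hXN
    have hdet : X.det ≠ 0 := by
      intro h0
      have : H.det = 0 := by rw [← hH0X, Matrix.det_mul, h0, mul_zero]
      rw [this] at hHd
      exact not_isUnit_zero hHd
    refine ⟨⟨cOf d X, ?_, ?_⟩, ?_⟩
    · rw [← det_Xc_ne_zero_iff d hd, hXc]
      exact hdet
    · rw [← herm_iff d φ ω hd hω hω0, hXc, hH0X]
      exact hH
    · apply Subtype.ext
      show H0 d ω * Xc d (cOf d X) = H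
      rw [hXc, hH0X]

universe u v

section lemmaH
variable {K : Type u} [Field K] [Fintype K] {q : ℕ}

/-- the general linear group acts transitively on the invertible hermitian matrices with
stabiliser the unitary group -/
theorem card_GL_eq (hK : Fintype.card K = q ^ 2) (φ : K →+* K) (hφ : ∀ x, φ x = x ^ q)
    (ι : Type v) [Fintype ι] [DecidableEq ι] :
    Nat.card (GL ι K) =
      Nat.card {M : Matrix ι ι K // M.det ≠ 0 ∧ Mᵀ = M.map φ} * Nat.card (UG ι φ) := by
  have h1 := card_cent hK φ hφ (1 : Matrix ι ι K) 1 (le_refl 1) (one_pow 1) 1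
    (by rw [Matrix.transpose_one, Matrix.map_one _ (map_zero φ) (map_one φ)])
    (by rw [Matrix.det_one]; exact isUnit_one)
    (by rw [Matrix.transpose_one, Matrix.map_one _ (map_zero φ) (map_one φ), Matrix.one_mul,
      Matrix.one_mul])
  have h2 : cent (1 : Matrix ι ι K) = ⊤ := by
    ext x
    rw [mem_cent, Matrix.mul_one, Matrix.one_mul]
    simp
  have h3 : isoS φ (1 : Matrix ι ι K) 1 = UG ι φ := by
    ext x
    rw [mem_isoS, mem_UG_iff, Matrix.mul_one, Matrix.one_mul]
    unfold IsU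
    simp
  have h4 : Nat.card (Forms φ (1 : Matrix ι ι K)) =
      Nat.card {M : Matrix ι ι K // M.det ≠ 0 ∧ Mᵀ = M.map φ} := by
    apply Nat.card_congr
    apply Equiv.subtypeEquivRight
    intro M
    rw [Matrix.transpose_one, Matrix.map_one _ (map_zero φ) (map_one φ), Matrix.one_mul,
      Matrix.mul_one, isUnit_iff_ne_zero]
    tauto
  rw [h2, h3, h4, Subgroup.card_top] at h1
  exact h1

end lemmaH

section main
variable {K : Type u} [Field K] [Fintype K] {q : ℕ} {t : ℕ} (d : Fin t → ℕ) (φ : K →+* K)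
  (ω : K)

/-- the order of the unitary centraliser in the model -/
theorem card_isoS_model (hK : Fintype.card K = q ^ 2) (hφ : ∀ x, φ x = x ^ q)
    (hd : ∀ k, 1 ≤ d k) (hω : φ ω = -ω) (hω0 : ω ≠ 0) (b : K) (hb : b + φ b = 1)
    (N : ℕ) (hN : ∀ k, d k ≤ N) :
    Nat.card (isoS φ (H0 d ω) (cay φ (Nil d K) b)) =
      q ^ Nat.card {p : Par d // ¬ PD d p} *
        ∏ s ∈ Finset.range (N + 1), Nat.card (UG {k : Fin t // d k = s} φ) := by
  classical
  have hφ2 : ∀ x, φ (φ x) = x := frob_frob hK φ hφ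
  have hNil := Nil_isNilpotent (K := K) d
  have hNφ := Nil_map (K := K) d φ
  obtain ⟨p, hp⟩ := CharP.exists K
  haveI : Fact p.Prime := ⟨CharP.char_is_prime K p⟩
  obtain ⟨M, hM, hgM⟩ := cay_pow_eq_one φ (Nil d K) b p hNil hb
  have hinv : (cay φ (Nil d K) b)ᵀ * H0 d ω * (cay φ (Nil d K) b).map φ = H0 d ω :=
    (skew_iff_cay φ (Nil d K) b hφ2 hNil hNφ hb _).1 (Nil_skew d ω)
  have h1 := card_cent hK φ hφ (cay φ (Nil d K) b) M hM hgM (H0 d ω) (H0_herm d φ ω hω)
    (H0_isUnit_det d ω hω0) hinv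
  have h2 : Nat.card (cent (cay φ (Nil d K) b)) =
      (∏ s ∈ Finset.range (N + 1), Nat.card (GL {k : Fin t // d k = s} K)) *
        Fintype.card K ^ Nat.card {p : Par d // ¬ PD d p} := by
    rw [← card_params d hd N hN, ← card_centralizer d hd]
    apply Nat.card_congr
    apply Equiv.subtypeEquivRight
    intro x
    rw [mem_cent, comm_cay_iff φ (Nil d K) b hφ2 hNil hb, comm_iff]
  rw [h2, card_forms d φ ω hφ2 hd hω hω0 b hb, card_SA d φ ω hK hφ2 hd hω hω0 b hb N hN, hK]
    at h1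
  have h3 : ∀ s ∈ Finset.range (N + 1), Nat.card (GL {k : Fin t // d k = s} K) =
      Nat.card (HermInv d φ s) * Nat.card (UG {k : Fin t // d k = s} φ) := fun s _ =>
    card_GL_eq hK φ hφ _
  rw [Finset.prod_congr rfl h3, Finset.prod_mul_distrib] at h1
  set A := ∏ s ∈ Finset.range (N + 1), Nat.card (HermInv d φ s) with hA
  set B := ∏ s ∈ Finset.range (N + 1), Nat.card (UG {k : Fin t // d k = s} φ) with hB
  set e := Nat.card {p : Par d // ¬ PD d p} with he
  have hq : 0 < q := by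
    have := two_le_q hK
    omega
  have hApos : 0 < A := by
    apply Finset.prod_pos
    intro s hs
    have h4 := h3 s hs
    have h5 : 0 < Nat.card (GL {k : Fin t // d k = s} K) := Nat.card_pos
    rw [h4] at h5
    exact Nat.pos_of_mul_pos_right h5
  have h6 : A * q ^ e * (q ^ e * B) = A * q ^ e * Nat.card (isoS φ (H0 d ω) (cay φ (Nil d K) b)) := by
    rw [← h1, ← pow_mul, mul_comm 2 e, pow_mul, sq]
    ring
  exact (Nat.eq_of_mul_eq_mul_left (Nat.mul_pos hApos (Nat.pow_pos hq)) h6).symm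

end main

end Cfsg.Agent.Helper13.UCM
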