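import Mathlib
import Cfsg.Agent.Lib.Helper13.FieldAutFixed
import Cfsg.Agent.Lib.Helper11.Unitary2
import Cfsg.Agent.S2672

set_option autoImplicit false
set_option linter.style.haveILetI false
set_option linter.unusedSectionVars false
set_option linter.unusedVariables false

namespace Cfsg.Agent.Helper13.UFA

open Matrix Cfsg.Agent.Helper11.Herm Cfsg.Agent.Helper13.FAut Cfsg.Agent.S2672

section pow
variable {K : Type*} [Field K] {q₀ q r : ℕ}

theorem pow_q_of_pow_sq (hr : Odd r) (hq : q = q₀ ^ r) (x : K) (hx : x ^ (q₀ ^ 2) = x) :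
    x ^ q = x ^ q₀ := by
  obtain ⟨k, rfl⟩ := hr
  have h1 : ∀ j : ℕ, x ^ (q₀ ^ (2 * j)) = x := by
    intro j
    induction j with
    | zero => simp
    | succ j ih =>
      rw [show 2 * (j + 1) = 2 * j + 2 by ring, pow_add, pow_mul, ih, hx]
  rw [hq, pow_succ, pow_mul, h1]

end pow

section main
variable {K : Type*} [Field K] [Fintype K] {F : Type*} [Field F] [Fintype F] {q₀ q r n : ℕ}

/-- the unitary condition transfers along the inclusion of the fixed field -/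
theorem isU_map (φ : K →+* K) (hφ : ∀ x, φ x = x ^ q) (φ₀ : F →+* F) (hφ₀ : ∀ x, φ₀ x = x ^ q₀)
    (ι₀ : F →+* K) (hpow : ∀ a : F, (ι₀ a) ^ q = (ι₀ a) ^ q₀)
    (M : Matrix (Fin n) (Fin n) F) :
    IsU φ (M.map ι₀) ↔ IsU φ₀ M := by
  unfold IsU
  have h1 : (M.map ι₀).map φ = (M.map φ₀).map ι₀ := by
    ext i j
    simp only [Matrix.map_apply]
    rw [hφ, hφ₀, hpow, map_pow]
  have h2 : (M.map ι₀)ᵀ * (M.map ι₀).map φ = (Mᵀ * M.map φ₀).map ι₀ := by
    rw [h1, Matrix.map_mul, Matrix.transpose_map]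
  rw [h2]
  constructor
  · intro h
    apply Matrix.map_injective ι₀.injective
    show (Mᵀ * M.map φ₀).map ι₀ = (1 : Matrix (Fin n) (Fin n) F).map ι₀
    rw [h, Matrix.map_one _ (map_zero ι₀) (map_one ι₀)]
  · intro h
    rw [h, Matrix.map_one _ (map_zero ι₀) (map_one ι₀)]

theorem isU_smul (φ : K →+* K) (u : K) (g : Matrix (Fin n) (Fin n) K) :
    (u • g)ᵀ * (u • g).map φ = (u * φ u) • (gᵀ * g.map φ) := by
  have h1 : (u • g).map φ = φ u • g.map φ := by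
    ext i j
    simp only [Matrix.map_apply, Matrix.smul_apply, smul_eq_mul, map_mul]
  rw [h1, Matrix.transpose_smul, Matrix.smul_mul, Matrix.mul_smul, smul_smul]

theorem pow_hfix (hr : Odd r) (hq : q = q₀ ^ r) (hF : Fintype.card F = q₀ ^ 2) (ι₀ : F →+* K)
    (a : F) : (ι₀ a) ^ q = (ι₀ a) ^ q₀ := by
  apply pow_q_of_pow_sq hr hq
  rw [← map_pow, ← hF, FiniteField.pow_card]

/-- descent: a unitary matrix that `σ` multiplies by a scalar is a unitary scalar times a unitary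
matrix over the fixed field -/
theorem exists_decomp (hr : r.Prime) (hr2 : r ≠ 2) (hn : 1 ≤ n) (hq : q = q₀ ^ r)
    (hK : Fintype.card K = q ^ 2) (hF : Fintype.card F = q₀ ^ 2) (σ : K ≃+* K)
    (hσ : orderOf σ = r)
    (ι₀ : F →+* K) (hfix : ∀ x : K, σ x = x ↔ ∃ a : F, ι₀ a = x)
    (φ : K →+* K) (hφ : ∀ x, φ x = x ^ q) (φ₀ : F →+* F) (hφ₀ : ∀ x, φ₀ x = x ^ q₀)
    (g : Matrix (Fin n) (Fin n) K) (hg : IsU φ g) (c : K) (hc : c ≠ 0)
    (hgc : g.map σ = c • g) :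
    ∃ (z : K) (M₀ : Matrix (Fin n) (Fin n) F), z * φ z = 1 ∧ IsU φ₀ M₀ ∧
      g = z • M₀.map ι₀ := by
  classical
  have hrodd : Odd r := hr.odd_of_ne_two hr2
  have hpow := pow_hfix (K := K) hrodd hq hF ι₀
  have hσφ : ∀ x, σ (φ x) = φ (σ x) := by
    intro x
    rw [hφ, hφ, map_pow]
  set i₀ : Fin n := ⟨0, by omega⟩ with hi₀
  -- c has norm one for φ
  have hcφ : c * φ c = 1 := by
    have h1 : (g.map σ)ᵀ * (g.map σ).map φ = 1 := by
      have h2 : (g.map σ).map φ = (g.map φ).map σ := by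
        ext i j
        simp only [Matrix.map_apply]
        rw [hσφ]
      rw [h2, ← Matrix.transpose_map, ← Matrix.map_mul, hg,
        Matrix.map_one _ (map_zero σ) (map_one σ)]
    rw [hgc, isU_smul, hg] at h1
    have := congrFun (congrFun h1 i₀) i₀
    rw [Matrix.smul_apply, Matrix.one_apply_eq, smul_eq_mul, mul_one] at this
    exact this
  -- nonzero entry
  obtain ⟨a, b, hab⟩ : ∃ a b, g a b ≠ 0 := by
    by_contra hcon
    push Not at hcon
    have : g = 0 := by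
      ext a b
      exact hcon a b
    have h1 := hg
    unfold IsU at h1
    rw [this, Matrix.transpose_zero, Matrix.zero_mul] at h1
    have := congrFun (congrFun h1 i₀) i₀
    rw [Matrix.zero_apply, Matrix.one_apply_eq] at this
    exact zero_ne_one this
  -- the partial norm is one
  have hnorm : pnorm σ c r = 1 := by
    have h1 := pow_apply_eq σ c {x | ∃ i j, x = g i j} (by
      rintro x ⟨i, j, rfl⟩
      have := congrFun (congrFun hgc i) j
      rw [Matrix.map_apply, Matrix.smul_apply, smul_eq_mul] at this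
      exact this) r (g a b) ⟨a, b, rfl⟩
    have h2 : σ ^ r = 1 := by
      rw [← hσ]
      exact pow_orderOf_eq_one σ
    rw [h2] at h1
    have h3 : (1 : K) * g a b = pnorm σ c r * g a b := by
      rw [one_mul]
      exact h1
    exact (mul_right_cancel₀ hab h3).symm
  -- Hilbert 90
  obtain ⟨d, hd0, hd⟩ := hilbert90 σ r hr.pos (by rw [← hσ]; exact pow_orderOf_eq_one σ)
    (by
      intro i hi0 hir h1
      have := orderOf_dvd_of_pow_eq_one h1
      rw [hσ] at this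
      exact absurd (Nat.le_of_dvd hi0 this) (by omega)) c hnorm
  -- y = d φ(d) is fixed by σ
  set y : K := d * φ d with hy
  have hy0 : y ≠ 0 := by
    rw [hy]
    apply mul_ne_zero hd0
    rw [hφ]
    exact pow_ne_zero _ hd0
  have hφφ : ∀ x, φ (φ x) = x := frob_frob hK φ hφ
  have hσy : σ y = y := by
    rw [hy, map_mul, hσφ]
    have h1 : d * φ d = (c * σ d) * φ (c * σ d) := by rw [hd]
    rw [h1, map_mul]
    have : c * σ d * (φ c * φ (σ d)) = (c * φ c) * (σ d * φ (σ d)) := by ring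
    rw [this, hcφ, one_mul]
  obtain ⟨y₀, hy₀⟩ := (hfix y).1 hσy
  have hy₀0 : y₀ ≠ 0 := by
    intro h
    rw [h, map_zero] at hy₀
    exact hy0 hy₀.symm
  have hy₀q : y₀ ^ q₀ = y₀ := by
    apply ι₀.injective
    rw [map_pow, ← hpow, hy₀, ← hφ, hy, map_mul, hφφ, mul_comm]
  obtain ⟨e₀, he₀0, he₀⟩ := exists_norm_eq hF y₀ hy₀0 hy₀q
  set e : K := ι₀ e₀ with he
  have he0 : e ≠ 0 := by
    rw [he]
    intro h
    apply he₀0
    apply ι₀.injective
    rw [h, map_zero]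
  have hσe : σ e = e := (hfix e).2 ⟨e₀, rfl⟩
  have heφ : e * φ e = y := by
    rw [hφ, he, hpow, ← map_pow, ← map_mul, he₀, hy₀]
  set u : K := d * e⁻¹ with hu
  have hu0 : u ≠ 0 := mul_ne_zero hd0 (inv_ne_zero he0)
  have huφ : u * φ u = 1 := by
    rw [hu, map_mul, map_inv₀]
    have : d * e⁻¹ * (φ d * (φ e)⁻¹) = (d * φ d) * (e * φ e)⁻¹ := by
      rw [mul_inv]
      ring
    rw [this, heφ, ← hy, mul_inv_cancel₀ hy0]
  have hσu : σ u * c = u := by
    rw [hu, map_mul, map_inv₀, hσe]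
    have : σ d * e⁻¹ * c = (c * σ d) * e⁻¹ := by ring
    rw [this, hd]
  -- the matrix u • g has entries in the fixed field
  have hent : ∀ i j, ∃ a : F, ι₀ a = u * g i j := by
    intro i j
    apply (hfix _).1
    rw [map_mul]
    have := congrFun (congrFun hgc i) j
    rw [Matrix.map_apply, Matrix.smul_apply, smul_eq_mul] at this
    rw [this, ← mul_assoc, hσu]
  choose m₀ hm₀ using hent
  set M₀ : Matrix (Fin n) (Fin n) F := Matrix.of m₀ with hM₀
  have hM : M₀.map ι₀ = u • g := by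
    ext i j
    rw [Matrix.map_apply, hM₀, Matrix.of_apply, hm₀, Matrix.smul_apply, smul_eq_mul]
  refine ⟨u⁻¹, M₀, ?_, ?_, ?_⟩
  · rw [map_inv₀, ← mul_inv, huφ, inv_one]
  · rw [← isU_map φ hφ φ₀ hφ₀ ι₀ hpow, hM]
    unfold IsU
    rw [isU_smul, huφ, one_smul]
    exact hg
  · rw [hM, smul_smul, inv_mul_cancel₀ hu0, one_smul]

end main

section homs
variable {K : Type*} [Field K] [Fintype K] {F : Type*} [Field F] [Fintype F] {q₀ q r n : ℕ}

theorem scalar_mem (hK : Fintype.card K = q ^ 2) (a : Kˣ) (ha : a ∈ normOne K q) :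
    Matrix.GeneralLinearGroup.scalar (Fin n) a ∈ Cfsg.GU n K q := by
  obtain ⟨φ, hφ⟩ := exists_frob hK
  rw [mem_GU_iff_isU φ hφ]
  have h1 : ((Matrix.GeneralLinearGroup.scalar (Fin n) a : GL (Fin n) K) :
      Matrix (Fin n) (Fin n) K) = Matrix.diagonal (fun _ => (a : K)) := rfl
  rw [h1]
  exact isU_diagonal φ _ (fun _ => mul_frob_of_mem φ hφ a ha)

/-- the scalar part -/
noncomputable def Φ₁ (hK : Fintype.card K = q ^ 2) (n : ℕ) :
    ↥(normOne K q) →* ↥(Cfsg.GU n K q) :=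
  ((Matrix.GeneralLinearGroup.scalar (Fin n)).comp (normOne K q).subtype).codRestrict
    (Cfsg.GU n K q) (fun a => scalar_mem hK a a.2)

theorem coe_Φ₁ (hK : Fintype.card K = q ^ 2) (n : ℕ) (a : ↥(normOne K q)) :
    (((Φ₁ hK n a : ↥(Cfsg.GU n K q)) : GL (Fin n) K) : Matrix (Fin n) (Fin n) K) =
      Matrix.diagonal (fun _ => ((a : Kˣ) : K)) := rfl

theorem map_mem (hr : Odd r) (hq : q = q₀ ^ r) (hK : Fintype.card K = q ^ 2)
    (hF : Fintype.card F = q₀ ^ 2) (ι₀ : F →+* K) (h : GL (Fin n) F)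
    (hh : h ∈ Cfsg.GU n F q₀) :
    Matrix.GeneralLinearGroup.map ι₀ h ∈ Cfsg.GU n K q := by
  obtain ⟨φ, hφ⟩ := exists_frob hK
  obtain ⟨φ₀, hφ₀⟩ := exists_frob hF
  rw [mem_GU_iff_isU φ hφ]
  rw [mem_GU_iff_isU φ₀ hφ₀] at hh
  exact (isU_map φ hφ φ₀ hφ₀ ι₀ (pow_hfix hr hq hF ι₀) _).2 hh

/-- the fixed-field part -/
noncomputable def Φ₂ (hr : Odd r) (hq : q = q₀ ^ r) (hK : Fintype.card K = q ^ 2)
    (hF : Fintype.card F = q₀ ^ 2) (ι₀ : F →+* K) (n : ℕ) :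
    ↥(Cfsg.GU n F q₀) →* ↥(Cfsg.GU n K q) where
  toFun h := ⟨Matrix.GeneralLinearGroup.map ι₀ (h : GL (Fin n) F),
    map_mem hr hq hK hF ι₀ (h : GL (Fin n) F) h.2⟩
  map_one' := by
    apply Subtype.ext
    exact map_one (Matrix.GeneralLinearGroup.map ι₀)
  map_mul' a b := by
    apply Subtype.ext
    exact map_mul (Matrix.GeneralLinearGroup.map ι₀) _ _

theorem coe_Φ₂ (hr : Odd r) (hq : q = q₀ ^ r) (hK : Fintype.card K = q ^ 2)
    (hF : Fintype.card F = q₀ ^ 2) (ι₀ : F →+* K) (n : ℕ) (h : ↥(Cfsg.GU n F q₀)) :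
    (((Φ₂ hr hq hK hF ι₀ n h : ↥(Cfsg.GU n K q)) : GL (Fin n) K) :
      Matrix (Fin n) (Fin n) K) =
      ((h : GL (Fin n) F) : Matrix (Fin n) (Fin n) F).map ι₀ := rfl

theorem Φ_comm (hr : Odd r) (hq : q = q₀ ^ r) (hK : Fintype.card K = q ^ 2)
    (hF : Fintype.card F = q₀ ^ 2) (ι₀ : F →+* K) (n : ℕ) (a : ↥(normOne K q))
    (h : ↥(Cfsg.GU n F q₀)) : Commute (Φ₁ hK n a) (Φ₂ hr hq hK hF ι₀ n h) := by
  apply Subtype.ext
  apply Units.ext
  show (((Φ₁ hK n a : ↥(Cfsg.GU n K q)) : GL (Fin n) K) : Matrix (Fin n) (Fin n) K) *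
      (((Φ₂ hr hq hK hF ι₀ n h : ↥(Cfsg.GU n K q)) : GL (Fin n) K) :
      Matrix (Fin n) (Fin n) K) =
    (((Φ₂ hr hq hK hF ι₀ n h : ↥(Cfsg.GU n K q)) : GL (Fin n) K) :
      Matrix (Fin n) (Fin n) K) *
    (((Φ₁ hK n a : ↥(Cfsg.GU n K q)) : GL (Fin n) K) : Matrix (Fin n) (Fin n) K)
  rw [coe_Φ₁, ← Matrix.smul_eq_diagonal_mul, ← Matrix.smul_eq_mul_diagonal]

/-- the product map -/
noncomputable def Φ (hr : Odd r) (hq : q = q₀ ^ r) (hK : Fintype.card K = q ^ 2)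
    (hF : Fintype.card F = q₀ ^ 2) (ι₀ : F →+* K) (n : ℕ) :
    ↥(normOne K q) × ↥(Cfsg.GU n F q₀) →* ↥(Cfsg.GU n K q) :=
  MonoidHom.noncommCoprod (Φ₁ hK n) (Φ₂ hr hq hK hF ι₀ n) (Φ_comm hr hq hK hF ι₀ n)

theorem coe_Φ (hr : Odd r) (hq : q = q₀ ^ r) (hK : Fintype.card K = q ^ 2)
    (hF : Fintype.card F = q₀ ^ 2) (ι₀ : F →+* K) (n : ℕ)
    (x : ↥(normOne K q) × ↥(Cfsg.GU n F q₀)) :
    (((Φ hr hq hK hF ι₀ n x : ↥(Cfsg.GU n K q)) : GL (Fin n) K) :
      Matrix (Fin n) (Fin n) K) =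
      ((x.1 : Kˣ) : K) • ((x.2 : GL (Fin n) F) : Matrix (Fin n) (Fin n) F).map ι₀ := by
  unfold Φ
  rw [MonoidHom.noncommCoprod_apply]
  show (((Φ₁ hK n x.1 : ↥(Cfsg.GU n K q)) : GL (Fin n) K) : Matrix (Fin n) (Fin n) K) *
      (((Φ₂ hr hq hK hF ι₀ n x.2 : ↥(Cfsg.GU n K q)) : GL (Fin n) K) :
      Matrix (Fin n) (Fin n) K) = _
  rw [coe_Φ₁, coe_Φ₂, ← Matrix.smul_eq_diagonal_mul]

theorem mem_range_Φ (hr : r.Prime) (hr2 : r ≠ 2) (hn : 1 ≤ n) (hq : q = q₀ ^ r)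
    (hK : Fintype.card K = q ^ 2) (hF : Fintype.card F = q₀ ^ 2) (σ : K ≃+* K)
    (hσ : orderOf σ = r)
    (ι₀ : F →+* K) (hfix : ∀ x : K, σ x = x ↔ ∃ a : F, ι₀ a = x)
    (g : ↥(Cfsg.GU n K q)) :
    g ∈ (Φ (hr.odd_of_ne_two hr2) hq hK hF ι₀ n).range ↔
      ∃ c : K, c ≠ 0 ∧ ((g : GL (Fin n) K) : Matrix (Fin n) (Fin n) K).map σ =
        c • ((g : GL (Fin n) K) : Matrix (Fin n) (Fin n) K) := by
  have hrodd := hr.odd_of_ne_two hr2
  obtain ⟨φ, hφ⟩ := exists_frob hK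
  obtain ⟨φ₀, hφ₀⟩ := exists_frob hF
  constructor
  · rintro ⟨x, rfl⟩
    rw [coe_Φ]
    refine ⟨σ ((x.1 : Kˣ) : K) * (((x.1 : Kˣ) : K))⁻¹, ?_, ?_⟩
    · apply mul_ne_zero
      · rw [Ne, map_eq_zero]
        exact Units.ne_zero _
      · exact inv_ne_zero (Units.ne_zero _)
    · ext i j
      simp only [Matrix.map_apply, Matrix.smul_apply, smul_eq_mul, map_mul]
      rw [(hfix _).2 ⟨_, rfl⟩]
      have : ((x.1 : Kˣ) : K) ≠ 0 := Units.ne_zero _
      field_simp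
  · rintro ⟨c, hc, hgc⟩
    have hgU : IsU φ ((g : GL (Fin n) K) : Matrix (Fin n) (Fin n) K) :=
      (mem_GU_iff_isU φ hφ n _).1 g.2
    obtain ⟨z, M₀, hz, hM₀, hgz⟩ := exists_decomp hr hr2 hn hq hK hF σ hσ ι₀ hfix φ hφ φ₀ hφ₀
      _ hgU c hc hgc
    have hz0 : z ≠ 0 := by
      rintro rfl
      rw [zero_mul] at hz
      exact zero_ne_one hz
    have hzmem : Units.mk0 z hz0 ∈ normOne K q := by
      rw [mem_normOne]
      apply Units.ext
      rw [Units.val_pow_eq_pow_val, Units.val_mk0, Units.val_one, pow_succ', ← hφ]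
      exact hz
    have hMmem : Matrix.GeneralLinearGroup.mkOfDetNeZero M₀ (hM₀.det_ne_zero φ₀) ∈
        Cfsg.GU n F q₀ := (mem_GU_iff_isU φ₀ hφ₀ n _).2 hM₀
    refine ⟨(⟨Units.mk0 z hz0, hzmem⟩, ⟨_, hMmem⟩), ?_⟩
    apply Subtype.ext
    apply Units.ext
    rw [coe_Φ, hgz]
    rfl

theorem ker_entries (hr : Odd r) (hq : q = q₀ ^ r) (hK : Fintype.card K = q ^ 2)
    (hF : Fintype.card F = q₀ ^ 2) (ι₀ : F →+* K) (n : ℕ)
    (x : ↥(normOne K q) × ↥(Cfsg.GU n F q₀)) (hx : x ∈ (Φ hr hq hK hF ι₀ n).ker) (i j : Fin n) :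
    ((x.1 : Kˣ) : K) * ι₀ (((x.2 : GL (Fin n) F) : Matrix (Fin n) (Fin n) F) i j) =
      if i = j then 1 else 0 := by
  rw [MonoidHom.mem_ker] at hx
  have h1 : (((Φ hr hq hK hF ι₀ n x : ↥(Cfsg.GU n K q)) : GL (Fin n) K) :
      Matrix (Fin n) (Fin n) K) = 1 := by
    rw [hx]
    rfl
  rw [coe_Φ] at h1
  have := congrFun (congrFun h1 i) j
  rw [Matrix.smul_apply, Matrix.map_apply, smul_eq_mul, Matrix.one_apply] at this
  exact this

theorem card_ker_Φ (hr : Odd r) (hn : 1 ≤ n) (hq : q = q₀ ^ r) (hK : Fintype.card K = q ^ 2)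
    (hF : Fintype.card F = q₀ ^ 2) (ι₀ : F →+* K) :
    Nat.card (Φ hr hq hK hF ι₀ n).ker = q₀ + 1 := by
  classical
  rw [← card_norm_one hF]
  set i₀ : Fin n := ⟨0, by omega⟩ with hi₀
  have hpow := pow_hfix (K := K) hr hq hF ι₀
  have hwd : ∀ x : ↥(normOne K q) × ↥(Cfsg.GU n F q₀), x ∈ (Φ hr hq hK hF ι₀ n).ker →
      ((x.2 : GL (Fin n) F) : Matrix (Fin n) (Fin n) F) i₀ i₀ *
        (((x.2 : GL (Fin n) F) : Matrix (Fin n) (Fin n) F) i₀ i₀) ^ q₀ = 1 := by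
    intro x hx
    have h1 := ker_entries hr hq hK hF ι₀ n x hx i₀ i₀
    rw [if_pos rfl] at h1
    have h2 : ((x.1 : Kˣ) : K) ^ (q + 1) = 1 := by
      have := (mem_normOne (x.1 : Kˣ)).1 x.1.2
      rw [← Units.val_pow_eq_pow_val, this, Units.val_one]
    apply ι₀.injective
    rw [map_mul, map_pow, map_one, ← hpow, ← pow_succ']
    have h3 : (((x.1 : Kˣ) : K) * ι₀ (((x.2 : GL (Fin n) F) : Matrix (Fin n) (Fin n) F) i₀ i₀)) ^
        (q + 1) = 1 := by rw [h1, one_pow]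
    rw [mul_pow, h2, one_mul] at h3
    exact h3
  apply Nat.card_eq_of_bijective
    (fun x : ↥(Φ hr hq hK hF ι₀ n).ker => (⟨_, hwd x.1 x.2⟩ : {x : F // x * x ^ q₀ = 1}))
  constructor
  · rintro ⟨x, hx⟩ ⟨x', hx'⟩ h
    have hw : ((x.2 : GL (Fin n) F) : Matrix (Fin n) (Fin n) F) i₀ i₀ =
        ((x'.2 : GL (Fin n) F) : Matrix (Fin n) (Fin n) F) i₀ i₀ := congrArg Subtype.val h
    have h1 := ker_entries hr hq hK hF ι₀ n x hx
    have h1' := ker_entries hr hq hK hF ι₀ n x' hx'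
    have hz : ((x.1 : Kˣ) : K) = ((x'.1 : Kˣ) : K) := by
      have a1 := h1 i₀ i₀
      have a2 := h1' i₀ i₀
      rw [if_pos rfl] at a1 a2
      rw [← hw] at a2
      have hne : ι₀ (((x.2 : GL (Fin n) F) : Matrix (Fin n) (Fin n) F) i₀ i₀) ≠ 0 := by
        intro h0
        rw [h0, mul_zero] at a1
        exact zero_ne_one a1
      exact mul_right_cancel₀ hne (a1.trans a2.symm)
    have hM : ((x.2 : GL (Fin n) F) : Matrix (Fin n) (Fin n) F) =
        ((x'.2 : GL (Fin n) F) : Matrix (Fin n) (Fin n) F) := by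
      ext i j
      apply ι₀.injective
      have a1 := h1 i j
      have a2 := h1' i j
      rw [← hz] at a2
      exact mul_left_cancel₀ (Units.ne_zero _) (a1.trans a2.symm)
    apply Subtype.ext
    apply Prod.ext
    · apply Subtype.ext
      apply Units.ext
      exact hz
    · apply Subtype.ext
      apply Units.ext
      exact hM
  · rintro ⟨w, hw⟩
    have hw0 : w ≠ 0 := by
      rintro rfl
      rw [zero_mul] at hw
      exact zero_ne_one hw
    have hιw0 : ι₀ w ≠ 0 := by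
      rw [Ne, map_eq_zero]
      exact hw0
    have hιw : (ι₀ w) ^ (q + 1) = 1 := by
      rw [pow_succ', hpow, ← map_pow, ← map_mul, hw, map_one]
    have hzmem : Units.mk0 (ι₀ w)⁻¹ (inv_ne_zero hιw0) ∈ normOne K q := by
      rw [mem_normOne]
      apply Units.ext
      rw [Units.val_pow_eq_pow_val, Units.val_mk0, Units.val_one, inv_pow, hιw, inv_one]
    have hwmem : Units.mk0 w hw0 ∈ normOne F q₀ := by
      rw [mem_normOne]
      apply Units.ext
      rw [Units.val_pow_eq_pow_val, Units.val_mk0, Units.val_one, pow_succ']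
      exact hw
    have hker : ((⟨_, hzmem⟩, ⟨_, scalar_mem hF (n := n) _ hwmem⟩) :
        ↥(normOne K q) × ↥(Cfsg.GU n F q₀)) ∈ (Φ hr hq hK hF ι₀ n).ker := by
      rw [MonoidHom.mem_ker]
      apply Subtype.ext
      apply Units.ext
      rw [coe_Φ]
      ext i j
      show (ι₀ w)⁻¹ • (Matrix.diagonal (fun _ => w)).map ι₀ i j = (1 : Matrix (Fin n) (Fin n) K) i j
      rw [Matrix.map_apply, Matrix.diagonal_apply, Matrix.one_apply, smul_eq_mul]
      by_cases hij : i = j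
      · rw [if_pos hij, if_pos hij, inv_mul_cancel₀ hιw0]
      · rw [if_neg hij, if_neg hij, map_zero, mul_zero]
    refine ⟨⟨_, hker⟩, ?_⟩
    apply Subtype.ext
    show (Matrix.diagonal (fun _ => w)) i₀ i₀ = w
    rw [Matrix.diagonal_apply_eq]

/-- the count of unitary matrices whose image under `σ` is a scalar multiple -/
theorem card_mul (hr : r.Prime) (hr2 : r ≠ 2) (hn : 1 ≤ n) (hq : q = q₀ ^ r)
    (hK : Fintype.card K = q ^ 2) (hF : Fintype.card F = q₀ ^ 2) (σ : K ≃+* K)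
    (hσ : orderOf σ = r)
    (ι₀ : F →+* K) (hfix : ∀ x : K, σ x = x ↔ ∃ a : F, ι₀ a = x) :
    Nat.card {g : ↥(Cfsg.GU n K q) // ∃ c : K, c ≠ 0 ∧
        ((g : GL (Fin n) K) : Matrix (Fin n) (Fin n) K).map σ =
          c • ((g : GL (Fin n) K) : Matrix (Fin n) (Fin n) K)} * (q₀ + 1) =
      (q + 1) * Nat.card ↥(Cfsg.GU n F q₀) := by
  have hrodd := hr.odd_of_ne_two hr2
  have h1 : Nat.card {g : ↥(Cfsg.GU n K q) // ∃ c : K, c ≠ 0 ∧
        ((g : GL (Fin n) K) : Matrix (Fin n) (Fin n) K).map σ =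
          c • ((g : GL (Fin n) K) : Matrix (Fin n) (Fin n) K)} =
      Nat.card (Φ hrodd hq hK hF ι₀ n).range :=
    Nat.card_congr (Equiv.subtypeEquivRight
      (fun g => (mem_range_Φ hr hr2 hn hq hK hF σ hσ ι₀ hfix g).symm))
  have h2 := Subgroup.card_mul_index (Φ hrodd hq hK hF ι₀ n).ker
  rw [Subgroup.index_ker, card_ker_Φ hrodd hn hq hK hF ι₀, Nat.card_prod, card_normOne hK] at h2
  rw [h1, ← h2, mul_comm]

end homs

end Cfsg.Agent.Helper13.UFA
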