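import Mathlib
import Cfsg.Agent.Lib.Helper4.ZNDefs

/-!
# S0518 piece TSTRV (helper4's skeleton; proof by helper13)

The four-groups `V₁, V₂`, the involution `z = [v₁, v₂]` and `D = V₁ ⊔ V₂` inside `T`.
-/

set_option autoImplicit false
open Cfsg

namespace Cfsg.Agent.Helper4.ZN

variable {G : Type*} [Group G]

namespace TSTRV

/-- a duplicate-free list of elements of a finite subgroup is at most as long as the subgroup is big -/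
theorem length_le_card [Finite G] (K : Subgroup G) (l : List G) (hnd : l.Nodup)
    (hl : ∀ y ∈ l, y ∈ K) : l.length ≤ Nat.card K := by
  have hinj : Function.Injective
      (fun i : Fin l.length => (⟨l.get i, hl _ (List.get_mem _ _)⟩ : K)) := by
    intro i j h
    exact (List.Nodup.get_inj_iff hnd).1 (congrArg Subtype.val h)
  have := Nat.card_le_card_of_injective _ hinj
  simpa using this

theorem mem_pair [Finite G] (K : Subgroup G) (hK : Nat.card K ≤ 2) {z : G} (hz : z ∈ K)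
    (hz1 : z ≠ 1) {x : G} (hx : x ∈ K) : x = 1 ∨ x = z := by
  by_contra hc
  push Not at hc
  have := length_le_card K [1, z, x] (by simp [hz1.symm, hc.1.symm, hc.2.symm]) (by
    intro y hy
    simp only [List.mem_cons, List.not_mem_nil, or_false] at hy
    rcases hy with rfl | rfl | rfl
    · exact one_mem K
    · exact hz
    · exact hx)
  simp at this
  omega

theorem mem_four [Finite G] (K : Subgroup G) (hK : Nat.card K ≤ 4) {a b c : G} (ha : a ∈ K)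
    (hb : b ∈ K) (hc : c ∈ K) (ha1 : a ≠ 1) (hb1 : b ≠ 1) (hc1 : c ≠ 1) (hab : a ≠ b)
    (hac : a ≠ c) (hbc : b ≠ c) {x : G} (hx : x ∈ K) : x = 1 ∨ x = a ∨ x = b ∨ x = c := by
  by_contra hcon
  push Not at hcon
  have := length_le_card K [1, a, b, c, x]
    (by simp [ha1.symm, hb1.symm, hc1.symm, hab, hac, hbc, hcon.1.symm, hcon.2.1.symm,
          hcon.2.2.1.symm, hcon.2.2.2.symm]) (by
    intro y hy
    simp only [List.mem_cons, List.not_mem_nil, or_false] at hy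
    rcases hy with rfl | rfl | rfl | rfl | rfl
    · exact one_mem K
    · exact ha
    · exact hb
    · exact hc
    · exact hx)
  simp at this
  omega

/-- a proper subgroup of a group of order 4 has order at most 2 -/
theorem card_le_two_of_lt [Finite G] {K V : Subgroup G} (hKV : K ≤ V) (hne : ¬ V ≤ K)
    (hV : Nat.card V = 4) : Nat.card K ≤ 2 := by
  have hdvd : Nat.card K ∣ 4 := hV ▸ Subgroup.card_dvd_of_le hKV
  have hne4 : Nat.card K ≠ 4 := by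
    intro h
    have : K = V := Subgroup.eq_of_le_of_card_ge hKV (by rw [h, hV])
    exact hne (this ▸ le_refl _)
  have hle : Nat.card K ≤ 4 := Nat.le_of_dvd (by norm_num) hdvd
  have h3 : Nat.card K ≠ 3 := by
    intro h; rw [h] at hdvd; norm_num at hdvd
  omega

/-- elements of `A ⊔ B` are products when `B` normalizes `A` -/
theorem exists_mul_of_mem_sup {A B : Subgroup G} (h : ∀ b ∈ B, ∀ a ∈ A, b * a * b⁻¹ ∈ A) {x : G}
    (hx : x ∈ A ⊔ B) : ∃ a ∈ A, ∃ b ∈ B, x = a * b := by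
  let S : Subgroup G :=
    { carrier := {x | ∃ a ∈ A, ∃ b ∈ B, x = a * b}
      one_mem' := ⟨1, one_mem A, 1, one_mem B, (mul_one 1).symm⟩
      mul_mem' := by
        rintro _ _ ⟨a, ha, b, hb, rfl⟩ ⟨a', ha', b', hb', rfl⟩
        refine ⟨a * (b * a' * b⁻¹), mul_mem ha (h b hb a' ha'), b * b', mul_mem hb hb', ?_⟩
        group
      inv_mem' := by
        rintro _ ⟨a, ha, b, hb, rfl⟩
        refine ⟨b⁻¹ * a⁻¹ * b⁻¹⁻¹, h b⁻¹ (inv_mem hb) a⁻¹ (inv_mem ha), b⁻¹, inv_mem hb, ?_⟩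
        group }
  have hA : A ≤ S := fun a ha => ⟨a, ha, 1, one_mem B, (mul_one a).symm⟩
  have hB : B ≤ S := fun b hb => ⟨1, one_mem A, b, hb, (one_mul b).symm⟩
  exact (sup_le hA hB) hx

end TSTRV

open TSTRV

variable {P₁ P₂ T : Subgroup G} {t₁ t₂ : G} {E₁ E₂ V₁ V₂ : Subgroup G}

/-! ## Piece TSTRV: the four-groups `V₁, V₂`, the involution `z` and `D = V₁ ⊔ V₂` -/

theorem tstr_V [Finite G] (c : Ctx P₁ P₂ T t₁ t₂ E₁ E₂ V₁ V₂) (e : TE T E₁ E₂) :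
    ∃ z : G, TV T t₁ t₂ z E₁ E₂ V₁ V₂ := by
  have hT₁ : T ≤ P₁ := c.syl₁.1
  have hT₂ : T ≤ P₂ := c.syl₂.1
  have hV₁E : V₁ ≤ E₁ := by rw [c.b₁.V_eq]; exact inf_le_left
  have hV₂E : V₂ ≤ E₂ := by rw [c.b₂.V_eq]; exact inf_le_left
  have hV₁T : V₁ ≤ T := hV₁E.trans e.E₁_le
  have hV₂T : V₂ ≤ T := hV₂E.trans e.E₂_le
  -- `t₁ ≠ t₂`
  have ht_ne : t₁ ≠ t₂ := by
    intro h
    apply c.ne
    rw [← c.cT₁, ← c.cT₂, h]
  -- `t_i ∈ Z := E₁ ⊓ E₂`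
  have ht₁T : t₁ ∈ T := e.E₁_le c.b₁.t_E
  have ht₂T : t₂ ∈ T := e.E₂_le c.b₂.t_E
  have ht₁c : ∀ y ∈ T, t₁ * y = y * t₁ := fun y hy => (c.b₁.t_comm y (hT₁ hy)).symm
  have ht₂c : ∀ y ∈ T, t₂ * y = y * t₂ := fun y hy => (c.b₂.t_comm y (hT₂ hy)).symm
  have ht₁Z : t₁ ∈ E₁ ⊓ E₂ := e.center_le t₁ ht₁T ht₁c
  have ht₂Z : t₂ ∈ E₁ ⊓ E₂ := e.center_le t₂ ht₂T ht₂c
  -- `V_i` is not inside `Z`
  have hV₁Z : ¬ V₁ ≤ E₁ ⊓ E₂ := by
    intro h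
    have : V₁ = E₁ ⊓ E₂ := Subgroup.eq_of_le_of_card_ge h (by rw [e.card_inf, c.b₁.card_V])
    exact c.b₁.t_V (this ▸ ht₁Z)
  have hV₂Z : ¬ V₂ ≤ E₁ ⊓ E₂ := by
    intro h
    have : V₂ = E₁ ⊓ E₂ := Subgroup.eq_of_le_of_card_ge h (by rw [e.card_inf, c.b₂.card_V])
    exact c.b₂.t_V (this ▸ ht₂Z)
  obtain ⟨v₁, hv₁, hv₁Z⟩ := SetLike.not_le_iff_exists.1 hV₁Z
  obtain ⟨v₂, hv₂, hv₂Z⟩ := SetLike.not_le_iff_exists.1 hV₂Z
  have hv₁E₂ : v₁ ∉ E₂ := fun h => hv₁Z ⟨hV₁E hv₁, h⟩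
  have hv₂E₁ : v₂ ∉ E₁ := fun h => hv₂Z ⟨h, hV₂E hv₂⟩
  -- the commutator `z`
  obtain ⟨z, hz⟩ : ∃ z, z = v₁ * v₂ * v₁⁻¹ * v₂⁻¹ := ⟨_, rfl⟩
  have hz1 : z ≠ 1 := by
    intro h
    apply e.not_comm v₁ (hV₁E hv₁) v₂ (hV₂E hv₂) hv₁E₂ hv₂E₁
    have : v₁ * v₂ = z * (v₂ * v₁) := by rw [hz]; group
    rw [this, h, one_mul]
  have hzV₁ : z ∈ V₁ := by
    have h1 : v₂ * v₁⁻¹ * v₂⁻¹ ∈ V₁ := c.b₁.V_norm v₂ (hT₁ (hV₂T hv₂)) v₁⁻¹ (inv_mem hv₁)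
    have : z = v₁ * (v₂ * v₁⁻¹ * v₂⁻¹) := by rw [hz]; group
    rw [this]; exact mul_mem hv₁ h1
  have hzV₂ : z ∈ V₂ := by
    have h1 : v₁ * v₂ * v₁⁻¹ ∈ V₂ := c.b₂.V_norm v₁ (hT₂ (hV₁T hv₁)) v₂ hv₂
    rw [hz]; exact mul_mem h1 (inv_mem hv₂)
  have hzZ : z ∈ E₁ ⊓ E₂ := ⟨hV₁E hzV₁, hV₂E hzV₂⟩
  have hzc : ∀ y ∈ T, z * y = y * z := fun y hy => e.inf_central z hzZ y hy
  -- `V_i ⊓ Z = {1, z}`
  have hV₁Zc : Nat.card ↥(V₁ ⊓ (E₁ ⊓ E₂)) ≤ 2 :=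
    card_le_two_of_lt inf_le_left (fun h => hV₁Z (h.trans inf_le_right)) c.b₁.card_V
  have hV₂Zc : Nat.card ↥(V₂ ⊓ (E₁ ⊓ E₂)) ≤ 2 :=
    card_le_two_of_lt inf_le_left (fun h => hV₂Z (h.trans inf_le_right)) c.b₂.card_V
  have hV₁Zp : ∀ x ∈ V₁, x ∈ E₁ ⊓ E₂ → x = 1 ∨ x = z := fun x hx hxZ =>
    mem_pair _ hV₁Zc (⟨hzV₁, hzZ⟩ : z ∈ V₁ ⊓ (E₁ ⊓ E₂)) hz1 ⟨hx, hxZ⟩
  have hV₂Zp : ∀ x ∈ V₂, x ∈ E₁ ⊓ E₂ → x = 1 ∨ x = z := fun x hx hxZ =>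
    mem_pair _ hV₂Zc (⟨hzV₂, hzZ⟩ : z ∈ V₂ ⊓ (E₁ ⊓ E₂)) hz1 ⟨hx, hxZ⟩
  have hVinf : ∀ x ∈ V₁ ⊓ V₂, x = 1 ∨ x = z := fun x hx =>
    hV₁Zp x hx.1 ⟨hV₁E hx.1, hV₂E hx.2⟩
  -- `Z = {1, z, t₁, t₂}`
  have hzt₁ : z ≠ t₁ := fun h => c.b₁.t_V (h ▸ hzV₁)
  have hzt₂ : z ≠ t₂ := fun h => c.b₂.t_V (h ▸ hzV₂)
  have hZeq : ∀ x ∈ E₁ ⊓ E₂, x = 1 ∨ x = z ∨ x = t₁ ∨ x = t₂ := fun x hx =>
    mem_four _ (le_of_eq e.card_inf) hzZ ht₁Z ht₂Z hz1 c.b₁.t_ne c.b₂.t_ne hzt₁ hzt₂ ht_ne hx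
  -- `t₁ t₂ = z`
  have htt : t₁ * t₂ = z := by
    rcases hZeq _ (mul_mem ht₁Z ht₂Z) with h | h | h | h
    · exfalso
      apply ht_ne
      calc t₁ = t₁ * (t₂ * t₂) := by rw [c.b₂.t_sq, mul_one]
        _ = (t₁ * t₂) * t₂ := by group
        _ = t₂ := by rw [h, one_mul]
    · exact h
    · exfalso
      apply c.b₂.t_ne
      calc t₂ = t₁⁻¹ * (t₁ * t₂) := by group
        _ = 1 := by rw [h]; group
    · exfalso
      apply c.b₁.t_ne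
      calc t₁ = (t₁ * t₂) * t₂⁻¹ := by group
        _ = 1 := by rw [h]; group
  -- `D = V₁ ⊔ V₂`
  have hDT : V₁ ⊔ V₂ ≤ T := sup_le hV₁T hV₂T
  have hnorm : ∀ b ∈ V₂, ∀ a ∈ V₁, b * a * b⁻¹ ∈ V₁ := fun b hb a ha =>
    c.b₁.V_norm b (hT₁ (hV₂T hb)) a ha
  have hDE₁ : (V₁ ⊔ V₂) ⊓ E₁ = V₁ := by
    apply le_antisymm
    · rintro x ⟨hxD, hxE⟩
      obtain ⟨a, ha, b, hb, rfl⟩ := exists_mul_of_mem_sup hnorm hxD
      have hbE : b ∈ E₁ := by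
        have : b = a⁻¹ * (a * b) := by group
        rw [this]; exact mul_mem (inv_mem (hV₁E ha)) hxE
      rcases hV₂Zp b hb ⟨hbE, hV₂E hb⟩ with h | h
      · rw [h, mul_one]; exact ha
      · rw [h]; exact mul_mem ha hzV₁
    · exact le_inf le_sup_left hV₁E
  have hDE₂ : (V₁ ⊔ V₂) ⊓ E₂ = V₂ := by
    apply le_antisymm
    · rintro x ⟨hxD, hxE⟩
      obtain ⟨a, ha, b, hb, rfl⟩ := exists_mul_of_mem_sup hnorm hxD
      have haE : a ∈ E₂ := by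
        have : a = (a * b) * b⁻¹ := by group
        rw [this]; exact mul_mem hxE (inv_mem (hV₂E hb))
      rcases hV₁Zp a ha ⟨hV₁E ha, haE⟩ with h | h
      · rw [h, one_mul]; exact hb
      · rw [h]; exact mul_mem hzV₂ hb
    · exact le_inf le_sup_right hV₂E
  have ht₁D : t₁ ∉ V₁ ⊔ V₂ := fun h =>
    c.b₁.t_V (hDE₁ ▸ (⟨h, c.b₁.t_E⟩ : t₁ ∈ (V₁ ⊔ V₂) ⊓ E₁))
  have ht₂D : t₂ ∉ V₁ ⊔ V₂ := fun h =>
    c.b₂.t_V (hDE₂ ▸ (⟨h, c.b₂.t_E⟩ : t₂ ∈ (V₁ ⊔ V₂) ⊓ E₂))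
  -- `|D| = 8`
  have hcardD : Nat.card ↥(V₁ ⊔ V₂) = 8 := by
    have hdvd : Nat.card ↥(V₁ ⊔ V₂) ∣ 16 := e.card_T ▸ Subgroup.card_dvd_of_le hDT
    have hne16 : Nat.card ↥(V₁ ⊔ V₂) ≠ 16 := by
      intro h
      have : V₁ ⊔ V₂ = T := Subgroup.eq_of_le_of_card_ge hDT (by rw [h, e.card_T])
      exact ht₁D (this ▸ ht₁T)
    have hgt : 4 < Nat.card ↥(V₁ ⊔ V₂) := by
      by_contra hle
      push Not at hle
      have : V₁ = V₁ ⊔ V₂ := Subgroup.eq_of_le_of_card_ge le_sup_left (by rw [c.b₁.card_V]; exact hle)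
      have hv₂V₁ : v₂ ∈ V₁ := this ▸ (le_sup_right (a := V₁) hv₂)
      exact hv₂E₁ (hV₁E hv₂V₁)
    have hle : Nat.card ↥(V₁ ⊔ V₂) ≤ 16 := Nat.le_of_dvd (by norm_num) hdvd
    have hpow : Nat.card ↥(V₁ ⊔ V₂) ∣ 2 ^ 4 := by norm_num; exact hdvd
    obtain ⟨k, hk, hk'⟩ := (Nat.dvd_prime_pow Nat.prime_two).1 hpow
    interval_cases k <;> omega
  -- index 2
  have hidx : ((V₁ ⊔ V₂).subgroupOf T).index = 2 := by
    have h1 := Subgroup.card_mul_index ((V₁ ⊔ V₂).subgroupOf T)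
    rw [Nat.card_congr (Subgroup.subgroupOfEquivOfLe hDT).toEquiv, hcardD, e.card_T] at h1
    omega
  have hcover : ∀ x ∈ T, x ∈ V₁ ⊔ V₂ ∨ t₁ * x ∈ V₁ ⊔ V₂ := by
    intro x hx
    by_cases hxD : x ∈ V₁ ⊔ V₂
    · exact Or.inl hxD
    · right
      have := Subgroup.mul_mem_iff_of_index_two hidx (a := (⟨t₁, ht₁T⟩ : T)) (b := ⟨x, hx⟩)
      simp only [Subgroup.mem_subgroupOf] at this
      exact this.2 (iff_of_false ht₁D hxD)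
  refine ⟨z, ?_⟩
  exact
    { t_ne := ht_ne
      z_ne := hz1
      z_V₁ := hzV₁
      z_V₂ := hzV₂
      z_central := hzc
      V_inf := hVinf
      Z_eq := hZeq
      tt := htt
      D_le := hDT
      card_D := hcardD
      D_E₁ := hDE₁
      D_E₂ := hDE₂
      t₁_D := ht₁D
      t₂_D := ht₂D
      D_inv := by
        intro x hxD hx2
        rcases e.inv_cover x (hDT hxD) hx2 with h | h
        · exact Or.inl (hDE₁ ▸ (⟨hxD, h⟩ : x ∈ (V₁ ⊔ V₂) ⊓ E₁))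
        · exact Or.inr (hDE₂ ▸ (⟨hxD, h⟩ : x ∈ (V₁ ⊔ V₂) ⊓ E₂))
      T_cover := hcover
      D_center := by
        intro x hxD hxc
        have hxT : x ∈ T := hDT hxD
        have hxZ : x ∈ E₁ ⊓ E₂ := by
          apply e.center_le x hxT
          intro y hy
          rcases hcover y hy with h | h
          · exact hxc y h
          · have h1 := hxc _ h
            have h2 : x * t₁ = t₁ * x := (ht₁c x hxT).symm
            have hc1 : Commute x t₁ := h2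
            have hc2 : Commute x (t₁ * y) := h1
            have hc3 : Commute x (t₁⁻¹ * (t₁ * y)) := hc1.inv_right.mul_right hc2
            have : t₁⁻¹ * (t₁ * y) = y := by group
            rw [this] at hc3
            exact hc3.eq
        rcases hZeq x hxZ with h | h | h | h
        · exact Or.inl h
        · exact Or.inr h
        · exact absurd (h ▸ hxD) ht₁D
        · exact absurd (h ▸ hxD) ht₂D }

end Cfsg.Agent.Helper4.ZN
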