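import Mathlib
import Cfsg.Agent.Lib.Helper23.ZS4Defs

/-!
# S3222 piece LOCT (core): transport of `Loc` along an embedding whose range is `C_G(f t)`.
-/

set_option autoImplicit false

namespace Cfsg.Agent.Helper23.ZS4

namespace LOCT

variable {H G : Type*} [Group H] [Group G]

theorem mem_cent_iff (f : H →* G) (hf : Function.Injective f) (a x : H) :
    f x ∈ Subgroup.centralizer ({f a} : Set G) ↔ x ∈ Subgroup.centralizer ({a} : Set H) := by
  rw [Subgroup.mem_centralizer_singleton_iff, Subgroup.mem_centralizer_singleton_iff,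
    ← map_mul, ← map_mul]
  exact hf.eq_iff

theorem invol_image (f : H →* G) (hf : Function.Injective f) (t : H)
    (hr : f.range = Subgroup.centralizer ({f t} : Set G)) :
    {x : G | x ∈ Subgroup.centralizer ({f t} : Set G) ∧ orderOf x = 2} =
      f '' {x : H | x ∈ Subgroup.centralizer ({t} : Set H) ∧ orderOf x = 2} := by
  ext x
  constructor
  · rintro ⟨hx, hx2⟩
    rw [← hr] at hx
    obtain ⟨x', rfl⟩ := hx
    refine ⟨x', ⟨?_, ?_⟩, rfl⟩
    · rw [← mem_cent_iff f hf, ← hr]; exact ⟨x', rfl⟩
    · rwa [orderOf_injective f hf] at hx2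
  · rintro ⟨x', ⟨hx', hx2⟩, rfl⟩
    refine ⟨?_, ?_⟩
    · rwa [mem_cent_iff f hf]
    · rwa [orderOf_injective f hf]

theorem class_image (f : H →* G) (hf : Function.Injective f) (t a : H)
    (hr : f.range = Subgroup.centralizer ({f t} : Set G)) :
    {y : G | ∃ c ∈ Subgroup.centralizer ({f t} : Set G), y = c * f a * c⁻¹} =
      f '' {y : H | ∃ c ∈ Subgroup.centralizer ({t} : Set H), y = c * a * c⁻¹} := by
  ext y
  constructor
  · rintro ⟨c, hc, rfl⟩
    have hc' := hc
    rw [← hr] at hc'
    obtain ⟨c', rfl⟩ := hc'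
    refine ⟨c' * a * c'⁻¹, ⟨c', ?_, rfl⟩, ?_⟩
    · rwa [mem_cent_iff f hf] at hc
    · simp
  · rintro ⟨y', ⟨c, hc, rfl⟩, rfl⟩
    refine ⟨f c, ?_, ?_⟩
    · rwa [mem_cent_iff f hf]
    · simp

/-- Transport of `Loc` along an embedding whose range is `C_G(f t)`. -/
theorem map {t z v τ : H} {T : Subgroup H} (L : Loc t z v τ T)
    (f : H →* G) (hf : Function.Injective f)
    (hr : f.range = Subgroup.centralizer ({f t} : Set G))
    (hcard : Nat.card H = 48)
    (hz : Subgroup.centralizer ({f z} : Set G) = T.map f) :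
    Loc (f t) (f z) (f v) (f τ) (T.map f) where
  card_C := by
    rw [← hr, Nat.card_congr (MonoidHom.ofInjective hf).symm.toEquiv, hcard]
  card_T := by
    rw [Subgroup.card_map_of_injective hf, L.card_T]
  T_le := by
    rw [← hr]; exact Subgroup.map_le_range f T
  ht := by rw [orderOf_injective f hf, L.ht]
  tT := Subgroup.mem_map_of_mem f L.tT
  hz := by rw [orderOf_injective f hf, L.hz]
  zT := Subgroup.mem_map_of_mem f L.zT
  cent_z := hz
  z_comm := by
    rw [← Subgroup.map_commutator]
    exact Subgroup.mem_map_of_mem f L.z_comm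
  vT := Subgroup.mem_map_of_mem f L.vT
  v_ne := fun h => L.v_ne (hf h)
  v_conj := by
    obtain ⟨c, hc, h⟩ := L.v_conj
    refine ⟨f c, ?_, ?_⟩
    · rwa [mem_cent_iff f hf]
    · rw [h]; simp
  zv_conj := by
    obtain ⟨c, hc, h⟩ := L.zv_conj
    refine ⟨f c, ?_, ?_⟩
    · rwa [mem_cent_iff f hf]
    · rw [← map_mul, h]; simp
  comm_T := by
    rintro a ⟨a', ha', rfl⟩ b ⟨b', hb', rfl⟩
    rcases L.comm_T a' ha' b' hb' with h | h
    · left
      rw [← map_inv, ← map_inv, ← map_mul, ← map_mul, ← map_mul, h, map_one]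
    · right
      rw [← map_inv, ← map_inv, ← map_mul, ← map_mul, ← map_mul, h]
  center_T := by
    rintro a ⟨a', ha', rfl⟩ hab
    have h' : ∀ b ∈ T, a' * b = b * a' := by
      intro b hb
      apply hf
      rw [map_mul, map_mul]
      exact hab (f b) (Subgroup.mem_map_of_mem f hb)
    rcases L.center_T a' ha' h' with h | h | h | h
    · left; rw [h, map_one]
    · right; left; rw [h]
    · right; right; left; rw [h]
    · right; right; right; rw [h, map_mul]
  hτ := by rw [orderOf_injective f hf, L.hτ]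
  τT := Subgroup.mem_map_of_mem f L.τT
  τv := by
    rw [← map_inv, ← map_mul, ← map_mul, L.τv, map_mul]
  gen_T := by
    rw [← L.gen_T, MonoidHom.map_closure]
    congr 1
    simp [Set.image_insert_eq]
  invol_T := by
    rintro d ⟨d', hd', rfl⟩ hd
    rw [orderOf_injective f hf] at hd
    rcases L.invol_T d' hd' hd with h | h | h | h | h | h | h | h | h | h | h <;>
      simp [h]
  exD := by
    obtain ⟨D, hDT, hD8, htD, hvD, hτD, hD⟩ := L.exD
    refine ⟨D.map f, Subgroup.map_mono hDT, ?_, ?_, Subgroup.mem_map_of_mem f hvD,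
      Subgroup.mem_map_of_mem f hτD, ?_⟩
    · rw [Subgroup.card_map_of_injective hf, hD8]
    · rintro ⟨x, hx, hxt⟩
      rw [hf hxt] at hx
      exact htD hx
    · rintro d ⟨d', hd', rfl⟩ hd
      rw [orderOf_injective f hf] at hd
      rcases hD d' hd' hd with h | h | h | h | h <;> simp [h]
  invol_C := by
    rw [invol_image f hf t hr, Set.ncard_image_of_injective _ hf, L.invol_C]
  class_τ := by
    rw [class_image f hf t τ hr, Set.ncard_image_of_injective _ hf, L.class_τ]
  class_tτ := by
    rw [← map_mul, class_image f hf t (t * τ) hr, Set.ncard_image_of_injective _ hf, L.class_tτ]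

theorem card_W : Nat.card W = 48 := by
  rw [Nat.card_prod, Nat.card_eq_fintype_card, Nat.card_eq_fintype_card, Fintype.card_perm]
  simp [Fintype.card_multiplicative]
  rfl

end LOCT

end Cfsg.Agent.Helper23.ZS4
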