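import Mathlib
import Cfsg.Agent.Lib.Helper23.ZS4Defs
import Cfsg.Agent.Lib.Helper13.ZS4LOCTCore

/-!
# S3222 piece LOCA (core): the hypotheses of S3222 give the local picture, given the model `Loc`.
-/

set_option autoImplicit false

namespace Cfsg.Agent.Helper23.ZS4

namespace LOCA

open scoped Pointwise

/-- The only nontrivial central element of `W = Z₂ × S₄` is `t0`. -/
theorem center_W : ∀ w : W, (∀ x : W, w * x = x * w) → w ≠ 1 → w = t0 := by
  decide +kernel

theorem two_pow_eq {k : ℕ} (h1 : 2 ^ k ∣ 48) (h2 : 16 ∣ 2 ^ k) : 2 ^ k = 16 := by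
  have hk : k ≤ 5 := by
    by_contra h
    push Not at h
    have h6 : 2 ^ 6 ∣ 2 ^ k := pow_dvd_pow 2 h
    have := Nat.le_of_dvd (by norm_num) (h6.trans h1)
    norm_num at this
  interval_cases k <;> omega

variable {G : Type*} [Group G] [Finite G]

theorem card_T (t : G) (T : Sylow 2 G)
    (htc : ∀ s ∈ (T : Subgroup G), s * t = t * s)
    (hC : Nat.card (Subgroup.centralizer ({t} : Set G)) = 48) :
    Nat.card (T : Subgroup G) = 16 := by
  have hTC : (T : Subgroup G) ≤ Subgroup.centralizer ({t} : Set G) := fun s hs =>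
    Subgroup.mem_centralizer_singleton_iff.mpr (htc s hs)
  obtain ⟨k, hk⟩ := (IsPGroup.iff_card.mp T.2)
  have h1 : Nat.card (T : Subgroup G) ∣ 48 := hC ▸ Subgroup.card_dvd_of_le hTC
  have h2 : 2 ^ 4 ∣ Nat.card (T : Subgroup G) := by
    apply Sylow.pow_dvd_card_of_pow_dvd_card
    have : (48 : ℕ) ∣ Nat.card G := hC ▸ Subgroup.card_subgroup_dvd_card _
    exact Dvd.dvd.trans (by norm_num) this
  rw [hk] at h1 h2 ⊢
  exact two_pow_eq h1 h2

theorem cent_comm_eq {H : Type*} [Group H] (f : W →* H)
    (L0 : Loc (G := W) t0 z0 v0 τ0 T0) :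
    Subgroup.centralizer ((⁅T0.map f, T0.map f⁆ : Subgroup H) : Set H) =
      Subgroup.centralizer ({f z0} : Set H) := by
  have hle : ⁅T0, T0⁆ ≤ Subgroup.zpowers z0 := by
    rw [Subgroup.commutator_le]
    intro a ha b hb
    rw [commutatorElement_def]
    rcases L0.comm_T a ha b hb with h | h
    · rw [h]; exact one_mem _
    · rw [h]; exact Subgroup.mem_zpowers z0
  ext x
  rw [Subgroup.mem_centralizer_iff, Subgroup.mem_centralizer_singleton_iff]
  constructor
  · intro h
    have hz : f z0 ∈ ⁅T0.map f, T0.map f⁆ := by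
      rw [← Subgroup.map_commutator]
      exact Subgroup.mem_map_of_mem f L0.z_comm
    exact (h _ hz).symm
  · intro h y hy
    rw [SetLike.mem_coe, ← Subgroup.map_commutator] at hy
    obtain ⟨y', hy', rfl⟩ := hy
    obtain ⟨k, rfl⟩ := Subgroup.mem_zpowers_iff.mp (hle hy')
    rw [map_zpow]
    have hc : Commute x (f z0) := h
    exact (hc.zpow_right k).symm.eq

theorem exists_loc_of (L0 : Loc (G := W) t0 z0 v0 τ0 T0)
    (t : G) (ht : orderOf t = 2)
    (T : Sylow 2 G) (htT : t ∈ (T : Subgroup G)) (htc : ∀ s ∈ (T : Subgroup G), s * t = t * s)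
    (e : ↥(Subgroup.centralizer ({t} : Set G)) ≃* W)
    (h2 : ∀ S : Sylow 2 G, Subgroup.centralizer
      ((⁅(S : Subgroup G), (S : Subgroup G)⁆ : Subgroup G) : Set G) = (S : Subgroup G)) :
    ∃ z v τ : G, Loc t z v τ (T : Subgroup G) := by
  have hC48 : Nat.card (Subgroup.centralizer ({t} : Set G)) = 48 := by
    rw [Nat.card_congr e.toEquiv, LOCT.card_W]
  have hT16 := card_T t T htc hC48
  have hTC : (T : Subgroup G) ≤ Subgroup.centralizer ({t} : Set G) := fun s hs =>
    Subgroup.mem_centralizer_singleton_iff.mpr (htc s hs)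
  have hP0 : Nat.card (((T : Subgroup G).subgroupOf
      (Subgroup.centralizer ({t} : Set G))).map e.toMonoidHom) = 16 := by
    rw [Subgroup.card_map_of_injective e.injective,
      Nat.card_congr (Subgroup.subgroupOfEquivOfLe hTC).toEquiv, hT16]
  have hidx : ∀ P : Subgroup W, Nat.card P = 16 → ¬ 2 ∣ P.index := by
    intro P hP h
    have := P.card_mul_index
    rw [hP, LOCT.card_W] at this
    omega
  obtain ⟨w, hw⟩ := MulAction.exists_smul_eq W
    ((IsPGroup.of_card (n := 4) hP0).toSylow (hidx _ hP0))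
    ((IsPGroup.of_card (n := 4) L0.card_T).toSylow (hidx T0 L0.card_T))
  have hw' : (((T : Subgroup G).subgroupOf
      (Subgroup.centralizer ({t} : Set G))).map e.toMonoidHom).map
        (MulAut.conj w).toMonoidHom = T0 := by
    have := congrArg (fun S : Sylow 2 W => (S : Subgroup W)) hw
    simp only [Sylow.coe_subgroup_smul, IsPGroup.toSylow_coe] at this
    rw [← this]; rfl
  obtain ⟨e', he'T⟩ : ∃ e' : ↥(Subgroup.centralizer ({t} : Set G)) ≃* W,
      ((T : Subgroup G).subgroupOf
        (Subgroup.centralizer ({t} : Set G))).map e'.toMonoidHom = T0 := by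
    refine ⟨e.trans (MulAut.conj w), ?_⟩
    rw [← hw', Subgroup.map_map]; rfl
  clear hw' hw
  have htC : t ∈ Subgroup.centralizer ({t} : Set G) :=
    Subgroup.mem_centralizer_singleton_iff.mpr rfl
  have het : e' ⟨t, htC⟩ = t0 := by
    apply center_W
    · intro x
      obtain ⟨y, rfl⟩ := e'.surjective x
      rw [← map_mul, ← map_mul]
      congr 1
      ext
      exact (Subgroup.mem_centralizer_singleton_iff.mp y.2).symm
    · intro h
      have h1 : (⟨t, htC⟩ : Subgroup.centralizer ({t} : Set G)) = 1 :=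
        e'.injective (h.trans (map_one _).symm)
      have h2 : t = 1 := congrArg Subtype.val h1
      rw [h2, orderOf_one] at ht
      norm_num at ht
  have hf : Function.Injective ((Subgroup.centralizer ({t} : Set G)).subtype.comp
      e'.symm.toMonoidHom) :=
    (Subgroup.subtype_injective _).comp e'.symm.injective
  have hft : ((Subgroup.centralizer ({t} : Set G)).subtype.comp
      e'.symm.toMonoidHom) t0 = t := by
    rw [← het]
    simp
  have hr : ((Subgroup.centralizer ({t} : Set G)).subtype.comp
      e'.symm.toMonoidHom).range =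
      Subgroup.centralizer ({((Subgroup.centralizer ({t} : Set G)).subtype.comp
      e'.symm.toMonoidHom) t0} : Set G) := by
    rw [hft, MonoidHom.range_comp]
    have : e'.symm.toMonoidHom.range = ⊤ :=
      MonoidHom.range_eq_top.mpr e'.symm.surjective
    rw [this, ← MonoidHom.range_eq_map, Subgroup.range_subtype]
  have hTmap : T0.map ((Subgroup.centralizer ({t} : Set G)).subtype.comp
      e'.symm.toMonoidHom) = (T : Subgroup G) := by
    rw [← he'T, Subgroup.map_map]
    have : ((Subgroup.centralizer ({t} : Set G)).subtype.comp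
        e'.symm.toMonoidHom).comp e'.toMonoidHom =
        (Subgroup.centralizer ({t} : Set G)).subtype := by
      ext x
      simp
    rw [this, Subgroup.subgroupOf_map_subtype, inf_eq_left.mpr hTC]
  have hz : Subgroup.centralizer ({((Subgroup.centralizer ({t} : Set G)).subtype.comp
      e'.symm.toMonoidHom) z0} : Set G) =
      T0.map ((Subgroup.centralizer ({t} : Set G)).subtype.comp
      e'.symm.toMonoidHom) := by
    rw [← cent_comm_eq _ L0, hTmap, h2 T]
  have L := LOCT.map L0 _ hf hr LOCT.card_W hz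
  rw [hft, hTmap] at L
  exact ⟨_, _, _, L⟩

end LOCA

end Cfsg.Agent.Helper23.ZS4
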