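import Mathlib
import Cfsg.Agent.Lib.Helper23.ZS4Defs
import Cfsg.Agent.Lib.Helper9.ZS4LOCW
import Cfsg.Agent.Lib.Helper13.ZS4LOCACore

/-!
# S3222 piece LOCA: the hypotheses of S3222 give the local picture.
-/

set_option autoImplicit false

namespace Cfsg.Agent.Helper23.ZS4

/-- PIECE LOCA. -/
theorem exists_loc {G : Type*} [Group G] [Finite G] (t : G) (ht : orderOf t = 2)
    (T : Sylow 2 G) (htT : t ∈ (T : Subgroup G)) (htc : ∀ s ∈ (T : Subgroup G), s * t = t * s)
    (e : ↥(Subgroup.centralizer ({t} : Set G)) ≃* W)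
    (h2 : ∀ S : Sylow 2 G, Subgroup.centralizer
      ((⁅(S : Subgroup G), (S : Subgroup G)⁆ : Subgroup G) : Set G) = (S : Subgroup G)) :
    ∃ z v τ : G, Loc t z v τ (T : Subgroup G) :=
  LOCA.exists_loc_of loc_model t ht T htT htc e h2

end Cfsg.Agent.Helper23.ZS4
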