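import Mathlib
import Cfsg.Agent.Lib.Helper23.ZS4Defs
import Cfsg.Agent.Lib.Helper9.ZS4LOCW
import Cfsg.Agent.Lib.Helper13.ZS4LOCTCore

/-!
# S3222 piece LOCT: transport of the model along an embedding `f : W →* G` with range `C_G(f t0)`.
-/

set_option autoImplicit false

namespace Cfsg.Agent.Helper23.ZS4

/-- PIECE LOCT. -/
theorem loc_of_hom {G : Type*} [Group G] (f : W →* G) (hf : Function.Injective f)
    (hr : f.range = Subgroup.centralizer ({f t0} : Set G))
    (hz : Subgroup.centralizer ({f z0} : Set G) = T0.map f) :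
    Loc (f t0) (f z0) (f v0) (f τ0) (T0.map f) :=
  LOCT.map loc_model f hf hr LOCT.card_W hz

end Cfsg.Agent.Helper23.ZS4
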